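import Mathlib

/-!
# Iterated transfer for Hall subgroups (helper29)

`hall_series_complement`: let `K` be a finite group and `D 0 ≥ D 1 ≥ ...` a sequence of subgroups
with `D r = ⊥`, `D 0` a Hall subgroup, such that whenever `x` and a `K`-conjugate `k⁻¹ x k` both lie
in `D j`, then `x⁻¹ (k⁻¹ x k) ∈ D (j+1)`. Then `D 0` has a normal complement.

Consequences: a nilpotent Hall subgroup controlling its own fusion has a normal complement.
-/

set_option autoImplicit false

namespace Cfsg.Agent.Lib.Helper29

open Subgroup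
open scoped commutatorElement

universe u

section step

variable {K : Type u} [Group K] [Finite K] (H : Subgroup K)
  (hHall : Nat.Coprime (Nat.card H) H.index)

include hHall in
omit [Finite K] in
theorem pow_index_bijective :
    Function.Bijective (fun y : H ⧸ H.focalSubgroupOf => y ^ H.index) := by
  have hdvd : Nat.card (H ⧸ H.focalSubgroupOf) ∣ Nat.card H := by
    rw [← Subgroup.index_eq_card]
    exact Subgroup.index_dvd_card _
  have hcop : Nat.Coprime (Nat.card (H ⧸ H.focalSubgroupOf)) H.index :=
    Nat.Coprime.coprime_dvd_left hdvd hHall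
  have := (powCoprime hcop).bijective
  have e : (fun y : H ⧸ H.focalSubgroupOf => y ^ H.index) = ⇑(powCoprime hcop) := by
    funext y
    rw [powCoprime_apply]
  rw [e]; exact this

include hHall in
theorem transferFocal_surjective' : Function.Surjective H.transferFocal := by
  intro a
  obtain ⟨b, rfl⟩ := (pow_index_bijective H hHall).2 a
  obtain ⟨x, rfl⟩ := QuotientGroup.mk'_surjective _ b
  exact ⟨x, H.transferFocal_eq_pow x⟩

include hHall in
theorem mem_ker_transferFocal_iff (x : K) (hx : x ∈ H) :
    x ∈ H.transferFocal.ker ↔ x ∈ H.focalSubgroup := by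
  rw [MonoidHom.mem_ker]
  have h1 := H.transferFocal_eq_pow ⟨x, hx⟩
  rw [Subtype.coe_mk] at h1
  rw [h1]
  have h2 : ((⟨x, hx⟩ : H) : H ⧸ H.focalSubgroupOf) ^ H.index = 1 ↔
      ((⟨x, hx⟩ : H) : H ⧸ H.focalSubgroupOf) = 1 := by
    constructor
    · intro h
      apply (pow_index_bijective H hHall).1
      change _ ^ H.index = 1 ^ H.index
      rw [h, one_pow]
    · intro h; rw [h, one_pow]
  rw [h2, QuotientGroup.eq_one_iff, Subgroup.focalSubgroupOf_def, Subgroup.mem_subgroupOf]

include hHall in
theorem focalSubgroup_le_ker : H.focalSubgroup ≤ H.transferFocal.ker := by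
  intro x hx
  exact (mem_ker_transferFocal_iff H hHall x (H.focalSubgroup_le hx)).mpr hx

include hHall in
/-- `|ker| * |H| = |K| * |H*|` -/
theorem card_ker_mul_card :
    Nat.card H.transferFocal.ker * Nat.card H = Nat.card K * Nat.card H.focalSubgroup := by
  have h1 := Subgroup.card_mul_index H.transferFocal.ker
  have hrange : H.transferFocal.range = ⊤ :=
    MonoidHom.range_eq_top.mpr (transferFocal_surjective' H hHall)
  rw [Subgroup.index_ker, hrange, Subgroup.card_top] at h1
  have h2 : Nat.card (H ⧸ H.focalSubgroupOf) * Nat.card H.focalSubgroupOf = Nat.card H := by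
    rw [← Subgroup.index_eq_card]
    exact Subgroup.index_mul_card _
  have h3 : Nat.card H.focalSubgroupOf = Nat.card H.focalSubgroup :=
    Nat.card_congr (Subgroup.subgroupOfEquivOfLe H.focalSubgroup_le).toEquiv
  rw [h3] at h2
  calc Nat.card H.transferFocal.ker * Nat.card H
      = Nat.card H.transferFocal.ker *
          (Nat.card (H ⧸ H.focalSubgroupOf) * Nat.card H.focalSubgroup) := by rw [h2]
    _ = (Nat.card H.transferFocal.ker * Nat.card (H ⧸ H.focalSubgroupOf)) *
          Nat.card H.focalSubgroup := by ring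
    _ = Nat.card K * Nat.card H.focalSubgroup := by rw [h1]

end step

/-- a normal Hall subgroup contains every element whose order divides its order -/
theorem mem_of_pow_card_eq_one {K : Type*} [Group K] [Finite K] (M : Subgroup K) [M.Normal]
    (hM : Nat.Coprime (Nat.card M) M.index) (z : K) (hz : z ^ Nat.card M = 1) : z ∈ M := by
  rw [← QuotientGroup.eq_one_iff]
  have h1 : (z : K ⧸ M) ^ Nat.card M = 1 := by
    rw [← QuotientGroup.mk_pow, hz, QuotientGroup.mk_one]
  have h2 : (z : K ⧸ M) ^ M.index = 1 := by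
    rw [Subgroup.index_eq_card]
    exact pow_card_eq_one'
  have h3 := pow_gcd_eq_one.mpr ⟨h1, h2⟩
  rw [Nat.Coprime.gcd_eq_one hM, pow_one] at h3
  exact h3

theorem hall_series_complement : ∀ (r : ℕ) (K : Type u) [Group K] [Finite K]
    (D : ℕ → Subgroup K), D r = ⊥ → Nat.Coprime (Nat.card (D 0)) (D 0).index →
    (∀ j, ∀ x ∈ D j, ∀ k : K, k⁻¹ * x * k ∈ D j → x⁻¹ * (k⁻¹ * x * k) ∈ D (j + 1)) →
    ∃ M : Subgroup K, M.Normal ∧ M.IsComplement' (D 0) := by
  intro r
  induction r with
  | zero =>
    intro K _ _ D h0 _ _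
    refine ⟨⊤, inferInstance, ?_⟩
    rw [h0]
    exact Subgroup.isComplement'_top_bot
  | succ r ih =>
    intro K _ _ D hr hHall hfus
    set H := D 0 with hH
    -- the focal subgroup is inside `D 1`
    have hF1 : H.focalSubgroup ≤ D 1 := by
      rw [Subgroup.focalSubgroup_def, Subgroup.closure_le]
      rintro g ⟨hgH, x, hxH, u, rfl⟩
      have h1 : (u⁻¹)⁻¹ * x⁻¹ * u⁻¹ ∈ D 0 := by
        have e : (u⁻¹)⁻¹ * x⁻¹ * u⁻¹ = x⁻¹ * ⁅x, u⁆ := by
          rw [commutatorElement_def]; group
        rw [e]
        exact H.mul_mem (H.inv_mem hxH) hgH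
      have h2 := hfus 0 x⁻¹ (H.inv_mem hxH) u⁻¹ h1
      have e : (x⁻¹)⁻¹ * ((u⁻¹)⁻¹ * x⁻¹ * u⁻¹) = ⁅x, u⁆ := by
        rw [commutatorElement_def]; group
      rw [e] at h2
      exact h2
    set F := H.focalSubgroup with hF
    set K' := H.transferFocal.ker with hK'
    have hFK' : F ≤ K' := focalSubgroup_le_ker H hHall
    have hFH : F ≤ H := H.focalSubgroup_le
    -- the new series
    let D' : ℕ → Subgroup K' := fun j => (D (j + 1) ⊓ F).subgroupOf K'
    have hD'0 : D' 0 = F.subgroupOf K' := by
      change (D (0 + 1) ⊓ F).subgroupOf K' = F.subgroupOf K'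
      rw [zero_add, inf_eq_right.mpr hF1]
    have hD'r : D' r = ⊥ := by
      change (D (r + 1) ⊓ F).subgroupOf K' = ⊥
      rw [hr, bot_inf_eq, Subgroup.bot_subgroupOf]
    have hcardF' : Nat.card (F.subgroupOf K') = Nat.card F :=
      Nat.card_congr (Subgroup.subgroupOfEquivOfLe hFK').toEquiv
    have hcm := card_ker_mul_card H hHall
    rw [← hK', ← hF] at hcm
    have hHpos : 0 < Nat.card H := Nat.card_pos
    have hFpos : 0 < Nat.card F := Nat.card_pos
    -- index of `F` in `K'` is `m = |K : H|`
    have hidxF : (F.subgroupOf K').index = H.index := by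
      have h1 := Subgroup.index_mul_card (F.subgroupOf K')
      rw [hcardF'] at h1
      have h2 := Subgroup.index_mul_card H
      -- idx * |F| = |K'| ;  H.index * |H| = |K|
      have h3 : (F.subgroupOf K').index * Nat.card F * Nat.card H =
          H.index * Nat.card F * Nat.card H := by
        calc (F.subgroupOf K').index * Nat.card F * Nat.card H
            = Nat.card K' * Nat.card H := by rw [h1]
          _ = Nat.card K * Nat.card F := hcm
          _ = H.index * Nat.card H * Nat.card F := by rw [h2]
          _ = H.index * Nat.card F * Nat.card H := by ring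
      have h4 := Nat.eq_of_mul_eq_mul_right hHpos h3
      exact Nat.eq_of_mul_eq_mul_right hFpos h4
    have hFdvd : Nat.card F ∣ Nat.card H := Subgroup.card_dvd_of_le hFH
    have hHall' : Nat.Coprime (Nat.card (D' 0)) (D' 0).index := by
      rw [hD'0, hcardF', hidxF]
      exact Nat.Coprime.coprime_dvd_left hFdvd hHall
    have hfus' : ∀ j, ∀ x ∈ D' j, ∀ k : K', k⁻¹ * x * k ∈ D' j →
        x⁻¹ * (k⁻¹ * x * k) ∈ D' (j + 1) := by
      intro j x hx k hxk
      change x ∈ (D (j + 1) ⊓ F).subgroupOf K' at hx
      change k⁻¹ * x * k ∈ (D (j + 1) ⊓ F).subgroupOf K' at hxk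
      change x⁻¹ * (k⁻¹ * x * k) ∈ (D (j + 1 + 1) ⊓ F).subgroupOf K'
      rw [Subgroup.mem_subgroupOf] at hx hxk ⊢
      obtain ⟨hx1, hx2⟩ := hx
      obtain ⟨hxk1, hxk2⟩ := hxk
      refine ⟨?_, ?_⟩
      · have := hfus (j + 1) (x : K) hx1 (k : K) (by simpa using hxk1)
        simpa using this
      · have := F.mul_mem (F.inv_mem hx2) hxk2
        simpa using this
    obtain ⟨M', hM'n, hM'c⟩ := ih K' D' hD'r hHall' hfus'
    rw [hD'0] at hM'c
    -- cardinalities
    have hcardM' : Nat.card M' = H.index := by
      rw [← hidxF]; exact hM'c.index_eq_card.symm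
    have hM'idx : M'.index = Nat.card F := by
      rw [← hcardF']; exact hM'c.symm.index_eq_card
    have hM'hall : Nat.Coprime (Nat.card M') M'.index := by
      rw [hcardM', hM'idx]
      exact (Nat.Coprime.coprime_dvd_left hFdvd hHall).symm
    let M : Subgroup K := M'.map K'.subtype
    have hcardM : Nat.card M = H.index := by
      rw [← hcardM']
      exact Subgroup.card_map_of_injective K'.subtype_injective
    have hMn : M.Normal := by
      constructor
      intro y hy k
      obtain ⟨y', hy', rfl⟩ := Subgroup.mem_map.mp hy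
      have hK'n : K'.Normal := by rw [hK']; infer_instance
      have hz : k * (K'.subtype y') * k⁻¹ ∈ K' := hK'n.conj_mem _ y'.2 k
      refine Subgroup.mem_map.mpr ⟨⟨_, hz⟩, ?_, rfl⟩
      apply mem_of_pow_card_eq_one M' hM'hall
      apply Subtype.ext
      have h1 : y' ^ Nat.card M' = 1 := by
        have := pow_card_eq_one' (G := M') (x := ⟨y', hy'⟩)
        exact congrArg Subtype.val this
      have h2 : (K'.subtype y') ^ Nat.card M' = 1 := by
        rw [← map_pow, h1, map_one]
      rw [Subgroup.coe_pow, Subgroup.coe_one]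
      change (k * (K'.subtype y') * k⁻¹) ^ Nat.card M' = 1
      rw [conj_pow, h2]
      group
    refine ⟨M, hMn, ?_⟩
    apply Subgroup.isComplement'_of_coprime
    · rw [hcardM]; exact Subgroup.index_mul_card H
    · rw [hcardM]; exact hHall.symm

/-- **A nilpotent Hall subgroup that controls its own fusion has a normal complement.** -/
theorem exists_normal_complement_of_control_fusion {G : Type u} [Group G] [Finite G]
    (H : Subgroup G) (hnil : Group.IsNilpotent H) (hHall : Nat.Coprime (Nat.card H) H.index)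
    (hfus : ∀ x ∈ H, ∀ g : G, g⁻¹ * x * g ∈ H → ∃ h ∈ H, h⁻¹ * x * h = g⁻¹ * x * g) :
    ∃ N : Subgroup G, N.Normal ∧ N.IsComplement' H := by
  obtain ⟨r, hr⟩ := (Subgroup.isNilpotent_iff_lowerCentralSeries H).mp hnil
  have key := hall_series_complement r G H.lowerCentralSeries hr hHall (by
    intro j x hx k hxk
    have hle : H.lowerCentralSeries j ≤ H := by
      have := H.lowerCentralSeries_antitone (Nat.zero_le j)
      rwa [Subgroup.lowerCentralSeries_zero] at this
    obtain ⟨h, hh, hhx⟩ := hfus x (hle hx) k (hle hxk)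
    rw [← hhx, Subgroup.lowerCentralSeries_succ]
    have e : x⁻¹ * (h⁻¹ * x * h) = ⁅x⁻¹, h⁻¹⁆ := by
      rw [commutatorElement_def]; group
    rw [e]
    exact Subgroup.commutator_mem_commutator (Subgroup.inv_mem _ hx) (H.inv_mem hh))
  rw [Subgroup.lowerCentralSeries_zero] at key
  exact key

end Cfsg.Agent.Lib.Helper29
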