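import Mathlib
import Cfsg.Agent.Lib.Helper29.HallTransfer

/-!
# Frobenius' normal `p`-complement theorem (helper29)

`FrobCond p G`: for every `p`-subgroup `Q`, the elements of `N_G(Q)` of order prime to `p`
centralize `Q`.  Main results: `FrobCond.exists_normal_complement` (every Sylow `p`-subgroup then has
a normal complement; proof after Isaacs FGT 5.26: two Sylow subgroups are conjugate by an element
centralizing their intersection, hence `P` controls its own fusion, then iterated transfer),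
`frobCond_of_normal_complement` (converse), `frobCond_of_sylow` (enough to test subgroups of one
Sylow subgroup).
-/

set_option autoImplicit false

namespace Cfsg.Agent.Lib.Helper29

open Subgroup
open scoped Pointwise

universe u

/-- The Frobenius condition: in the normalizer of any `p`-subgroup, elements of order prime to `p`
centralize it. -/
def FrobCond (p : ℕ) (G : Type u) [Group G] : Prop :=
  ∀ Q : Subgroup G, IsPGroup p Q → ∀ g ∈ normalizer (Q : Set G), (orderOf g).Coprime p →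
    g ∈ centralizer (Q : Set G)

theorem mem_smul_sylow_iff {G : Type u} [Group G] {p : ℕ} (g x : G) (P : Sylow p G) :
    x ∈ (g • P : Sylow p G) ↔ g⁻¹ * x * g ∈ P := by
  change x ∈ MulAut.conj g • (P : Subgroup G) ↔ _
  rw [Subgroup.mem_pointwise_smul_iff_inv_smul_mem]
  simp [MulAut.smul_def]
  rfl

/-- card of a strictly smaller subgroup -/
theorem card_lt_card_of_lt' {G : Type u} [Group G] [Finite G] {H K : Subgroup G} (h : H < K) :
    Nat.card H < Nat.card K := by
  have hle := Subgroup.card_le_of_le h.le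
  refine lt_of_le_of_ne hle (fun he => ?_)
  have : (H : Set G) = K := Set.eq_of_subset_of_ncard_le h.le (by
    rw [← Nat.card_coe_set_eq, ← Nat.card_coe_set_eq]; exact he.ge) (Set.toFinite _)
  exact h.ne (SetLike.coe_injective this)

variable {G : Type u} [Group G] [Finite G] {p : ℕ} [Fact p.Prime]

theorem FrobCond.exists_pow_mem_centralizer (hF : FrobCond p G) (D : Subgroup G)
    (hD : IsPGroup p D) (n : G) (hn : n ∈ normalizer (D : Set G)) :
    ∃ e : ℕ, n ^ (p ^ e) ∈ centralizer (D : Set G) := by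
  have hp : p.Prime := Fact.out
  obtain ⟨e, m, hm, ho⟩ := Nat.exists_eq_pow_mul_and_not_dvd (orderOf_pos n).ne' p hp.ne_one
  refine ⟨e, hF D hD _ (Subgroup.pow_mem _ hn _) ?_⟩
  have hdvd : p ^ e ∣ orderOf n := ⟨m, ho⟩
  rw [orderOf_pow_of_dvd (pow_ne_zero _ hp.ne_zero) hdvd, ho,
    Nat.mul_div_cancel_left _ (pow_pos hp.pos _)]
  exact ((Nat.Prime.coprime_iff_not_dvd hp).mpr hm).symm

theorem FrobCond.exists_mul_inv_mem_centralizer (hF : FrobCond p G) (D : Subgroup G)
    (hD : IsPGroup p D) (R : Sylow p (normalizer (D : Set G))) (n : normalizer (D : Set G)) :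
    ∃ r ∈ R, ((n * r⁻¹ : normalizer (D : Set G)) : G) ∈ centralizer (D : Set G) := by
  set φ := D.normalizerMonoidHom with hφ
  have hker : φ.ker = (centralizer (D : Set G)).subgroupOf (normalizer (D : Set G)) :=
    D.normalizerMonoidHom_ker
  have hpr : IsPGroup p φ.range := by
    rintro ⟨a, n', rfl⟩
    obtain ⟨e, he⟩ := hF.exists_pow_mem_centralizer D hD (n' : G) n'.2
    refine ⟨e, Subtype.ext ?_⟩
    have : n' ^ p ^ e ∈ φ.ker := by
      rw [hker, Subgroup.mem_subgroupOf]; exact he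
    show (φ n') ^ p ^ e = 1
    rw [← map_pow]
    exact this
  have hf : Function.Surjective φ.rangeRestrict := φ.rangeRestrict_surjective
  have hS : ((R.mapSurjective hf : Sylow p φ.range) : Subgroup φ.range) = ⊤ :=
    ((R.mapSurjective hf).3 (hpr.to_subgroup ⊤) le_top).symm
  have hn : φ.rangeRestrict n ∈ ((R.mapSurjective hf : Sylow p φ.range) : Subgroup φ.range) := by
    rw [hS]; exact Subgroup.mem_top _
  rw [Sylow.coe_mapSurjective] at hn
  obtain ⟨r, hr, hrn⟩ := Subgroup.mem_map.mp hn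
  refine ⟨r, hr, ?_⟩
  have h1 : φ r = φ n := by
    have := congrArg Subtype.val hrn
    simpa using this
  have h2 : n * r⁻¹ ∈ φ.ker := by
    rw [MonoidHom.mem_ker, map_mul, map_inv, h1, mul_inv_cancel]
  rw [hker, Subgroup.mem_subgroupOf] at h2
  exact h2


/-- Any two `p`-subgroups of `N_G(D)` lie in Sylow subgroups of `G` conjugate under `C_G(D)`. -/
theorem FrobCond.exists_sylow_conj (hF : FrobCond p G) (D : Subgroup G) (hD : IsPGroup p D)
    (A₁ A₂ : Subgroup G) (h₁ : IsPGroup p A₁) (h₂ : IsPGroup p A₂)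
    (hA₁ : A₁ ≤ normalizer (D : Set G)) (hA₂ : A₂ ≤ normalizer (D : Set G)) :
    ∃ (T : Sylow p G) (c : G), c ∈ centralizer (D : Set G) ∧ A₁ ≤ (T : Subgroup G) ∧
      A₂ ≤ ((c • T : Sylow p G) : Subgroup G) := by
  obtain ⟨R, hR⟩ := (h₁.comap_subtype (K := normalizer (D : Set G))).exists_le_sylow
  obtain ⟨R', hR'⟩ := (h₂.comap_subtype (K := normalizer (D : Set G))).exists_le_sylow
  obtain ⟨n, hn⟩ := MulAction.exists_smul_eq (normalizer (D : Set G)) R R'
  obtain ⟨r, hr, hc⟩ := hF.exists_mul_inv_mem_centralizer D hD R n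
  have hrR : r⁻¹ • R = R :=
    Sylow.smul_eq_iff_mem_normalizer.mpr (Subgroup.le_normalizer (Subgroup.inv_mem _ hr))
  have hcR : (n * r⁻¹) • R = R' := by rw [mul_smul, hrR, hn]
  obtain ⟨T, hT⟩ := (R.2.map (normalizer (D : Set G)).subtype).exists_le_sylow
  refine ⟨T, ((n * r⁻¹ : normalizer (D : Set G)) : G), hc, ?_, ?_⟩
  · intro a ha
    apply hT
    have : (⟨a, hA₁ ha⟩ : normalizer (D : Set G)) ∈ (R : Subgroup _) := hR (by
      rw [Subgroup.mem_comap]; exact ha)
    exact Subgroup.mem_map_of_mem _ this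
  · intro a ha
    have h1 : (⟨a, hA₂ ha⟩ : normalizer (D : Set G)) ∈ (R' : Subgroup _) := hR' (by
      rw [Subgroup.mem_comap]; exact ha)
    rw [← hcR] at h1
    have h2 := (mem_smul_sylow_iff _ _ _).mp h1
    have h3 := hT (Subgroup.mem_map_of_mem (normalizer (D : Set G)).subtype h2)
    exact (mem_smul_sylow_iff _ _ _).mpr h3

/-- In a Sylow subgroup (a `p`-group), normalizers grow. -/
theorem exists_mem_normalizer_not_mem (S : Sylow p G) (D : Subgroup G) (hlt : D < (S : Subgroup G)) :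
    ∃ s ∈ S, s ∈ normalizer (D : Set G) ∧ s ∉ D := by
  have hnil : Group.IsNilpotent (S : Subgroup G) := S.2.isNilpotent
  have hNC := Group.normalizerCondition_of_isNilpotent (G := (S : Subgroup G))
  have hlt' : D.subgroupOf (S : Subgroup G) < ⊤ := by
    rw [lt_top_iff_ne_top, Ne, Subgroup.subgroupOf_eq_top]
    exact not_le_of_gt hlt
  obtain ⟨s, hs, hsD⟩ := SetLike.exists_of_lt (hNC _ hlt')
  refine ⟨s, s.2, ?_, fun h => hsD (Subgroup.mem_subgroupOf.mpr h)⟩
  apply Subgroup.mem_normalizer_fintype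
  intro d hd
  have hdS : d ∈ (S : Subgroup G) := hlt.le hd
  have := ((Subgroup.mem_normalizer_iff.mp hs) ⟨d, hdS⟩).mp (Subgroup.mem_subgroupOf.mpr hd)
  exact Subgroup.mem_subgroupOf.mp this


/-- Under the Frobenius condition, any two Sylow `p`-subgroups are conjugate by an element
centralizing their intersection. -/
theorem FrobCond.sylow_conj_centralizer_inf (hF : FrobCond p G) :
    ∀ (m : ℕ) (S₁ S₂ : Sylow p G),
      Nat.card G - Nat.card ((S₁ : Subgroup G) ⊓ (S₂ : Subgroup G) : Subgroup G) = m →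
      ∃ x ∈ centralizer ((((S₁ : Subgroup G) ⊓ (S₂ : Subgroup G) : Subgroup G)) : Set G),
        x • S₁ = S₂ := by
  intro m
  induction m using Nat.strong_induction_on with
  | _ m ih =>
  intro S₁ S₂ hm
  set D : Subgroup G := (S₁ : Subgroup G) ⊓ (S₂ : Subgroup G) with hDdef
  have hDp : IsPGroup p D := S₁.2.to_le inf_le_left
  by_cases hD : D = (S₁ : Subgroup G)
  · refine ⟨1, Subgroup.one_mem _, ?_⟩
    rw [one_smul]
    have hle : (S₁ : Subgroup G) ≤ S₂ := by rw [← hD]; exact inf_le_right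
    exact Sylow.ext (S₁.3 S₂.2 hle).symm
  · have hlt₁ : D < (S₁ : Subgroup G) := lt_of_le_of_ne inf_le_left hD
    have hD₂ : D ≠ (S₂ : Subgroup G) := by
      intro h2
      have hle : (S₂ : Subgroup G) ≤ S₁ := by rw [← h2]; exact inf_le_left
      have : (S₁ : Subgroup G) = S₂ := S₂.3 S₁.2 hle
      apply hD
      rw [hDdef, this, inf_idem]
    have hlt₂ : D < (S₂ : Subgroup G) := lt_of_le_of_ne inf_le_right hD₂
    obtain ⟨s₁, hs₁S, hs₁N, hs₁D⟩ := exists_mem_normalizer_not_mem S₁ D hlt₁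
    obtain ⟨s₂, hs₂S, hs₂N, hs₂D⟩ := exists_mem_normalizer_not_mem S₂ D hlt₂
    obtain ⟨T, c, hc, hA₁, hA₂⟩ := hF.exists_sylow_conj D hDp
      ((S₁ : Subgroup G) ⊓ normalizer (D : Set G)) ((S₂ : Subgroup G) ⊓ normalizer (D : Set G))
      (S₁.2.to_le inf_le_left) (S₂.2.to_le inf_le_left) inf_le_right inf_le_right
    have hDN : D ≤ normalizer (D : Set G) := Subgroup.le_normalizer
    -- first application of the induction hypothesis
    have hlt₃ : D < (S₁ : Subgroup G) ⊓ (T : Subgroup G) := by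
      refine lt_of_le_of_ne (le_inf inf_le_left (fun d hd => hA₁ ⟨hlt₁.le hd, hDN hd⟩)) ?_
      intro he
      apply hs₁D
      rw [he]
      exact ⟨hs₁S, hA₁ ⟨hs₁S, hs₁N⟩⟩
    have hc₃ := card_lt_card_of_lt' hlt₃
    have hb₃ := Subgroup.card_le_card_group ((S₁ : Subgroup G) ⊓ (T : Subgroup G))
    obtain ⟨y, hy, hyS⟩ := ih _ (by omega) S₁ T rfl
    have hyD : y ∈ centralizer (D : Set G) := Subgroup.centralizer_le hlt₃.le hy
    -- second application
    have hlt₄ : D < ((c • T : Sylow p G) : Subgroup G) ⊓ (S₂ : Subgroup G) := by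
      refine lt_of_le_of_ne (le_inf (fun d hd => hA₂ ⟨hlt₂.le hd, hDN hd⟩) inf_le_right) ?_
      intro he
      apply hs₂D
      rw [he]
      exact ⟨hA₂ ⟨hs₂S, hs₂N⟩, hs₂S⟩
    have hc₄ := card_lt_card_of_lt' hlt₄
    have hb₄ := Subgroup.card_le_card_group
      (((c • T : Sylow p G) : Subgroup G) ⊓ (S₂ : Subgroup G))
    obtain ⟨z, hz, hzS⟩ := ih _ (by omega) (c • T) S₂ rfl
    have hzD : z ∈ centralizer (D : Set G) := Subgroup.centralizer_le hlt₄.le hz
    refine ⟨z * c * y, Subgroup.mul_mem _ (Subgroup.mul_mem _ hzD hc) hyD, ?_⟩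
    rw [mul_smul, mul_smul, hyS, hzS]

/-- Under the Frobenius condition a Sylow `p`-subgroup controls its own fusion. -/
theorem FrobCond.control_fusion (hF : FrobCond p G) (P : Sylow p G) :
    ∀ x ∈ (P : Subgroup G), ∀ g : G, g⁻¹ * x * g ∈ (P : Subgroup G) →
      ∃ h ∈ (P : Subgroup G), h⁻¹ * x * h = g⁻¹ * x * g := by
  intro x hx g hxg
  obtain ⟨c, hc, hcP⟩ := hF.sylow_conj_centralizer_inf _ P (g • P) rfl
  have hxg' : x ∈ ((g • P : Sylow p G) : Subgroup G) := (mem_smul_sylow_iff g x P).mpr hxg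
  have hcx : x * c = c * x := (Subgroup.mem_centralizer_iff.mp hc) x ⟨hx, hxg'⟩
  -- `n = c⁻¹ g` normalizes `P`
  have hn : (c⁻¹ * g) ∈ normalizer ((P : Subgroup G) : Set G) := by
    have : (c⁻¹ * g) • P = P := by
      rw [mul_smul, ← hcP, inv_smul_smul]
    exact Sylow.smul_eq_iff_mem_normalizer.mp this
  obtain ⟨r, hr, hcr⟩ := hF.exists_mul_inv_mem_centralizer (P : Subgroup G) P.2
    (P.subtype Subgroup.le_normalizer) ⟨c⁻¹ * g, hn⟩
  have hrP : (r : G) ∈ (P : Subgroup G) := by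
    have h' : r ∈ ((P.subtype Subgroup.le_normalizer : Sylow p _) : Subgroup _) := hr
    rw [Sylow.coe_subtype, Subgroup.mem_subgroupOf] at h'
    exact h'
  refine ⟨r, hrP, ?_⟩
  have hcx' : x * (c⁻¹ * g * (r : G)⁻¹) = (c⁻¹ * g * (r : G)⁻¹) * x :=
    (Subgroup.mem_centralizer_iff.mp hcr) x hx
  -- g = c * (c⁻¹ g r⁻¹) * r
  have hg : g = c * (c⁻¹ * g * (r : G)⁻¹) * r := by group
  set c' := c⁻¹ * g * (r : G)⁻¹ with hc'
  rw [hg]
  have e1 : (c * c' * (r : G))⁻¹ * x * (c * c' * (r : G))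
      = (r : G)⁻¹ * (c'⁻¹ * (c⁻¹ * (x * c) * c')) * r := by group
  rw [e1, hcx]
  have e2 : c⁻¹ * (c * x) * c' = x * c' := by group
  rw [e2, hcx']
  group

/-- **Frobenius' normal `p`-complement theorem** (hard direction). -/
theorem FrobCond.exists_normal_complement (hF : FrobCond p G) (P : Sylow p G) :
    ∃ N : Subgroup G, N.Normal ∧ N.IsComplement' (P : Subgroup G) :=
  exists_normal_complement_of_control_fusion (P : Subgroup G) P.2.isNilpotent
    P.card_coprime_index (hF.control_fusion P)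


/-- Elements of order prime to `p` lie in a normal `p`-complement. -/
theorem mem_normal_complement_of_coprime (P : Sylow p G) (N : Subgroup G) [N.Normal]
    (hN : N.IsComplement' (P : Subgroup G)) (g : G) (hg : (orderOf g).Coprime p) : g ∈ N := by
  rw [← QuotientGroup.eq_one_iff]
  obtain ⟨k, hk⟩ := IsPGroup.iff_card.mp P.2
  have h1 : (g : G ⧸ N) ^ orderOf g = 1 := by
    rw [← QuotientGroup.mk_pow, pow_orderOf_eq_one, QuotientGroup.mk_one]
  have h2 : (g : G ⧸ N) ^ p ^ k = 1 := by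
    rw [← hk, ← hN.symm.index_eq_card, Subgroup.index_eq_card]
    exact pow_card_eq_one'
  have h3 := pow_gcd_eq_one.mpr ⟨h1, h2⟩
  rw [Nat.Coprime.gcd_eq_one (Nat.Coprime.pow_right k hg), pow_one] at h3
  exact h3

/-- A `p`-element of a normal `p`-complement is trivial. -/
theorem eq_one_of_mem_normal_complement (P : Sylow p G) (N : Subgroup G)
    (hN : N.IsComplement' (P : Subgroup G)) (x : G) (hxN : x ∈ N) (k : ℕ) (hx : x ^ p ^ k = 1) :
    x = 1 := by
  have hp : p.Prime := Fact.out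
  have h1 : orderOf x ∣ Nat.card N := Subgroup.orderOf_dvd_natCard N hxN
  have h2 : orderOf x ∣ p ^ k := orderOf_dvd_of_pow_eq_one hx
  have hcop : Nat.Coprime (Nat.card N) (p ^ k) := by
    rw [← hN.index_eq_card]
    exact Nat.Coprime.pow_right k ((Nat.Prime.coprime_iff_not_dvd hp).mpr P.not_dvd_index).symm
  have := Nat.eq_one_of_dvd_coprimes hcop h1 h2
  exact orderOf_eq_one_iff.mp this

/-- A group with a normal `p`-complement satisfies the Frobenius condition. -/
theorem frobCond_of_normal_complement (P : Sylow p G) (N : Subgroup G) [hNn : N.Normal]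
    (hN : N.IsComplement' (P : Subgroup G)) : FrobCond p G := by
  intro Q hQ g hg hcop
  have hgN : g ∈ N := mem_normal_complement_of_coprime P N hN g hcop
  rw [Subgroup.mem_centralizer_iff]
  intro x hx
  have hxQ : x ∈ Q := hx
  have h1 : g * x * g⁻¹ ∈ Q := (Subgroup.mem_normalizer_iff.mp hg x).mp hxQ
  have h2 : g * x * g⁻¹ * x⁻¹ ∈ Q := Q.mul_mem h1 (Q.inv_mem hxQ)
  have h3 : g * x * g⁻¹ * x⁻¹ ∈ N := by
    have : x * g⁻¹ * x⁻¹ ∈ N := hNn.conj_mem _ (N.inv_mem hgN) x
    have h4 := N.mul_mem hgN this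
    have e : g * (x * g⁻¹ * x⁻¹) = g * x * g⁻¹ * x⁻¹ := by group
    rwa [e] at h4
  obtain ⟨k, hk⟩ := hQ ⟨_, h2⟩
  have hk' : (g * x * g⁻¹ * x⁻¹) ^ p ^ k = 1 := by
    have := congrArg Subtype.val hk
    simpa using this
  have h5 := eq_one_of_mem_normal_complement P N hN _ h3 k hk'
  have : g * x = x * g := by
    have e : g * x = (g * x * g⁻¹ * x⁻¹) * (x * g) := by group
    rw [e, h5, one_mul]
  exact this.symm

/-- The Frobenius condition need only be checked on subgroups of a fixed Sylow subgroup. -/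
theorem frobCond_of_sylow (P : Sylow p G)
    (h : ∀ Q : Subgroup G, Q ≤ (P : Subgroup G) → ∀ g ∈ normalizer (Q : Set G),
      (orderOf g).Coprime p → g ∈ centralizer (Q : Set G)) : FrobCond p G := by
  intro Q' hQ' g hg hcop
  obtain ⟨S, hS⟩ := hQ'.exists_le_sylow
  obtain ⟨t, ht⟩ := MulAction.exists_smul_eq G S P
  -- `Q = t Q' t⁻¹`
  set Q : Subgroup G := Q'.comap (MulAut.conj t⁻¹).toMonoidHom with hQdef
  have hmemQ : ∀ y, y ∈ Q ↔ t⁻¹ * y * t ∈ Q' := by
    intro y
    rw [hQdef, Subgroup.mem_comap]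
    simp
  have hQP : Q ≤ (P : Subgroup G) := by
    intro y hy
    rw [← ht]
    exact (mem_smul_sylow_iff t y S).mpr (hS ((hmemQ y).mp hy))
  have hgn : t * g * t⁻¹ ∈ normalizer (Q : Set G) := by
    rw [Subgroup.mem_normalizer_iff]
    intro y
    rw [hmemQ, hmemQ]
    have e : t⁻¹ * (t * g * t⁻¹ * y * (t * g * t⁻¹)⁻¹) * t = g * (t⁻¹ * y * t) * g⁻¹ := by group
    rw [e]
    exact Subgroup.mem_normalizer_iff.mp hg _
  have hord : orderOf (t * g * t⁻¹) = orderOf g := by
    have := (MulAut.conj t).orderOf_eq g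
    rwa [MulAut.conj_apply] at this
  have hcen := h Q hQP _ hgn (by rw [hord]; exact hcop)
  rw [Subgroup.mem_centralizer_iff] at hcen ⊢
  intro x hx
  have hxQ : t * x * t⁻¹ ∈ Q := by
    rw [hmemQ]
    have e : t⁻¹ * (t * x * t⁻¹) * t = x := by group
    rw [e]; exact hx
  have h6 := hcen _ hxQ
  have e1 : x * g = t⁻¹ * (t * x * t⁻¹ * (t * g * t⁻¹)) * t := by group
  have e2 : g * x = t⁻¹ * (t * g * t⁻¹ * (t * x * t⁻¹)) * t := by group
  rw [e1, e2, h6]

end Cfsg.Agent.Lib.Helper29
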