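import Mathlib
import Cfsg.Agent.Lib.Helper29.Frobenius

/-!
# Minimal non-`p`-nilpotent groups (helper29)

Built on `Frobenius.lean`.  `FrobCond p G` is equivalent to the existence of a normal
`p`-complement (`frobCond_iff`).  Main results:
* `FrobCond.subgroup`: inherited by subgroups;
* `frobCond_of_isNilpotent`: nilpotent groups satisfy it for every prime;
* `exists_normal_pgroup_sup_zpowers_of_minimal`: a group that is not `p`-nilpotent but all of whose
  proper subgroups are is `Q ⋊ ⟨g⟩` with `Q` a normal `p`-subgroup, `g` a `p'`-element not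
  centralizing `Q`;
* `isNilpotent_of_frobCond_of_normal_sylow`: structure of subgroups of such a group.
-/

set_option autoImplicit false

namespace Cfsg.Agent.Lib.Helper29

open Subgroup
open scoped commutatorElement

universe u

variable {G : Type u} [Group G] [Finite G] {p : ℕ} [Fact p.Prime]

theorem frobCond_iff : FrobCond p G ↔
    ∃ (P : Sylow p G) (N : Subgroup G), N.Normal ∧ N.IsComplement' (P : Subgroup G) := by
  constructor
  · intro h
    obtain ⟨N, hNn, hN⟩ := h.exists_normal_complement (default : Sylow p G)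
    exact ⟨default, N, hNn, hN⟩
  · rintro ⟨P, N, hNn, hN⟩
    exact frobCond_of_normal_complement P N hN

omit [Finite G] [Fact p.Prime] in
/-- The Frobenius condition passes to subgroups. -/
theorem FrobCond.subgroup (hF : FrobCond p G) (H : Subgroup G) : FrobCond p H := by
  intro Q hQ g hg hcop
  have hgn : (g : G) ∈ normalizer ((Q.map H.subtype : Subgroup G) : Set G) := by
    rw [Subgroup.mem_normalizer_iff]
    intro n
    constructor
    · intro hn
      obtain ⟨q, hq, rfl⟩ := Subgroup.mem_map.mp hn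
      have h1 : g * q * g⁻¹ ∈ Q := (Subgroup.mem_normalizer_iff.mp hg q).mp hq
      exact Subgroup.mem_map.mpr ⟨g * q * g⁻¹, h1, by simp⟩
    · intro hn
      obtain ⟨q, hq, hqe⟩ := Subgroup.mem_map.mp hn
      have h1 : g⁻¹ * q * g ∈ Q := by
        have := (Subgroup.mem_normalizer_iff.mp hg (g⁻¹ * q * g)).mpr (by
          have e : g * (g⁻¹ * q * g) * g⁻¹ = q := by group
          rw [e]; exact hq)
        exact this
      refine Subgroup.mem_map.mpr ⟨g⁻¹ * q * g, h1, ?_⟩
      have : (H.subtype q : G) = (g : G) * n * (g : G)⁻¹ := hqe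
      simp only [Subgroup.coe_subtype, Subgroup.coe_mul, Subgroup.coe_inv] at this ⊢
      rw [this]; group
  have hcen := hF (Q.map H.subtype) (hQ.map _) (g : G) hgn (by
    rw [Subgroup.orderOf_coe]; exact hcop)
  rw [Subgroup.mem_centralizer_iff] at hcen ⊢
  intro q hq
  have := hcen (q : G) (Subgroup.mem_map_of_mem H.subtype hq)
  exact Subtype.ext (by simpa using this)

/-- every `p`-subgroup lies in a normal Sylow `p`-subgroup -/
theorem le_of_isPGroup_of_normal_sylow (P : Sylow p G) [hP : (P : Subgroup G).Normal]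
    (A : Subgroup G) (hA : IsPGroup p A) : A ≤ (P : Subgroup G) := by
  obtain ⟨S, hS⟩ := hA.exists_le_sylow
  obtain ⟨t, ht⟩ := MulAction.exists_smul_eq G P S
  rw [Sylow.smul_eq_of_normal] at ht
  rw [ht]; exact hS

omit [Finite G] [Fact p.Prime] in
/-- If `C` is normal of `p`-power index, it contains all elements of order prime to `p`. -/
theorem mem_of_coprime_of_index_pow (C : Subgroup G) [C.Normal] (k : ℕ) (hC : C.index = p ^ k)
    (g : G) (hg : (orderOf g).Coprime p) : g ∈ C := by
  rw [← QuotientGroup.eq_one_iff]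
  have h1 : (g : G ⧸ C) ^ orderOf g = 1 := by
    rw [← QuotientGroup.mk_pow, pow_orderOf_eq_one, QuotientGroup.mk_one]
  have h2 : (g : G ⧸ C) ^ p ^ k = 1 := by
    rw [← hC, Subgroup.index_eq_card]
    exact pow_card_eq_one'
  have h3 := pow_gcd_eq_one.mpr ⟨h1, h2⟩
  rw [Nat.Coprime.gcd_eq_one (Nat.Coprime.pow_right k hg), pow_one] at h3
  exact h3

/-- A finite nilpotent group satisfies the Frobenius condition (for every prime). -/
theorem frobCond_of_isNilpotent (hG : Group.IsNilpotent G) : FrobCond p G := by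
  have hp : p.Prime := Fact.out
  have hSyl := ((Group.isNilpotent_of_finite_tfae (G := G)).out 0 3).mp hG
  obtain ⟨P⟩ : Nonempty (Sylow p G) := inferInstance
  have hPn : (P : Subgroup G).Normal := hSyl p inferInstance P
  -- the centralizer of `P` has `p`-power index
  have hidx : ∃ k, (centralizer ((P : Subgroup G) : Set G)).index = p ^ k := by
    refine ⟨_, Nat.eq_prime_pow_of_unique_prime_dvd Subgroup.index_ne_zero_of_finite ?_⟩
    intro r hr hrd
    by_contra hne
    have : Fact r.Prime := ⟨hr⟩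
    obtain ⟨R⟩ : Nonempty (Sylow r G) := inferInstance
    have hRn : (R : Subgroup G).Normal := hSyl r inferInstance R
    have hdis : Disjoint (R : Subgroup G) (P : Subgroup G) :=
      IsPGroup.disjoint_of_ne r p hne _ _ R.2 P.2
    have hle : (R : Subgroup G) ≤ centralizer ((P : Subgroup G) : Set G) := by
      intro x hx
      rw [Subgroup.mem_centralizer_iff]
      intro y hy
      exact (Subgroup.commute_of_normal_of_disjoint _ _ hRn hPn hdis x y hx hy).eq.symm
    exact R.not_dvd_index (hrd.trans (Subgroup.index_dvd_of_le hle))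
  obtain ⟨k, hk⟩ := hidx
  intro Q hQ g _ hcop
  have hgC : g ∈ centralizer ((P : Subgroup G) : Set G) :=
    mem_of_coprime_of_index_pow _ k hk g hcop
  exact Subgroup.centralizer_le (le_of_isPGroup_of_normal_sylow P Q hQ) hgC

omit [Finite G] [Fact p.Prime] in
/-- **Minimal non-`p`-nilpotent groups** are `Q ⋊ ⟨g⟩`. -/
theorem exists_normal_pgroup_sup_zpowers_of_minimal (h1 : ¬ FrobCond p G)
    (h2 : ∀ H : Subgroup G, H ≠ ⊤ → FrobCond p H) :
    ∃ (Q : Subgroup G) (g : G), Q.Normal ∧ IsPGroup p Q ∧ (orderOf g).Coprime p ∧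
      Q ⊔ zpowers g = ⊤ ∧ g ∉ centralizer (Q : Set G) := by
  unfold FrobCond at h1
  push Not at h1
  obtain ⟨Q, hQ, g, hg, hcop, hgc⟩ := h1
  have hM : Q ⊔ zpowers g = ⊤ := by
    by_contra hne
    have hF := h2 _ hne
    have hQM : Q ≤ Q ⊔ zpowers g := le_sup_left
    have hgM : g ∈ Q ⊔ zpowers g := le_sup_right (α := Subgroup G) (Subgroup.mem_zpowers g)
    have hgn : (⟨g, hgM⟩ : (Q ⊔ zpowers g : Subgroup G)) ∈
        normalizer ((Q.subgroupOf (Q ⊔ zpowers g) : Subgroup _) : Set _) := by
      rw [Subgroup.mem_normalizer_iff]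
      intro y
      rw [Subgroup.mem_subgroupOf, Subgroup.mem_subgroupOf]
      exact Subgroup.mem_normalizer_iff.mp hg y
    have hcen := hF (Q.subgroupOf (Q ⊔ zpowers g)) hQ.comap_subtype ⟨g, hgM⟩ hgn (by
      rw [← Subgroup.orderOf_coe]; exact hcop)
    apply hgc
    rw [Subgroup.mem_centralizer_iff] at hcen ⊢
    intro x hx
    have := hcen ⟨x, hQM hx⟩ (by rw [SetLike.mem_coe, Subgroup.mem_subgroupOf]; exact hx)
    exact congrArg Subtype.val this
  refine ⟨Q, g, ?_, hQ, hcop, hM, hgc⟩
  rw [← Subgroup.normalizer_eq_top_iff, eq_top_iff, ← hM]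
  exact sup_le Subgroup.le_normalizer ((Subgroup.zpowers_le).mpr hg)

omit [Finite G] in
/-- In `G = Q ⟨g⟩` (`Q` normal), the index of `Q` divides the order of `g`. -/
theorem index_dvd_orderOf_of_sup_zpowers (Q : Subgroup G) [Q.Normal] (g : G)
    (h : Q ⊔ zpowers g = ⊤) : Q.index ∣ orderOf g := by
  rw [← Subgroup.relIndex_top_right, ← h, Subgroup.relIndex_sup_left, ← Nat.card_zpowers]
  exact Subgroup.relIndex_dvd_card _ _


/-- Let `Q` be a normal Sylow `p`-subgroup of `G` with `G / Q` abelian.  Every subgroup of `G` with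
a normal `p`-complement is nilpotent. -/
theorem isNilpotent_of_frobCond_of_normal_sylow (Q : Subgroup G) [hQn : Q.Normal]
    (hQ : IsPGroup p Q) (hidx : ¬ p ∣ Q.index) (hab : commutator G ≤ Q)
    (H : Subgroup G) (hF : FrobCond p H) : Group.IsNilpotent H := by
  obtain ⟨PH⟩ : Nonempty (Sylow p H) := inferInstance
  obtain ⟨K, hKn, hK⟩ := hF.exists_normal_complement PH
  have hQS : ((hQ.toSylow hidx : Sylow p G) : Subgroup G).Normal := by
    rw [IsPGroup.toSylow_coe]; exact hQn
  -- `PH ≤ Q ∩ H`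
  have hPHQ : ∀ s ∈ (PH : Subgroup H), (s : G) ∈ Q := by
    intro s hs
    have h1 : ((PH : Subgroup H).map H.subtype) ≤ ((hQ.toSylow hidx : Sylow p G) : Subgroup G) :=
      le_of_isPGroup_of_normal_sylow (hQ.toSylow hidx) _ (PH.2.map _)
    exact h1 (Subgroup.mem_map_of_mem H.subtype hs)
  have hQHn : (Q.subgroupOf H).Normal := inferInstance
  -- `K ∩ Q = 1`
  have hdis : Disjoint K (Q.subgroupOf H) := by
    rw [Subgroup.disjoint_def]
    intro x hxK hxQ
    obtain ⟨k, hk⟩ := hQ ⟨(x : G), hxQ⟩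
    have hk' : x ^ p ^ k = 1 := by
      have := congrArg Subtype.val hk
      exact Subtype.ext (by simpa using this)
    exact eq_one_of_mem_normal_complement PH K hK x hxK k hk'
  -- `K` is abelian
  have hKab : ∀ a ∈ K, ∀ b ∈ K, a * b = b * a := by
    intro a ha b hb
    have h1 : a * b * a⁻¹ * b⁻¹ ∈ K :=
      K.mul_mem (K.mul_mem (K.mul_mem ha hb) (K.inv_mem ha)) (K.inv_mem hb)
    have h2 : a * b * a⁻¹ * b⁻¹ ∈ Q.subgroupOf H := by
      rw [Subgroup.mem_subgroupOf]
      apply hab
      have : ((a * b * a⁻¹ * b⁻¹ : H) : G) = ⁅(a : G), (b : G)⁆ := by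
        rw [commutatorElement_def]; simp
      rw [this, _root_.commutator_def]
      exact Subgroup.commutator_mem_commutator (Subgroup.mem_top _) (Subgroup.mem_top _)
    have h3 : a * b * a⁻¹ * b⁻¹ = 1 := Subgroup.disjoint_def.mp hdis h1 h2
    have e : a * b = (a * b * a⁻¹ * b⁻¹) * (b * a) := by group
    rw [e, h3, one_mul]
  -- `K` is central
  have hKZ : K ≤ center H := by
    intro k₀ hk₀
    rw [Subgroup.mem_center_iff]
    intro h
    obtain ⟨⟨⟨k, hk⟩, ⟨s, hs⟩⟩, hks⟩ := hK.2 h
    have hks' : k * s = h := hks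
    have hsQ : s ∈ Q.subgroupOf H := by
      rw [Subgroup.mem_subgroupOf]; exact hPHQ s hs
    have hc : k₀ * s = s * k₀ :=
      (Subgroup.commute_of_normal_of_disjoint _ _ hKn hQHn hdis k₀ s hk₀ hsQ).eq
    rw [← hks']
    calc k * s * k₀ = k * (s * k₀) := by group
      _ = k * (k₀ * s) := by rw [hc]
      _ = (k * k₀) * s := by group
      _ = (k₀ * k) * s := by rw [hKab k hk k₀ hk₀]
      _ = k₀ * (k * s) := by group
  -- `H / K` is a `p`-group
  have hHK : IsPGroup p (H ⧸ K) := by
    obtain ⟨k, hk⟩ := IsPGroup.iff_card.mp PH.2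
    apply IsPGroup.of_card (n := k)
    rw [← Subgroup.index_eq_card, hK.symm.index_eq_card, hk]
  have : Group.IsNilpotent (H ⧸ K) := hHK.isNilpotent
  apply Subgroup.isNilpotent_of_ker_le_center (QuotientGroup.mk' K)
  rw [QuotientGroup.ker_mk']
  exact hKZ

end Cfsg.Agent.Lib.Helper29
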