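import Mathlib
import Cfsg.Agent.Lib.Helper29.MinNonPNilpotent

/-!
# Prime-power-order refinements (helper29)

* `exists_prime_pow_order_not_mem`: an element of finite order outside a subgroup `C` has a power of
  prime-power order outside `C`.
* `exists_normal_pgroup_sup_zpowers_of_minimal'`: minimal non-`p`-nilpotent groups are `Q ⋊ ⟨g⟩` with
  `g` of prime-power order.
* `commute_of_isNilpotent_of_coprime`: in a finite nilpotent group a `q`-element commutes with every
  element of order prime to `q`.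
-/

set_option autoImplicit false

namespace Cfsg.Agent.Lib.Helper29

open Subgroup

universe u

theorem exists_prime_pow_order_not_mem {G : Type u} [Group G] [Finite G] (C : Subgroup G) :
    ∀ (n : ℕ) (g : G), orderOf g = n → g ∉ C →
      ∃ g' ∈ zpowers g, g' ∉ C ∧ ∃ r k : ℕ, r.Prime ∧ orderOf g' = r ^ k := by
  intro n
  induction n using Nat.strong_induction_on with
  | _ n ih =>
  intro g hgn hgC
  have ho1 : orderOf g ≠ 1 := by
    intro h
    rw [orderOf_eq_one_iff] at h
    rw [h] at hgC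
    exact hgC (Subgroup.one_mem _)
  obtain ⟨r, hr, hrd⟩ := Nat.exists_prime_and_dvd ho1
  obtain ⟨k, m, hm, ho⟩ := Nat.exists_eq_pow_mul_and_not_dvd (orderOf_pos g).ne' r hr.ne_one
  by_cases hm1 : m = 1
  · refine ⟨g, Subgroup.mem_zpowers g, hgC, r, k, hr, ?_⟩
    rw [ho, hm1, mul_one]
  · -- coprime splitting
    have hcop : Nat.Coprime (r ^ k) m := Nat.Coprime.pow_left k ((Nat.Prime.coprime_iff_not_dvd hr).mpr hm)
    have hk : k ≠ 0 := by
      intro h0
      rw [h0, pow_zero, one_mul] at ho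
      exact hm (ho ▸ hrd)
    have hrk1 : 1 < r ^ k := Nat.one_lt_pow hk hr.one_lt
    have hmpos : 0 < m := by
      rcases Nat.eq_zero_or_pos m with h | h
      · rw [h, mul_zero] at ho
        exact absurd ho (orderOf_pos g).ne'
      · exact h
    have ho2 : orderOf (g ^ m) = r ^ k := by
      rw [orderOf_pow_of_dvd hmpos.ne' ⟨r ^ k, by rw [ho, mul_comm]⟩, ho,
        Nat.mul_div_cancel _ hmpos]
    have ho1' : orderOf (g ^ (r ^ k)) = m := by
      rw [orderOf_pow_of_dvd (by positivity) ⟨m, ho⟩, ho, Nat.mul_div_cancel_left _ (by positivity)]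
    by_cases h2 : g ^ m ∈ C
    · have h1 : g ^ (r ^ k) ∉ C := by
        intro h1
        apply hgC
        -- Bezout
        have hb := Int.gcd_eq_gcd_ab (r ^ k : ℕ) m
        rw [Int.gcd_natCast_natCast, Nat.Coprime.gcd_eq_one hcop] at hb
        have : g = (g ^ (r ^ k)) ^ (Int.gcdA (r ^ k : ℕ) m) * (g ^ m) ^ (Int.gcdB (r ^ k : ℕ) m) := by
          rw [← zpow_natCast g (r ^ k), ← zpow_natCast g m, ← zpow_mul, ← zpow_mul, ← zpow_add,
            ← hb]
          simp
        rw [this]
        exact C.mul_mem (C.zpow_mem h1 _) (C.zpow_mem h2 _)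
      have hlt : m < n := by
        rw [← hgn, ho]
        calc m = 1 * m := (one_mul m).symm
          _ < r ^ k * m := Nat.mul_lt_mul_of_pos_right hrk1 hmpos
      obtain ⟨g', hg', hg'C, hpp⟩ := ih m hlt (g ^ (r ^ k)) ho1' h1
      refine ⟨g', ?_, hg'C, hpp⟩
      exact (Subgroup.zpowers_le.mpr (Subgroup.pow_mem _ (Subgroup.mem_zpowers g) _)) hg'
    · exact ⟨g ^ m, Subgroup.pow_mem _ (Subgroup.mem_zpowers g) _, h2, r, k, hr, ho2⟩


/-- **Minimal non-`p`-nilpotent groups** are `Q ⋊ ⟨g⟩` with `g` of prime-power order. -/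
theorem exists_normal_pgroup_sup_zpowers_of_minimal' {G : Type u} [Group G] [Finite G] {p : ℕ}
    (h1 : ¬ FrobCond p G) (h2 : ∀ H : Subgroup G, H ≠ ⊤ → FrobCond p H) :
    ∃ (Q : Subgroup G) (g : G), Q.Normal ∧ IsPGroup p Q ∧ (orderOf g).Coprime p ∧
      Q ⊔ zpowers g = ⊤ ∧ g ∉ centralizer (Q : Set G) ∧
      ∃ r k : ℕ, r.Prime ∧ orderOf g = r ^ k := by
  unfold FrobCond at h1
  push Not at h1
  obtain ⟨Q, hQ, g₀, hg₀, hcop₀, hgc₀⟩ := h1
  obtain ⟨g, hgz, hgc, r, k, hr, hgo⟩ :=
    exists_prime_pow_order_not_mem (centralizer (Q : Set G)) _ g₀ rfl hgc₀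
  have hg : g ∈ normalizer (Q : Set G) := (Subgroup.zpowers_le.mpr hg₀) hgz
  have hcop : (orderOf g).Coprime p := by
    have hd : orderOf g ∣ orderOf g₀ := by
      obtain ⟨j, rfl⟩ := Subgroup.mem_zpowers_iff.mp hgz
      exact orderOf_dvd_of_pow_eq_one (by
        rw [← zpow_natCast, ← zpow_mul, mul_comm, zpow_mul, zpow_natCast, pow_orderOf_eq_one,
          one_zpow])
    exact Nat.Coprime.coprime_dvd_left hd hcop₀
  have hM : Q ⊔ zpowers g = ⊤ := by
    by_contra hne
    have hF := h2 _ hne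
    have hQM : Q ≤ Q ⊔ zpowers g := le_sup_left
    have hgM : g ∈ Q ⊔ zpowers g := le_sup_right (α := Subgroup G) (Subgroup.mem_zpowers g)
    have hgn : (⟨g, hgM⟩ : (Q ⊔ zpowers g : Subgroup G)) ∈
        normalizer ((Q.subgroupOf (Q ⊔ zpowers g) : Subgroup _) : Set _) := by
      rw [Subgroup.mem_normalizer_iff]
      intro y
      rw [Subgroup.mem_subgroupOf, Subgroup.mem_subgroupOf]
      exact Subgroup.mem_normalizer_iff.mp hg y
    have hcen := hF (Q.subgroupOf (Q ⊔ zpowers g)) hQ.comap_subtype ⟨g, hgM⟩ hgn (by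
      rw [← Subgroup.orderOf_coe]; exact hcop)
    apply hgc
    rw [Subgroup.mem_centralizer_iff] at hcen ⊢
    intro x hx
    have := hcen ⟨x, hQM hx⟩ (by rw [SetLike.mem_coe, Subgroup.mem_subgroupOf]; exact hx)
    exact congrArg Subtype.val this
  refine ⟨Q, g, ?_, hQ, hcop, hM, hgc, r, k, hr, hgo⟩
  rw [← Subgroup.normalizer_eq_top_iff, eq_top_iff, ← hM]
  exact sup_le Subgroup.le_normalizer ((Subgroup.zpowers_le).mpr hg)

/-- In a finite nilpotent group, a `q`-element commutes with every element of order prime to `q`. -/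
theorem commute_of_isNilpotent_of_coprime {X : Type u} [Group X] [Finite X]
    (hX : Group.IsNilpotent X) {q : ℕ} [Fact q.Prime] (u v : X) (k : ℕ) (hu : u ^ q ^ k = 1)
    (hv : (orderOf v).Coprime q) : u * v = v * u := by
  obtain ⟨S⟩ : Nonempty (Sylow q X) := inferInstance
  have hSyl := ((Group.isNilpotent_of_finite_tfae (G := X)).out 0 3).mp hX
  have hSn : (S : Subgroup X).Normal := hSyl q inferInstance S
  obtain ⟨C, hCn, hC⟩ := (frobCond_of_isNilpotent (p := q) hX).exists_normal_complement S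
  have hvC : v ∈ C := mem_normal_complement_of_coprime S C hC v hv
  have huS : u ∈ (S : Subgroup X) := by
    have hz : IsPGroup q (zpowers u) := by
      apply IsPGroup.of_card (n := (Nat.factorization (orderOf u)) q)
      rw [Nat.card_zpowers]
      obtain ⟨j, -, hj⟩ := (Nat.dvd_prime_pow Fact.out).mp (orderOf_dvd_of_pow_eq_one hu)
      rw [hj, (Fact.out : q.Prime).factorization_pow, Finsupp.single_eq_same]
    exact le_of_isPGroup_of_normal_sylow S _ hz (Subgroup.mem_zpowers u)
  have hdis : Disjoint (S : Subgroup X) C := by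
    rw [Subgroup.disjoint_def]
    intro z hz1 hz2
    obtain ⟨j, hj⟩ := S.2 ⟨z, hz1⟩
    have hj' : z ^ q ^ j = 1 := by
      have := congrArg Subtype.val hj
      simpa using this
    exact eq_one_of_mem_normal_complement S C hC z hz2 j hj'
  exact (Subgroup.commute_of_normal_of_disjoint _ _ hSn hCn hdis u v huS hvC).eq


/-- The Frobenius condition pulls back along injective homomorphisms. -/
theorem FrobCond.of_injective {G G' : Type u} [Group G] [Group G'] {p : ℕ} (f : G →* G')
    (hf : Function.Injective f) (hF : FrobCond p G') : FrobCond p G := by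
  intro Q hQ g hg hcop
  have hgn : f g ∈ normalizer ((Q.map f : Subgroup G') : Set G') := by
    rw [Subgroup.mem_normalizer_iff]
    intro n
    constructor
    · intro hn
      obtain ⟨q, hq, rfl⟩ := Subgroup.mem_map.mp hn
      have h1 : g * q * g⁻¹ ∈ Q := (Subgroup.mem_normalizer_iff.mp hg q).mp hq
      exact Subgroup.mem_map.mpr ⟨g * q * g⁻¹, h1, by simp⟩
    · intro hn
      obtain ⟨q, hq, hqe⟩ := Subgroup.mem_map.mp hn
      have h1 : g⁻¹ * q * g ∈ Q := by
        have := (Subgroup.mem_normalizer_iff.mp hg (g⁻¹ * q * g)).mpr (by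
          have e : g * (g⁻¹ * q * g) * g⁻¹ = q := by group
          rw [e]; exact hq)
        exact this
      refine Subgroup.mem_map.mpr ⟨g⁻¹ * q * g, h1, ?_⟩
      rw [map_mul, map_mul, map_inv, hqe]; group
  have hcen := hF (Q.map f) (hQ.map _) (f g) hgn (by
    rw [orderOf_injective f hf]; exact hcop)
  rw [Subgroup.mem_centralizer_iff] at hcen ⊢
  intro q hq
  have := hcen (f q) (Subgroup.mem_map_of_mem f hq)
  apply hf
  rw [map_mul, map_mul]; exact this

end Cfsg.Agent.Lib.Helper29
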