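import Mathlib
import Cfsg.Prelude.Def_TwoFusion
import Cfsg.Prelude.Def_CaseTheorems
import Cfsg.Agent.Lib.Helper13.KleinCount
import Cfsg.Agent.Lib.Helper24.InvolutionSylow

/-!
# Corollaries of Glauberman's `Z*`-theorem, conditional on its statement (helper29)
-/

set_option autoImplicit false
set_option linter.style.haveILetI false
set_option linter.unusedSectionVars false

namespace Cfsg.Agent.Lib.Helper29.ZStar

open Subgroup

universe u

/-- the statement of Glauberman's `Z*`-theorem (as in `S0215`) for the groups of universe `u`. -/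
def ZStarStmt : Prop :=
  ∀ {G : Type u} [Group G] [Finite G] (P : Sylow 2 G) (u : G), orderOf u = 2 → u ∈ P →
    (∀ g : G, g * u * g⁻¹ ∈ P → g * u * g⁻¹ = u) →
    ∃ N : Subgroup G, N.Normal ∧ Odd (Nat.card N) ∧ ∀ g : G, (u * g * u⁻¹ * g⁻¹) ∈ N

variable {G : Type u} [Group G]

theorem isolated_mul_self {z : G} (hz : Cfsg.IsIsolatedInvolution z) : z * z = 1 := by
  rw [← pow_two, ← hz.1]; exact pow_orderOf_eq_one z

theorem isolated_inv {z : G} (hz : Cfsg.IsIsolatedInvolution z) : z⁻¹ = z :=
  inv_eq_of_mul_eq_one_left (isolated_mul_self hz)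

/-- conjugates of `z` that commute with `z` equal `z`, in the form used below. -/
theorem isolated_conj_eq {z : G} (hz : Cfsg.IsIsolatedInvolution z) (g : G)
    (h : g * z * g⁻¹ ∈ centralizer ({z} : Set G)) : g * z * g⁻¹ = z := by
  apply hz.2 g
  rw [mem_centralizer_singleton_iff] at h
  exact h.symm

/-- **An isolated involution is central in some Sylow `2`-subgroup**. -/
theorem exists_sylow_le_centralizer [Finite G] {z : G} (hz : Cfsg.IsIsolatedInvolution z) :
    ∃ P : Sylow 2 G, z ∈ P ∧ (P : Subgroup G) ≤ centralizer ({z} : Set G) := by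
  haveI : Fact (Nat.Prime 2) := ⟨Nat.prime_two⟩
  set C : Subgroup G := centralizer ({z} : Set G) with hC
  have hzC : z ∈ C := by rw [hC, mem_centralizer_singleton_iff]
  -- a Sylow `2`-subgroup of `C` containing `z`
  have hzp : IsPGroup 2 (zpowers (⟨z, hzC⟩ : C)) := by
    apply IsPGroup.of_card (n := 1)
    rw [Nat.card_zpowers, Subgroup.orderOf_mk, hz.1, pow_one]
  obtain ⟨T₀, hT₀⟩ := hzp.exists_le_sylow
  set T : Subgroup G := (T₀ : Subgroup C).map C.subtype with hT
  have hzT : z ∈ T := ⟨⟨z, hzC⟩, hT₀ (mem_zpowers _), rfl⟩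
  have hTC : T ≤ C := by
    rintro _ ⟨c, -, rfl⟩
    exact c.2
  set n := (Nat.card C).factorization 2 with hn
  have hcardT : Nat.card T = 2 ^ n := by
    rw [hT, Subgroup.card_map_of_injective C.subtype_injective, T₀.card_eq_multiplicity]
  -- the normalizer of `T` lies in `C`
  have hNC : normalizer (T : Set G) ≤ C := by
    intro x hx
    have h1 : x * z * x⁻¹ ∈ T := (mem_normalizer_iff.mp hx z).mp hzT
    have h2 := isolated_conj_eq hz x (hTC h1)
    rw [hC, mem_centralizer_singleton_iff]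
    calc x * z = (x * z * x⁻¹) * x := by group
      _ = z * x := by rw [h2]
  -- `T` has the full `2`-part of `|G|`
  have hnot : ¬ 2 ^ (n + 1) ∣ Nat.card G := by
    intro hdvd
    have h1 := Sylow.prime_dvd_card_quotient_normalizer hdvd hcardT
    have h2 : Nat.card (normalizer (T : Set G)) =
        Nat.card (normalizer (T : Set G) ⧸ T.comap (normalizer (T : Set G)).subtype) *
          Nat.card (T.comap (normalizer (T : Set G)).subtype) :=
      Subgroup.card_eq_card_quotient_mul_card_subgroup _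
    have h3 : Nat.card (T.comap (normalizer (T : Set G)).subtype) = 2 ^ n := by
      rw [← hcardT]
      exact Nat.card_congr (Subgroup.subgroupOfEquivOfLe le_normalizer).toEquiv
    have h4 : 2 ^ (n + 1) ∣ Nat.card (normalizer (T : Set G)) := by
      rw [h2, h3, pow_succ, mul_comm (2 ^ n) 2]
      exact Nat.mul_dvd_mul_right h1 _
    have h5 : 2 ^ (n + 1) ∣ Nat.card C := h4.trans (Subgroup.card_dvd_of_le hNC)
    exact Nat.pow_succ_factorization_not_dvd Nat.card_pos.ne' Nat.prime_two h5
  have hfact : (Nat.card G).factorization 2 = n := by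
    have h1 : 2 ^ n ∣ Nat.card G := by
      rw [← hcardT]; exact Subgroup.card_subgroup_dvd_card T
    have h2 := (Nat.prime_two.pow_dvd_iff_le_factorization Nat.card_pos.ne').mp h1
    have h3 : ¬ (n + 1 ≤ (Nat.card G).factorization 2) := fun h =>
      hnot ((Nat.prime_two.pow_dvd_iff_le_factorization Nat.card_pos.ne').mpr h)
    omega
  refine ⟨Sylow.ofCard T (by rw [hcardT, hfact]), hzT, hTC⟩

/-- `Z*` for an isolated involution. -/
theorem exists_odd_normal_of_isolated (hZ : ZStarStmt.{u}) [Finite G] {z : G}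
    (hz : Cfsg.IsIsolatedInvolution z) :
    ∃ N : Subgroup G, N.Normal ∧ Odd (Nat.card N) ∧ ∀ g : G, (z * g * z⁻¹ * g⁻¹) ∈ N := by
  obtain ⟨P, hzP, hPC⟩ := exists_sylow_le_centralizer hz
  exact hZ P z hz.1 hzP (fun g hg => isolated_conj_eq hz g (hPC hg))

theorem le_oddCore [Finite G] (N : Subgroup G) (hN : N.Normal) (hodd : Odd (Nat.card N)) :
    N ≤ Cfsg.oddCore G := by
  apply le_sSup
  exact ⟨hN, Nat.coprime_two_right.mpr hodd⟩

/-- `S1188` from `Z*`. -/
theorem commutator_mem_oddCore (hZ : ZStarStmt.{u}) [Finite G] {z : G}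
    (hz : Cfsg.IsIsolatedInvolution z) (g : G) : z * g * z⁻¹ * g⁻¹ ∈ Cfsg.oddCore G := by
  obtain ⟨N, hNn, hNodd, hN⟩ := exists_odd_normal_of_isolated hZ hz
  exact le_oddCore N hNn hNodd (hN g)

/-- `S0225` from `Z*`. -/
theorem exists_of_no_kleinFour (hZ : ZStarStmt.{u}) [Finite G] (heven : Even (Nat.card G))
    (hrank : ∀ E : Subgroup G, ¬ IsKleinFour E) :
    ∃ z : G, orderOf z = 2 ∧ ∃ N : Subgroup G, N.Normal ∧ Odd (Nat.card N) ∧
      ∀ g : G, z * g * z⁻¹ * g⁻¹ ∈ N := by
  haveI : Fact (Nat.Prime 2) := ⟨Nat.prime_two⟩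
  obtain ⟨P⟩ : Nonempty (Sylow 2 G) := inferInstance
  have h2P : 2 ∣ Nat.card (P : Subgroup G) := P.dvd_card_of_dvd_card (even_iff_two_dvd.mp heven)
  haveI hnt : Nontrivial (P : Subgroup G) := by
    rw [← Finite.one_lt_card_iff_nontrivial]
    have : 0 < Nat.card (P : Subgroup G) := Nat.card_pos
    have := Nat.le_of_dvd this h2P
    omega
  haveI := P.2.center_nontrivial
  have h2Z : 2 ∣ Nat.card (center (P : Subgroup G)) := by
    obtain ⟨k, hk⟩ := (P.2.to_subgroup (center (P : Subgroup G))).exists_card_eq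
    have hk1 : 1 < Nat.card (center (P : Subgroup G)) := Finite.one_lt_card
    rw [hk] at hk1 ⊢
    have : k ≠ 0 := by
      rintro rfl
      simp at hk1
    exact dvd_pow_self 2 this
  obtain ⟨z₀, hz₀⟩ := exists_prime_orderOf_dvd_card' 2 h2Z
  set z : G := ((z₀ : (P : Subgroup G)) : G) with hzdef
  have hzP : z ∈ (P : Subgroup G) := (z₀ : (P : Subgroup G)).2
  have hzo : orderOf z = 2 := by
    rw [hzdef, Subgroup.orderOf_coe, Subgroup.orderOf_coe, hz₀]
  have hzz : z * z = 1 := by rw [← pow_two, ← hzo]; exact pow_orderOf_eq_one z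
  have hz1 : z ≠ 1 := by
    intro h
    rw [h, orderOf_one] at hzo
    omega
  have hzc : ∀ y ∈ (P : Subgroup G), y * z = z * y := by
    intro y hy
    have := Subgroup.mem_center_iff.mp z₀.2 ⟨y, hy⟩
    exact congrArg Subtype.val this
  have huniq : ∀ y ∈ (P : Subgroup G), orderOf y = 2 → y = z := by
    intro y hy hyo
    by_contra hne
    have hyy : y * y = 1 := by rw [← pow_two, ← hyo]; exact pow_orderOf_eq_one y
    have hy1 : y ≠ 1 := by
      intro h
      rw [h, orderOf_one] at hyo
      omega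
    exact hrank _ (Cfsg.Agent.Lib.Helper13.klein_closure_isKleinFour z y hzz hyy (hzc y hy) hz1 hy1
      (fun h => hne h.symm))
  refine ⟨z, hzo, hZ P z hzo hzP ?_⟩
  intro g hg
  apply huniq _ hg
  have : g * z * g⁻¹ = MulAut.conj g z := by simp
  rw [this, MulEquiv.orderOf_eq, hzo]

/-- conjugation by an involution: invariance gives membership in the normalizer. -/
theorem mem_normalizer_of_invol {z : G} (hzz : z * z = 1) (R : Subgroup G)
    (h : ∀ r ∈ R, z * r * z⁻¹ ∈ R) : z ∈ normalizer (R : Set G) := by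
  rw [mem_normalizer_iff]
  intro r
  refine ⟨h r, fun hr => ?_⟩
  have h1 := h _ hr
  have hzi : z⁻¹ = z := inv_eq_of_mul_eq_one_left hzz
  have : z * (z * r * z⁻¹) * z⁻¹ = r := by
    rw [hzi]
    calc z * (z * r * z) * z = (z * z) * r * (z * z) := by group
      _ = r := by rw [hzz, one_mul, mul_one]
  rwa [this] at h1

/-- a maximal `z`-invariant `p`-subgroup of an odd order `z`-invariant subgroup `X` is a
Sylow `p`-subgroup of `X`. -/
theorem card_eq_of_maximal_invariant [Finite G] {p : ℕ} [Fact p.Prime] (z : G) (hzz : z * z = 1)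
    (X : Subgroup G) (hXodd : Odd (Nat.card X)) (hzX : ∀ x ∈ X, z * x * z⁻¹ ∈ X)
    (Q : Subgroup G) (hQ : IsPGroup p Q) (hQX : Q ≤ X) (hzQ : z ∈ normalizer (Q : Set G))
    (hmax : ∀ R : Subgroup G, IsPGroup p R → z ∈ normalizer (R : Set G) → Q ≤ R → R = Q) :
    Nat.card Q = p ^ (Nat.card X).factorization p := by
  have hpp : p.Prime := Fact.out
  obtain ⟨n, hn⟩ := hQ.exists_card_eq
  have hle : n ≤ (Nat.card X).factorization p := by
    rw [← hpp.pow_dvd_iff_le_factorization Nat.card_pos.ne', ← hn]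
    exact Subgroup.card_dvd_of_le hQX
  rcases hle.eq_or_lt with heq | hlt
  · rw [hn, heq]
  exfalso
  have hdvd : p ^ (n + 1) ∣ Nat.card X :=
    (hpp.pow_dvd_iff_le_factorization Nat.card_pos.ne').mpr hlt
  set Q' : Subgroup X := Q.subgroupOf X with hQ'
  have hQ'card : Nat.card Q' = p ^ n := by
    rw [← hn]
    exact Nat.card_congr (Subgroup.subgroupOfEquivOfLe hQX).toEquiv
  have h1 := Sylow.prime_dvd_card_quotient_normalizer hdvd hQ'card
  set Y : Subgroup G := normalizer (Q : Set G) ⊓ X with hY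
  have hYcard : Nat.card Y = Nat.card (normalizer (Q' : Set X)) := by
    rw [hQ', ← subgroupOf_normalizer_eq hQX, ← Subgroup.inf_subgroupOf_right]
    exact (Nat.card_congr (Subgroup.subgroupOfEquivOfLe inf_le_right).toEquiv).symm
  have h2 : Nat.card (normalizer (Q' : Set X)) =
      Nat.card (normalizer (Q' : Set X) ⧸ Q'.comap (normalizer (Q' : Set X)).subtype) *
        Nat.card (Q'.comap (normalizer (Q' : Set X)).subtype) :=
    Subgroup.card_eq_card_quotient_mul_card_subgroup _
  have h3 : Nat.card (Q'.comap (normalizer (Q' : Set X)).subtype) = p ^ n := by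
    rw [← hQ'card]
    exact Nat.card_congr (Subgroup.subgroupOfEquivOfLe le_normalizer).toEquiv
  have h4 : p ^ (n + 1) ∣ Nat.card Y := by
    rw [hYcard, h2, h3, pow_succ, mul_comm (p ^ n) p]
    exact Nat.mul_dvd_mul_right h1 _
  have hYX : Y ≤ X := inf_le_right
  have hYN : Y ≤ normalizer (Q : Set G) := inf_le_left
  have hYodd : Odd (Nat.card Y) := Odd.of_dvd_nat hXodd (Subgroup.card_dvd_of_le hYX)
  have hzY : ∀ y ∈ Y, z * y * z⁻¹ ∈ Y := by
    intro y hy
    exact ⟨(normalizer (Q : Set G)).mul_mem ((normalizer (Q : Set G)).mul_mem hzQ (hYN hy))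
      ((normalizer (Q : Set G)).inv_mem hzQ), hzX y (hYX hy)⟩
  obtain ⟨S, hSY, hScard, hzS⟩ :=
    Cfsg.Agent.Lib.Helper24.exists_invariant_sylow p z hzz Y hYodd hzY
  have hSp : IsPGroup p S := IsPGroup.of_card hScard
  have hk : n + 1 ≤ (Nat.card Y).factorization p :=
    (hpp.pow_dvd_iff_le_factorization Nat.card_pos.ne').mp h4
  have hQS : IsPGroup p (Q ⊔ S : Subgroup G) :=
    IsPGroup.to_sup_of_normal_left' hQ hSp (hSY.trans hYN)
  have hzQS : z ∈ normalizer ((Q ⊔ S : Subgroup G) : Set G) := by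
    apply mem_normalizer_of_invol hzz
    have hmap : (Q ⊔ S).map (MulAut.conj z).toMonoidHom ≤ Q ⊔ S := by
      rw [Subgroup.map_sup]
      apply sup_le
      · rintro _ ⟨q, hq, rfl⟩
        apply le_sup_left (a := Q) (b := S)
        have := (mem_normalizer_iff.mp hzQ q).mp hq
        simpa using this
      · rintro _ ⟨q, hq, rfl⟩
        apply le_sup_right (a := Q) (b := S)
        have := hzS q hq
        simpa using this
    intro r hr
    have := hmap ⟨r, hr, rfl⟩
    simpa using this
  have h5 := hmax _ hQS hzQS le_sup_left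
  have h6 : S ≤ Q := by rw [← h5]; exact le_sup_right
  have h7 := Subgroup.card_le_of_le h6
  rw [hScard, hn] at h7
  have h8 : p ^ (n + 1) ≤ p ^ (Nat.card Y).factorization p :=
    Nat.pow_le_pow_right hpp.pos hk
  have h9 : p ^ n < p ^ (n + 1) := Nat.pow_lt_pow_right hpp.one_lt (Nat.lt_succ_self n)
  omega

/-- `S1187` from `Z*`. -/
theorem exists_sylow_eq_of_maximal (hZ : ZStarStmt.{u}) [Finite G] {z : G}
    (hz : Cfsg.IsIsolatedInvolution z) {p : ℕ} [Fact p.Prime] (Q : Subgroup G)
    (hQ : IsPGroup p Q) (hzQ : z ∈ normalizer (Q : Set G))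
    (hmax : ∀ R : Subgroup G, IsPGroup p R → z ∈ normalizer (R : Set G) → Q ≤ R → R = Q) :
    ∃ P : Sylow p G, (P : Subgroup G) = Q := by
  have hpp : p.Prime := Fact.out
  have hzz := isolated_mul_self hz
  by_cases hp2 : p = 2
  · subst hp2
    have hzp : IsPGroup 2 (zpowers z) := by
      apply IsPGroup.of_card (n := 1)
      rw [Nat.card_zpowers, hz.1, pow_one]
    have hR : IsPGroup 2 (Q ⊔ zpowers z : Subgroup G) :=
      IsPGroup.to_sup_of_normal_left' hQ hzp (zpowers_le.mpr hzQ)
    have hzR : z ∈ (Q ⊔ zpowers z : Subgroup G) :=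
      le_sup_right (a := Q) (mem_zpowers z)
    have h1 := hmax _ hR (le_normalizer hzR) le_sup_left
    have hzQ' : z ∈ Q := by rw [← h1]; exact hzR
    obtain ⟨P, hP⟩ := hQ.exists_le_sylow
    refine ⟨P, hmax _ P.2 (le_normalizer (hP hzQ')) hP⟩
  · have hpodd : Odd p := hpp.odd_of_ne_two hp2
    obtain ⟨N, hNn, hNodd, hN⟩ := exists_odd_normal_of_isolated hZ hz
    haveI := hNn
    obtain ⟨Pbar, hPbar⟩ := (hQ.map (QuotientGroup.mk' N)).exists_le_sylow
    set L : Subgroup G := (Pbar : Subgroup (G ⧸ N)).comap (QuotientGroup.mk' N) with hL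
    have hQL : Q ≤ L := by
      intro q hq
      exact hPbar ⟨q, hq, rfl⟩
    have hNL : N ≤ L := by
      intro x hx
      rw [hL, Subgroup.mem_comap]
      have : QuotientGroup.mk' N x = 1 := (QuotientGroup.eq_one_iff x).mpr hx
      rw [this]; exact one_mem _
    have hcardL : Nat.card L = Nat.card (Pbar : Subgroup (G ⧸ N)) * Nat.card N := by
      have h1 : L.index = (Pbar : Subgroup (G ⧸ N)).index :=
        Subgroup.index_comap_of_surjective _ (QuotientGroup.mk'_surjective N)
      have h2 := L.card_mul_index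
      have h3 := (Pbar : Subgroup (G ⧸ N)).card_mul_index
      have h4 := Subgroup.card_eq_card_quotient_mul_card_subgroup N
      have hpos : 0 < (Pbar : Subgroup (G ⧸ N)).index := Nat.pos_of_ne_zero Subgroup.index_ne_zero_of_finite
      rw [h1] at h2
      have : Nat.card L * (Pbar : Subgroup (G ⧸ N)).index =
          Nat.card (Pbar : Subgroup (G ⧸ N)) * Nat.card N * (Pbar : Subgroup (G ⧸ N)).index := by
        rw [h2, h4, ← h3]; ring
      exact Nat.eq_of_mul_eq_mul_right hpos this
    have hcardP := Pbar.card_eq_multiplicity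
    have hLodd : Odd (Nat.card L) := by
      rw [hcardL, hcardP]
      exact (hpodd.pow).mul hNodd
    have hzL : ∀ l ∈ L, z * l * z⁻¹ ∈ L := by
      intro l hl
      have : z * l * z⁻¹ = (z * l * z⁻¹ * l⁻¹) * l := by group
      rw [this]
      exact L.mul_mem (hNL (hN l)) hl
    have h1 := card_eq_of_maximal_invariant z hzz L hLodd hzL Q hQ hQL hzQ hmax
    have h2 : (Nat.card L).factorization p = (Nat.card G).factorization p := by
      rw [hcardL, hcardP, Subgroup.card_eq_card_quotient_mul_card_subgroup N,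
        Nat.factorization_mul (pow_pos hpp.pos _).ne' Nat.card_pos.ne',
        Nat.factorization_mul Nat.card_pos.ne' Nat.card_pos.ne']
      simp only [Finsupp.coe_add, Pi.add_apply]
      rw [hpp.factorization_pow]
      simp
    rw [h2] at h1
    exact ⟨Sylow.ofCard Q h1, rfl⟩

end Cfsg.Agent.Lib.Helper29.ZStar
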