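import Mathlib
import Cfsg.Agent.Lib.Helper29.ZStarCor
import Cfsg.Agent.Lib.Helper8.Isolated
import Cfsg.Agent.Lib.Helper29.Frobenius

/-!
# Involutions acting on odd order subgroups: counting inverted elements; `S1253` (helper29)
-/

set_option autoImplicit false
set_option linter.style.haveILetI false
set_option linter.unusedSectionVars false

namespace Cfsg.Agent.Lib.Helper29.ZStar

open Subgroup

universe u

variable {G : Type u} [Group G]

/-- an element of odd order inverted by `z` is `x * (z x z⁻¹)⁻¹` for a power `x` of it. -/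
theorem exists_sqrt_of_odd [Finite G] (i : G) (hodd : Odd (orderOf i)) :
    ∃ k : ℕ, (i ^ k) * (i ^ k) = i := by
  obtain ⟨k, hk⟩ := hodd
  refine ⟨k + 1, ?_⟩
  rw [← pow_add]
  have : k + 1 + (k + 1) = orderOf i + 1 := by omega
  rw [this, pow_succ, pow_orderOf_eq_one, one_mul]

theorem inv_comm_map (z x : G) (hzz : z * z = 1) :
    z * (x * (z * x * z⁻¹)⁻¹) * z⁻¹ = (x * (z * x * z⁻¹)⁻¹)⁻¹ := by
  calc z * (x * (z * x * z⁻¹)⁻¹) * z⁻¹ = z * x * (z⁻¹ * (z * z)) * x⁻¹ * (z * z)⁻¹ := by group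
    _ = z * x * z⁻¹ * x⁻¹ := by rw [hzz]; group
    _ = (x * (z * x * z⁻¹)⁻¹)⁻¹ := by group

theorem fiber_iff (z x y : G) :
    x * (z * x * z⁻¹)⁻¹ = y * (z * y * z⁻¹)⁻¹ ↔ x⁻¹ * y * z = z * (x⁻¹ * y) := by
  constructor
  · intro h
    have h1 : x⁻¹ * y = z * (x⁻¹ * y) * z⁻¹ := by
      calc x⁻¹ * y = x⁻¹ * (y * (z * y * z⁻¹)⁻¹) * (z * y * z⁻¹) := by group
        _ = x⁻¹ * (x * (z * x * z⁻¹)⁻¹) * (z * y * z⁻¹) := by rw [h]
        _ = z * (x⁻¹ * y) * z⁻¹ := by group
    calc x⁻¹ * y * z = (z * (x⁻¹ * y) * z⁻¹) * z := by rw [← h1]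
      _ = z * (x⁻¹ * y) := by group
  · intro h
    have h1 : z * (x⁻¹ * y) * z⁻¹ = x⁻¹ * y := by
      calc z * (x⁻¹ * y) * z⁻¹ = (x⁻¹ * y * z) * z⁻¹ := by rw [h]
        _ = x⁻¹ * y := by group
    calc x * (z * x * z⁻¹)⁻¹ = x * (z * (x⁻¹ * y) * z⁻¹) * (z * y * z⁻¹)⁻¹ := by group
      _ = x * (x⁻¹ * y) * (z * y * z⁻¹)⁻¹ := by rw [h1]
      _ = y * (z * y * z⁻¹)⁻¹ := by group

/-- **Counting inverted elements**: for an involution `z` normalizing a subgroup `P` of odd
order, `|P : C_P(z)|` is the number of elements of `P` inverted by `z`. -/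
theorem relIndex_centralizer_eq_card_inverted [Finite G] (z : G) (hzz : z * z = 1)
    (P : Subgroup G) (hPodd : Odd (Nat.card P)) (hzP : z ∈ normalizer (P : Set G)) :
    (P ⊓ centralizer ({z} : Set G)).relIndex P =
      Nat.card {x : G // x ∈ P ∧ z * x * z⁻¹ = x⁻¹} := by
  set C : Subgroup G := centralizer ({z} : Set G) with hC
  rw [Subgroup.relIndex, Subgroup.inf_subgroupOf_left, Subgroup.index]
  have hconjP : ∀ x ∈ P, z * x * z⁻¹ ∈ P := fun x hx => (mem_normalizer_iff.mp hzP x).mp hx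
  let f : P → {x : G // x ∈ P ∧ z * x * z⁻¹ = x⁻¹} := fun x =>
    ⟨(x : G) * (z * (x : G) * z⁻¹)⁻¹, P.mul_mem x.2 (P.inv_mem (hconjP x x.2)),
      inv_comm_map z x hzz⟩
  have hf : ∀ x y : P, f x = f y ↔ (x⁻¹ * y) ∈ C.subgroupOf P := by
    intro x y
    rw [Subgroup.mem_subgroupOf, hC, mem_centralizer_singleton_iff]
    simp only [f, Subtype.mk.injEq, Subgroup.coe_mul, Subgroup.coe_inv]
    rw [fiber_iff]
  let F : P ⧸ C.subgroupOf P → {x : G // x ∈ P ∧ z * x * z⁻¹ = x⁻¹} :=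
    Quotient.lift f (by
      intro x y hxy
      exact (hf x y).mpr (QuotientGroup.leftRel_apply.mp hxy))
  have hFinj : Function.Injective F := by
    intro a b
    induction a using Quotient.inductionOn with | _ x => ?_
    induction b using Quotient.inductionOn with | _ y => ?_
    intro h
    apply Quotient.sound
    exact QuotientGroup.leftRel_apply.mpr ((hf x y).mp h)
  have hFsurj : Function.Surjective F := by
    rintro ⟨i, hiP, hi⟩
    have hodd : Odd (orderOf i) := by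
      have : orderOf (⟨i, hiP⟩ : P) ∣ Nat.card P := orderOf_dvd_natCard _
      rw [Subgroup.orderOf_mk] at this
      exact Odd.of_dvd_nat hPodd this
    obtain ⟨k, hk⟩ := exists_sqrt_of_odd i hodd
    refine ⟨Quotient.mk _ ⟨i ^ k, P.pow_mem hiP k⟩, ?_⟩
    apply Subtype.ext
    show i ^ k * (z * i ^ k * z⁻¹)⁻¹ = i
    have : z * i ^ k * z⁻¹ = (i ^ k)⁻¹ := by
      have h1 : z * i ^ k * z⁻¹ = (z * i * z⁻¹) ^ k := by
        rw [conj_pow]
      rw [h1, hi, inv_pow]
    rw [this, inv_inv, hk]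
  exact Nat.card_congr (Equiv.ofBijective F ⟨hFinj, hFsurj⟩)

end Cfsg.Agent.Lib.Helper29.ZStar

namespace Cfsg.Agent.Lib.Helper29.ZStar

open Subgroup

universe u

variable {G : Type u} [Group G]

/-- `S1253` from `Z*`. -/
theorem sylow_inf_centralizer (hZ : ZStarStmt.{u}) [Finite G] (z : G)
    (hz : Cfsg.IsIsolatedInvolution z) {p : ℕ} [Fact p.Prime] (hp : p ≠ 2) (P : Sylow p G)
    (hzP : z ∈ normalizer ((P : Subgroup G) : Set G)) :
    ¬ p ∣ ((P : Subgroup G) ⊓ centralizer ({z} : Set G)).relIndex (centralizer ({z} : Set G)) ∧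
    ((P : Subgroup G) ⊓ centralizer ({z} : Set G)).relIndex (P : Subgroup G) =
      Nat.card {x : G // x ∈ P ∧ z * x * z⁻¹ = x⁻¹} := by
  have hpp : p.Prime := Fact.out
  have hzz := isolated_mul_self hz
  have hpodd : Odd p := hpp.odd_of_ne_two hp
  constructor
  · set C : Subgroup G := centralizer ({z} : Set G) with hC
    have hzC : z ∈ C := by rw [hC, mem_centralizer_singleton_iff]
    have hcomm : ∀ c ∈ C, z * c * z⁻¹ = c := by
      intro c hc
      rw [hC, mem_centralizer_singleton_iff] at hc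
      rw [← hc]; group
    -- a Sylow `p`-subgroup of `C` containing `P ∩ C`
    have hPCp : IsPGroup p (((P : Subgroup G) ⊓ C).subgroupOf C) :=
      (P.2.to_le inf_le_left).comap_subtype
    obtain ⟨R₀, hR₀⟩ := hPCp.exists_le_sylow
    set R : Subgroup G := (R₀ : Subgroup C).map C.subtype with hR
    have hRC : R ≤ C := by
      rintro _ ⟨c, -, rfl⟩
      exact c.2
    have hRp : IsPGroup p R := R₀.2.map _
    have hPCR : (P : Subgroup G) ⊓ C ≤ R := by
      intro x hx
      exact ⟨⟨x, hx.2⟩, hR₀ (Subgroup.mem_subgroupOf.mpr hx), rfl⟩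
    have hzR : z ∈ normalizer (R : Set G) := by
      apply mem_normalizer_of_invol hzz
      intro r hr
      rw [hcomm r (hRC hr)]; exact hr
    -- a maximal `z`-invariant `p`-subgroup containing `R`
    obtain ⟨Q, hQmax⟩ := (Set.toFinite {Q : Subgroup G | IsPGroup p Q ∧
      z ∈ normalizer (Q : Set G) ∧ R ≤ Q}).exists_maximal ⟨R, hRp, hzR, le_rfl⟩
    obtain ⟨⟨hQp, hzQ, hRQ⟩, hQm⟩ := hQmax
    have hmax : ∀ R' : Subgroup G, IsPGroup p R' → z ∈ normalizer (R' : Set G) → Q ≤ R' →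
        R' = Q := fun R' h1 h2 h3 => le_antisymm (hQm ⟨h1, h2, hRQ.trans h3⟩ h3) h3
    obtain ⟨P', hP'⟩ := exists_sylow_eq_of_maximal hZ hz Q hQp hzQ hmax
    obtain ⟨g, hg⟩ := MulAction.exists_smul_eq G P P'
    have hmemQ : ∀ x, x ∈ Q ↔ g⁻¹ * x * g ∈ (P : Subgroup G) := by
      intro x
      rw [← hP', ← hg]
      exact Cfsg.Agent.Lib.Helper29.mem_smul_sylow_iff g x P
    -- `g z g⁻¹` normalizes `Q`
    have hgz : g * z * g⁻¹ ∈ normalizer (Q : Set G) := by
      rw [mem_normalizer_iff]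
      intro x
      rw [hmemQ, hmemQ]
      have e : g⁻¹ * (g * z * g⁻¹ * x * (g * z * g⁻¹)⁻¹) * g = z * (g⁻¹ * x * g) * z⁻¹ := by group
      rw [e]
      exact mem_normalizer_iff.mp hzP _
    obtain ⟨h, hh, hhz⟩ := Cfsg.Agent.Lib.Helper8.iso_conj_in_subgroup hz
      (normalizer (Q : Set G)) hzQ g hgz
    set c : G := h⁻¹ * g with hc
    have hcC : c ∈ C := by
      rw [hC, mem_centralizer_singleton_iff]
      have : c * z * c⁻¹ = z := by
        calc c * z * c⁻¹ = h⁻¹ * (g * z * g⁻¹) * h := by rw [hc]; group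
          _ = h⁻¹ * (h * z * h⁻¹) * h := by rw [hhz]
          _ = z := by group
      calc c * z = (c * z * c⁻¹) * c := by group
        _ = z * c := by rw [this]
    have hmemQ' : ∀ x, x ∈ Q → c⁻¹ * x * c ∈ (P : Subgroup G) := by
      intro x hx
      have h1 : h * x * h⁻¹ ∈ Q := (mem_normalizer_iff.mp hh x).mp hx
      have h2 := (hmemQ _).mp h1
      have e : c⁻¹ * x * c = g⁻¹ * (h * x * h⁻¹) * g := by rw [hc]; group
      rw [e]; exact h2
    have hmap : R.map (MulAut.conj c⁻¹).toMonoidHom ≤ (P : Subgroup G) ⊓ C := by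
      rintro _ ⟨r, hr, rfl⟩
      have e : (MulAut.conj c⁻¹).toMonoidHom r = c⁻¹ * r * c := by simp
      rw [e]
      exact ⟨hmemQ' r (hRQ hr), C.mul_mem (C.mul_mem (C.inv_mem hcC) (hRC hr)) hcC⟩
    have hcard : Nat.card R ≤ Nat.card ((P : Subgroup G) ⊓ C : Subgroup G) := by
      have hinj : Function.Injective (MulAut.conj c⁻¹).toMonoidHom := (MulAut.conj c⁻¹).injective
      rw [← Subgroup.card_map_of_injective hinj (K := R)]
      exact Subgroup.card_le_of_le hmap
    have hEq : (P : Subgroup G) ⊓ C = R := Subgroup.eq_of_le_of_card_ge hPCR hcard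
    have hsub : ((P : Subgroup G) ⊓ C).subgroupOf C = (R₀ : Subgroup C) := by
      rw [hEq, hR]
      exact Subgroup.comap_map_eq_self_of_injective C.subtype_injective _
    rw [Subgroup.relIndex, hsub]
    exact R₀.not_dvd_index
  · have hPodd : Odd (Nat.card (P : Subgroup G)) := by
      rw [P.card_eq_multiplicity]
      exact hpodd.pow
    exact relIndex_centralizer_eq_card_inverted z hzz (P : Subgroup G) hPodd hzP

end Cfsg.Agent.Lib.Helper29.ZStar
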