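import Mathlib
import Cfsg.Agent.Lib.Lead.Q8Facts
import Cfsg.Agent.Lib.Helper20.QuatSylow
import Cfsg.Agent.Lib.Helper29.Frobenius
import Cfsg.Agent.Lib.Helper20.QuatFactsT1

set_option autoImplicit false
set_option linter.style.haveILetI false
set_option linter.unusedSectionVars false


/-!
# Q8 project (T2) and wrappers (helper29)
-/

namespace Cfsg.Agent.Lib.Helper29.Q8Wrap

open Subgroup QuaternionGroup Cfsg.Agent.Lib.Helper20.Q8 Cfsg.Agent.CharLib

universe u

variable {X : Type u} [Group X] [Finite X]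

set_option maxRecDepth 100000 in
theorem q8_central_fact : ∀ r : QuaternionGroup 2, (a 2 : QuaternionGroup 2) * r = r * a 2 := by
  decide

/-- the image of an involution of `S` in `Q₈` is `a 2`. -/
theorem map_invol (S : Sylow 2 X) (e : ↥(S : Subgroup X) ≃* QuaternionGroup 2) (t : X)
    (ht : t ∈ (S : Subgroup X)) (hto : orderOf t = 2) : e ⟨t, ht⟩ = a 2 := by
  have h1 : orderOf (e ⟨t, ht⟩) = 2 := by
    rw [MulEquiv.orderOf_eq, Subgroup.orderOf_mk, hto]
  have h2 : (e ⟨t, ht⟩) ^ 2 = 1 := by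
    have := pow_orderOf_eq_one (e ⟨t, ht⟩)
    rwa [h1] at this
  rcases sq_eq_one_fact _ h2 with h | h
  · rw [h, orderOf_one] at h1; omega
  · exact h

/-- the involution of `S` is unique. -/
theorem invol_unique (S : Sylow 2 X) (e : ↥(S : Subgroup X) ≃* QuaternionGroup 2) (t t' : X)
    (ht : t ∈ (S : Subgroup X)) (hto : orderOf t = 2) (ht' : t' ∈ (S : Subgroup X))
    (hto' : orderOf t' = 2) : t = t' := by
  have h := (map_invol S e t ht hto).trans (map_invol S e t' ht' hto').symm
  exact congrArg Subtype.val (e.injective h)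

/-- the involution of `S` is central in `S`. -/
theorem invol_central (S : Sylow 2 X) (e : ↥(S : Subgroup X) ≃* QuaternionGroup 2) (t : X)
    (ht : t ∈ (S : Subgroup X)) (hto : orderOf t = 2) (s : X) (hs : s ∈ (S : Subgroup X)) :
    t * s = s * t := by
  have h1 : e (⟨t, ht⟩ * ⟨s, hs⟩) = e (⟨s, hs⟩ * ⟨t, ht⟩) := by
    rw [map_mul, map_mul, map_invol S e t ht hto, q8_central_fact]
  exact congrArg Subtype.val (e.injective h1)

/-- an element normalizing `S` centralizes its involution. -/
theorem normalizer_commutes (S : Sylow 2 X) (e : ↥(S : Subgroup X) ≃* QuaternionGroup 2) (t : X)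
    (ht : t ∈ (S : Subgroup X)) (hto : orderOf t = 2) (g : X)
    (hgN : g ∈ Subgroup.normalizer ((S : Subgroup X) : Set X)) : g * t = t * g := by
  have h1 : g * t * g⁻¹ ∈ (S : Subgroup X) := (Subgroup.mem_normalizer_iff.mp hgN t).mp ht
  have h2 : orderOf (g * t * g⁻¹) = 2 := by
    have : g * t * g⁻¹ = MulAut.conj g t := by simp
    rw [this, MulEquiv.orderOf_eq, hto]
  have h3 := invol_unique S e _ _ h1 h2 ht hto
  calc g * t = (g * t * g⁻¹) * g := by group
    _ = t * g := by rw [h3]

/-- **(T2)** `QuatFacts` for the centralizer of the involution. -/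
theorem quatFacts_centralizer (S : Sylow 2 X)
    (e : ↥(S : Subgroup X) ≃* QuaternionGroup 2) (g : X)
    (hgN : g ∈ Subgroup.normalizer ((S : Subgroup X) : Set X)) (hgo : Odd (orderOf g))
    (hgc : g ∉ Subgroup.centralizer ((S : Subgroup X) : Set X)) (t u : X)
    (ht : t ∈ (S : Subgroup X)) (hto : orderOf t = 2) (hu : u ∈ (S : Subgroup X))
    (huo : orderOf u = 4) (C : Subgroup X) (hC : C = Subgroup.centralizer {t}) (tC uC : C)
    (htC : (tC : X) = t) (huC : (uC : X) = u) : QuatFacts C tC uC := by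
  haveI : Fact (Nat.Prime 2) := ⟨Nat.prime_two⟩
  have hSC : (S : Subgroup X) ≤ C := by
    intro s hs
    rw [hC, Subgroup.mem_centralizer_singleton_iff]
    exact (invol_central S e t ht hto s hs).symm
  have hgC : g ∈ C := by
    rw [hC, Subgroup.mem_centralizer_singleton_iff]
    exact normalizer_commutes S e t ht hto g hgN
  let SC : Sylow 2 C := S.subtype hSC
  have hSCcoe : (SC : Subgroup C) = (S : Subgroup X).subgroupOf C := rfl
  let eC : ↥(SC : Subgroup C) ≃* QuaternionGroup 2 :=
    (MulEquiv.subgroupCongr hSCcoe).trans ((Subgroup.subgroupOfEquivOfLe hSC).trans e)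
  apply quatFacts_of_sylow SC eC ⟨g, hgC⟩
  · rw [hSCcoe, Subgroup.mem_normalizer_iff]
    intro h
    rw [Subgroup.mem_subgroupOf, Subgroup.mem_subgroupOf]
    exact Subgroup.mem_normalizer_iff.mp hgN h
  · rw [Subgroup.orderOf_mk]; exact hgo
  · intro hcen
    apply hgc
    rw [Subgroup.mem_centralizer_iff]
    intro s hs
    have h1 : (⟨s, hSC hs⟩ : C) ∈ ((SC : Subgroup C) : Set C) := by
      rw [hSCcoe]; exact Subgroup.mem_subgroupOf.mpr hs
    have h2 := Subgroup.mem_centralizer_iff.mp hcen _ h1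
    exact congrArg Subtype.val h2
  · rw [hSCcoe, Subgroup.mem_subgroupOf, htC]; exact ht
  · rw [← Subgroup.orderOf_coe, htC]; exact hto
  · rw [hSCcoe, Subgroup.mem_subgroupOf, huC]; exact hu
  · rw [← Subgroup.orderOf_coe, huC]; exact huo

/-- proper subgroups of `S` are cyclic. -/
theorem isCyclic_of_lt (S : Sylow 2 X) (e : ↥(S : Subgroup X) ≃* QuaternionGroup 2)
    (Q : Subgroup X) (hQ : Q ≤ (S : Subgroup X)) (hne : Q ≠ (S : Subgroup X)) : IsCyclic Q := by
  set K : Subgroup (QuaternionGroup 2) := (Q.subgroupOf (S : Subgroup X)).map e.toMonoidHom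
    with hK
  have hKne : K ≠ ⊤ := by
    intro htop
    apply hne
    apply le_antisymm hQ
    intro s hs
    have : e ⟨s, hs⟩ ∈ K := by rw [htop]; exact Subgroup.mem_top _
    obtain ⟨y, hy, hye⟩ := this
    have hys : y = ⟨s, hs⟩ := e.injective hye
    have hy' : (y : X) ∈ Q := Subgroup.mem_subgroupOf.mp hy
    rw [hys] at hy'
    exact hy'
  haveI := isCyclic_of_ne_top K hKne
  -- `Q ≃* K`
  have e1 : Q.subgroupOf (S : Subgroup X) ≃* K := e.subgroupMap _
  have e2 : Q.subgroupOf (S : Subgroup X) ≃* Q := Subgroup.subgroupOfEquivOfLe hQ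
  exact isCyclic_of_surjective (e2.toMonoidHom.comp e1.symm.toMonoidHom)
    (e2.surjective.comp e1.symm.surjective)

/-- If the Sylow `2`-subgroup `S ≅ Q₈` has no normal complement, some element of odd order
normalizes `S` without centralizing it. -/
theorem exists_odd_of_no_complement (S : Sylow 2 X) (e : ↥(S : Subgroup X) ≃* QuaternionGroup 2)
    (hno : ¬ ∃ N : Subgroup X, N.Normal ∧ N.IsComplement' (S : Subgroup X)) :
    ∃ g ∈ Subgroup.normalizer ((S : Subgroup X) : Set X), Odd (orderOf g) ∧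
      g ∉ Subgroup.centralizer ((S : Subgroup X) : Set X) := by
  haveI : Fact (Nat.Prime 2) := ⟨Nat.prime_two⟩
  by_contra hcon
  apply hno
  apply Cfsg.Agent.Lib.Helper29.FrobCond.exists_normal_complement _ S
  apply Cfsg.Agent.Lib.Helper29.frobCond_of_sylow S
  intro Q hQ g hg hcop
  have hodd : Odd (orderOf g) := Nat.Coprime.odd_of_right hcop
  by_cases hQS : Q = (S : Subgroup X)
  · by_contra hgc
    exact hcon ⟨g, hQS ▸ hg, hodd, hQS ▸ hgc⟩
  · haveI := isCyclic_of_lt S e Q hQ hQS
    exact mem_centralizer_of_isCyclic Q (S.2.to_le hQ) g hg hodd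

/-- The same under the hypotheses of the Brauer–Suzuki theorem: `O(X) = 1` and `X ≠ S`. -/
theorem exists_odd_of_oddCore_trivial (S : Sylow 2 X)
    (e : ↥(S : Subgroup X) ≃* QuaternionGroup 2)
    (hO : ∀ N : Subgroup X, N.Normal → Odd (Nat.card N) → N = ⊥) (hG : (S : Subgroup X) ≠ ⊤) :
    ∃ g ∈ Subgroup.normalizer ((S : Subgroup X) : Set X), Odd (orderOf g) ∧
      g ∉ Subgroup.centralizer ((S : Subgroup X) : Set X) := by
  haveI : Fact (Nat.Prime 2) := ⟨Nat.prime_two⟩
  apply exists_odd_of_no_complement S e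
  rintro ⟨N, hNn, hNc⟩
  apply hG
  have hNodd : Odd (Nat.card N) := by
    have h1 : Nat.card N = (S : Subgroup X).index := by
      have := hNc.card_mul_card
      have h2 := (S : Subgroup X).card_mul_index
      have hpos : 0 < Nat.card (S : Subgroup X) := Nat.card_pos
      nlinarith
    rw [h1]
    have := S.card_coprime_index
    have h8 : Nat.card (S : Subgroup X) = 8 := by
      rw [Nat.card_congr e.toEquiv, Nat.card_eq_fintype_card, QuaternionGroup.card]
    rw [h8] at this
    exact Nat.Coprime.odd_of_left (by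
      have : Nat.Coprime 2 (S : Subgroup X).index := Nat.Coprime.coprime_dvd_left (by norm_num) this
      exact this)
  have hN := hO N hNn hNodd
  rw [hN] at hNc
  exact Subgroup.isComplement'_bot_left.mp hNc

/-- **Assembly of the group-theoretic input** for the Brauer–Suzuki theorem for `Q₈`. -/
theorem exists_quatFacts (S : Sylow 2 X) (e : ↥(S : Subgroup X) ≃* QuaternionGroup 2)
    (hO : ∀ N : Subgroup X, N.Normal → Odd (Nat.card N) → N = ⊥) (hG : (S : Subgroup X) ≠ ⊤) :
    ∃ t u : X, t ∈ (S : Subgroup X) ∧ u ∈ (S : Subgroup X) ∧ orderOf t = 2 ∧ orderOf u = 4 ∧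
      QuatFacts X t u ∧
      ∀ (C : Subgroup X), C = Subgroup.centralizer {t} → ∀ (tC uC : C), (tC : X) = t →
        (uC : X) = u → QuatFacts C tC uC := by
  obtain ⟨g, hgN, hgo, hgc⟩ := exists_odd_of_oddCore_trivial S e hO hG
  set t : X := ((e.symm (a 2) : (S : Subgroup X)) : X) with htdef
  set u : X := ((e.symm (a 1) : (S : Subgroup X)) : X) with hudef
  have ht : t ∈ (S : Subgroup X) := (e.symm (a 2)).2
  have hu : u ∈ (S : Subgroup X) := (e.symm (a 1)).2
  have hto : orderOf t = 2 := by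
    rw [htdef, Subgroup.orderOf_coe, MulEquiv.orderOf_eq]
    exact orderOf_eq_prime (by decide) (by decide)
  have huo : orderOf u = 4 := by
    rw [hudef, Subgroup.orderOf_coe, MulEquiv.orderOf_eq]
    have : (a 1 : QuaternionGroup 2) ^ 2 ≠ 1 := by decide
    exact orderOf_eq_four this
  refine ⟨t, u, ht, hu, hto, huo, quatFacts_of_sylow S e g hgN hgo hgc t u ht hto hu huo, ?_⟩
  intro C hC tC uC htC huC
  exact quatFacts_centralizer S e g hgN hgo hgc t u ht hto hu huo C hC tC uC htC huC

end Cfsg.Agent.Lib.Helper29.Q8Wrap
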