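import Mathlib
import Cfsg.Agent.Lib.Helper29.Q8Wrap
import Cfsg.Agent.Lib.Helper2.QuatCenter
import Cfsg.Agent.Lib.Helper12.PComplement

/-!
# Q8 project (T4), group-theoretic induction step of the Brauer–Suzuki theorem for `Q₈` (helper29)
-/

set_option autoImplicit false
set_option linter.style.haveILetI false
set_option linter.unusedSectionVars false

namespace Cfsg.Agent.Lib.Helper29.Q8Induct

open Subgroup QuaternionGroup Cfsg.Agent.Lib.Helper29.Q8Wrap

universe u

variable {G : Type u} [Group G] [Finite G]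

set_option maxRecDepth 100000 in
theorem q8_center_fact : ∀ q : QuaternionGroup 2, (∀ r : QuaternionGroup 2, q * r = r * q) →
    q = 1 ∨ q = a 2 := by decide

theorem orderOf_conj' (g x : G) : orderOf (g * x * g⁻¹) = orderOf x := by
  have : g * x * g⁻¹ = MulAut.conj g x := by simp
  rw [this, MulEquiv.orderOf_eq]

/-- a normal `2`-subgroup lies in the Sylow `2`-subgroup `S`. -/
theorem normal_two_le_sylow (S : Sylow 2 G) (L : Subgroup G) [hL : L.Normal] (hL2 : IsPGroup 2 L) :
    L ≤ (S : Subgroup G) := by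
  haveI : Fact (Nat.Prime 2) := ⟨Nat.prime_two⟩
  obtain ⟨Q, hQ⟩ := hL2.exists_le_sylow
  obtain ⟨g, hg⟩ := MulAction.exists_smul_eq G S Q
  intro x hx
  have h1 : g * x * g⁻¹ ∈ L := hL.conj_mem x hx g
  have h2 : g * x * g⁻¹ ∈ (g • S : Sylow 2 G) := by rw [hg]; exact hQ h1
  have h3 := (Cfsg.Agent.Lib.Helper29.mem_smul_sylow_iff g _ S).mp h2
  have e : g⁻¹ * (g * x * g⁻¹) * g = x := by group
  rwa [e] at h3

/-- central `2`-elements lie in `S`. -/
theorem central_two_mem_sylow (S : Sylow 2 G) (x : G) (hx : x ∈ center G)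
    (hx2 : ∃ k : ℕ, x ^ 2 ^ k = 1) : x ∈ (S : Subgroup G) := by
  haveI : Fact (Nat.Prime 2) := ⟨Nat.prime_two⟩
  have hp : IsPGroup 2 (zpowers x) := by
    obtain ⟨k, hk⟩ := hx2
    rintro ⟨y, hy⟩
    obtain ⟨j, rfl⟩ := mem_zpowers_iff.mp hy
    refine ⟨k, Subtype.ext ?_⟩
    simp only [Subgroup.coe_pow, Subgroup.coe_one]
    rw [← zpow_natCast, ← zpow_mul, mul_comm, zpow_mul, zpow_natCast, hk, one_zpow]
  haveI : (zpowers x).Normal := by
    constructor
    intro y hy g
    obtain ⟨j, rfl⟩ := mem_zpowers_iff.mp hy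
    have hc : x ^ j ∈ center G := (center G).zpow_mem hx j
    have : g * x ^ j * g⁻¹ = x ^ j := by
      rw [Subgroup.mem_center_iff] at hc
      rw [hc g]; group
    rw [this]
    exact mem_zpowers_iff.mpr ⟨j, rfl⟩
  exact normal_two_le_sylow S _ hp (mem_zpowers x)

/-- **`|Z(G)| = 2`** once the involution of `S ≅ Q₈` is central (and `O(G) = 1`). -/
theorem card_center_eq_two (S : Sylow 2 G) (e : ↥(S : Subgroup G) ≃* QuaternionGroup 2)
    (hO : ∀ N : Subgroup G, N.Normal → Odd (Nat.card N) → N = ⊥)
    (t : G) (ht : t ∈ (S : Subgroup G)) (hto : orderOf t = 2) (htc : t ∈ center G) :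
    Nat.card (center G) = 2 := by
  have ht1 : t ≠ 1 := by
    intro h
    rw [h, orderOf_one] at hto
    omega
  -- central elements of odd order are trivial
  have hodd : ∀ y : center G, Odd (orderOf y) → y = 1 := by
    intro y hy
    have hyc : (y : G) ∈ center G := y.2
    haveI : (zpowers (y : G)).Normal := by
      constructor
      intro w hw g
      obtain ⟨j, rfl⟩ := mem_zpowers_iff.mp hw
      have hc : (y : G) ^ j ∈ center G := (center G).zpow_mem hyc j
      have : g * (y : G) ^ j * g⁻¹ = (y : G) ^ j := by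
        rw [Subgroup.mem_center_iff] at hc
        rw [hc g]; group
      rw [this]
      exact mem_zpowers_iff.mpr ⟨j, rfl⟩
    have h1 := hO (zpowers (y : G)) inferInstance (by
      rw [Nat.card_zpowers, Subgroup.orderOf_coe]; exact hy)
    have h2 : (y : G) ∈ (⊥ : Subgroup G) := by rw [← h1]; exact mem_zpowers _
    exact Subtype.ext (Subgroup.mem_bot.mp h2)
  have hall : ∀ x ∈ center G, x = 1 ∨ x = t := by
    intro x hx
    obtain ⟨k, hk⟩ := Cfsg.Agent.Lib.Helper2.exists_pow_two_pow_eq_one_of_odd hodd ⟨x, hx⟩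
    have hk' : x ^ 2 ^ k = 1 := by
      have := congrArg Subtype.val hk
      simpa using this
    have hxS := central_two_mem_sylow S x hx ⟨k, hk'⟩
    have hcen : ∀ r : QuaternionGroup 2, e ⟨x, hxS⟩ * r = r * e ⟨x, hxS⟩ := by
      intro r
      obtain ⟨s, rfl⟩ := e.surjective r
      rw [← map_mul, ← map_mul]
      congr 1
      apply Subtype.ext
      simp only [Subgroup.coe_mul]
      exact ((Subgroup.mem_center_iff.mp hx) s).symm
    rcases q8_center_fact _ hcen with h | h
    · left
      have : (⟨x, hxS⟩ : (S : Subgroup G)) = 1 := e.injective (by rw [h, map_one])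
      exact congrArg Subtype.val this
    · right
      have : (⟨x, hxS⟩ : (S : Subgroup G)) = ⟨t, ht⟩ :=
        e.injective (by rw [h, map_invol S e t ht hto])
      exact congrArg Subtype.val this
  rw [Nat.card_eq_two_iff' (1 : center G)]
  refine ⟨⟨t, htc⟩, ?_, ?_⟩
  · intro h
    exact ht1 (congrArg Subtype.val h)
  · rintro ⟨y, hy⟩ hy1
    rcases hall y hy with h | h
    · exact absurd (Subtype.ext h) hy1
    · exact Subtype.ext h

/-- `O(L) = 1` for a normal subgroup `L` of a group with `O(G) = 1`. -/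
theorem oddCore_trivial_of_normal
    (hO : ∀ N : Subgroup G, N.Normal → Odd (Nat.card N) → N = ⊥) (L : Subgroup G) [hL : L.Normal]
    (N : Subgroup L) (hN : N.Normal) (hNodd : Odd (Nat.card N)) : N = ⊥ := by
  haveI := Cfsg.Agent.Lib.Helper12.pPrimeCore_characteristic (G := L) 2
  have h1 : ((Cfsg.pPrimeCore 2 L).map L.subtype).Normal := inferInstance
  have h2 : Odd (Nat.card ((Cfsg.pPrimeCore 2 L).map L.subtype)) := by
    rw [Subgroup.card_map_of_injective L.subtype_injective]
    exact Nat.coprime_two_right.mp (Cfsg.Agent.Lib.Helper12.pPrimeCore_coprime 2)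
  have h3 := hO _ h1 h2
  have h4 : Cfsg.pPrimeCore 2 L = ⊥ :=
    (Subgroup.map_eq_bot_iff_of_injective _ L.subtype_injective).mp h3
  have h5 := Cfsg.Agent.Lib.Helper12.le_pPrimeCore 2 N hN (Nat.coprime_two_right.mpr hNodd)
  rw [h4] at h5
  exact le_bot_iff.mp h5

/-- **The induction step**: a proper normal subgroup containing the involution `t` of the Sylow
`2`-subgroup `S ≅ Q₈` forces `t` to be central, given the theorem for smaller groups. -/
theorem central_of_proper_normal (S : Sylow 2 G) (e : ↥(S : Subgroup G) ≃* QuaternionGroup 2)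
    (hO : ∀ N : Subgroup G, N.Normal → Odd (Nat.card N) → N = ⊥)
    (IH : ∀ (H : Type u) [Group H] [Finite H], Nat.card H < Nat.card G → ∀ S' : Sylow 2 H,
      Nonempty (↥(S' : Subgroup H) ≃* QuaternionGroup 2) →
      (∀ N : Subgroup H, N.Normal → Odd (Nat.card N) → N = ⊥) → Nat.card (center H) = 2)
    (t : G) (ht : t ∈ (S : Subgroup G)) (hto : orderOf t = 2)
    (L : Subgroup G) [hLn : L.Normal] (hL : L ≠ ⊤) (htL : t ∈ L) : t ∈ center G := by
  haveI : Fact (Nat.Prime 2) := ⟨Nat.prime_two⟩
  have ht1 : t ≠ 1 := by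
    intro h
    rw [h, orderOf_one] at hto
    omega
  have hOL := oddCore_trivial_of_normal hO L
  -- it suffices that all conjugates of `t` equal `t`
  suffices hconj : ∀ g : G, g * t * g⁻¹ = t by
    rw [Subgroup.mem_center_iff]
    intro g
    calc g * t = (g * t * g⁻¹) * g := by group
      _ = t * g := by rw [hconj g]
  by_cases hSL : (S : Subgroup G) ≤ L
  · -- `L` has Sylow `2`-subgroup `S ≅ Q₈`
    let SL : Sylow 2 L := S.subtype hSL
    have hSLcoe : (SL : Subgroup L) = (S : Subgroup G).subgroupOf L := rfl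
    let eL : ↥(SL : Subgroup L) ≃* QuaternionGroup 2 :=
      (MulEquiv.subgroupCongr hSLcoe).trans ((Subgroup.subgroupOfEquivOfLe hSL).trans e)
    have hlt : Nat.card L < Nat.card G := by
      rw [← Subgroup.card_top (G := G)]
      exact Cfsg.Agent.Lib.Helper29.card_lt_card_of_lt' (lt_top_iff_ne_top.mpr hL)
    have hZL := IH L hlt SL ⟨eL⟩ hOL
    -- the involution of `Z(L)` is `t`
    have h2Z : 2 ∣ Nat.card (center L) := by rw [hZL]
    obtain ⟨z', hz'⟩ := exists_prime_orderOf_dvd_card' 2 h2Z
    have hz'c : (z' : L) ∈ center L := z'.2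
    have hz'o : orderOf ((z' : L) : G) = 2 := by
      rw [Subgroup.orderOf_coe, Subgroup.orderOf_coe, hz']
    have hz'S : ((z' : L) : G) ∈ (S : Subgroup G) := by
      have hp : IsPGroup 2 (zpowers (z' : L)) := by
        apply IsPGroup.of_card (n := 1)
        rw [Nat.card_zpowers, Subgroup.orderOf_coe, hz', pow_one]
      obtain ⟨Q, hQ⟩ := hp.exists_le_sylow
      obtain ⟨g, hg⟩ := MulAction.exists_smul_eq L SL Q
      have h2 : (z' : L) ∈ (g • SL : Sylow 2 L) := by rw [hg]; exact hQ (mem_zpowers _)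
      have h3 := (Cfsg.Agent.Lib.Helper29.mem_smul_sylow_iff g _ SL).mp h2
      have h4 : g⁻¹ * (z' : L) * g = (z' : L) := by
        have := Subgroup.mem_center_iff.mp hz'c g
        rw [mul_assoc, ← this]; group
      rw [h4] at h3
      exact Subgroup.mem_subgroupOf.mp h3
    have hz't : ((z' : L) : G) = t := invol_unique S e _ _ hz'S hz'o ht hto
    have htcL : (⟨t, htL⟩ : L) ∈ center L := by
      have : (⟨t, htL⟩ : L) = (z' : L) := Subtype.ext hz't.symm
      rw [this]; exact hz'c
    intro g
    -- `g t g⁻¹` is central in `L`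
    have hgL : g * t * g⁻¹ ∈ L := hLn.conj_mem t htL g
    have hgc : (⟨g * t * g⁻¹, hgL⟩ : L) ∈ center L := by
      rw [Subgroup.mem_center_iff]
      intro l
      apply Subtype.ext
      simp only [Subgroup.coe_mul]
      have hl' : g⁻¹ * (l : G) * g ∈ L := by
        have := hLn.conj_mem (l : G) l.2 g⁻¹
        simpa using this
      have hcomm : (g⁻¹ * (l : G) * g) * t = t * (g⁻¹ * (l : G) * g) := by
        have := Subgroup.mem_center_iff.mp htcL ⟨_, hl'⟩
        exact congrArg Subtype.val this
      calc (l : G) * (g * t * g⁻¹) = g * ((g⁻¹ * (l : G) * g) * t) * g⁻¹ := by group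
        _ = g * (t * (g⁻¹ * (l : G) * g)) * g⁻¹ := by rw [hcomm]
        _ = g * t * g⁻¹ * (l : G) := by group
    obtain ⟨w, -, hw⟩ := (Nat.card_eq_two_iff' (1 : center L)).mp hZL
    have h1 : (⟨⟨t, htL⟩, htcL⟩ : center L) = w := hw _ (by
      intro h
      exact ht1 (congrArg (fun x : center L => ((x : L) : G)) h))
    have h2 : (⟨⟨g * t * g⁻¹, hgL⟩, hgc⟩ : center L) = w := hw _ (by
      intro h
      have h' : g * t * g⁻¹ = 1 := congrArg (fun x : center L => ((x : L) : G)) h
      apply ht1
      have : t = g⁻¹ * (g * t * g⁻¹) * g := by group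
      rw [this, h']; group)
    have h3 := h2.trans h1.symm
    exact congrArg (fun x : center L => ((x : L) : G)) h3
  · -- `S ∩ L` is cyclic, so `L` is a `2`-group inside `S`
    set T : Subgroup G := (S : Subgroup G) ⊓ L with hT
    have hTne : T ≠ (S : Subgroup G) := by
      intro h
      apply hSL
      rw [← h]; exact inf_le_right
    haveI hTcyc : IsCyclic T := isCyclic_of_lt S e T inf_le_left hTne
    have hidx : ¬ 2 ∣ (T.subgroupOf L).index := by
      have := Cfsg.Agent.Lib.Helper12.sylow_inf_relIndex S ⊤ L le_top le_top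
        (fun h _ k hk => hLn.conj_mem k hk h)
      exact this
    have hTp : IsPGroup 2 (T.subgroupOf L) := (S.2.to_le inf_le_left).comap_subtype
    let TL : Sylow 2 L := hTp.toSylow hidx
    have hTLcoe : (TL : Subgroup L) = T.subgroupOf L := rfl
    have hTLcyc : IsCyclic (TL : Subgroup L) := by
      rw [hTLcoe]
      have e1 : T.subgroupOf L ≃* T := Subgroup.subgroupOfEquivOfLe inf_le_right
      exact isCyclic_of_surjective e1.symm.toMonoidHom e1.symm.surjective
    obtain ⟨N₀, hN₀odd, hN₀mem⟩ :=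
      Cfsg.Agent.Lib.Helper2.exists_odd_subgroup_of_cyclic_sylow TL hTLcyc
    -- the subgroup generated by the elements of odd order of `L`
    set M : Subgroup G := closure {x : G | x ∈ L ∧ Odd (orderOf x)} with hM
    have hMn : M.Normal := by
      constructor
      intro x hx g
      have hmap : M.map (MulAut.conj g).toMonoidHom ≤ M := by
        rw [hM, MonoidHom.map_closure, closure_le]
        rintro _ ⟨y, ⟨hyL, hyo⟩, rfl⟩
        apply Subgroup.subset_closure
        refine ⟨hLn.conj_mem y hyL g, ?_⟩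
        show Odd (orderOf (g * y * g⁻¹))
        rw [orderOf_conj']; exact hyo
      have := hmap ⟨x, hx, rfl⟩
      simpa using this
    have hMle : M ≤ N₀.map L.subtype := by
      rw [hM, closure_le]
      rintro x ⟨hxL, hxo⟩
      refine ⟨⟨x, hxL⟩, hN₀mem _ ?_, rfl⟩
      rw [Subgroup.orderOf_mk]; exact hxo
    have hModd : Odd (Nat.card M) := by
      have h1 : Nat.card M ∣ Nat.card (N₀.map L.subtype) := Subgroup.card_dvd_of_le hMle
      rw [Subgroup.card_map_of_injective L.subtype_injective] at h1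
      have h2 : Odd (Nat.card N₀) := Nat.odd_iff.mpr (Nat.two_dvd_ne_zero.mp hN₀odd)
      exact Odd.of_dvd_nat h2 h1
    have hMbot := hO M hMn hModd
    have hLodd : ∀ y : L, Odd (orderOf y) → y = 1 := by
      intro y hy
      have : (y : G) ∈ M := Subgroup.subset_closure ⟨y.2, by rw [Subgroup.orderOf_coe]; exact hy⟩
      rw [hMbot, Subgroup.mem_bot] at this
      exact Subtype.ext this
    have hL2 : IsPGroup 2 L := fun x =>
      Cfsg.Agent.Lib.Helper2.exists_pow_two_pow_eq_one_of_odd hLodd x
    have hLS : L ≤ (S : Subgroup G) := normal_two_le_sylow S L hL2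
    intro g
    exact invol_unique S e _ _ (hLS (hLn.conj_mem t htL g)) (by rw [orderOf_conj', hto]) ht hto

/-- **Brauer–Suzuki for `Q₈` from the existence of proper normal subgroups**: strong induction. -/
theorem brauer_suzuki_q8_of_step
    (hstep : ∀ (H : Type u) [Group H] [Finite H] (S' : Sylow 2 H)
      (_ : ↥(S' : Subgroup H) ≃* QuaternionGroup 2),
      (∀ N : Subgroup H, N.Normal → Odd (Nat.card N) → N = ⊥) → (S' : Subgroup H) ≠ ⊤ →
      ∀ t ∈ (S' : Subgroup H), orderOf t = 2 → ∃ L : Subgroup H, L.Normal ∧ L ≠ ⊤ ∧ t ∈ L) :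
    ∀ (n : ℕ) (H : Type u) [Group H] [Finite H], Nat.card H = n → ∀ (S' : Sylow 2 H),
      Nonempty (↥(S' : Subgroup H) ≃* QuaternionGroup 2) →
      (∀ N : Subgroup H, N.Normal → Odd (Nat.card N) → N = ⊥) → Nat.card (center H) = 2 := by
  intro n
  induction n using Nat.strong_induction_on with
  | _ n ih =>
    intro H _ _ hn S' ⟨e'⟩ hO'
    -- the involution of `S'`
    set t : H := ((e'.symm (a 2) : (S' : Subgroup H)) : H) with htdef
    have ht : t ∈ (S' : Subgroup H) := (e'.symm (a 2)).2
    have hto : orderOf t = 2 := by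
      rw [htdef, Subgroup.orderOf_coe, MulEquiv.orderOf_eq]
      exact orderOf_eq_prime (by decide) (by decide)
    by_cases hS : (S' : Subgroup H) = ⊤
    · -- `H = S'`
      have htc : t ∈ center H := by
        rw [Subgroup.mem_center_iff]
        intro g
        have hg : g ∈ (S' : Subgroup H) := by rw [hS]; exact mem_top g
        exact (invol_central S' e' t ht hto g hg).symm
      exact card_center_eq_two S' e' hO' t ht hto htc
    · obtain ⟨L, hLn, hL, htL⟩ := hstep H S' e' hO' hS t ht hto
      haveI := hLn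
      have IH : ∀ (K : Type u) [Group K] [Finite K], Nat.card K < Nat.card H →
          ∀ S'' : Sylow 2 K, Nonempty (↥(S'' : Subgroup K) ≃* QuaternionGroup 2) →
          (∀ N : Subgroup K, N.Normal → Odd (Nat.card N) → N = ⊥) → Nat.card (center K) = 2 := by
        intro K _ _ hK S'' hS'' hO''
        exact ih (Nat.card K) (hn ▸ hK) K rfl S'' hS'' hO''
      have htc := central_of_proper_normal S' e' hO' IH t ht hto L hL htL
      exact card_center_eq_two S' e' hO' t ht hto htc

end Cfsg.Agent.Lib.Helper29.Q8Induct
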