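import Mathlib
import Cfsg.Agent.Lib.Lead.Q8Facts

/-!
# (T3) the quotient by the central involution of a `QuatFacts` group (helper29)
-/

set_option autoImplicit false
set_option linter.style.haveILetI false
set_option linter.unusedSectionVars false

namespace Cfsg.Agent.Lib.Helper29.Q8Klein

open Cfsg Cfsg.Agent.CharLib

universe u

variable {X : Type u} [Group X] {t u : X}

theorem finite_of_quatFacts (h : QuatFacts X t u) : Finite X := by
  apply Nat.finite_of_card_ne_zero
  intro h0
  have := h.card_two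
  rw [h0] at this
  simp at this

theorem t_mul_self (h : QuatFacts X t u) : t * t = 1 := by
  rw [← pow_two, ← h.orderOf_t]; exact pow_orderOf_eq_one t

theorem t_ne_one (h : QuatFacts X t u) : t ≠ 1 := by
  intro h1
  have := h.orderOf_t
  rw [h1, orderOf_one] at this
  omega

theorem mem_zpowers_t (h : QuatFacts X t u) {x : X} (hx : x ∈ Subgroup.zpowers t) :
    x = 1 ∨ x = t := by
  obtain ⟨k, rfl⟩ := Subgroup.mem_zpowers_iff.mp hx
  rcases Int.even_or_odd' k with ⟨m, rfl | rfl⟩
  · left
    rw [zpow_mul, zpow_two, t_mul_self h, one_zpow]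
  · right
    rw [zpow_add, zpow_mul, zpow_two, t_mul_self h, one_zpow, one_mul, zpow_one]

/-- the square of a `2`-element lies in `⟨t⟩`; moreover the element is `1`, `t` or conjugate
to `u`. -/
theorem two_elt_cases (h : QuatFacts X t u) (hc : ∀ x, x * t = t * x) (x : X)
    (hx : ∃ k : ℕ, orderOf x = 2 ^ k) : x = 1 ∨ x = t ∨ IsConj x u := by
  rcases h.two_elt x hx with h1 | h1 | h1
  · exact Or.inl h1
  · right; left
    obtain ⟨c, hcx⟩ := isConj_iff.mp h1
    have : x = c⁻¹ * t * c := by rw [← hcx]; group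
    rw [this, mul_assoc, ← hc, inv_mul_cancel_left]
  · exact Or.inr (Or.inr h1)

theorem sq_mem_of_two_elt (h : QuatFacts X t u) (hc : ∀ x, x * t = t * x) (x : X)
    (hx : ∃ k : ℕ, orderOf x = 2 ^ k) : x * x ∈ Subgroup.zpowers t := by
  rcases two_elt_cases h hc x hx with h1 | h1 | h1
  · rw [h1, one_mul]; exact one_mem _
  · rw [h1, t_mul_self h]; exact one_mem _
  · obtain ⟨c, hcx⟩ := isConj_iff.mp h1
    have : x * x = c⁻¹ * (u * u) * c := by rw [← hcx]; group
    rw [this, h.sq_u, mul_assoc, ← hc, inv_mul_cancel_left]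
    exact Subgroup.mem_zpowers t

variable [hn : (Subgroup.zpowers t).Normal]

/-- a lift of a `2`-element of the quotient is a `2`-element. -/
theorem two_elt_of_quotient (h : QuatFacts X t u) (x : X) (j : ℕ)
    (hx : (QuotientGroup.mk' (Subgroup.zpowers t) x) ^ 2 ^ j = 1) :
    ∃ k : ℕ, orderOf x = 2 ^ k := by
  rw [← map_pow] at hx
  have hmem : x ^ 2 ^ j ∈ Subgroup.zpowers t := (QuotientGroup.eq_one_iff _).mp hx
  have h2 : x ^ 2 ^ (j + 1) = 1 := by
    rw [pow_succ, pow_mul, pow_two]
    rcases mem_zpowers_t h hmem with h1 | h1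
    · rw [h1, one_mul]
    · rw [h1, t_mul_self h]
  exact (Nat.dvd_prime_pow Nat.prime_two).mp (orderOf_dvd_of_pow_eq_one h2) |>.imp fun k hk => hk.2

theorem card_quotient (h : QuatFacts X t u) :
    (Nat.card (X ⧸ Subgroup.zpowers t)).factorization 2 = 2 := by
  haveI := finite_of_quatFacts h
  have h1 := Subgroup.card_eq_card_quotient_mul_card_subgroup (Subgroup.zpowers t)
  rw [Nat.card_zpowers, h.orderOf_t] at h1
  have h2 := h.card_two
  rw [h1, Nat.factorization_mul Nat.card_pos.ne' (by norm_num)] at h2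
  simp only [Finsupp.coe_add, Pi.add_apply] at h2
  have h3 : (2 : ℕ).factorization 2 = 1 := Nat.Prime.factorization_self Nat.prime_two
  omega

/-- **(T3)** -/
theorem klein_quotient_of_quatFacts (h : QuatFacts X t u) (hc : ∀ x, x * t = t * x) :
    (∃ P : Sylow 2 (X ⧸ Subgroup.zpowers t),
      IsKleinFour (P : Subgroup (X ⧸ Subgroup.zpowers t))) ∧
    ∀ s s' : X ⧸ Subgroup.zpowers t, orderOf s = 2 → orderOf s' = 2 → IsConj s s' := by
  haveI := finite_of_quatFacts h
  haveI : Fact (Nat.Prime 2) := ⟨Nat.prime_two⟩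
  constructor
  · obtain ⟨P⟩ : Nonempty (Sylow 2 (X ⧸ Subgroup.zpowers t)) := inferInstance
    refine ⟨P, ?_⟩
    have hcard : Nat.card (P : Subgroup (X ⧸ Subgroup.zpowers t)) = 4 := by
      rw [Sylow.card_eq_multiplicity, card_quotient h]; norm_num
    have hsq : ∀ y : (P : Subgroup (X ⧸ Subgroup.zpowers t)), y ^ 2 = 1 := by
      rintro ⟨y, hy⟩
      obtain ⟨x, rfl⟩ := QuotientGroup.mk'_surjective (Subgroup.zpowers t) y
      obtain ⟨j, hj⟩ := P.2 ⟨_, hy⟩
      have hj' : (QuotientGroup.mk' (Subgroup.zpowers t) x) ^ 2 ^ j = 1 := by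
        have := congrArg Subtype.val hj
        simpa using this
      have hx2 := sq_mem_of_two_elt h hc x (two_elt_of_quotient h x j hj')
      apply Subtype.ext
      simp only [Subgroup.coe_pow, Subgroup.coe_one]
      rw [pow_two, ← map_mul]
      exact (QuotientGroup.eq_one_iff _).mpr hx2
    refine ⟨hcard, ?_⟩
    have hdvd : Monoid.exponent (P : Subgroup (X ⧸ Subgroup.zpowers t)) ∣ 2 :=
      Monoid.exponent_dvd_of_forall_pow_eq_one hsq
    rcases (Nat.dvd_prime Nat.prime_two).mp hdvd with h1 | h1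
    · exfalso
      have hsub : Subsingleton (P : Subgroup (X ⧸ Subgroup.zpowers t)) :=
        Monoid.exp_eq_one_iff.mp h1
      have : Nat.card (P : Subgroup (X ⧸ Subgroup.zpowers t)) = 1 := Nat.card_unique
      omega
    · exact h1
  · have key : ∀ s : X ⧸ Subgroup.zpowers t, orderOf s = 2 →
        IsConj s (QuotientGroup.mk' (Subgroup.zpowers t) u) := by
      intro s hs
      obtain ⟨x, rfl⟩ := QuotientGroup.mk'_surjective (Subgroup.zpowers t) s
      have hx1 : (QuotientGroup.mk' (Subgroup.zpowers t) x) ^ 2 ^ 1 = 1 := by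
        rw [pow_one, ← hs]; exact pow_orderOf_eq_one _
      have hne : QuotientGroup.mk' (Subgroup.zpowers t) x ≠ 1 := by
        intro h1
        rw [h1, orderOf_one] at hs
        omega
      rcases two_elt_cases h hc x (two_elt_of_quotient h x 1 hx1) with h1 | h1 | h1
      · exact absurd (by rw [h1, map_one]) hne
      · exfalso; apply hne
        rw [h1]
        exact (QuotientGroup.eq_one_iff _).mpr (Subgroup.mem_zpowers t)
      · exact (QuotientGroup.mk' (Subgroup.zpowers t)).map_isConj h1
    intro s s' hs hs'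
    exact (key s hs).trans (key s' hs').symm

end Cfsg.Agent.Lib.Helper29.Q8Klein
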