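import Mathlib

namespace Cfsg.Agent.Lib.Helper29.QuadPair

open Polynomial

section eigen

variable {K : Type*} [Field K] [Fintype K] {p : ℕ} [Fact p.Prime] [CharP K p]

theorem splits_X_pow_sub_one (e : ℕ) :
    Splits (X ^ (p ^ e * (Fintype.card K - 1)) - 1 : K[X]) := by
  have hq : 1 < Fintype.card K := Fintype.one_lt_card
  have h1 : Splits (X ^ Fintype.card K - X : K[X]) := by
    rw [splits_iff_card_roots, FiniteField.roots_X_pow_card_sub_X,
      FiniteField.X_pow_card_sub_X_natDegree_eq K hq]
    simp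
  have h2 : (X ^ (Fintype.card K - 1) - 1 : K[X]) ∣ X ^ Fintype.card K - X := by
    refine ⟨X, ?_⟩
    have : Fintype.card K = (Fintype.card K - 1) + 1 := by omega
    conv_lhs => rw [this]
    ring
  have h3 : Splits (X ^ (Fintype.card K - 1) - 1 : K[X]) :=
    h1.of_dvd (FiniteField.X_pow_card_sub_X_ne_zero K hq) h2
  have h4 : (X ^ (p ^ e * (Fintype.card K - 1)) - 1 : K[X]) =
      (X ^ (Fintype.card K - 1) - 1) ^ p ^ e := by
    rw [sub_pow_char_pow, one_pow, ← pow_mul, mul_comm]
  rw [h4]
  exact h3.pow _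

theorem exists_eigenvector {W : Type*} [AddCommGroup W] [Module K W] [FiniteDimensional K W]
    [Nontrivial W] (x : Module.End K W) (e : ℕ)
    (hx : x ^ (p ^ e * (Fintype.card K - 1)) = 1) :
    ∃ μ : K, ∃ w : W, w ≠ 0 ∧ x w = μ • w := by
  set m := p ^ e * (Fintype.card K - 1) with hm
  have hq : 1 < Fintype.card K := Fintype.one_lt_card
  have hmpos : 0 < m := Nat.mul_pos (pow_pos (Fact.out : p.Prime).pos _) (by omega)
  have hne : (X ^ m - 1 : K[X]) ≠ 0 := by
    exact X_pow_sub_C_ne_zero hmpos (1 : K) |> fun h => by simpa using h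
  have hdvd : minpoly K x ∣ X ^ m - 1 := by
    apply minpoly.dvd
    simp [hx]
  have hs : Splits (minpoly K x) := (splits_X_pow_sub_one (K := K) (p := p) e).of_dvd hne hdvd
  have hint : IsIntegral K x := Algebra.IsIntegral.isIntegral x
  have hdeg : degree (minpoly K x) ≠ 0 := by
    have := minpoly.degree_pos hint
    exact this.ne'
  obtain ⟨μ, hμ⟩ := hs.exists_eval_eq_zero hdeg
  have hev : x.HasEigenvalue μ := Module.End.hasEigenvalue_of_isRoot hμ
  obtain ⟨w, hw⟩ := hev.exists_hasEigenvector
  exact ⟨μ, w, hw.2, hw.apply_eq_smul⟩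


end eigen

variable {K : Type*} [Field K]

section basics

variable {G : Type*} [Group G] {W : Type*} [AddCommGroup W] [Module K W]

/-- `a` acts quadratically in the representation `ρ`. -/
def IsQuad (ρ : Representation K G W) (a : G) : Prop :=
  ∀ w : W, ρ a (ρ a w - w) = ρ a w - w

theorem IsQuad.sq {ρ : Representation K G W} {a : G} (h : IsQuad ρ a) (w : W) :
    ρ a (ρ a w) = ρ a w + ρ a w - w := by
  have := h w
  rw [map_sub] at this
  rw [sub_eq_iff_eq_add] at this
  rw [this]; abel

theorem IsQuad.inv_apply {ρ : Representation K G W} {a : G} (h : IsQuad ρ a) (w : W) :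
    ρ a⁻¹ w = w + w - ρ a w := by
  rw [Representation.inv_apply_eq_iff, map_sub, map_add, h.sq]
  abel

theorem IsQuad.comap_inv {ρ : Representation K G W} {a : G} (h : IsQuad ρ a)
    {U : Submodule K W} (hU : U ≤ U.comap (ρ a)) : U ≤ U.comap (ρ a⁻¹) := by
  intro u hu
  rw [Submodule.mem_comap, h.inv_apply]
  exact U.sub_mem (U.add_mem hu hu) (hU hu)

/-- invariance under generators with inverses gives invariance under the whole group -/
theorem invariant_of_closure {ρ : Representation K G W} {S : Set G}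
    (hS : Subgroup.closure S = ⊤) {U : Submodule K W}
    (h1 : ∀ s ∈ S, U ≤ U.comap (ρ s)) (h2 : ∀ s ∈ S, U ≤ U.comap (ρ s⁻¹)) :
    ∀ g, U ≤ U.comap (ρ g) := by
  intro g
  have hg : g ∈ Subgroup.closure S := hS ▸ Subgroup.mem_top g
  have key : U ≤ U.comap (ρ g) ∧ U ≤ U.comap (ρ g⁻¹) := by
    induction hg using Subgroup.closure_induction with
    | mem x hx => exact ⟨h1 x hx, h2 x hx⟩
    | one => simp [Submodule.comap_id, Module.End.one_eq_id]
    | mul x y _ _ hx hy =>
      refine ⟨?_, ?_⟩
      · intro u hu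
        rw [Submodule.mem_comap, map_mul, Module.End.mul_apply]
        exact hx.1 (hy.1 hu)
      · intro u hu
        rw [Submodule.mem_comap, mul_inv_rev, map_mul, Module.End.mul_apply]
        exact hy.2 (hx.2 hu)
    | inv x _ hx => exact ⟨hx.2, by simpa using hx.1⟩
  exact key.1

/-- `(1+N)^k = 1 + k N` when `N^2 = 0`. -/
theorem pow_of_sq_zero (f : Module.End K W) (hf : (f - 1) * (f - 1) = 0) (k : ℕ) :
    f ^ k = 1 + k • (f - 1) := by
  induction k with
  | zero => simp
  | succ k ih =>
    rw [pow_succ, ih]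
    set N := f - 1 with hN
    have : f = 1 + N := by rw [hN]; abel
    rw [this, add_mul, mul_add, mul_add]
    simp only [smul_mul_assoc, hf, mul_one, one_mul, smul_zero, add_zero, succ_nsmul]
    abel

theorem pow_char_of_sq_zero {p : ℕ} [CharP K p] (f : Module.End K W)
    (hf : (f - 1) * (f - 1) = 0) : f ^ p = 1 := by
  rw [pow_of_sq_zero f hf, ← Nat.cast_smul_eq_nsmul K, CharP.cast_eq_zero K p, zero_smul, add_zero]

theorem IsQuad.sq_zero {ρ : Representation K G W} {a : G} (h : IsQuad ρ a) :
    (ρ a - 1) * (ρ a - 1) = 0 := by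
  ext w
  simp only [Module.End.mul_apply, LinearMap.sub_apply, Module.End.one_apply, map_sub,
    LinearMap.zero_apply]
  rw [h.sq]; abel

theorem IsQuad.pow_char {p : ℕ} [CharP K p] {ρ : Representation K G W} {a : G} (h : IsQuad ρ a) :
    ρ (a ^ p) = 1 := by
  rw [map_pow]; exact pow_char_of_sq_zero _ h.sq_zero

end basics

section subquot

variable {G : Type*} [Group G] {W : Type*} [AddCommGroup W] [Module K W]
variable (ρ : Representation K G W) (U : Submodule K W) (hU : ∀ g, U ≤ U.comap (ρ g))

theorem sub_apply (g : G) (u : U) : ((ρ.subrepresentation U hU g u : U) : W) = ρ g u := rfl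

theorem quot_apply (g : G) (w : W) :
    ρ.quotient U hU g (Submodule.Quotient.mk w) = Submodule.Quotient.mk (ρ g w) := rfl

theorem IsQuad.sub {ρ : Representation K G W} {a : G} (h : IsQuad ρ a) (U : Submodule K W)
    (hU : ∀ g, U ≤ U.comap (ρ g)) : IsQuad (ρ.subrepresentation U hU) a := by
  intro u
  apply Subtype.ext
  simp only [Submodule.coe_sub, sub_apply]
  exact h u

theorem IsQuad.quot {ρ : Representation K G W} {a : G} (h : IsQuad ρ a) (U : Submodule K W)
    (hU : ∀ g, U ≤ U.comap (ρ g)) : IsQuad (ρ.quotient U hU) a := by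
  intro x
  induction x using Submodule.Quotient.induction_on with
  | _ w =>
    simp only [quot_apply, ← Submodule.Quotient.mk_sub]
    rw [h w]

theorem sub_eq_one {g : G} (h : ρ g = 1) : ρ.subrepresentation U hU g = 1 := by
  ext u
  simp only [sub_apply, h, Module.End.one_apply]

theorem quot_eq_one {g : G} (h : ρ g = 1) : ρ.quotient U hU g = 1 := by
  ext w
  simp only [LinearMap.coe_comp, Function.comp_apply, Submodule.mkQ_apply, quot_apply, h,
    Module.End.one_apply]

theorem pgroup_of_sub_quot {p : ℕ} [CharP K p]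
    (h1 : ∀ g, ∃ i, ρ.subrepresentation U hU (g ^ p ^ i) = 1)
    (h2 : ∀ g, ∃ i, ρ.quotient U hU (g ^ p ^ i) = 1) : ∀ g, ∃ i, ρ (g ^ p ^ i) = 1 := by
  intro g
  obtain ⟨i, hi⟩ := h1 g
  obtain ⟨j, hj⟩ := h2 g
  set h := g ^ p ^ (i + j) with hh
  have e1 : ρ.subrepresentation U hU h = 1 := by
    rw [hh, pow_add, pow_mul, map_pow, hi, one_pow]
  have e2 : ρ.quotient U hU h = 1 := by
    rw [hh, pow_add, mul_comm, pow_mul, map_pow, hj, one_pow]
  have f1 : ∀ u ∈ U, ρ h u = u := by
    intro u hu
    have := congrArg (fun f => ((f ⟨u, hu⟩ : U) : W)) e1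
    simpa [sub_apply] using this
  have f2 : ∀ w, ρ h w - w ∈ U := by
    intro w
    have := congrArg (fun f => f (Submodule.Quotient.mk w)) e2
    simp only [quot_apply, Module.End.one_apply] at this
    exact (Submodule.Quotient.eq U).mp this
  have f3 : (ρ h - 1) * (ρ h - 1) = 0 := by
    ext w
    simp only [Module.End.mul_apply, LinearMap.sub_apply, Module.End.one_apply,
      LinearMap.zero_apply]
    rw [f1 _ (f2 w), sub_self]
  refine ⟨i + j + 1, ?_⟩
  rw [pow_succ, pow_mul, ← hh, map_pow]
  exact pow_char_of_sq_zero _ f3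

end subquot

section main

variable {G : Type*} [Group G]

theorem eq_one_of_closure {W : Type*} [AddCommGroup W] [Module K W]
    (ρ : Representation K G W) {S : Set G} (hS : Subgroup.closure S = ⊤)
    (h : ∀ s ∈ S, ρ s = 1) : ∀ g, ρ g = 1 := by
  intro g
  have hle : Subgroup.closure S ≤ ρ.ker := by
    rw [Subgroup.closure_le]
    intro s hs
    exact MonoidHom.mem_ker.mpr (h s hs)
  exact MonoidHom.mem_ker.mp (hle (hS ▸ Subgroup.mem_top g))

theorem det_eq_one_of_closure {W : Type*} [AddCommGroup W] [Module K W]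
    (ρ : Representation K G W) {S : Set G} (hS : Subgroup.closure S = ⊤)
    (h : ∀ s ∈ S, LinearMap.det (ρ s) = 1) : ∀ g, LinearMap.det (ρ g) = 1 := by
  intro g
  have hle : Subgroup.closure S ≤ ((LinearMap.det : Module.End K W →* K).comp ρ).ker := by
    rw [Subgroup.closure_le]
    intro s hs
    exact MonoidHom.mem_ker.mpr (h s hs)
  exact MonoidHom.mem_ker.mp (hle (hS ▸ Subgroup.mem_top g))

theorem IsQuad.det_eq_one (p : ℕ) [Fact p.Prime] [CharP K p]
    {W : Type*} [AddCommGroup W] [Module K W]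
    {ρ : Representation K G W} {a : G} (h : IsQuad ρ a) : LinearMap.det (ρ a) = 1 := by
  have h1 : LinearMap.det (ρ a) ^ p = 1 := by
    rw [← map_pow, ← map_pow, h.pow_char (p := p), map_one]
  have h2 : (LinearMap.det (ρ a) - 1) ^ p = 0 := by
    rw [sub_pow_char, h1, one_pow, sub_self]
  exact sub_eq_zero.mp (pow_eq_zero_iff (Fact.out : p.Prime).ne_zero |>.mp h2)

variable [Fintype K] {p : ℕ} [Fact p.Prime] [CharP K p]

theorem irreducible_case {W : Type*} [AddCommGroup W] [Module K W] [FiniteDimensional K W]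
    (a b : G) (hG : Subgroup.closure {a, b} = ⊤) (ρ : Representation K G W)
    (ha : IsQuad ρ a) (hb : IsQuad ρ b)
    (hab : ∃ e, ρ ((a * b) ^ (p ^ e * (Fintype.card K - 1))) = 1)
    (hnp : ¬ ∀ g, ∃ i, ρ (g ^ p ^ i) = 1)
    (hirr : ∀ U : Submodule K W, (∀ g, U ≤ U.comap (ρ g)) → U = ⊥ ∨ U = ⊤) :
    ∃ φ : G →* Matrix.SpecialLinearGroup (Fin 2) K, ¬ IsPGroup p φ.range := by
  classical
  -- W nontrivial
  have hWnt : Nontrivial W := by
    by_contra hnt
    rw [not_nontrivial_iff_subsingleton] at hnt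
    apply hnp
    intro g
    refine ⟨0, ?_⟩
    ext w
    exact Subsingleton.elim _ _
  obtain ⟨e, he⟩ := hab
  obtain ⟨μ, w, hw0, hw⟩ := exists_eigenvector (K := K) (p := p) (ρ (a * b)) e
    (by rw [← map_pow]; exact he)
  have hμ : μ ≠ 0 := by
    rintro rfl
    rw [zero_smul] at hw
    apply hw0
    have := ρ.inv_self_apply (a * b) w
    rw [hw, map_zero] at this
    exact this.symm
  have hab' : ρ a (ρ b w) = μ • w := by
    rw [← hw, map_mul, Module.End.mul_apply]
  -- ρ a w in terms of w, ρ b w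
  have haw : ρ a w = w + w - μ⁻¹ • ρ b w := by
    have h1 : ρ b w = μ • ρ a⁻¹ w := by
      rw [← map_smul, ← hab', ρ.inv_self_apply]
    rw [ha.inv_apply] at h1
    rw [h1, smul_smul, inv_mul_cancel₀ hμ, one_smul]
    abel
  set U : Submodule K W := Submodule.span K {w, ρ b w} with hUdef
  have hwU : w ∈ U := Submodule.subset_span (by simp)
  have hbwU : ρ b w ∈ U := Submodule.subset_span (by simp)
  have hUa : U ≤ U.comap (ρ a) := by
    rw [hUdef, Submodule.span_le]
    intro x hx
    rcases hx with rfl | rfl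
    · change ρ a x ∈ U
      rw [haw]
      exact U.sub_mem (U.add_mem hwU hwU) (U.smul_mem _ hbwU)
    · change ρ a (ρ b w) ∈ U
      rw [hab']
      exact U.smul_mem _ hwU
  have hUb : U ≤ U.comap (ρ b) := by
    rw [hUdef, Submodule.span_le]
    intro x hx
    rcases hx with rfl | rfl
    · exact hbwU
    · change ρ b (ρ b w) ∈ U
      rw [hb.sq]
      exact U.sub_mem (U.add_mem hbwU hbwU) hwU
  have hUinv : ∀ g, U ≤ U.comap (ρ g) := by
    apply invariant_of_closure hG
    · intro s hs
      rcases hs with rfl | rfl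
      · exact hUa
      · exact hUb
    · intro s hs
      rcases hs with rfl | rfl
      · exact ha.comap_inv hUa
      · exact hb.comap_inv hUb
  have hUtop : U = ⊤ := by
    rcases hirr U hUinv with h | h
    · exfalso
      rw [h] at hwU
      exact hw0 ((Submodule.mem_bot K).mp hwU)
    · exact h
  by_cases hdep : ∃ c : K, c • w = ρ b w
  · -- one-dimensional: trivial action
    exfalso
    obtain ⟨c, hc⟩ := hdep
    have hspan : ∀ v : W, ∃ t : K, v = t • w := by
      intro v
      have hv : v ∈ U := hUtop ▸ Submodule.mem_top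
      rw [hUdef, ← hc] at hv
      rw [Submodule.mem_span_pair] at hv
      obtain ⟨x, y, rfl⟩ := hv
      exact ⟨x + y * c, by rw [add_smul, mul_smul]⟩
    have hscal : ∀ (g : G) (d : K), IsQuad ρ g → ρ g w = d • w → d = 1 := by
      intro g d hg hd
      have h1 := hg w
      rw [hd, map_sub, map_smul, hd] at h1
      have h2 : ((d - 1) * (d - 1)) • w = 0 := by
        have : ((d - 1) * (d - 1)) • w = (d • d • w - d • w) - (d • w - w) := by
          rw [smul_smul]; module
        rw [this, h1, sub_self]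
      rw [smul_eq_zero] at h2
      rcases h2 with h2 | h2
      · have := mul_self_eq_zero.mp h2
        exact sub_eq_zero.mp this
      · exact absurd h2 hw0
    have hc1 : c = 1 := hscal b c hb hc.symm
    have hbw : ρ b w = w := by rw [← hc, hc1, one_smul]
    have haw' : ρ a w = (2 - μ⁻¹) • w := by
      rw [haw, hbw, sub_smul, two_smul]
    have hd1 := hscal a _ ha haw'
    have haw1 : ρ a w = w := by rw [haw', hd1, one_smul]
    have htriv : ∀ s ∈ ({a, b} : Set G), ρ s = 1 := by
      intro s hs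
      ext v
      obtain ⟨t, rfl⟩ := hspan v
      rcases hs with rfl | rfl
      · rw [map_smul, haw1, Module.End.one_apply]
      · rw [map_smul, hbw, Module.End.one_apply]
    apply hnp
    intro g
    exact ⟨0, eq_one_of_closure ρ hG htriv _⟩
  · -- two-dimensional
    push Not at hdep
    have hli : LinearIndependent K ![w, ρ b w] := (LinearIndependent.pair_iff' hw0).mpr hdep
    have hsp : ⊤ ≤ Submodule.span K (Set.range ![w, ρ b w]) := by
      rw [← hUtop, hUdef]
      apply Submodule.span_mono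
      intro x hx
      rcases hx with rfl | rfl
      · exact ⟨0, rfl⟩
      · exact ⟨1, rfl⟩
    let B : Module.Basis (Fin 2) K W := Module.Basis.mk hli hsp
    let φ₀ : G →* Matrix (Fin 2) (Fin 2) K :=
      (LinearMap.toMatrixAlgEquiv B : Module.End K W ≃ₐ[K] Matrix (Fin 2) (Fin 2) K).toAlgHom.toRingHom.toMonoidHom.comp ρ
    have hφ₀ : ∀ g, φ₀ g = LinearMap.toMatrixAlgEquiv B (ρ g) := fun g => rfl
    have hdet : ∀ g, (φ₀ g).det = 1 := by
      intro g
      have h1 : LinearMap.det (ρ g) = 1 := by
        apply det_eq_one_of_closure ρ hG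
        intro s hs
        rcases hs with rfl | rfl
        · exact ha.det_eq_one p
        · exact hb.det_eq_one p
      rw [← h1, ← LinearMap.det_toMatrix B]
      rfl
    let φ : G →* Matrix.SpecialLinearGroup (Fin 2) K :=
      { toFun := fun g => (⟨φ₀ g, hdet g⟩ : Matrix.SpecialLinearGroup (Fin 2) K)
        map_one' := Subtype.ext (map_one φ₀)
        map_mul' := fun g h => Subtype.ext (map_mul φ₀ g h) }
    refine ⟨φ, ?_⟩
    intro hP
    apply hnp
    intro g
    obtain ⟨k, hk⟩ := hP ⟨φ g, g, rfl⟩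
    refine ⟨k, ?_⟩
    have h1 : φ g ^ p ^ k = 1 := by
      have := congrArg Subtype.val hk
      simpa using this
    rw [← map_pow] at h1
    have h2 : φ₀ (g ^ p ^ k) = 1 := congrArg Subtype.val h1
    rw [hφ₀] at h2
    exact (LinearMap.toMatrixAlgEquiv B).injective (by rw [h2, map_one])

universe v

theorem main_aux (a b : G) (hG : Subgroup.closure {a, b} = ⊤) :
    ∀ (n : ℕ) (W : Type v) [AddCommGroup W] [Module K W] [FiniteDimensional K W]
      (ρ : Representation K G W), Module.finrank K W = n → IsQuad ρ a → IsQuad ρ b →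
      (∃ e, ρ ((a * b) ^ (p ^ e * (Fintype.card K - 1))) = 1) →
      (¬ ∀ g, ∃ i, ρ (g ^ p ^ i) = 1) →
      ∃ φ : G →* Matrix.SpecialLinearGroup (Fin 2) K, ¬ IsPGroup p φ.range := by
  intro n
  induction n using Nat.strong_induction_on with
  | _ n ih =>
    intro W _ _ _ ρ hn ha hb hab hnp
    by_cases hred : ∃ U : Submodule K W, (∀ g, U ≤ U.comap (ρ g)) ∧ U ≠ ⊥ ∧ U ≠ ⊤
    · obtain ⟨U, hU, hUbot, hUtop⟩ := hred
      obtain ⟨e, he⟩ := hab
      have hlt1 : Module.finrank K U < n := hn ▸ Submodule.finrank_lt hUtop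
      have hlt2 : Module.finrank K (W ⧸ U) < n := by
        have h1 := U.finrank_quotient_add_finrank
        have h2 : 0 < Module.finrank K U := by
          rw [Module.finrank_pos_iff]
          exact (Submodule.nontrivial_iff_ne_bot).mpr hUbot
        omega
      by_cases h1 : ∀ g, ∃ i, ρ.subrepresentation U hU (g ^ p ^ i) = 1
      · by_cases h2 : ∀ g, ∃ i, ρ.quotient U hU (g ^ p ^ i) = 1
        · exact absurd (pgroup_of_sub_quot ρ U hU h1 h2) hnp
        · exact ih _ hlt2 (W ⧸ U) (ρ.quotient U hU) rfl (ha.quot U hU) (hb.quot U hU)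
            ⟨e, quot_eq_one ρ U hU he⟩ h2
      · exact ih _ hlt1 U (ρ.subrepresentation U hU) rfl (ha.sub U hU) (hb.sub U hU)
            ⟨e, sub_eq_one ρ U hU he⟩ h1
    · push Not at hred
      apply irreducible_case a b hG ρ ha hb hab hnp
      intro U hU
      by_contra hcon
      push Not at hcon
      exact hcon.2 (hred U hU hcon.1)

/-- Two quadratic generators in a representation over a finite field `K` of characteristic `p`,
with `(ab)^(p^e (|K|-1))` acting trivially, and the image not a `p`-group: then there is a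
homomorphism to `SL(2,K)` with non-`p`-group image. -/
theorem main {W : Type*} [AddCommGroup W] [Module K W] [FiniteDimensional K W]
    (a b : G) (hG : Subgroup.closure {a, b} = ⊤) (ρ : Representation K G W)
    (ha : IsQuad ρ a) (hb : IsQuad ρ b)
    (hab : ∃ e, ρ ((a * b) ^ (p ^ e * (Fintype.card K - 1))) = 1)
    (hnp : ¬ ∀ g, ∃ i, ρ (g ^ p ^ i) = 1) :
    ∃ φ : G →* Matrix.SpecialLinearGroup (Fin 2) K, ¬ IsPGroup p φ.range :=
  main_aux a b hG _ W ρ rfl ha hb hab hnp

end main

end Cfsg.Agent.Lib.Helper29.QuadPair
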