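import Mathlib
import Cfsg.Agent.Lib.Helper2.QuatGen
import Cfsg.Agent.Lib.Helper13.SL2

/-!
# Recognition of `SL(2,3)` (helper29)
-/

set_option autoImplicit false

namespace Cfsg.Agent.Lib.Helper29

open QuaternionGroup Cfsg.Agent.Lib.Helper2

/-- the automorphism of order 3 of `Q₈`: `a 1 ↦ xa 0 ↦ xa 3 ↦ a 1`. -/
def q8Fun : QuaternionGroup 2 → QuaternionGroup 2
  | a i => if i = 0 then a 0 else if i = 1 then xa 0 else if i = 2 then a 2 else xa 2
  | xa i => if i = 0 then xa 3 else if i = 1 then a 3 else if i = 2 then xa 1 else a 1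

theorem q8Fun_mul : ∀ x y : QuaternionGroup 2, q8Fun (x * y) = q8Fun x * q8Fun y := by decide

theorem q8Fun_three : ∀ x : QuaternionGroup 2, q8Fun (q8Fun (q8Fun x)) = x := by decide

/-- the automorphism of order 3 of `Q₈` -/
def q8Aut : MulAut (QuaternionGroup 2) where
  toFun := q8Fun
  invFun := fun x => q8Fun (q8Fun x)
  left_inv := q8Fun_three
  right_inv := q8Fun_three
  map_mul' := q8Fun_mul

theorem q8Aut_apply (x : QuaternionGroup 2) : q8Aut x = q8Fun x := rfl

theorem orderOf_q8Aut : orderOf q8Aut = 3 := by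
  apply orderOf_eq_prime
  · ext x
    show q8Fun (q8Fun (q8Fun x)) = x
    exact q8Fun_three x
  · intro h
    have := congrArg (fun f : MulAut (QuaternionGroup 2) => f (a 1)) h
    revert this
    decide


/-- the homomorphism from the cyclic group of order `n` sending the generator to `t` -/
noncomputable def cycHom {P : Type*} [Group P] (n : ℕ) (t : P) (ht : orderOf t = n) :
    Multiplicative (ZMod n) →* P where
  toFun i := zmodPow n t (Multiplicative.toAdd i)
  map_one' := by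
    show zmodPow n t 0 = 1
    rw [← zmodPow_eq ht 0 0 (by simp), zpow_zero]
  map_mul' i j := zmodPow_add ht _ _

theorem cycHom_ofAdd_intCast {P : Type*} [Group P] (n : ℕ) (t : P) (ht : orderOf t = n) (k : ℤ) :
    cycHom n t ht (Multiplicative.ofAdd (k : ZMod n)) = t ^ k :=
  (zmodPow_eq ht k _ rfl).symm

theorem cycHom_ofAdd_natCast {P : Type*} [Group P] (n : ℕ) (t : P) (ht : orderOf t = n) (k : ℕ) :
    cycHom n t ht (Multiplicative.ofAdd (k : ZMod n)) = t ^ k := by
  have := cycHom_ofAdd_intCast n t ht (k : ℤ)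
  rwa [zpow_natCast, Int.cast_natCast] at this

theorem cycHom_injective {P : Type*} [Group P] (n : ℕ) (t : P) (ht : orderOf t = n) :
    Function.Injective (cycHom n t ht) := by
  intro i j h
  have := zmodPow_inj ht _ _ h
  exact Multiplicative.toAdd.injective this

/-- the standard model `Q₈ ⋊ C₃` of `SL(2,3)` -/
abbrev SL23Model : Type :=
  QuaternionGroup 2 ⋊[cycHom 3 q8Aut orderOf_q8Aut] Multiplicative (ZMod 3)

theorem q8_gen : ∀ x : QuaternionGroup 2, ∃ i : Fin 4, ∃ j : Fin 2,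
    x = (xa 0) ^ (j : ℕ) * (a 1) ^ (i : ℕ) := by decide

theorem q8_hom_ext {P : Type*} [Group P] {f g : QuaternionGroup 2 →* P}
    (h1 : f (a 1) = g (a 1)) (h2 : f (xa 0) = g (xa 0)) : f = g := by
  ext x
  obtain ⟨i, j, rfl⟩ := q8_gen x
  simp only [map_mul, map_pow, h1, h2]

theorem q8_pow_eight : ∀ x : QuaternionGroup 2, x ^ 8 = 1 := by decide

theorem c3_pow_three : ∀ z : Multiplicative (ZMod 3), z ^ 3 = 1 := by decide


section Recognition

variable {P : Type*} [Group P] {a b t : P}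

theorem q8rel_mul_comm (hba : b * a * b⁻¹ = a⁻¹) : a * b = b * a⁻¹ := by
  have h : a = b⁻¹ * a⁻¹ * b := by rw [← hba]; group
  calc a * b = b * (b⁻¹ * a * b) := by group
    _ = b * (b⁻¹ * a⁻¹ * b)⁻¹ := by group
    _ = b * a⁻¹ := by rw [← h]

theorem q8rel_inv (ha : orderOf a = 4) : a⁻¹ = a ^ 3 := by
  have h4 : a ^ 4 = 1 := by rw [← ha]; exact pow_orderOf_eq_one a
  calc a⁻¹ = a⁻¹ * a ^ 4 := by rw [h4, mul_one]
    _ = a ^ 3 := by group

/-- the quaternion part of the recognition homomorphism -/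
noncomputable def recFn (ha : orderOf a = 4) (hb : b * b = a ^ 2) (hba : b * a * b⁻¹ = a⁻¹) :
    QuaternionGroup 2 →* P :=
  quatHom (n := 2) (t := a) (w := b) ha hb hba

theorem recFn_a_one (ha : orderOf a = 4) (hb : b * b = a ^ 2) (hba : b * a * b⁻¹ = a⁻¹) :
    recFn ha hb hba (QuaternionGroup.a 1) = a := by
  show zmodPow (2 * 2) a 1 = a
  rw [← zmodPow_eq (m := 2 * 2) ha 1 1 (by simp), zpow_one]

theorem recFn_xa (ha : orderOf a = 4) (hb : b * b = a ^ 2) (hba : b * a * b⁻¹ = a⁻¹) (k : ℕ) :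
    recFn ha hb hba (QuaternionGroup.xa (k : ZMod (2 * 2))) = b * a ^ k := by
  show b * zmodPow (2 * 2) a (k : ZMod (2 * 2)) = b * a ^ k
  rw [← zmodPow_eq (m := 2 * 2) ha (k : ℤ) _ (by simp), zpow_natCast]

theorem recFn_xa_zero (ha : orderOf a = 4) (hb : b * b = a ^ 2) (hba : b * a * b⁻¹ = a⁻¹) :
    recFn ha hb hba (QuaternionGroup.xa 0) = b := by
  have := recFn_xa ha hb hba 0
  simpa using this

theorem recFn_injective (ha : orderOf a = 4) (hb : b * b = a ^ 2) (hba : b * a * b⁻¹ = a⁻¹) :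
    Function.Injective (recFn ha hb hba) :=
  quatHom_injective (n := 2) le_rfl ha hb hba

theorem rec_compat (ha : orderOf a = 4) (hb : b * b = a ^ 2) (hba : b * a * b⁻¹ = a⁻¹)
    (ht : orderOf t = 3) (hta : t * a * t⁻¹ = b) (htb : t * b * t⁻¹ = a * b) :
    ∀ g : Multiplicative (ZMod 3),
      (recFn ha hb hba).comp (cycHom 3 q8Aut orderOf_q8Aut g).toMonoidHom =
        (MulAut.conj (cycHom 3 t ht g)).toMonoidHom.comp (recFn ha hb hba) := by
  -- the base case
  have hbase : (recFn ha hb hba).comp q8Aut.toMonoidHom =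
      (MulAut.conj t).toMonoidHom.comp (recFn ha hb hba) := by
    apply q8_hom_ext
    · show recFn ha hb hba (q8Fun (QuaternionGroup.a 1)) = t * recFn ha hb hba (QuaternionGroup.a 1) * t⁻¹
      have h1 : q8Fun (QuaternionGroup.a 1) = QuaternionGroup.xa 0 := by decide
      rw [h1, recFn_xa_zero, recFn_a_one, hta]
    · show recFn ha hb hba (q8Fun (QuaternionGroup.xa 0)) = t * recFn ha hb hba (QuaternionGroup.xa 0) * t⁻¹
      have h1 : q8Fun (QuaternionGroup.xa 0) = QuaternionGroup.xa ((3 : ℕ) : ZMod (2 * 2)) := by decide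
      rw [h1, recFn_xa, recFn_xa_zero, htb, q8rel_mul_comm hba, q8rel_inv ha]
  have hpow : ∀ k : ℕ, (recFn ha hb hba).comp (q8Aut ^ k).toMonoidHom =
      (MulAut.conj (t ^ k)).toMonoidHom.comp (recFn ha hb hba) := by
    intro k
    induction k with
    | zero =>
      ext x
      simp
    | succ k ih =>
      ext x
      have h1 := DFunLike.congr_fun ih (q8Aut x)
      have h2 := DFunLike.congr_fun hbase x
      simp only [MonoidHom.comp_apply, MulEquiv.coe_toMonoidHom, MulAut.conj_apply] at h1 h2 ⊢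
      rw [pow_succ, MulAut.mul_apply, h1, h2, pow_succ]
      group
  intro g
  obtain ⟨k, hk⟩ : ∃ k : ℕ, g = Multiplicative.ofAdd (k : ZMod 3) :=
    ⟨(Multiplicative.toAdd g).val, by rw [ZMod.natCast_zmod_val]; rfl⟩
  rw [hk, cycHom_ofAdd_natCast, cycHom_ofAdd_natCast]
  exact hpow k

/-- the recognition homomorphism `Q₈ ⋊ C₃ → P` -/
noncomputable def recHom (ha : orderOf a = 4) (hb : b * b = a ^ 2) (hba : b * a * b⁻¹ = a⁻¹)
    (ht : orderOf t = 3) (hta : t * a * t⁻¹ = b) (htb : t * b * t⁻¹ = a * b) : SL23Model →* P :=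
  SemidirectProduct.lift (recFn ha hb hba) (cycHom 3 t ht) (rec_compat ha hb hba ht hta htb)

theorem recHom_injective (ha : orderOf a = 4) (hb : b * b = a ^ 2) (hba : b * a * b⁻¹ = a⁻¹)
    (ht : orderOf t = 3) (hta : t * a * t⁻¹ = b) (htb : t * b * t⁻¹ = a * b) :
    Function.Injective (recHom ha hb hba ht hta htb) := by
  rw [injective_iff_map_eq_one]
  intro m hm
  have hm' : recFn ha hb hba m.left * cycHom 3 t ht m.right = 1 := hm
  set y := cycHom 3 t ht m.right with hy
  have hy3 : y ^ 3 = 1 := by rw [hy, ← map_pow, c3_pow_three, map_one]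
  have hy8 : y ^ 8 = 1 := by
    have h1 : y = (recFn ha hb hba m.left)⁻¹ := eq_inv_of_mul_eq_one_right hm'
    rw [h1, inv_pow, ← map_pow, q8_pow_eight, map_one, inv_one]
  have hy1 : y = 1 := by
    calc y = (y ^ 3) ^ 3 * (y ^ 8)⁻¹ := by group
      _ = 1 := by rw [hy3, hy8]; simp
  have hr : m.right = 1 := cycHom_injective 3 t ht (by rw [← hy, hy1, map_one])
  have hl : m.left = 1 := by
    apply recFn_injective ha hb hba
    rw [hy1, mul_one] at hm'
    rw [hm', map_one]
  exact SemidirectProduct.ext hl hr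

theorem recHom_range (ha : orderOf a = 4) (hb : b * b = a ^ 2) (hba : b * a * b⁻¹ = a⁻¹)
    (ht : orderOf t = 3) (hta : t * a * t⁻¹ = b) (htb : t * b * t⁻¹ = a * b) :
    Subgroup.closure {a, b, t} ≤ (recHom ha hb hba ht hta htb).range := by
  rw [Subgroup.closure_le]
  rintro x (rfl | rfl | rfl)
  · exact ⟨SemidirectProduct.inl (QuaternionGroup.a 1), by
      rw [recHom, SemidirectProduct.lift_inl, recFn_a_one]⟩
  · exact ⟨SemidirectProduct.inl (QuaternionGroup.xa 0), by
      rw [recHom, SemidirectProduct.lift_inl, recFn_xa_zero]⟩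
  · refine ⟨SemidirectProduct.inr (Multiplicative.ofAdd ((1 : ℕ) : ZMod 3)), ?_⟩
    rw [recHom, SemidirectProduct.lift_inr, cycHom_ofAdd_natCast, pow_one]

theorem card_SL23Model : Nat.card SL23Model = 24 := by
  rw [SemidirectProduct.card, Nat.card_eq_fintype_card, QuaternionGroup.card,
    Nat.card_eq_fintype_card]
  rfl

/-- recognition of the model, generation form -/
theorem nonempty_model_mulEquiv_of_closure (ha : orderOf a = 4) (hb : b * b = a ^ 2)
    (hba : b * a * b⁻¹ = a⁻¹) (ht : orderOf t = 3) (hta : t * a * t⁻¹ = b)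
    (htb : t * b * t⁻¹ = a * b) (hgen : Subgroup.closure {a, b, t} = ⊤) :
    Nonempty (SL23Model ≃* P) := by
  refine ⟨MulEquiv.ofBijective (recHom ha hb hba ht hta htb)
    ⟨recHom_injective ha hb hba ht hta htb, ?_⟩⟩
  rw [← MonoidHom.range_eq_top, eq_top_iff, ← hgen]
  exact recHom_range ha hb hba ht hta htb

/-- recognition of the model, cardinality form -/
theorem nonempty_model_mulEquiv_of_card [Finite P] (ha : orderOf a = 4) (hb : b * b = a ^ 2)
    (hba : b * a * b⁻¹ = a⁻¹) (ht : orderOf t = 3) (hta : t * a * t⁻¹ = b)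
    (htb : t * b * t⁻¹ = a * b) (hcard : Nat.card P = 24) :
    Nonempty (SL23Model ≃* P) := by
  refine ⟨MulEquiv.ofBijective (recHom ha hb hba ht hta htb) ?_⟩
  apply Function.Injective.bijective_of_nat_card_le (recHom_injective ha hb hba ht hta htb)
  rw [hcard, card_SL23Model]

end Recognition


section SL23

open Matrix

/-- `i = [[0,-1],[1,0]]` -/
def sl23A : SpecialLinearGroup (Fin 2) (ZMod 3) := ⟨!![0, -1; 1, 0], by decide⟩
/-- `j = [[1,1],[1,-1]]` -/
def sl23B : SpecialLinearGroup (Fin 2) (ZMod 3) := ⟨!![1, 1; 1, -1], by decide⟩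
/-- `t = [[1,1],[0,1]]` -/
def sl23T : SpecialLinearGroup (Fin 2) (ZMod 3) := ⟨!![1, 1; 0, 1], by decide⟩

theorem orderOf_sl23A : orderOf sl23A = 4 := by
  have := orderOf_eq_prime_pow (x := sl23A) (p := 2) (n := 1) (by decide) (by decide)
  simpa using this

theorem orderOf_sl23T : orderOf sl23T = 3 :=
  orderOf_eq_prime (by decide) (by decide)

theorem card_SL23 : Nat.card (SpecialLinearGroup (Fin 2) (ZMod 3)) = 24 := by
  rw [Cfsg.Agent.Lib.Helper13.card_SL2, ZMod.card]
  norm_num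

theorem nonempty_model_mulEquiv_SL23 :
    Nonempty (SL23Model ≃* SpecialLinearGroup (Fin 2) (ZMod 3)) :=
  nonempty_model_mulEquiv_of_card (a := sl23A) (b := sl23B) (t := sl23T) orderOf_sl23A
    (by decide) (by decide) orderOf_sl23T (by decide) (by decide) card_SL23

/-- **Recognition of `SL(2,3)`**, generation form: a group generated by `a, b, t` with
`a` of order 4, `b² = a²`, `b a b⁻¹ = a⁻¹`, `t` of order 3, `t a t⁻¹ = b`, `t b t⁻¹ = a b`. -/
theorem nonempty_mulEquiv_SL23_of_closure {P : Type*} [Group P] {a b t : P} (ha : orderOf a = 4)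
    (hb : b * b = a ^ 2) (hba : b * a * b⁻¹ = a⁻¹) (ht : orderOf t = 3) (hta : t * a * t⁻¹ = b)
    (htb : t * b * t⁻¹ = a * b) (hgen : Subgroup.closure {a, b, t} = ⊤) :
    Nonempty (P ≃* SpecialLinearGroup (Fin 2) (ZMod 3)) := by
  obtain ⟨e1⟩ := nonempty_model_mulEquiv_of_closure ha hb hba ht hta htb hgen
  obtain ⟨e2⟩ := nonempty_model_mulEquiv_SL23
  exact ⟨e1.symm.trans e2⟩

/-- **Recognition of `SL(2,3)`**, cardinality form. -/
theorem nonempty_mulEquiv_SL23_of_card {P : Type*} [Group P] [Finite P] {a b t : P}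
    (ha : orderOf a = 4) (hb : b * b = a ^ 2) (hba : b * a * b⁻¹ = a⁻¹) (ht : orderOf t = 3)
    (hta : t * a * t⁻¹ = b) (htb : t * b * t⁻¹ = a * b) (hcard : Nat.card P = 24) :
    Nonempty (P ≃* SpecialLinearGroup (Fin 2) (ZMod 3)) := by
  obtain ⟨e1⟩ := nonempty_model_mulEquiv_of_card ha hb hba ht hta htb hcard
  obtain ⟨e2⟩ := nonempty_model_mulEquiv_SL23
  exact ⟨e1.symm.trans e2⟩

end SL23

end Cfsg.Agent.Lib.Helper29
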