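import Mathlib
import Cfsg.Agent.Lib.Helper29.SL23
import Cfsg.Agent.Lib.Helper18.OddAut

/-!
# Odd-order automorphisms of `Q₈` and `SL(2,3)` sections (helper29)
-/

set_option autoImplicit false

namespace Cfsg.Agent.Lib.Helper29

open Subgroup

/-- `Q` is a quaternion group of order 8 with generators `a` (order 4) and `x`. -/
def IsQ8Data {G : Type*} [Group G] (Q : Subgroup G) (a x : G) : Prop :=
  a ∈ Q ∧ x ∈ Q ∧ orderOf a = 4 ∧ x ∉ zpowers a ∧ x * a * x⁻¹ = a⁻¹ ∧ x * x = a ^ 2 ∧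
    ∀ q ∈ Q, q ∈ zpowers a ∨ ∃ h ∈ zpowers a, q = x * h

section

variable {G : Type*} [Group G] {Q : Subgroup G} {a x : G}

theorem IsQ8Data.pow_four (h : IsQ8Data Q a x) : a ^ 4 = 1 := by
  rw [← h.2.2.1]; exact pow_orderOf_eq_one a

theorem IsQ8Data.sq_ne_one (h : IsQ8Data Q a x) : a ^ 2 ≠ 1 := by
  intro h2
  have := orderOf_dvd_of_pow_eq_one h2
  rw [h.2.2.1] at this
  omega

/-- `x` inverts every power of `a` -/
theorem IsQ8Data.conj_mem (h : IsQ8Data Q a x) {u : G} (hu : u ∈ zpowers a) :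
    x * u * x⁻¹ = u⁻¹ := by
  obtain ⟨k, rfl⟩ := Subgroup.mem_zpowers_iff.mp hu
  exact Cfsg.Agent.Lib.Helper2.conj_zpow_of_conj_inv h.2.2.2.2.1 k

/-- any element of `Q` outside `⟨a⟩` can replace `x` -/
theorem IsQ8Data.swap (h : IsQ8Data Q a x) {y : G} (hyQ : y ∈ Q) (hy : y ∉ zpowers a) :
    IsQ8Data Q a y := by
  obtain ⟨haQ, hxQ, hord, hxa, hconj, hx2, hcov⟩ := h
  have h' : IsQ8Data Q a x := ⟨haQ, hxQ, hord, hxa, hconj, hx2, hcov⟩
  rcases hcov y hyQ with hya | ⟨u, hu, rfl⟩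
  · exact absurd hya hy
  · have hua : u * a = a * u := by
      obtain ⟨k, rfl⟩ := Subgroup.mem_zpowers_iff.mp hu
      exact ((Commute.refl a).zpow_left k).eq
    have hxu : x * u = u⁻¹ * x := by
      have := h'.conj_mem hu
      calc x * u = (x * u * x⁻¹) * x := by group
        _ = u⁻¹ * x := by rw [this]
    refine ⟨haQ, hyQ, hord, hy, ?_, ?_, ?_⟩
    · calc x * u * a * (x * u)⁻¹ = x * (u * a * u⁻¹) * x⁻¹ := by group
        _ = x * a * x⁻¹ := by rw [hua]; group
        _ = a⁻¹ := hconj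
    · have hu2 : u * a ^ 2 = a ^ 2 * u := by
        rw [pow_two, ← mul_assoc, hua, mul_assoc, hua, ← mul_assoc]
      calc x * u * (x * u) = x * u * (u⁻¹ * x) := by rw [hxu]
        _ = x * x := by group
        _ = a ^ 2 := hx2
    · intro q hq
      rcases hcov q hq with hqa | ⟨v, hv, rfl⟩
      · exact Or.inl hqa
      · right
        exact ⟨u⁻¹ * v, mul_mem (inv_mem hu) hv, by group⟩


theorem conj_pow_orderOf (g : G) : (MulAut.conj g) ^ orderOf g = 1 := by
  rw [← map_pow, pow_orderOf_eq_one, map_one]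

/-- an element of odd order normalizing `Q` and `⟨a⟩` centralizes `Q` -/
theorem IsQ8Data.centralizes_of_mem [Finite G] (h : IsQ8Data Q a x) (g : G)
    (hg : ∀ q ∈ Q, g * q * g⁻¹ ∈ Q) (hodd : Odd (orderOf g)) (hmem : g * a * g⁻¹ ∈ zpowers a) :
    ∀ q ∈ Q, g * q * g⁻¹ = q := by
  obtain ⟨haQ, hxQ, hord, hxa, hconj, hx2, hcov⟩ := h
  have h' : IsQ8Data Q a x := ⟨haQ, hxQ, hord, hxa, hconj, hx2, hcov⟩
  have h1 : MulAut.conj g a = a :=
    Cfsg.Agent.Lib.Helper18.aut_fixes_of_odd_of_mem_zpowers (MulAut.conj g) (orderOf g) hodd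
      (conj_pow_orderOf g) a 2 (by rw [hord]; norm_num) (by simpa using hmem)
  have h1' : g * a * g⁻¹ = a := by simpa using h1
  have hgx : g * x * g⁻¹ ∉ zpowers a := by
    intro hcon
    apply hxa
    obtain ⟨k, hk⟩ := Subgroup.mem_zpowers_iff.mp hcon
    have h3 : g⁻¹ * a * g = a := by
      calc g⁻¹ * a * g = g⁻¹ * (g * a * g⁻¹) * g := by rw [h1']
        _ = a := by group
    have h4 : x = (g⁻¹ * a * g) ^ k := by
      have h5 := map_zpow (MulAut.conj g⁻¹) a k
      simp only [MulAut.conj_apply, inv_inv] at h5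
      rw [← h5, hk]; group
    rw [h4, h3]
    exact zpow_mem (mem_zpowers a) k
  obtain ⟨u, hu, hgxu⟩ : ∃ u ∈ zpowers a, g * x * g⁻¹ = x * u := by
    rcases hcov _ (hg x hxQ) with hh | hh
    · exact absurd hh hgx
    · exact hh
  obtain ⟨i, rfl⟩ := Subgroup.mem_zpowers_iff.mp hu
  have h2 : MulAut.conj g x = x :=
    Cfsg.Agent.Lib.Helper18.aut_fixes_of_odd_of_coset (MulAut.conj g) (orderOf g) hodd
      (conj_pow_orderOf g) a x 2 (by simpa using h'.pow_four) h1 i (by simpa using hgxu)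
  have h2' : g * x * g⁻¹ = x := by simpa using h2
  have hpow : ∀ k : ℤ, g * a ^ k * g⁻¹ = a ^ k := by
    intro k
    have h5 := map_zpow (MulAut.conj g) a k
    simp only [MulAut.conj_apply] at h5
    rw [h5, h1']
  intro q hq
  rcases hcov q hq with hqa | ⟨v, hv, rfl⟩
  · obtain ⟨k, rfl⟩ := Subgroup.mem_zpowers_iff.mp hqa
    exact hpow k
  · obtain ⟨k, rfl⟩ := Subgroup.mem_zpowers_iff.mp hv
    calc g * (x * a ^ k) * g⁻¹ = (g * x * g⁻¹) * (g * a ^ k * g⁻¹) := by group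
      _ = x * a ^ k := by rw [h2', hpow]


/-- if `g²` centralizes `q` and `g` has odd order then `g` centralizes `q` -/
theorem conj_eq_of_sq_conj_eq {g q : G} (hodd : Odd (orderOf g))
    (h : g ^ 2 * q * (g ^ 2)⁻¹ = q) : g * q * g⁻¹ = q := by
  obtain ⟨j, hj⟩ := hodd
  have hg : g = (g ^ 2) ^ (j + 1) := by
    rw [← pow_mul]
    have : 2 * (j + 1) = orderOf g + 1 := by omega
    rw [this, pow_succ, pow_orderOf_eq_one, one_mul]
  have hc : Commute (g ^ 2) q := by
    show g ^ 2 * q = q * g ^ 2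
    calc g ^ 2 * q = (g ^ 2 * q * (g ^ 2)⁻¹) * g ^ 2 := by group
      _ = q * g ^ 2 := by rw [h]
  have hc' : Commute g q := by
    rw [hg]; exact hc.pow_left _
  calc g * q * g⁻¹ = q * g * g⁻¹ := by rw [hc'.eq]
    _ = q := by group

theorem odd_orderOf_sq {g : G} (hodd : Odd (orderOf g)) : Odd (orderOf (g ^ 2)) :=
  Odd.of_dvd_nat hodd (orderOf_pow_dvd 2)

/-- an element of odd order acting nontrivially on `Q₈`: an adapted pair of generators -/
theorem IsQ8Data.exists_adapted [Finite G] (h : IsQ8Data Q a x) (g : G)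
    (hg : ∀ q ∈ Q, g * q * g⁻¹ ∈ Q) (hodd : Odd (orderOf g)) (hgc : ∃ q ∈ Q, g * q * g⁻¹ ≠ q) :
    ∃ a' b' : G, a' ∈ Q ∧ b' ∈ Q ∧ orderOf a' = 4 ∧ b' * b' = a' ^ 2 ∧ b' * a' * b'⁻¹ = a'⁻¹ ∧
      g * a' * g⁻¹ = b' ∧ g * b' * g⁻¹ = a' * b' ∧ Q ≤ closure {a', b'} := by
  obtain ⟨q₀, hq₀, hq₀g⟩ := hgc
  have haQ : a ∈ Q := h.1
  have hord : orderOf a = 4 := h.2.2.1
  have hbQ : g * a * g⁻¹ ∈ Q := hg a haQ
  have hb : g * a * g⁻¹ ∉ zpowers a := fun hmem =>
    hq₀g (h.centralizes_of_mem g hg hodd hmem q₀ hq₀)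
  set b := g * a * g⁻¹ with hbdef
  have hab : IsQ8Data Q a b := h.swap hbQ hb
  have hbb : b * b = a ^ 2 := hab.2.2.2.2.2.1
  have hba : b * a * b⁻¹ = a⁻¹ := hab.2.2.2.2.1
  have hcov := hab.2.2.2.2.2.2
  -- `g²` does not normalize `⟨a⟩`
  have hg2 : ∀ q ∈ Q, g ^ 2 * q * (g ^ 2)⁻¹ ∈ Q := by
    intro q hq
    have : g ^ 2 * q * (g ^ 2)⁻¹ = g * (g * q * g⁻¹) * g⁻¹ := by rw [pow_two]; group
    rw [this]
    exact hg _ (hg q hq)
  have hg2a : g ^ 2 * a * (g ^ 2)⁻¹ = g * b * g⁻¹ := by rw [hbdef, pow_two]; group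
  have hcQ : g * b * g⁻¹ ∈ Q := hg b hbQ
  have hnot2 : g ^ 2 * a * (g ^ 2)⁻¹ ∉ zpowers a := by
    intro hmem
    apply hq₀g
    apply conj_eq_of_sq_conj_eq hodd
    exact h.centralizes_of_mem (g ^ 2) hg2 (odd_orderOf_sq hodd) hmem q₀ hq₀
  have hc : g * b * g⁻¹ ∉ zpowers a := by rwa [hg2a] at hnot2
  obtain ⟨u, hu, hcu⟩ : ∃ u ∈ zpowers a, g * b * g⁻¹ = b * u := by
    rcases hcov _ hcQ with hh | hh
    · exact absurd hh hc
    · exact hh
  obtain ⟨k, hk4, rfl⟩ : ∃ k : ℕ, k < 4 ∧ u = a ^ k := by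
    obtain ⟨i, rfl⟩ := Subgroup.mem_zpowers_iff.mp hu
    refine ⟨(i % 4).toNat, by omega, ?_⟩
    have h1 : a ^ i = a ^ (i % (orderOf a : ℤ)) := (zpow_mod_orderOf a i).symm
    rw [hord] at h1
    have h2 : ((i % 4).toNat : ℤ) = i % 4 := Int.toNat_of_nonneg (by omega)
    rw [h1, ← zpow_natCast, h2]
    norm_num
  have ha4 : a ^ 4 = 1 := h.pow_four
  have hclosure : Q ≤ closure {a, b} := by
    intro q hq
    have haS : a ∈ closure ({a, b} : Set G) := subset_closure (by simp)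
    have hbS : b ∈ closure ({a, b} : Set G) := subset_closure (by simp)
    rcases hcov q hq with hqa | ⟨v, hv, rfl⟩
    · exact (zpowers_le.mpr haS) hqa
    · exact mul_mem hbS ((zpowers_le.mpr haS) hv)
  interval_cases k
  · -- `g b g⁻¹ = b`
    exfalso
    apply hb
    have h1 : g * b * g⁻¹ = b := by rw [hcu]; simp
    have h2 : b = a := by
      have : g * b * g⁻¹ = g * a * g⁻¹ := by rw [h1]
      have h3 := mul_right_cancel this
      exact mul_left_cancel h3
    rw [h2]; exact mem_zpowers a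
  · -- `g b g⁻¹ = b a`: use the inverses
    refine ⟨a⁻¹, b⁻¹, inv_mem haQ, inv_mem hbQ, by rw [orderOf_inv, hord], ?_, ?_, ?_, ?_, ?_⟩
    · rw [inv_pow, ← hbb]; group
    · rw [inv_inv, inv_inv]
      calc b⁻¹ * a⁻¹ * b = b⁻¹ * (b * a * b⁻¹) * b := by rw [hba]
        _ = a := by group
    · rw [hbdef]; group
    · have : g * b⁻¹ * g⁻¹ = (g * b * g⁻¹)⁻¹ := by group
      rw [this, hcu]; group
    · intro q hq
      have h1 := hclosure hq
      have h2 : closure ({a, b} : Set G) ≤ closure {a⁻¹, b⁻¹} := by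
        rw [closure_le]
        intro y hy
        rcases hy with hy | hy
        · have : a⁻¹ ∈ closure ({a⁻¹, b⁻¹} : Set G) := subset_closure (by simp)
          rw [hy]
          simpa using inv_mem this
        · have : b⁻¹ ∈ closure ({a⁻¹, b⁻¹} : Set G) := subset_closure (by simp)
          rw [Set.mem_singleton_iff] at hy
          rw [hy]
          simpa using inv_mem this
      exact h2 h1
  · -- `g b g⁻¹ = b a² = b⁻¹`
    exfalso
    apply hnot2
    have hb4 : b * (b * b) * b = 1 := by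
      calc b * (b * b) * b = (b * b) * (b * b) := by group
        _ = a ^ 4 := by rw [hbb]; group
        _ = 1 := ha4
    have h1 : g * b * g⁻¹ = b⁻¹ := by
      rw [hcu, ← hbb]
      exact eq_inv_of_mul_eq_one_left hb4
    have h2 : g ^ 2 * b * (g ^ 2)⁻¹ = b := by
      calc g ^ 2 * b * (g ^ 2)⁻¹ = g * (g * b * g⁻¹) * g⁻¹ := by rw [pow_two]; group
        _ = g * b⁻¹ * g⁻¹ := by rw [h1]
        _ = (g * b * g⁻¹)⁻¹ := by group
        _ = b := by rw [h1, inv_inv]
    have h3 : g ^ 2 * a * (g ^ 2)⁻¹ = a := by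
      have : g * (g ^ 2 * a * (g ^ 2)⁻¹) * g⁻¹ = g * a * g⁻¹ := by
        calc g * (g ^ 2 * a * (g ^ 2)⁻¹) * g⁻¹ = g ^ 2 * (g * a * g⁻¹) * (g ^ 2)⁻¹ := by
              rw [pow_two]; group
          _ = g * a * g⁻¹ := h2
      have h4 := mul_right_cancel this
      exact mul_left_cancel h4
    rw [h3]; exact mem_zpowers a
  · -- `g b g⁻¹ = b a³ = a b`
    refine ⟨a, b, haQ, hbQ, hord, hbb, hba, rfl, ?_, hclosure⟩
    rw [hcu, q8rel_mul_comm hba, q8rel_inv hord]


/-- **`SL(2,3)` section** from an element of odd order acting nontrivially on a quaternion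
subgroup of order 8. -/
theorem IsQ8Data.exists_SL23_section [Finite G] (h : IsQ8Data Q a x) (g : G)
    (hg : ∀ q ∈ Q, g * q * g⁻¹ ∈ Q) (hodd : Odd (orderOf g)) (hgc : ∃ q ∈ Q, g * q * g⁻¹ ≠ q) :
    ∃ (H K : Subgroup G) (_ : (K.subgroupOf H).Normal),
      Nonempty ((H ⧸ K.subgroupOf H) ≃* Matrix.SpecialLinearGroup (Fin 2) (ZMod 3)) := by
  obtain ⟨a, b, -, -, hord, hbb, hba, hga, hgb, -⟩ := h.exists_adapted g hg hodd hgc
  have ha4 : a ^ 4 = 1 := by rw [← hord]; exact pow_orderOf_eq_one a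
  have ha2 : a ^ 2 ≠ 1 := by
    intro h2
    have := orderOf_dvd_of_pow_eq_one h2
    rw [hord] at this
    omega
  -- `g³` centralizes `a`, `b`
  have hza : g ^ 3 * a * (g ^ 3)⁻¹ = a := by
    have h1 : g ^ 3 * a * (g ^ 3)⁻¹ = g * (g * (g * a * g⁻¹) * g⁻¹) * g⁻¹ := by
      rw [pow_succ, pow_two]; group
    have h2 : g * (a * b) * g⁻¹ = (g * a * g⁻¹) * (g * b * g⁻¹) := by group
    have h3 : b * a = a⁻¹ * b := by
      calc b * a = (b * a * b⁻¹) * b := by group
        _ = a⁻¹ * b := by rw [hba]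
    rw [h1, hga, hgb, h2, hga, hgb]
    calc b * (a * b) = (b * a) * b := by group
      _ = a⁻¹ * (b * b) := by rw [h3]; group
      _ = a⁻¹ * a ^ 2 := by rw [hbb]
      _ = a := by group
  have hzb : g ^ 3 * b * (g ^ 3)⁻¹ = b := by
    have h1 : g ^ 3 * b * (g ^ 3)⁻¹ = g * (g ^ 3 * a * (g ^ 3)⁻¹) * g⁻¹ := by
      rw [← hga, pow_succ, pow_two]; group
    rw [h1, hza, hga]
  have hzg : g ^ 3 * g * (g ^ 3)⁻¹ = g := by group
  let H : Subgroup G := closure {a, b, g}
  let K : Subgroup G := zpowers (g ^ 3)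
  have haH : a ∈ H := subset_closure (by simp)
  have hbH : b ∈ H := subset_closure (by simp)
  have hgH : g ∈ H := subset_closure (by simp)
  -- every element of `H` commutes with `g³`
  have hcomm : ∀ y ∈ H, Commute (g ^ 3) y := by
    have hle : H ≤ centralizer {g ^ 3} := by
      rw [closure_le]
      intro y hy
      rw [SetLike.mem_coe, mem_centralizer_iff]
      intro w hw
      rw [Set.mem_singleton_iff] at hw
      subst hw
      rcases hy with rfl | rfl | hy
      · calc g ^ 3 * y = (g ^ 3 * y * (g ^ 3)⁻¹) * g ^ 3 := by group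
          _ = y * g ^ 3 := by rw [hza]
      · calc g ^ 3 * y = (g ^ 3 * y * (g ^ 3)⁻¹) * g ^ 3 := by group
          _ = y * g ^ 3 := by rw [hzb]
      · rw [Set.mem_singleton_iff] at hy
        subst hy
        calc y ^ 3 * y = (y ^ 3 * y * (y ^ 3)⁻¹) * y ^ 3 := by group
          _ = y * y ^ 3 := by rw [hzg]
    intro y hy
    have := mem_centralizer_iff.mp (hle hy) (g ^ 3) (Set.mem_singleton _)
    exact this
  have hcommK : ∀ y ∈ H, ∀ k ∈ K, y * k * y⁻¹ = k := by
    intro y hy k hk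
    obtain ⟨i, rfl⟩ := Subgroup.mem_zpowers_iff.mp hk
    have hc : Commute ((g ^ 3) ^ i) y := (hcomm y hy).zpow_left i
    calc y * (g ^ 3) ^ i * y⁻¹ = (g ^ 3) ^ i * y * y⁻¹ := by rw [hc.eq]
      _ = (g ^ 3) ^ i := by group
  have hKn : (K.subgroupOf H).Normal := by
    constructor
    intro n hn y
    rw [Subgroup.mem_subgroupOf] at hn ⊢
    have := hcommK (y : G) y.2 (n : G) hn
    simp only [Subgroup.coe_mul, Subgroup.coe_inv]
    rw [this]; exact hn
  refine ⟨H, K, hKn, ?_⟩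
  let π : ↥H →* ↥H ⧸ K.subgroupOf H := QuotientGroup.mk' (K.subgroupOf H)
  have hπ1 : ∀ y : ↥H, π y = 1 ↔ (y : G) ∈ K := by
    intro y
    rw [QuotientGroup.mk'_apply, QuotientGroup.eq_one_iff, Subgroup.mem_subgroupOf]
  have hoddK : ∀ k ∈ K, Odd (orderOf k) := by
    intro k hk
    have h1 : orderOf k ∣ orderOf (g ^ 3) := orderOf_dvd_of_mem_zpowers hk
    exact Odd.of_dvd_nat hodd (h1.trans (orderOf_pow_dvd 3))
  apply nonempty_mulEquiv_SL23_of_closure (a := π ⟨a, haH⟩) (b := π ⟨b, hbH⟩) (t := π ⟨g, hgH⟩)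
  · -- order of `ā`
    have := orderOf_eq_prime_pow (x := π ⟨a, haH⟩) (p := 2) (n := 1) ?_ ?_
    · simpa using this
    · rw [← map_pow, hπ1]
      intro hk
      have h1 := hoddK _ hk
      have h2 : orderOf ((⟨a, haH⟩ : ↥H) ^ 2 ^ 1 : ↥H).1 = 2 := by
        apply orderOf_eq_prime
        · simp only [Subgroup.coe_pow, pow_one]
          rw [← pow_mul]; exact ha4
        · simpa using ha2
      rw [h2] at h1
      exact absurd h1 (by decide)
    · rw [← map_pow]
      have : (⟨a, haH⟩ : ↥H) ^ 2 ^ (1 + 1) = 1 := Subtype.ext (by simpa using ha4)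
      rw [this, map_one]
  · rw [← map_mul, ← map_pow]
    congr 1
    exact Subtype.ext (by simpa using hbb)
  · rw [← map_inv, ← map_mul, ← map_mul, ← map_inv]
    congr 1
    exact Subtype.ext (by simpa using hba)
  · -- order of `t`
    apply orderOf_eq_prime
    · rw [← map_pow, hπ1]
      exact mem_zpowers _
    · intro hk1
      have hk := (hπ1 _).mp hk1
      obtain ⟨i, hi⟩ := Subgroup.mem_zpowers_iff.mp hk
      have hi' : (g ^ 3) ^ i = g := hi
      have h1 : g * a * g⁻¹ = a := by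
        have hc : Commute ((g ^ 3) ^ i) a := by
          have : Commute (g ^ 3) a := hcomm a haH
          exact this.zpow_left i
        rw [hi'] at hc
        calc g * a * g⁻¹ = a * g * g⁻¹ := by rw [hc.eq]
          _ = a := by group
      rw [hga] at h1
      rw [h1] at hba
      have h2 : a = a⁻¹ := by
        calc a = a * a * a⁻¹ := by group
          _ = a⁻¹ := hba
      apply ha2
      calc a ^ 2 = a * a := pow_two a
        _ = a * a⁻¹ := by rw [← h2]
        _ = 1 := mul_inv_cancel a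
  · rw [← map_inv, ← map_mul, ← map_mul]
    congr 1
    exact Subtype.ext (by simpa using hga)
  · rw [← map_inv, ← map_mul, ← map_mul, ← map_mul]
    congr 1
    exact Subtype.ext (by simpa using hgb)
  · -- generation
    have h1 : closure (((↑) : ↥H → G) ⁻¹' {a, b, g}) = ⊤ := Subgroup.closure_closure_coe_preimage
    have h2 : (closure (((↑) : ↥H → G) ⁻¹' {a, b, g})).map π = ⊤ := by
      rw [h1]
      exact Subgroup.map_top_of_surjective π (QuotientGroup.mk'_surjective _)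
    rw [MonoidHom.map_closure] at h2
    rw [eq_top_iff, ← h2]
    apply Subgroup.closure_mono
    rintro _ ⟨y, hy, rfl⟩
    have hy' : (y : G) ∈ ({a, b, g} : Set G) := hy
    rcases hy' with hy' | hy' | hy'
    · left; congr 1; exact Subtype.ext hy'
    · right; left; congr 1; exact Subtype.ext hy'
    · right; right
      rw [Set.mem_singleton_iff] at hy' ⊢
      congr 1; exact Subtype.ext hy'

end

end Cfsg.Agent.Lib.Helper29
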