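import Mathlib
import Cfsg.Agent.Lib.Helper13.SL2SylowOdd
import Cfsg.Agent.Lib.Helper13.SL2OrderFour
import Cfsg.Agent.Lib.Helper18.UniqueInvolution
import Cfsg.Agent.Lib.Helper29.Q8Odd

/-!
# Subgroups of `SL₂(q)` generated by `p`-elements (helper29)

A subgroup of `SL₂(F)` (`F` finite of odd characteristic `p`) generated by `p`-elements whose
Sylow `2`-subgroups are abelian is a `p`-group.  (No Dickson: Burnside transfer for cyclic Sylow
subgroups.)
-/

set_option autoImplicit false
set_option linter.style.haveILetI false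

namespace Cfsg.Agent.Lib.Helper29.QuadPair

open Subgroup Matrix Cfsg.Agent.Lib.Helper13 Cfsg.Agent.Lib.Helper29

/-- If a Sylow `r`-subgroup `P` with `N(P) ≤ C(P)` lives in a group generated by `r'`-elements,
then `P` is trivial. -/
theorem sylow_eq_bot_of_generated {G : Type*} [Group G] [Finite G] {r : ℕ} [Fact r.Prime]
    (P : Sylow r G) (hNC : normalizer (P : Set G) ≤ centralizer (P : Set G))
    (S : Set G) (hS : closure S = ⊤) (hSr : ∀ s ∈ S, (orderOf s).Coprime r) :
    (P : Subgroup G) = ⊥ := by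
  set f := MonoidHom.transferSylow P hNC with hf
  have hcompl := MonoidHom.ker_transferSylow_isComplement' P hNC
  have hker : f.ker = ⊤ := by
    rw [eq_top_iff, ← hS, closure_le]
    intro s hs
    rw [SetLike.mem_coe, MonoidHom.mem_ker]
    have h1 : orderOf (f s) ∣ orderOf s := orderOf_map_dvd f s
    obtain ⟨k, hk⟩ := (IsPGroup.iff_orderOf.mp P.2) (f s)
    have h2 : (orderOf (f s)).Coprime r := Nat.Coprime.coprime_dvd_left h1 (hSr s hs)
    rw [hk] at h2
    have h3 : r ^ k = 1 := by
      rcases Nat.eq_zero_or_pos k with rfl | hk0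
      · simp
      · exfalso
        have := (Nat.coprime_pow_left_iff hk0 r r).mp h2
        rw [Nat.coprime_self] at this
        exact (Fact.out : r.Prime).one_lt.ne' this
    rw [h3, orderOf_eq_one_iff] at hk
    exact hk
  have hcard := hcompl.card_mul_card
  rw [hker, card_top] at hcard
  have hG : 0 < Nat.card G := Nat.card_pos
  have h1 : Nat.card (P : Subgroup G) = 1 := by
    nlinarith [Nat.eq_of_mul_eq_mul_left hG (by rw [hcard, mul_one] : Nat.card G * Nat.card (P : Subgroup G) = Nat.card G * 1)]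
  exact (Subgroup.card_eq_one).mp h1

variable {F : Type*} [Field F] [Fintype F] {p : ℕ} [hpF : Fact p.Prime] [CharP F p]

/-- elements of order prime to `p` with `g² ≠ 1` have trace `≠ ±2` -/
theorem trace_sq_ne_four' (g : SpecialLinearGroup (Fin 2) F)
    (hcop : (orderOf g).Coprime p) (hg2 : g * g ≠ 1) :
    (g : Matrix (Fin 2) (Fin 2) F).trace ^ 2 ≠ 4 := by
  intro h4
  have h1 := pow_char_mul_two_of_trace_sq p g h4
  have h2 : orderOf g ∣ p * 2 := orderOf_dvd_of_pow_eq_one h1
  have h3 : orderOf g ∣ 2 := hcop.dvd_of_dvd_mul_left h2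
  apply hg2
  rw [← pow_two]
  exact orderOf_dvd_iff_pow_eq_one.mp h3

set_option maxHeartbeats 400000 in
/-- A subgroup of `SL₂(F)` generated by `p`-elements with abelian Sylow `2`-subgroups is a
`p`-group (`p` odd). -/
theorem isPGroup_of_comm_sylow_two (hp : p ≠ 2) (X : Subgroup (SpecialLinearGroup (Fin 2) F))
    (S : Set X) (hS : closure S = ⊤) (hSp : ∀ s ∈ S, ∃ k : ℕ, s ^ p ^ k = 1)
    (T : Sylow 2 X) (hT : IsMulCommutative T) : IsPGroup p X := by
  classical
  haveI : Fact (Nat.Prime 2) := ⟨Nat.prime_two⟩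
  have hpprime : p.Prime := Fact.out
  have h2F : (2 : F) ≠ 0 := by
    intro h
    have h1 : ((2 : ℕ) : F) = 0 := by exact_mod_cast h
    rw [CharP.cast_eq_zero_iff F p] at h1
    exact hp ((Nat.prime_dvd_prime_iff_eq hpprime Nat.prime_two).mp h1)
  have hScop : ∀ r : ℕ, r.Prime → r ≠ p → ∀ s ∈ S, (orderOf s).Coprime r := by
    intro r hr hrp s hs
    obtain ⟨k, hk⟩ := hSp s hs
    have h1 : orderOf s ∣ p ^ k := orderOf_dvd_of_pow_eq_one hk
    exact Nat.Coprime.coprime_dvd_left h1
      (Nat.Coprime.pow_left k ((Nat.coprime_primes hpprime hr).mpr hrp.symm))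
  -- unique involution in `T`
  have key : ∀ u : T, orderOf u = 2 → ((u : X) : SpecialLinearGroup (Fin 2) F) = zSL F := by
    intro u hu
    have h1 : ((u : X) : SpecialLinearGroup (Fin 2) F) * ((u : X) : SpecialLinearGroup (Fin 2) F)
        = 1 := by
      have h0 : u ^ 2 = 1 := by
        have := pow_orderOf_eq_one u
        rwa [hu] at this
      have := congrArg (fun v : T => ((v : X) : SpecialLinearGroup (Fin 2) F)) h0
      simpa [pow_two] using this
    rcases sq_eq_one_cases h2F _ h1 with h | h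
    · exfalso
      have : u = 1 := Subtype.ext (Subtype.ext h)
      rw [this, orderOf_one] at hu
      omega
    · exact h
  have huniq : ∀ s t : T, orderOf s = 2 → orderOf t = 2 → s = t := by
    intro s t hs ht
    exact Subtype.ext (Subtype.ext ((key s hs).trans (key t ht).symm))
  have hTcyc : IsCyclic T := by
    have hc : IsMulCommutative (⊤ : Subgroup T) :=
      ⟨⟨fun a b => Subtype.ext (mul_comm' a.1 b.1)⟩⟩
    have h1 : IsCyclic (⊤ : Subgroup T) :=
      Cfsg.Agent.Lib.Helper18.isCyclic_of_comm_of_unique_involution T.2 huniq ⊤ hc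
    exact (Subgroup.topEquiv : (⊤ : Subgroup T) ≃* T).isCyclic.mp h1
  -- `X` has odd order
  have hoddX : ¬ 2 ∣ Nat.card X := by
    intro h2
    have hmin : (Nat.card X).minFac = 2 := (Nat.minFac_eq_two_iff _).mpr h2
    have hNC := IsCyclic.normalizer_le_centralizer hmin (P := T) hTcyc
    have := sylow_eq_bot_of_generated T hNC S hS (hScop 2 Nat.prime_two (Ne.symm hp))
    exact T.ne_bot_of_dvd_card h2 this
  by_contra hnp
  -- a prime `r ≠ p` dividing `|X|`
  obtain ⟨r, hr, hrd, hrp⟩ : ∃ r : ℕ, r.Prime ∧ r ∣ Nat.card X ∧ r ≠ p := by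
    by_contra hcon
    push Not at hcon
    apply hnp
    have := Nat.eq_prime_pow_of_unique_prime_dvd (n := Nat.card X) (p := p) Nat.card_pos.ne'
      (fun {d} hd hdd => hcon d hd hdd)
    exact IsPGroup.of_card this
  haveI : Fact r.Prime := ⟨hr⟩
  have hr2 : r ≠ 2 := by
    rintro rfl
    exact hoddX hrd
  have hrodd : Odd r := hr.odd_of_ne_two hr2
  obtain ⟨R⟩ : Nonempty (Sylow r X) := inferInstance
  have hRne : (R : Subgroup X) ≠ ⊥ := R.ne_bot_of_dvd_card hrd
  set R' : Subgroup (SpecialLinearGroup (Fin 2) F) := (R : Subgroup X).map X.subtype with hR'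
  have hR'p : IsPGroup r R' := R.2.map _
  have hR'ne : R' ≠ ⊥ := by
    intro h
    apply hRne
    rw [← Subgroup.map_eq_bot_iff_of_injective _ X.subtype_injective]
    exact h
  obtain ⟨Q, hQ⟩ := hR'p.exists_le_sylow
  haveI : IsCyclic (Q : Subgroup (SpecialLinearGroup (Fin 2) F)) :=
    isCyclic_sylow_SL2 p r hr2 hrp Q
  haveI : IsCyclic R' := Subgroup.isCyclic_of_le hQ
  obtain ⟨g₀, hg₀⟩ := IsCyclic.exists_generator (α := R')
  obtain ⟨z, hz⟩ : ∃ z : SpecialLinearGroup (Fin 2) F, z = (g₀ : SpecialLinearGroup (Fin 2) F) :=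
    ⟨_, rfl⟩
  have hzR : z ∈ R' := hz ▸ g₀.2
  have hR'z : R' = zpowers z := by
    ext y; constructor
    · intro hy
      obtain ⟨i, hi⟩ := mem_zpowers_iff.mp (hg₀ ⟨y, hy⟩)
      rw [mem_zpowers_iff]
      refine ⟨i, ?_⟩
      have := congrArg Subtype.val hi
      rw [hz]; simpa using this
    · intro hy
      obtain ⟨i, rfl⟩ := mem_zpowers_iff.mp hy
      exact zpow_mem hzR i
  obtain ⟨k, hk⟩ := (IsPGroup.iff_orderOf.mp hR'p) ⟨z, hzR⟩
  rw [Subgroup.orderOf_mk] at hk
  have hzcop : (orderOf z).Coprime p := by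
    rw [hk]
    exact Nat.Coprime.pow_left k ((Nat.coprime_primes hr hpprime).mpr hrp)
  have hz2 : z * z ≠ 1 := by
    intro h
    have h1 : orderOf z ∣ 2 := orderOf_dvd_of_pow_eq_one (by rw [pow_two]; exact h)
    have h2 : (orderOf z).Coprime 2 := by
      rw [hk]; exact Nat.Coprime.pow_left k (Nat.coprime_two_right.mpr hrodd)
    have h3 := Nat.Coprime.eq_one_of_dvd h2 h1
    rw [orderOf_eq_one_iff] at h3
    apply hR'ne
    rw [hR'z, h3, zpowers_one_eq_bot]
  have htr := trace_sq_ne_four' z hzcop hz2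
  have hNC : normalizer ((R : Subgroup X) : Set X) ≤ centralizer ((R : Subgroup X) : Set X) := by
    intro g hg
    set g' : SpecialLinearGroup (Fin 2) F := (g : SpecialLinearGroup (Fin 2) F) with hg'
    have hgn : g' ∈ normalizer ((zpowers z : Subgroup (SpecialLinearGroup (Fin 2) F)) :
        Set (SpecialLinearGroup (Fin 2) F)) := by
      rw [← hR'z, Subgroup.mem_normalizer_iff]
      intro h
      constructor
      · rintro ⟨n, hn, rfl⟩
        exact ⟨g * n * g⁻¹, (Subgroup.mem_normalizer_iff.mp hg n).mp hn, by simp [hg']⟩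
      · rintro ⟨m, hm, hmeq⟩
        have hginv : g⁻¹ ∈ normalizer ((R : Subgroup X) : Set X) := inv_mem hg
        refine ⟨g⁻¹ * m * g, ?_, ?_⟩
        · have := (Subgroup.mem_normalizer_iff.mp hginv m).mp hm
          rw [inv_inv] at this
          exact this
        · simp only [Subgroup.subtype_apply, Subgroup.coe_mul, InvMemClass.coe_inv] at hmeq ⊢
          rw [hmeq, hg']
          group
    have hcases := (mem_normalizer_zpowers_iff' z htr g').mp hgn
    have hgodd : Odd (orderOf g') := by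
      have h1 : orderOf g' ∣ Nat.card X := by
        have := orderOf_dvd_natCard g
        rwa [← Subgroup.orderOf_coe] at this
      by_contra hne
      rw [Nat.not_odd_iff_even] at hne
      exact hoddX ((even_iff_two_dvd.mp hne).trans h1)
    have h2 : g' ^ 2 * z * (g' ^ 2)⁻¹ = z := by
      rcases hcases with h | h
      · calc g' ^ 2 * z * (g' ^ 2)⁻¹ = g' * (g' * z * g'⁻¹) * g'⁻¹ := by rw [pow_two]; group
          _ = z := by rw [h, h]
      · calc g' ^ 2 * z * (g' ^ 2)⁻¹ = g' * (g' * z * g'⁻¹) * g'⁻¹ := by rw [pow_two]; group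
          _ = g' * z⁻¹ * g'⁻¹ := by rw [h]
          _ = (g' * z * g'⁻¹)⁻¹ := by group
          _ = z := by rw [h, inv_inv]
    have h3 := conj_eq_of_sq_conj_eq hgodd h2
    have hcomm : g' * z = z * g' := by
      calc g' * z = (g' * z * g'⁻¹) * g' := by group
        _ = z * g' := by rw [h3]
    rw [Subgroup.mem_centralizer_iff]
    intro n hn
    have hn' : ((n : X) : SpecialLinearGroup (Fin 2) F) ∈ zpowers z := by
      rw [← hR'z]; exact ⟨n, hn, rfl⟩
    obtain ⟨i, hi⟩ := mem_zpowers_iff.mp hn'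
    apply Subtype.ext
    simp only [Subgroup.coe_mul]
    rw [← hi]
    have : Commute g' z := hcomm
    exact ((this.zpow_right i).eq).symm
  exact hRne (sylow_eq_bot_of_generated R hNC S hS (hScop r hr hrp))

end Cfsg.Agent.Lib.Helper29.QuadPair
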