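import Mathlib
import Cfsg.Agent.Lib.Helper29.QuadPair
import Cfsg.Agent.Lib.Helper29.QuadPairSL2

/-!
# Quadratic pairs on elementary abelian groups (helper29)
-/

set_option autoImplicit false
set_option linter.style.haveILetI false
set_option linter.unusedSectionVars false

namespace Cfsg.Agent.Lib.Helper29.QuadPair

open TensorProduct

section baseChange

variable {p : ℕ} [Fact p.Prime] {H : Type*} [Group H]
  {V : Type*} [AddCommGroup V] [Module (ZMod p) V]

theorem isQuad_of_sq_zero {K : Type*} [Field K] {W : Type*} [AddCommGroup W] [Module K W]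
    {ρ : Representation K H W} {a : H}
    (h : (ρ a - 1) * (ρ a - 1) = 0) : IsQuad ρ a := by
  intro w
  have := congrArg (fun f => f w) h
  simp only [Module.End.mul_apply, LinearMap.sub_apply, Module.End.one_apply, map_sub,
    LinearMap.zero_apply] at this
  rw [map_sub]
  rw [sub_eq_zero] at this
  exact this

variable (K : Type*) [Field K] [Algebra (ZMod p) K]

/-- base change of a representation over `ZMod p` to `K`. -/
noncomputable def bc (ρ₀ : Representation (ZMod p) H V) : Representation K H (K ⊗[ZMod p] V) :=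
  ((Module.End.baseChangeHom (ZMod p) K V : Module.End (ZMod p) V →ₐ[ZMod p]
    Module.End K (K ⊗[ZMod p] V)) : Module.End (ZMod p) V →* Module.End K (K ⊗[ZMod p] V)).comp ρ₀

theorem bc_apply (ρ₀ : Representation (ZMod p) H V) (g : H) :
    bc K ρ₀ g = Module.End.baseChangeHom (ZMod p) K V (ρ₀ g) := rfl

theorem bc_injective (ρ₀ : Representation (ZMod p) H V) (g : H) (h : bc K ρ₀ g = 1) :
    ρ₀ g = 1 := by
  rw [bc_apply] at h
  have hinj : Function.Injective (Module.End.baseChangeHom (ZMod p) K V) :=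
    LinearMap.baseChangeHom_injective (ZMod p) V K
  apply hinj
  rw [h, map_one]

theorem IsQuad.baseChange {ρ₀ : Representation (ZMod p) H V} {a : H} (h : IsQuad ρ₀ a) :
    IsQuad (bc K ρ₀) a := by
  apply isQuad_of_sq_zero
  have h0 := congrArg (Module.End.baseChangeHom (ZMod p) K V) h.sq_zero
  rw [map_mul, map_zero] at h0
  have h1 : (Module.End.baseChangeHom (ZMod p) K V) (ρ₀ a - 1) = bc K ρ₀ a - 1 := by
    rw [bc_apply]
    have := map_sub (Module.End.baseChangeHom (ZMod p) K V) (ρ₀ a) 1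
    rw [this, map_one]
  rw [h1] at h0
  exact h0

end baseChange

section T593

open Subgroup

variable {p : ℕ} [hpF : Fact p.Prime] {H : Type*} [Group H] [Finite H]
  {V : Type*} [AddCommGroup V] [Module (ZMod p) V] [Finite V]

theorem exists_field_exponent (x : H) :
    ∃ n e : ℕ, n ≠ 0 ∧ x ^ (p ^ e * (p ^ n - 1)) = 1 := by
  have hp : p.Prime := Fact.out
  have hN : orderOf x ≠ 0 := (orderOf_pos x).ne'
  obtain ⟨e, k, hk, hNk⟩ := Nat.exists_eq_pow_mul_and_not_dvd hN p hp.ne_one
  have hk0 : k ≠ 0 := by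
    rintro rfl
    exact hk (dvd_zero p)
  have hcop : Nat.Coprime p k := (Nat.Prime.coprime_iff_not_dvd hp).mpr hk
  have hmod := Nat.ModEq.pow_totient hcop
  have hdvd : k ∣ p ^ k.totient - 1 :=
    (Nat.modEq_iff_dvd' (Nat.one_le_pow _ _ hp.pos)).mp hmod.symm
  refine ⟨k.totient, e, (Nat.totient_pos.mpr (Nat.pos_of_ne_zero hk0)).ne', ?_⟩
  rw [← orderOf_dvd_iff_pow_eq_one, hNk]
  exact Nat.mul_dvd_mul_left _ hdvd

theorem exists_hom_SL2 (ρ₀ : Representation (ZMod p) H V) (hinj : ∀ g, ρ₀ g = 1 → g = 1)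
    (a b : H) (hG : closure {a, b} = ⊤) (ha : IsQuad ρ₀ a) (hb : IsQuad ρ₀ b)
    (hnp : ¬ IsPGroup p H) :
    ∃ (n : ℕ) (φ : H →* Matrix.SpecialLinearGroup (Fin 2) (GaloisField p n)),
      ¬ IsPGroup p φ.range := by
  obtain ⟨n, e, hn, hx⟩ := exists_field_exponent (p := p) (a * b)
  refine ⟨n, ?_⟩
  letI : Fintype (GaloisField p n) := Fintype.ofFinite _
  have hcard : Fintype.card (GaloisField p n) = p ^ n := by
    rw [← Nat.card_eq_fintype_card, GaloisField.card p n hn]
  apply main (K := GaloisField p n) (p := p) a b hG (bc (GaloisField p n) ρ₀)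
    (ha.baseChange _) (hb.baseChange _)
  · refine ⟨e, ?_⟩
    rw [hcard, hx, map_one]
  · intro hall
    apply hnp
    intro g
    obtain ⟨i, hi⟩ := hall g
    exact ⟨i, hinj _ (bc_injective _ ρ₀ _ hi)⟩

theorem pow_prime_eq_one_of_isQuad (ρ₀ : Representation (ZMod p) H V)
    (hinj : ∀ g, ρ₀ g = 1 → g = 1) {a : H} (ha : IsQuad ρ₀ a) : a ^ p = 1 :=
  hinj _ (ha.pow_char (p := p))

/-- abstract form of K-S 8.6.x: faithful `𝔽_p H`-module, `H = ⟨a,b⟩` with `a`, `b` quadratic,
`p` odd, `H` not a `p`-group: Sylow `2`-subgroups of `H` are non-abelian. -/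
theorem sylow_two_not_comm (hp : p ≠ 2) (ρ₀ : Representation (ZMod p) H V)
    (hinj : ∀ g, ρ₀ g = 1 → g = 1)
    (a b : H) (hG : closure {a, b} = ⊤) (ha : IsQuad ρ₀ a) (hb : IsQuad ρ₀ b)
    (hnp : ¬ IsPGroup p H) (T : Sylow 2 H) : ¬ IsMulCommutative T := by
  haveI : Fact (Nat.Prime 2) := ⟨Nat.prime_two⟩
  obtain ⟨n, φ, hφ⟩ := exists_hom_SL2 ρ₀ hinj a b hG ha hb hnp
  intro hT
  apply hφ
  letI : Fintype (GaloisField p n) := Fintype.ofFinite _
  set f := φ.rangeRestrict with hf
  have hfs : Function.Surjective f := φ.rangeRestrict_surjective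
  have hS : closure ({f a, f b} : Set φ.range) = ⊤ := by
    have h1 : (closure ({a, b} : Set H)).map f = ⊤ := by
      rw [hG, ← MonoidHom.range_eq_map, MonoidHom.range_eq_top.mpr hfs]
    rw [MonoidHom.map_closure, Set.image_pair] at h1
    exact h1
  have hSp : ∀ s ∈ ({f a, f b} : Set φ.range), ∃ k : ℕ, s ^ p ^ k = 1 := by
    intro s hs
    refine ⟨1, ?_⟩
    rw [pow_one]
    rcases hs with rfl | rfl
    · rw [← map_pow, pow_prime_eq_one_of_isQuad ρ₀ hinj ha, map_one]
    · rw [← map_pow, pow_prime_eq_one_of_isQuad ρ₀ hinj hb, map_one]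
  have hT' : IsMulCommutative (T.mapSurjective hfs : Sylow 2 φ.range) := by
    refine ⟨⟨?_⟩⟩
    rintro ⟨x, hx⟩ ⟨y, hy⟩
    apply Subtype.ext
    change x * y = y * x
    have hx2 : x ∈ ((T.mapSurjective hfs : Sylow 2 φ.range) : Subgroup φ.range) := hx
    have hy2 : y ∈ ((T.mapSurjective hfs : Sylow 2 φ.range) : Subgroup φ.range) := hy
    rw [Sylow.coe_mapSurjective] at hx2 hy2
    obtain ⟨x', hx', rfl⟩ := hx2
    obtain ⟨y', hy', rfl⟩ := hy2
    rw [← map_mul, ← map_mul]
    congr 1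
    exact congrArg Subtype.val (mul_comm' (⟨x', hx'⟩ : T) ⟨y', hy'⟩)
  exact isPGroup_of_comm_sylow_two hp φ.range _ hS hSp _ hT'

end T593

section conj

open Subgroup
open scoped commutatorElement

universe u

variable {p : ℕ} [hpF : Fact p.Prime] {G : Type u} [Group G]

/-- representation attached to an action on an abelian group of exponent `p`. -/
theorem exists_rep {H : Type*} [Group H] {A : Type u} [CommGroup A] (hA : ∀ x : A, x ^ p = 1)
    (act : H →* MulAut A) :
    ∃ (_ : Module (ZMod p) (Additive A)) (ρ₀ : Representation (ZMod p) H (Additive A)),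
      ∀ (g : H) (x : Additive A), ρ₀ g x = Additive.ofMul (act g (Additive.toMul x)) := by
  obtain ⟨iM⟩ : Nonempty (Module (ZMod p) (Additive A)) :=
    ⟨AddCommGroup.zmodModule (n := p) (by
      intro x
      have h2 : p • x = Additive.ofMul ((Additive.toMul x) ^ p) := rfl
      rw [h2, hA]; rfl)⟩
  refine ⟨iM, ?_⟩
  let ρ₀ : H →* Module.End (ZMod p) (Additive A) :=
    { toFun := fun g => (MonoidHom.toAdditive (act g).toMonoidHom).toZModLinearMap p
      map_one' := by
        apply LinearMap.ext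
        intro x
        change Additive.ofMul ((act 1) (Additive.toMul x)) = x
        rw [map_one]
        rfl
      map_mul' := fun g h => by
        apply LinearMap.ext
        intro x
        change Additive.ofMul ((act (g * h)) (Additive.toMul x)) =
          Additive.ofMul ((act g) (Additive.toMul (Additive.ofMul ((act h) (Additive.toMul x)))))
        rw [map_mul]
        rfl }
  exact ⟨ρ₀, fun g x => rfl⟩

/-- The `𝔽_p`-representation of `H ≤ N_G(V)` on the elementary abelian group `V`. -/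
theorem exists_rep_of_subgroups (V H : Subgroup G) [Finite V]
    (hVc : ∀ x ∈ V, ∀ y ∈ V, x * y = y * x) (hVp : ∀ x ∈ V, x ^ p = 1)
    (hHV : H ≤ normalizer (V : Set G)) (hf : H ⊓ centralizer (V : Set G) = ⊥) :
    ∃ (W : Type u) (_ : AddCommGroup W) (_ : Module (ZMod p) W) (_ : Finite W)
      (ρ₀ : Representation (ZMod p) H W), (∀ g, ρ₀ g = 1 → g = 1) ∧
      (∀ a : H, ⁅⁅V, zpowers (a : G)⁆, zpowers (a : G)⁆ = ⊥ → IsQuad ρ₀ a) := by
  letI : CommGroup V :=
    { (inferInstance : Group V) with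
      mul_comm := fun x y => Subtype.ext (hVc x x.2 y y.2) }
  have hA : ∀ x : V, x ^ p = 1 := fun x => Subtype.ext (by simpa using hVp x x.2)
  let act : H →* MulAut V := (V.normalizerMonoidHom).comp (Subgroup.inclusion hHV)
  have hact : ∀ (g : H) (v : V), ((act g v : V) : G) = g * v * (g : G)⁻¹ := fun g v => rfl
  obtain ⟨iM, ρ₀, hρ₀⟩ := exists_rep (p := p) hA act
  refine ⟨Additive V, inferInstance, iM, inferInstance, ρ₀, ?_, ?_⟩
  · intro g hg
    have h1 : (g : G) ∈ H ⊓ centralizer (V : Set G) := by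
      refine Subgroup.mem_inf.mpr ⟨g.2, ?_⟩
      rw [mem_centralizer_iff]
      intro v hv
      have h2 := congrArg (fun f => f (Additive.ofMul (⟨v, hv⟩ : V))) hg
      simp only [hρ₀, Module.End.one_apply] at h2
      have h3 : act g ⟨v, hv⟩ = ⟨v, hv⟩ := Additive.ofMul.injective h2
      have h4 := congrArg Subtype.val h3
      rw [hact] at h4
      simp only at h4
      calc v * g = (g * v * (g : G)⁻¹) * g := by rw [h4]
        _ = g * v := by group
    rw [hf, mem_bot] at h1
    exact Subtype.ext h1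
  · intro a ha w
    obtain ⟨v, hv⟩ : ∃ v : V, v = Additive.toMul w := ⟨_, rfl⟩
    have hsub : ρ₀ a w - w = Additive.ofMul (act a v / v) := by
      rw [hρ₀, hv]; rfl
    rw [hsub, hρ₀]
    apply congrArg Additive.ofMul
    apply Subtype.ext
    simp only [toMul_ofMul]
    rw [hact]
    -- c = a v a⁻¹ v⁻¹
    have hc : ((act a v / v : V) : G) = ⁅(a : G), (v : G)⁆ := by
      rw [Subgroup.coe_div, hact, commutatorElement_def, div_eq_mul_inv]
    rw [hc]
    have h1 : ⁅(a : G), (v : G)⁆ ∈ ⁅V, zpowers (a : G)⁆ := by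
      rw [commutator_comm]
      exact commutator_mem_commutator (mem_zpowers _) v.2
    have h2 : ⁅(a : G), ⁅(a : G), (v : G)⁆⁆ ∈ ⁅⁅V, zpowers (a : G)⁆, zpowers (a : G)⁆ := by
      rw [commutator_comm]
      exact commutator_mem_commutator (mem_zpowers _) h1
    rw [ha, mem_bot, commutatorElement_def] at h2
    calc (a : G) * ⁅(a : G), (v : G)⁆ * (a : G)⁻¹
        = ((a : G) * ⁅(a : G), (v : G)⁆ * (a : G)⁻¹ * ⁅(a : G), (v : G)⁆⁻¹) * ⁅(a : G), (v : G)⁆ := by
          group
      _ = ⁅(a : G), (v : G)⁆ := by rw [h2, one_mul]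

end conj

section S593

open Subgroup

universe u

variable {p : ℕ} [hpF : Fact p.Prime] {G : Type u} [Group G]

theorem closure_pair_eq_top (H : Subgroup G) (a b : G) (haH : a ∈ H) (hbH : b ∈ H)
    (hab : H = closure {a, b}) : closure {(⟨a, haH⟩ : H), ⟨b, hbH⟩} = ⊤ := by
  apply Subgroup.map_injective H.subtype_injective
  rw [MonoidHom.map_closure, ← MonoidHom.range_eq_map, Subgroup.range_subtype]
  have himg : (H.subtype '' {(⟨a, haH⟩ : H), ⟨b, hbH⟩}) = {a, b} := by
    simp [Set.image_pair]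
  rw [himg]
  exact hab.symm

/-- K-S 8.6.x in subgroup form (statement S0593). -/
theorem sylow_two_not_comm_of_subgroups [Finite G] (hp : p ≠ 2) (V H : Subgroup G)
    (hVc : ∀ x ∈ V, ∀ y ∈ V, x * y = y * x) (hVp : ∀ x ∈ V, x ^ p = 1)
    (hHV : H ≤ normalizer (V : Set G)) (hf : H ⊓ centralizer (V : Set G) = ⊥)
    (a b : G) (hab : H = closure {a, b})
    (ha : ⁅⁅V, zpowers a⁆, zpowers a⁆ = ⊥) (hb : ⁅⁅V, zpowers b⁆, zpowers b⁆ = ⊥)
    (hnp : ¬ IsPGroup p H) (T : Sylow 2 H) : ¬ IsMulCommutative T := by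
  obtain ⟨W, _, _, _, ρ₀, hinj, hquad⟩ := exists_rep_of_subgroups (p := p) V H hVc hVp hHV hf
  have haH : a ∈ H := hab ▸ subset_closure (by simp)
  have hbH : b ∈ H := hab ▸ subset_closure (by simp)
  exact sylow_two_not_comm hp ρ₀ hinj ⟨a, haH⟩ ⟨b, hbH⟩ (closure_pair_eq_top H a b haH hbH hab)
    (hquad ⟨a, haH⟩ ha) (hquad ⟨b, hbH⟩ hb) hnp T

end S593

end Cfsg.Agent.Lib.Helper29.QuadPair
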