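import Mathlib
import Cfsg.Agent.Lib.Helper29.QuadPairAct
import Cfsg.Agent.Lib.Helper25.BaerSuzuki
import Cfsg.Agent.Lib.Helper1.Fitting

/-!
# Quadratic elements outside `O_p` (helper29): K-S 8.6.x via Baer–Suzuki
-/

set_option autoImplicit false
set_option linter.style.haveILetI false
set_option linter.unusedSectionVars false

namespace Cfsg.Agent.Lib.Helper29.QuadPair

open Subgroup

section conjquad

variable {K : Type*} [Field K] {G : Type*} [Group G] {W : Type*} [AddCommGroup W] [Module K W]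

theorem IsQuad.conj {ρ : Representation K G W} {a : G} (h : IsQuad ρ a) (g : G) :
    IsQuad ρ (g * a * g⁻¹) := by
  intro w
  have e : ∀ x, ρ (g * a * g⁻¹) x = ρ g (ρ a (ρ g⁻¹ x)) := by
    intro x
    rw [map_mul, map_mul, Module.End.mul_apply, Module.End.mul_apply]
  obtain ⟨u, rfl⟩ : ∃ u, w = ρ g u := ⟨ρ g⁻¹ w, (ρ.self_inv_apply g w).symm⟩
  rw [e (ρ g u), ρ.inv_self_apply, ← map_sub, e, ρ.inv_self_apply, h u]

theorem IsQuad.comp_subtype {ρ : Representation K G W} {a : G} (h : IsQuad ρ a)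
    (H : Subgroup G) (ha : a ∈ H) : IsQuad (ρ.comp H.subtype) ⟨a, ha⟩ := h

end conjquad

section notcore

variable {p : ℕ} [hpF : Fact p.Prime] {H : Type*} [Group H] [Finite H]
  {V : Type*} [AddCommGroup V] [Module (ZMod p) V] [Finite V]

theorem isPGroup_zpowers_of_pow_eq_one {a : H} (ha : a ^ p = 1) : IsPGroup p (zpowers a) := by
  rintro ⟨x, hx⟩
  obtain ⟨k, rfl⟩ := mem_zpowers_iff.mp hx
  refine ⟨1, Subtype.ext ?_⟩
  simp only [pow_one, SubmonoidClass.mk_pow, OneMemClass.coe_one]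
  rw [← zpow_natCast, ← zpow_mul, mul_comm, zpow_mul, zpow_natCast, ha, one_zpow]

/-- A quadratic element outside `O_p(H)` has a conjugate generating with it a non-`p`-group. -/
theorem exists_conj_not_pgroup (ρ₀ : Representation (ZMod p) H V)
    (hinj : ∀ g, ρ₀ g = 1 → g = 1) (a : H) (ha : IsQuad ρ₀ a) (hna : a ∉ Cfsg.pCore p H) :
    ∃ g : H, ¬ IsPGroup p (closure ({a, g * a * g⁻¹} : Set H)) := by
  have hap : a ^ p = 1 := pow_prime_eq_one_of_isQuad ρ₀ hinj ha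
  have hX : IsPGroup p (zpowers a) := isPGroup_zpowers_of_pow_eq_one hap
  by_contra hall
  push Not at hall
  have hall' : ∀ g : H, IsPGroup p ↥(zpowers a ⊔ Cfsg.conjBy (zpowers a) g) := by
    intro g
    have h1 : zpowers a ⊔ Cfsg.conjBy (zpowers a) g = closure ({a, g * a * g⁻¹} : Set H) := by
      have : Cfsg.conjBy (zpowers a) g = zpowers (g * a * g⁻¹) := by
        unfold Cfsg.conjBy
        rw [MonoidHom.map_zpowers]
        rfl
      rw [this, zpowers_eq_closure, zpowers_eq_closure, ← Subgroup.closure_union]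
      rfl
    rw [h1]
    exact hall g
  obtain ⟨N, hN, hNp, hXN⟩ := Cfsg.Agent.Lib.Helper25.baer_suzuki (zpowers a) hX hall'
  exact hna (Cfsg.Agent.Lib.Helper1.le_pCore hN hNp (hXN (mem_zpowers a)))

/-- commutativity passes to conjugate Sylow subgroups -/
theorem isMulCommutative_sylow_of_isMulCommutative {q : ℕ} [Fact q.Prime] (T Q : Sylow q H)
    (hT : IsMulCommutative T) : IsMulCommutative Q := by
  obtain ⟨g, rfl⟩ := MulAction.exists_smul_eq H T Q
  let e := Sylow.equivSMul T g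
  refine ⟨⟨fun x y => ?_⟩⟩
  obtain ⟨x', rfl⟩ := e.surjective x
  obtain ⟨y', rfl⟩ := e.surjective y
  rw [← map_mul, ← map_mul, mul_comm' x' y']

/-- abstract S0595: a quadratic element outside `O_p(H)` forces non-abelian Sylow `2`-subgroups. -/
theorem sylow_two_not_comm_of_not_mem_pCore (hp : p ≠ 2) (ρ₀ : Representation (ZMod p) H V)
    (hinj : ∀ g, ρ₀ g = 1 → g = 1) (a : H) (ha : IsQuad ρ₀ a) (hna : a ∉ Cfsg.pCore p H)
    (T : Sylow 2 H) : ¬ IsMulCommutative T := by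
  haveI : Fact (Nat.Prime 2) := ⟨Nat.prime_two⟩
  intro hT
  obtain ⟨g, hg⟩ := exists_conj_not_pgroup ρ₀ hinj a ha hna
  set H₁ : Subgroup H := closure ({a, g * a * g⁻¹} : Set H) with hH₁
  have haH : a ∈ H₁ := subset_closure (by simp)
  have hbH : g * a * g⁻¹ ∈ H₁ := subset_closure (by simp)
  obtain ⟨T₁⟩ : Nonempty (Sylow 2 H₁) := inferInstance
  have hinj₁ : ∀ x : H₁, (ρ₀.comp H₁.subtype) x = 1 → x = 1 := by
    intro x hx
    exact Subtype.ext (hinj _ hx)
  have key := sylow_two_not_comm hp (ρ₀.comp H₁.subtype) hinj₁ ⟨a, haH⟩ ⟨g * a * g⁻¹, hbH⟩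
    (closure_pair_eq_top H₁ a (g * a * g⁻¹) haH hbH hH₁)
    (ha.comp_subtype H₁ haH) ((ha.conj g).comp_subtype H₁ hbH) hg T₁
  apply key
  have h2 : IsPGroup 2 ((T₁ : Subgroup H₁).map H₁.subtype) := T₁.2.map _
  obtain ⟨Q, hQ⟩ := h2.exists_le_sylow
  have hQc := isMulCommutative_sylow_of_isMulCommutative T Q hT
  refine ⟨⟨fun x y => ?_⟩⟩
  have hx : ((x : H₁) : H) ∈ Q := hQ ⟨x, x.2, rfl⟩
  have hy : ((y : H₁) : H) ∈ Q := hQ ⟨y, y.2, rfl⟩
  have := congrArg Subtype.val (mul_comm' (⟨_, hx⟩ : Q) ⟨_, hy⟩)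
  exact Subtype.ext (Subtype.ext this)

end notcore

section S595

universe u

variable {p : ℕ} [hpF : Fact p.Prime] {G : Type u} [Group G]

/-- K-S 8.6.x in subgroup form (statement S0595). -/
theorem sylow_two_not_comm_of_not_mem_pCore_subgroups [Finite G] (hp : p ≠ 2) (V H : Subgroup G)
    (hVc : ∀ x ∈ V, ∀ y ∈ V, x * y = y * x) (hVp : ∀ x ∈ V, x ^ p = 1)
    (hHV : H ≤ normalizer (V : Set G)) (hf : H ⊓ centralizer (V : Set G) = ⊥)
    (a : G) (haH : a ∈ H)
    (hq : ⁅⁅V, zpowers a⁆, zpowers a⁆ = ⊥)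
    (hna : a ∉ (Cfsg.pCore p H).map H.subtype) (T : Sylow 2 H) : ¬ IsMulCommutative T := by
  obtain ⟨W, _, _, _, ρ₀, hinj, hquad⟩ := exists_rep_of_subgroups (p := p) V H hVc hVp hHV hf
  refine sylow_two_not_comm_of_not_mem_pCore hp ρ₀ hinj ⟨a, haH⟩ (hquad ⟨a, haH⟩ hq) ?_ T
  intro h
  exact hna ⟨⟨a, haH⟩, h, rfl⟩

end S595

end Cfsg.Agent.Lib.Helper29.QuadPair
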