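import Mathlib
import Cfsg.Prelude.Def_PLocal
import Cfsg.Agent.Lib.Helper29.QuadPairStable
import Cfsg.Agent.Lib.Helper1.PGroup
import Cfsg.Agent.Lib.Helper1.NarrowOmegaZ2

/-!
# `p`-stability in the action sense from quadratic-action theorems (helper29)
-/

set_option autoImplicit false
set_option linter.style.haveILetI false
set_option linter.unusedSectionVars false

namespace Cfsg.Agent.Lib.Helper29.QuadPair

open Subgroup
open scoped commutatorElement

universe u

section core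

variable (p : ℕ) [hpF : Fact p.Prime]

/-- Every quotient `Γ ⧸ C` acting faithfully on a finite abelian group of exponent `p` maps its
quadratically acting elements into `O_p(Γ ⧸ C)`. -/
def QuadCore (Γ : Type u) [Group Γ] : Prop :=
  ∀ (C : Subgroup Γ) [C.Normal] (A : Type u) [CommGroup A] [Finite A], (∀ x : A, x ^ p = 1) →
    ∀ act : Γ ⧸ C →* MulAut A, Function.Injective act →
      ∀ a : Γ ⧸ C, (∀ x : A, act a (act a x / x) = act a x / x) → a ∈ Cfsg.pCore p (Γ ⧸ C)

variable {p}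

theorem isQuad_of_act {H : Type*} [Group H] {A : Type*} [CommGroup A] (act : H →* MulAut A)
    [Module (ZMod p) (Additive A)] (ρ₀ : Representation (ZMod p) H (Additive A))
    (hρ₀ : ∀ (g : H) (x : Additive A), ρ₀ g x = Additive.ofMul (act g (Additive.toMul x)))
    (a : H) (h : ∀ x : A, act a (act a x / x) = act a x / x) : IsQuad ρ₀ a := by
  intro w
  rw [hρ₀ a w]
  have h1 : Additive.ofMul (act a (Additive.toMul w)) - w =
      Additive.ofMul (act a (Additive.toMul w) / Additive.toMul w) := rfl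
  rw [h1, hρ₀]
  exact congrArg Additive.ofMul (h _)

/-- groups with abelian Sylow `2`-subgroups, `p` odd -/
theorem quadCore_of_comm_sylow_two (hp : p ≠ 2) (Γ : Type u) [Group Γ] [Finite Γ]
    (hab : ∀ T : Sylow 2 Γ, IsMulCommutative T) : QuadCore p Γ := by
  haveI : Fact (Nat.Prime 2) := ⟨Nat.prime_two⟩
  intro C _ A _ _ hA act hinj a hquad
  obtain ⟨iM, ρ₀, hρ₀⟩ := exists_rep (p := p) hA act
  have hinj' : ∀ g, ρ₀ g = 1 → g = 1 := by
    intro g hg
    apply hinj
    rw [map_one]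
    ext x
    have := congrArg (fun f => f (Additive.ofMul x)) hg
    simp only [hρ₀, Module.End.one_apply] at this
    exact Additive.ofMul.injective this
  by_contra hna
  obtain ⟨T₀⟩ : Nonempty (Sylow 2 Γ) := inferInstance
  have hs : Function.Surjective (QuotientGroup.mk' C) := QuotientGroup.mk'_surjective C
  refine sylow_two_not_comm_of_not_mem_pCore hp ρ₀ hinj' a (isQuad_of_act act ρ₀ hρ₀ a hquad) hna
    (T₀.mapSurjective hs) ?_
  have := hab T₀
  refine ⟨⟨?_⟩⟩
  rintro ⟨x, hx⟩ ⟨y, hy⟩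
  apply Subtype.ext
  change x * y = y * x
  have hx2 : x ∈ ((T₀.mapSurjective hs : Sylow 2 (Γ ⧸ C)) : Subgroup (Γ ⧸ C)) := hx
  have hy2 : y ∈ ((T₀.mapSurjective hs : Sylow 2 (Γ ⧸ C)) : Subgroup (Γ ⧸ C)) := hy
  rw [Sylow.coe_mapSurjective] at hx2 hy2
  obtain ⟨x', hx', rfl⟩ := hx2
  obtain ⟨y', hy', rfl⟩ := hy2
  rw [← map_mul, ← map_mul]
  congr 1
  exact congrArg Subtype.val (mul_comm' (⟨x', hx'⟩ : T₀) ⟨y', hy'⟩)

end core

section stable

variable {p : ℕ} [hpF : Fact p.Prime] {G : Type u} [Group G]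

/-- the quadratic condition on a normal subgroup, elementwise -/
theorem conj_commutator_eq_of_quad (V : Subgroup G) (a : G)
    (ha : ⁅⁅V, zpowers a⁆, zpowers a⁆ = ⊥) (v : G) (hv : v ∈ V) :
    a * ⁅a, v⁆ * a⁻¹ = ⁅a, v⁆ := by
  have h1 : ⁅a, v⁆ ∈ ⁅V, zpowers a⁆ := by
    rw [commutator_comm]
    exact commutator_mem_commutator (mem_zpowers _) hv
  have h2 : ⁅a, ⁅a, v⁆⁆ ∈ ⁅⁅V, zpowers a⁆, zpowers a⁆ := by
    rw [commutator_comm]
    exact commutator_mem_commutator (mem_zpowers _) h1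
  rw [ha, mem_bot, commutatorElement_def] at h2
  calc a * ⁅a, v⁆ * a⁻¹ = (a * ⁅a, v⁆ * a⁻¹ * ⁅a, v⁆⁻¹) * ⁅a, v⁆ := by group
    _ = ⁅a, v⁆ := by rw [h2, one_mul]

theorem isPStableOn_of_quadCore [Finite G] (hQ : QuadCore p G) (V : Subgroup G) [V.Normal]
    (hVc : ∀ x ∈ V, ∀ y ∈ V, x * y = y * x) (hVp : ∀ x ∈ V, x ^ p = 1) :
    Cfsg.IsPStableOn p V := by
  intro a ha
  letI : CommGroup V :=
    { (inferInstance : Group V) with
      mul_comm := fun x y => Subtype.ext (hVc x x.2 y y.2) }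
  have hA : ∀ x : V, x ^ p = 1 := fun x => Subtype.ext (by simpa using hVp x x.2)
  let act₀ : G →* MulAut V := MulAut.conjNormal
  have hact₀ : ∀ (g : G) (v : V), ((act₀ g v : V) : G) = g * v * g⁻¹ :=
    fun g v => MulAut.conjNormal_apply g v
  have hker : ∀ g, act₀ g = 1 ↔ g ∈ centralizer (V : Set G) := by
    intro g
    rw [mem_centralizer_iff]
    constructor
    · intro hg v hv
      have h1 := congrArg (fun f => ((f ⟨v, hv⟩ : V) : G)) hg
      simp only [hact₀, MulAut.one_apply] at h1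
      calc v * g = (g * v * g⁻¹) * g := by rw [h1]
        _ = g * v := by group
    · intro hg
      ext v
      rw [hact₀, MulAut.one_apply, ← hg v v.2]
      group
  let act : G ⧸ centralizer (V : Set G) →* MulAut V :=
    QuotientGroup.lift _ act₀ (fun g hg => (hker g).mpr hg)
  have hinj : Function.Injective act := by
    rw [injective_iff_map_eq_one]
    intro x hx
    obtain ⟨g, rfl⟩ := QuotientGroup.mk_surjective x
    have hx' : act₀ g = 1 := hx
    exact (QuotientGroup.eq_one_iff g).mpr ((hker g).mp hx')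
  apply hQ (centralizer (V : Set G)) V hA act hinj
  intro v
  have e : ∀ w : V, act (QuotientGroup.mk a) w = act₀ a w := fun w => rfl
  rw [e, e]
  apply Subtype.ext
  rw [hact₀]
  have hc : ((act₀ a v / v : V) : G) = ⁅a, (v : G)⁆ := by
    rw [Subgroup.coe_div, hact₀, commutatorElement_def, div_eq_mul_inv]
  rw [hc]
  exact conj_commutator_eq_of_quad V a ha v v.2

end stable

section stablesection

variable {p : ℕ} [hpF : Fact p.Prime] {G : Type u} [Group G]

theorem relIndex_ker_comap {G' : Type*} [Group G'] (f : G →* G') (hf : Function.Surjective f)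
    (P : Subgroup G') : f.ker.relIndex (P.comap f) = Nat.card P := by
  change ((⊥ : Subgroup G').comap f).relIndex _ = _
  rw [relIndex_comap, map_comap_eq_self_of_surjective hf, relIndex_bot_left]

theorem isPStableOnSection_of_quadCore [Finite G] (hQ : QuadCore p G) (K N : Subgroup G)
    [hKn : K.Normal] [hNn : N.Normal]
    (hKc : ∀ x ∈ K, ∀ y ∈ K, ⁅x, y⁆ ∈ N) (hKp : ∀ x ∈ K, x ^ p ∈ N) :
    Cfsg.IsPStableOnSection p K N := by
  intro a ha
  set Kb : Subgroup (G ⧸ N) := K.map (QuotientGroup.mk' N) with hKb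
  haveI hKbn : Kb.Normal := hKn.map _ (QuotientGroup.mk'_surjective N)
  have hKbc : ∀ x ∈ Kb, ∀ y ∈ Kb, x * y = y * x := by
    rintro _ ⟨x, hx, rfl⟩ _ ⟨y, hy, rfl⟩
    have h1 := hKc x hx y hy
    rw [commutatorElement_def] at h1
    rw [QuotientGroup.mk'_apply, QuotientGroup.mk'_apply, ← QuotientGroup.mk_mul,
      ← QuotientGroup.mk_mul, QuotientGroup.eq_iff_div_mem, div_eq_mul_inv]
    have : x * y * (y * x)⁻¹ = x * y * x⁻¹ * y⁻¹ := by group
    rw [this]
    exact h1
  have hKbp : ∀ x ∈ Kb, x ^ p = 1 := by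
    rintro _ ⟨x, hx, rfl⟩
    rw [QuotientGroup.mk'_apply, ← QuotientGroup.mk_pow, QuotientGroup.eq_one_iff]
    exact hKp x hx
  letI : CommGroup Kb :=
    { (inferInstance : Group Kb) with
      mul_comm := fun x y => Subtype.ext (hKbc x x.2 y y.2) }
  have hA : ∀ x : Kb, x ^ p = 1 := fun x => Subtype.ext (by simpa using hKbp x x.2)
  let act₀ : G →* MulAut Kb := (MulAut.conjNormal (H := Kb)).comp (QuotientGroup.mk' N)
  have hact₀ : ∀ (g : G) (v : Kb), ((act₀ g v : Kb) : G ⧸ N) =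
      (g : G ⧸ N) * v * (g : G ⧸ N)⁻¹ :=
    fun g v => MulAut.conjNormal_apply _ v
  set C : Subgroup G := Cfsg.sectionKernel K N with hC
  haveI hCn : C.Normal := by
    rw [hC]; unfold Cfsg.sectionKernel; infer_instance
  have hCmem : ∀ g, g ∈ C ↔ ∀ v ∈ Kb, v * (g : G ⧸ N) = (g : G ⧸ N) * v := by
    intro g
    rw [hC]; unfold Cfsg.sectionKernel
    rw [mem_comap, mem_centralizer_iff]
    rfl
  have hker : ∀ g, act₀ g = 1 ↔ g ∈ C := by
    intro g
    rw [hCmem]
    constructor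
    · intro hg v hv
      have h1 := congrArg (fun f => ((f ⟨v, hv⟩ : Kb) : G ⧸ N)) hg
      simp only [hact₀, MulAut.one_apply] at h1
      calc v * (g : G ⧸ N) = ((g : G ⧸ N) * v * (g : G ⧸ N)⁻¹) * g := by rw [h1]
        _ = g * v := by group
    · intro hg
      ext v
      rw [hact₀, MulAut.one_apply, ← hg v v.2]
      group
  let act : G ⧸ C →* MulAut Kb :=
    QuotientGroup.lift _ act₀ (fun g hg => (hker g).mpr hg)
  have hinj : Function.Injective act := by
    rw [injective_iff_map_eq_one]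
    intro x hx
    obtain ⟨g, rfl⟩ := QuotientGroup.mk_surjective x
    have hx' : act₀ g = 1 := hx
    exact (QuotientGroup.eq_one_iff g).mpr ((hker g).mp hx')
  have hmem : (QuotientGroup.mk a : G ⧸ C) ∈ Cfsg.pCore p (G ⧸ C) := by
    apply hQ C Kb hA act hinj
    intro v
    have e : ∀ w : Kb, act (QuotientGroup.mk a) w = act₀ a w := fun w => rfl
    rw [e, e]
    apply Subtype.ext
    rw [hact₀]
    obtain ⟨v, hv⟩ := v
    obtain ⟨k, hk, rfl⟩ := hv
    have hc : ((act₀ a ⟨QuotientGroup.mk' N k, ⟨k, hk, rfl⟩⟩ / ⟨QuotientGroup.mk' N k, ⟨k, hk, rfl⟩⟩ : Kb) : G ⧸ N)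
        = ((⁅a, k⁆ : G) : G ⧸ N) := by
      rw [Subgroup.coe_div, hact₀, commutatorElement_def, div_eq_mul_inv]
      rfl
    rw [hc]
    have h1 : ⁅a, k⁆ ∈ ⁅K, zpowers a⁆ := by
      rw [commutator_comm]
      exact commutator_mem_commutator (mem_zpowers _) hk
    have h2 : ⁅a, ⁅a, k⁆⁆ ∈ ⁅⁅K, zpowers a⁆, zpowers a⁆ := by
      rw [commutator_comm]
      exact commutator_mem_commutator (mem_zpowers _) h1
    have h3 := ha h2
    rw [commutatorElement_def] at h3
    rw [← QuotientGroup.mk_inv, ← QuotientGroup.mk_mul, ← QuotientGroup.mk_mul,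
      QuotientGroup.eq_iff_div_mem, div_eq_mul_inv]
    exact h3
  have hs : Function.Surjective (QuotientGroup.mk' C) := QuotientGroup.mk'_surjective C
  refine ⟨(Cfsg.pCore p (G ⧸ C)).comap (QuotientGroup.mk' C), ?_, ?_, ?_, hmem⟩
  · exact (Cfsg.Agent.Lib.Helper1.pCore_normal p (G ⧸ C)).comap _
  · intro g hg
    rw [mem_comap, QuotientGroup.mk'_apply, (QuotientGroup.eq_one_iff g).mpr hg]
    exact one_mem _
  · obtain ⟨k, hk⟩ := IsPGroup.iff_card.mp (Cfsg.Agent.Lib.Helper1.pCore_isPGroup p (G ⧸ C))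
    refine ⟨k, ?_⟩
    have h1 := relIndex_ker_comap (QuotientGroup.mk' C) hs (Cfsg.pCore p (G ⧸ C))
    rw [QuotientGroup.ker_mk'] at h1
    rw [h1, hk]

end stablesection

section action

variable {p : ℕ} [hpF : Fact p.Prime] {G : Type u} [Group G]

theorem omegaCenterThompson_elemAb (P : Type u) [Group P] :
    (∀ x ∈ Cfsg.omegaCenterThompson p P, ∀ y ∈ Cfsg.omegaCenterThompson p P, x * y = y * x) ∧
      ∀ x ∈ Cfsg.omegaCenterThompson p P, x ^ p = 1 := by
  unfold Cfsg.omegaCenterThompson Cfsg.omegaOne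
  apply Cfsg.Agent.Lib.Helper1.elemAb_closure
  · rintro x ⟨hx, -⟩ y ⟨hy, -⟩
    have h1 := (Subgroup.mem_inf.mp hx).2
    have h2 := (Subgroup.mem_inf.mp hy).1
    rw [mem_centralizer_iff] at h1
    exact (h1 y h2).symm
  · rintro x ⟨-, hx⟩
    exact hx

theorem isActionPStable_of_quadCore [Finite G] (hQ : QuadCore p G)
    (hQN : ∀ S : Sylow p G,
      QuadCore p ↥(normalizer (Cfsg.thompsonSubgroupOf p (S : Subgroup G) : Set G))) :
    Cfsg.IsActionPStable p G := by
  refine ⟨?_, ?_, ?_⟩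
  · intro V _ hV
    have := hV.1
    exact isPStableOn_of_quadCore hQ V
      (fun x hx y hy => congrArg Subtype.val (mul_comm' (⟨x, hx⟩ : V) ⟨y, hy⟩)) hV.2
  · haveI : (Cfsg.pCore p G).Normal := Cfsg.Agent.Lib.Helper1.pCore_normal p G
    have hP : IsPGroup p ↥(Cfsg.pCore p G) := Cfsg.Agent.Lib.Helper1.pCore_isPGroup p G
    apply isPStableOnSection_of_quadCore hQ
    · intro x hx y hy
      refine ⟨⁅(⟨x, hx⟩ : Cfsg.pCore p G), ⟨y, hy⟩⁆, ?_, rfl⟩
      apply Cfsg.Agent.Lib.Helper1.IsPGroup.commutator_le_frattini hP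
      rw [commutator_def]
      exact commutator_mem_commutator (mem_top _) (mem_top _)
    · intro x hx
      exact ⟨(⟨x, hx⟩ : Cfsg.pCore p G) ^ p,
        Cfsg.Agent.Lib.Helper1.IsPGroup.pow_mem_frattini hP _, rfl⟩
  · intro S V _ hV
    obtain ⟨hc, he⟩ := omegaCenterThompson_elemAb (p := p) ↥(S : Subgroup G)
    have hmem : ∀ x ∈ V, ∃ z ∈ Cfsg.omegaCenterThompson p ↥(S : Subgroup G),
        ((z : (S : Subgroup G)) : G) = ((x : normalizer
          (Cfsg.thompsonSubgroupOf p (S : Subgroup G) : Set G)) : G) := by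
      intro x hx
      obtain ⟨z, hz, hzx⟩ := hV ⟨x, hx, rfl⟩
      exact ⟨z, hz, hzx⟩
    apply isPStableOn_of_quadCore (hQN S) V
    · intro x hx y hy
      obtain ⟨z, hz, hzx⟩ := hmem x hx
      obtain ⟨w, hw, hwy⟩ := hmem y hy
      apply Subtype.ext
      rw [Subgroup.coe_mul, Subgroup.coe_mul, ← hzx, ← hwy, ← Subgroup.coe_mul, ← Subgroup.coe_mul,
        hc z hz w hw]
    · intro x hx
      obtain ⟨z, hz, hzx⟩ := hmem x hx
      apply Subtype.ext
      rw [Subgroup.coe_pow, ← hzx, ← Subgroup.coe_pow, he z hz]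
      rfl

end action

section S626

variable {p : ℕ} [hpF : Fact p.Prime] {G : Type u} [Group G]

theorem isMulCommutative_sylow_subgroup {q : ℕ} [Fact q.Prime] [Finite G]
    (hab : ∀ T : Sylow q G, IsMulCommutative T) (N : Subgroup G) (T : Sylow q N) :
    IsMulCommutative T := by
  have h2 : IsPGroup q ((T : Subgroup N).map N.subtype) := T.2.map _
  obtain ⟨Q, hQ⟩ := h2.exists_le_sylow
  have hQc := hab Q
  refine ⟨⟨fun x y => ?_⟩⟩
  have hx : ((x : N) : G) ∈ Q := hQ ⟨x, x.2, rfl⟩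
  have hy : ((y : N) : G) ∈ Q := hQ ⟨y, y.2, rfl⟩
  have := congrArg Subtype.val (mul_comm' (⟨_, hx⟩ : Q) ⟨_, hy⟩)
  exact Subtype.ext (Subtype.ext this)

/-- Statement S0626. -/
theorem isActionPStable_of_comm_sylow_two [Finite G] (hp : p ≠ 2)
    (hab : ∀ T : Sylow 2 G, IsMulCommutative T) : Cfsg.IsActionPStable p G := by
  haveI : Fact (Nat.Prime 2) := ⟨Nat.prime_two⟩
  apply isActionPStable_of_quadCore (quadCore_of_comm_sylow_two hp G hab)
  intro S
  exact quadCore_of_comm_sylow_two hp _ (isMulCommutative_sylow_subgroup hab _)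

end S626

end Cfsg.Agent.Lib.Helper29.QuadPair
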