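import Mathlib
import Cfsg.Prelude.Def_PLocal
import Cfsg.Agent.Lib.Helper21.QdAlt

/-!
# `Qd(p)` as a semidirect product (helper29)
-/

set_option autoImplicit false
set_option linter.style.haveILetI false
set_option linter.unusedSectionVars false

namespace Cfsg.Agent.Lib.Helper29.Qd

open Matrix

variable (p : ℕ)

/-- the plane `𝔽_p²`, written multiplicatively. -/
abbrev Pl := Multiplicative (Fin 2 → ZMod p)

/-- natural action of `SL₂(p)` on the plane. -/
def natAct : SpecialLinearGroup (Fin 2) (ZMod p) →* MulAut (Pl p) where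
  toFun A :=
    { toFun := fun v => Multiplicative.ofAdd (A.1 *ᵥ Multiplicative.toAdd v)
      invFun := fun v => Multiplicative.ofAdd ((A⁻¹ : SpecialLinearGroup (Fin 2) (ZMod p)).1 *ᵥ
        Multiplicative.toAdd v)
      left_inv := by
        intro v
        have h : (A⁻¹ : SpecialLinearGroup (Fin 2) (ZMod p)).1 * A.1 = 1 := by
          have : (A⁻¹ * A : SpecialLinearGroup (Fin 2) (ZMod p)).1 = 1 := by
            rw [inv_mul_cancel]; rfl
          exact this
        show Multiplicative.ofAdd ((A⁻¹ : SpecialLinearGroup (Fin 2) (ZMod p)).1 *ᵥ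
          (A.1 *ᵥ Multiplicative.toAdd v)) = v
        rw [Matrix.mulVec_mulVec, h, Matrix.one_mulVec]
        rfl
      right_inv := by
        intro v
        have h : A.1 * (A⁻¹ : SpecialLinearGroup (Fin 2) (ZMod p)).1 = 1 := by
          have : (A * A⁻¹ : SpecialLinearGroup (Fin 2) (ZMod p)).1 = 1 := by
            rw [mul_inv_cancel]; rfl
          exact this
        show Multiplicative.ofAdd (A.1 *ᵥ
          ((A⁻¹ : SpecialLinearGroup (Fin 2) (ZMod p)).1 *ᵥ Multiplicative.toAdd v)) = v
        rw [Matrix.mulVec_mulVec, h, Matrix.one_mulVec]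
        rfl
      map_mul' := by
        intro v w
        show Multiplicative.ofAdd (A.1 *ᵥ (Multiplicative.toAdd v + Multiplicative.toAdd w)) =
          Multiplicative.ofAdd (A.1 *ᵥ Multiplicative.toAdd v) *
            Multiplicative.ofAdd (A.1 *ᵥ Multiplicative.toAdd w)
        rw [Matrix.mulVec_add]
        rfl }
  map_one' := by
    apply MulEquiv.ext
    intro v
    show Multiplicative.ofAdd ((1 : SpecialLinearGroup (Fin 2) (ZMod p)).1 *ᵥ
      Multiplicative.toAdd v) = v
    rw [show (1 : SpecialLinearGroup (Fin 2) (ZMod p)).1 = 1 from rfl, Matrix.one_mulVec]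
    rfl
  map_mul' := by
    intro A B
    apply MulEquiv.ext
    intro v
    show Multiplicative.ofAdd ((A * B : SpecialLinearGroup (Fin 2) (ZMod p)).1 *ᵥ
      Multiplicative.toAdd v) = Multiplicative.ofAdd (A.1 *ᵥ (B.1 *ᵥ Multiplicative.toAdd v))
    rw [Matrix.mulVec_mulVec]
    rfl

theorem natAct_apply (A : SpecialLinearGroup (Fin 2) (ZMod p)) (v : Pl p) :
    natAct p A v = Multiplicative.ofAdd (A.1 *ᵥ Multiplicative.toAdd v) := rfl

/-- translation matrix -/
def transM (v : Fin 2 → ZMod p) : Matrix (Fin 3) (Fin 3) (ZMod p) :=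
  !![1, 0, v 0; 0, 1, v 1; 0, 0, 1]

/-- linear-part matrix -/
def linM (A : Matrix (Fin 2) (Fin 2) (ZMod p)) : Matrix (Fin 3) (Fin 3) (ZMod p) :=
  !![A 0 0, A 0 1, 0; A 1 0, A 1 1, 0; 0, 0, 1]

theorem transM_det (v : Fin 2 → ZMod p) : (transM p v).det = 1 := by
  simp [transM, Matrix.det_fin_three]

theorem linM_det (A : Matrix (Fin 2) (Fin 2) (ZMod p)) : (linM p A).det = A.det := by
  simp [linM, Matrix.det_fin_three, Matrix.det_fin_two]

theorem transM_zero : transM p 0 = 1 := by
  ext i j
  fin_cases i <;> fin_cases j <;> simp [transM]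

theorem transM_add (v w : Fin 2 → ZMod p) : transM p (v + w) = transM p v * transM p w := by
  ext i j
  fin_cases i <;> fin_cases j <;> simp [transM, Matrix.mul_apply, Fin.sum_univ_three] <;>
    exact add_comm _ _

theorem linM_one : linM p 1 = 1 := by
  ext i j
  fin_cases i <;> fin_cases j <;> simp [linM]

theorem linM_mul (A B : Matrix (Fin 2) (Fin 2) (ZMod p)) : linM p (A * B) = linM p A * linM p B := by
  ext i j
  fin_cases i <;> fin_cases j <;>
    simp [linM, Matrix.mul_apply, Fin.sum_univ_three, Fin.sum_univ_two]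

theorem trans_lin (A : Matrix (Fin 2) (Fin 2) (ZMod p)) (v : Fin 2 → ZMod p) :
    transM p (A *ᵥ v) * linM p A = linM p A * transM p v := by
  ext i j
  fin_cases i <;> fin_cases j <;>
    simp [transM, linM, Matrix.mul_apply, Fin.sum_univ_three, Matrix.mulVec, dotProduct,
      Fin.sum_univ_two]

/-- translation matrices. -/
def transSL : Pl p →* SpecialLinearGroup (Fin 3) (ZMod p) where
  toFun v := ⟨transM p (Multiplicative.toAdd v), transM_det p _⟩
  map_one' := Subtype.ext (transM_zero p)
  map_mul' := fun v w => Subtype.ext (transM_add p _ _)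

/-- linear part. -/
def linSL : SpecialLinearGroup (Fin 2) (ZMod p) →* SpecialLinearGroup (Fin 3) (ZMod p) where
  toFun A := ⟨linM p A.1, by rw [linM_det]; exact A.2⟩
  map_one' := Subtype.ext (linM_one p)
  map_mul' := fun A B => Subtype.ext (linM_mul p _ _)

theorem transSL_coe (v : Pl p) : (transSL p v).1 = transM p (Multiplicative.toAdd v) := rfl

theorem linSL_coe (A : SpecialLinearGroup (Fin 2) (ZMod p)) : (linSL p A).1 = linM p A.1 := rfl

theorem transSL_mem (v : Pl p) : transSL p v ∈ Cfsg.qd p := by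
  apply Subgroup.subset_closure
  simp [transSL_coe, transM]

theorem linSL_mem (A : SpecialLinearGroup (Fin 2) (ZMod p)) : linSL p A ∈ Cfsg.qd p := by
  apply Subgroup.subset_closure
  simp [linSL_coe, linM]

theorem compat (A : SpecialLinearGroup (Fin 2) (ZMod p)) (v : Pl p) :
    transSL p (natAct p A v) * linSL p A = linSL p A * transSL p v :=
  Subtype.ext (trans_lin p A.1 (Multiplicative.toAdd v))

/-- the homomorphism `𝔽_p² ⋊ SL₂(p) → Qd(p)`. -/
def qdHom : Pl p ⋊[natAct p] SpecialLinearGroup (Fin 2) (ZMod p) →* ↥(Cfsg.qd p) :=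
  SemidirectProduct.lift
    ((transSL p).codRestrict (Cfsg.qd p) (transSL_mem p))
    ((linSL p).codRestrict (Cfsg.qd p) (linSL_mem p))
    (by
      intro A
      apply MonoidHom.ext
      intro v
      apply Subtype.ext
      simp only [MonoidHom.comp_apply, MulEquiv.coe_toMonoidHom, MonoidHom.codRestrict_apply,
        MulAut.conj_apply, Subgroup.coe_mul, Subgroup.coe_inv]
      rw [eq_mul_inv_iff_mul_eq]
      exact compat p A v)

theorem qdHom_coe (x : Pl p ⋊[natAct p] SpecialLinearGroup (Fin 2) (ZMod p)) :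
    ((qdHom p x : ↥(Cfsg.qd p)) : SpecialLinearGroup (Fin 3) (ZMod p)) =
      transSL p x.left * linSL p x.right := rfl

theorem qdHom_surjective : Function.Surjective (qdHom p) := by
  rintro ⟨M, hM⟩
  have hM' : M ∈ Cfsg.Agent.Lib.Helper21.QdAlt.lastRow p := by
    rw [← Cfsg.Agent.Lib.Helper21.QdAlt.qd_eq]; exact hM
  rw [Cfsg.Agent.Lib.Helper21.QdAlt.mem_lastRow] at hM'
  obtain ⟨h20, h21, h22⟩ := hM'
  have hdet : M.1 0 0 * M.1 1 1 - M.1 0 1 * M.1 1 0 = 1 := by
    have h := M.2
    rw [Matrix.det_fin_three, h20, h21, h22] at h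
    linear_combination h
  let A : SpecialLinearGroup (Fin 2) (ZMod p) :=
    ⟨!![M.1 0 0, M.1 0 1; M.1 1 0, M.1 1 1], by rw [Matrix.det_fin_two_of]; exact hdet⟩
  refine ⟨⟨Multiplicative.ofAdd ![M.1 0 2, M.1 1 2], A⟩, ?_⟩
  apply Subtype.ext
  rw [qdHom_coe]
  apply Subtype.ext
  change transM p ![M.1 0 2, M.1 1 2] * linM p !![M.1 0 0, M.1 0 1; M.1 1 0, M.1 1 1] = M.1
  ext i j
  fin_cases i <;> fin_cases j <;>
    simp [transM, linM, Matrix.mul_apply, Fin.sum_univ_three, h20, h21, h22]

end Cfsg.Agent.Lib.Helper29.Qd
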