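import Mathlib
import Cfsg.Prelude.Def_LocalEven
import Cfsg.Agent.Lib.Helper29.QdSemidirect
import Cfsg.Agent.Lib.Helper27.Involves
import Cfsg.Agent.Lib.Helper13.SL2OrderFour

/-!
# Realizing `Qd(p)` as a section from a natural `SL₂(p)`-module (helper29)
-/

set_option autoImplicit false
set_option linter.style.haveILetI false
set_option linter.unusedSectionVars false

namespace Cfsg.Agent.Lib.Helper29.Qd

open Matrix Subgroup Cfsg.Agent.Lib.Helper13

variable {p : ℕ} [hpF : Fact p.Prime]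

theorem natAct_zSL (v : Pl p) : natAct p (zSL (ZMod p)) v = v⁻¹ := by
  rw [natAct_apply, zSL_coe]
  apply congrArg Multiplicative.ofAdd
  ext i
  fin_cases i <;> simp [Matrix.mulVec, dotProduct, Fin.sum_univ_two]

theorem pl_pow_p (v : Pl p) : v ^ p = 1 := by
  have : v ^ p = Multiplicative.ofAdd (p • Multiplicative.toAdd v) := rfl
  rw [this]
  have h2 : p • Multiplicative.toAdd v = 0 := by
    ext i
    simp
  rw [h2]; rfl

theorem zSL_mul_self' : zSL (ZMod p) * zSL (ZMod p) = 1 := by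
  apply Subtype.ext
  change (!![-1, 0; 0, -1] * !![-1, 0; 0, -1] : Matrix (Fin 2) (Fin 2) (ZMod p)) = 1
  ext i j
  fin_cases i <;> fin_cases j <;> simp [Matrix.mul_apply, Fin.sum_univ_two]

theorem zSL_pow_odd {m : ℕ} (hm : Odd m) : zSL (ZMod p) ^ m = zSL (ZMod p) := by
  obtain ⟨k, rfl⟩ := hm
  rw [pow_succ, pow_mul, pow_two, zSL_mul_self', one_pow, one_mul]

set_option maxHeartbeats 800000 in
/-- **Realization lemma**: a subgroup `K` of a finite group `Γ` acting on an embedded plane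
`c : 𝔽_p² → Γ` as `SL₂(p)` on its natural module (via a surjection `f : K → SL₂(p)`), `p` odd:
then `Qd(p)` is involved in `Γ`. -/
theorem involves_qd_of_natural {Γ : Type*} [Group Γ] [Finite Γ] (hp : p ≠ 2)
    (c : Pl p →* Γ) (hc : Function.Injective c)
    (K : Subgroup Γ) (f : K →* SpecialLinearGroup (Fin 2) (ZMod p)) (hf : Function.Surjective f)
    (hact : ∀ (k : K) (v : Pl p), (k : Γ) * c v * (k : Γ)⁻¹ = c (natAct p (f k) v)) :
    Cfsg.Involves ↥(Cfsg.qd p) Γ := by
  classical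
  haveI : Fact (Nat.Prime 2) := ⟨Nat.prime_two⟩
  have hpodd : Odd p := (Nat.Prime.eq_two_or_odd' hpF.out).resolve_left hp
  -- the 2-element over `-1`
  obtain ⟨k₀, hk₀⟩ := hf (zSL (ZMod p))
  obtain ⟨e, m, hm, hem⟩ := Nat.exists_eq_two_pow_mul_odd (orderOf_pos k₀).ne'
  set z : K := k₀ ^ m with hz
  have hfz : f z = zSL (ZMod p) := by rw [hz, map_pow, hk₀, zSL_pow_odd hm]
  have hz2 : z ^ 2 ^ e = 1 := by
    rw [hz, ← pow_mul, mul_comm, ← hem, pow_orderOf_eq_one]
  -- the normal subgroup `M`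
  set M : Subgroup K := (center (SpecialLinearGroup (Fin 2) (ZMod p))).comap f with hM
  haveI hMn : M.Normal := by rw [hM]; infer_instance
  have hzM : z ∈ M := by
    rw [hM, mem_comap, hfz]; exact zSL_mem_center
  have hZ2 : IsPGroup 2 (zpowers (⟨z, hzM⟩ : M)) := by
    rintro ⟨x, hx⟩
    obtain ⟨i, rfl⟩ := mem_zpowers_iff.mp hx
    refine ⟨e, Subtype.ext ?_⟩
    simp only [Subgroup.coe_pow, Subgroup.coe_one]
    rw [← zpow_natCast, ← _root_.zpow_mul, mul_comm, _root_.zpow_mul, zpow_natCast]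
    have : (⟨z, hzM⟩ : M) ^ 2 ^ e = 1 := Subtype.ext (by simpa using hz2)
    rw [this, _root_.one_zpow]
  obtain ⟨T₁, hT₁⟩ := hZ2.exists_le_sylow
  set T : Subgroup K := (T₁ : Subgroup M).map M.subtype with hT
  have hzT : z ∈ T := ⟨⟨z, hzM⟩, hT₁ (mem_zpowers _), rfl⟩
  have hT2 : IsPGroup 2 T := T₁.2.map _
  have hfrat : normalizer (T : Set K) ⊔ M = ⊤ := Sylow.normalizer_sup_eq_top T₁
  set K₁ : Subgroup K := normalizer (T : Set K) with hK₁
  have hzK₁ : z ∈ K₁ := le_normalizer hzT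
  -- `f` restricted to `K₁` is onto
  have hsurj₁ : ∀ A : SpecialLinearGroup (Fin 2) (ZMod p), ∃ k ∈ K₁, f k = A := by
    intro A
    obtain ⟨k, rfl⟩ := hf A
    have hk : k ∈ ((K₁ ⊔ M : Subgroup K) : Set K) := by rw [hfrat]; exact mem_top k
    rw [Subgroup.mul_normal K₁ M] at hk
    obtain ⟨a, ha, b, hb, rfl⟩ := Set.mem_mul.mp hk
    have hb' : f b ∈ center (SpecialLinearGroup (Fin 2) (ZMod p)) := hb
    rcases center_cases (f b) hb' with h | h
    · exact ⟨a, ha, by rw [map_mul, h, mul_one]⟩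
    · refine ⟨a * z, K₁.mul_mem ha hzK₁, ?_⟩
      rw [map_mul, map_mul, h, hfz]
  -- the plane
  set W : Subgroup Γ := c.range with hW
  have hWp : ∀ w ∈ W, w ^ p = 1 := by
    rintro _ ⟨v, rfl⟩
    rw [← map_pow, pl_pow_p, map_one]
  have hWK : ∀ (k : K), ∀ w ∈ W, (k : Γ) * w * (k : Γ)⁻¹ ∈ W := by
    rintro k _ ⟨v, rfl⟩
    rw [hact]
    exact ⟨_, rfl⟩
  -- trivial intersection
  have hdisj : ∀ k : K, k ∈ K₁ → (k : Γ) ∈ W → k = 1 := by
    intro k hk hkW
    -- `k` commutes with `z`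
    have hcomm : k * z * k⁻¹ * z⁻¹ = 1 := by
      set u : K := k * z * k⁻¹ * z⁻¹ with hu
      have huT : u ∈ T := by
        have h1 : k * z * k⁻¹ ∈ T := (mem_normalizer_iff.mp hk z).mp hzT
        exact T.mul_mem h1 (T.inv_mem hzT)
      have huW : (u : Γ) ∈ W := by
        have h1 : (u : Γ) = (k : Γ) * ((z : Γ) * (k : Γ)⁻¹ * (z : Γ)⁻¹) := by
          rw [hu]; simp only [Subgroup.coe_mul, Subgroup.coe_inv]; group
        rw [h1]
        exact W.mul_mem hkW (hWK z _ (W.inv_mem hkW))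
      obtain ⟨i, hi⟩ := hT2 ⟨u, huT⟩
      have hi' : u ^ 2 ^ i = 1 := by simpa using congrArg Subtype.val hi
      have hup : u ^ p = 1 := by
        apply Subtype.ext
        rw [Subgroup.coe_pow]
        exact hWp _ huW
      have hcop : Nat.Coprime (2 ^ i) p :=
        Nat.Coprime.pow_left i ((Nat.coprime_primes Nat.prime_two hpF.out).mpr (Ne.symm hp))
      have h1 := orderOf_dvd_of_pow_eq_one hi'
      have h2 := orderOf_dvd_of_pow_eq_one hup
      have h3 : orderOf u ∣ 1 := by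
        have := Nat.dvd_gcd h1 h2
        rwa [hcop] at this
      exact orderOf_eq_one_iff.mp (Nat.dvd_one.mp h3)
    have hkz : (z : Γ) * (k : Γ) * (z : Γ)⁻¹ = (k : Γ) := by
      have h1 : k * z = z * k := by
        have := congrArg (fun x => x * z * k) hcomm
        simp only [inv_mul_cancel_right, one_mul] at this
        exact this
      have h2 : z * k * z⁻¹ = k := by rw [← h1]; group
      have := congrArg (fun x : K => (x : Γ)) h2
      simpa using this
    obtain ⟨v, hv⟩ := hkW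
    rw [← hv, hact, hfz, natAct_zSL, map_inv] at hkz
    have hsq : (c v) ^ 2 = 1 := by
      rw [pow_two]
      calc c v * c v = (c v)⁻¹ * c v := by rw [hkz]
        _ = 1 := inv_mul_cancel _
    have hpp : (c v) ^ p = 1 := hWp _ ⟨v, rfl⟩
    have hcop : Nat.Coprime 2 p := (Nat.coprime_primes Nat.prime_two hpF.out).mpr (Ne.symm hp)
    have h3 : orderOf (c v) ∣ 1 := by
      have := Nat.dvd_gcd (orderOf_dvd_of_pow_eq_one hsq) (orderOf_dvd_of_pow_eq_one hpp)
      rwa [hcop] at this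
    have hcv : c v = 1 := orderOf_eq_one_iff.mp (Nat.dvd_one.mp h3)
    apply Subtype.ext
    rw [← hv, hcv]; rfl
  -- the semidirect product
  set f₁ : K₁ →* SpecialLinearGroup (Fin 2) (ZMod p) := f.comp K₁.subtype with hf₁
  set φ₁ : K₁ →* MulAut (Pl p) := (natAct p).comp f₁ with hφ₁
  let j : Pl p ⋊[φ₁] K₁ →* Γ :=
    SemidirectProduct.lift c (K.subtype.comp K₁.subtype) (by
      intro k
      apply MonoidHom.ext
      intro v
      simp only [MonoidHom.comp_apply, MulEquiv.coe_toMonoidHom, MulAut.conj_apply,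
        Subgroup.coe_subtype]
      rw [hact]
      rfl)
  have hj : ∀ x : Pl p ⋊[φ₁] K₁, j x = c x.left * ((x.right : K) : Γ) := fun x => rfl
  have hjinj : Function.Injective j := by
    rw [injective_iff_map_eq_one]
    intro x hx
    rw [hj] at hx
    have h1 : ((x.right : K) : Γ) = (c x.left)⁻¹ := eq_inv_of_mul_eq_one_right hx
    have h2 : ((x.right : K) : Γ) ∈ W := by
      rw [h1]; exact W.inv_mem ⟨_, rfl⟩
    have h3 : (x.right : K) = 1 := hdisj _ x.right.2 h2
    have h4 : x.right = 1 := Subtype.ext h3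
    have h5 : c x.left = 1 := by
      rw [h3] at hx
      simpa using hx
    have h6 : x.left = 1 := hc (by rw [h5, map_one])
    exact SemidirectProduct.ext h6 h4
  let Θ : Pl p ⋊[φ₁] K₁ →* ↥(Cfsg.qd p) :=
    (qdHom p).comp (SemidirectProduct.map (MonoidHom.id (Pl p)) f₁ (by
      intro g
      rfl))
  have hΘ : Function.Surjective Θ := by
    intro y
    obtain ⟨⟨v, A⟩, rfl⟩ := qdHom_surjective p y
    obtain ⟨k, hk, rfl⟩ := hsurj₁ A
    exact ⟨⟨v, ⟨k, hk⟩⟩, rfl⟩
  exact Cfsg.Agent.Lib.Helper27.involves_of_surjective_of_injective Θ hΘ j hjinj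

end Cfsg.Agent.Lib.Helper29.Qd
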