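/-
helper29: abstract class equation for groups in which centralizers of non-central elements are
abelian (`CAZ`), and the numerical analysis used for the weak Dickson theorem on subgroups of
`SL₂(q)`.
-/
import Mathlib

set_option autoImplicit false

namespace Cfsg.Agent.Lib.Helper29.Dickson

open Subgroup

variable {G : Type*} [Group G]

/-- Centralizers of non-central elements are abelian. -/
def CAZ (G : Type*) [Group G] : Prop :=
  ∀ g : G, g ∉ center G → ∀ x y : G, Commute x g → Commute y g → Commute x y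

/-- Non-central elements some conjugate of which commutes with `g`. -/
def cls (g : G) : Set G := {y | y ∉ center G ∧ ∃ x : G, Commute (x * y * x⁻¹) g}

theorem conj_mem_center_iff (x y : G) : x * y * x⁻¹ ∈ center G ↔ y ∈ center G := by
  constructor
  · intro h
    have h1 : x⁻¹ * (x * y * x⁻¹) * x⁻¹⁻¹ ∈ center G :=
      (inferInstance : (center G).Normal).conj_mem _ h x⁻¹
    have h2 : x⁻¹ * (x * y * x⁻¹) * x⁻¹⁻¹ = y := by group
    rwa [h2] at h1
  · intro h
    exact (inferInstance : (center G).Normal).conj_mem _ h x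

theorem CAZ.trans (hCA : CAZ G) {x h g : G} (hh : h ∉ center G) (hxh : Commute x h)
    (hhg : Commute h g) : Commute x g :=
  hCA h hh x g hxh hhg.symm

theorem mem_cls_self {g : G} (hg : g ∉ center G) : g ∈ cls g :=
  ⟨hg, 1, by simp⟩

theorem not_mem_center_of_mem_cls {g y : G} (hy : y ∈ cls g) : y ∉ center G := hy.1

theorem cls_subset (hCA : CAZ G) {g y : G} (hy : y ∈ cls g) : cls y ⊆ cls g := by
  rintro w ⟨hw, x₁, h₁⟩
  obtain ⟨hyZ, x₂, h₂⟩ := hy
  refine ⟨hw, x₂ * x₁, ?_⟩
  have h3 : Commute (x₂ * (x₁ * w * x₁⁻¹) * x₂⁻¹) (x₂ * y * x₂⁻¹) :=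
    (Commute.conj_iff x₂).mpr h₁
  have h4 : x₂ * y * x₂⁻¹ ∉ center G := fun h => hyZ ((conj_mem_center_iff x₂ y).mp h)
  have h5 := hCA.trans h4 h3 h₂
  have h6 : x₂ * x₁ * w * (x₂ * x₁)⁻¹ = x₂ * (x₁ * w * x₁⁻¹) * x₂⁻¹ := by group
  rw [h6]
  exact h5

theorem cls_symm {g y : G} (hg : g ∉ center G) (hy : y ∈ cls g) : g ∈ cls y := by
  obtain ⟨hyZ, x, h⟩ := hy
  refine ⟨hg, x⁻¹, ?_⟩
  have h1 : Commute (x⁻¹ * (x * y * x⁻¹) * x⁻¹⁻¹) (x⁻¹ * g * x⁻¹⁻¹) := (Commute.conj_iff x⁻¹).mpr h
  have h2 : x⁻¹ * (x * y * x⁻¹) * x⁻¹⁻¹ = y := by group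
  rw [h2] at h1
  exact h1.symm

theorem cls_eq_of_mem (hCA : CAZ G) {g y : G} (hg : g ∉ center G) (hy : y ∈ cls g) :
    cls y = cls g :=
  Set.Subset.antisymm (cls_subset hCA hy) (cls_subset hCA (cls_symm hg hy))

theorem cls_disjoint (hCA : CAZ G) {g g' : G} (hg : g ∉ center G) (hg' : g' ∉ center G)
    (h : g' ∉ cls g) : Disjoint (cls g) (cls g') := by
  rw [Set.disjoint_left]
  intro y hy hy'
  apply h
  have h1 := cls_eq_of_mem hCA hg hy
  have h2 := cls_eq_of_mem hCA hg' hy'
  rw [← h1, h2]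
  exact mem_cls_self hg'

theorem centralizer_eq_of_commute (hCA : CAZ G) {g h : G} (hg : g ∉ center G)
    (hh : h ∉ center G) (hc : Commute h g) :
    centralizer ({h} : Set G) = centralizer ({g} : Set G) := by
  ext x
  rw [mem_centralizer_singleton_iff, mem_centralizer_singleton_iff]
  constructor
  · intro hx
    exact (hCA.trans hh (show Commute x h from hx) hc).eq
  · intro hx
    exact (hCA.trans hg (show Commute x g from hx) hc.symm).eq

theorem conj_mem_centralizer_iff_mem_normalizer (hCA : CAZ G) {g c : G} (hg : g ∉ center G)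
    (hc : c ∉ center G) (hcg : Commute c g) (n : G) :
    Commute (n * c * n⁻¹) g ↔ n ∈ normalizer (centralizer ({g} : Set G) : Set G) := by
  have hCc : centralizer ({c} : Set G) = centralizer ({g} : Set G) :=
    centralizer_eq_of_commute hCA hg hc hcg
  constructor
  · intro h
    have hnc : n * c * n⁻¹ ∉ center G := fun h' => hc ((conj_mem_center_iff n c).mp h')
    have hCn : centralizer ({n * c * n⁻¹} : Set G) = centralizer ({g} : Set G) :=
      centralizer_eq_of_commute hCA hg hnc h
    rw [mem_normalizer_iff]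
    intro x
    rw [← hCc]
    nth_rewrite 2 [hCc]
    rw [← hCn, mem_centralizer_singleton_iff, mem_centralizer_singleton_iff]
    exact (Commute.conj_iff (a := x) (b := c) n).symm
  · intro h
    rw [mem_normalizer_iff] at h
    have h1 : c ∈ centralizer ({g} : Set G) := mem_centralizer_singleton_iff.mpr hcg.eq
    have h2 := (h c).mp h1
    exact mem_centralizer_singleton_iff.mp h2

open Classical in
theorem card_cls_mul [Finite G] (hCA : CAZ G) {g : G} (hg : g ∉ center G) :
    Nat.card (cls g) * Nat.card (normalizer (centralizer ({g} : Set G) : Set G)) +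
      Nat.card G * Nat.card (center G) = Nat.card G * Nat.card (centralizer ({g} : Set G)) := by
  let _ : Fintype G := Fintype.ofFinite G
  set N := normalizer (centralizer ({g} : Set G) : Set G) with hN
  -- first count
  have h1 : ∀ x : G, (Finset.univ.filter (fun y : G => y ∉ center G ∧ Commute (x * y * x⁻¹) g)).card
      + Nat.card (center G) = Nat.card (centralizer ({g} : Set G)) := by
    intro x
    set s : Finset G := Finset.univ.filter (fun y : G => Commute (x * y * x⁻¹) g) with hs
    have hs1 : s.card = Nat.card (centralizer ({g} : Set G)) := by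
      rw [Nat.card_eq_fintype_card, ← Fintype.card_coe]
      apply Fintype.card_congr
      refine ⟨fun y => ⟨x * y.1 * x⁻¹, ?_⟩, fun c => ⟨x⁻¹ * c.1 * x, ?_⟩, ?_, ?_⟩
      · have := (Finset.mem_filter.mp y.2).2
        exact mem_centralizer_singleton_iff.mpr this.eq
      · apply Finset.mem_filter.mpr
        refine ⟨Finset.mem_univ _, ?_⟩
        have h2 : x * (x⁻¹ * c.1 * x) * x⁻¹ = c.1 := by group
        rw [h2]
        exact mem_centralizer_singleton_iff.mp c.2
      · intro y
        apply Subtype.ext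
        change x⁻¹ * (x * y.1 * x⁻¹) * x = y.1
        group
      · intro c
        apply Subtype.ext
        change x * (x⁻¹ * c.1 * x) * x⁻¹ = c.1
        group
    have hs2 := Finset.card_filter_add_card_filter_not (s := s) (fun y : G => y ∉ center G)
    have hs3 : s.filter (fun y : G => y ∉ center G) =
        Finset.univ.filter (fun y : G => y ∉ center G ∧ Commute (x * y * x⁻¹) g) := by
      ext y
      simp only [hs, Finset.mem_filter, Finset.mem_univ, true_and]
      tauto
    have hs4 : (s.filter (fun y : G => ¬ y ∉ center G)).card = Nat.card (center G) := by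
      rw [Nat.card_eq_fintype_card, ← Fintype.card_coe]
      apply Fintype.card_congr
      refine ⟨fun y => ⟨y.1, ?_⟩, fun c => ⟨c.1, ?_⟩, fun y => rfl, fun c => rfl⟩
      · have := y.2
        rw [Finset.mem_filter] at this
        exact not_not.mp this.2
      · apply Finset.mem_filter.mpr
        refine ⟨Finset.mem_filter.mpr ⟨Finset.mem_univ _, ?_⟩, not_not.mpr c.2⟩
        have h3 : x * c.1 * x⁻¹ = c.1 := by
          rw [(mem_center_iff.mp c.2 x), mul_assoc, mul_inv_cancel, mul_one]
        rw [h3]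
        exact ((mem_center_iff.mp c.2 g)).symm
    rw [hs3, hs4] at hs2
    rw [hs2, hs1]
  -- second count
  have h2 : ∀ y : G, y ∈ cls g →
      (Finset.univ.filter (fun x : G => y ∉ center G ∧ Commute (x * y * x⁻¹) g)).card = Nat.card N := by
    rintro y ⟨hyZ, x₀, hx₀⟩
    rw [Nat.card_eq_fintype_card, ← Fintype.card_coe]
    apply Fintype.card_congr
    have hcZ : x₀ * y * x₀⁻¹ ∉ center G := fun h' => hyZ ((conj_mem_center_iff x₀ y).mp h')
    have key := conj_mem_centralizer_iff_mem_normalizer hCA hg hcZ hx₀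
    refine ⟨fun x => ⟨x.1 * x₀⁻¹, ?_⟩, fun n => ⟨n.1 * x₀, ?_⟩, ?_, ?_⟩
    · have := x.2
      rw [Finset.mem_filter] at this
      rw [hN, ← key]
      have h3 : x.1 * x₀⁻¹ * (x₀ * y * x₀⁻¹) * (x.1 * x₀⁻¹)⁻¹ = x.1 * y * x.1⁻¹ := by group
      rw [h3]
      exact this.2.2
    · rw [Finset.mem_filter]
      refine ⟨Finset.mem_univ _, hyZ, ?_⟩
      have h3 : n.1 * x₀ * y * (n.1 * x₀)⁻¹ = n.1 * (x₀ * y * x₀⁻¹) * n.1⁻¹ := by group
      rw [h3, key]
      exact n.2
    · intro x
      apply Subtype.ext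
      change x.1 * x₀⁻¹ * x₀ = x.1
      group
    · intro n
      apply Subtype.ext
      change n.1 * x₀ * x₀⁻¹ = n.1
      group
  have h3 : ∀ y : G, y ∉ cls g →
      (Finset.univ.filter (fun x : G => y ∉ center G ∧ Commute (x * y * x⁻¹) g)).card = 0 := by
    intro y hy
    rw [Finset.card_eq_zero, Finset.filter_eq_empty_iff]
    intro x _ hx
    exact hy ⟨hx.1, x, hx.2⟩
  -- double counting
  have h4 : ∑ x : G, (Finset.univ.filter (fun y : G => y ∉ center G ∧ Commute (x * y * x⁻¹) g)).card =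
      ∑ y : G, (Finset.univ.filter (fun x : G => y ∉ center G ∧ Commute (x * y * x⁻¹) g)).card := by
    simp only [Finset.card_filter]
    exact Finset.sum_comm
  have h5 : ∑ y : G, (Finset.univ.filter (fun x : G => y ∉ center G ∧ Commute (x * y * x⁻¹) g)).card =
      Nat.card (cls g) * Nat.card N := by
    rw [← Finset.sum_filter_add_sum_filter_not Finset.univ (fun y : G => y ∈ cls g)]
    rw [Finset.sum_congr rfl (fun y hy => h2 y (Finset.mem_filter.mp hy).2),
      Finset.sum_congr rfl (fun y hy => h3 y (Finset.mem_filter.mp hy).2)]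
    rw [Finset.sum_const, Finset.sum_const_zero, add_zero, smul_eq_mul]
    congr 1
    rw [Nat.card_eq_fintype_card, ← Fintype.card_coe]
    apply Fintype.card_congr
    exact ⟨fun y => ⟨y.1, (Finset.mem_filter.mp y.2).2⟩,
      fun y => ⟨y.1, Finset.mem_filter.mpr ⟨Finset.mem_univ _, y.2⟩⟩, fun y => rfl, fun y => rfl⟩
  have h6 : ∑ x : G, ((Finset.univ.filter (fun y : G => y ∉ center G ∧ Commute (x * y * x⁻¹) g)).card
      + Nat.card (center G)) = ∑ _x : G, Nat.card (centralizer ({g} : Set G)) :=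
    Finset.sum_congr rfl (fun x _ => h1 x)
  rw [Finset.sum_add_distrib, Finset.sum_const, Finset.sum_const, h4, h5, Finset.card_univ,
    smul_eq_mul, smul_eq_mul, ← Nat.card_eq_fintype_card] at h6
  exact h6


theorem card_centralizer_conj (x y : G) :
    Nat.card (centralizer ({x * y * x⁻¹} : Set G)) = Nat.card (centralizer ({y} : Set G)) := by
  apply Nat.card_congr
  refine ⟨fun c => ⟨x⁻¹ * c.1 * x, ?_⟩, fun c => ⟨x * c.1 * x⁻¹, ?_⟩, ?_, ?_⟩
  · have h1 := mem_centralizer_singleton_iff.mp c.2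
    rw [mem_centralizer_singleton_iff]
    have h2 : Commute (x⁻¹ * c.1 * x⁻¹⁻¹) (x⁻¹ * (x * y * x⁻¹) * x⁻¹⁻¹) :=
      (Commute.conj_iff x⁻¹).mpr h1
    have h3 : x⁻¹ * (x * y * x⁻¹) * x⁻¹⁻¹ = y := by group
    rw [h3, inv_inv] at h2
    exact h2.eq
  · have h1 := mem_centralizer_singleton_iff.mp c.2
    rw [mem_centralizer_singleton_iff]
    exact ((Commute.conj_iff x).mpr h1).eq
  · intro c
    apply Subtype.ext
    change x * (x⁻¹ * c.1 * x) * x⁻¹ = c.1
    group
  · intro c
    apply Subtype.ext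
    change x⁻¹ * (x * c.1 * x⁻¹) * x = c.1
    group

theorem card_centralizer_of_mem_cls (hCA : CAZ G) {g y : G} (hg : g ∉ center G)
    (hy : y ∈ cls g) :
    Nat.card (centralizer ({y} : Set G)) = Nat.card (centralizer ({g} : Set G)) := by
  obtain ⟨hyZ, x, hx⟩ := hy
  have h1 : x * y * x⁻¹ ∉ center G := fun h' => hyZ ((conj_mem_center_iff x y).mp h')
  rw [← card_centralizer_conj x y, centralizer_eq_of_commute hCA hg h1 hx]

theorem disjoint_center_cls (g : G) : Disjoint (center G : Set G) (cls g) := by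
  rw [Set.disjoint_left]
  intro y hy hy'
  exact hy'.1 hy

theorem arith_main (p q n k t : ℕ) (hp : p.Prime) (hp2 : p ≠ 2) (hq : ∃ m, q = p ^ m)
    (hq3 : 3 ≤ q) (hk2 : 2 ≤ k) (hkq : k + 1 ≤ q) (ht : 2 ≤ t) (htp : Nat.Coprime t p)
    (hn : 2 ≤ n) (h : n * q * k + 2 * n * t = t * n * q + 2 * t) :
    n = q + 1 ∨ (q = 3 ∧ n = 10 ∧ k = 2) := by
  obtain ⟨m, rfl⟩ := hq
  -- `q ∣ n - 1`
  have hcop : Nat.Coprime (p ^ m) (2 * t) := by
    apply Nat.Coprime.pow_left
    apply Nat.Coprime.mul_right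
    · exact (Nat.coprime_primes hp Nat.prime_two).mpr hp2
    · exact htp.symm
  obtain ⟨n', rfl⟩ : ∃ n', n = n' + 1 := ⟨n - 1, by omega⟩
  have h1 : p ^ m ∣ 2 * t * n' := by
    have h2 : 2 * t * n' + (n' + 1) * p ^ m * k = t * (n' + 1) * p ^ m := by nlinarith
    have h3 : p ^ m ∣ t * (n' + 1) * p ^ m := Dvd.intro_left _ rfl
    have h4 : p ^ m ∣ (n' + 1) * p ^ m * k := ⟨(n' + 1) * k, by ring⟩
    rw [← h2] at h3
    exact (Nat.dvd_add_left h4).mp h3
  have h5 : p ^ m ∣ n' := hcop.dvd_of_dvd_mul_left h1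
  obtain ⟨r, rfl⟩ := h5
  set q := p ^ m with hqdef
  have hr : 1 ≤ r := by
    rcases Nat.eq_zero_or_pos r with h0 | h0
    · subst h0; omega
    · exact h0
  -- divide by q
  have h6 : (1 + r * q) * k + 2 * r * t = t + t * r * q := by
    have hq0 : 0 < q := by omega
    apply Nat.eq_of_mul_eq_mul_left hq0
    nlinarith
  -- D = 1 + r (q - 2)
  obtain ⟨q', hq'⟩ : ∃ q', q = q' + 2 := ⟨q - 2, by omega⟩
  have hq'1 : 1 ≤ q' := by omega
  have h7 : (1 + r * q') * t = (1 + r * q' + 2 * r) * k := by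
    rw [hq'] at h6
    nlinarith
  have hkt : k ≤ t := by
    by_contra hlt
    push Not at hlt
    have : (1 + r * q') * t < (1 + r * q' + 2 * r) * k := by
      calc (1 + r * q') * t < (1 + r * q') * k := by
            apply Nat.mul_lt_mul_of_pos_left hlt; positivity
        _ ≤ (1 + r * q' + 2 * r) * k := by
            apply Nat.mul_le_mul_right; omega
    omega
  obtain ⟨s, rfl⟩ : ∃ s, t = k + s := ⟨t - k, by omega⟩
  have h8 : (1 + r * q') * s = 2 * r * k := by nlinarith
  have h9 : (1 + r * q') ∣ 2 * k := by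
    have h10 : (1 + r * q') ∣ r * (2 * k) := ⟨s, by rw [h8]; ring⟩
    have h11 : Nat.Coprime (1 + r * q') r := by
      rw [Nat.coprime_comm]
      have : Nat.Coprime r (r * q' + 1) := by
        rw [Nat.coprime_mul_left_add_right]
        exact Nat.coprime_one_right r
      rwa [add_comm] at this
    exact h11.dvd_of_dvd_mul_left h10
  have h12 : 1 + r * q' ≤ 2 * k := Nat.le_of_dvd (by omega) h9
  have hkq' : k ≤ q' + 1 := by omega
  -- cases on r
  rcases Nat.lt_or_ge r 2 with hr2 | hr2
  · left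
    have : r = 1 := by omega
    subst this
    ring
  · right
    rcases Nat.lt_or_ge r 3 with hr3 | hr3
    · exfalso
      have hr' : r = 2 := by omega
      subst hr'
      -- D = 1 + 2 q' odd divides 2k, hence k
      have h13 : (1 + 2 * q') ∣ k := by
        have : Nat.Coprime (1 + 2 * q') 2 := by
          rw [Nat.coprime_comm, Nat.Prime.coprime_iff_not_dvd Nat.prime_two]
          omega
        exact this.dvd_of_dvd_mul_left h9
      have := Nat.le_of_dvd (by omega) h13
      omega
    · -- r ≥ 3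
      have h14 : r * q' ≤ 2 * q' + 1 := by omega
      have h15 : q' = 1 := by
        by_contra hne
        have : 2 ≤ q' := by omega
        nlinarith
      subst h15
      have hr' : r = 3 := by omega
      subst hr'
      have hk' : k = 2 := by
        have : (4 : ℕ) ∣ 2 * k := by simpa using h9
        omega
      refine ⟨by omega, by rw [hq'], hk'⟩

theorem ar1 (X s t : ℕ) (ht : 2 ≤ t) (h : 2 * t * s + X = X * t) : X ≤ 4 * s := by
  have h1 : 2 * X ≤ X * t := by nlinarith
  have h2 : X ≤ 2 * t * s := by linarith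
  have h3 : t * X ≤ t * (4 * s) := by nlinarith
  exact Nat.le_of_mul_le_mul_left h3 (by omega)

theorem ar2 (n e q k A B : ℕ) (hk2 : 2 ≤ k) (hq3 : 3 ≤ q) (hn : 2 ≤ n) (he : 0 < e)
    (hA : A + n * e = n * e * q) (hB : 2 * k * B + n * e * q * k = n * e * q * k * k)
    (hle : n * e * q * k ≤ e + A + B) : False := by
  -- 2k X ≤ 2k e + 2k A + 2k B = 2ke + 2k(neq - ne) + Xk - X
  have h1 : 2 * k * (n * e * q * k) ≤ 2 * k * e + 2 * k * A + 2 * k * B := by nlinarith
  have h2 : 2 * k * A + 2 * k * (n * e) = 2 * k * (n * e * q) := by rw [← mul_add, hA]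
  -- so k X + X ≤ 2ke + 2k neq - 2k ne, i.e. n e q k^2 + n e q k + 2 k n e ≤ 2 k e + 2 k n e q
  have h3 : n * e * q * k * k + n * e * q * k + 2 * k * (n * e) ≤ 2 * k * e + 2 * k * (n * e * q) := by
    nlinarith
  -- divide by k e: n q k + n q + 2 n ≤ 2 + 2 n q
  have h4 : (k * e) * (n * q * k + n * q + 2 * n) ≤ (k * e) * (2 + 2 * n * q) := by nlinarith
  have h5 : n * q * k + n * q + 2 * n ≤ 2 + 2 * n * q := Nat.le_of_mul_le_mul_left h4 (by positivity)
  have h6 : n * q * 2 ≤ n * q * k := Nat.mul_le_mul_left (n * q) hk2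
  have h7 : 2 * 3 ≤ n * q := Nat.mul_le_mul hn hq3
  have h8 : 2 * n * q = 2 * (n * q) := by ring
  omega

theorem ar3 (n e q k A B : ℕ) (hk2 : 2 ≤ k) (hq3 : 3 ≤ q) (he : 0 < e)
    (hA : A + n * e = n * e * q) (hB : 2 * k * B + n * e * q * k = n * e * q * k * k)
    (hle : 4 * e + 4 * A + 4 * B + 2 * (n * e * q * k) ≤ 4 * (n * e * q * k)) : False := by
  have h1 : 4 * k * e + 4 * k * A + 2 * (2 * k * B) ≤ 2 * k * (n * e * q * k) := by nlinarith
  have h2 : 4 * k * A + 4 * k * (n * e) = 4 * k * (n * e * q) := by rw [← mul_add, hA]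
  have h3 : 4 * k * e + 4 * k * (n * e * q) ≤ 2 * (n * e * q * k) + 4 * k * (n * e) := by nlinarith
  have h4 : (k * e) * (4 + 4 * n * q) ≤ (k * e) * (2 * n * q + 4 * n) := by nlinarith
  have h5 : 4 + 4 * n * q ≤ 2 * n * q + 4 * n := Nat.le_of_mul_le_mul_left h4 (by positivity)
  have h7 : n * 3 ≤ n * q := Nat.mul_le_mul_left n hq3
  have h8 : 4 * n * q = 4 * (n * q) := by ring
  have h9 : 2 * n * q = 2 * (n * q) := by ring
  omega

theorem ar4 (n e q k t A B C : ℕ) (he : 0 < e) (hk : 0 < k)
    (hA : A + n * e = n * e * q) (hB : 2 * k * B + n * e * q * k = n * e * q * k * k)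
    (hC : 2 * t * C + n * e * q * k = n * e * q * k * t)
    (htot : n * e * q * k = e + A + B + C) :
    n * q * k + 2 * n * t = t * n * q + 2 * t := by
  have h1 : 2 * t * k * (n * e * q * k) = 2 * t * k * e + 2 * t * k * A + t * (2 * k * B)
      + k * (2 * t * C) := by
    nth_rewrite 1 [htot]; ring
  have h2 : 2 * t * k * A + 2 * t * k * (n * e) = 2 * t * k * (n * e * q) := by
    rw [← mul_add, hA]
  have e3 : t * (2 * k * B) + t * (n * e * q * k) = t * (n * e * q * k * k) := by rw [← mul_add, hB]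
  have e4 : k * (2 * t * C) + k * (n * e * q * k) = k * (n * e * q * k * t) := by rw [← mul_add, hC]
  have h3 : e * k * (n * q * k + 2 * n * t) = e * k * (t * n * q + 2 * t) := by nlinarith
  exact Nat.eq_of_mul_eq_mul_left (by positivity) h3


/-- size data of the class of a non-central element with `|N(C(g))| = 2 |C(g)|` -/
theorem torus_class_card [Finite G] (hCA : CAZ G) {g : G} (hg : g ∉ center G) (e X : ℕ)
    (he : 0 < e) (hZ : Nat.card (center G) = e) (hG : Nat.card G = X)
    (hN : Nat.card (normalizer (centralizer ({g} : Set G) : Set G)) =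
      2 * Nat.card (centralizer ({g} : Set G))) :
    ∃ t : ℕ, 2 ≤ t ∧ Nat.card (centralizer ({g} : Set G)) = e * t ∧
      2 * t * (cls g).ncard + X = X * t := by
  have hle : center G ≤ centralizer ({g} : Set G) := center_le_centralizer _
  obtain ⟨t, ht⟩ : e ∣ Nat.card (centralizer ({g} : Set G)) := by
    rw [← hZ]
    exact Subgroup.card_dvd_of_le hle
  have hcpos : 0 < Nat.card (centralizer ({g} : Set G)) := Nat.card_pos
  have ht2 : 2 ≤ t := by
    by_contra hlt
    push Not at hlt
    have ht1 : t = 1 := by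
      rcases Nat.eq_zero_or_pos t with h0 | h0
      · rw [h0, mul_zero] at ht; omega
      · omega
    rw [ht1, mul_one] at ht
    have heq : center G = centralizer ({g} : Set G) := by
      apply Subgroup.eq_of_le_of_card_ge hle
      rw [ht, hZ]
    apply hg
    rw [heq]
    exact mem_centralizer_singleton_iff.mpr rfl
  refine ⟨t, ht2, ht, ?_⟩
  have h1 := card_cls_mul hCA hg
  rw [hN, ht, hZ, hG, _root_.Nat.card_coe_set_eq] at h1
  have h2 : e * (2 * t * (cls g).ncard + X) = e * (X * t) := by nlinarith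
  exact Nat.eq_of_mul_eq_mul_left he h2

theorem count_main [Finite G] (hCA : CAZ G) (p e q k n : ℕ) (hp : p.Prime) (hp2 : p ≠ 2)
    (hq : ∃ m, q = p ^ m) (hq3 : 3 ≤ q) (hk2 : 2 ≤ k) (hkq : k + 1 ≤ q) (hn : 2 ≤ n) (he : 0 < e)
    (hZ : Nat.card (center G) = e)
    (a h : G) (ha : a ∉ center G) (hh : h ∉ center G)
    (hCa : Nat.card (centralizer ({a} : Set G)) = e * q)
    (hNa : Nat.card (normalizer (centralizer ({a} : Set G) : Set G)) = e * q * k)
    (hCh : Nat.card (centralizer ({h} : Set G)) = e * k)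
    (hG : Nat.card G = n * e * q * k)
    (hrest : ∀ g, g ∉ center G → g ∉ cls a →
      Nat.card (normalizer (centralizer ({g} : Set G) : Set G)) =
        2 * Nat.card (centralizer ({g} : Set G)) ∧
      (Nat.card (centralizer ({g} : Set G))).Coprime p) :
    n = q + 1 ∨ (q = 3 ∧ n = 10 ∧ k = 2) := by
  have hXpos : 0 < n * e * q * k := by positivity
  -- `h ∉ cls a`
  have hha : h ∉ cls a := by
    intro hmem
    have := card_centralizer_of_mem_cls hCA ha hmem
    rw [hCh, hCa] at this
    have : k = q := Nat.eq_of_mul_eq_mul_left he this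
    omega
  -- class of `a`
  have hA : (cls a).ncard + n * e = n * e * q := by
    have h1 := card_cls_mul hCA ha
    rw [hNa, hCa, hZ, hG, _root_.Nat.card_coe_set_eq] at h1
    have hpos : 0 < e * q * k := by positivity
    have h2 : (e * q * k) * ((cls a).ncard + n * e) = (e * q * k) * (n * e * q) := by nlinarith
    exact Nat.eq_of_mul_eq_mul_left hpos h2
  -- class of `h`
  obtain ⟨hNh, -⟩ := hrest h hh hha
  obtain ⟨t₁, -, ht₁, hB'⟩ := torus_class_card hCA hh e _ he hZ hG hNh
  have ht₁k : t₁ = k := by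
    rw [hCh] at ht₁
    exact (Nat.eq_of_mul_eq_mul_left he ht₁).symm
  rw [ht₁k] at hB'
  have hZn : (center G : Set G).ncard = e := by
    rw [← hZ, ← _root_.Nat.card_coe_set_eq]; rfl
  -- existence of a third class
  have hex : ∃ g, g ∉ center G ∧ g ∉ cls a ∧ g ∉ cls h := by
    by_contra hno
    push Not at hno
    have hcov : (Set.univ : Set G) ⊆ ((center G : Set G) ∪ cls a) ∪ cls h := by
      intro g _
      by_cases h1 : g ∈ center G
      · exact Or.inl (Or.inl h1)
      · by_cases h2 : g ∈ cls a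
        · exact Or.inl (Or.inr h2)
        · exact Or.inr (hno g h1 h2)
    have h1 := Set.ncard_le_ncard hcov (Set.toFinite _)
    rw [Set.ncard_univ, hG] at h1
    have h2 := Set.ncard_union_le ((center G : Set G) ∪ cls a) (cls h)
    have h3 := Set.ncard_union_le (center G : Set G) (cls a)
    rw [hZn] at h3
    exact ar2 n e q k _ _ hk2 hq3 hn he hA hB' (by omega)
  obtain ⟨g, hgZ, hga, hgh⟩ := hex
  obtain ⟨hNg, hcopg⟩ := hrest g hgZ hga
  obtain ⟨t, ht2, htc, hC⟩ := torus_class_card hCA hgZ e _ he hZ hG hNg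
  have htp : Nat.Coprime t p := by
    rw [htc] at hcopg
    exact Nat.Coprime.coprime_mul_left hcopg
  have hdA : Disjoint (center G : Set G) (cls a) := disjoint_center_cls a
  have hdB : Disjoint ((center G : Set G) ∪ cls a) (cls h) := by
    rw [Set.disjoint_union_left]
    exact ⟨disjoint_center_cls h, cls_disjoint hCA ha hh hha⟩
  have hdC : Disjoint (((center G : Set G) ∪ cls a) ∪ cls h) (cls g) := by
    rw [Set.disjoint_union_left, Set.disjoint_union_left]
    exact ⟨⟨disjoint_center_cls g, cls_disjoint hCA ha hgZ hga⟩, cls_disjoint hCA hh hgZ hgh⟩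
  have hcard3 : ((((center G : Set G) ∪ cls a) ∪ cls h) ∪ cls g).ncard =
      e + (cls a).ncard + (cls h).ncard + (cls g).ncard := by
    rw [Set.ncard_union_eq hdC (Set.toFinite _) (Set.toFinite _),
      Set.ncard_union_eq hdB (Set.toFinite _) (Set.toFinite _),
      Set.ncard_union_eq hdA (Set.toFinite _) (Set.toFinite _), hZn]
  -- only these classes
  have hall : ∀ g', g' ∉ center G → g' ∉ cls a → g' ∉ cls h → g' ∈ cls g := by
    intro g' hg'Z hg'a hg'h
    by_contra hg'g
    obtain ⟨hNg', -⟩ := hrest g' hg'Z hg'a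
    obtain ⟨t', ht'2, -, hC'⟩ := torus_class_card hCA hg'Z e _ he hZ hG hNg'
    have hdC' : Disjoint ((((center G : Set G) ∪ cls a) ∪ cls h) ∪ cls g) (cls g') := by
      rw [Set.disjoint_union_left, Set.disjoint_union_left, Set.disjoint_union_left]
      exact ⟨⟨⟨disjoint_center_cls g', cls_disjoint hCA ha hg'Z hg'a⟩,
        cls_disjoint hCA hh hg'Z hg'h⟩, cls_disjoint hCA hgZ hg'Z hg'g⟩
    have hsub : (((((center G : Set G) ∪ cls a) ∪ cls h) ∪ cls g) ∪ cls g') ⊆ Set.univ :=
      Set.subset_univ _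
    have h1 := Set.ncard_le_ncard hsub (Set.toFinite _)
    rw [Set.ncard_univ, hG, Set.ncard_union_eq hdC' (Set.toFinite _) (Set.toFinite _), hcard3] at h1
    have hc := ar1 _ _ _ ht2 hC
    have hc' := ar1 _ _ _ ht'2 hC'
    exact ar3 n e q k _ _ hk2 hq3 he hA hB' (by omega)
  have hcov : (Set.univ : Set G) ⊆ (((center G : Set G) ∪ cls a) ∪ cls h) ∪ cls g := by
    intro g' _
    by_cases h1 : g' ∈ center G
    · exact Or.inl (Or.inl (Or.inl h1))
    · by_cases h2 : g' ∈ cls a
      · exact Or.inl (Or.inl (Or.inr h2))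
      · by_cases h3 : g' ∈ cls h
        · exact Or.inl (Or.inr h3)
        · exact Or.inr (hall g' h1 h2 h3)
  have htot : n * e * q * k = e + (cls a).ncard + (cls h).ncard + (cls g).ncard := by
    have h1 := Set.ncard_le_ncard hcov (Set.toFinite _)
    have h2 := Set.ncard_le_ncard (Set.subset_univ ((((center G : Set G) ∪ cls a) ∪ cls h) ∪ cls g))
      (Set.toFinite _)
    rw [Set.ncard_univ, hG] at h1 h2
    rw [hcard3] at h1 h2
    omega
  -- the equation
  apply arith_main p q n k t hp hp2 hq hq3 hk2 hkq ht2 htp hn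
  exact ar4 n e q k t _ _ _ he (by omega) hA hB' hC htot


end Cfsg.Agent.Lib.Helper29.Dickson
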