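import Mathlib
import Cfsg.Agent.Lib.Helper29.DicksonCount
import Cfsg.Agent.Lib.Helper29.QuadPairSL2

set_option autoImplicit false
set_option linter.style.haveILetI false

namespace Cfsg.Agent.Lib.Helper29.Dickson

open Subgroup

variable {G : Type*} [Group G]

/-- A subgroup strictly containing the centre contains a non-central element of prime power order. -/
theorem exists_prime_pow_not_mem_center [Finite G] (M : Subgroup G) (hZM : center G ≤ M)
    (hne : M ≠ center G) :
    ∃ (r : ℕ) (_ : r.Prime) (y : G) (j : ℕ), y ∈ M ∧ y ∉ center G ∧ y ^ r ^ j = 1 := by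
  by_contra hno
  push Not at hno
  have hdvd : Nat.card M ∣ Nat.card (center G) := by
    rw [← Nat.factorization_prime_le_iff_dvd Nat.card_pos.ne' Nat.card_pos.ne']
    intro r hr
    haveI : Fact r.Prime := ⟨hr⟩
    let R : Sylow r M := default
    have hRZ : (R : Subgroup M).map M.subtype ≤ center G := by
      rintro _ ⟨y, hy, rfl⟩
      by_contra hyZ
      obtain ⟨j, hj⟩ := (R.2 ⟨y, hy⟩)
      have hj' : (y : G) ^ r ^ j = 1 := by
        have := congrArg (fun z : (R : Subgroup M) => ((z : M) : G)) hj
        simpa using this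
      exact hno r hr (y : G) j y.2 hyZ hj'
    have h1 : Nat.card ((R : Subgroup M).map M.subtype) ∣ Nat.card (center G) :=
      Subgroup.card_dvd_of_le hRZ
    rw [Subgroup.card_map_of_injective M.subtype_injective, Sylow.card_eq_multiplicity] at h1
    exact (hr.pow_dvd_iff_le_factorization Nat.card_pos.ne').mp h1
  apply hne
  symm
  apply Subgroup.eq_of_le_of_card_ge hZM
  exact Nat.le_of_dvd Nat.card_pos hdvd

/-- In a `CAZ` group generated by elements of order `p`, a centralizer of a non-central element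
that has order prime to `p` is not self-normalizing. -/
theorem normalizer_centralizer_ne [Finite G] (hCA : CAZ G) {p : ℕ} [hpF : Fact p.Prime]
    (S : Set G) (hS : closure S = ⊤) (hSp : ∀ s ∈ S, s ^ p = 1) {g : G} (hg : g ∉ center G)
    (hcop : (Nat.card (centralizer ({g} : Set G))).Coprime p) :
    normalizer (centralizer ({g} : Set G) : Set G) ≠ centralizer ({g} : Set G) := by
  intro hN
  set M := centralizer ({g} : Set G) with hM
  have hgM : g ∈ M := mem_centralizer_singleton_iff.mpr rfl
  have hZM : center G ≤ M := center_le_centralizer _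
  have hne : M ≠ center G := fun h => hg (h ▸ hgM)
  obtain ⟨r, hr, y, j, hyM, hyZ, hyj⟩ := exists_prime_pow_not_mem_center M hZM hne
  haveI : Fact r.Prime := ⟨hr⟩
  have hyg : Commute y g := mem_centralizer_singleton_iff.mp hyM
  -- membership in `N(M)` criterion
  have key : ∀ x : G, Commute (x * y * x⁻¹) g → x ∈ M := by
    intro x hx
    have := (conj_mem_centralizer_iff_mem_normalizer hCA hg hyZ hyg x).mp hx
    rw [hN] at this
    exact this
  -- `r ≠ p`
  have hy1 : y ≠ 1 := fun h => hyZ (h ▸ (center G).one_mem)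
  have hrp : r ≠ p := by
    rintro rfl
    have h1 : orderOf y ∣ r ^ j := orderOf_dvd_of_pow_eq_one hyj
    have h2 : orderOf y ∣ Nat.card M := by
      have := orderOf_dvd_natCard (⟨y, hyM⟩ : M)
      rwa [Subgroup.orderOf_mk] at this
    have h3 : orderOf y ≠ 1 := by rwa [Ne, orderOf_eq_one_iff]
    obtain ⟨i, hi, hi'⟩ := (Nat.dvd_prime_pow hr).mp h1
    have hi0 : i ≠ 0 := by
      rintro rfl
      rw [pow_zero] at hi'
      exact h3 hi'
    have h4 : r ∣ Nat.card M := by
      refine dvd_trans ?_ h2
      rw [hi']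
      exact dvd_pow_self r hi0
    exact (Nat.Prime.coprime_iff_not_dvd hr).mp hcop.symm h4
  -- a Sylow `r`-subgroup containing `y`
  have hyp : IsPGroup r (zpowers y) := by
    rw [IsPGroup.iff_orderOf]
    rintro ⟨z, hz⟩
    obtain ⟨i, rfl⟩ := mem_zpowers_iff.mp hz
    rw [Subgroup.orderOf_mk]
    have h1 : orderOf (y ^ i) ∣ r ^ j := by
      apply orderOf_dvd_of_pow_eq_one
      rw [← zpow_natCast, ← zpow_mul, mul_comm, zpow_mul, zpow_natCast, hyj, one_zpow]
    obtain ⟨i', -, hi'⟩ := (Nat.dvd_prime_pow hr).mp h1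
    exact ⟨i', hi'⟩
  obtain ⟨R, hR⟩ := hyp.exists_le_sylow
  have hyR : y ∈ R := hR (mem_zpowers y)
  -- `R ≤ M`
  have hRM : (R : Subgroup G) ≤ M := by
    by_contra hnot
    haveI : Group.IsNilpotent (R : Subgroup G) := R.2.isNilpotent
    have hnc := (normalizerCondition_iff_only_full_group_self_normalizing
      (G := (R : Subgroup G))).mp Group.normalizerCondition_of_isNilpotent
    have hH : (M.subgroupOf (R : Subgroup G)) ≠ ⊤ := by
      intro h
      apply hnot
      rwa [subgroupOf_eq_top] at h
    have hH2 : normalizer ((M.subgroupOf (R : Subgroup G)) : Set (R : Subgroup G)) ≠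
        M.subgroupOf (R : Subgroup G) := fun h => hH (hnc _ h)
    have hH3 : ¬ normalizer ((M.subgroupOf (R : Subgroup G)) : Set (R : Subgroup G)) ≤
        M.subgroupOf (R : Subgroup G) := fun h => hH2 (le_antisymm h le_normalizer)
    rw [SetLike.not_le_iff_exists] at hH3
    obtain ⟨x, hxN, hxM⟩ := hH3
    apply hxM
    rw [mem_subgroupOf]
    apply key
    rw [mem_normalizer_iff] at hxN
    have h1 : (⟨y, hyR⟩ : (R : Subgroup G)) ∈ M.subgroupOf (R : Subgroup G) := by
      rw [mem_subgroupOf]; exact hyM
    have h2 := (hxN ⟨y, hyR⟩).mp h1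
    rw [mem_subgroupOf] at h2
    exact mem_centralizer_singleton_iff.mp h2
  -- `N(R) ≤ C(R)`
  have hNC : normalizer ((R : Subgroup G) : Set G) ≤ centralizer ((R : Subgroup G) : Set G) := by
    intro x hx
    have h1 : x * y * x⁻¹ ∈ (R : Subgroup G) := (mem_normalizer_iff.mp hx y).mp hyR
    have h2 : x ∈ M := key x (mem_centralizer_singleton_iff.mp (hRM h1))
    rw [mem_centralizer_iff]
    intro z hz
    have hzM : z ∈ M := hRM hz
    exact (hCA g hg z x (mem_centralizer_singleton_iff.mp hzM)
      (mem_centralizer_singleton_iff.mp h2)).eq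
  have hbot := QuadPair.sylow_eq_bot_of_generated R hNC S hS (by
    intro s hs
    have h1 : orderOf s ∣ p := orderOf_dvd_of_pow_eq_one (hSp s hs)
    have h2 : Nat.Coprime p r := (Nat.coprime_primes hpF.out hr).mpr (Ne.symm hrp)
    exact Nat.Coprime.coprime_dvd_left h1 h2)
  apply hy1
  have : y ∈ (⊥ : Subgroup G) := hbot ▸ hyR
  exact mem_bot.mp this

end Cfsg.Agent.Lib.Helper29.Dickson
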