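import Mathlib
import Cfsg.Agent.Lib.Helper13.SL2Torus
import Cfsg.Agent.Lib.Helper13.SL2Gen
import Cfsg.Agent.Lib.Helper13.SL2Cyclic
import Cfsg.Agent.Lib.Helper13.SL2b
import Cfsg.Agent.Lib.Helper29.DicksonTransfer
import Cfsg.Agent.Lib.Helper13.PSL2
import Cfsg.Agent.Lib.Helper24.FrobeniusPrime

set_option autoImplicit false
set_option linter.style.haveILetI false

namespace Cfsg.Agent.Lib.Helper29.Dickson

open Subgroup Matrix Cfsg.Agent.Lib.Helper13

/-- A finite group embedded in `SL₂(F)`, generated by an upper and a lower transvection. -/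
structure Setup (F : Type*) [Field F] (G : Type*) [Group G] where
  φ : G →* SpecialLinearGroup (Fin 2) F
  inj : Function.Injective φ
  a : G
  b : G
  τ : F
  lam : F
  hτ : τ ≠ 0
  hlam : lam ≠ 0
  ha : φ a = tSL τ
  hb : φ b = lSL lam
  gen : closure ({a, b} : Set G) = ⊤

namespace Setup

variable {F : Type*} [Field F] {G : Type*} [Group G] (S : Setup F G)

/-- The matrix of `g`. -/
def m (g : G) : Matrix (Fin 2) (Fin 2) F := (S.φ g : Matrix (Fin 2) (Fin 2) F)

theorem m_mul (g h : G) : S.m (g * h) = S.m g * S.m h := by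
  simp [m, map_mul]

theorem m_one : S.m 1 = 1 := by simp [m]

theorem m_det (g : G) : (S.m g).det = 1 := (S.φ g).2

theorem m_det' (g : G) : S.m g 0 0 * S.m g 1 1 - S.m g 0 1 * S.m g 1 0 = 1 := by
  have := S.m_det g
  rwa [Matrix.det_fin_two] at this

theorem m_inv (g : G) : S.m g⁻¹ = !![S.m g 1 1, -S.m g 0 1; -S.m g 1 0, S.m g 0 0] := by
  simp only [m, map_inv, Matrix.SpecialLinearGroup.coe_inv, Matrix.adjugate_fin_two]

theorem m_a : S.m S.a = !![1, S.τ; 0, 1] := by
  simp only [m, S.ha]; rfl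

theorem m_b : S.m S.b = !![1, 0; S.lam, 1] := by
  simp only [m, S.hb]; rfl

theorem m_injective : Function.Injective S.m := by
  intro g h hgh
  exact S.inj (Subtype.ext hgh)

theorem commute_iff (g h : G) : Commute g h ↔ S.m g * S.m h = S.m h * S.m g := by
  rw [← m_mul, ← m_mul]
  exact ⟨fun hc => by rw [hc.eq], fun hc => S.m_injective hc⟩

/-- scalar matrices -/
def sc (M : Matrix (Fin 2) (Fin 2) F) : Prop := M 0 1 = 0 ∧ M 1 0 = 0 ∧ M 0 0 = M 1 1

theorem m_eq_of_sc {g : G} (h : sc (S.m g)) : S.m g = 1 ∨ S.m g = -1 :=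
  scalar_cases (S.φ g) h

theorem mem_center_iff_sc (g : G) : g ∈ center G ↔ sc (S.m g) := by
  constructor
  · intro hg
    have h1 : Commute g S.a := (Subgroup.mem_center_iff.mp hg S.a).symm
    have h2 : Commute g S.b := (Subgroup.mem_center_iff.mp hg S.b).symm
    rw [S.commute_iff, S.m_a] at h1
    rw [S.commute_iff, S.m_b] at h2
    have e00 := congr_fun (congr_fun h1 0) 0
    have e01 := congr_fun (congr_fun h1 0) 1
    have f00 := congr_fun (congr_fun h2 0) 0
    simp [Matrix.mul_apply, Fin.sum_univ_two] at e00 e01 f00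
    have h10 : S.m g 1 0 = 0 := by
      rcases e00 with h | h
      · exact absurd h S.hτ
      · exact h
    have h01 : S.m g 0 1 = 0 := by
      rcases f00 with h | h
      · exact h
      · exact absurd h S.hlam
    refine ⟨h01, h10, ?_⟩
    have : S.τ * (S.m g 0 0 - S.m g 1 1) = 0 := by linear_combination e01
    rcases mul_eq_zero.mp this with h | h
    · exact absurd h S.hτ
    · exact sub_eq_zero.mp h
  · intro hg
    rw [Subgroup.mem_center_iff]
    intro x
    apply (S.commute_iff x g).mpr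
    rcases S.m_eq_of_sc hg with h | h
    · rw [h, mul_one, one_mul]
    · rw [h, mul_neg, neg_mul, mul_one, one_mul]

include S in
theorem caz : CAZ G := by
  intro g hg x y hx hy
  rw [S.mem_center_iff_sc] at hg
  rw [S.commute_iff] at hx hy ⊢
  exact commute_of_commute_nonscalar (S.m g) (S.m x) (S.m y) hg hx hy

theorem a_not_mem_center : S.a ∉ center G := by
  rw [S.mem_center_iff_sc, m_a]
  rintro ⟨h, -, -⟩
  simp at h
  exact S.hτ h

theorem b_not_mem_center : S.b ∉ center G := by
  rw [S.mem_center_iff_sc, m_b]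
  rintro ⟨-, h, -⟩
  simp at h
  exact S.hlam h

/-- The Borel subgroup: upper triangular elements. -/
def borel : Subgroup G where
  carrier := {g | S.m g 1 0 = 0}
  one_mem' := by simp [m_one]
  mul_mem' := by
    intro g h hg hh
    change S.m g 1 0 = 0 at hg
    change S.m h 1 0 = 0 at hh
    change S.m (g * h) 1 0 = 0
    rw [m_mul, Matrix.mul_apply, Fin.sum_univ_two, hg, hh]
    ring
  inv_mem' := by
    intro g hg
    change S.m g 1 0 = 0 at hg
    change S.m g⁻¹ 1 0 = 0
    rw [m_inv]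
    simp [hg]

theorem mem_borel (g : G) : g ∈ S.borel ↔ S.m g 1 0 = 0 := Iff.rfl

/-- The unipotent subgroup: upper unitriangular elements. -/
def unip : Subgroup G where
  carrier := {g | S.m g 1 0 = 0 ∧ S.m g 0 0 = 1}
  one_mem' := by simp [m_one]
  mul_mem' := by
    rintro g h ⟨hg, hg'⟩ ⟨hh, hh'⟩
    change S.m (g * h) 1 0 = 0 ∧ S.m (g * h) 0 0 = 1
    rw [m_mul, Matrix.mul_apply, Fin.sum_univ_two, hg, hh, Matrix.mul_apply, Fin.sum_univ_two, hg',
      hh', hh]
    simp
  inv_mem' := by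
    rintro g ⟨hg, hg'⟩
    have hd := S.m_det' g
    rw [hg, hg'] at hd
    have h11 : S.m g 1 1 = 1 := by linear_combination hd
    change S.m g⁻¹ 1 0 = 0 ∧ S.m g⁻¹ 0 0 = 1
    rw [m_inv]
    simp [hg, h11]

theorem mem_unip (g : G) : g ∈ S.unip ↔ S.m g 1 0 = 0 ∧ S.m g 0 0 = 1 := Iff.rfl

theorem m_of_mem_unip {g : G} (hg : g ∈ S.unip) : S.m g = !![1, S.m g 0 1; 0, 1] := by
  obtain ⟨h1, h2⟩ := hg
  have hd := S.m_det' g
  rw [h1, h2] at hd
  ext i j
  fin_cases i <;> fin_cases j <;> simp [h1, h2]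
  linear_combination hd

theorem phi_of_mem_unip {g : G} (hg : g ∈ S.unip) : S.φ g = tSL (S.m g 0 1) := by
  apply Subtype.ext
  exact S.m_of_mem_unip hg

theorem mem_centralizer_a (g : G) :
    g ∈ centralizer ({S.a} : Set G) ↔ S.m g 1 0 = 0 ∧ S.m g 0 0 = S.m g 1 1 := by
  have key := mem_centralizer_tSL_iff S.τ S.hτ (S.φ g)
  change _ ↔ ((S.φ g : SpecialLinearGroup (Fin 2) F) : Matrix (Fin 2) (Fin 2) F) 1 0 = 0 ∧
    ((S.φ g : SpecialLinearGroup (Fin 2) F) : Matrix (Fin 2) (Fin 2) F) 0 0 =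
      ((S.φ g : SpecialLinearGroup (Fin 2) F) : Matrix (Fin 2) (Fin 2) F) 1 1
  rw [← key, mem_centralizer_singleton_iff, mem_centralizer_singleton_iff, ← S.ha, ← map_mul,
    ← map_mul]
  exact ⟨fun h => by rw [h], fun h => S.inj h⟩

theorem unip_le_centralizer : S.unip ≤ centralizer ({S.a} : Set G) := by
  intro g hg
  rw [mem_centralizer_a]
  have := S.m_of_mem_unip hg
  refine ⟨hg.1, ?_⟩
  rw [this]
  simp

theorem centralizer_le_borel : centralizer ({S.a} : Set G) ≤ S.borel := by
  intro g hg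
  exact ((S.mem_centralizer_a g).mp hg).1

theorem a_mem_unip : S.a ∈ S.unip := by
  rw [mem_unip, m_a]
  simp

/-- lower-left entry of a conjugate of `a` -/
theorem conj_a_entry (x : G) : S.m (x * S.a * x⁻¹) 1 0 = -S.τ * S.m x 1 0 ^ 2 := by
  rw [m_mul, m_mul, m_inv, m_a]
  simp [Matrix.mul_apply, Fin.sum_univ_two]
  ring

theorem normalizer_centralizer_a :
    normalizer (centralizer ({S.a} : Set G) : Set G) = S.borel := by
  ext x
  rw [← conj_mem_centralizer_iff_mem_normalizer S.caz S.a_not_mem_center S.a_not_mem_center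
    (Commute.refl S.a) x, mem_borel]
  constructor
  · intro h
    have h1 : x * S.a * x⁻¹ ∈ centralizer ({S.a} : Set G) := mem_centralizer_singleton_iff.mpr h.eq
    have h2 := ((S.mem_centralizer_a _).mp h1).1
    rw [conj_a_entry] at h2
    have h3 : S.m x 1 0 ^ 2 = 0 := by
      rcases mul_eq_zero.mp h2 with h | h
      · exact absurd (neg_eq_zero.mp h) S.hτ
      · exact h
    exact pow_eq_zero_iff (two_ne_zero) |>.mp h3
  · intro h
    have h1 : S.φ (x * S.a * x⁻¹) = tSL (S.τ * S.m x 0 0 ^ 2) := by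
      rw [map_mul, map_mul, map_inv, S.ha]
      exact upper_conj_tSL h S.τ
    have h2 : x * S.a * x⁻¹ ∈ centralizer ({S.a} : Set G) := by
      rw [mem_centralizer_a]
      have : S.m (x * S.a * x⁻¹) = !![1, S.τ * S.m x 0 0 ^ 2; 0, 1] := by
        change ((S.φ (x * S.a * x⁻¹) : SpecialLinearGroup (Fin 2) F) : Matrix (Fin 2) (Fin 2) F) = _
        rw [h1]; rfl
      rw [this]
      simp
    exact mem_centralizer_singleton_iff.mp h2

theorem m_diag_of_mem_borel {g : G} (hg : g ∈ S.borel) : S.m g 0 0 * S.m g 1 1 = 1 := by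
  have hd := S.m_det' g
  rw [(S.mem_borel g).mp hg, mul_zero, sub_zero] at hd
  exact hd

/-- The diagonal character of the Borel subgroup. -/
def delta : S.borel →* Fˣ where
  toFun g := ⟨S.m g.1 0 0, S.m g.1 1 1, S.m_diag_of_mem_borel g.2, by
    rw [mul_comm]; exact S.m_diag_of_mem_borel g.2⟩
  map_one' := by
    apply Units.ext
    simp [m_one]
  map_mul' := by
    intro g h
    apply Units.ext
    change S.m (g.1 * h.1) 0 0 = S.m g.1 0 0 * S.m h.1 0 0
    rw [m_mul, Matrix.mul_apply, Fin.sum_univ_two, (S.mem_borel h.1).mp h.2, mul_zero, add_zero]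

theorem delta_val (g : S.borel) : ((S.delta g : Fˣ) : F) = S.m g.1 0 0 := rfl

theorem mem_ker_delta (g : S.borel) : g ∈ S.delta.ker ↔ g.1 ∈ S.unip := by
  rw [MonoidHom.mem_ker, mem_unip, Units.ext_iff, delta_val]
  constructor
  · intro h
    exact ⟨g.2, h⟩
  · intro h
    exact h.2

theorem unip_le_borel : S.unip ≤ S.borel := fun _ hg => hg.1

theorem card_borel [Finite G] :
    Nat.card S.borel = Nat.card S.unip * Nat.card S.delta.range := by
  have h1 := Subgroup.card_mul_index S.delta.ker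
  rw [Subgroup.index_ker] at h1
  rw [← h1]
  congr 1
  apply Nat.card_congr
  refine ⟨fun g => ⟨g.1.1, (S.mem_ker_delta _).mp g.2⟩,
    fun g => ⟨⟨g.1, S.unip_le_borel g.2⟩, (S.mem_ker_delta _).mpr g.2⟩, fun g => rfl, fun g => rfl⟩

theorem unip_inf_center : S.unip ⊓ center G = ⊥ := by
  rw [eq_bot_iff]
  rintro g ⟨hu, hz⟩
  rw [mem_bot]
  apply S.m_injective
  rw [m_one]
  have hz' : g ∈ center G := hz
  have hu' : g ∈ S.unip := hu
  rw [S.mem_center_iff_sc] at hz'
  obtain ⟨h01, h10, h00⟩ := hz'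
  rw [S.m_of_mem_unip hu', h01]
  ext i j
  fin_cases i <;> fin_cases j <;> simp

section charp

variable {p : ℕ} [hpF : Fact p.Prime] [CharP F p]

omit hpF in
theorem pow_p_of_mem_unip {g : G} (hg : g ∈ S.unip) : g ^ p = 1 := by
  apply S.inj
  rw [map_pow, S.phi_of_mem_unip hg, tSL_pow, CharP.cast_eq_zero, zero_mul, tSL_zero, map_one]

omit hpF in
theorem isPGroup_unip : IsPGroup p S.unip := by
  rintro ⟨g, hg⟩
  refine ⟨1, ?_⟩
  apply Subtype.ext
  rw [pow_one]
  exact S.pow_p_of_mem_unip hg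

end charp

theorem m_pow_00 {g : G} (hg : g ∈ S.borel) (n : ℕ) : S.m (g ^ n) 0 0 = S.m g 0 0 ^ n := by
  have h1 : S.delta (⟨g, hg⟩ ^ n) = S.delta ⟨g, hg⟩ ^ n := map_pow _ _ _
  have h2 := congrArg (fun u : Fˣ => (u : F)) h1
  simpa [delta_val] using h2

theorem m_mul_00 {g h : G} (hh : h ∈ S.borel) : S.m (g * h) 0 0 = S.m g 0 0 * S.m h 0 0 := by
  rw [m_mul, Matrix.mul_apply, Fin.sum_univ_two, (S.mem_borel h).mp hh, mul_zero, add_zero]

section charp

variable {p : ℕ} [hpF : Fact p.Prime] [CharP F p]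

include hpF in
theorem card_centralizer_a [Finite G] (hp2 : p ≠ 2) :
    Nat.card (centralizer ({S.a} : Set G)) = Nat.card (center G) * Nat.card S.unip := by
  have h2F : (2 : F) ≠ 0 := by
    intro h
    have h1 : ((2 : ℕ) : F) = 0 := by exact_mod_cast h
    rw [CharP.cast_eq_zero_iff F p] at h1
    exact hp2 ((Nat.prime_dvd_prime_iff_eq hpF.out Nat.prime_two).mp h1)
  rw [← Nat.card_prod]
  symm
  refine Nat.card_congr (Equiv.ofBijective
    (fun zu : center G × S.unip =>
      (⟨zu.2.1 * zu.1.1, (centralizer ({S.a} : Set G)).mul_mem (S.unip_le_centralizer zu.2.2)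
        (center_le_centralizer _ zu.1.2)⟩ : centralizer ({S.a} : Set G))) ⟨?_, ?_⟩)
  · rintro ⟨⟨z, hz⟩, ⟨u, hu⟩⟩ ⟨⟨z', hz'⟩, ⟨u', hu'⟩⟩ h
    have h1 : u * z = u' * z' := congrArg Subtype.val h
    have h3 : u'⁻¹ * u = z' * z⁻¹ := by
      have : u'⁻¹ * (u * z) * z⁻¹ = u'⁻¹ * (u' * z') * z⁻¹ := by rw [h1]
      calc u'⁻¹ * u = u'⁻¹ * (u * z) * z⁻¹ := by group
        _ = u'⁻¹ * (u' * z') * z⁻¹ := this
        _ = z' * z⁻¹ := by group
    have h4 : u'⁻¹ * u ∈ S.unip ⊓ center G := by
      refine ⟨S.unip.mul_mem (S.unip.inv_mem hu') hu, ?_⟩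
      rw [h3]
      exact (center G).mul_mem hz' ((center G).inv_mem hz)
    rw [S.unip_inf_center, mem_bot] at h4
    have h5 : u = u' := by
      have := congrArg (fun x => u' * x) h4
      simpa using this
    subst h5
    have h6 : z = z' := mul_left_cancel h1
    subst h6
    rfl
  · rintro ⟨g, hg⟩
    obtain ⟨h10, h00⟩ := (S.mem_centralizer_a g).mp hg
    have hgB : g ∈ S.borel := h10
    have hd := S.m_diag_of_mem_borel hgB
    rw [← h00] at hd
    have hsq : (S.m g 0 0 - 1) * (S.m g 0 0 + 1) = 0 := by linear_combination hd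
    rcases mul_eq_zero.mp hsq with h | h
    · have hgu : g ∈ S.unip := ⟨h10, sub_eq_zero.mp h⟩
      refine ⟨(⟨1, (center G).one_mem⟩, ⟨g, hgu⟩), ?_⟩
      apply Subtype.ext
      simp
    · have h00' : S.m g 0 0 = -1 := eq_neg_of_add_eq_zero_left h
      set z := g ^ p with hz
      have hzB : z ∈ S.borel := S.borel.pow_mem hgB p
      have hz00 : S.m z 0 0 = -1 := by
        rw [hz, S.m_pow_00 hgB, h00']
        exact Odd.neg_one_pow (hpF.out.odd_of_ne_two hp2)
      have hg2 : g * g ∈ S.unip := by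
        refine ⟨S.borel.mul_mem hgB hgB, ?_⟩
        rw [S.m_mul_00 hgB, h00']
        ring
      have hz2 : z * z = 1 := by
        rw [hz, ← pow_add, ← two_mul, pow_mul, pow_two]
        exact S.pow_p_of_mem_unip hg2
      have hz11 : S.m z 1 1 = -1 := by
        have := S.m_diag_of_mem_borel hzB
        rw [hz00] at this
        linear_combination -this
      have hz01 : S.m z 0 1 = 0 := by
        have h1 : S.m (z * z) 0 1 = 0 := by rw [hz2, m_one]; simp
        rw [m_mul, Matrix.mul_apply, Fin.sum_univ_two, hz00, hz11] at h1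
        have h2 : (2 : F) * S.m z 0 1 = 0 := by linear_combination -h1
        rcases mul_eq_zero.mp h2 with h | h
        · exact absurd h h2F
        · exact h
      have hzZ : z ∈ center G := by
        rw [S.mem_center_iff_sc]
        exact ⟨hz01, hzB, by rw [hz00, hz11]⟩
      have hgz : g * z ∈ S.unip := by
        refine ⟨S.borel.mul_mem hgB hzB, ?_⟩
        rw [S.m_mul_00 hzB, h00', hz00]
        ring
      refine ⟨(⟨z⁻¹, (center G).inv_mem hzZ⟩, ⟨g * z, hgz⟩), ?_⟩
      apply Subtype.ext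
      change g * z * z⁻¹ = g
      group

end charp

theorem mem_centralizer_a_of_sq {g : G} (hg : g ∈ S.borel) (h : S.m g 0 0 ^ 2 = 1) :
    g ∈ centralizer ({S.a} : Set G) := by
  rw [mem_centralizer_a]
  refine ⟨hg, ?_⟩
  have hd := S.m_diag_of_mem_borel hg
  have h0 : S.m g 0 0 ≠ 0 := by
    intro h0
    rw [h0, zero_mul] at hd
    exact zero_ne_one hd
  apply mul_left_cancel₀ h0
  rw [hd, ← pow_two, h]

theorem exists_torus [Finite G] (k : ℕ)
    (hk : Nat.card S.borel = Nat.card (center G) * Nat.card S.unip * k) (hk2 : 2 ≤ k)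
    (hCa : Nat.card (centralizer ({S.a} : Set G)) = Nat.card (center G) * Nat.card S.unip) :
    ∃ h : G, h ∉ center G ∧
      Nat.card (centralizer ({h} : Set G)) = Nat.card (center G) * k := by
  haveI : Finite S.delta.range := by
    have : Finite (Set.range S.delta) := Set.finite_coe_iff.mpr (Set.finite_range S.delta)
    exact this
  obtain ⟨⟨d₀, hd₀⟩, hgen⟩ := IsCyclic.exists_generator (α := S.delta.range)
  obtain ⟨⟨h, hhB⟩, hh⟩ := hd₀
  -- every diagonal entry is a power of `d₀`
  have hpow : ∀ g : S.borel, ∃ i : ℤ, S.delta g = d₀ ^ i := by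
    intro g
    have h1 := hgen ⟨S.delta g, ⟨g, rfl⟩⟩
    obtain ⟨i, hi⟩ := mem_zpowers_iff.mp h1
    refine ⟨i, ?_⟩
    have h2 := congrArg (fun x : S.delta.range => (x : Fˣ)) hi
    simpa using h2.symm
  -- card of the range
  have hq : 0 < Nat.card S.unip := Nat.card_pos
  have hrange : Nat.card S.delta.range = Nat.card (center G) * k := by
    have h1 := S.card_borel
    rw [hk] at h1
    have h2 : Nat.card S.unip * (Nat.card (center G) * k) =
        Nat.card S.unip * Nat.card S.delta.range := by rw [← h1]; ring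
    exact (Nat.eq_of_mul_eq_mul_left hq h2).symm
  -- `d₀ ^ 2 ≠ 1`
  have hd2 : d₀ ^ 2 ≠ 1 := by
    intro hd
    have hle : S.borel ≤ centralizer ({S.a} : Set G) := by
      intro g hg
      apply S.mem_centralizer_a_of_sq hg
      obtain ⟨i, hi⟩ := hpow ⟨g, hg⟩
      have h1 : (S.delta ⟨g, hg⟩) ^ 2 = 1 := by
        rw [hi, ← zpow_natCast, ← _root_.zpow_mul, mul_comm, _root_.zpow_mul, zpow_natCast, hd, _root_.one_zpow]
      have h2 := congrArg (fun u : Fˣ => (u : F)) h1
      simpa [delta_val] using h2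
    have heq : S.borel = centralizer ({S.a} : Set G) := le_antisymm hle S.centralizer_le_borel
    rw [heq, hCa] at hk
    have hpos : 0 < Nat.card (center G) * Nat.card S.unip := Nat.mul_pos Nat.card_pos hq
    have : k = 1 := by
      have h3 : Nat.card (center G) * Nat.card S.unip * 1 =
          Nat.card (center G) * Nat.card S.unip * k := by rw [mul_one]; exact hk
      exact (Nat.eq_of_mul_eq_mul_left hpos h3).symm
    omega
  have hd : S.m h 0 0 = (d₀ : F) := by
    rw [← hh]; rfl
  have hdd := S.m_diag_of_mem_borel hhB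
  have hne : S.m h 0 0 ≠ S.m h 1 1 := by
    intro he
    apply hd2
    apply Units.ext
    rw [Units.val_pow_eq_pow_val, ← hd, pow_two]
    nth_rewrite 2 [he]
    rw [hdd]; rfl
  refine ⟨h, ?_, ?_⟩
  · rw [S.mem_center_iff_sc]
    rintro ⟨-, -, h3⟩
    exact hne h3
  · -- the centralizer of `h`
    have hCB : centralizer ({h} : Set G) ≤ S.borel := by
      intro y hy
      have h1 := (S.commute_iff y h).mp (mem_centralizer_singleton_iff.mp hy)
      have e10 := congr_fun (congr_fun h1 1) 0
      rw [Matrix.mul_apply, Matrix.mul_apply, Fin.sum_univ_two, Fin.sum_univ_two,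
        (S.mem_borel h).mp hhB] at e10
      have h2 : S.m y 1 0 * (S.m h 0 0 - S.m h 1 1) = 0 := by linear_combination e10
      rcases mul_eq_zero.mp h2 with h3 | h3
      · exact h3
      · exact absurd (sub_eq_zero.mp h3) hne
    set ψ : centralizer ({h} : Set G) →* Fˣ := S.delta.comp (Subgroup.inclusion hCB) with hψ
    have hψinj : Function.Injective ψ := by
      rw [injective_iff_map_eq_one]
      intro y hy
      have hyu : y.1 ∈ S.unip := by
        have : (Subgroup.inclusion hCB y) ∈ S.delta.ker := hy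
        exact (S.mem_ker_delta _).mp this
      have h1 := (S.commute_iff y.1 h).mp (mem_centralizer_singleton_iff.mp y.2)
      have e01 := congr_fun (congr_fun h1 0) 1
      rw [Matrix.mul_apply, Matrix.mul_apply, Fin.sum_univ_two, Fin.sum_univ_two,
        S.m_of_mem_unip hyu] at e01
      simp at e01
      have h2 : S.m y.1 0 1 * (S.m h 1 1 - S.m h 0 0) = 0 := by linear_combination e01
      have h3 : S.m y.1 0 1 = 0 := by
        rcases mul_eq_zero.mp h2 with h3 | h3
        · exact h3
        · exact absurd (sub_eq_zero.mp h3).symm hne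
      apply Subtype.ext
      apply S.m_injective
      rw [S.m_of_mem_unip hyu, h3, OneMemClass.coe_one, m_one]
      ext i j
      fin_cases i <;> fin_cases j <;> simp
    have hrangeψ : ψ.range = S.delta.range := by
      apply le_antisymm
      · rintro _ ⟨y, rfl⟩
        exact ⟨Subgroup.inclusion hCB y, rfl⟩
      · rintro _ ⟨g, rfl⟩
        obtain ⟨i, hi⟩ := hpow g
        have hhi : h ^ i ∈ centralizer ({h} : Set G) :=
          (centralizer ({h} : Set G)).zpow_mem (mem_centralizer_singleton_iff.mpr rfl) i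
        refine ⟨⟨h ^ i, hhi⟩, ?_⟩
        rw [hi, hψ, MonoidHom.comp_apply]
        have : Subgroup.inclusion hCB ⟨h ^ i, hhi⟩ = (⟨h, hhB⟩ : S.borel) ^ i := by
          apply Subtype.ext
          simp
        rw [this, map_zpow, hh]
    rw [← hrange, ← hrangeψ]
    exact Nat.card_congr (MonoidHom.ofInjective hψinj).toEquiv

include S in
theorem sq_eq_one_of_mem_center {z : G} (hz : z ∈ center G) : z * z = 1 := by
  apply S.m_injective
  rw [m_mul, m_one]
  rcases S.m_eq_of_sc ((S.mem_center_iff_sc z).mp hz) with h | h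
  · rw [h, mul_one]
  · rw [h, neg_mul_neg, mul_one]

section charp

variable {p : ℕ} [hpF : Fact p.Prime] [CharP F p]

include hpF in
theorem two_ne_zero' (hp2 : p ≠ 2) : (2 : F) ≠ 0 := by
  intro h
  have h1 : ((2 : ℕ) : F) = 0 := by exact_mod_cast h
  rw [CharP.cast_eq_zero_iff F p] at h1
  exact hp2 ((Nat.prime_dvd_prime_iff_eq hpF.out Nat.prime_two).mp h1)

include hpF S in
theorem eq_one_of_mem_center_of_pow (hp2 : p ≠ 2) {z : G} (hz : z ∈ center G) (j : ℕ)
    (hzp : z ^ p ^ j = 1) : z = 1 := by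
  have h1 : z ^ 2 = 1 := by rw [pow_two]; exact S.sq_eq_one_of_mem_center hz
  have h2 : orderOf z ∣ 2 := orderOf_dvd_of_pow_eq_one h1
  have h3 : orderOf z ∣ p ^ j := orderOf_dvd_of_pow_eq_one hzp
  have h4 : Nat.Coprime 2 (p ^ j) := by
    apply Nat.Coprime.pow_right
    exact (Nat.coprime_primes Nat.prime_two hpF.out).mpr (Ne.symm hp2)
  have h5 : orderOf z ∣ 1 := by
    have := Nat.dvd_gcd h2 h3
    rwa [h4] at this
  exact orderOf_eq_one_iff.mp (Nat.dvd_one.mp h5)

include hpF S in
/-- `p`-subgroups are abelian. -/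
theorem commute_of_isPGroup [Finite G] (hp2 : p ≠ 2) (P : Subgroup G) (hP : IsPGroup p P) {x y : G}
    (hx : x ∈ P) (hy : y ∈ P) : Commute x y := by
  by_cases hx1 : x = 1
  · rw [hx1]; exact Commute.one_left y
  haveI : Nontrivial P := ⟨⟨⟨x, hx⟩, 1, fun h => hx1 (congrArg Subtype.val h)⟩⟩
  haveI : Nontrivial (center P) := hP.center_nontrivial
  obtain ⟨⟨c, hc⟩, hc1⟩ := exists_ne (1 : center P)
  have hcG : (c : G) ∉ center G := by
    intro h
    obtain ⟨j, hj⟩ := hP c
    have hj' : (c : G) ^ p ^ j = 1 := by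
      have := congrArg (fun z : P => (z : G)) hj
      simpa using this
    have := S.eq_one_of_mem_center_of_pow hp2 h j hj'
    apply hc1
    apply Subtype.ext
    apply Subtype.ext
    exact this
  have hcx : ∀ z : G, z ∈ P → Commute z (c : G) := by
    intro z hz
    have := Subgroup.mem_center_iff.mp hc ⟨z, hz⟩
    have h2 := congrArg (fun w : P => (w : G)) this
    exact h2
  exact S.caz (c : G) hcG x y (hcx x hx) (hcx y hy)

include hpF in
theorem exists_sylow_eq_unip [Finite G] (hp2 : p ≠ 2) :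
    ∃ P : Sylow p G, (P : Subgroup G) = S.unip := by
  obtain ⟨P, hP⟩ := S.isPGroup_unip.exists_le_sylow
  refine ⟨P, le_antisymm ?_ hP⟩
  intro y hy
  have h1 : Commute y S.a := S.commute_of_isPGroup hp2 P P.2 hy (hP S.a_mem_unip)
  have h2 : y ∈ centralizer ({S.a} : Set G) := mem_centralizer_singleton_iff.mpr h1.eq
  obtain ⟨h10, h00⟩ := (S.mem_centralizer_a y).mp h2
  refine ⟨h10, ?_⟩
  have hyB : y ∈ S.borel := h10
  have hd := S.m_diag_of_mem_borel hyB
  rw [← h00] at hd
  have hsq : (S.m y 0 0 - 1) * (S.m y 0 0 + 1) = 0 := by linear_combination hd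
  rcases mul_eq_zero.mp hsq with h | h
  · exact sub_eq_zero.mp h
  · exfalso
    have h00' : S.m y 0 0 = -1 := eq_neg_of_add_eq_zero_left h
    obtain ⟨j, hj⟩ := P.2 ⟨y, hy⟩
    have hj' : y ^ p ^ j = 1 := by
      have := congrArg (fun z : (P : Subgroup G) => (z : G)) hj
      simpa using this
    have h3 := S.m_pow_00 hyB (p ^ j)
    rw [hj', m_one, h00', Odd.neg_one_pow ((hpF.out.odd_of_ne_two hp2).pow)] at h3
    simp at h3
    have : (2 : F) = 0 := by linear_combination h3
    exact Setup.two_ne_zero' (F := F) hp2 this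

theorem conj_mem_unip {x u : G} (hx : x ∈ S.borel) (hu : u ∈ S.unip) : x * u * x⁻¹ ∈ S.unip := by
  have h1 : S.φ (x * u * x⁻¹) = tSL (S.m u 0 1 * S.m x 0 0 ^ 2) := by
    rw [map_mul, map_mul, map_inv, S.phi_of_mem_unip hu]
    exact upper_conj_tSL hx _
  have h2 : S.m (x * u * x⁻¹) = !![1, S.m u 0 1 * S.m x 0 0 ^ 2; 0, 1] := by
    change ((S.φ (x * u * x⁻¹) : SpecialLinearGroup (Fin 2) F) : Matrix (Fin 2) (Fin 2) F) = _
    rw [h1]; rfl
  rw [mem_unip, h2]
  simp

theorem normalizer_unip : normalizer (S.unip : Set G) = S.borel := by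
  ext x
  constructor
  · intro hx
    rw [← S.normalizer_centralizer_a,
      ← conj_mem_centralizer_iff_mem_normalizer S.caz S.a_not_mem_center S.a_not_mem_center
        (Commute.refl S.a) x]
    have h1 : x * S.a * x⁻¹ ∈ S.unip := (mem_normalizer_iff.mp hx S.a).mp S.a_mem_unip
    exact mem_centralizer_singleton_iff.mp (S.unip_le_centralizer h1)
  · intro hx
    rw [mem_normalizer_iff]
    intro u
    constructor
    · exact S.conj_mem_unip hx
    · intro h
      have h1 := S.conj_mem_unip (S.borel.inv_mem hx) h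
      have h2 : x⁻¹ * (x * u * x⁻¹) * x⁻¹⁻¹ = u := by group
      rwa [h2] at h1

end charp

theorem centralizer_eq_comap (g : G) :
    centralizer ({g} : Set G) =
      (centralizer ({S.φ g} : Set (SpecialLinearGroup (Fin 2) F))).comap S.φ := by
  ext x
  rw [mem_comap, mem_centralizer_singleton_iff, mem_centralizer_singleton_iff, ← map_mul, ← map_mul]
  exact ⟨fun h => by rw [h], fun h => S.inj h⟩

section charp

variable {p : ℕ} [hpF : Fact p.Prime] [CharP F p]

include hpF in
theorem coprime_card_centralizer [Fintype F] [Finite G] (g : G)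
    (htr : (S.m g).trace ^ 2 ≠ 4) :
    (Nat.card (centralizer ({g} : Set G))).Coprime p := by
  have h1 : Nat.card (centralizer ({g} : Set G)) ∣
      Nat.card (centralizer ({S.φ g} : Set (SpecialLinearGroup (Fin 2) F))) := by
    rw [S.centralizer_eq_comap]
    exact Subgroup.card_comap_dvd_of_injective _ _ S.inj
  obtain ⟨n, -, hn⟩ := FiniteField.card F p
  have hpdvd : p ∣ Fintype.card F := by
    rw [hn]
    exact dvd_pow_self p n.ne_zero
  have hF1 : 1 ≤ Fintype.card F := Fintype.card_pos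
  rw [Nat.coprime_comm, Nat.Prime.coprime_iff_not_dvd hpF.out]
  intro hp
  have h2 := dvd_trans hp h1
  rcases card_centralizer_cases (S.φ g) htr with h | h
  · rw [h] at h2
    have h3 : p ∣ Fintype.card F - (Fintype.card F - 1) := Nat.dvd_sub hpdvd h2
    have h4 : Fintype.card F - (Fintype.card F - 1) = 1 := by omega
    rw [h4] at h3
    exact hpF.out.one_lt.ne' (Nat.dvd_one.mp h3)
  · rw [h] at h2
    have h3 : p ∣ Fintype.card F + 1 - Fintype.card F := Nat.dvd_sub h2 hpdvd
    have h4 : Fintype.card F + 1 - Fintype.card F = 1 := by omega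
    rw [h4] at h3
    exact hpF.out.one_lt.ne' (Nat.dvd_one.mp h3)

theorem b_pow : S.b ^ p = 1 := by
  apply S.inj
  rw [map_pow, map_one, S.hb]
  apply pow_char_eq_one_of_fixed p (lSL S.lam) ![0, 1]
  · intro h
    have := congr_fun h 1
    simp at this
  · rw [lSL_coe]
    ext i
    fin_cases i <;> simp [Matrix.mulVec, dotProduct, Fin.sum_univ_two]

include hpF S in
theorem ne_inv_of_not_mem_center (hp2 : p ≠ 2) {g : G} (hg : g ∉ center G) : g ≠ g⁻¹ := by
  intro h
  apply hg
  rw [S.mem_center_iff_sc]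
  have h1 : S.m g = S.m g⁻¹ := by rw [← h]
  rw [m_inv] at h1
  have e01 := congr_fun (congr_fun h1 0) 1
  have e10 := congr_fun (congr_fun h1 1) 0
  have e00 := congr_fun (congr_fun h1 0) 0
  simp at e01 e10 e00
  have h2F := Setup.two_ne_zero' (F := F) hp2
  refine ⟨?_, ?_, e00⟩
  · have : (2 : F) * S.m g 0 1 = 0 := by linear_combination e01
    exact (mul_eq_zero.mp this).resolve_left h2F
  · have : (2 : F) * S.m g 1 0 = 0 := by linear_combination e10
    exact (mul_eq_zero.mp this).resolve_left h2F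

include hpF in
theorem card_normalizer_torus [Finite G] [Fintype F] (hp2 : p ≠ 2) (g : G) (hg : g ∉ center G)
    (htr : (S.m g).trace ^ 2 ≠ 4)
    (hcop : (Nat.card (centralizer ({g} : Set G))).Coprime p) :
    Nat.card (normalizer (centralizer ({g} : Set G) : Set G)) =
      2 * Nat.card (centralizer ({g} : Set G)) := by
  have hne := normalizer_centralizer_ne S.caz (p := p) ({S.a, S.b} : Set G) S.gen (by
    rintro s (rfl | rfl)
    · exact S.pow_p_of_mem_unip S.a_mem_unip
    · exact S.b_pow) hg hcop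
  -- membership criterion
  have hmem : ∀ y : G, y ∈ normalizer (centralizer ({g} : Set G) : Set G) ↔
      y * g * y⁻¹ = g ∨ y * g * y⁻¹ = g⁻¹ := by
    intro y
    rw [← conj_mem_centralizer_iff_mem_normalizer S.caz hg hg (Commute.refl g) y]
    constructor
    · intro h
      have h1 : S.φ y * S.φ g * (S.φ y)⁻¹ ∈
          centralizer ({S.φ g} : Set (SpecialLinearGroup (Fin 2) F)) := by
        rw [mem_centralizer_singleton_iff, ← map_inv, ← map_mul, ← map_mul, ← map_mul, ← map_mul,
          h.eq]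
      rcases conj_eq_cases (S.φ g) htr (S.φ y) h1 with h2 | h2
      · left
        apply S.inj
        rw [map_mul, map_mul, map_inv, h2]
      · right
        apply S.inj
        rw [map_mul, map_mul, map_inv, map_inv, h2]
    · rintro (h | h)
      · rw [h]
      · rw [h]; exact (Commute.refl g).inv_left
  have hex : ∃ x, x ∈ normalizer (centralizer ({g} : Set G) : Set G) ∧
      x ∉ centralizer ({g} : Set G) := by
    by_contra hno
    push Not at hno
    exact hne (le_antisymm hno le_normalizer)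
  obtain ⟨x, hxN, hxC⟩ := hex
  have hx : x * g * x⁻¹ = g⁻¹ := by
    rcases (hmem x).mp hxN with h | h
    · exfalso
      apply hxC
      rw [mem_centralizer_singleton_iff]
      calc x * g = x * g * x⁻¹ * x := by group
        _ = g * x := by rw [h]
    · exact h
  exact card_eq_two_mul_card_centralizer _ g (S.ne_inv_of_not_mem_center hp2 hg) hmem x hx

include hpF in
theorem mem_cls_a [Finite G] (hp2 : p ≠ 2) (g : G) (hg : g ∉ center G)
    (htr : (S.m g).trace ^ 2 = 4) : g ∈ cls S.a := by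
  have h2F := Setup.two_ne_zero' (F := F) hp2
  -- eigenvalue `ε`
  obtain ⟨ε, hε2, hεtr⟩ : ∃ ε : F, ε ^ 2 = 1 ∧ (S.m g).trace = 2 * ε := by
    refine ⟨(S.m g).trace / 2, ?_, by field_simp⟩
    field_simp
    linear_combination htr
  have hdet0 : (S.m g - ε • (1 : Matrix (Fin 2) (Fin 2) F)).det = 0 := by
    have hd := S.m_det' g
    rw [Matrix.trace_fin_two] at hεtr
    rw [Matrix.det_fin_two]
    simp
    linear_combination hd - ε * hεtr - hε2
  obtain ⟨v, hv, hNv⟩ := Matrix.exists_mulVec_eq_zero_iff.mpr hdet0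
  have hMv : S.m g *ᵥ v = ε • v := by
    rw [Matrix.sub_mulVec, Matrix.smul_mulVec, Matrix.one_mulVec, sub_eq_zero] at hNv
    exact hNv
  set u := g * g with hu
  have huv : S.m u *ᵥ v = v := by
    rw [hu, m_mul, ← Matrix.mulVec_mulVec, hMv, Matrix.mulVec_smul, hMv, smul_smul, ← pow_two, hε2,
      one_smul]
  have hup : u ^ p = 1 := by
    apply S.inj
    rw [map_pow, map_one]
    exact pow_char_eq_one_of_fixed p (S.φ u) v hv huv
  have hu1 : u ≠ 1 := by
    intro h
    apply S.ne_inv_of_not_mem_center hp2 hg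
    exact eq_inv_of_mul_eq_one_left h
  have huZ : u ∉ center G := by
    intro h
    exact hu1 (S.eq_one_of_mem_center_of_pow hp2 h 1 (by rw [pow_one]; exact hup))
  -- Sylow conjugacy
  obtain ⟨P, hP⟩ := S.exists_sylow_eq_unip hp2
  have hupg : IsPGroup p (zpowers u) := by
    rw [IsPGroup.iff_orderOf]
    rintro ⟨z, hz⟩
    obtain ⟨i, rfl⟩ := mem_zpowers_iff.mp hz
    rw [Subgroup.orderOf_mk]
    have h1 : orderOf (u ^ i) ∣ p := by
      apply orderOf_dvd_of_pow_eq_one
      rw [← zpow_natCast, ← _root_.zpow_mul, mul_comm, _root_.zpow_mul, zpow_natCast, hup,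
        _root_.one_zpow]
    rcases (Nat.dvd_prime hpF.out).mp h1 with h | h
    · exact ⟨0, by rw [h, pow_zero]⟩
    · exact ⟨1, by rw [h, pow_one]⟩
  obtain ⟨Q, hQ⟩ := hupg.exists_le_sylow
  obtain ⟨x, hx⟩ := MulAction.exists_smul_eq G Q P
  have hxu : x * u * x⁻¹ ∈ S.unip := by
    rw [← hP, ← hx, Sylow.coe_subgroup_smul, Cfsg.Agent.Lib.Helper24.mem_conj_smul_iff]
    have : x⁻¹ * (x * u * x⁻¹) * x = u := by group
    rw [this]
    exact hQ (mem_zpowers u)
  have h1 : Commute (x * u * x⁻¹) S.a :=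
    mem_centralizer_singleton_iff.mp (S.unip_le_centralizer hxu)
  have h2 : x * u * x⁻¹ ∉ center G := fun h => huZ ((conj_mem_center_iff x u).mp h)
  have h3 : Commute (x * g * x⁻¹) (x * u * x⁻¹) := by
    rw [Commute.conj_iff, hu]
    exact (Commute.refl g).mul_right (Commute.refl g)
  exact ⟨hg, x, S.caz.trans h2 h3 h1⟩

end charp

section charp

variable {p : ℕ} [hpF : Fact p.Prime] [CharP F p]

include hpF in
theorem mem_unip_of_pow {y : G} (hyB : y ∈ S.borel) (j : ℕ) (hy : y ^ p ^ j = 1) :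
    y ∈ S.unip := by
  refine ⟨hyB, ?_⟩
  have h3 := S.m_pow_00 hyB (p ^ j)
  rw [hy, m_one] at h3
  simp at h3
  have h4 : (S.m y 0 0 - 1) ^ p ^ j = 0 := by
    rw [sub_pow_char_pow, one_pow, ← h3, sub_self]
  exact sub_eq_zero.mp (pow_eq_zero_iff (pow_ne_zero j hpF.out.ne_zero) |>.mp h4)

theorem k_lt [Finite G] (k : ℕ)
    (hk : Nat.card S.borel = Nat.card (centralizer ({S.a} : Set G)) * k) :
    k + 1 ≤ Nat.card S.unip := by
  classical
  -- the set of nontrivial unipotent elements
  set T := {u : S.unip // u ≠ 1} with hT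
  have hTcard : Nat.card T + 1 = Nat.card S.unip := by
    haveI : Fintype S.unip := Fintype.ofFinite _
    rw [Nat.card_eq_fintype_card, Nat.card_eq_fintype_card, Fintype.card_subtype_compl,
      Fintype.card_subtype_eq]
    have : 1 ≤ Fintype.card S.unip := Fintype.card_pos
    omega
  have hconj : ∀ x : S.borel, (x.1 * S.a * x.1⁻¹) ∈ S.unip := fun x =>
    S.conj_mem_unip x.2 S.a_mem_unip
  have hconj1 : ∀ x : S.borel, (⟨x.1 * S.a * x.1⁻¹, hconj x⟩ : S.unip) ≠ 1 := by
    intro x h
    have h1 : x.1 * S.a * x.1⁻¹ = 1 := congrArg Subtype.val h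
    have h2 : S.a = 1 := by
      have := congrArg (fun y => x.1⁻¹ * y * x.1) h1
      simpa [mul_assoc] using this
    exact S.a_not_mem_center (h2 ▸ (center G).one_mem)
  let f : S.borel → T := fun x => ⟨⟨x.1 * S.a * x.1⁻¹, hconj x⟩, hconj1 x⟩
  let rep : T → S.borel := fun t => if h : ∃ x : S.borel, f x = t then h.choose else 1
  have hrep : ∀ x : S.borel, f (rep (f x)) = f x := by
    intro x
    have h : ∃ x' : S.borel, f x' = f x := ⟨x, rfl⟩
    simp only [rep, dif_pos h]
    exact h.choose_spec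
  have hmem : ∀ x : S.borel, (rep (f x)).1⁻¹ * x.1 ∈ centralizer ({S.a} : Set G) := by
    intro x
    have h1 := hrep x
    have h2 : (rep (f x)).1 * S.a * (rep (f x)).1⁻¹ = x.1 * S.a * x.1⁻¹ := by
      have := congrArg (fun t : T => ((t.1 : S.unip) : G)) h1
      exact this
    rw [mem_centralizer_singleton_iff]
    calc (rep (f x)).1⁻¹ * x.1 * S.a
        = (rep (f x)).1⁻¹ * (x.1 * S.a * x.1⁻¹) * x.1 := by group
      _ = (rep (f x)).1⁻¹ * ((rep (f x)).1 * S.a * (rep (f x)).1⁻¹) * x.1 := by rw [h2]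
      _ = S.a * ((rep (f x)).1⁻¹ * x.1) := by group
  let F' : S.borel → T × centralizer ({S.a} : Set G) :=
    fun x => (f x, ⟨(rep (f x)).1⁻¹ * x.1, hmem x⟩)
  have hinj : Function.Injective F' := by
    intro x x' h
    have h1 : f x = f x' := congrArg Prod.fst h
    have h2 : (rep (f x)).1⁻¹ * x.1 = (rep (f x')).1⁻¹ * x'.1 := by
      have := congrArg (fun t : T × centralizer ({S.a} : Set G) => (t.2 : G)) h
      exact this
    rw [h1] at h2
    exact Subtype.ext (mul_left_cancel h2)
  have hle := Nat.card_le_card_of_injective F' hinj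
  rw [Nat.card_prod, hk] at hle
  have hpos : 0 < Nat.card (centralizer ({S.a} : Set G)) := Nat.card_pos
  have : k ≤ Nat.card T := by
    have h3 : Nat.card (centralizer ({S.a} : Set G)) * k ≤
        Nat.card (centralizer ({S.a} : Set G)) * Nat.card T := by rw [mul_comm _ (Nat.card T)]; exact hle
    exact Nat.le_of_mul_le_mul_left h3 hpos
  omega

end charp

section charp

variable {p : ℕ} [hpF : Fact p.Prime] [CharP F p]

theorem b_not_mem_borel : S.b ∉ S.borel := by
  rw [mem_borel, m_b]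
  simp
  exact S.hlam

include hpF in
theorem three_le_card_unip [Finite G] (hp2 : p ≠ 2) : 3 ≤ Nat.card S.unip := by
  obtain ⟨n, hn⟩ := S.isPGroup_unip (p := p).exists_card_eq
  have hn0 : n ≠ 0 := by
    rintro rfl
    rw [pow_zero] at hn
    have := (Subgroup.card_eq_one.mp hn)
    have ha : S.a ∈ (⊥ : Subgroup G) := this ▸ S.a_mem_unip
    exact S.a_not_mem_center (mem_bot.mp ha ▸ (center G).one_mem)
  rw [hn]
  have hp3 : 3 ≤ p := by
    have := hpF.out.two_le
    omega
  calc 3 ≤ p := hp3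
    _ = p ^ 1 := (pow_one p).symm
    _ ≤ p ^ n := Nat.pow_le_pow_right hpF.out.pos (by omega)

include hpF in
/-- The numerical dichotomy. -/
theorem index_cases [Finite G] [Fintype F] (hp2 : p ≠ 2) (k : ℕ)
    (hk : Nat.card S.borel = Nat.card (center G) * Nat.card S.unip * k) (hk2 : 2 ≤ k) :
    S.borel.index = Nat.card S.unip + 1 ∨
      (Nat.card S.unip = 3 ∧ S.borel.index = 10 ∧ k = 2) := by
  have hCa := S.card_centralizer_a hp2
  obtain ⟨h, hhZ, hCh⟩ := S.exists_torus k hk hk2 hCa
  have hkq : k + 1 ≤ Nat.card S.unip := S.k_lt k (by rw [hk, hCa])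
  have hn : 2 ≤ S.borel.index := by
    have h0 : S.borel.index ≠ 0 := Subgroup.index_ne_zero_of_finite
    have h1 : S.borel.index ≠ 1 := by
      rw [Ne, Subgroup.index_eq_one]
      intro h
      exact S.b_not_mem_borel (h ▸ mem_top S.b)
    omega
  refine count_main S.caz p (Nat.card (center G)) (Nat.card S.unip) k S.borel.index hpF.out hp2
    (S.isPGroup_unip (p := p)).exists_card_eq (S.three_le_card_unip hp2) hk2 hkq hn Nat.card_pos rfl
    S.a h S.a_not_mem_center hhZ hCa ?_ hCh ?_ ?_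
  · rw [S.normalizer_centralizer_a, hk]
  · rw [← Subgroup.card_mul_index S.borel, hk]
    ring
  · intro g hgZ hga
    have htr : (S.m g).trace ^ 2 ≠ 4 := fun h => hga (S.mem_cls_a hp2 g hgZ h)
    have hcop := S.coprime_card_centralizer (p := p) g htr
    exact ⟨S.card_normalizer_torus hp2 g hgZ htr hcop, hcop⟩

end charp

end Setup

end Cfsg.Agent.Lib.Helper29.Dickson
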