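import Mathlib
import Cfsg.Agent.Lib.Helper13.SL2Gen
import Cfsg.Agent.Lib.Helper13.SL2b

set_option autoImplicit false
set_option linter.style.haveILetI false

namespace Cfsg.Agent.Lib.Helper29.Dickson

open Subgroup Matrix Cfsg.Agent.Lib.Helper13

section twist

variable {F : Type*} [Field F]

/-- Conjugation by `diag(1, c)`. -/
def twist (c : F) (hc : c ≠ 0) : SpecialLinearGroup (Fin 2) F →* SpecialLinearGroup (Fin 2) F where
  toFun X := ⟨!![(X : Matrix (Fin 2) (Fin 2) F) 0 0, (X : Matrix (Fin 2) (Fin 2) F) 0 1 * c⁻¹;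
      (X : Matrix (Fin 2) (Fin 2) F) 1 0 * c, (X : Matrix (Fin 2) (Fin 2) F) 1 1], by
    have hd := X.2
    rw [Matrix.det_fin_two] at hd
    rw [Matrix.det_fin_two_of]
    field_simp
    linear_combination hd⟩
  map_one' := by
    apply Subtype.ext
    ext i j
    fin_cases i <;> fin_cases j <;> simp
  map_mul' := by
    intro X Y
    apply Subtype.ext
    have hXY : ((X * Y : SpecialLinearGroup (Fin 2) F) : Matrix (Fin 2) (Fin 2) F) =
        (X : Matrix (Fin 2) (Fin 2) F) * (Y : Matrix (Fin 2) (Fin 2) F) :=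
      Matrix.SpecialLinearGroup.coe_mul X Y
    change !![((X * Y : SpecialLinearGroup (Fin 2) F) : Matrix (Fin 2) (Fin 2) F) 0 0,
        ((X * Y : SpecialLinearGroup (Fin 2) F) : Matrix (Fin 2) (Fin 2) F) 0 1 * c⁻¹;
        ((X * Y : SpecialLinearGroup (Fin 2) F) : Matrix (Fin 2) (Fin 2) F) 1 0 * c,
        ((X * Y : SpecialLinearGroup (Fin 2) F) : Matrix (Fin 2) (Fin 2) F) 1 1] =
      !![(X : Matrix (Fin 2) (Fin 2) F) 0 0, (X : Matrix (Fin 2) (Fin 2) F) 0 1 * c⁻¹;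
        (X : Matrix (Fin 2) (Fin 2) F) 1 0 * c, (X : Matrix (Fin 2) (Fin 2) F) 1 1] *
      !![(Y : Matrix (Fin 2) (Fin 2) F) 0 0, (Y : Matrix (Fin 2) (Fin 2) F) 0 1 * c⁻¹;
        (Y : Matrix (Fin 2) (Fin 2) F) 1 0 * c, (Y : Matrix (Fin 2) (Fin 2) F) 1 1]
    rw [hXY]
    ext i j
    fin_cases i <;> fin_cases j <;>
      simp [Matrix.mul_apply, Fin.sum_univ_two] <;> field_simp

theorem twist_coe (c : F) (hc : c ≠ 0) (X : SpecialLinearGroup (Fin 2) F) :
    ((twist c hc X : SpecialLinearGroup (Fin 2) F) : Matrix (Fin 2) (Fin 2) F) =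
      !![(X : Matrix (Fin 2) (Fin 2) F) 0 0, (X : Matrix (Fin 2) (Fin 2) F) 0 1 * c⁻¹;
      (X : Matrix (Fin 2) (Fin 2) F) 1 0 * c, (X : Matrix (Fin 2) (Fin 2) F) 1 1] := rfl

theorem lSL_mul (a b : F) : lSL a * lSL b = lSL (a + b) := by
  apply Subtype.ext
  change (!![1, 0; a, 1] * !![1, 0; b, 1] : Matrix (Fin 2) (Fin 2) F) = !![1, 0; a + b, 1]
  ext i j
  fin_cases i <;> fin_cases j <;> simp [Matrix.mul_apply, Fin.sum_univ_two]

theorem lSL_zero : lSL (0 : F) = 1 := by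
  apply Subtype.ext
  change (!![1, 0; 0, 1] : Matrix (Fin 2) (Fin 2) F) = 1
  ext i j
  fin_cases i <;> fin_cases j <;> simp

theorem lSL_pow (a : F) (n : ℕ) : lSL a ^ n = lSL (n * a) := by
  induction n with
  | zero => simp [lSL_zero]
  | succ n ih => rw [pow_succ, ih, lSL_mul]; congr 1; push_cast; ring

end twist

end Cfsg.Agent.Lib.Helper29.Dickson
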