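import Mathlib
import Cfsg.Agent.Lib.Helper29.DicksonSL2
import Cfsg.Agent.Lib.Helper29.DicksonTwist
import Cfsg.Agent.Lib.Helper29.Frobenius
import Cfsg.Agent.S3740

set_option autoImplicit false
set_option linter.style.haveILetI false

namespace Cfsg.Agent.Lib.Helper29.Dickson

open Subgroup Matrix Cfsg.Agent.Lib.Helper13
open scoped commutatorElement

/-- A `p`-element acting non-trivially on a `p'`-subgroup of a subgroup of `SL₂(F)` produces
`SL₂(3)` (and `p = 3`). -/
theorem exists_SL2_of_normalizes {F : Type} [Field F] [Fintype F] {p : ℕ} [hpF : Fact p.Prime]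
    [CharP F p] (hp2 : p ≠ 2) {G : Type*} [Group G] [Finite G]
    (φ : G →* SpecialLinearGroup (Fin 2) F) (hφ : Function.Injective φ)
    (N : Subgroup G) (hN : (Nat.card N).Coprime p) (u : G) (hu : u ^ p = 1)
    (huN : u ∈ normalizer (N : Set G)) (n : G) (hn : n ∈ N) (hnu : u * n ≠ n * u) :
    ∃ K : Subgroup G, Nonempty (K ≃* SpecialLinearGroup (Fin 2) (ZMod p)) := by
  have h1 : IsPGroup p (zpowers (φ u)) := by
    rintro ⟨x, hx⟩
    obtain ⟨k, rfl⟩ := mem_zpowers_iff.mp hx
    refine ⟨1, Subtype.ext ?_⟩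
    simp only [pow_one, SubmonoidClass.mk_pow, OneMemClass.coe_one]
    rw [← zpow_natCast, ← _root_.zpow_mul, mul_comm, _root_.zpow_mul, zpow_natCast, ← map_pow, hu,
      map_one, _root_.one_zpow]
  have h2 : (Nat.card (N.map φ)).Coprime p := by
    rw [Subgroup.card_map_of_injective hφ]; exact hN
  have h3 : φ u ∈ normalizer ((N.map φ : Subgroup _) : Set (SpecialLinearGroup (Fin 2) F)) :=
    Subgroup.le_normalizer_map φ ⟨u, huN, rfl⟩
  have h4 : ⁅N.map φ, zpowers (φ u)⁆ ≠ ⊥ := by
    intro h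
    have h5 : ⁅φ n, φ u⁆ ∈ ⁅N.map φ, zpowers (φ u)⁆ :=
      Subgroup.commutator_mem_commutator ⟨n, hn, rfl⟩ (mem_zpowers _)
    rw [h, mem_bot, commutatorElement_eq_one_iff_mul_comm, ← map_mul, ← map_mul] at h5
    exact hnu (hφ h5).symm
  obtain ⟨hp3, -, ⟨e⟩⟩ := Cfsg.Agent.S3740.result F hp2 (φ u) h1 (N.map φ) h2 h3 h4
  subst hp3
  refine ⟨N ⊔ zpowers u, ⟨?_⟩⟩
  have h6 : (N ⊔ zpowers u).map φ = N.map φ ⊔ zpowers (φ u) := by
    rw [Subgroup.map_sup, MonoidHom.map_zpowers]
  exact ((N ⊔ zpowers u).equivMapOfInjective φ hφ).trans ((MulEquiv.subgroupCongr h6).trans e)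

/-- An element `y` with `y ^ 5 = 1` normalizing a `2`-group of order at most `8` centralizes it. -/
theorem centralizes_of_pow_five {G : Type*} [Group G] [Finite G] (Q : Subgroup G) (i : ℕ)
    (hQ : Nat.card Q = 2 ^ i) (hi : i ≤ 3) (y : G) (hy : y ^ 5 = 1)
    (hyQ : y ∈ normalizer (Q : Set G)) : ∀ x ∈ Q, y * x = x * y := by
  classical
  haveI : Fintype Q := Fintype.ofFinite Q
  haveI : Fact (Nat.Prime 5) := ⟨by norm_num⟩
  let f : Function.End Q := fun x => ⟨y * x.1 * y⁻¹, (mem_normalizer_iff.mp hyQ x.1).mp x.2⟩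
  have hfpow : ∀ (n : ℕ) (x : Q), (((f ^ n) x : Q) : G) = y ^ n * x.1 * (y ^ n)⁻¹ := by
    intro n
    induction n with
    | zero =>
      intro x
      rw [pow_zero]
      change ((x : Q) : G) = _
      simp
    | succ n ih =>
      intro x
      rw [pow_succ']
      change y * ((f ^ n) x : Q).1 * y⁻¹ = _
      rw [ih x, pow_succ']
      group
  have hf5 : f ^ 5 ^ 1 = 1 := by
    have h : ∀ x : Q, (f ^ 5 ^ 1) x = (1 : Function.End Q) x := by
      intro x
      apply Subtype.ext
      rw [pow_one, hfpow 5 x, hy]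
      change (1 : G) * x.1 * 1⁻¹ = x.1
      simp
    exact funext h
  have hmod := Equiv.Perm.card_fixedPoints_modEq (p := 5) (n := 1) hf5
  set C := (centralizer ({y} : Set G)).subgroupOf Q with hC
  have hfix : Fintype.card (Function.fixedPoints f) = Nat.card C := by
    rw [Nat.card_eq_fintype_card]
    apply Fintype.card_congr
    refine ⟨fun x => ⟨x.1, ?_⟩, fun x => ⟨x.1, ?_⟩, fun x => rfl, fun x => rfl⟩
    · have h1 : f x.1 = x.1 := x.2
      have h2 : y * x.1.1 * y⁻¹ = x.1.1 := congrArg Subtype.val h1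
      change x.1 ∈ (centralizer ({y} : Set G)).subgroupOf Q
      rw [mem_subgroupOf, mem_centralizer_singleton_iff]
      calc (x.1 : G) * y = y * x.1.1 * y⁻¹ * y := by rw [h2]
        _ = y * x.1.1 := by group
    · have h1 : (x.1 : G) * y = y * x.1 :=
        mem_centralizer_singleton_iff.mp (mem_subgroupOf.mp x.2)
      change f x.1 = x.1
      apply Subtype.ext
      change y * x.1.1 * y⁻¹ = x.1.1
      rw [← h1]
      group
  rw [hfix, ← Nat.card_eq_fintype_card, hQ] at hmod
  have hdvd : Nat.card C ∣ Nat.card Q := Subgroup.card_subgroup_dvd_card C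
  rw [hQ] at hdvd
  obtain ⟨j, hj, hCj⟩ := (Nat.dvd_prime_pow Nat.prime_two).mp hdvd
  rw [hCj] at hmod
  have hij : j = i := by
    have hi' : i ≤ 3 := hi
    interval_cases i <;> interval_cases j <;> simp_all [Nat.ModEq]
  have hCtop : C = ⊤ := by
    apply Subgroup.eq_top_of_card_eq
    rw [hCj, hij, hQ]
  intro x hx
  have h1 : (⟨x, hx⟩ : Q) ∈ C := hCtop ▸ mem_top _
  rw [hC, mem_subgroupOf, mem_centralizer_singleton_iff] at h1
  exact h1.symm

/-- A `p`-element normalizing a Sylow `p`-subgroup lies in it. -/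
theorem mem_sylow_of_mem_normalizer {G : Type*} [Group G] {p : ℕ} [Fact p.Prime] (Q : Sylow p G)
    (u : G) (hu : IsPGroup p (zpowers u)) (huQ : u ∈ normalizer ((Q : Subgroup G) : Set G)) :
    u ∈ Q := by
  have h1 : zpowers u ≤ normalizer ((Q : Subgroup G) : Set G) := by
    rw [zpowers_le]; exact huQ
  have h2 : IsPGroup p (zpowers u ⊔ (Q : Subgroup G) : Subgroup G) :=
    hu.to_sup_of_normal_right' Q.2 h1
  have h3 := Q.is_maximal' h2 le_sup_right
  have h4 : zpowers u ≤ zpowers u ⊔ (Q : Subgroup G) := le_sup_left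
  rw [h3] at h4
  exact h4 (mem_zpowers u)

namespace Setup

variable {F : Type} [Field F] [Fintype F] {G : Type*} [Group G] [Finite G] (S : Setup F G)
  {p : ℕ} [hpF : Fact p.Prime] [CharP F p]

include hpF in
/-- The case `N(P) = C(P)`. -/
theorem exists_of_borel_eq (hp2 : p ≠ 2) (hB : S.borel = centralizer ({S.a} : Set G)) :
    ∃ K : Subgroup G, Nonempty (K ≃* SpecialLinearGroup (Fin 2) (ZMod p)) := by
  obtain ⟨P, hP⟩ := S.exists_sylow_eq_unip hp2
  have hNC : normalizer ((P : Subgroup G) : Set G) ≤ centralizer ((P : Subgroup G) : Set G) := by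
    rw [hP, S.normalizer_unip, hB]
    intro x hx
    rw [mem_centralizer_iff]
    intro y hy
    have hy' : y ∈ centralizer ({S.a} : Set G) := S.unip_le_centralizer hy
    exact (S.caz S.a S.a_not_mem_center y x (mem_centralizer_singleton_iff.mp hy')
      (mem_centralizer_singleton_iff.mp hx)).eq
  set T := (MonoidHom.transferSylow P hNC).ker with hT
  have hcompl : IsComplement' T (P : Subgroup G) := MonoidHom.ker_transferSylow_isComplement' P hNC
  have hTcop : (Nat.card T).Coprime p := by
    have h1 := hcompl.card_mul_card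
    have h2 := P.card_coprime_index
    have h3 : Nat.card T = (P : Subgroup G).index := by
      have h4 := Subgroup.card_mul_index (P : Subgroup G)
      have hpos : 0 < Nat.card (P : Subgroup G) := Nat.card_pos
      have : Nat.card (P : Subgroup G) * Nat.card T = Nat.card (P : Subgroup G) * (P : Subgroup G).index := by
        rw [h4, ← h1]; ring
      exact Nat.eq_of_mul_eq_mul_left hpos this
    rw [h3]
    obtain ⟨n, hn⟩ := IsPGroup.iff_card.mp P.2
    rw [hn] at h2
    by_cases hn0 : n = 0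
    · exfalso
      rw [hn0, pow_zero] at hn
      have := (Subgroup.card_eq_one.mp hn)
      have ha : S.a ∈ (⊥ : Subgroup G) := by rw [← this, hP]; exact S.a_mem_unip
      exact S.a_not_mem_center (mem_bot.mp ha ▸ (center G).one_mem)
    · exact ((Nat.coprime_pow_left_iff (Nat.pos_of_ne_zero hn0) p _).mp h2).symm
  have hTn : T.Normal := MonoidHom.normal_ker _
  by_cases hcen : ∀ t ∈ T, (S.a * t = t * S.a ∧ S.b * t = t * S.b)
  · exfalso
    -- then `T ≤ Z(G)` and `a` is central
    apply S.a_not_mem_center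
    have h1 : T ≤ centralizer ({S.a} : Set G) := fun t ht =>
      mem_centralizer_singleton_iff.mpr (hcen t ht).1.symm
    have h2 : (P : Subgroup G) ≤ centralizer ({S.a} : Set G) := by
      rw [hP]; exact S.unip_le_centralizer
    have h3 : T ⊔ (P : Subgroup G) = ⊤ := hcompl.sup_eq_top
    have h4 : (⊤ : Subgroup G) ≤ centralizer ({S.a} : Set G) := h3 ▸ sup_le h1 h2
    rw [Subgroup.mem_center_iff]
    intro g
    exact mem_centralizer_singleton_iff.mp (h4 (mem_top g))
  · push Not at hcen
    obtain ⟨t, htT, ht⟩ := hcen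
    by_cases hta : S.a * t = t * S.a
    · exact exists_SL2_of_normalizes hp2 S.φ S.inj T hTcop S.b S.b_pow
        (by rw [normalizer_eq_top_iff.mpr hTn]; exact mem_top _) t htT (ht hta)
    · exact exists_SL2_of_normalizes hp2 S.φ S.inj T hTcop S.a (S.pow_p_of_mem_unip S.a_mem_unip)
        (by rw [normalizer_eq_top_iff.mpr hTn]; exact mem_top _) t htT hta

end Setup

namespace Setup

universe u

variable {F : Type} [Field F] [Fintype F] {G : Type u} [Group G] [Finite G] (S : Setup F G)
  {p : ℕ} [hpF : Fact p.Prime] [CharP F p]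

include S in
theorem card_center_le_two : Nat.card (center G) ≤ 2 := by
  classical
  have hinj : Function.Injective (fun z : center G => if (z : G) = 1 then (0 : Fin 2) else 1) := by
    intro z z' h
    by_cases hz : (z : G) = 1 <;> by_cases hz' : (z' : G) = 1
    · exact Subtype.ext (hz.trans hz'.symm)
    · simp [hz, hz'] at h
    · simp [hz, hz'] at h
    · apply Subtype.ext
      apply S.m_injective
      have h1 : ∀ w : center G, (w : G) ≠ 1 → S.m w = -1 := by
        intro w hw
        rcases S.m_eq_of_sc ((S.mem_center_iff_sc w.1).mp w.2) with h | h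
        · exfalso
          apply hw
          apply S.m_injective
          rw [h, m_one]
        · exact h
      rw [h1 z hz, h1 z' hz']
  have := Nat.card_le_card_of_injective _ hinj
  simpa using this

include hpF in
/-- The exceptional case (`SL₂(5)` in characteristic `3`). -/
theorem exists_of_exceptional (hp2 : p ≠ 2) (hq : Nat.card S.unip = 3)
    (hG : Nat.card G = 60 * Nat.card (center G)) :
    ∃ K : Subgroup G, Nonempty (K ≃* SpecialLinearGroup (Fin 2) (ZMod p)) := by
  haveI : Fact (Nat.Prime 2) := ⟨Nat.prime_two⟩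
  -- `p = 3`
  have hp3 : p = 3 := by
    obtain ⟨n, hn⟩ := (S.isPGroup_unip (p := p)).exists_card_eq
    rw [hq] at hn
    have h1 : p ∣ 3 := by
      rw [hn]
      apply dvd_pow_self
      rintro rfl
      simp at hn
    exact (Nat.prime_dvd_prime_iff_eq hpF.out Nat.prime_three).mp h1
  have he1 : 1 ≤ Nat.card (center G) := Nat.card_pos
  have he2 := S.card_center_le_two
  have ha3 : S.a ^ p = 1 := S.pow_p_of_mem_unip S.a_mem_unip
  have hb3 : S.b ^ p = 1 := S.b_pow
  have hcop32 : Nat.Coprime p 2 := by rw [hp3]; norm_num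
  -- Frobenius' condition fails at `2`
  have hnF : ¬ FrobCond 2 G := by
    intro hF
    let P₂ : Sylow 2 G := default
    obtain ⟨N, hNn, hNc⟩ := hF.exists_normal_complement P₂
    have haN : S.a ∈ N := mem_normal_complement_of_coprime P₂ N hNc S.a
      (Nat.Coprime.coprime_dvd_left (orderOf_dvd_of_pow_eq_one ha3) hcop32)
    have hbN : S.b ∈ N := mem_normal_complement_of_coprime P₂ N hNc S.b
      (Nat.Coprime.coprime_dvd_left (orderOf_dvd_of_pow_eq_one hb3) hcop32)
    have hNtop : N = ⊤ := by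
      rw [eq_top_iff, ← S.gen, closure_le]
      rintro s (rfl | rfl)
      · exact haN
      · exact hbN
    have h1 := hNc.card_mul_card
    rw [hNtop, card_top] at h1
    have hP1 : Nat.card (P₂ : Subgroup G) = 1 := by
      have hpos : 0 < Nat.card G := Nat.card_pos
      exact Nat.eq_of_mul_eq_mul_left hpos (by rw [h1, mul_one])
    have h2 : 2 ∣ Nat.card G := by rw [hG]; exact Dvd.dvd.mul_right (by norm_num) _
    have h3 := P₂.dvd_card_of_dvd_card h2
    rw [hP1] at h3
    norm_num at h3
  unfold FrobCond at hnF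
  push Not at hnF
  obtain ⟨Q, hQ, g, hgN, hgcop, hgC⟩ := hnF
  -- the order of `g` divides `15`
  have hg15 : g ^ 15 = 1 := by
    have h1 : orderOf g ∣ Nat.card G := orderOf_dvd_natCard g
    have h2 : Nat.card G = (4 * Nat.card (center G)) * 15 := by rw [hG]; ring
    rw [h2] at h1
    have h3 : Nat.Coprime (orderOf g) (4 * Nat.card (center G)) := by
      have : Nat.card (center G) = 1 ∨ Nat.card (center G) = 2 := by omega
      rcases this with h | h
      · rw [h]
        exact Nat.Coprime.pow_right 2 hgcop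
      · rw [h]
        exact Nat.Coprime.pow_right 3 hgcop
    have h4 : orderOf g ∣ 15 := h3.dvd_of_dvd_mul_left h1
    exact orderOf_dvd_iff_pow_eq_one.mp h4
  obtain ⟨i, hi⟩ := hQ.exists_card_eq
  have hQcop : (Nat.card Q).Coprime p := by
    rw [hi, hp3]
    exact Nat.Coprime.pow_left i (by norm_num)
  have hi3 : i ≤ 3 := by
    have h1 : Nat.card Q ∣ Nat.card G := Subgroup.card_subgroup_dvd_card Q
    rw [hi, hG] at h1
    by_contra hlt
    push Not at hlt
    have h2 : 2 ^ 4 ∣ 60 * Nat.card (center G) := dvd_trans (pow_dvd_pow 2 hlt) h1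
    have : Nat.card (center G) = 1 ∨ Nat.card (center G) = 2 := by omega
    rcases this with h | h <;> rw [h] at h2 <;> norm_num at h2
  -- the 3-part and the 5-part
  have hg5N : g ^ 3 ∈ normalizer (Q : Set G) := (normalizer (Q : Set G)).pow_mem hgN 3
  have hg3N : g ^ 5 ∈ normalizer (Q : Set G) := (normalizer (Q : Set G)).pow_mem hgN 5
  have hg5 : ∀ x ∈ Q, g ^ 3 * x = x * g ^ 3 :=
    centralizes_of_pow_five Q i hi hi3 (g ^ 3) (by rw [← pow_mul]; exact hg15) hg5N
  by_cases hg3 : ∀ x ∈ Q, g ^ 5 * x = x * g ^ 5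
  · exfalso
    apply hgC
    rw [mem_centralizer_iff]
    intro x hx
    have h1 : g = (g ^ 3) ^ 2 * (g ^ 5)⁻¹ := by
      rw [← pow_mul]
      have : g ^ (3 * 2) = g ^ 5 * g := by rw [← pow_succ]
      rw [this]
      group
    have c1 : Commute (g ^ 3) x := hg5 x hx
    have c2 : Commute (g ^ 5) x := hg3 x hx
    have c3 : Commute ((g ^ 3) ^ 2 * (g ^ 5)⁻¹) x := (c1.pow_left 2).mul_left c2.inv_left
    rw [← h1] at c3
    exact c3.eq.symm
  · push Not at hg3
    obtain ⟨x, hxQ, hx⟩ := hg3
    exact exists_SL2_of_normalizes hp2 S.φ S.inj Q hQcop (g ^ 5)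
      (by rw [← pow_mul, hp3]; exact hg15) hg3N x hxQ hx

end Setup

namespace Setup

section main


variable {F : Type*} [Field F] [Fintype F] {G : Type*} [Group G] [Finite G] (S : Setup F G)
  {p : ℕ} [hpF : Fact p.Prime] [CharP F p]

omit [Finite G] hpF [Fintype F] [CharP F p] in
theorem isPGroup_zpowers {u : G} (hu : u ^ p = 1) : IsPGroup p (zpowers u) := by
  rintro ⟨x, hx⟩
  obtain ⟨k, rfl⟩ := mem_zpowers_iff.mp hx
  refine ⟨1, Subtype.ext ?_⟩
  simp only [pow_one, SubmonoidClass.mk_pow, OneMemClass.coe_one]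
  rw [← zpow_natCast, ← _root_.zpow_mul, mul_comm, _root_.zpow_mul, zpow_natCast, hu,
    _root_.one_zpow]

include hpF in
/-- two-transitivity consequence -/
theorem exists_unip_conj (hp2 : p ≠ 2) (hidx : S.borel.index = Nat.card S.unip + 1) :
    ∃ u ∈ S.unip, Commute (u * S.b * u⁻¹) (S.b * S.a * S.b⁻¹) := by
  obtain ⟨P, hP⟩ := S.exists_sylow_eq_unip hp2
  have hcardSyl : Nat.card (Sylow p G) = Nat.card S.unip + 1 := by
    have hN : normalizer ((P : Subgroup G) : Set G) = S.borel := by rw [hP, S.normalizer_unip]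
    rw [Sylow.card_eq_index_normalizer P]
    change (normalizer ((P : Subgroup G) : Set G)).index = _
    rw [hN, hidx]
  obtain ⟨Q, hQ⟩ := (isPGroup_zpowers (p := p) S.b_pow).exists_le_sylow
  have hbQ : S.b ∈ Q := hQ (mem_zpowers _)
  -- `Q ≠ P`
  have hQP : Q ≠ P := by
    intro h
    have : S.b ∈ S.unip := by rw [← hP, ← h]; exact hbQ
    exact S.b_not_mem_borel (S.unip_le_borel this)
  -- TI
  have hTI : ∀ u : G, u ∈ P → u ∈ Q → u = 1 := by
    intro u huP huQ
    by_contra hu1
    apply hQP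
    have huU : u ∈ S.unip := hP ▸ huP
    have huZ : u ∉ center G := by
      intro h
      have h1 := S.unip_inf_center
      have h2 : u ∈ S.unip ⊓ center G := ⟨huU, h⟩
      rw [h1, mem_bot] at h2
      exact hu1 h2
    have hua : Commute u S.a :=
      mem_centralizer_singleton_iff.mp (S.unip_le_centralizer huU)
    have hle : (Q : Subgroup G) ≤ (P : Subgroup G) := by
      intro y hy
      rw [hP]
      have hyu : Commute y u := S.commute_of_isPGroup hp2 Q Q.2 hy huQ
      have hya : Commute y S.a := S.caz.trans huZ hyu hua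
      have hyB : y ∈ S.borel :=
        S.centralizer_le_borel (mem_centralizer_singleton_iff.mpr hya.eq)
      obtain ⟨j, hj⟩ := Q.2 ⟨y, hy⟩
      have hj' : y ^ p ^ j = 1 := by
        have := congrArg (fun z : (Q : Subgroup G) => (z : G)) hj
        simpa using this
      exact S.mem_unip_of_pow hyB j hj'
    exact Sylow.ext (Q.is_maximal' P.2 hle).symm
  -- stabilizer of `Q` in `P` is trivial
  have hstab : MulAction.stabilizer (P : Subgroup G) Q = ⊥ := by
    rw [eq_bot_iff]
    rintro ⟨u, huP⟩ hu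
    rw [MulAction.mem_stabilizer_iff] at hu
    have hu' : u • Q = Q := hu
    have h1 : u ∈ normalizer ((Q : Subgroup G) : Set G) := Sylow.smul_eq_iff_mem_normalizer.mp hu'
    have hup : IsPGroup p (zpowers u) := by
      apply IsPGroup.of_injective P.2 (Subgroup.inclusion (zpowers_le.mpr huP))
        (Subgroup.inclusion_injective _)
    have h2 : u ∈ Q := mem_sylow_of_mem_normalizer Q u hup h1
    rw [mem_bot]
    exact Subtype.ext (hTI u huP h2)
  have horb : (MulAction.orbit (P : Subgroup G) Q).ncard = Nat.card S.unip := by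
    rw [← MulAction.index_stabilizer, hstab, Subgroup.index_bot, hP]
  -- the orbit avoids `P`
  have hsub : MulAction.orbit (P : Subgroup G) Q ⊆ {Q' : Sylow p G | Q' ≠ P} := by
    rintro _ ⟨⟨u, huP⟩, rfl⟩ h
    apply hQP
    have h1 : u • Q = P := h
    have h2 : u⁻¹ • P = P :=
      Sylow.smul_eq_iff_mem_normalizer.mpr (le_normalizer (P.inv_mem huP))
    rw [← h2, ← h1, smul_smul, inv_mul_cancel, one_smul]
  have hcompl : ({Q' : Sylow p G | Q' ≠ P} : Set (Sylow p G)).ncard = Nat.card S.unip := by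
    have h1 : ({Q' : Sylow p G | Q' ≠ P} : Set (Sylow p G)) = {P}ᶜ := by
      ext Q'; simp
    rw [h1, Set.ncard_compl, Set.ncard_singleton, hcardSyl]
    simp
  have heq : MulAction.orbit (P : Subgroup G) Q = {Q' : Sylow p G | Q' ≠ P} :=
    Set.eq_of_subset_of_ncard_le hsub (by rw [horb, hcompl]) (Set.toFinite _)
  -- `b • P ≠ P`
  have hbP : S.b • P ≠ P := by
    intro h
    have h1 : S.b ∈ normalizer ((P : Subgroup G) : Set G) := Sylow.smul_eq_iff_mem_normalizer.mp h
    rw [hP, S.normalizer_unip] at h1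
    exact S.b_not_mem_borel h1
  have hmem : S.b • P ∈ MulAction.orbit (P : Subgroup G) Q := by
    rw [heq]; exact hbP
  obtain ⟨⟨u, huP⟩, hu⟩ := hmem
  have hu' : u • Q = S.b • P := hu
  refine ⟨u, hP ▸ huP, ?_⟩
  have h1 : u * S.b * u⁻¹ ∈ (S.b • P : Sylow p G) := by
    rw [← hu', mem_smul_sylow_iff]
    have : u⁻¹ * (u * S.b * u⁻¹) * u = S.b := by group
    rw [this]
    exact hbQ
  have h2 : S.b * S.a * S.b⁻¹ ∈ (S.b • P : Sylow p G) := by
    rw [mem_smul_sylow_iff]
    have : S.b⁻¹ * (S.b * S.a * S.b⁻¹) * S.b = S.a := by group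
    rw [this]
    change S.a ∈ (P : Subgroup G)
    rw [hP]
    exact S.a_mem_unip
  exact S.commute_of_isPGroup hp2 (S.b • P : Sylow p G) (S.b • P : Sylow p G).2 h1 h2

include hpF in
theorem mul_lam_eq_one (hp2 : p ≠ 2) {u : G} (hu : u ∈ S.unip)
    (hc : Commute (u * S.b * u⁻¹) (S.b * S.a * S.b⁻¹)) : S.m u 0 1 * S.lam = 1 := by
  have h2F := Setup.two_ne_zero' (F := F) hp2
  rw [S.commute_iff] at hc
  have hu1 : S.m u = !![1, S.m u 0 1; 0, 1] := S.m_of_mem_unip hu
  have hui : S.m u⁻¹ = !![1, -S.m u 0 1; 0, 1] := by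
    rw [m_inv, hu.1, hu.2]
    have h11 : S.m u 1 1 = 1 := by
      have := S.m_diag_of_mem_borel hu.1
      rw [hu.2, one_mul] at this
      exact this
    rw [h11]
    simp
  have hbi : S.m S.b⁻¹ = !![1, 0; -S.lam, 1] := by
    rw [m_inv, m_b]
    simp
  set μ := S.m u 0 1 with hμ
  rw [m_mul, m_mul, m_mul, m_mul, hu1, hui, hbi, m_b, m_a] at hc
  have e00 := congr_fun (congr_fun hc 0) 0
  have e01 := congr_fun (congr_fun hc 0) 1
  simp [Matrix.mul_apply, Fin.sum_univ_two] at e00 e01
  have hx2 : (S.lam * S.τ) * ((μ * S.lam) ^ 2 - 1) = 0 := by linear_combination e00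
  have hx1 : (2 * S.τ) * ((μ * S.lam) * (1 - μ * S.lam)) = 0 := by linear_combination e01
  have h1 : (μ * S.lam) ^ 2 = 1 := by
    rcases mul_eq_zero.mp hx2 with h | h
    · exact absurd h (mul_ne_zero S.hlam S.hτ)
    · exact sub_eq_zero.mp h
  have h2 : (μ * S.lam) * (1 - μ * S.lam) = 0 := by
    rcases mul_eq_zero.mp hx1 with h | h
    · exact absurd h (mul_ne_zero h2F S.hτ)
    · exact h
  rcases mul_eq_zero.mp h2 with h | h
  · rw [h] at h1
    simp at h1
  · exact (sub_eq_zero.mp h).symm

include hpF in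
/-- From `t(1/λ)` and `s(λ)` one gets a copy of `SL₂(p)`. -/
theorem exists_SL2_of_unip {u : G} (hu : u ∈ S.unip) (hμ : S.m u 0 1 * S.lam = 1) :
    ∃ K : Subgroup G, Nonempty (K ≃* SpecialLinearGroup (Fin 2) (ZMod p)) := by
  set ι : ZMod p →+* F := ZMod.castHom (dvd_refl p) F with hι
  have hιinj : Function.Injective ι := RingHom.injective ι
  set ψ : SpecialLinearGroup (Fin 2) (ZMod p) →* SpecialLinearGroup (Fin 2) F :=
    (twist S.lam S.hlam).comp (SpecialLinearGroup.map ι) with hψ
  have hψcoe : ∀ X : SpecialLinearGroup (Fin 2) (ZMod p),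
      ((ψ X : SpecialLinearGroup (Fin 2) F) : Matrix (Fin 2) (Fin 2) F) =
        !![ι ((X : Matrix (Fin 2) (Fin 2) (ZMod p)) 0 0),
          ι ((X : Matrix (Fin 2) (Fin 2) (ZMod p)) 0 1) * S.lam⁻¹;
          ι ((X : Matrix (Fin 2) (Fin 2) (ZMod p)) 1 0) * S.lam,
          ι ((X : Matrix (Fin 2) (Fin 2) (ZMod p)) 1 1)] := by
    intro X
    rw [hψ, MonoidHom.comp_apply, twist_coe]
    simp [SpecialLinearGroup.map_apply_coe, RingHom.mapMatrix_apply, Matrix.map_apply]
  have hψinj : Function.Injective ψ := by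
    rw [injective_iff_map_eq_one]
    intro X hX
    have h1 := hψcoe X
    rw [hX] at h1
    have e00 := congr_fun (congr_fun h1 0) 0
    have e01 := congr_fun (congr_fun h1 0) 1
    have e10 := congr_fun (congr_fun h1 1) 0
    have e11 := congr_fun (congr_fun h1 1) 1
    simp at e00 e01 e10 e11
    apply Subtype.ext
    ext i j
    fin_cases i <;> fin_cases j
    · apply hιinj; simp [← e00]
    · apply hιinj
      simp
      rcases e01 with h | h
      · exact h
      · exact absurd h S.hlam
    · apply hιinj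
      simp
      rcases e10 with h | h
      · exact h
      · exact absurd h S.hlam
    · apply hιinj; simp [← e11]
  -- the range of `ψ` lies in the range of `φ`
  have hlam_inv : S.lam⁻¹ = S.m u 0 1 := by
    rw [inv_eq_iff_eq_inv]
    exact eq_inv_of_mul_eq_one_right hμ
  have hcast : ∀ t : ZMod p, ι t = ((t.val : ℕ) : F) := by
    intro t
    rw [hι, ZMod.castHom_apply, ZMod.natCast_val]
  have hrange : ψ.range ≤ S.φ.range := by
    rintro _ ⟨X, rfl⟩
    have : X ∈ (S.φ.range).comap ψ := by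
      apply mem_of_tSL_lSL_mem
      · intro t
        rw [mem_comap]
        have h1 : ψ (tSL t) = tSL (ι t * S.lam⁻¹) := by
          apply Subtype.ext
          rw [hψcoe]
          simp [tSL]
        rw [h1, hlam_inv, hcast, ← tSL_pow, ← S.phi_of_mem_unip hu, ← map_pow]
        exact ⟨_, rfl⟩
      · intro s
        rw [mem_comap]
        have h1 : ψ (lSL s) = lSL (ι s * S.lam) := by
          apply Subtype.ext
          rw [hψcoe]
          simp [lSL]
        rw [h1, hcast, ← lSL_pow, ← S.hb, ← map_pow]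
        exact ⟨_, rfl⟩
    exact this
  refine ⟨ψ.range.comap S.φ, ⟨?_⟩⟩
  have h6 : (ψ.range.comap S.φ).map S.φ = ψ.range := Subgroup.map_comap_eq_self hrange
  exact ((ψ.range.comap S.φ).equivMapOfInjective S.φ S.inj).trans
    ((MulEquiv.subgroupCongr h6).trans (MonoidHom.ofInjective hψinj).symm)

end main

end Setup

end Cfsg.Agent.Lib.Helper29.Dickson
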