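import Mathlib
import Cfsg.Agent.Lib.Helper29.DicksonExc

set_option autoImplicit false
set_option linter.style.haveILetI false

namespace Cfsg.Agent.Lib.Helper29.Dickson

open Subgroup Matrix Cfsg.Agent.Lib.Helper13

namespace Setup

universe u

variable {F : Type} [Field F] [Fintype F] {G : Type u} [Group G] [Finite G] (S : Setup F G)
  {p : ℕ} [hpF : Fact p.Prime] [CharP F p]

include hpF S in
/-- Weak Dickson theorem in normalized form. -/
theorem main (hp2 : p ≠ 2) :
    ∃ K : Subgroup G, Nonempty (K ≃* SpecialLinearGroup (Fin 2) (ZMod p)) := by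
  have hCa := S.card_centralizer_a hp2
  obtain ⟨k, hk⟩ := Subgroup.card_dvd_of_le S.centralizer_le_borel
  rw [hCa] at hk
  have hk0 : k ≠ 0 := by
    rintro rfl
    rw [mul_zero] at hk
    exact (Nat.card_pos (α := S.borel)).ne' hk
  rcases Nat.lt_or_ge k 2 with hk1 | hk2
  · have hk1' : k = 1 := by omega
    rw [hk1', mul_one, ← hCa] at hk
    have hB : S.borel = centralizer ({S.a} : Set G) :=
      (Subgroup.eq_of_le_of_card_ge S.centralizer_le_borel hk.le).symm
    exact S.exists_of_borel_eq hp2 hB
  · rcases S.index_cases hp2 k hk hk2 with hidx | ⟨hq, hidx, hk2'⟩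
    · obtain ⟨u, hu, hc⟩ := S.exists_unip_conj hp2 hidx
      exact S.exists_SL2_of_unip hu (S.mul_lam_eq_one hp2 hu hc)
    · apply S.exists_of_exceptional hp2 hq
      rw [← Subgroup.card_mul_index S.borel, hk, hidx, hq, hk2']
      ring

end Setup

end Cfsg.Agent.Lib.Helper29.Dickson
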