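import Mathlib
import Cfsg.Agent.Lib.Helper13.SL2Cyclic

/-!
# Subgroups of `SL₂(q)` generated by `p`-elements with a nontrivial normal `p`-subgroup (helper29)
-/

set_option autoImplicit false
set_option linter.style.haveILetI false
set_option linter.unusedSectionVars false

namespace Cfsg.Agent.Lib.Helper29.QuadPair

open Subgroup Matrix Cfsg.Agent.Lib.Helper13

variable {F : Type*} [Field F]

/-- two fixed vectors of a non-identity `2 × 2` matrix are proportional -/
theorem proportional_of_fixed (M : Matrix (Fin 2) (Fin 2) F) (hM : M ≠ 1) (v w : Fin 2 → F)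
    (hv : v ≠ 0) (hMv : M *ᵥ v = v) (hMw : M *ᵥ w = w) : ∃ t : F, w = t • v := by
  by_cases hd : v 0 * w 1 - v 1 * w 0 = 0
  · by_cases hv0 : v 0 = 0
    · have hv1 : v 1 ≠ 0 := by
        intro h
        apply hv
        ext i
        fin_cases i
        · exact hv0
        · exact h
      refine ⟨w 1 / v 1, ?_⟩
      ext i
      fin_cases i
      · simp only [Fin.zero_eta, Pi.smul_apply, smul_eq_mul, hv0, mul_zero]
        rw [hv0, zero_mul, zero_sub, neg_eq_zero] at hd
        exact (mul_eq_zero.mp hd).resolve_left hv1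
      · simp only [Fin.mk_one, Pi.smul_apply, smul_eq_mul]
        field_simp
    · refine ⟨w 0 / v 0, ?_⟩
      ext i
      fin_cases i
      · simp only [Fin.zero_eta, Pi.smul_apply, smul_eq_mul]
        field_simp
      · simp only [Fin.mk_one, Pi.smul_apply, smul_eq_mul]
        field_simp
        linear_combination hd
  · exfalso
    apply hM
    have h1 := congrFun hMv
    have h2 := congrFun hMw
    simp only [Matrix.mulVec, dotProduct, Fin.sum_univ_two] at h1 h2
    have e00 := h1 0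
    have e10 := h1 1
    have f00 := h2 0
    have f10 := h2 1
    have k1 : (M 0 0 - 1) * (v 0 * w 1 - v 1 * w 0) = 0 := by
      linear_combination w 1 * e00 - v 1 * f00
    have k2 : M 0 1 * (v 0 * w 1 - v 1 * w 0) = 0 := by
      linear_combination v 0 * f00 - w 0 * e00
    have k3 : M 1 0 * (v 0 * w 1 - v 1 * w 0) = 0 := by
      linear_combination w 1 * e10 - v 1 * f10
    have k4 : (M 1 1 - 1) * (v 0 * w 1 - v 1 * w 0) = 0 := by
      linear_combination v 0 * f10 - w 0 * e10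
    have r1 := (mul_eq_zero.mp k1).resolve_right hd
    have r2 := (mul_eq_zero.mp k2).resolve_right hd
    have r3 := (mul_eq_zero.mp k3).resolve_right hd
    have r4 := (mul_eq_zero.mp k4).resolve_right hd
    ext i j
    fin_cases i <;> fin_cases j
    · simpa [sub_eq_zero] using r1
    · simpa using r2
    · simpa using r3
    · simpa [sub_eq_zero] using r4

section lemmaB

variable {F : Type*} [Field F] [Fintype F] {p : ℕ} [hpF : Fact p.Prime] [CharP F p]

theorem pow_mulVec_of_eigen (M : Matrix (Fin 2) (Fin 2) F) (v : Fin 2 → F) (t : F)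
    (h : M *ᵥ v = t • v) (n : ℕ) : (M ^ n) *ᵥ v = t ^ n • v := by
  induction n with
  | zero => simp
  | succ n ih =>
    rw [pow_succ, ← Matrix.mulVec_mulVec, h, Matrix.mulVec_smul, ih,
      smul_smul, pow_succ, mul_comm]

theorem coe_pow_eq_one (g : SpecialLinearGroup (Fin 2) F) (n : ℕ) (hg : g ^ n = 1) :
    (g : Matrix (Fin 2) (Fin 2) F) ^ n = 1 := by
  have := congrArg (fun x : SpecialLinearGroup (Fin 2) F => (x : Matrix (Fin 2) (Fin 2) F)) hg
  simpa using this

theorem eigen_eq_one_of_pow (g : SpecialLinearGroup (Fin 2) F) (k : ℕ) (hg : g ^ p ^ k = 1)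
    (v : Fin 2 → F) (hv : v ≠ 0) (t : F)
    (h : (g : Matrix (Fin 2) (Fin 2) F) *ᵥ v = t • v) : t = 1 := by
  have h1 := pow_mulVec_of_eigen _ v t h (p ^ k)
  rw [coe_pow_eq_one g _ hg, Matrix.one_mulVec] at h1
  have h2 : (t ^ p ^ k - 1) • v = 0 := by rw [sub_smul, one_smul, ← h1, sub_self]
  have h3 : t ^ p ^ k - 1 = 0 := (smul_eq_zero.mp h2).resolve_right hv
  have h4 : (t - 1) ^ p ^ k = 0 := by rw [sub_pow_char_pow, one_pow, h3]
  exact sub_eq_zero.mp (pow_eq_zero_iff (pow_ne_zero k hpF.out.ne_zero) |>.mp h4)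

theorem exists_fixed_of_pow (g : SpecialLinearGroup (Fin 2) F) (k : ℕ) (hg : g ^ p ^ k = 1) :
    ∃ v : Fin 2 → F, v ≠ 0 ∧ (g : Matrix (Fin 2) (Fin 2) F) *ᵥ v = v := by
  have hc : CharP (Matrix (Fin 2) (Fin 2) F) p := Matrix.charP p
  set M : Matrix (Fin 2) (Fin 2) F := (g : Matrix (Fin 2) (Fin 2) F) with hM
  have hMp : M ^ p ^ k = 1 := coe_pow_eq_one g _ hg
  have hN : (M - 1) ^ p ^ k = 0 := by
    rw [sub_pow_char_pow_of_commute p k (Commute.one_right M), hMp, one_pow, sub_self]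
  have hdet : (M - 1).det = 0 := by
    have h1 : (M - 1).det ^ p ^ k = 0 := by
      rw [← Matrix.det_pow, hN, Matrix.det_zero]
    exact (pow_eq_zero_iff (pow_ne_zero k hpF.out.ne_zero)).mp h1
  obtain ⟨v, hv, hNv⟩ := Matrix.exists_mulVec_eq_zero_iff.mpr hdet
  refine ⟨v, hv, ?_⟩
  rw [Matrix.sub_mulVec, Matrix.one_mulVec, sub_eq_zero] at hNv
  exact hNv

/-- A subgroup of `SL₂(F)` generated by `p`-elements having a nontrivial normal `p`-subgroup is a
`p`-group. -/
theorem isPGroup_of_normal_pSubgroup (X : Subgroup (SpecialLinearGroup (Fin 2) F))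
    (S : Set X) (hS : closure S = ⊤) (hSp : ∀ s ∈ S, ∃ k : ℕ, s ^ p ^ k = 1)
    (P₀ : Subgroup X) [hP₀n : P₀.Normal] (hP₀ : IsPGroup p P₀) (hne : P₀ ≠ ⊥) :
    IsPGroup p X := by
  haveI : Nontrivial P₀ := (Subgroup.nontrivial_iff_ne_bot P₀).mpr hne
  haveI : Nontrivial (center P₀) := hP₀.center_nontrivial
  obtain ⟨⟨u₀, hu₀c⟩, hu₀ne⟩ := exists_ne (1 : center P₀)
  have hu₀ne' : u₀ ≠ 1 := by
    intro h
    apply hu₀ne
    exact Subtype.ext h
  -- coercion to `SL₂`
  let ι : X → SpecialLinearGroup (Fin 2) F := fun g => (g : SpecialLinearGroup (Fin 2) F)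
  have hpowX : ∀ (g : X) (k : ℕ), g ^ p ^ k = 1 → (ι g) ^ p ^ k = 1 := by
    intro g k h
    have := congrArg ι h
    simpa [ι] using this
  set M₀ : SpecialLinearGroup (Fin 2) F := ι (u₀ : X) with hM₀
  obtain ⟨k₀, hk₀⟩ := hP₀ u₀
  have hM₀p : M₀ ^ p ^ k₀ = 1 := by
    apply hpowX
    have := congrArg Subtype.val hk₀
    simpa using this
  obtain ⟨v, hv, hfix⟩ := exists_fixed_of_pow M₀ k₀ hM₀p
  have hM₀ne : (M₀ : Matrix (Fin 2) (Fin 2) F) ≠ 1 := by
    intro h
    apply hu₀ne'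
    have h1 : M₀ = 1 := Subtype.ext h
    have h2 : (u₀ : X) = 1 := Subtype.ext h1
    exact Subtype.ext h2
  -- Step A: `P₀` fixes `v`
  have hA : ∀ u : X, u ∈ P₀ → (ι u : Matrix (Fin 2) (Fin 2) F) *ᵥ v = v := by
    intro u hu
    have hcomm : (u₀ : X) * u = u * (u₀ : X) := by
      have := (Subgroup.mem_center_iff.mp hu₀c) ⟨u, hu⟩
      have := congrArg Subtype.val this
      simpa using this.symm
    have hcomm' : (M₀ : Matrix (Fin 2) (Fin 2) F) * (ι u : Matrix (Fin 2) (Fin 2) F) =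
        (ι u : Matrix (Fin 2) (Fin 2) F) * (M₀ : Matrix (Fin 2) (Fin 2) F) := by
      have := congrArg (fun x : X => ((ι x : SpecialLinearGroup (Fin 2) F) :
        Matrix (Fin 2) (Fin 2) F)) hcomm
      simpa [ι, hM₀] using this
    have hw : (M₀ : Matrix (Fin 2) (Fin 2) F) *ᵥ ((ι u : Matrix (Fin 2) (Fin 2) F) *ᵥ v) =
        (ι u : Matrix (Fin 2) (Fin 2) F) *ᵥ v := by
      rw [Matrix.mulVec_mulVec, hcomm', ← Matrix.mulVec_mulVec, hfix]
    obtain ⟨t, ht⟩ := proportional_of_fixed _ hM₀ne v _ hv hfix hw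
    obtain ⟨k, hk⟩ := hP₀ ⟨u, hu⟩
    have hup : (ι u) ^ p ^ k = 1 := by
      apply hpowX
      have := congrArg Subtype.val hk
      simpa using this
    have ht1 := eigen_eq_one_of_pow (ι u) k hup v hv t ht
    rw [ht, ht1, one_smul]
  -- Step B: every element of `X` scales `v`
  have hB : ∀ g : X, ∃ t : F, (ι g : Matrix (Fin 2) (Fin 2) F) *ᵥ v = t • v := by
    intro g
    have hconj : g⁻¹ * (u₀ : X) * g ∈ P₀ := by
      have := hP₀n.conj_mem (u₀ : X) u₀.2 g⁻¹
      simpa using this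
    have h1 := hA _ hconj
    have hw : (M₀ : Matrix (Fin 2) (Fin 2) F) *ᵥ ((ι g : Matrix (Fin 2) (Fin 2) F) *ᵥ v) =
        (ι g : Matrix (Fin 2) (Fin 2) F) *ᵥ v := by
      have e : (M₀ : Matrix (Fin 2) (Fin 2) F) * (ι g : Matrix (Fin 2) (Fin 2) F) =
          (ι g : Matrix (Fin 2) (Fin 2) F) * (ι (g⁻¹ * (u₀ : X) * g) : Matrix (Fin 2) (Fin 2) F) := by
        have : (u₀ : X) * g = g * (g⁻¹ * (u₀ : X) * g) := by group
        have := congrArg (fun x : X => ((ι x : SpecialLinearGroup (Fin 2) F) :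
          Matrix (Fin 2) (Fin 2) F)) this
        simpa [ι, hM₀] using this
      rw [Matrix.mulVec_mulVec, e, ← Matrix.mulVec_mulVec, h1]
    exact proportional_of_fixed _ hM₀ne v _ hv hfix hw
  -- Step C: the stabilizer of `v` is everything
  let Stab : Subgroup X :=
    { carrier := {g | (ι g : Matrix (Fin 2) (Fin 2) F) *ᵥ v = v}
      one_mem' := by
        change ((ι (1 : X) : SpecialLinearGroup (Fin 2) F) : Matrix (Fin 2) (Fin 2) F) *ᵥ v = v
        simp [ι]
      mul_mem' := by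
        intro a b ha hb
        change ((ι (a * b) : SpecialLinearGroup (Fin 2) F) : Matrix (Fin 2) (Fin 2) F) *ᵥ v = v
        have : ((ι (a * b) : SpecialLinearGroup (Fin 2) F) : Matrix (Fin 2) (Fin 2) F) =
            (ι a : Matrix (Fin 2) (Fin 2) F) * (ι b : Matrix (Fin 2) (Fin 2) F) := by
          simp [ι]
        rw [this, ← Matrix.mulVec_mulVec]
        rw [show (ι b : Matrix (Fin 2) (Fin 2) F) *ᵥ v = v from hb]
        exact ha
      inv_mem' := by
        intro a ha
        change ((ι a⁻¹ : SpecialLinearGroup (Fin 2) F) : Matrix (Fin 2) (Fin 2) F) *ᵥ v = v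
        have h1 : ((ι a⁻¹ : SpecialLinearGroup (Fin 2) F) : Matrix (Fin 2) (Fin 2) F) *
            (ι a : Matrix (Fin 2) (Fin 2) F) = 1 := by
          have h0 : ι a⁻¹ * ι a = 1 := by
            change ((a⁻¹ : X) : SpecialLinearGroup (Fin 2) F) * (a : SpecialLinearGroup (Fin 2) F) = 1
            rw [← Subgroup.coe_mul, inv_mul_cancel, Subgroup.coe_one]
          have h00 := congrArg (fun x : SpecialLinearGroup (Fin 2) F =>
            (x : Matrix (Fin 2) (Fin 2) F)) h0
          exact h00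
        have h2 : (ι a : Matrix (Fin 2) (Fin 2) F) *ᵥ v = v := ha
        calc ((ι a⁻¹ : SpecialLinearGroup (Fin 2) F) : Matrix (Fin 2) (Fin 2) F) *ᵥ v
            = ((ι a⁻¹ : SpecialLinearGroup (Fin 2) F) : Matrix (Fin 2) (Fin 2) F) *ᵥ
                ((ι a : Matrix (Fin 2) (Fin 2) F) *ᵥ v) := by rw [h2]
          _ = v := by rw [Matrix.mulVec_mulVec, h1, Matrix.one_mulVec] }
  have hC : ∀ g : X, (ι g : Matrix (Fin 2) (Fin 2) F) *ᵥ v = v := by
    have hle : closure S ≤ Stab := by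
      rw [closure_le]
      intro s hs
      obtain ⟨k, hk⟩ := hSp s hs
      obtain ⟨t, ht⟩ := hB s
      have ht1 := eigen_eq_one_of_pow (ι s) k (hpowX s k hk) v hv t ht
      change (ι s : Matrix (Fin 2) (Fin 2) F) *ᵥ v = v
      rw [ht, ht1, one_smul]
    intro g
    exact hle (hS ▸ mem_top g)
  -- Step D
  intro g
  refine ⟨1, ?_⟩
  rw [pow_one]
  have := pow_char_eq_one_of_fixed p (ι g) v hv (hC g)
  apply Subtype.ext
  simpa [ι] using this

end lemmaB

end Cfsg.Agent.Lib.Helper29.QuadPair
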