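import Mathlib
import Cfsg.Agent.Lib.Helper29.DicksonMain
import Cfsg.Agent.Lib.Helper29.QuadPairBorel
import Cfsg.Agent.Lib.Helper13.GL2

set_option autoImplicit false
set_option linter.style.haveILetI false

namespace Cfsg.Agent.Lib.Helper29.Dickson

open Subgroup Matrix Cfsg.Agent.Lib.Helper13

section normal

variable {F : Type*} [Field F] [Fintype F] {p : ℕ} [hpF : Fact p.Prime] [CharP F p]

theorem sub_one_sq_of_pow (A : SpecialLinearGroup (Fin 2) F) (hA : A ^ p = 1) :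
    ((A : Matrix (Fin 2) (Fin 2) F) - 1) ^ 2 = 0 := by
  obtain ⟨v, hv, hAv⟩ := QuadPair.exists_fixed_of_pow (p := p) A 1 (by rw [pow_one]; exact hA)
  rw [pow_two]
  exact sub_one_sq_eq_zero_of_fixed _ A.2 v hv hAv

/-- Two non-commuting elements of order `p` of `SL₂(F)` can be conjugated simultaneously to an
upper and a lower transvection. -/
theorem exists_normal_form (A B : SpecialLinearGroup (Fin 2) F) (hA : A ^ p = 1) (hB : B ^ p = 1)
    (hAB : A * B ≠ B * A) :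
    ∃ (C : SpecialLinearGroup (Fin 2) F) (τ lam : F), τ ≠ 0 ∧ lam ≠ 0 ∧
      C * A * C⁻¹ = tSL τ ∧ C * B * C⁻¹ = lSL lam := by
  have hA1 : A ≠ 1 := by
    rintro rfl
    exact hAB (by rw [one_mul, mul_one])
  obtain ⟨B₀, t, ht, hB₀⟩ := exists_conj_tSL A (sub_one_sq_of_pow A hA) hA1
  have hA' : B₀⁻¹ * A * B₀⁻¹⁻¹ = tSL t := by
    rw [inv_inv, mul_assoc, hB₀, ← mul_assoc, inv_mul_cancel, one_mul]
  set B₁ : SpecialLinearGroup (Fin 2) F := B₀⁻¹ * B * B₀⁻¹⁻¹ with hB₁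
  have hB₁p : B₁ ^ p = 1 := by
    rw [hB₁, conj_pow, hB, mul_one, mul_inv_cancel]
  have hB₁c : tSL t * B₁ ≠ B₁ * tSL t := by
    intro h
    apply hAB
    rw [← hA', hB₁] at h
    have h2 : B₀⁻¹ * (A * B) * B₀⁻¹⁻¹ = B₀⁻¹ * (B * A) * B₀⁻¹⁻¹ := by
      calc B₀⁻¹ * (A * B) * B₀⁻¹⁻¹ = B₀⁻¹ * A * B₀⁻¹⁻¹ * (B₀⁻¹ * B * B₀⁻¹⁻¹) := by group
        _ = B₀⁻¹ * B * B₀⁻¹⁻¹ * (B₀⁻¹ * A * B₀⁻¹⁻¹) := h
        _ = B₀⁻¹ * (B * A) * B₀⁻¹⁻¹ := by group
    exact mul_left_cancel (mul_right_cancel h2)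
  set M : Matrix (Fin 2) (Fin 2) F := (B₁ : Matrix (Fin 2) (Fin 2) F) with hM
  obtain ⟨e1, e2, e3, e4⟩ := sq_zero_entries M (sub_one_sq_of_pow B₁ hB₁p)
  have hdet : M 0 0 * M 1 1 - M 0 1 * M 1 0 = 1 := by
    have := B₁.2
    rwa [Matrix.det_fin_two] at this
  have hγ : M 1 0 ≠ 0 := by
    intro hγ
    apply hB₁c
    have hcen : B₁ ∈ Subgroup.centralizer ({tSL t} : Set (SpecialLinearGroup (Fin 2) F)) := by
      rw [mem_centralizer_tSL_iff t ht]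
      refine ⟨hγ, ?_⟩
      rw [hγ, mul_zero, add_zero] at e1
      rw [hγ, zero_mul, zero_add] at e4
      have h00 : M 0 0 = 1 := sub_eq_zero.mp (pow_eq_zero_iff (two_ne_zero) |>.mp e1)
      have h11 : M 1 1 = 1 := sub_eq_zero.mp (pow_eq_zero_iff (two_ne_zero) |>.mp e4)
      change M 0 0 = M 1 1
      rw [h00, h11]
    exact (Subgroup.mem_centralizer_singleton_iff.mp hcen).symm
  have htr : M 0 0 + M 1 1 = 2 := by
    rcases mul_eq_zero.mp e3 with h | h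
    · exact absurd h hγ
    · linear_combination h
  set x : F := (M 1 1 - 1) / M 1 0 with hx
  refine ⟨tSL x * B₀⁻¹, t, M 1 0, ht, hγ, ?_, ?_⟩
  · have h1 : tSL x * B₀⁻¹ * A * (tSL x * B₀⁻¹)⁻¹ = tSL x * (B₀⁻¹ * A * B₀⁻¹⁻¹) * (tSL x)⁻¹ := by
      group
    rw [h1, hA', tSL_mul, add_comm, ← tSL_mul, mul_assoc, mul_inv_cancel, mul_one]
  · have h1 : tSL x * B₀⁻¹ * B * (tSL x * B₀⁻¹)⁻¹ = tSL x * B₁ * (tSL x)⁻¹ := by
      rw [hB₁]; group
    rw [h1, mul_inv_eq_iff_eq_mul]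
    apply Subtype.ext
    change !![1, x; 0, 1] * M = !![1, 0; M 1 0, 1] * !![1, x; 0, 1]
    ext i j
    fin_cases i <;> fin_cases j <;> simp [Matrix.mul_apply, Fin.sum_univ_two, hx]
    · field_simp
      linear_combination htr
    · field_simp
      linear_combination (M 1 1) * htr - hdet
    · field_simp
      ring

end normal

end Cfsg.Agent.Lib.Helper29.Dickson
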