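import Mathlib
import Cfsg.Agent.Lib.Helper29.DicksonNormal

set_option autoImplicit false
set_option linter.style.haveILetI false

namespace Cfsg.Agent.Lib.Helper29.Dickson

open Subgroup Matrix Cfsg.Agent.Lib.Helper13

universe u

/-- **Weak Dickson theorem**: a finite group embedded in `SL₂(F)` (`F` finite of odd
characteristic `p`) containing two non-commuting elements of order `p` contains a copy of
`SL₂(p)`. -/
theorem dickson_weak {F : Type} [Field F] [Fintype F] {p : ℕ} [hpF : Fact p.Prime] [CharP F p]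
    (hp2 : p ≠ 2) {G : Type u} [Group G] [Finite G] (φ : G →* SpecialLinearGroup (Fin 2) F)
    (hφ : Function.Injective φ) (a b : G) (ha : a ^ p = 1) (hb : b ^ p = 1)
    (hab : a * b ≠ b * a) :
    ∃ K : Subgroup G, Nonempty (K ≃* SpecialLinearGroup (Fin 2) (ZMod p)) := by
  obtain ⟨C, τ, lam, hτ, hlam, hCA, hCB⟩ := exists_normal_form (p := p) (φ a) (φ b)
    (by rw [← map_pow, ha, map_one]) (by rw [← map_pow, hb, map_one])
    (by
      intro h
      rw [← map_mul, ← map_mul] at h
      exact hab (hφ h))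
  set H : Subgroup G := closure ({a, b} : Set G) with hH
  have haH : a ∈ H := subset_closure (by simp)
  have hbH : b ∈ H := subset_closure (by simp)
  let φ' : H →* SpecialLinearGroup (Fin 2) F :=
    (MulAut.conj C).toMonoidHom.comp (φ.comp H.subtype)
  have hφ' : Function.Injective φ' := by
    intro x y hxy
    have h1 : C * φ x.1 * C⁻¹ = C * φ y.1 * C⁻¹ := hxy
    have h2 : φ x.1 = φ y.1 := mul_left_cancel (mul_right_cancel h1)
    exact Subtype.ext (hφ h2)
  let S : Setup F H :=
    { φ := φ'
      inj := hφ'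
      a := ⟨a, haH⟩
      b := ⟨b, hbH⟩
      τ := τ
      lam := lam
      hτ := hτ
      hlam := hlam
      ha := hCA
      hb := hCB
      gen := by
        have h1 := Subgroup.closure_closure_coe_preimage (k := ({a, b} : Set G))
        have h2 : ((↑) ⁻¹' ({a, b} : Set G) : Set (closure ({a, b} : Set G))) =
            ({⟨a, haH⟩, ⟨b, hbH⟩} : Set H) := by
          ext x
          simp [Subtype.ext_iff]
        rw [h2] at h1
        exact h1 }
  obtain ⟨K', ⟨e⟩⟩ := S.main hp2
  exact ⟨K'.map H.subtype, ⟨(K'.equivMapOfInjective H.subtype H.subtype_injective).symm.trans e⟩⟩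

theorem map_injective_of_injective {R T : Type*} [CommRing R] [CommRing T] (f : R →+* T)
    (hf : Function.Injective f) :
    Function.Injective (SpecialLinearGroup.map (n := Fin 2) f) := by
  intro X Y h
  apply Subtype.ext
  ext i j
  apply hf
  have := congrArg (fun Z : SpecialLinearGroup (Fin 2) T => (Z : Matrix (Fin 2) (Fin 2) T) i j) h
  simpa [SpecialLinearGroup.map_apply_coe] using this

/-- Weak Dickson theorem for subgroups of `SL₂(F)`, any universe. -/
theorem dickson_weak_subgroup {F : Type*} [Field F] [Fintype F] {p : ℕ} [hpF : Fact p.Prime]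
    [CharP F p] (hp2 : p ≠ 2) (H : Subgroup (SpecialLinearGroup (Fin 2) F))
    (a b : SpecialLinearGroup (Fin 2) F) (ha : a ∈ H) (hb : b ∈ H) (hap : a ^ p = 1)
    (hbp : b ^ p = 1) (hab : a * b ≠ b * a) :
    ∃ K : Subgroup (SpecialLinearGroup (Fin 2) F), K ≤ H ∧
      Nonempty (K ≃* SpecialLinearGroup (Fin 2) (ZMod p)) := by
  haveI hsmall : Small.{0} F := inferInstance
  let F₀ := Shrink.{0} F
  let e₀ : Shrink.{0} F ≃+* F := Shrink.ringEquiv F
  let e₁ : F ≃ Shrink.{0} F := equivShrink F
  let ι : F →+* F₀ := e₀.symm.toRingHom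
  have hι : Function.Injective ι := e₀.symm.injective
  haveI : Fintype F₀ := Fintype.ofEquiv F e₁
  haveI : CharP F₀ p := charP_of_injective_ringHom hι p
  let φ : H →* SpecialLinearGroup (Fin 2) F₀ := (SpecialLinearGroup.map ι).comp H.subtype
  have hφ : Function.Injective φ := by
    intro x y hxy
    exact Subtype.ext (map_injective_of_injective ι hι hxy)
  obtain ⟨K', ⟨e⟩⟩ := dickson_weak (p := p) hp2 φ hφ ⟨a, ha⟩ ⟨b, hb⟩
    (Subtype.ext hap) (Subtype.ext hbp) (fun h => hab (congrArg Subtype.val h))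
  refine ⟨K'.map H.subtype, ?_, ⟨(K'.equivMapOfInjective H.subtype H.subtype_injective).symm.trans e⟩⟩
  rintro _ ⟨x, -, rfl⟩
  exact x.2

end Cfsg.Agent.Lib.Helper29.Dickson
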