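import Mathlib
import Cfsg.Agent.Lib.Helper29.Dickson
import Cfsg.Agent.Lib.Helper13.SL2OrderFour

/-!
# `𝔽_p`-forms for copies of `SL₂(p)` inside `SL₂(E)` (helper29)
-/

set_option autoImplicit false
set_option linter.style.haveILetI false
set_option linter.unusedSectionVars false

namespace Cfsg.Agent.Lib.Helper29.Dickson

open Subgroup Matrix Cfsg.Agent.Lib.Helper13

section form

variable {p : ℕ} [hpF : Fact p.Prime]

/-- `SL₂(𝔽_p)` is generated by `t(1)` and `l(1)`: two homs agreeing there are equal. -/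
theorem hom_ext_SL2_prime {T : Type*} [Group T]
    (f g : SpecialLinearGroup (Fin 2) (ZMod p) →* T)
    (ht : f (tSL 1) = g (tSL 1)) (hl : f (lSL 1) = g (lSL 1)) : f = g := by
  ext X
  have hmem : X ∈ f.eqLocus g := by
    apply mem_of_tSL_lSL_mem
    · intro t
      have h1 : tSL t = (tSL (1 : ZMod p)) ^ t.val := by
        rw [tSL_pow, mul_one, ZMod.natCast_zmod_val]
      rw [h1]
      exact Subgroup.pow_mem _ ht _
    · intro s
      have h1 : lSL s = (lSL (1 : ZMod p)) ^ s.val := by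
        rw [lSL_pow, mul_one, ZMod.natCast_zmod_val]
      rw [h1]
      exact Subgroup.pow_mem _ hl _
  exact hmem

variable {E : Type*} [Field E] [Fintype E] [Algebra (ZMod p) E] [CharP E p]

/-- An injective homomorphism `SL₂(𝔽_p) → SL₂(E)` is conjugate (in `GL₂(E)`) to the standard one:
existence of an `𝔽_p`-form. -/
theorem exists_form_of_hom (hp2 : p ≠ 2)
    (ψ : SpecialLinearGroup (Fin 2) (ZMod p) →* SpecialLinearGroup (Fin 2) E)
    (hψ : Function.Injective ψ) :
    ∃ y₁ y₂ : Fin 2 → E, y₁ ≠ 0 ∧ ∀ X : SpecialLinearGroup (Fin 2) (ZMod p),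
      ((ψ X).1 *ᵥ y₁ = algebraMap (ZMod p) E (X.1 0 0) • y₁ + algebraMap (ZMod p) E (X.1 1 0) • y₂) ∧
      ((ψ X).1 *ᵥ y₂ = algebraMap (ZMod p) E (X.1 0 1) • y₁ + algebraMap (ZMod p) E (X.1 1 1) • y₂) := by
  have h2E : (2 : E) ≠ 0 := by
    intro h
    have h2 : ((2 : ℕ) : E) = 0 := by exact_mod_cast h
    rw [CharP.cast_eq_zero_iff E p] at h2
    exact hp2 ((Nat.prime_dvd_prime_iff_eq hpF.out Nat.prime_two).mp h2)
  have h2p : (2 : ZMod p) ≠ 0 := by
    intro h
    have h2 : ((2 : ℕ) : ZMod p) = 0 := by exact_mod_cast h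
    rw [CharP.cast_eq_zero_iff (ZMod p) p] at h2
    exact hp2 ((Nat.prime_dvd_prime_iff_eq hpF.out Nat.prime_two).mp h2)
  have htp : (tSL (1 : ZMod p)) ^ p = 1 := by
    rw [tSL_pow, mul_one, CharP.cast_eq_zero, tSL_zero]
  have hlp : (lSL (1 : ZMod p)) ^ p = 1 := by
    rw [lSL_pow, mul_one, CharP.cast_eq_zero, lSL_zero]
  have hnc : tSL (1 : ZMod p) * lSL 1 ≠ lSL 1 * tSL 1 := by
    intro h
    have h1 := congrArg (fun X : SpecialLinearGroup (Fin 2) (ZMod p) => X.1 0 0) h
    simp [Matrix.mul_apply, Fin.sum_univ_two, lSL_coe] at h1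
  obtain ⟨C, τ, lam, hτ, hlam, hCt, hCl⟩ := exists_normal_form (p := p) (ψ (tSL 1)) (ψ (lSL 1))
    (by rw [← map_pow, htp, map_one]) (by rw [← map_pow, hlp, map_one])
    (by
      intro h
      rw [← map_mul, ← map_mul] at h
      exact hnc (hψ h))
  set Ψ : SpecialLinearGroup (Fin 2) (ZMod p) →* SpecialLinearGroup (Fin 2) E :=
    (MulAut.conj C).toMonoidHom.comp ψ with hΨ
  have hΨa : ∀ X, Ψ X = C * ψ X * C⁻¹ := fun X => rfl
  have hΨinj : Function.Injective Ψ := by
    intro X Y hXY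
    rw [hΨa, hΨa] at hXY
    exact hψ (mul_left_cancel (mul_right_cancel hXY))
  have hΨt : Ψ (tSL 1) = tSL τ := by rw [hΨa]; exact hCt
  have hΨl : Ψ (lSL 1) = lSL lam := by rw [hΨa]; exact hCl
  -- the central involution
  have hz : Ψ (zSL (ZMod p)) = zSL E := by
    have h1 : Ψ (zSL (ZMod p)) * Ψ (zSL (ZMod p)) = 1 := by
      rw [← map_mul]
      have : zSL (ZMod p) * zSL (ZMod p) = 1 := by
        apply Subtype.ext
        change (!![-1, 0; 0, -1] * !![-1, 0; 0, -1] : Matrix (Fin 2) (Fin 2) (ZMod p)) = 1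
        ext i j
        fin_cases i <;> fin_cases j <;> simp [Matrix.mul_apply, Fin.sum_univ_two]
      rw [this, map_one]
    rcases sq_eq_one_cases h2E _ h1 with h | h
    · exfalso
      have h3 : zSL (ZMod p) = 1 := hΨinj (by rw [h, map_one])
      have h4 := congrArg (fun X : SpecialLinearGroup (Fin 2) (ZMod p) => X.1 0 0) h3
      simp [zSL_coe] at h4
      apply h2p
      linear_combination -h4
    · exact h
  -- the relation
  have hrel : τ * lam = 1 := by
    set m₀ : SpecialLinearGroup (Fin 2) (ZMod p) := tSL 1 * (lSL 1)⁻¹ * tSL 1 with hm₀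
    have hm₀sq : m₀ * m₀ = zSL (ZMod p) := by
      have hinv : (lSL (1 : ZMod p))⁻¹ = lSL (-1) := by
        rw [inv_eq_iff_mul_eq_one, lSL_mul]
        simp [lSL_zero]
      rw [hm₀, hinv]
      apply Subtype.ext
      change (!![1, 1; 0, 1] * !![1, 0; -1, 1] * !![1, 1; 0, 1] *
        (!![1, 1; 0, 1] * !![1, 0; -1, 1] * !![1, 1; 0, 1]) : Matrix (Fin 2) (Fin 2) (ZMod p)) =
          !![-1, 0; 0, -1]
      ext i j
      fin_cases i <;> fin_cases j <;> simp [Matrix.mul_apply, Fin.sum_univ_two]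
    have h1 : Ψ m₀ * Ψ m₀ = zSL E := by rw [← map_mul, hm₀sq, hz]
    have h2 := trace_eq_zero_of_mul_self _ h1
    have h3 : Ψ m₀ = tSL τ * (lSL lam)⁻¹ * tSL τ := by
      rw [hm₀, map_mul, map_mul, map_inv, hΨt, hΨl]
    have hinv : (lSL lam)⁻¹ = lSL (-lam) := by
      rw [inv_eq_iff_mul_eq_one, lSL_mul]
      simp [lSL_zero]
    rw [h3, hinv] at h2
    have h4 : ((tSL τ * lSL (-lam) * tSL τ : SpecialLinearGroup (Fin 2) E) :
        Matrix (Fin 2) (Fin 2) E) = !![1, τ; 0, 1] * !![1, 0; -lam, 1] * !![1, τ; 0, 1] := rfl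
    rw [h4, Matrix.trace_fin_two] at h2
    simp [Matrix.mul_apply, Fin.sum_univ_two] at h2
    have h5 : 2 * (1 - τ * lam) = 0 := by linear_combination h2
    rcases mul_eq_zero.mp h5 with h | h
    · exact absurd h h2E
    · exact (sub_eq_zero.mp h).symm
  -- the twisted hom is the standard one
  set ι : ZMod p →+* E := algebraMap (ZMod p) E with hι
  have hΘ : (twist τ hτ).comp Ψ = SpecialLinearGroup.map ι := by
    apply hom_ext_SL2_prime
    · rw [MonoidHom.comp_apply, hΨt]
      apply Subtype.ext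
      rw [twist_coe]
      ext i j
      fin_cases i <;> fin_cases j <;>
        simp [SpecialLinearGroup.map_apply_coe, RingHom.mapMatrix_apply, Matrix.map_apply, hτ]
    · rw [MonoidHom.comp_apply, hΨl]
      apply Subtype.ext
      rw [twist_coe]
      ext i j
      fin_cases i <;> fin_cases j <;>
        simp [SpecialLinearGroup.map_apply_coe, RingHom.mapMatrix_apply, Matrix.map_apply, lSL_coe]
      rw [mul_comm]; exact hrel
  -- entries of `Ψ X`
  have hent : ∀ X : SpecialLinearGroup (Fin 2) (ZMod p),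
      (Ψ X).1 = !![ι (X.1 0 0), τ * ι (X.1 0 1); τ⁻¹ * ι (X.1 1 0), ι (X.1 1 1)] := by
    intro X
    have h1 := congrArg (fun Y : SpecialLinearGroup (Fin 2) E => Y.1) (DFunLike.congr_fun hΘ X)
    simp only [MonoidHom.comp_apply] at h1
    rw [twist_coe] at h1
    have e00 := congr_fun (congr_fun h1 0) 0
    have e01 := congr_fun (congr_fun h1 0) 1
    have e10 := congr_fun (congr_fun h1 1) 0
    have e11 := congr_fun (congr_fun h1 1) 1
    simp [SpecialLinearGroup.map_apply_coe, RingHom.mapMatrix_apply, Matrix.map_apply] at e00 e01 e10 e11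
    ext i j
    fin_cases i <;> fin_cases j
    · simpa using e00
    · simp only [Fin.zero_eta, Fin.isValue, Fin.mk_one, of_apply, cons_val', cons_val_one,
        cons_val_fin_one, cons_val_zero]
      rw [← e01]; field_simp
    · simp only [Fin.zero_eta, Fin.isValue, Fin.mk_one, of_apply, cons_val', cons_val_one,
        cons_val_fin_one, cons_val_zero]
      rw [← e10]; field_simp
    · simpa using e11
  have hCinv : (C⁻¹ : SpecialLinearGroup (Fin 2) E).1 * C.1 = 1 := by
    have : (C⁻¹ * C : SpecialLinearGroup (Fin 2) E).1 = 1 := by rw [inv_mul_cancel]; rfl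
    exact this
  have hCinv' : C.1 * (C⁻¹ : SpecialLinearGroup (Fin 2) E).1 = 1 := by
    have : (C * C⁻¹ : SpecialLinearGroup (Fin 2) E).1 = 1 := by rw [mul_inv_cancel]; rfl
    exact this
  have hψΨ : ∀ X, (ψ X).1 * (C⁻¹ : SpecialLinearGroup (Fin 2) E).1 =
      (C⁻¹ : SpecialLinearGroup (Fin 2) E).1 * (Ψ X).1 := by
    intro X
    have h1 : ψ X * C⁻¹ = C⁻¹ * Ψ X := by rw [hΨa]; group
    exact congrArg (fun Y : SpecialLinearGroup (Fin 2) E => Y.1) h1
  refine ⟨(C⁻¹ : SpecialLinearGroup (Fin 2) E).1 *ᵥ ![1, 0],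
    (C⁻¹ : SpecialLinearGroup (Fin 2) E).1 *ᵥ ![0, τ⁻¹], ?_, ?_⟩
  · intro h0
    have h1 := congrArg (fun v => C.1 *ᵥ v) h0
    simp only [Matrix.mulVec_mulVec, hCinv', Matrix.one_mulVec, Matrix.mulVec_zero] at h1
    have := congr_fun h1 0
    simp at this
  · intro X
    constructor
    · rw [Matrix.mulVec_mulVec, hψΨ, ← Matrix.mulVec_mulVec, hent, ← Matrix.mulVec_smul,
        ← Matrix.mulVec_smul, ← Matrix.mulVec_add]
      congr 1
      ext i
      fin_cases i <;> simp [Matrix.mulVec, dotProduct, Fin.sum_univ_two]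
      rw [mul_comm]
    · rw [Matrix.mulVec_mulVec, hψΨ, ← Matrix.mulVec_mulVec, hent, ← Matrix.mulVec_smul,
        ← Matrix.mulVec_smul, ← Matrix.mulVec_add]
      congr 1
      ext i
      fin_cases i <;> simp [Matrix.mulVec, dotProduct, Fin.sum_univ_two]
      · field_simp

end form

end Cfsg.Agent.Lib.Helper29.Dickson
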