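import Mathlib
import Cfsg.Agent.Lib.Helper29.QuadPairStable
import Cfsg.Agent.Lib.Helper1.NarrowOmegaZ2
import Cfsg.Agent.S3740

/-!
# Quadratic elements and `SL(2,3)` sections (helper29): K-S 8.6.x
-/

set_option autoImplicit false
set_option linter.style.haveILetI false
set_option linter.unusedSectionVars false

namespace Cfsg.Agent.Lib.Helper29.QuadPair

open Subgroup

section transport

variable {G : Type*} [Group G] {T : Type*} [Group T]

theorem exists_surj_of_subgroup (H₁ : Subgroup G) (K₁ : Subgroup H₁) (ψ₁ : K₁ →* T)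
    (hψ : Function.Surjective ψ₁) :
    ∃ (K : Subgroup G) (ψ : K →* T), K ≤ H₁ ∧ Function.Surjective ψ := by
  let e := K₁.equivMapOfInjective H₁.subtype H₁.subtype_injective
  refine ⟨K₁.map H₁.subtype, ψ₁.comp e.symm.toMonoidHom, ?_, ?_⟩
  · rintro _ ⟨y, -, rfl⟩
    exact y.2
  · intro t
    obtain ⟨k, rfl⟩ := hψ t
    exact ⟨e k, by simp⟩

theorem exists_section_of_surj (K : Subgroup G) (ψ : K →* T) (hψ : Function.Surjective ψ) :
    ∃ (L : Subgroup G) (hL : (L.subgroupOf K).Normal),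
      Nonempty ((K ⧸ L.subgroupOf K) ≃* T) := by
  have h1 : (ψ.ker.map K.subtype).subgroupOf K = ψ.ker := by
    unfold Subgroup.subgroupOf
    exact comap_map_eq_self_of_injective K.subtype_injective _
  have hn : ((ψ.ker.map K.subtype).subgroupOf K).Normal := by
    rw [h1]; infer_instance
  refine ⟨ψ.ker.map K.subtype, hn, ⟨?_⟩⟩
  exact (QuotientGroup.quotientMulEquivOfEq h1).trans
    (QuotientGroup.quotientKerEquivOfSurjective ψ hψ)

end transport

section S594

variable {p : ℕ} [hpF : Fact p.Prime] {H : Type*} [Group H] [Finite H]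
  {V : Type*} [AddCommGroup V] [Module (ZMod p) V] [Finite V]

/-- abelian group generated by two commuting elements of order dividing `p` is a `p`-group -/
theorem isPGroup_of_commuting_pair {X : Type*} [Group X] (u v : X) (huv : u * v = v * u)
    (hu : u ^ p = 1) (hv : v ^ p = 1) (hX : closure ({u, v} : Set X) = ⊤) : IsPGroup p X := by
  have h := (Cfsg.Agent.Lib.Helper1.elemAb_closure (p := p) ({u, v} : Set X) (by
    rintro a (rfl | rfl) b (rfl | rfl)
    · rfl
    · exact huv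
    · exact huv.symm
    · rfl) (by
    rintro a (rfl | rfl)
    · exact hu
    · exact hv)).2
  intro g
  exact ⟨1, by rw [pow_one]; exact h g (hX ▸ mem_top g)⟩

set_option maxHeartbeats 400000 in
/-- abstract S0594: a quadratic element acting nontrivially on a normal `p'`-subgroup forces
`p = 3` and an `SL(2,3)` section. -/
theorem exists_SL23_of_normal_pprime (hp : p ≠ 2) (ρ₀ : Representation (ZMod p) H V)
    (hinj : ∀ g, ρ₀ g = 1 → g = 1) (a : H) (ha : IsQuad ρ₀ a)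
    (Q : Subgroup H) [hQn : Q.Normal] (hQ : (Nat.card Q).Coprime p)
    (x : H) (hxQ : x ∈ Q) (hxa : x * a ≠ a * x) :
    p = 3 ∧ ∃ (K : Subgroup H) (ψ : K →* Matrix.SpecialLinearGroup (Fin 2) (ZMod 3)),
      Function.Surjective ψ := by
  have hap : a ^ p = 1 := pow_prime_eq_one_of_isQuad ρ₀ hinj ha
  set b : H := x * a * x⁻¹ with hb
  have hbp : b ^ p = 1 := pow_prime_eq_one_of_isQuad ρ₀ hinj (ha.conj x)
  set c : H := b * a⁻¹ with hc
  have hcQ : c ∈ Q := by
    have h1 : a * x⁻¹ * a⁻¹ ∈ Q := hQn.conj_mem _ (inv_mem hxQ) a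
    have : c = x * (a * x⁻¹ * a⁻¹) := by rw [hc, hb]; group
    rw [this]
    exact mul_mem hxQ h1
  have hc1 : c ≠ 1 := by
    intro h
    apply hxa
    have : b = a := by rw [hc] at h; exact mul_inv_eq_one.mp h
    rw [hb] at this
    calc x * a = (x * a * x⁻¹) * x := by group
      _ = a * x := by rw [this]
  set H₁ : Subgroup H := closure ({a, b} : Set H) with hH₁
  have haH : a ∈ H₁ := subset_closure (by simp)
  have hbH : b ∈ H₁ := subset_closure (by simp)
  have hcH : c ∈ H₁ := mul_mem hbH (inv_mem haH)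
  have hnp : ¬ IsPGroup p H₁ := by
    intro hP
    obtain ⟨k, hk⟩ := hP ⟨c, hcH⟩
    have h1 : c ^ p ^ k = 1 := by
      have := congrArg Subtype.val hk
      simpa using this
    have h2 : c ^ Nat.card Q = 1 := by
      have h0 : (⟨c, hcQ⟩ : Q) ^ Nat.card Q = 1 := pow_card_eq_one'
      exact congrArg Subtype.val h0
    have d1 : orderOf c ∣ p ^ k := orderOf_dvd_of_pow_eq_one h1
    have d2 : orderOf c ∣ Nat.card Q := orderOf_dvd_of_pow_eq_one h2
    have h3 : (orderOf c).Coprime (p ^ k) :=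
      Nat.Coprime.pow_right k (Nat.Coprime.coprime_dvd_left d2 hQ)
    exact hc1 (orderOf_eq_one_iff.mp (Nat.Coprime.eq_one_of_dvd h3 d1))
  have hinj₁ : ∀ y : H₁, (ρ₀.comp H₁.subtype) y = 1 → y = 1 := by
    intro y hy
    exact Subtype.ext (hinj _ hy)
  have hG₁ := closure_pair_eq_top H₁ a b haH hbH hH₁
  obtain ⟨n, φ, hφ⟩ := exists_hom_SL2 (ρ₀.comp H₁.subtype) hinj₁ ⟨a, haH⟩ ⟨b, hbH⟩ hG₁
    (ha.comp_subtype H₁ haH) ((ha.conj x).comp_subtype H₁ hbH) hnp
  letI : Fintype (GaloisField p n) := Fintype.ofFinite _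
  set a' : Matrix.SpecialLinearGroup (Fin 2) (GaloisField p n) := φ ⟨a, haH⟩ with ha'
  set b' : Matrix.SpecialLinearGroup (Fin 2) (GaloisField p n) := φ ⟨b, hbH⟩ with hb'
  set R : Subgroup (Matrix.SpecialLinearGroup (Fin 2) (GaloisField p n)) :=
    (Q.subgroupOf H₁).map φ with hR
  have ha'p : a' ^ p = 1 := by
    rw [ha', ← map_pow]
    have : (⟨a, haH⟩ : H₁) ^ p = 1 := Subtype.ext (by simpa using hap)
    rw [this, map_one]
  have hb'p : b' ^ p = 1 := by
    rw [hb', ← map_pow]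
    have : (⟨b, hbH⟩ : H₁) ^ p = 1 := Subtype.ext (by simpa using hbp)
    rw [this, map_one]
  have hzp : IsPGroup p (zpowers a') := by
    rintro ⟨y, hy⟩
    obtain ⟨k, rfl⟩ := mem_zpowers_iff.mp hy
    refine ⟨1, Subtype.ext ?_⟩
    simp only [pow_one, SubmonoidClass.mk_pow, OneMemClass.coe_one]
    rw [← zpow_natCast, ← zpow_mul, mul_comm, zpow_mul, zpow_natCast, ha'p, one_zpow]
  have hRcop : (Nat.card R).Coprime p := by
    have h1 : Nat.card R ∣ Nat.card (Q.subgroupOf H₁) := card_map_dvd _ φ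
    have h2 : Nat.card (Q.subgroupOf H₁) ∣ Nat.card Q :=
      card_comap_dvd_of_injective Q H₁.subtype H₁.subtype_injective
    exact Nat.Coprime.coprime_dvd_left (h1.trans h2) hQ
  have haR : a' ∈ normalizer (R : Set (Matrix.SpecialLinearGroup (Fin 2) (GaloisField p n))) := by
    haveI : (Q.subgroupOf H₁).Normal := hQn.subgroupOf H₁
    apply le_normalizer_map φ
    refine ⟨⟨a, haH⟩, ?_, rfl⟩
    rw [normalizer_eq_top]
    exact mem_top _
  have hnt : ⁅R, zpowers a'⁆ ≠ ⊥ := by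
    intro h
    rw [commutator_eq_bot_iff_le_centralizer] at h
    apply hφ
    have hcR : φ ⟨c, hcH⟩ ∈ R := ⟨⟨c, hcH⟩, hcQ, rfl⟩
    have hcomm : a' * φ ⟨c, hcH⟩ = φ ⟨c, hcH⟩ * a' := by
      have := h hcR
      rw [mem_centralizer_iff] at this
      exact this a' (mem_zpowers a')
    have hb'eq : b' = φ ⟨c, hcH⟩ * a' := by
      rw [hb', ha', ← map_mul]
      congr 1
      apply Subtype.ext
      simp only [Subgroup.coe_mul, hc]
      group
    have hcomm2 : a' * b' = b' * a' := by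
      rw [hb'eq, ← mul_assoc, hcomm, mul_assoc]
    set f := φ.rangeRestrict with hf
    have hfs : Function.Surjective f := φ.rangeRestrict_surjective
    have hS : closure ({f ⟨a, haH⟩, f ⟨b, hbH⟩} : Set φ.range) = ⊤ := by
      have h1 : (closure ({⟨a, haH⟩, ⟨b, hbH⟩} : Set H₁)).map f = ⊤ := by
        rw [hG₁, ← MonoidHom.range_eq_map, MonoidHom.range_eq_top.mpr hfs]
      rw [MonoidHom.map_closure, Set.image_pair] at h1
      exact h1
    refine isPGroup_of_commuting_pair (f ⟨a, haH⟩) (f ⟨b, hbH⟩) ?_ ?_ ?_ hS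
    · exact Subtype.ext hcomm2
    · exact Subtype.ext ha'p
    · exact Subtype.ext hb'p
  obtain ⟨hp3, -, ⟨e⟩⟩ := Cfsg.Agent.S3740.result (GaloisField p n) hp a' hzp R hRcop haR hnt
  refine ⟨hp3, ?_⟩
  -- the preimage of `R ⊔ ⟨a'⟩`
  set M : Subgroup (Matrix.SpecialLinearGroup (Fin 2) (GaloisField p n)) := R ⊔ zpowers a' with hM
  have hMle : M ≤ φ.range := by
    rw [hM]
    apply sup_le
    · rintro _ ⟨y, -, rfl⟩
      exact ⟨y, rfl⟩
    · rw [zpowers_le]
      exact ⟨_, rfl⟩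
  let ψ₁ : M.comap φ →* M := φ.subgroupComap M
  have hψ₁ : Function.Surjective ψ₁ := by
    rintro ⟨y, hy⟩
    obtain ⟨h, rfl⟩ := hMle hy
    exact ⟨⟨h, hy⟩, rfl⟩
  obtain ⟨K, ψ, -, hψ⟩ := exists_surj_of_subgroup H₁ (M.comap φ) (e.toMonoidHom.comp ψ₁)
    (e.surjective.comp hψ₁)
  exact ⟨K, ψ, hψ⟩

end S594

section S594sub

universe u

variable {p : ℕ} [hpF : Fact p.Prime] {G : Type u} [Group G]

theorem exists_not_commute_of_commutator_ne_bot (Q : Subgroup G) (a : G)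
    (h : ⁅Q, zpowers a⁆ ≠ ⊥) : ∃ x ∈ Q, x * a ≠ a * x := by
  by_contra hcon
  push Not at hcon
  apply h
  rw [commutator_eq_bot_iff_le_centralizer]
  intro x hx
  rw [mem_centralizer_iff]
  intro y hy
  obtain ⟨k, rfl⟩ := mem_zpowers_iff.mp hy
  have : Commute x a := hcon x hx
  exact ((this.zpow_right k).eq).symm

/-- Statement S0594 (only `a` is needed). -/
theorem exists_SL23_section_of_subgroups [Finite G] (hp : p ≠ 2) (V H : Subgroup G)
    (hVc : ∀ x ∈ V, ∀ y ∈ V, x * y = y * x) (hVp : ∀ x ∈ V, x ^ p = 1)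
    (hHV : H ≤ normalizer (V : Set G)) (hf : H ⊓ centralizer (V : Set G) = ⊥)
    (a : G) (haH : a ∈ H) (ha : ⁅⁅V, zpowers a⁆, zpowers a⁆ = ⊥)
    (Q : Subgroup G) (hQH : Q ≤ H) (hQn : H ≤ normalizer (Q : Set G))
    (hQ : (Nat.card Q).Coprime p) (hQa : ⁅Q, zpowers a⁆ ≠ ⊥) :
    p = 3 ∧ ∃ (K L : Subgroup G) (hL : (L.subgroupOf K).Normal), K ≤ H ∧
      Nonempty ((K ⧸ L.subgroupOf K) ≃* Matrix.SpecialLinearGroup (Fin 2) (ZMod 3)) := by
  obtain ⟨W, _, _, _, ρ₀, hinj, hquad⟩ := exists_rep_of_subgroups (p := p) V H hVc hVp hHV hf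
  obtain ⟨x, hxQ, hxa⟩ := exists_not_commute_of_commutator_ne_bot Q a hQa
  haveI hQ'n : (Q.subgroupOf H).Normal := (normal_subgroupOf_iff_le_normalizer hQH).mpr hQn
  have hQ' : (Nat.card (Q.subgroupOf H)).Coprime p :=
    Nat.Coprime.coprime_dvd_left
      (card_comap_dvd_of_injective Q H.subtype H.subtype_injective) hQ
  obtain ⟨hp3, K₁, ψ₁, hψ₁⟩ := exists_SL23_of_normal_pprime hp ρ₀ hinj ⟨a, haH⟩
    (hquad ⟨a, haH⟩ ha) (Q.subgroupOf H) hQ' ⟨x, hQH hxQ⟩ hxQ (by
      intro h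
      exact hxa (congrArg Subtype.val h))
  obtain ⟨K, ψ, hKH, hψ⟩ := exists_surj_of_subgroup H K₁ ψ₁ hψ₁
  obtain ⟨L, hL, hiso⟩ := exists_section_of_surj K ψ hψ
  exact ⟨hp3, K, L, hL, hKH, hiso⟩

end S594sub

end Cfsg.Agent.Lib.Helper29.QuadPair
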