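import Mathlib
import Cfsg.Agent.Lib.Helper29.QuadPairSection
import Cfsg.Agent.Lib.Helper29.Dickson

/-!
# Quadratic elements and `SL(2,p)` sections (helper29)
-/

set_option autoImplicit false
set_option linter.style.haveILetI false
set_option linter.unusedSectionVars false

namespace Cfsg.Agent.Lib.Helper29.QuadPair

open Subgroup

section abstract

variable {p : ℕ} [hpF : Fact p.Prime] {H : Type*} [Group H] [Finite H]
  {V : Type*} [AddCommGroup V] [Module (ZMod p) V] [Finite V]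

/-- Two quadratic elements generating a non-`p`-group: a subgroup maps onto `SL₂(p)`. -/
theorem exists_SL2p_of_pair (hp : p ≠ 2) (ρ₀ : Representation (ZMod p) H V)
    (hinj : ∀ g, ρ₀ g = 1 → g = 1)
    (a b : H) (hG : closure {a, b} = ⊤) (ha : IsQuad ρ₀ a) (hb : IsQuad ρ₀ b)
    (hnp : ¬ IsPGroup p H) :
    ∃ (K : Subgroup H) (ψ : K →* Matrix.SpecialLinearGroup (Fin 2) (ZMod p)),
      Function.Surjective ψ := by
  obtain ⟨n, φ, hφ⟩ := exists_hom_SL2 ρ₀ hinj a b hG ha hb hnp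
  letI : Fintype (GaloisField p n) := Fintype.ofFinite _
  have hap : a ^ p = 1 := pow_prime_eq_one_of_isQuad ρ₀ hinj ha
  have hbp : b ^ p = 1 := pow_prime_eq_one_of_isQuad ρ₀ hinj hb
  have hrange : φ.range = closure {φ a, φ b} := by
    rw [MonoidHom.range_eq_map, ← hG, MonoidHom.map_closure]
    congr 1
    ext x
    simp [Set.image_pair]
  have hab : φ a * φ b ≠ φ b * φ a := by
    intro hcomm
    apply hφ
    have hgen : closure ({(⟨φ a, a, rfl⟩ : φ.range), ⟨φ b, b, rfl⟩} : Set φ.range) = ⊤ := by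
      apply closure_pair_eq_top φ.range (φ a) (φ b) ⟨a, rfl⟩ ⟨b, rfl⟩ hrange
    exact isPGroup_of_commuting_pair (p := p) (⟨φ a, a, rfl⟩ : φ.range) ⟨φ b, b, rfl⟩
      (Subtype.ext hcomm) (Subtype.ext (by simp [← map_pow, hap]))
      (Subtype.ext (by simp [← map_pow, hbp])) hgen
  obtain ⟨K', hK', ⟨e⟩⟩ := Dickson.dickson_weak_subgroup (p := p) hp φ.range (φ a) (φ b)
    ⟨a, rfl⟩ ⟨b, rfl⟩ (by rw [← map_pow, hap, map_one]) (by rw [← map_pow, hbp, map_one]) hab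
  refine ⟨K'.comap φ, e.toMonoidHom.comp (φ.subgroupComap K'), ?_⟩
  intro t
  obtain ⟨⟨k', hk'⟩, rfl⟩ := e.surjective t
  obtain ⟨k, rfl⟩ := hK' hk'
  exact ⟨⟨k, hk'⟩, rfl⟩

/-- abstract S0656: a quadratic element outside `O_p(H)` gives an `SL₂(p)`-section. -/
theorem exists_SL2p_of_not_mem_pCore (hp : p ≠ 2) (ρ₀ : Representation (ZMod p) H V)
    (hinj : ∀ g, ρ₀ g = 1 → g = 1) (a : H) (ha : IsQuad ρ₀ a) (hna : a ∉ Cfsg.pCore p H) :
    ∃ (K : Subgroup H) (ψ : K →* Matrix.SpecialLinearGroup (Fin 2) (ZMod p)),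
      Function.Surjective ψ := by
  obtain ⟨g, hg⟩ := exists_conj_not_pgroup ρ₀ hinj a ha hna
  set H₁ : Subgroup H := closure ({a, g * a * g⁻¹} : Set H) with hH₁
  have haH : a ∈ H₁ := subset_closure (by simp)
  have hbH : g * a * g⁻¹ ∈ H₁ := subset_closure (by simp)
  have hinj₁ : ∀ x : H₁, (ρ₀.comp H₁.subtype) x = 1 → x = 1 := by
    intro x hx
    exact Subtype.ext (hinj _ hx)
  obtain ⟨K₁, ψ₁, hψ₁⟩ := exists_SL2p_of_pair hp (ρ₀.comp H₁.subtype) hinj₁ ⟨a, haH⟩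
    ⟨g * a * g⁻¹, hbH⟩ (closure_pair_eq_top H₁ a (g * a * g⁻¹) haH hbH hH₁)
    (ha.comp_subtype H₁ haH) ((ha.conj g).comp_subtype H₁ hbH) hg
  obtain ⟨K, ψ, -, hψ⟩ := exists_surj_of_subgroup H₁ K₁ ψ₁ hψ₁
  exact ⟨K, ψ, hψ⟩

end abstract

section S656

universe u

variable {p : ℕ} [hpF : Fact p.Prime] {G : Type u} [Group G]

/-- Statement S0656 in subgroup form. -/
theorem exists_SL2p_section_of_subgroups [Finite G] (hp : p ≠ 2) (V H : Subgroup G)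
    (hVc : ∀ x ∈ V, ∀ y ∈ V, x * y = y * x) (hVp : ∀ x ∈ V, x ^ p = 1)
    (hHV : H ≤ normalizer (V : Set G)) (hf : H ⊓ centralizer (V : Set G) = ⊥)
    (a : G) (haH : a ∈ H) (ha : ⁅⁅V, zpowers a⁆, zpowers a⁆ = ⊥)
    (hna : (⟨a, haH⟩ : H) ∉ Cfsg.pCore p H) :
    ∃ (K L : Subgroup G) (hL : (L.subgroupOf K).Normal), K ≤ H ∧
      Nonempty ((K ⧸ L.subgroupOf K) ≃* Matrix.SpecialLinearGroup (Fin 2) (ZMod p)) := by
  obtain ⟨W, _, _, _, ρ₀, hinj, hquad⟩ := exists_rep_of_subgroups (p := p) V H hVc hVp hHV hf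
  obtain ⟨K₁, ψ₁, hψ₁⟩ := exists_SL2p_of_not_mem_pCore hp ρ₀ hinj ⟨a, haH⟩
    (hquad ⟨a, haH⟩ ha) hna
  obtain ⟨K, ψ, hKH, hψ⟩ := exists_surj_of_subgroup H K₁ ψ₁ hψ₁
  obtain ⟨L, hL, hiso⟩ := exists_section_of_surj K ψ hψ
  exact ⟨K, L, hL, hKH, hiso⟩

end S656

end Cfsg.Agent.Lib.Helper29.QuadPair
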