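import Mathlib
import Cfsg.Agent.Lib.Helper29.QuadPairAct

/-!
# Quadratic pairs: the invariant plane over an extension field (helper29)
-/

set_option autoImplicit false
set_option linter.style.haveILetI false
set_option linter.unusedSectionVars false

namespace Cfsg.Agent.Lib.Helper29.QuadPair


open Subgroup

section nilp

variable {K : Type*} [Field K] {G : Type*} [Group G]

/-- Two square-zero endomorphisms with nilpotent product have a common nonzero kernel vector. -/
theorem exists_common_fixed {W : Type*} [AddCommGroup W] [Module K W] [Nontrivial W]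
    (A B : Module.End K W) (hA : A * A = 0) (hB : B * B = 0) (hN : IsNilpotent (A * B)) :
    ∃ v : W, v ≠ 0 ∧ A v = 0 ∧ B v = 0 := by
  classical
  -- a nonzero vector killed by `A`
  obtain ⟨v₀, hv₀, hAv₀⟩ : ∃ v₀ : W, v₀ ≠ 0 ∧ A v₀ = 0 := by
    by_cases hA0 : A = 0
    · obtain ⟨x, hx⟩ := exists_ne (0 : W)
      exact ⟨x, hx, by rw [hA0, LinearMap.zero_apply]⟩
    · obtain ⟨x, hx⟩ : ∃ x, A x ≠ 0 := by
        by_contra h
        push Not at h
        exact hA0 (LinearMap.ext h)
      refine ⟨A x, hx, ?_⟩
      have := congrArg (fun f => f x) hA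
      simpa using this
  obtain ⟨m, hm⟩ := hN
  have hex : ∃ m : ℕ, ((A * B) ^ m) v₀ = 0 := ⟨m, by rw [hm, LinearMap.zero_apply]⟩
  set k := Nat.find hex with hk
  have hk0 : ((A * B) ^ k) v₀ = 0 := Nat.find_spec hex
  have hkpos : k ≠ 0 := by
    intro h
    rw [h, pow_zero, Module.End.one_apply] at hk0
    exact hv₀ hk0
  obtain ⟨j, hj⟩ := Nat.exists_eq_succ_of_ne_zero hkpos
  set u := ((A * B) ^ j) v₀ with hu
  have hu0 : u ≠ 0 := Nat.find_min hex (by omega : j < Nat.find hex)
  have hABu : A (B u) = 0 := by
    have : ((A * B) ^ k) v₀ = A (B u) := by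
      rw [hj, pow_succ', Module.End.mul_apply, hu, Module.End.mul_apply]
    rw [← this]; exact hk0
  have hAu : A u = 0 := by
    rcases Nat.eq_zero_or_pos j with hj0 | hjpos
    · rw [hu, hj0, pow_zero, Module.End.one_apply]; exact hAv₀
    · obtain ⟨i, hi⟩ := Nat.exists_eq_succ_of_ne_zero hjpos.ne'
      rw [hu, hi, pow_succ', Module.End.mul_apply, Module.End.mul_apply]
      have := congrArg (fun f => f (B (((A * B) ^ i) v₀))) hA
      simpa using this
  by_cases hBu : B u = 0
  · exact ⟨u, hu0, hAu, hBu⟩
  · refine ⟨B u, hBu, hABu, ?_⟩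
    have := congrArg (fun f => f u) hB
    simpa using this

universe v

variable {p : ℕ} [Fact p.Prime] [CharP K p]

theorem pgroup_of_nilpotent_aux (a b : G) (hG : Subgroup.closure {a, b} = ⊤) :
    ∀ (n : ℕ) (W : Type v) [AddCommGroup W] [Module K W] [FiniteDimensional K W]
      (ρ : Representation K G W), Module.finrank K W = n → IsQuad ρ a → IsQuad ρ b →
      IsNilpotent ((ρ a - 1) * (ρ b - 1)) → ∀ g, ∃ i, ρ (g ^ p ^ i) = 1 := by
  intro n
  induction n using Nat.strong_induction_on with
  | _ n ih =>
    intro W _ _ _ ρ hn ha hb hnil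
    by_cases hWnt : Nontrivial W
    · obtain ⟨v, hv0, hAv, hBv⟩ := exists_common_fixed (ρ a - 1) (ρ b - 1) ha.sq_zero hb.sq_zero hnil
      have hav : ρ a v = v := by
        rw [LinearMap.sub_apply, Module.End.one_apply, sub_eq_zero] at hAv; exact hAv
      have hbv : ρ b v = v := by
        rw [LinearMap.sub_apply, Module.End.one_apply, sub_eq_zero] at hBv; exact hBv
      set U : Submodule K W := Submodule.span K {v} with hUdef
      have hvU : v ∈ U := Submodule.subset_span (by simp)
      have hfix : ∀ s ∈ ({a, b} : Set G), ∀ u ∈ U, ρ s u = u := by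
        intro s hs u hu
        obtain ⟨c, rfl⟩ := Submodule.mem_span_singleton.mp hu
        rcases hs with rfl | rfl
        · rw [map_smul, hav]
        · rw [map_smul, hbv]
      have hUs : ∀ s ∈ ({a, b} : Set G), U ≤ U.comap (ρ s) := by
        intro s hs u hu
        rw [Submodule.mem_comap, hfix s hs u hu]; exact hu
      have hUinv : ∀ g, U ≤ U.comap (ρ g) := by
        apply invariant_of_closure hG hUs
        intro s hs
        rcases hs with rfl | rfl
        · exact ha.comap_inv (hUs _ (by simp))
        · exact hb.comap_inv (hUs _ (by simp))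
      have h1 : ∀ g, ∃ i, ρ.subrepresentation U hUinv (g ^ p ^ i) = 1 := by
        intro g
        refine ⟨0, ?_⟩
        apply eq_one_of_closure (ρ.subrepresentation U hUinv) hG
        intro s hs
        ext u
        simp only [sub_apply, Module.End.one_apply]
        exact hfix s hs u u.2
      have hlt : Module.finrank K (W ⧸ U) < n := by
        have h1 := U.finrank_quotient_add_finrank
        have h2 : 0 < Module.finrank K U := by
          rw [Module.finrank_pos_iff]
          exact (Submodule.nontrivial_iff_ne_bot).mpr (fun h => hv0 (by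
            rw [h] at hvU; exact (Submodule.mem_bot K).mp hvU))
        omega
      have hnilq : IsNilpotent ((ρ.quotient U hUinv a - 1) * (ρ.quotient U hUinv b - 1)) := by
        obtain ⟨m, hm⟩ := hnil
        refine ⟨m, ?_⟩
        have key : ∀ (j : ℕ) (w : W),
            (((ρ.quotient U hUinv a - 1) * (ρ.quotient U hUinv b - 1)) ^ j)
              (Submodule.Quotient.mk w) =
            Submodule.Quotient.mk ((((ρ a - 1) * (ρ b - 1)) ^ j) w) := by
          intro j
          induction j with
          | zero => intro w; simp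
          | succ j ihj =>
            intro w
            rw [pow_succ', Module.End.mul_apply, ihj, pow_succ', Module.End.mul_apply]
            simp only [Module.End.mul_apply, LinearMap.sub_apply, Module.End.one_apply, quot_apply,
              ← Submodule.Quotient.mk_sub]
        ext w
        simp only [LinearMap.coe_comp, Function.comp_apply, Submodule.mkQ_apply]
        rw [key, hm]
        simp
      have h2 := ih _ hlt (W ⧸ U) (ρ.quotient U hUinv) rfl (ha.quot U hUinv) (hb.quot U hUinv) hnilq
      exact pgroup_of_sub_quot ρ U hUinv h1 h2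
    · rw [not_nontrivial_iff_subsingleton] at hWnt
      intro g
      refine ⟨0, ?_⟩
      ext w
      exact Subsingleton.elim _ _

/-- If `(a-1)(b-1)` is nilpotent then every element of `⟨a,b⟩` acts as a `p`-element. -/
theorem pgroup_of_nilpotent {W : Type*} [AddCommGroup W] [Module K W] [FiniteDimensional K W]
    (a b : G) (hG : Subgroup.closure {a, b} = ⊤) (ρ : Representation K G W)
    (ha : IsQuad ρ a) (hb : IsQuad ρ b) (hnil : IsNilpotent ((ρ a - 1) * (ρ b - 1))) :
    ∀ g, ∃ i, ρ (g ^ p ^ i) = 1 :=
  pgroup_of_nilpotent_aux a b hG _ W ρ rfl ha hb hnil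

end nilp



open Subgroup Polynomial TensorProduct

section eigen2

/-- A non-nilpotent endomorphism whose characteristic polynomial splits has a nonzero
eigenvalue. -/
theorem exists_eigenvalue_ne_zero {E : Type*} [Field E] {M : Type*} [AddCommGroup M] [Module E M]
    [FiniteDimensional E M] (T : Module.End E M) (hs : T.charpoly.Splits)
    (hT : ¬ IsNilpotent T) : ∃ μ : E, μ ≠ 0 ∧ T.HasEigenvalue μ := by
  by_contra hcon
  push Not at hcon
  apply hT
  rw [LinearMap.isNilpotent_iff_charpoly]
  have hroots : ∀ r ∈ T.charpoly.roots, r = 0 := by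
    intro r hr
    by_contra hr0
    apply hcon r hr0
    rw [Module.End.hasEigenvalue_iff_isRoot_charpoly]
    exact (Polynomial.mem_roots (T.charpoly_monic.ne_zero)).mp hr
  have h1 := hs.eq_prod_roots_of_monic T.charpoly_monic
  have h2 : (T.charpoly.roots.map (fun r => X - C r)) =
      (T.charpoly.roots.map (fun _ => (X : E[X]))) := by
    apply Multiset.map_congr rfl
    intro r hr
    rw [hroots r hr, map_zero, sub_zero]
  rw [h2, Multiset.map_const', Multiset.prod_replicate] at h1
  have h3 := hs.natDegree_eq_card_roots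
  rw [LinearMap.charpoly_natDegree] at h3
  rw [h1, h3, ← h1]

variable {p : ℕ} [hpF : Fact p.Prime] {V : Type*} [AddCommGroup V] [Module (ZMod p) V] [Finite V]

/-- A non-nilpotent endomorphism of a finite `𝔽_p`-space acquires a nonzero eigenvalue over a
finite extension field. -/
theorem exists_field_eigenvector (N : Module.End (ZMod p) V) (hN : ¬ IsNilpotent N) :
    ∃ (E : Type) (_ : Field E) (_ : Algebra (ZMod p) E) (_ : Finite E) (μ : E)
      (w : E ⊗[ZMod p] V), μ ≠ 0 ∧ w ≠ 0 ∧ N.baseChange E w = μ • w := by
  haveI : Module.Finite (ZMod p) V := Module.Finite.of_finite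
  let E := N.charpoly.SplittingField
  haveI : Finite E := Module.finite_of_finite (ZMod p)
  refine ⟨E, inferInstance, inferInstance, inferInstance, ?_⟩
  have hs : (N.baseChange E).charpoly.Splits := by
    rw [LinearMap.charpoly_baseChange]
    exact Polynomial.SplittingField.splits N.charpoly
  have hnil : ¬ IsNilpotent (N.baseChange E) := by
    rintro ⟨m, hm⟩
    apply hN
    refine ⟨m, ?_⟩
    have hinj : Function.Injective (Module.End.baseChangeHom (ZMod p) E V) :=
      LinearMap.baseChangeHom_injective (ZMod p) V E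
    apply hinj
    rw [map_pow, map_zero]
    exact hm
  obtain ⟨μ, hμ0, hμ⟩ := exists_eigenvalue_ne_zero (N.baseChange E) hs hnil
  obtain ⟨w, hw⟩ := hμ.exists_hasEigenvector
  exact ⟨μ, w, hμ0, hw.2, hw.apply_eq_smul⟩

end eigen2



open Subgroup Polynomial TensorProduct

section plane

variable {E : Type*} [Field E] {G : Type*} [Group G]
  {W : Type*} [AddCommGroup W] [Module E W]

/-- From an eigenvector of `(a-1)(b-1)` with nonzero eigenvalue: an invariant plane and the
corresponding homomorphism to `SL₂`. -/
theorem exists_hom_of_eigen (p : ℕ) [Fact p.Prime] [CharP E p] (a b : G) (hG : Subgroup.closure {a, b} = ⊤)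
    (ρ : Representation E G W) (ha : IsQuad ρ a) (hb : IsQuad ρ b)
    (μ : E) (hμ : μ ≠ 0) (w : W) (hw : w ≠ 0)
    (hev : (ρ a - 1) ((ρ b - 1) w) = μ • w) :
    ∃ (φ : G →* Matrix.SpecialLinearGroup (Fin 2) E) (w' : W),
      LinearIndependent E ![w, w'] ∧
      (∀ g, ρ g w = (φ g).1 0 0 • w + (φ g).1 1 0 • w' ∧
        ρ g w' = (φ g).1 0 1 • w + (φ g).1 1 1 • w') ∧
      φ a * φ b ≠ φ b * φ a := by
  classical
  set w' : W := ρ b w - w with hw'
  have hev' : ρ a w' - w' = μ • w := by
    simpa only [LinearMap.sub_apply, Module.End.one_apply] using hev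
  have haw : ρ a w = w := by
    have h1 : ((ρ a - 1) * (ρ a - 1)) w' = 0 := by rw [ha.sq_zero]; rfl
    rw [Module.End.mul_apply] at h1
    have h2 : (ρ a - 1) w' = μ • w := by
      rw [LinearMap.sub_apply, Module.End.one_apply]; exact hev'
    rw [h2, map_smul, smul_eq_zero] at h1
    rcases h1 with h1 | h1
    · exact absurd h1 hμ
    · rw [LinearMap.sub_apply, Module.End.one_apply, sub_eq_zero] at h1; exact h1
  have haw' : ρ a w' = w' + μ • w := by rw [← hev']; abel
  have hbw : ρ b w = w + w' := by rw [hw']; abel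
  have hbw' : ρ b w' = w' := hb w
  have hli : LinearIndependent E ![w, w'] := by
    rw [LinearIndependent.pair_iff' hw]
    intro c hc
    have h1 : ρ a (c • w) - c • w = 0 := by rw [map_smul, haw, sub_self]
    rw [hc, hev'] at h1
    rcases smul_eq_zero.mp h1 with h | h
    · exact hμ h
    · exact hw h
  set U : Submodule E W := Submodule.span E (Set.range ![w, w']) with hUdef
  have hwU : w ∈ U := Submodule.subset_span ⟨0, rfl⟩
  have hw'U : w' ∈ U := Submodule.subset_span ⟨1, rfl⟩
  have hUa : U ≤ U.comap (ρ a) := by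
    rw [hUdef, Submodule.span_le]
    rintro x ⟨i, rfl⟩
    fin_cases i
    · change ρ a w ∈ U
      rw [haw]; exact hwU
    · change ρ a w' ∈ U
      rw [haw']; exact U.add_mem hw'U (U.smul_mem _ hwU)
  have hUb : U ≤ U.comap (ρ b) := by
    rw [hUdef, Submodule.span_le]
    rintro x ⟨i, rfl⟩
    fin_cases i
    · change ρ b w ∈ U
      rw [hbw]; exact U.add_mem hwU hw'U
    · change ρ b w' ∈ U
      rw [hbw']; exact hw'U
  have hUinv : ∀ g, U ≤ U.comap (ρ g) := by
    apply invariant_of_closure hG
    · intro s hs
      rcases hs with rfl | rfl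
      · exact hUa
      · exact hUb
    · intro s hs
      rcases hs with rfl | rfl
      · exact ha.comap_inv hUa
      · exact hb.comap_inv hUb
  let B : Module.Basis (Fin 2) E U := Module.Basis.span hli
  have hB : ∀ i, ((B i : U) : W) = ![w, w'] i := fun i => congrArg Subtype.val (Module.Basis.span_apply hli i)
  set ρ' := ρ.subrepresentation U hUinv with hρ'
  let φ₀ : G →* Matrix (Fin 2) (Fin 2) E :=
    (LinearMap.toMatrixAlgEquiv B : Module.End E U ≃ₐ[E] Matrix (Fin 2) (Fin 2) E).toAlgHom.toRingHom.toMonoidHom.comp ρ'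
  have hφ₀ : ∀ g, φ₀ g = LinearMap.toMatrixAlgEquiv B (ρ' g) := fun g => rfl
  have hdet : ∀ g, (φ₀ g).det = 1 := by
    intro g
    have h1 : LinearMap.det (ρ' g) = 1 := by
      apply det_eq_one_of_closure ρ' hG
      intro s hs
      rcases hs with rfl | rfl
      · exact (ha.sub U hUinv).det_eq_one p
      · exact (hb.sub U hUinv).det_eq_one p
    rw [← h1, ← LinearMap.det_toMatrix B]
    rfl
  let φ : G →* Matrix.SpecialLinearGroup (Fin 2) E :=
    { toFun := fun g => (⟨φ₀ g, hdet g⟩ : Matrix.SpecialLinearGroup (Fin 2) E)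
      map_one' := Subtype.ext (map_one φ₀)
      map_mul' := fun g h => Subtype.ext (map_mul φ₀ g h) }
  have hφ : ∀ g, (φ g).1 = φ₀ g := fun g => rfl
  have hformula : ∀ (g : G) (j : Fin 2),
      ρ g (![w, w'] j) = (φ g).1 0 j • w + (φ g).1 1 j • w' := by
    intro g j
    have h1 := B.sum_repr (ρ' g (B j))
    have h2 := congrArg (fun u : U => (u : W)) h1
    simp only [Fin.sum_univ_two, Submodule.coe_add, Submodule.coe_smul, hB] at h2
    rw [hφ, hφ₀, LinearMap.toMatrixAlgEquiv_apply, LinearMap.toMatrixAlgEquiv_apply]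
    have h3 : ((ρ' g (B j) : U) : W) = ρ g (![w, w'] j) := by
      rw [hρ', sub_apply, hB]
    rw [← h3, ← h2]
    rfl
  refine ⟨φ, w', hli, fun g => ⟨hformula g 0, hformula g 1⟩, ?_⟩
  intro hcomm
  have h1 : φ (a * b) = φ (b * a) := by rw [map_mul, map_mul, hcomm]
  have h2 : ρ (a * b) w = ρ (b * a) w := by
    have e1 := hformula (a * b) 0
    have e2 := hformula (b * a) 0
    rw [h1] at e1
    exact e1.trans e2.symm
  rw [map_mul, map_mul, Module.End.mul_apply, Module.End.mul_apply, hbw, haw, hbw, map_add, haw,
    haw'] at h2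
  have h3 : μ • w = 0 := by
    have : w + (w' + μ • w) - (w + w') = 0 := by rw [h2, sub_self]
    rw [← this]; abel
  rcases smul_eq_zero.mp h3 with h | h
  · exact hμ h
  · exact hw h

end plane

end Cfsg.Agent.Lib.Helper29.QuadPair
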