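import Mathlib
import Cfsg.Agent.Lib.Helper29.QuadPairPlane
import Cfsg.Agent.Lib.Helper29.DicksonForm
import Cfsg.Agent.Lib.Helper29.QuadPairDickson

/-!
# Quadratic pairs: the natural `SL₂(p)`-module inside `V` (helper29)
-/

set_option autoImplicit false
set_option linter.style.haveILetI false
set_option linter.unusedSectionVars false

namespace Cfsg.Agent.Lib.Helper29.QuadPair

open Subgroup TensorProduct Matrix

section proj

variable {k : Type*} [Field k] {E : Type*} [Field E] [Algebra k E] [FiniteDimensional k E]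
  {V : Type*} [AddCommGroup V] [Module k V]

/-- A `k`-linear projection `E ⊗ V → V`, compatible with base-changed endomorphisms, nonzero at
a given nonzero vector. -/
theorem exists_proj (x : E ⊗[k] V) (hx : x ≠ 0) :
    ∃ π : E ⊗[k] V →ₗ[k] V, π x ≠ 0 ∧
      ∀ (T : Module.End k V) (y : E ⊗[k] V), π (T.baseChange E y) = T (π y) := by
  classical
  let 𝔟 := Module.Free.chooseBasis k E
  let eq := TensorProduct.equivFinsuppOfBasisLeft (N := V) 𝔟
  have hx' : eq x ≠ 0 := by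
    intro h
    apply hx
    have := congrArg eq.symm h
    simpa using this
  obtain ⟨i, hi⟩ := DFunLike.ne_iff.mp hx'
  refine ⟨(Finsupp.lapply i).comp eq.toLinearMap, ?_, ?_⟩
  · simpa using hi
  · intro T y
    induction y using TensorProduct.induction_on with
    | zero => simp
    | tmul e v =>
      simp only [LinearMap.baseChange_tmul, LinearMap.coe_comp, LinearEquiv.coe_coe,
        Function.comp_apply, Finsupp.lapply_apply]
      rw [show eq (e ⊗ₜ[k] T v) i = 𝔟.repr e i • T v from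
          TensorProduct.equivFinsuppOfBasisLeft_apply_tmul_apply 𝔟 e (T v) i,
        show eq (e ⊗ₜ[k] v) i = 𝔟.repr e i • v from
          TensorProduct.equivFinsuppOfBasisLeft_apply_tmul_apply 𝔟 e v i, map_smul]
    | add y z hy hz => simp only [map_add, hy, hz]

end proj

section natural

variable {p : ℕ} [hpF : Fact p.Prime] {H : Type*} [Group H] [Finite H]
  {V : Type*} [AddCommGroup V] [Module (ZMod p) V] [Finite V]

/-- `SL₂(𝔽_p)` is transitive on nonzero vectors. -/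
theorem exists_SL2_mulVec_eq (s t : ZMod p) (hst : ¬ (s = 0 ∧ t = 0)) :
    ∃ X : SpecialLinearGroup (Fin 2) (ZMod p),
      X.1 0 0 * s + X.1 0 1 * t = 1 ∧ X.1 1 0 * s + X.1 1 1 * t = 0 := by
  by_cases hs : s = 0
  · have ht : t ≠ 0 := fun h => hst ⟨hs, h⟩
    refine ⟨⟨!![0, t⁻¹; -t, 0], ?_⟩, ?_, ?_⟩
    · rw [Matrix.det_fin_two_of]; field_simp; ring
    · simp [hs, ht]
    · simp [hs]
  · refine ⟨⟨!![s⁻¹, 0; -t, s], ?_⟩, ?_, ?_⟩
    · rw [Matrix.det_fin_two_of]; field_simp; ring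
    · simp [hs]
    · simp; ring

set_option maxHeartbeats 800000 in
/-- **Strong form of the quadratic pair theorem**: two quadratic elements generating a
non-`p`-group; then some subgroup `K` acts on a `2`-dimensional subspace `⟨e₁, e₂⟩` of `V` as
`SL₂(p)` on its natural module. -/
theorem exists_natural_of_pair (hp : p ≠ 2) (ρ₀ : Representation (ZMod p) H V)
    (hinj : ∀ g, ρ₀ g = 1 → g = 1)
    (a b : H) (hG : closure {a, b} = ⊤) (ha : IsQuad ρ₀ a) (hb : IsQuad ρ₀ b)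
    (hnp : ¬ IsPGroup p H) :
    ∃ (K : Subgroup H) (f : K →* SpecialLinearGroup (Fin 2) (ZMod p)) (e₁ e₂ : V),
      Function.Surjective f ∧ LinearIndependent (ZMod p) ![e₁, e₂] ∧
      ∀ k : K, ρ₀ k e₁ = (f k).1 0 0 • e₁ + (f k).1 1 0 • e₂ ∧
        ρ₀ k e₂ = (f k).1 0 1 • e₁ + (f k).1 1 1 • e₂ := by
  classical
  haveI : Module.Finite (ZMod p) V := Module.Finite.of_finite
  -- step 1: not nilpotent
  set N : Module.End (ZMod p) V := (ρ₀ a - 1) * (ρ₀ b - 1) with hN
  have hNnil : ¬ IsNilpotent N := by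
    intro hnil
    apply hnp
    intro g
    obtain ⟨i, hi⟩ := pgroup_of_nilpotent (p := p) a b hG ρ₀ ha hb hnil g
    exact ⟨i, hinj _ hi⟩
  -- step 2: the field
  obtain ⟨E, _, _, _, μ, w, hμ, hw, hev⟩ := exists_field_eigenvector N hNnil
  letI : Fintype E := Fintype.ofFinite E
  haveI : CharP E p := charP_of_injective_algebraMap (algebraMap (ZMod p) E).injective p
  haveI : FiniteDimensional (ZMod p) E := Module.Finite.of_finite
  set ρ := bc E ρ₀ with hρ
  have hρb : ∀ g, ρ g = (ρ₀ g).baseChange E := fun g => rfl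
  have hev' : (ρ a - 1) ((ρ b - 1) w) = μ • w := by
    rw [← hev, hN]
    have h1 : ((ρ₀ a - 1) * (ρ₀ b - 1)).baseChange E = (ρ a - 1) * (ρ b - 1) := by
      have := map_mul (Module.End.baseChangeHom (ZMod p) E V) (ρ₀ a - 1) (ρ₀ b - 1)
      rw [map_sub, map_sub, map_one] at this
      exact this
    rw [h1]; rfl
  -- step 3: the plane
  obtain ⟨φ, w', hli, hform, hnc⟩ := exists_hom_of_eigen p a b hG ρ (ha.baseChange E)
    (hb.baseChange E) μ hμ w hw hev'
  have hap : a ^ p = 1 := pow_prime_eq_one_of_isQuad ρ₀ hinj ha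
  have hbp : b ^ p = 1 := pow_prime_eq_one_of_isQuad ρ₀ hinj hb
  -- step 4: Dickson
  obtain ⟨K', hK', ⟨e⟩⟩ := Dickson.dickson_weak_subgroup (p := p) hp φ.range (φ a) (φ b)
    ⟨a, rfl⟩ ⟨b, rfl⟩ (by rw [← map_pow, hap, map_one]) (by rw [← map_pow, hbp, map_one]) hnc
  -- step 5: the form
  set ψ : SpecialLinearGroup (Fin 2) (ZMod p) →* SpecialLinearGroup (Fin 2) E :=
    K'.subtype.comp e.symm.toMonoidHom with hψ
  have hψinj : Function.Injective ψ := by
    intro X Y hXY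
    exact e.symm.injective (Subtype.ext hXY)
  obtain ⟨y₁, y₂, hy₁, hy⟩ := Dickson.exists_form_of_hom hp ψ hψinj
  set f₁ : E ⊗[ZMod p] V := y₁ 0 • w + y₁ 1 • w' with hf₁
  set f₂ : E ⊗[ZMod p] V := y₂ 0 • w + y₂ 1 • w' with hf₂
  have hf₁0 : f₁ ≠ 0 := by
    intro h
    obtain ⟨h0, h1⟩ := LinearIndependent.pair_iff.mp hli _ _ h
    apply hy₁
    ext i
    fin_cases i
    · exact h0
    · exact h1
  -- action on the form
  have hact : ∀ (g : H) (y : Fin 2 → E), ρ g (y 0 • w + y 1 • w') =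
      ((φ g).1 *ᵥ y) 0 • w + ((φ g).1 *ᵥ y) 1 • w' := by
    intro g y
    rw [map_add, map_smul, map_smul, (hform g).1, (hform g).2]
    simp only [Matrix.mulVec, dotProduct, Fin.sum_univ_two]
    module
  set K : Subgroup H := K'.comap φ with hKdef
  let f : K →* SpecialLinearGroup (Fin 2) (ZMod p) := e.toMonoidHom.comp (φ.subgroupComap K')
  have hfψ : ∀ k : K, ψ (f k) = φ k := by
    intro k
    change ((e.symm (e (φ.subgroupComap K' k)) : K') : SpecialLinearGroup (Fin 2) E) = φ k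
    rw [MulEquiv.symm_apply_apply]
    rfl
  have hfsurj : Function.Surjective f := by
    intro t
    obtain ⟨⟨k', hk'⟩, rfl⟩ := e.surjective t
    obtain ⟨k, rfl⟩ := hK' hk'
    exact ⟨⟨k, hk'⟩, rfl⟩
  set ι : ZMod p →+* E := algebraMap (ZMod p) E with hι
  have hKf₁ : ∀ k : K, ρ k f₁ = ι ((f k).1 0 0) • f₁ + ι ((f k).1 1 0) • f₂ := by
    intro k
    rw [hf₁, hact, ← hfψ k, (hy (f k)).1, hf₂]
    simp only [Pi.add_apply, Pi.smul_apply, smul_eq_mul]
    module
  have hKf₂ : ∀ k : K, ρ k f₂ = ι ((f k).1 0 1) • f₁ + ι ((f k).1 1 1) • f₂ := by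
    intro k
    rw [hf₂, hact, ← hfψ k, (hy (f k)).2, hf₁]
    simp only [Pi.add_apply, Pi.smul_apply, smul_eq_mul]
    module
  -- step 6: projection
  obtain ⟨π, hπ1, hπ⟩ := exists_proj (k := ZMod p) f₁ hf₁0
  have hπρ : ∀ (g : H) (y : E ⊗[ZMod p] V), π (ρ g y) = ρ₀ g (π y) := by
    intro g y
    rw [hρb]; exact hπ _ _
  have hπι : ∀ (c : ZMod p) (y : E ⊗[ZMod p] V), π (ι c • y) = c • π y := by
    intro c y
    rw [hι, algebraMap_smul, map_smul]
  have he₁ : ∀ k : K, ρ₀ k (π f₁) = (f k).1 0 0 • π f₁ + (f k).1 1 0 • π f₂ := by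
    intro k
    rw [← hπρ, hKf₁, map_add, hπι, hπι]
  have he₂ : ∀ k : K, ρ₀ k (π f₂) = (f k).1 0 1 • π f₁ + (f k).1 1 1 • π f₂ := by
    intro k
    rw [← hπρ, hKf₂, map_add, hπι, hπι]
  refine ⟨K, f, π f₁, π f₂, hfsurj, ?_, fun k => ⟨he₁ k, he₂ k⟩⟩
  rw [LinearIndependent.pair_iff]
  intro s t hst
  by_contra hcon
  obtain ⟨X, hX1, hX2⟩ := exists_SL2_mulVec_eq s t hcon
  obtain ⟨k, rfl⟩ := hfsurj X
  have h1 : ρ₀ k (s • π f₁ + t • π f₂) = π f₁ := by
    rw [map_add, map_smul, map_smul, he₁, he₂]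
    have e1 : s • ((f k).1 0 0 • π f₁ + (f k).1 1 0 • π f₂) +
        t • ((f k).1 0 1 • π f₁ + (f k).1 1 1 • π f₂) =
        ((f k).1 0 0 * s + (f k).1 0 1 * t) • π f₁ + ((f k).1 1 0 * s + (f k).1 1 1 * t) • π f₂ := by
      module
    rw [e1, hX1, hX2, one_smul, zero_smul, add_zero]
  rw [hst, map_zero] at h1
  exact hπ1 h1.symm

end natural

end Cfsg.Agent.Lib.Helper29.QuadPair
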