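import Mathlib
import Cfsg.Agent.Lib.Helper29.QuadPairNatural
import Cfsg.Agent.Lib.Helper29.QuadPairPStable

/-!
# Quadratic elements outside `O_p`: the natural `SL₂(p)`-module (helper29)
-/

set_option autoImplicit false
set_option linter.style.haveILetI false
set_option linter.unusedSectionVars false

namespace Cfsg.Agent.Lib.Helper29.QuadPair

open Subgroup TensorProduct Matrix

section natural2

variable {p : ℕ} [hpF : Fact p.Prime] {H : Type*} [Group H] [Finite H]
  {V : Type*} [AddCommGroup V] [Module (ZMod p) V] [Finite V]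

/-- **Strong form of S0656 (abstract)**: a quadratic element outside `O_p(H)` in a faithful
`𝔽_p H`-module `V` (`p` odd): some subgroup `K ≤ H` maps onto `SL₂(p)` and leaves invariant a
plane `⟨e₁, e₂⟩ ≤ V` on which it acts as on the natural module (columns convention). -/
theorem exists_natural_of_not_mem_pCore (hp : p ≠ 2) (ρ₀ : Representation (ZMod p) H V)
    (hinj : ∀ g, ρ₀ g = 1 → g = 1) (a : H) (ha : IsQuad ρ₀ a) (hna : a ∉ Cfsg.pCore p H) :
    ∃ (K : Subgroup H) (f : K →* SpecialLinearGroup (Fin 2) (ZMod p)) (e₁ e₂ : V),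
      Function.Surjective f ∧ LinearIndependent (ZMod p) ![e₁, e₂] ∧
      ∀ k : K, ρ₀ k e₁ = (f k).1 0 0 • e₁ + (f k).1 1 0 • e₂ ∧
        ρ₀ k e₂ = (f k).1 0 1 • e₁ + (f k).1 1 1 • e₂ := by
  obtain ⟨g, hg⟩ := exists_conj_not_pgroup ρ₀ hinj a ha hna
  set H₁ : Subgroup H := closure ({a, g * a * g⁻¹} : Set H) with hH₁
  have haH : a ∈ H₁ := subset_closure (by simp)
  have hbH : g * a * g⁻¹ ∈ H₁ := subset_closure (by simp)
  have hinj₁ : ∀ x : H₁, (ρ₀.comp H₁.subtype) x = 1 → x = 1 := by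
    intro x hx
    exact Subtype.ext (hinj _ hx)
  obtain ⟨K₁, f₁, e₁, e₂, hf₁, hli, hact⟩ := exists_natural_of_pair hp (ρ₀.comp H₁.subtype) hinj₁
    ⟨a, haH⟩ ⟨g * a * g⁻¹, hbH⟩ (closure_pair_eq_top H₁ a (g * a * g⁻¹) haH hbH hH₁)
    (ha.comp_subtype H₁ haH) ((ha.conj g).comp_subtype H₁ hbH) hg
  let ε := K₁.equivMapOfInjective H₁.subtype H₁.subtype_injective
  refine ⟨K₁.map H₁.subtype, f₁.comp ε.symm.toMonoidHom, e₁, e₂, ?_, hli, ?_⟩
  · intro t
    obtain ⟨k, rfl⟩ := hf₁ t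
    exact ⟨ε k, by simp⟩
  · intro k
    obtain ⟨k₁, rfl⟩ := ε.surjective k
    have h1 : (f₁.comp ε.symm.toMonoidHom) (ε k₁) = f₁ k₁ := by simp
    rw [h1]
    exact hact k₁

end natural2

section act

universe u

variable {p : ℕ} [hpF : Fact p.Prime] {H : Type*} [Group H] [Finite H]

/-- in any `ZMod p`-module, scalar multiplication is multiplication by the value. -/
theorem zmod_smul_eq_nsmul {M : Type*} [AddCommGroup M] [Module (ZMod p) M] (c : ZMod p) (x : M) :
    c • x = c.val • x := by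
  conv_lhs => rw [← ZMod.natCast_zmod_val c]
  exact Nat.cast_smul_eq_nsmul (ZMod p) c.val x

/-- **Strong form of S0656 (group action form)**: `H` acts faithfully on the finite abelian group
`A` of exponent `p` (`p` odd), `a ∈ H` acts quadratically and `a ∉ O_p(H)`. Then some subgroup
`K ≤ H` maps onto `SL₂(p)` via `f` and normalizes a subgroup `⟨x₁, x₂⟩ ≅ C_p × C_p` of `A`, acting
on it as `SL₂(p)` on its natural module: `k` sends the `j`-th generator to
`x₁ ^ (f k)₀ⱼ * x₂ ^ (f k)₁ⱼ`. -/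
theorem exists_natural_of_act (hp : p ≠ 2) {A : Type u} [CommGroup A] [Finite A]
    (hA : ∀ x : A, x ^ p = 1) (act : H →* MulAut A) (hinj : Function.Injective act)
    (a : H) (hquad : ∀ x : A, act a (act a x / x) = act a x / x) (hna : a ∉ Cfsg.pCore p H) :
    ∃ (K : Subgroup H) (f : K →* SpecialLinearGroup (Fin 2) (ZMod p)) (x₁ x₂ : A),
      Function.Surjective f ∧
      (∀ i j : ZMod p, x₁ ^ i.val * x₂ ^ j.val = 1 → i = 0 ∧ j = 0) ∧
      ∀ k : K, act k x₁ = x₁ ^ ((f k).1 0 0).val * x₂ ^ ((f k).1 1 0).val ∧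
        act k x₂ = x₁ ^ ((f k).1 0 1).val * x₂ ^ ((f k).1 1 1).val := by
  obtain ⟨iM, ρ₀, hρ₀⟩ := exists_rep (p := p) hA act
  have hinj' : ∀ g, ρ₀ g = 1 → g = 1 := by
    intro g hg
    apply hinj
    rw [map_one]
    ext x
    have := congrArg (fun f => f (Additive.ofMul x)) hg
    simp only [hρ₀, Module.End.one_apply] at this
    exact Additive.ofMul.injective this
  obtain ⟨K, f, e₁, e₂, hf, hli, hact⟩ := exists_natural_of_not_mem_pCore hp ρ₀ hinj' a
    (isQuad_of_act act ρ₀ hρ₀ a hquad) hna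
  refine ⟨K, f, Additive.toMul e₁, Additive.toMul e₂, hf, ?_, ?_⟩
  · intro i j hij
    rw [LinearIndependent.pair_iff] at hli
    apply hli i j
    rw [zmod_smul_eq_nsmul, zmod_smul_eq_nsmul]
    exact congrArg Additive.ofMul hij
  · intro k
    obtain ⟨h1, h2⟩ := hact k
    rw [hρ₀, zmod_smul_eq_nsmul, zmod_smul_eq_nsmul] at h1 h2
    exact ⟨congrArg Additive.toMul h1, congrArg Additive.toMul h2⟩

end act

end Cfsg.Agent.Lib.Helper29.QuadPair
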