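import Mathlib
import Cfsg.Prelude.Def_PLocal
import Cfsg.Prelude.Def_LocalEven
import Cfsg.Agent.Lib.Helper29.QdRealize
import Cfsg.Agent.Lib.Helper29.QuadPairNaturalAct

/-!
# `Qd(p)`-free groups act `p`-stably on normal elementary abelian subgroups (helper29)
-/

set_option autoImplicit false
set_option linter.style.haveILetI false
set_option linter.unusedSectionVars false

namespace Cfsg.Agent.Lib.Helper29.Qd

open Matrix Subgroup Cfsg.Agent.Lib.Helper29.QuadPair
open scoped commutatorElement

universe u

variable {p : ℕ} [hpF : Fact p.Prime] {G : Type u} [Group G]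

set_option maxHeartbeats 800000 in
/-- A `Qd(p)`-free finite group (`p` odd) acts `p`-stably on every normal elementary abelian
`p`-subgroup. -/
theorem isPStableOn_of_not_involves_qd [Finite G] (hp : p ≠ 2)
    (hfree : ¬ Cfsg.Involves ↥(Cfsg.qd p) G) (V : Subgroup G) [V.Normal]
    (hVc : ∀ x ∈ V, ∀ y ∈ V, x * y = y * x) (hVp : ∀ x ∈ V, x ^ p = 1) :
    Cfsg.IsPStableOn p V := by
  intro a ha
  letI : CommGroup V :=
    { (inferInstance : Group V) with
      mul_comm := fun x y => Subtype.ext (hVc x x.2 y y.2) }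
  have hA : ∀ x : V, x ^ p = 1 := fun x => Subtype.ext (by simpa using hVp x x.2)
  let act₀ : G →* MulAut V := MulAut.conjNormal
  have hact₀ : ∀ (g : G) (v : V), ((act₀ g v : V) : G) = g * v * g⁻¹ :=
    fun g v => MulAut.conjNormal_apply g v
  have hker : ∀ g, act₀ g = 1 ↔ g ∈ centralizer (V : Set G) := by
    intro g
    rw [mem_centralizer_iff]
    constructor
    · intro hg v hv
      have h1 := congrArg (fun f => ((f ⟨v, hv⟩ : V) : G)) hg
      simp only [hact₀, MulAut.one_apply] at h1
      calc v * g = (g * v * g⁻¹) * g := by rw [h1]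
        _ = g * v := by group
    · intro hg
      ext v
      rw [hact₀, MulAut.one_apply, ← hg v v.2]
      group
  set C : Subgroup G := centralizer (V : Set G) with hC
  let act : G ⧸ C →* MulAut V :=
    QuotientGroup.lift _ act₀ (fun g hg => (hker g).mpr hg)
  have hinj : Function.Injective act := by
    rw [injective_iff_map_eq_one]
    intro x hx
    obtain ⟨g, rfl⟩ := QuotientGroup.mk_surjective x
    have hx' : act₀ g = 1 := hx
    exact (QuotientGroup.eq_one_iff g).mpr ((hker g).mp hx')
  have hactmk : ∀ (g : G) (w : V), act (QuotientGroup.mk g) w = act₀ g w := fun g w => rfl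
  have hquad : ∀ v : V, act (QuotientGroup.mk a) (act (QuotientGroup.mk a) v / v) =
      act (QuotientGroup.mk a) v / v := by
    intro v
    rw [hactmk, hactmk]
    apply Subtype.ext
    rw [hact₀]
    have hc : ((act₀ a v / v : V) : G) = ⁅a, (v : G)⁆ := by
      rw [Subgroup.coe_div, hact₀, commutatorElement_def, div_eq_mul_inv]
    rw [hc]
    exact conj_commutator_eq_of_quad V a ha v v.2
  by_contra hna
  apply hfree
  -- the representation
  obtain ⟨iM, ρ₀, hρ₀⟩ := exists_rep (p := p) hA act
  have hinj' : ∀ g, ρ₀ g = 1 → g = 1 := by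
    intro g hg
    apply hinj
    rw [map_one]
    ext x
    have := congrArg (fun f => f (Additive.ofMul x)) hg
    simp only [hρ₀, Module.End.one_apply] at this
    exact congrArg Subtype.val (Additive.ofMul.injective this)
  obtain ⟨Kb, f, e₁, e₂, hf, hli, hact⟩ := exists_natural_of_not_mem_pCore hp ρ₀ hinj'
    (QuotientGroup.mk a) (isQuad_of_act act ρ₀ hρ₀ _ hquad) hna
  -- the plane
  let ℓ : (Fin 2 → ZMod p) →ₗ[ZMod p] Additive V :=
    (LinearMap.proj 0).smulRight e₁ + (LinearMap.proj 1).smulRight e₂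
  have hℓ : ∀ u, ℓ u = u 0 • e₁ + u 1 • e₂ := fun u => rfl
  let c : Pl p →* G :=
    { toFun := fun v => ((Additive.toMul (ℓ (Multiplicative.toAdd v)) : V) : G)
      map_one' := by simp
      map_mul' := by
        intro v w
        rw [toAdd_mul, map_add, toMul_add, Subgroup.coe_mul] }
  have hcdef : ∀ v, c v = ((Additive.toMul (ℓ (Multiplicative.toAdd v)) : V) : G) := fun v => rfl
  have hcinj : Function.Injective c := by
    rw [injective_iff_map_eq_one]
    intro v hv
    rw [hcdef] at hv
    have h1 : ℓ (Multiplicative.toAdd v) = 0 := by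
      have : (Additive.toMul (ℓ (Multiplicative.toAdd v)) : V) = 1 := Subtype.ext hv
      exact this
    rw [hℓ] at h1
    obtain ⟨h0, h1'⟩ := LinearIndependent.pair_iff.mp hli _ _ h1
    apply Multiplicative.toAdd.injective
    ext i
    fin_cases i
    · exact h0
    · exact h1'
  -- the acting group
  set K : Subgroup G := Kb.comap (QuotientGroup.mk' C) with hK
  let fK : K →* SpecialLinearGroup (Fin 2) (ZMod p) := f.comp ((QuotientGroup.mk' C).subgroupComap Kb)
  have hfK : Function.Surjective fK := by
    intro A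
    obtain ⟨kb, rfl⟩ := hf A
    obtain ⟨k, hk⟩ := MonoidHom.subgroupComap_surjective_of_surjective (QuotientGroup.mk' C) Kb
      (QuotientGroup.mk'_surjective C) kb
    exact ⟨k, by change f (((QuotientGroup.mk' C).subgroupComap Kb) k) = f kb; rw [hk]⟩
  apply involves_qd_of_natural hp c hcinj K fK hfK
  intro k v
  set kb : Kb := ((QuotientGroup.mk' C).subgroupComap Kb) k with hkb
  have hkbv : ((kb : Kb) : G ⧸ C) = QuotientGroup.mk (k : G) := rfl
  obtain ⟨h1, h2⟩ := hact kb
  set u := Multiplicative.toAdd v with hu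
  have h3 : ρ₀ kb (ℓ u) = ℓ ((fK k).1 *ᵥ u) := by
    rw [hℓ, hℓ, map_add, map_smul, map_smul, h1, h2]
    change _ = ((f kb).1 *ᵥ u) 0 • e₁ + ((f kb).1 *ᵥ u) 1 • e₂
    simp only [Matrix.mulVec, dotProduct, Fin.sum_univ_two]
    module
  rw [hρ₀, hkbv, hactmk] at h3
  rw [hcdef, hcdef, natAct_apply, toAdd_ofAdd, ← h3, toMul_ofMul, hact₀]

end Cfsg.Agent.Lib.Helper29.Qd
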