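import Mathlib
import Cfsg.Prelude.Def_PLocal
import Cfsg.Prelude.Def_LocalEven
import Cfsg.Agent.Lib.Helper29.QdStable
import Cfsg.Agent.Lib.Helper27.OddStable
import Cfsg.Agent.Lib.Helper8.ThTwoB

/-!
# `Qd(p)`-free groups are `p`-stable (helper29): Frattini-series induction
-/

set_option autoImplicit false
set_option linter.style.haveILetI false
set_option linter.unusedSectionVars false

namespace Cfsg.Agent.Lib.Helper29.Qd

open Matrix Subgroup Cfsg.Agent.Lib.Helper29.QuadPair
open scoped commutatorElement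

universe u

variable {p : ℕ} [hpF : Fact p.Prime] {G : Type u} [Group G]

/-- `p`-stability on a normal subgroup of the quotient gives `p`-stability on the section. -/
theorem isPStableOnSection_of_quotient [Finite G] (K N : Subgroup G) [hKn : K.Normal]
    [hNn : N.Normal]
    (h : haveI : (K.map (QuotientGroup.mk' N)).Normal := hKn.map _ (QuotientGroup.mk'_surjective N)
      Cfsg.IsPStableOn p (K.map (QuotientGroup.mk' N))) :
    Cfsg.IsPStableOnSection p K N := by
  intro a ha
  haveI hKbn : (K.map (QuotientGroup.mk' N)).Normal := hKn.map _ (QuotientGroup.mk'_surjective N)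
  set Kb : Subgroup (G ⧸ N) := K.map (QuotientGroup.mk' N) with hKb
  have hquad : ⁅⁅Kb, zpowers (QuotientGroup.mk' N a)⁆, zpowers (QuotientGroup.mk' N a)⁆ = ⊥ := by
    rw [hKb, ← MonoidHom.map_zpowers, ← Subgroup.map_commutator, ← Subgroup.map_commutator,
      eq_bot_iff]
    rintro _ ⟨x, hx, rfl⟩
    rw [mem_bot]
    exact (QuotientGroup.eq_one_iff x).mpr (ha hx)
  have hmem := h (QuotientGroup.mk' N a) hquad
  set Cb : Subgroup (G ⧸ N) := centralizer (Kb : Set (G ⧸ N)) with hCb
  let π : G →* (G ⧸ N) ⧸ Cb := (QuotientGroup.mk' Cb).comp (QuotientGroup.mk' N)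
  have hπs : Function.Surjective π :=
    (QuotientGroup.mk'_surjective Cb).comp (QuotientGroup.mk'_surjective N)
  have hker : π.ker = Cfsg.sectionKernel K N := by
    unfold Cfsg.sectionKernel
    rw [← MonoidHom.comap_ker, QuotientGroup.ker_mk']
  refine ⟨(Cfsg.pCore p ((G ⧸ N) ⧸ Cb)).comap π, ?_, ?_, ?_, hmem⟩
  · exact (Cfsg.Agent.Lib.Helper1.pCore_normal p _).comap _
  · rw [← hker]
    intro g hg
    rw [mem_comap, MonoidHom.mem_ker.mp hg]
    exact one_mem _
  · obtain ⟨k, hk⟩ := IsPGroup.iff_card.mp (Cfsg.Agent.Lib.Helper1.pCore_isPGroup p ((G ⧸ N) ⧸ Cb))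
    refine ⟨k, ?_⟩
    rw [← hker, relIndex_ker_comap π hπs, hk]

/-- sections of `Qd(p)`-free groups are stable -/
theorem isPStableOnSection_of_not_involves_qd [Finite G] (hp : p ≠ 2)
    (hfree : ¬ Cfsg.Involves ↥(Cfsg.qd p) G) (K N : Subgroup G)
    [hKn : K.Normal] [hNn : N.Normal]
    (hKc : ∀ x ∈ K, ∀ y ∈ K, ⁅x, y⁆ ∈ N) (hKp : ∀ x ∈ K, x ^ p ∈ N) :
    Cfsg.IsPStableOnSection p K N := by
  apply isPStableOnSection_of_quotient
  haveI hKbn : (K.map (QuotientGroup.mk' N)).Normal := hKn.map _ (QuotientGroup.mk'_surjective N)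
  apply isPStableOn_of_not_involves_qd hp
  · intro h
    exact hfree (Cfsg.Agent.Lib.Helper8.ThTwo.involves_of_quotient N h)
  · rintro _ ⟨x, hx, rfl⟩ _ ⟨y, hy, rfl⟩
    have h1 := hKc x hx y hy
    rw [commutatorElement_def] at h1
    rw [QuotientGroup.mk'_apply, QuotientGroup.mk'_apply, ← QuotientGroup.mk_mul,
      ← QuotientGroup.mk_mul, QuotientGroup.eq_iff_div_mem, div_eq_mul_inv]
    have : x * y * (y * x)⁻¹ = x * y * x⁻¹ * y⁻¹ := by group
    rw [this]
    exact h1
  · rintro _ ⟨x, hx, rfl⟩
    rw [QuotientGroup.mk'_apply, ← QuotientGroup.mk_pow, QuotientGroup.eq_one_iff]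
    exact hKp x hx


/-- Frattini-series induction (after helper27 `OddStable`): stability on elementary abelian
sections gives stability on all normal `p`-subgroups. -/
theorem isPStableOn_pGroup_aux [Finite G]
    (hsecAll : ∀ (K N : Subgroup G) [K.Normal] [N.Normal], (∀ x ∈ K, ∀ y ∈ K, ⁅x, y⁆ ∈ N) →
      (∀ x ∈ K, x ^ p ∈ N) → Cfsg.IsPStableOnSection p K N) :
    ∀ (n : ℕ) (P : Subgroup G) [P.Normal], IsPGroup p P → Nat.card P ≤ n →
      Cfsg.IsPStableOn p P := by
  intro n
  induction n with
  | zero =>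
    intro P _ _ hc
    have := Nat.card_pos (α := P)
    omega
  | succ n ih =>
    intro P hPn hP hcard a ha
    by_cases hbot : P = ⊥
    · have hmem : a ∈ centralizer (P : Set G) := by
        rw [mem_centralizer_iff]
        intro x hx
        rw [SetLike.mem_coe, hbot, mem_bot] at hx
        rw [hx, one_mul, mul_one]
      rw [(QuotientGroup.eq_one_iff a).mpr hmem]
      exact one_mem _
    · set N : Subgroup G := (frattini ↥P).map P.subtype with hN
      have hNP : N ≤ P := map_subtype_le _
      haveI hNn : N.Normal := Cfsg.Agent.Lib.Helper27.OddStable.frattini_map_normal P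
      have hNp : IsPGroup p N := hP.to_le hNP
      haveI : Nontrivial ↥P := (Subgroup.nontrivial_iff_ne_bot P).mpr hbot
      have hfrat_ne : frattini ↥P ≠ ⊤ := by
        intro h
        have h1 := frattini_nongenerating (G := ↥P) (K := ⊥) (by rw [h]; simp)
        exact bot_ne_top h1
      have hlt : Nat.card N < Nat.card P := by
        have h1 : Nat.card N = Nat.card (frattini ↥P) :=
          Nat.card_congr ((frattini ↥P).equivMapOfInjective P.subtype P.subtype_injective).symm.toEquiv
        rw [h1]
        by_contra hge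
        push Not at hge
        exact hfrat_ne (Subgroup.eq_top_of_le_card _ hge)
      have hNcard : Nat.card N ≤ n := by omega
      have hquadN : ⁅⁅N, zpowers a⁆, zpowers a⁆ = ⊥ := by
        rw [eq_bot_iff, ← ha]
        exact commutator_mono (commutator_mono hNP le_rfl) le_rfl
      have h1 := ih N hNp hNcard a hquadN
      have hsec : Cfsg.IsPStableOnSection p P N := by
        apply hsecAll P N
        · intro x hx y hy
          refine ⟨⁅(⟨x, hx⟩ : P), ⟨y, hy⟩⁆, ?_, rfl⟩
          apply Cfsg.Agent.Lib.Helper1.IsPGroup.commutator_le_frattini hP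
          rw [_root_.commutator_def]
          exact commutator_mem_commutator (mem_top _) (mem_top _)
        · intro x hx
          exact ⟨(⟨x, hx⟩ : P) ^ p, Cfsg.Agent.Lib.Helper1.IsPGroup.pow_mem_frattini hP _, rfl⟩
      obtain ⟨D₂, hD₂n, hKD₂, ⟨k, hk⟩, haD₂⟩ := hsec a (by rw [ha]; exact bot_le)
      set D₁ : Subgroup G :=
        (Cfsg.pCore p (G ⧸ centralizer (N : Set G))).comap (QuotientGroup.mk' _) with hD₁
      haveI hD₁n : D₁.Normal :=
        (Cfsg.Agent.Lib.Helper1.pCore_normal p (G ⧸ centralizer (N : Set G))).comap _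
      have haD₁ : a ∈ D₁ := h1
      -- powers
      have hpow₁ : ∀ d ∈ D₁, ∃ j : ℕ, d ^ p ^ j ∈ centralizer (N : Set G) := by
        intro d hd
        have hd' : (QuotientGroup.mk' (centralizer (N : Set G)) d) ∈
            Cfsg.pCore p (G ⧸ centralizer (N : Set G)) := hd
        obtain ⟨j, hj⟩ := (Cfsg.Agent.Lib.Helper1.pCore_isPGroup p
          (G ⧸ centralizer (N : Set G))) ⟨_, hd'⟩
        refine ⟨j, ?_⟩
        have hj' := congrArg Subtype.val hj
        simp only [Subgroup.coe_pow, Subgroup.coe_one] at hj'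
        rw [← map_pow] at hj'
        exact (QuotientGroup.eq_one_iff _).mp hj'
      have hpow₂ : ∀ d ∈ D₂, d ^ p ^ k ∈ Cfsg.sectionKernel P N := by
        intro d hd
        haveI : ((Cfsg.sectionKernel P N).subgroupOf D₂).Normal := by
          haveI : (Cfsg.sectionKernel P N).Normal := by
            unfold Cfsg.sectionKernel; infer_instance
          infer_instance
        have := Subgroup.pow_index_mem ((Cfsg.sectionKernel P N).subgroupOf D₂) (⟨d, hd⟩ : D₂)
        rw [show ((Cfsg.sectionKernel P N).subgroupOf D₂).index = p ^ k from hk] at this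
        exact this
      set D : Subgroup G := D₁ ⊓ D₂ with hD
      haveI hDn : D.Normal := by
        haveI := hD₂n
        infer_instance
      have hpow : ∀ d ∈ D, ∃ j : ℕ, d ^ p ^ j ∈ centralizer (P : Set G) := by
        intro d hd
        obtain ⟨j, hj⟩ := hpow₁ d hd.1
        have hk' := hpow₂ d hd.2
        obtain ⟨t, ht⟩ := IsPGroup.iff_card.mp hNp
        refine ⟨j + k + t, ?_⟩
        have e : d ^ p ^ (j + k + t) = (d ^ p ^ (j + k)) ^ Nat.card N := by
          rw [ht, ← pow_mul, ← pow_add]
        rw [e]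
        apply Cfsg.Agent.Lib.Helper27.OddStable.pow_card_mem_centralizer P N
        · have : d ^ p ^ (j + k) = (d ^ p ^ j) ^ p ^ k := by rw [← pow_mul, ← pow_add]
          rw [this]
          exact Subgroup.pow_mem _ hj _
        · have : d ^ p ^ (j + k) = (d ^ p ^ k) ^ p ^ j := by
            rw [← pow_mul, ← pow_add, add_comm]
          rw [this]
          have h3 : (d ^ p ^ k) ^ p ^ j ∈ Cfsg.sectionKernel P N := Subgroup.pow_mem _ hk' _
          exact (Cfsg.Agent.Lib.Helper17.mem_sectionKernel_iff P N _).mp h3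
      have hmapn : (D.map (QuotientGroup.mk' (centralizer (P : Set G)))).Normal :=
        hDn.map _ (QuotientGroup.mk'_surjective _)
      have hmapp : IsPGroup p (D.map (QuotientGroup.mk' (centralizer (P : Set G)))) := by
        rintro ⟨_, d, hd, rfl⟩
        obtain ⟨j, hj⟩ := hpow d hd
        refine ⟨j, Subtype.ext ?_⟩
        simp only [Subgroup.coe_pow, Subgroup.coe_one]
        rw [← map_pow]
        exact (QuotientGroup.eq_one_iff _).mpr hj
      exact Cfsg.Agent.Lib.Helper12.le_pCore' p _ hmapn hmapp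
        (Subgroup.mem_map_of_mem _ ⟨haD₁, haD₂⟩)


/-- **`Qd(p)`-free groups act `p`-stably on every normal `p`-subgroup.** -/
theorem isPStableOn_of_not_involves_qd_pGroup [Finite G] (hp : p ≠ 2)
    (hfree : ¬ Cfsg.Involves ↥(Cfsg.qd p) G) (P : Subgroup G) [P.Normal]
    (hP : IsPGroup p P) : Cfsg.IsPStableOn p P :=
  isPStableOn_pGroup_aux (fun K N _ _ hKc hKp =>
    isPStableOnSection_of_not_involves_qd hp hfree K N hKc hKp) (Nat.card P) P hP le_rfl

/-- If every normalizer of a `p`-subgroup acts `p`-stably on it, the group is `p`-stable in the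
normalizer form. -/
theorem isNormalizerPStable_of_isPStableOn [Finite G]
    (h : ∀ P : Subgroup G, IsPGroup p P →
      haveI : (P.subgroupOf (normalizer (P : Set G))).Normal := Subgroup.normal_in_normalizer
      Cfsg.IsPStableOn p (P.subgroupOf (normalizer (P : Set G)))) :
    Cfsg.IsNormalizerPStable p G := by
  intro P hPp g hg hquad
  set N : Subgroup G := normalizer (P : Set G) with hN
  have hmapP : (P.subgroupOf N).map N.subtype = P :=
    Subgroup.map_subgroupOf_eq_of_le Subgroup.le_normalizer
  haveI hPn : (P.subgroupOf N).Normal := Subgroup.normal_in_normalizer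
  have hquad' : ⁅⁅P.subgroupOf N, zpowers (⟨g, hg⟩ : N)⁆, zpowers (⟨g, hg⟩ : N)⁆ = ⊥ := by
    rw [← Subgroup.map_eq_bot_iff_of_injective _ N.subtype_injective,
      Subgroup.map_commutator, Subgroup.map_commutator, hmapP, MonoidHom.map_zpowers]
    exact hquad
  have h1 := h P hPp ⟨g, hg⟩ hquad'
  have hCeq : centralizer ((P.subgroupOf N : Subgroup N) : Set N) =
      (centralizer (P : Set G)).subgroupOf N := by
    ext x
    rw [Subgroup.mem_subgroupOf, Subgroup.mem_centralizer_iff, Subgroup.mem_centralizer_iff]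
    constructor
    · intro hx u hu
      have := hx ⟨u, Subgroup.le_normalizer hu⟩ (by
        rw [SetLike.mem_coe, Subgroup.mem_subgroupOf]; exact hu)
      exact congrArg Subtype.val this
    · intro hx u hu
      apply Subtype.ext
      exact hx u (Subgroup.mem_subgroupOf.mp hu)
  let e : (N ⧸ centralizer ((P.subgroupOf N : Subgroup N) : Set N)) ≃*
      (N ⧸ (centralizer (P : Set G)).subgroupOf N) := QuotientGroup.quotientMulEquivOfEq hCeq
  have hle : (Cfsg.pCore p (N ⧸ centralizer ((P.subgroupOf N : Subgroup N) : Set N))).map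
      e.toMonoidHom ≤ Cfsg.pCore p (N ⧸ (centralizer (P : Set G)).subgroupOf N) := by
    apply Cfsg.Agent.Lib.Helper1.le_pCore
    · exact Subgroup.Normal.map (Cfsg.Agent.Lib.Helper1.pCore_normal p _) _ e.surjective
    · exact (Cfsg.Agent.Lib.Helper1.pCore_isPGroup p _).map _
  exact hle (Subgroup.mem_map_of_mem e.toMonoidHom h1)

/-- **Theorem Q: a finite group not involving `Qd(p)`, `p` odd, is `p`-stable in the normalizer
form.** -/
theorem isNormalizerPStable_of_not_involves_qd [Finite G] (hp : p ≠ 2)
    (hfree : ¬ Cfsg.Involves ↥(Cfsg.qd p) G) : Cfsg.IsNormalizerPStable p G := by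
  apply isNormalizerPStable_of_isPStableOn
  intro P hPp
  haveI : (P.subgroupOf (normalizer (P : Set G))).Normal := Subgroup.normal_in_normalizer
  apply isPStableOn_of_not_involves_qd_pGroup hp
  · intro h
    exact hfree (Cfsg.Agent.Lib.Helper27.involves_of_injective _ (Subgroup.subtype_injective _) h)
  · exact hPp.comap_of_injective _ (Subgroup.subtype_injective _)

end Cfsg.Agent.Lib.Helper29.Qd
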