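import Mathlib
import Cfsg.Prelude.Def_BlockRank
import Cfsg.Agent.Lib.Helper27.DODefs

/-! helper29: DEFECT-ONE Part O leaf TI `mem_Nz_of_conj_mem` (helper27's market), with the Sylow basics around a
Sylow `p`-subgroup `P` of order `p`. -/

set_option autoImplicit false
set_option linter.unusedSectionVars false

namespace Cfsg.Agent.Lib.Helper29.DOTI

open Cfsg Cfsg.Agent.Lib.Helper8.DOM Cfsg.Agent.Lib.Helper27.DO
open scoped ComplexConjugate

universe u

section grp

variable {G : Type u} [Group G] [Finite G] {p : ℕ} [Fact p.Prime]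

theorem isPGroup_of_card (P : Subgroup G) (hP : Nat.card P = p) : IsPGroup p P :=
  IsPGroup.of_card (n := 1) (by rw [hP, pow_one])

/-- a non-identity element of `P` has order `p` -/
theorem orderOf_eq_of_mem (P : Subgroup G) (hP : Nat.card P = p) {x : G} (hx : x ∈ P) (hx1 : x ≠ 1) :
    orderOf x = p := by
  have hp := Fact.out (p := p.Prime)
  have h1 : orderOf x ∣ p := by
    have := Subgroup.orderOf_dvd_natCard P hx
    rwa [hP] at this
  rcases (Nat.dvd_prime hp).mp h1 with h | h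
  · exact absurd (orderOf_eq_one_iff.mp h) hx1
  · exact h

/-- every element of `P` is a power of a given non-identity element of `P` -/
theorem exists_pow_eq_of_mem (P : Subgroup G) (hP : Nat.card P = p) {x : G} (hx : x ∈ P) (hx1 : x ≠ 1)
    {w : G} (hw : w ∈ P) : ∃ j : ℤ, x ^ j = w := by
  have h1 : (⟨x, hx⟩ : P) ≠ 1 := fun h => hx1 (congrArg Subtype.val h)
  have h2 : (⟨w, hw⟩ : P) ∈ Subgroup.zpowers (⟨x, hx⟩ : P) := mem_zpowers_of_prime_card hP h1
  obtain ⟨j, hj⟩ := Subgroup.mem_zpowers_iff.mp h2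
  exact ⟨j, by simpa using congrArg Subtype.val hj⟩

/-- a `p`-element centralizing the Sylow subgroup `P` lies in `P` -/
theorem mem_of_mem_Cz (P : Subgroup G) (hP : Nat.card P = p) (hSyl : ¬ p ∣ P.index) {z : G}
    (hz : z ∈ Cz P) (hzp : z ^ p = 1) : z ∈ P := by
  have hPp := isPGroup_of_card P hP
  have hZ : IsPGroup p (Subgroup.zpowers z) := by
    rintro ⟨g, hg⟩
    obtain ⟨j, rfl⟩ := Subgroup.mem_zpowers_iff.mp hg
    refine ⟨1, Subtype.ext ?_⟩
    simp only [pow_one, Subgroup.coe_pow, Subgroup.coe_one]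
    rw [← zpow_natCast, ← zpow_mul, mul_comm, zpow_mul, zpow_natCast, hzp, one_zpow]
  have hle : Subgroup.zpowers z ≤ Subgroup.normalizer (P : Set G) := by
    rw [Subgroup.zpowers_le]
    exact Subgroup.centralizer_le_normalizer (P : Set G) hz
  have hsup : IsPGroup p (Subgroup.zpowers z ⊔ P : Subgroup G) :=
    IsPGroup.to_sup_of_normal_right' hZ hPp hle
  have hmax := (hPp.toSylow hSyl).is_maximal' hsup (by
    rw [IsPGroup.toSylow_coe]
    exact le_sup_right)
  rw [IsPGroup.toSylow_coe] at hmax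
  have : z ∈ Subgroup.zpowers z ⊔ P := Subgroup.mem_sup_left (Subgroup.mem_zpowers z)
  rwa [hmax] at this

/-- `t x t⁻¹ ∈ P` for one `1 ≠ x ∈ P` forces `t ∈ N_G(P)` -/
theorem mem_Nz_of_conj_mem_P (P : Subgroup G) (hP : Nat.card P = p) {x : G} (hx : x ∈ P) (hx1 : x ≠ 1)
    {t : G} (h : t * x * t⁻¹ ∈ P) : t ∈ Nz P := by
  unfold Nz
  rw [Subgroup.mem_normalizer_iff_map_conj_eq]
  refine Subgroup.eq_of_le_of_card_ge ?_ ?_
  · rintro _ ⟨w, hw, rfl⟩
    obtain ⟨j, rfl⟩ := exists_pow_eq_of_mem P hP hx hx1 hw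
    rw [map_zpow]
    exact P.zpow_mem (by simpa [MulAut.conj_apply] using h) j
  · rw [Subgroup.card_map_of_injective (MulAut.conj t).injective]

/-- TI -/
theorem mem_Nz_of_conj_mem (P : Subgroup G) (hP : Nat.card P = p) (hSyl : ¬ p ∣ P.index) (x : G)
    (hx : x ∈ P) (hx1 : x ≠ 1) (y : G) (hy : y ∈ Cz P) (hyreg : ¬ p ∣ orderOf y) (t : G)
    (h : t * (x * y) * t⁻¹ ∈ Cz P) : t ∈ Nz P := by
  have hxy : Commute x y := Subgroup.mem_centralizer_iff.mp hy x hx
  have hox := orderOf_eq_of_mem P hP hx hx1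
  have hpow : (t * (x * y) * t⁻¹) ^ orderOf y = t * x ^ orderOf y * t⁻¹ := by
    rw [conj_pow, hxy.mul_pow, pow_orderOf_eq_one, mul_one]
  have hz : t * x ^ orderOf y * t⁻¹ ∈ Cz P := hpow ▸ Subgroup.pow_mem _ h _
  have hxm1 : x ^ orderOf y ≠ 1 := by
    intro h1
    have := orderOf_dvd_of_pow_eq_one h1
    rw [hox] at this
    exact hyreg this
  have hzp : (t * x ^ orderOf y * t⁻¹) ^ p = 1 := by
    rw [conj_pow, ← pow_mul, mul_comm, pow_mul, ← hox, pow_orderOf_eq_one, one_pow, mul_one,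
      mul_inv_cancel]
  exact mem_Nz_of_conj_mem_P P hP (P.pow_mem hx _) hxm1 (mem_of_mem_Cz P hP hSyl hz hzp)

end grp

end Cfsg.Agent.Lib.Helper29.DOTI
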