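import Mathlib
import Cfsg.Prelude.Def_BlockRank
import Cfsg.Agent.Lib.Helper27.DODefs
import Cfsg.Agent.Lib.Lead.CharEquiv
import Cfsg.Agent.Lib.Lead.CharDecomp

/-! helper29: DEFECT-ONE Part O leaf MULT (`muC_eq_natCast`, `muZ_cast`) in `_of` form over the first clause of
LOC2 `block_of_pTriv` (helper27's market). -/

set_option autoImplicit false
set_option linter.unusedSectionVars false

namespace Cfsg.Agent.Lib.Helper29.DOMULTOf

open Cfsg Cfsg.Agent.CharLib Cfsg.Agent.Lib.Helper8.DOM Cfsg.Agent.Lib.Helper27.DO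
open scoped ComplexConjugate

universe u

section loc

variable {G : Type u} [Group G] [Finite G] {p : ℕ} [Fact p.Prime] {M : Ideal AlgInt}

/-- the multiplicity of an irreducible character of a subgroup in the restriction of a character is a
natural number -/
theorem mult_nat (H : Subgroup G) {χ : G → ℂ} (hχ : IsCharacter G χ) {φ : H → ℂ}
    (hφ : IsCharacter H φ) : ∃ m : ℕ, mult H χ φ = m := by
  classical
  have : Fintype H := Fintype.ofFinite H
  obtain ⟨m, hm⟩ := IsCharacter.classInner_nat (IsCharacter.restrict hχ H) hφ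
  refine ⟨m, ?_⟩
  rw [← hm]
  unfold mult classInner
  rw [finsum_eq_sum_of_fintype]

/-- MULT (`_of` form): with exactly one member of the block of `θ` for each central index, `muC` is the
multiplicity of that member -/
theorem muC_eq_mult_of (P : Subgroup G) (x0 : G) (θ : IrrCharacter (Cz P))
    (hL : ∀ i : ZMod p, ∃! φ : IrrCharacter (Cz P),
      φ ∈ blockOf M (θ : Cz P → ℂ) ∧ HasIdx p P x0 (φ : Cz P → ℂ) i)
    (χ : IrrCharacter G) (i : ZMod p) :
    ∃ φ : IrrCharacter (Cz P), (φ ∈ blockOf M (θ : Cz P → ℂ) ∧ HasIdx p P x0 (φ : Cz P → ℂ) i) ∧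
      muC p M P θ x0 χ i = mult (Cz P) (χ : G → ℂ) (φ : Cz P → ℂ) := by
  obtain ⟨φ, hφ, huniq⟩ := hL i
  refine ⟨φ, hφ, ?_⟩
  have hset : {φ' : IrrCharacter (Cz P) | φ' ∈ blockOf M (θ : Cz P → ℂ) ∧
      HasIdx p P x0 (φ' : Cz P → ℂ) i} = {φ} := by
    ext φ'
    simp only [Set.mem_ofPred_eq, Set.mem_singleton_iff]
    exact ⟨fun h => huniq φ' h, fun h => h ▸ hφ⟩
  unfold muC
  rw [hset, finsum_mem_singleton]

theorem muC_eq_natCast_of (P : Subgroup G) (x0 : G) (θ : IrrCharacter (Cz P))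
    (hL : ∀ i : ZMod p, ∃! φ : IrrCharacter (Cz P),
      φ ∈ blockOf M (θ : Cz P → ℂ) ∧ HasIdx p P x0 (φ : Cz P → ℂ) i)
    (χ : IrrCharacter G) (i : ZMod p) :
    ∃ m : ℕ, muC p M P θ x0 χ i = m := by
  obtain ⟨φ, -, h⟩ := muC_eq_mult_of P x0 θ hL χ i
  rw [h]
  exact mult_nat (Cz P) (IsIrrCharacter.isCharacter χ.2) (IsIrrCharacter.isCharacter φ.2)

theorem muZ_cast_of (P : Subgroup G) (x0 : G) (θ : IrrCharacter (Cz P))
    (hL : ∀ i : ZMod p, ∃! φ : IrrCharacter (Cz P),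
      φ ∈ blockOf M (θ : Cz P → ℂ) ∧ HasIdx p P x0 (φ : Cz P → ℂ) i)
    (χ : IrrCharacter G) (i : ZMod p) :
    ((muZ p M P θ x0 χ i : ℤ) : ℂ) = muC p M P θ x0 χ i := by
  obtain ⟨m, hm⟩ := muC_eq_natCast_of P x0 θ hL χ i
  unfold muZ
  rw [hm, Complex.natCast_re, Int.floor_natCast, Int.cast_natCast]

end loc

end Cfsg.Agent.Lib.Helper29.DOMULTOf
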