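import Mathlib
import Cfsg.Prelude.Def_BlockRank
import Cfsg.Agent.Lib.Helper27.DODefs
import Cfsg.Agent.Lib.Helper22.DOLOC2
import Cfsg.Agent.Lib.Helper29.DOMULTOf

/-! helper29: DEFECT-ONE Part O leaf MULT (`muC_eq_natCast`, `muZ_cast`), exact form = `Helper29.DOMULTOf` over
helper22's landed LOC2 `block_of_pTriv`. -/

set_option autoImplicit false
set_option linter.unusedSectionVars false

namespace Cfsg.Agent.Lib.Helper29.DOMULT

open Cfsg Cfsg.Agent.Lib.Helper8.DOM Cfsg.Agent.Lib.Helper27.DO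
open scoped ComplexConjugate

universe u

section loc

variable {G : Type u} [Group G] [Finite G] {p : ℕ} [Fact p.Prime] {M : Ideal AlgInt}

/-- MULT : the multiplicities are natural numbers. -/
theorem muC_eq_natCast (hM : IsPModular p M) (P : Subgroup G) (hP : Nat.card P = p)
    (hSyl : ¬ p ∣ P.index) (x0 : G) (hx0 : P = Subgroup.zpowers x0) (θ : IrrCharacter (Cz P))
    (hθP : PTriv P (θ : Cz P → ℂ)) (χ : IrrCharacter G) (i : ZMod p) :
    ∃ m : ℕ, muC p M P θ x0 χ i = m :=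
  Cfsg.Agent.Lib.Helper29.DOMULTOf.muC_eq_natCast_of P x0 θ
    (Cfsg.Agent.Lib.Helper22.DOLOC2.block_of_pTriv hM P hP hSyl x0 hx0 θ hθP).1 χ i

theorem muZ_cast (hM : IsPModular p M) (P : Subgroup G) (hP : Nat.card P = p)
    (hSyl : ¬ p ∣ P.index) (x0 : G) (hx0 : P = Subgroup.zpowers x0) (θ : IrrCharacter (Cz P))
    (hθP : PTriv P (θ : Cz P → ℂ)) (χ : IrrCharacter G) (i : ZMod p) :
    ((muZ p M P θ x0 χ i : ℤ) : ℂ) = muC p M P θ x0 χ i :=
  Cfsg.Agent.Lib.Helper29.DOMULTOf.muZ_cast_of P x0 θ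
    (Cfsg.Agent.Lib.Helper22.DOLOC2.block_of_pTriv hM P hP hSyl x0 hx0 θ hθP).1 χ i

end loc

end Cfsg.Agent.Lib.Helper29.DOMULT
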