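import Mathlib
import Cfsg.Prelude.Def_BlockRank
import Cfsg.Agent.Lib.Helper27.DODefs

/-! helper29: DEFECT-ONE Part O leaf DPOW `Dfun_pow` (helper27's market). -/

set_option autoImplicit false
set_option linter.unusedSectionVars false

namespace Cfsg.Agent.Lib.Helper29.DODPOW

open Cfsg Cfsg.Agent.Lib.Helper8.DOM Cfsg.Agent.Lib.Helper27.DO
open scoped ComplexConjugate

universe u

theorem zetaP_pow_self (p : ℕ) (hp : p ≠ 0) : zetaP p ^ p = 1 := by
  unfold zetaP
  rw [← Complex.exp_nat_mul]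
  have : (p : ℂ) * (2 * Real.pi * Complex.I / p) = 2 * Real.pi * Complex.I := by
    have hp' : (p : ℂ) ≠ 0 := Nat.cast_ne_zero.mpr hp
    field_simp
  rw [this, Complex.exp_two_pi_mul_I]

theorem zetaP_pow_mul_mod (p : ℕ) (hp : p ≠ 0) (a k : ℕ) :
    zetaP p ^ (a * (k % p)) = zetaP p ^ (a * k) := by
  conv_rhs => rw [← Nat.div_add_mod k p, mul_add, pow_add, mul_left_comm, pow_mul,
    zetaP_pow_self p hp, one_pow, one_mul]

section grp

variable {G : Type u} [Group G] [Finite G] {p : ℕ} [Fact p.Prime]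

/-- DPOW : `Dfun` at a power of the generator. -/
theorem Dfun_pow (x0 : G) (hx0 : orderOf x0 = p) (μ : ZMod p → ℤ) (k : ℕ) :
    Dfun p x0 μ (x0 ^ k) = ∑ᶠ i : ZMod p, (μ i : ℂ) * zetaP p ^ (i.val * k) := by
  have hp := (Fact.out (p := p.Prime)).ne_zero
  have : NeZero p := ⟨hp⟩
  have hset : {k' : ZMod p | x0 ^ k = x0 ^ k'.val} = {(k : ZMod p)} := by
    ext k'
    simp only [Set.mem_ofPred_eq, Set.mem_singleton_iff]
    rw [pow_eq_pow_iff_modEq, hx0, ← ZMod.natCast_eq_natCast_iff, ZMod.natCast_zmod_val]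
    exact eq_comm
  unfold Dfun
  rw [hset, finsum_mem_singleton]
  refine finsum_congr fun i => ?_
  rw [ZMod.val_natCast, zetaP_pow_mul_mod p hp]

end grp

end Cfsg.Agent.Lib.Helper29.DODPOW
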