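import Mathlib
import Cfsg.Prelude.Def_BlockRank
import Cfsg.Agent.Lib.Helper27.DODefs
import Cfsg.Agent.Lib.Lead.CharOrtho

/-! helper29: DEFECT-ONE Part O leaf RANK `blockRank_add_card_le` (helper27's market): rank-nullity for the map
`c ↦ ∑_{χ ∈ B} c χ • pRegularPart p χ`. -/

set_option autoImplicit false
set_option linter.unusedSectionVars false

namespace Cfsg.Agent.Lib.Helper29.DORANK

open Cfsg Cfsg.Agent.Lib.Helper8.DOM Cfsg.Agent.Lib.Helper27.DO
open scoped ComplexConjugate

universe u

/-- RANK : `m` independent vectors orthogonal to the `p`-regular columns cost `m` in the rank. -/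
theorem blockRank_add_card_le {G : Type u} [Group G] [Finite G] (p : ℕ) (B : Set (IrrCharacter G))
    {J : Type*} [Fintype J] (v : J → IrrCharacter G → ℂ)
    (hindep : ∀ c : J → ℂ, (∀ χ ∈ B, ∑ j, c j * v j χ = 0) → ∀ j, c j = 0)
    (horth : ∀ j, ∀ g : G, ¬ p ∣ orderOf g → ∑ᶠ χ ∈ B, v j χ * (χ : G → ℂ) g = 0) :
    blockRank p B + Fintype.card J ≤ Nat.card B := by
  classical
  have : Finite (IrrCharacter G) := Cfsg.Agent.CharLib.finite_irrCharacter
  have : Fintype B := Fintype.ofFinite B
  let f : B → (G → ℂ) := fun χ => pRegularPart p ((χ : IrrCharacter G) : G → ℂ)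
  let L : (B → ℂ) →ₗ[ℂ] (G → ℂ) := Fintype.linearCombination ℂ f
  have hrange : LinearMap.range L =
      Submodule.span ℂ ((fun χ : IrrCharacter G => pRegularPart p (χ : G → ℂ)) '' B) := by
    rw [Fintype.range_linearCombination, Set.image_eq_range]
  have hrank : blockRank p B = Module.finrank ℂ (LinearMap.range L) := by
    unfold blockRank
    rw [hrange]
  have hker : ∀ j, (fun χ : B => v j (χ : IrrCharacter G)) ∈ LinearMap.ker L := by
    intro j
    rw [LinearMap.mem_ker]
    funext g
    rw [Fintype.linearCombination_apply, Finset.sum_apply, Pi.zero_apply]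
    by_cases hg : IsPRegular p g
    · have h1 := horth j g hg
      rw [← finsum_set_coe_eq_finsum_mem, finsum_eq_sum_of_fintype] at h1
      rw [← h1]
      refine Finset.sum_congr rfl fun χ _ => ?_
      simp only [Pi.smul_apply, smul_eq_mul, f, pRegularPart, if_pos hg]
    · refine Finset.sum_eq_zero fun χ _ => ?_
      simp only [Pi.smul_apply, smul_eq_mul, f, pRegularPart, if_neg hg, mul_zero]
  let w : J → LinearMap.ker L := fun j => ⟨fun χ : B => v j (χ : IrrCharacter G), hker j⟩
  have hw : LinearIndependent ℂ w := by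
    rw [Fintype.linearIndependent_iff]
    intro c hc
    apply hindep c
    intro χ hχ
    have h1 := congrArg (fun z : LinearMap.ker L => (z : B → ℂ) ⟨χ, hχ⟩) hc
    simpa [w, Finset.sum_apply] using h1
  have hJ : Fintype.card J ≤ Module.finrank ℂ (LinearMap.ker L) :=
    hw.fintype_card_le_finrank
  have hrn := LinearMap.finrank_range_add_finrank_ker L
  rw [Module.finrank_fintype_fun_eq_card] at hrn
  rw [hrank, Nat.card_eq_fintype_card]
  omega

end Cfsg.Agent.Lib.Helper29.DORANK
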