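/-
helper29: S4607 leaf A2 (planner helper27): if `π` maps `B` onto a product of `l` matrix algebras
then `ker π + [B,B]` has codimension `l`.
-/
import Cfsg.Agent.Lib.Helper27.SymAlgDefs

set_option autoImplicit false

namespace Cfsg.Agent.Lib.Helper29.SymAlgA2

open Cfsg.Agent.Lib.Helper27.SymAlg

variable {F : Type*} [Field F] {B : Type*} [Ring B] [Algebra F B]

theorem sub_mem_commSpan (x y : B) : x * y - y * x ∈ commSpan F B :=
  Submodule.subset_span ⟨x, y, rfl⟩

section Mat

variable {n : Type*} [Fintype n] [DecidableEq n]

theorem single_offdiag_mem (i j : n) (h : i ≠ j) (c : F) :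
    Matrix.single i j c ∈ commSpan F (Matrix n n F) := by
  have h1 : Matrix.single i j c =
      Matrix.single i i (1 : F) * Matrix.single i j c
        - Matrix.single i j c * Matrix.single i i (1 : F) := by
    rw [Matrix.single_mul_single_same, Matrix.single_mul_single_of_ne _ _ _ _ (Ne.symm h),
      one_mul, sub_zero]
  rw [h1]
  exact sub_mem_commSpan _ _

theorem single_diag_sub_mem (i i0 : n) (c : F) :
    Matrix.single i i c - Matrix.single i0 i0 c ∈ commSpan F (Matrix n n F) := by
  have h1 : Matrix.single i i c - Matrix.single i0 i0 c =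
      Matrix.single i i0 c * Matrix.single i0 i (1 : F)
        - Matrix.single i0 i (1 : F) * Matrix.single i i0 c := by
    rw [Matrix.single_mul_single_same, Matrix.single_mul_single_same, one_mul, mul_one]
  rw [h1]
  exact sub_mem_commSpan _ _

/-- A trace-zero matrix over a field is a sum of commutators. -/
theorem mem_commSpan_of_trace_eq_zero (M : Matrix n n F) (hM : M.trace = 0) :
    M ∈ commSpan F (Matrix n n F) := by
  classical
  rcases isEmpty_or_nonempty n with hn | hn
  · have : M = 0 := by
      ext a b
      exact (hn.false a).elim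
    rw [this]
    exact Submodule.zero_mem _
  · obtain ⟨i0⟩ := hn
    set X : n → n → Matrix n n F := fun i j =>
      if i = j then Matrix.single i i (M i i) - Matrix.single i0 i0 (M i i)
      else Matrix.single i j (M i j) with hX
    have hXmem : ∀ i j, X i j ∈ commSpan F (Matrix n n F) := by
      intro i j
      by_cases hij : i = j
      · simp only [hX, hij, if_true]
        exact single_diag_sub_mem _ _ _
      · simp only [hX, hij, if_false]
        exact single_offdiag_mem _ _ hij _
    have hrow : ∀ i, ∑ j, Matrix.single i j (M i j) =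
        ∑ j, X i j + Matrix.single i0 i0 (M i i) := by
      intro i
      have h2 : ∀ j, Matrix.single i j (M i j) =
          X i j + (if i = j then Matrix.single i0 i0 (M i i) else 0) := by
        intro j
        by_cases hij : i = j
        · subst hij
          simp [hX]
        · simp [hX, hij]
      rw [Finset.sum_congr rfl (fun j _ => h2 j), Finset.sum_add_distrib,
        Finset.sum_ite_eq Finset.univ i]
      simp
    have hsum : ∑ i, Matrix.single i0 i0 (M i i) = (0 : Matrix n n F) := by
      have h3 : ∑ i, Matrix.single i0 i0 (M i i) = Matrix.single i0 i0 (∑ i, M i i) := by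
        rw [← Matrix.singleAddMonoidHom_apply, map_sum]
        rfl
      rw [h3]
      have : ∑ i, M i i = 0 := hM
      rw [this, Matrix.single_zero]
    have hMeq : M = ∑ i, ∑ j, X i j := by
      conv_lhs => rw [Matrix.matrix_eq_sum_single M]
      rw [Finset.sum_congr rfl (fun i _ => hrow i), Finset.sum_add_distrib, hsum, add_zero]
    rw [hMeq]
    exact Submodule.sum_mem _ fun i _ => Submodule.sum_mem _ fun j _ => hXmem i j

end Mat

/-- The commutator span of the target is in the image of the commutator span under a
surjective algebra map. -/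
theorem commSpan_le_map {B' : Type*} [Ring B'] [Algebra F B'] (π : B →ₐ[F] B')
    (hπ : Function.Surjective π) :
    commSpan F B' ≤ (commSpan F B).map π.toLinearMap := by
  unfold commSpan
  rw [Submodule.span_le]
  rintro _ ⟨x', y', rfl⟩
  obtain ⟨x, rfl⟩ := hπ x'
  obtain ⟨y, rfl⟩ := hπ y'
  refine ⟨x * y - y * x, sub_mem_commSpan x y, ?_⟩
  simp

theorem pi_mem_commSpan {ι : Type*} [Fintype ι] [DecidableEq ι] {φ : ι → Type*}
    [∀ i, Ring (φ i)] [∀ i, Algebra F (φ i)] (y : Π i, φ i)
    (hy : ∀ i, y i ∈ commSpan F (φ i)) : y ∈ commSpan F (Π i, φ i) := by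
  have h1 : ∀ i, ∀ z ∈ commSpan F (φ i), (Pi.single i z : Π i, φ i) ∈ commSpan F (Π i, φ i) := by
    intro i z hz
    unfold commSpan at hz
    induction hz using Submodule.span_induction with
    | mem z hz =>
      obtain ⟨a, b, rfl⟩ := hz
      have : (Pi.single i (a * b - b * a) : Π i, φ i)
          = Pi.single i a * Pi.single i b - Pi.single i b * Pi.single i a := by
        rw [← Pi.single_mul, ← Pi.single_mul, ← Pi.single_sub]
      rw [this]
      exact sub_mem_commSpan _ _
    | zero =>
      rw [Pi.single_zero]
      exact Submodule.zero_mem _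
    | add a b _ _ ha hb =>
      rw [Pi.single_add]
      exact Submodule.add_mem _ ha hb
    | smul c a _ ha =>
      rw [Pi.single_smul]
      exact Submodule.smul_mem _ c ha
  rw [← Finset.univ_sum_single y]
  exact Submodule.sum_mem _ fun i _ => h1 i (y i) (hy i)

/-- LEAF A2. -/
theorem finrank_ker_sup_commSpan [FiniteDimensional F B] {l : ℕ} {d : Fin l → ℕ}
    (hd : ∀ i, d i ≠ 0)
    (π : B →ₐ[F] (Π i : Fin l, Matrix (Fin (d i)) (Fin (d i)) F)) (hπ : Function.Surjective π) :
    Module.finrank F ↥(LinearMap.ker π.toLinearMap ⊔ commSpan F B) + l = Module.finrank F B := by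
  classical
  -- the trace map
  let tr : (Π i : Fin l, Matrix (Fin (d i)) (Fin (d i)) F) →ₗ[F] (Fin l → F) :=
    LinearMap.pi fun i => (Matrix.traceLinearMap (Fin (d i)) F F).comp (LinearMap.proj i)
  have htr : ∀ y i, tr y i = (y i).trace := fun y i => rfl
  let T : B →ₗ[F] (Fin l → F) := tr.comp π.toLinearMap
  have hT : ∀ x i, T x i = (π x i).trace := fun x i => rfl
  -- surjectivity
  have hsurj : Function.Surjective T := by
    intro c
    let i0 : ∀ i, Fin (d i) := fun i => ⟨0, Nat.pos_of_ne_zero (hd i)⟩
    obtain ⟨x, hx⟩ := hπ (fun i => Matrix.single (i0 i) (i0 i) (c i))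
    refine ⟨x, ?_⟩
    ext i
    rw [hT, hx, Matrix.trace_single_eq_same]
  -- the kernel
  have hker : LinearMap.ker T = LinearMap.ker π.toLinearMap ⊔ commSpan F B := by
    apply le_antisymm
    · intro x hx
      rw [LinearMap.mem_ker] at hx
      have h1 : π x ∈ commSpan F (Π i : Fin l, Matrix (Fin (d i)) (Fin (d i)) F) := by
        apply pi_mem_commSpan
        intro i
        apply mem_commSpan_of_trace_eq_zero
        rw [← hT, hx]
        rfl
      obtain ⟨c, hc, hcx⟩ := commSpan_le_map π hπ h1
      rw [Submodule.mem_sup]
      refine ⟨x - c, ?_, c, hc, by abel⟩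
      rw [LinearMap.mem_ker, map_sub, hcx]
      exact sub_self _
    · rw [sup_le_iff]
      constructor
      · intro x hx
        rw [LinearMap.mem_ker] at hx ⊢
        show tr (π.toLinearMap x) = 0
        rw [hx, map_zero]
      · unfold commSpan
        rw [Submodule.span_le]
        rintro _ ⟨x, y, rfl⟩
        rw [SetLike.mem_coe, LinearMap.mem_ker]
        ext i
        rw [hT, map_sub, map_mul, map_mul, Pi.sub_apply, Pi.mul_apply, Pi.mul_apply,
          Matrix.trace_sub, Matrix.trace_mul_comm, sub_self]
        rfl
  rw [← hker]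
  have h2 := LinearMap.finrank_range_add_finrank_ker T
  rw [LinearMap.range_eq_top.mpr hsurj, finrank_top, Module.finrank_fin_fun] at h2
  omega

end Cfsg.Agent.Lib.Helper29.SymAlgA2
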