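import Mathlib

/-!
DOM-CNT (helper8's DEFECT-ONE CLUSTER, Part M): over an algebraically closed field `F` in which `|H|` is
invertible there are (at least) `k(H)` pairwise non-isomorphic irreducible matrix representations of `H`.
Maschke + Wedderburn: `F[H] ≃ Π_{i<n} Mat_{d i}(F)`; `k(H) ≤ n` because the class functions embed into the
centre of `F[H]`, whose image in `Π Mat` consists of tuples of scalar matrices.
-/

set_option autoImplicit false

namespace Cfsg.Agent.Lib.Helper29.DOMCNT

universe u v w

section basics

variable {F : Type u} [Field F]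

/-- The column module is simple for the full matrix ring: a non-zero vector can be moved anywhere. -/
theorem exists_mulVec_eq {d : ℕ} (x y : Fin d → F) (hx : x ≠ 0) :
    ∃ M : Matrix (Fin d) (Fin d) F, M.mulVec x = y := by
  classical
  obtain ⟨j, hj⟩ : ∃ j, x j ≠ 0 := by
    by_contra h
    push Not at h
    exact hx (funext h)
  refine ⟨Matrix.of fun i k => if k = j then y i * (x j)⁻¹ else 0, ?_⟩
  ext i
  simp [Matrix.mulVec, dotProduct, hj]

/-- A representation whose group algebra moves any non-zero vector anywhere is irreducible. -/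
theorem isIrreducible_of_transitive {G : Type v} [Group G] {V : Type w} [AddCommGroup V] [Module F V]
    [Nontrivial V] (ρ : Representation F G V)
    (h : ∀ x y : V, x ≠ 0 → ∃ a : MonoidAlgebra F G, ρ.asAlgebraHom a x = y) :
    ρ.IsIrreducible := by
  rw [Representation.irreducible_iff_isSimpleModule_asModule]
  rw [isSimpleModule_iff_toSpanSingleton_surjective]
  refine ⟨(inferInstance : Nontrivial V), fun x hx y => ?_⟩
  obtain ⟨a, ha⟩ := h x y hx
  exact ⟨a, ha⟩

end basics

section classes

variable {F : Type u} [Field F]

/-- an element of a group algebra whose coefficient function is a class function is central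
(same proof as `Helper18.BlkAlgB3.mul_comm_of_coeff_conj`, repeated to keep this file on Mathlib only) -/
theorem mul_comm_of_coeff_conj' {H : Type v} [Group H] [Fintype H] (e x : MonoidAlgebra F H)
    (he : ∀ g h : H, e.coeff (h * g * h⁻¹) = e.coeff g) : e * x = x * e := by
  classical
  apply MonoidAlgebra.ext
  apply Finsupp.ext
  intro y
  rw [MonoidAlgebra.coeff_mul_apply_left, MonoidAlgebra.coeff_mul_apply_right,
    Finsupp.sum_fintype _ _ (fun i => zero_mul _), Finsupp.sum_fintype _ _ (fun i => mul_zero _)]
  refine Fintype.sum_equiv (MulAut.conj y⁻¹).toEquiv _ _ fun g => ?_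
  have h1 : (MulAut.conj y⁻¹).toEquiv g = y⁻¹ * g * y := by simp
  rw [h1]
  have h2 : e.coeff (y⁻¹ * g * y) = e.coeff g := by
    have := he g y⁻¹
    rwa [inv_inv] at this
  have h3 : y * (y⁻¹ * g * y)⁻¹ = g⁻¹ * y := by group
  rw [h2, h3, mul_comm]

/-- the element of the group algebra attached to a class function -/
noncomputable def classElt {H : Type v} [Group H] [Fintype H] :
    (ConjClasses H → F) →ₗ[F] MonoidAlgebra F H where
  toFun c := MonoidAlgebra.ofCoeff (Finsupp.equivFunOnFinite.symm fun g => c (ConjClasses.mk g))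
  map_add' c c' := by
    apply MonoidAlgebra.ext
    apply Finsupp.ext
    intro g
    simp
  map_smul' r c := by
    apply MonoidAlgebra.ext
    apply Finsupp.ext
    intro g
    simp

theorem coeff_classElt {H : Type v} [Group H] [Fintype H] (c : ConjClasses H → F) (g : H) :
    (classElt c).coeff g = c (ConjClasses.mk g) := by
  simp [classElt]

theorem classElt_comm {H : Type v} [Group H] [Fintype H] (c : ConjClasses H → F)
    (x : MonoidAlgebra F H) : classElt c * x = x * classElt c := by
  apply mul_comm_of_coeff_conj'
  intro g h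
  rw [coeff_classElt, coeff_classElt]
  congr 1
  exact ConjClasses.mk_eq_mk_iff_isConj.mpr (isConj_iff.mpr ⟨h⁻¹, by group⟩)

theorem classElt_injective {H : Type v} [Group H] [Fintype H] :
    Function.Injective (classElt (F := F) (H := H)) := by
  intro c c' h
  funext k
  obtain ⟨g, rfl⟩ := ConjClasses.mk_surjective k
  rw [← coeff_classElt c g, ← coeff_classElt c' g, h]

/-- the number of classes is at most the number of matrix factors -/
theorem card_conjClasses_le {H : Type v} [Group H] [Finite H] {n : ℕ} {d : Fin n → ℕ}
    [hd : ∀ i, NeZero (d i)]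
    (E : MonoidAlgebra F H ≃ₐ[F] (Π i : Fin n, Matrix (Fin (d i)) (Fin (d i)) F)) :
    Nat.card (ConjClasses H) ≤ n := by
  classical
  have : Fintype H := Fintype.ofFinite H
  have : Fintype (ConjClasses H) := Fintype.ofFinite _
  let Φ : (ConjClasses H → F) →ₗ[F] (Fin n → F) :=
    { toFun := fun c i => E (classElt c) i 0 0
      map_add' := fun c c' => by
        funext i
        simp
      map_smul' := fun r c => by
        funext i
        simp }
  have hΦ : Function.Injective Φ := by
    rw [injective_iff_map_eq_zero]
    intro c hc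
    apply classElt_injective (F := F)
    rw [map_zero]
    apply E.injective
    rw [map_zero]
    funext i
    have hcomm : ∀ M : Matrix (Fin (d i)) (Fin (d i)) F,
        Commute M (E (classElt c) i) := by
      intro M
      have h1 : classElt c * E.symm (Pi.single i M) = E.symm (Pi.single i M) * classElt c :=
        classElt_comm c _
      have h2 := congrArg (fun z => E z i) h1
      simp only [map_mul, AlgEquiv.apply_symm_apply, Pi.mul_apply, Pi.single_eq_same] at h2
      exact h2.symm
    obtain ⟨r, hr⟩ := Matrix.mem_range_scalar_iff_commute_single'.mpr fun j k => hcomm _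
    have h0 : Φ c i = 0 := by rw [hc]; rfl
    have h00 : E (classElt c) i 0 0 = 0 := h0
    rw [← hr] at h00
    simp at h00
    rw [Pi.zero_apply, ← hr, h00, map_zero]
  have := LinearMap.finrank_le_finrank_of_injective hΦ
  rwa [Module.finrank_fintype_fun_eq_card, Module.finrank_fin_fun, ← Nat.card_eq_fintype_card] at this

end classes

section main

variable {F : Type u} [Field F]

/-- the `i`-th component representation of an algebra map `F[H] → Π Mat` -/
noncomputable def compRep {H : Type v} [Group H] {n : ℕ} {d : Fin n → ℕ}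
    (E : MonoidAlgebra F H →ₐ[F] (Π i : Fin n, Matrix (Fin (d i)) (Fin (d i)) F)) (i : Fin n) :
    Representation F H (Fin (d i) → F) where
  toFun h := Matrix.mulVecLin (E (MonoidAlgebra.of F H h) i)
  map_one' := by
    rw [map_one, map_one, Pi.one_apply, Matrix.mulVecLin_one]
    rfl
  map_mul' a b := by
    rw [map_mul, map_mul, Pi.mul_apply, Matrix.mulVecLin_mul]
    rfl

theorem compRep_apply {H : Type v} [Group H] {n : ℕ} {d : Fin n → ℕ}
    (E : MonoidAlgebra F H →ₐ[F] (Π i : Fin n, Matrix (Fin (d i)) (Fin (d i)) F)) (i : Fin n)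
    (h : H) (x : Fin (d i) → F) :
    compRep E i h x = (E (MonoidAlgebra.of F H h) i).mulVec x := rfl

theorem compRep_asAlgebraHom {H : Type v} [Group H] {n : ℕ} {d : Fin n → ℕ}
    (E : MonoidAlgebra F H →ₐ[F] (Π i : Fin n, Matrix (Fin (d i)) (Fin (d i)) F)) (i : Fin n)
    (a : MonoidAlgebra F H) (x : Fin (d i) → F) :
    (compRep E i).asAlgebraHom a x = (E a i).mulVec x := by
  induction a using MonoidAlgebra.induction_on with
  | of h => rw [Representation.asAlgebraHom_of, compRep_apply]
  | add a b ha hb => rw [map_add, map_add, LinearMap.add_apply, ha, hb, Pi.add_apply, Matrix.add_mulVec]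
  | smul r a ha => rw [map_smul, map_smul, LinearMap.smul_apply, ha, Pi.smul_apply, Matrix.smul_mulVec]

end main

section counting

variable {F : Type u} [Field F] [IsAlgClosed F]

/-- CNT -/
theorem exists_irr_family (H : Type v) [Group H] [Finite H] (hH : (Nat.card H : F) ≠ 0) :
    ∃ (d : Fin (Nat.card (ConjClasses H)) → ℕ) (τ : ∀ a, Representation F H (Fin (d a) → F)),
      (∀ a, (τ a).IsIrreducible) ∧
      ∀ a b, a ≠ b → ¬ ∃ e : (Fin (d a) → F) ≃ₗ[F] (Fin (d b) → F),
        ∀ h x, e (τ a h x) = τ b h (e x) := by
  classical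
  have : NeZero (Nat.card H : F) := ⟨hH⟩
  obtain ⟨n, d, hd, ⟨E⟩⟩ :=
    IsSemisimpleRing.exists_algEquiv_pi_matrix_of_isAlgClosed F (MonoidAlgebra F H)
  have hle : Nat.card (ConjClasses H) ≤ n := card_conjClasses_le E
  refine ⟨fun a => d (Fin.castLE hle a), fun a => compRep E.toAlgHom (Fin.castLE hle a), ?_, ?_⟩
  · intro a
    have := hd (Fin.castLE hle a)
    apply isIrreducible_of_transitive
    intro x y hx
    obtain ⟨M, hM⟩ := exists_mulVec_eq x y hx
    refine ⟨E.symm (Pi.single _ M), ?_⟩
    rw [compRep_asAlgebraHom]
    simpa using hM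
  · rintro a b hab ⟨e, he⟩
    have hab' : Fin.castLE hle a ≠ Fin.castLE hle b := fun h => hab (Fin.castLE_injective hle h)
    have := hd (Fin.castLE hle a)
    have he' : ∀ (z : MonoidAlgebra F H) (x : Fin (d (Fin.castLE hle a)) → F),
        e ((E z (Fin.castLE hle a)).mulVec x) = (E z (Fin.castLE hle b)).mulVec (e x) := by
      intro z x
      induction z using MonoidAlgebra.induction_on with
      | of h => exact he h x
      | add z z' hz hz' =>
        rw [map_add, Pi.add_apply, Pi.add_apply, Matrix.add_mulVec, Matrix.add_mulVec, map_add, hz, hz']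
      | smul r z hz =>
        rw [map_smul, Pi.smul_apply, Pi.smul_apply, Matrix.smul_mulVec, Matrix.smul_mulVec,
          map_smul, hz]
    obtain ⟨x, hx⟩ := exists_ne (0 : Fin (d (Fin.castLE hle a)) → F)
    have h1 := he' (E.symm (Pi.single (Fin.castLE hle a) 1)) x
    rw [AlgEquiv.apply_symm_apply, Pi.single_eq_same, Pi.single_eq_of_ne hab'.symm,
      Matrix.one_mulVec, Matrix.zero_mulVec] at h1
    exact hx (e.map_eq_zero_iff.mp h1)

end counting

end Cfsg.Agent.Lib.Helper29.DOMCNT
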