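import Mathlib
import Cfsg.Prelude.Def_BlockRank
import Cfsg.Agent.Lib.Helper27.DODefs
import Cfsg.Agent.Lib.Lead.SecondMain
import Cfsg.Agent.Lib.Helper29.DOTI

/-! helper29: DEFECT-ONE Part O leaf SECTION `exists_section` (helper27's market). -/

set_option autoImplicit false
set_option linter.unusedSectionVars false

namespace Cfsg.Agent.Lib.Helper29.DOSECTION

open Cfsg Cfsg.Agent.Lib.Helper8.DOM Cfsg.Agent.Lib.Helper27.DO Cfsg.Agent.Lib.Helper29.DOTI
open scoped ComplexConjugate Pointwise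

universe u

section grp

variable {G : Type u} [Group G] [Finite G] {p : ℕ} [Fact p.Prime]

/-- SECTION : every `p`-singular element is conjugate to `x * y`, `1 ≠ x ∈ P`, `y ∈ C` `p`-regular. -/
theorem exists_section (P : Subgroup G) (hP : Nat.card P = p) (hSyl : ¬ p ∣ P.index) (g : G)
    (hg : p ∣ orderOf g) :
    ∃ t x y : G, x ∈ P ∧ x ≠ 1 ∧ y ∈ Cz P ∧ ¬ p ∣ orderOf y ∧ t * g * t⁻¹ = x * y := by
  obtain ⟨c, s, gp, -, ⟨gq, hmul, hcomm, ⟨k, hk⟩, hreg⟩, -⟩ :=
    Cfsg.Agent.CharLib.exists_ppart_data p g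
  have hgp1 : gp ≠ 1 := by
    rintro rfl
    rw [one_mul] at hmul
    rw [hmul] at hreg
    exact hreg hg
  have hPp := isPGroup_of_card P hP
  have hZ : IsPGroup p (Subgroup.zpowers gp) := IsPGroup.of_card (n := k) (by rw [Nat.card_zpowers, hk])
  obtain ⟨Q, hQ⟩ := hZ.exists_le_sylow
  obtain ⟨t, ht⟩ := MulAction.exists_smul_eq G Q (hPp.toSylow hSyl)
  have hxP : t * gp * t⁻¹ ∈ P := by
    have h1 : MulAut.conj t • gp ∈ MulAut.conj t • (Q : Subgroup G) :=
      Subgroup.smul_mem_pointwise_smul _ _ _ (hQ (Subgroup.mem_zpowers gp))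
    rw [← Sylow.coe_subgroup_smul, ht, IsPGroup.toSylow_coe, MulAut.smul_def, MulAut.conj_apply] at h1
    exact h1
  have hx1 : t * gp * t⁻¹ ≠ 1 := fun h => hgp1 (conj_eq_one_iff.mp h)
  refine ⟨t, t * gp * t⁻¹, t * gq * t⁻¹, hxP, hx1, ?_, ?_, ?_⟩
  · rw [Subgroup.mem_centralizer_iff]
    intro w hw
    obtain ⟨j, rfl⟩ := exists_pow_eq_of_mem P hP hxP hx1 hw
    have h1 : Commute (t * gp * t⁻¹) (t * gq * t⁻¹) := by
      unfold Commute SemiconjBy
      rw [conj_mul, conj_mul, hcomm.eq]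
    exact (h1.zpow_left j).eq
  · have h1 : orderOf (t * gq * t⁻¹) = orderOf gq := by
      have := (MulAut.conj t).orderOf_eq gq
      rwa [MulAut.conj_apply] at this
    rw [h1]
    exact hreg
  · rw [← hmul]
    group

end grp

end Cfsg.Agent.Lib.Helper29.DOSECTION
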