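import Mathlib
import Cfsg.Agent.Lib.Lead.KleinSqrt2
import Cfsg.Agent.Lib.Helper13.AltForm
import Cfsg.Agent.Lib.Helper23.DefectZeroIrr
import Cfsg.Agent.Lib.Helper6.Ramification2

/-!
# S4872 leaf (CNT) (helper29): `∑_χ [χ_N, φ] [χ_S, 1_S] = φ(1) / |N|_2` for `φ` of `2`-defect zero,
`G/N` a `2`-group, `|S| = |G|_2`.
-/

set_option autoImplicit false

namespace Cfsg.Agent.Lib.Helper29.DZReal

open Cfsg Cfsg.Agent.CharLib Cfsg.Agent.Lib.Helper6 Cfsg.Agent.Lib.Helper24
open scoped ComplexConjugate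

universe u

variable {G : Type u} [Group G] [Fintype G]

/-- The function induced from a character of `2`-defect zero vanishes on elements of even order. -/
theorem indFun_eq_zero_of_even_order (N : Subgroup G) [Fintype N] (φ : IrrCharacter N)
    (hdef : 2 ^ (Nat.card N).factorization 2 ∣ charDegree (φ : N → ℂ)) (g : G)
    (hg : 2 ∣ orderOf g) : indFun N (φ : N → ℂ) g = 0 := by
  rw [Cfsg.Agent.Lib.Helper6.indFun_apply, Finset.sum_eq_zero, mul_zero]
  intro x _
  by_cases hx : x⁻¹ * g * x ∈ N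
  · have h1 : extendByZero N (φ : N → ℂ) (x⁻¹ * g * x) = (φ : N → ℂ) ⟨x⁻¹ * g * x, hx⟩ :=
      extendByZero_apply_coe N (φ : N → ℂ) ⟨x⁻¹ * g * x, hx⟩
    rw [h1]
    apply Cfsg.Agent.Lib.Helper23.irr_eq_zero_of_defect_zero φ 2 Nat.prime_two hdef
    have h2 : orderOf (⟨x⁻¹ * g * x, hx⟩ : N) = orderOf g := by
      rw [← Subgroup.orderOf_coe]
      have h3 : x⁻¹ * g * x = MulAut.conj x⁻¹ g := by simp
      show orderOf (x⁻¹ * g * x) = orderOf g
      rw [h3, MulEquiv.orderOf_eq]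
    rw [h2]; exact hg
  · exact extendByZero_apply_of_not_mem N _ hx

theorem indFun_apply_one' (N : Subgroup G) (θ : N → ℂ) :
    indFun N θ 1 = (Nat.card N : ℂ)⁻¹ * ((Nat.card G : ℂ) * θ 1) := by
  rw [Cfsg.Agent.Lib.Helper6.indFun_apply]
  congr 1
  have h0 : ∀ x : G, extendByZero N θ (x⁻¹ * 1 * x) = θ 1 := by
    intro x
    have h1 : x⁻¹ * 1 * x = ((1 : N) : G) := by simp
    rw [h1, extendByZero_apply_coe]
  rw [Finset.sum_congr rfl (fun x _ => h0 x), Finset.sum_const, Finset.card_univ, nsmul_eq_mul,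
    Nat.card_eq_fintype_card]

/-- (CNT) `N` normal with `G/N` a `2`-group, `φ ∈ Irr(N)` of `2`-defect zero, `S` a subgroup of
order `|G|_2` (a Sylow `2`-subgroup): `∑_χ [χ_N, φ] [χ_S, 1_S] = φ(1) / |N|_2`. -/
theorem sum_mult_mul_fixed (N : Subgroup G) [N.Normal] [Fintype N] (h2 : IsPGroup 2 (G ⧸ N))
    (φ : IrrCharacter N)
    (hdef : 2 ^ (Nat.card N).factorization 2 ∣ charDegree (φ : N → ℂ))
    (S : Subgroup G) [Fintype S] (hS : Nat.card S = 2 ^ (Nat.card G).factorization 2)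
    [Fintype (IrrCharacter G)] :
    ∑ χ : IrrCharacter G, classInner (resFun N (χ : G → ℂ)) (φ : N → ℂ) *
        classInner (resFun S (χ : G → ℂ)) (1 : S → ℂ) =
      ((charDegree (φ : N → ℂ) / 2 ^ (Nat.card N).factorization 2 : ℕ) : ℂ) := by
  classical
  have : Fact (Nat.Prime 2) := ⟨Nat.prime_two⟩
  set Θ : G → ℂ := indFun N (φ : N → ℂ) with hΘ
  have hΘcf : IsClassFunction G Θ := indFun_isClassFunction N _
  have hcoef : ∀ χ : IrrCharacter G, classInner Θ (χ : G → ℂ) =
      classInner (resFun N (χ : G → ℂ)) (φ : N → ℂ) := by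
    intro χ
    have hχ := IsIrrCharacter.isCharacter χ.2
    rw [hΘ, frobenius_reciprocity N _ (IsCharacter.isClassFunction hχ)]
    obtain ⟨n, hn⟩ := IsCharacter.classInner_nat (isCharacter_resFun N hχ)
      (IsIrrCharacter.isCharacter φ.2)
    have h3 : classInner (φ : N → ℂ) (resFun N (χ : G → ℂ)) =
        conj (classInner (resFun N (χ : G → ℂ)) (φ : N → ℂ)) :=
      (classInner_conj_symm _ _).symm
    show classInner (φ : N → ℂ) (resFun N (χ : G → ℂ)) = _
    rw [h3, hn, Complex.conj_natCast]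
  have hexp : Θ = ∑ χ : IrrCharacter G, classInner Θ (χ : G → ℂ) • (χ : G → ℂ) :=
    classFunction_eq_sum hΘcf
  have hsum : classInner (resFun S Θ) (1 : S → ℂ) =
      ∑ χ : IrrCharacter G, classInner (resFun N (χ : G → ℂ)) (φ : N → ℂ) *
        classInner (resFun S (χ : G → ℂ)) (1 : S → ℂ) := by
    conv_lhs => rw [hexp]
    rw [map_sum, classInner_sum_left]
    apply Finset.sum_congr rfl
    intro χ _
    rw [map_smul, classInner_smul_left, hcoef]
  rw [← hsum]
  have hzero : ∀ s : S, s ≠ 1 → Θ s = 0 := by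
    intro s hs
    apply indFun_eq_zero_of_even_order N φ hdef
    have h4 : orderOf (s : G) ∣ 2 ^ (Nat.card G).factorization 2 := by
      rw [← hS, Subgroup.orderOf_coe]; exact orderOf_dvd_natCard s
    obtain ⟨j, _, hjeq⟩ := (Nat.dvd_prime_pow Nat.prime_two).mp h4
    rw [hjeq]
    have hj0 : j ≠ 0 := by
      rintro rfl
      rw [pow_zero, orderOf_eq_one_iff] at hjeq
      exact hs (Subtype.ext hjeq)
    exact dvd_pow_self 2 hj0
  have h5 : classInner (resFun S Θ) (1 : S → ℂ) = (Nat.card S : ℂ)⁻¹ * Θ 1 := by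
    unfold classInner
    congr 1
    rw [Finset.sum_eq_single (1 : S)]
    · simp [resFun_apply]
    · intro s _ hs
      rw [resFun_apply, hzero s hs, zero_mul]
    · intro h; exact absurd (Finset.mem_univ _) h
  rw [h5, hΘ, indFun_apply_one', irr_apply_one φ]
  obtain ⟨j, hj⟩ := h2.exists_card_eq
  have hidx : N.index = 2 ^ j := by rw [Subgroup.index_eq_card]; exact hj
  have hG : Nat.card G = Nat.card N * 2 ^ j := by rw [← hidx, Subgroup.card_mul_index]
  have hfac : (Nat.card G).factorization 2 = (Nat.card N).factorization 2 + j := by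
    rw [hG, Nat.factorization_mul Nat.card_pos.ne' (by positivity)]
    simp [Nat.Prime.factorization_pow Nat.prime_two]
  obtain ⟨d', hd'⟩ := hdef
  rw [hS, hfac, hG, hd', Nat.mul_div_cancel_left _ (by positivity)]
  push_cast
  have hN0 : (Nat.card N : ℂ) ≠ 0 := Nat.cast_ne_zero.mpr Nat.card_pos.ne'
  field_simp
  ring

end Cfsg.Agent.Lib.Helper29.DZReal
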