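import Mathlib
import Cfsg.Prelude.Def_GeometricClasses
import Cfsg.Agent.Lib.Helper11.MonoDefs

/-!
# S5634, case m = 1 (helper11's market), leaf MG1 (helper29)

The blocks (on `ι \ r`) of the elements of `M` fixing the line `<e_r>` form a subgroup.
-/

set_option autoImplicit false
set_option linter.unusedSectionVars false

namespace Cfsg.Agent.Lib.Helper29.MonoLeaf
open Matrix Cfsg.Agent.Lib.Helper11.Mono

variable {F : Type*} [Field F] {ι : Type} [Fintype ι] [DecidableEq ι]

/-- column `r` of a product when column `r` of the right factor is a multiple of `e_r` -/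
theorem mul_apply_col {g h : Matrix ι ι F} {r : ι} (hh : ColAt h r r) (k : ι) :
    (g * h) k r = g k r * h r r := by
  rw [Matrix.mul_apply]
  apply Finset.sum_eq_single r
  · intro l _ hl
    rw [hh l hl, mul_zero]
  · intro hr
    exact absurd (Finset.mem_univ r) hr

theorem colAt_mul {g h : Matrix ι ι F} {r : ι} (hg : ColAt g r r) (hh : ColAt h r r) :
    ColAt (g * h) r r := by
  intro k hk
  rw [mul_apply_col hh, hg k hk, zero_mul]

/-- the block of a product when column `r` of the left factor is a multiple of `e_r` -/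
theorem block_mul {g h : Matrix ι ι F} {r : ι} (hg : ColAt g r r) :
    (g * h).submatrix (Subtype.val : {k : ι // k ≠ r} → ι) (Subtype.val : {k : ι // k ≠ r} → ι) =
      g.submatrix (Subtype.val : {k : ι // k ≠ r} → ι) (Subtype.val : {k : ι // k ≠ r} → ι) *
        h.submatrix (Subtype.val : {k : ι // k ≠ r} → ι) (Subtype.val : {k : ι // k ≠ r} → ι) := by
  ext k j
  rw [Matrix.submatrix_apply, Matrix.mul_apply, Matrix.mul_apply,
    ← Fintype.sum_subtype_add_sum_subtype (fun x : ι => x ≠ r) (fun l => g k.val l * h l j.val)]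
  have h0 : ∑ l : {x : ι // ¬ x ≠ r}, g k.val l.val * h l.val j.val = 0 := by
    apply Finset.sum_eq_zero
    intro l _
    have hl : l.val = r := not_not.mp l.2
    rw [hl, hg k.val k.2, zero_mul]
  rw [h0, add_zero]
  rfl

theorem colAt_inv {g : GL ι F} {r : ι} (hg : ColAt (g : Matrix ι ι F) r r) :
    ColAt ((g⁻¹ : GL ι F) : Matrix ι ι F) r r := by
  have h1 : ((g⁻¹ : GL ι F) : Matrix ι ι F) * (g : Matrix ι ι F) = 1 := by
    rw [← Units.val_mul, inv_mul_cancel, Units.val_one]
  have hrr : (g : Matrix ι ι F) r r ≠ 0 := by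
    intro h0
    have := congrFun (congrFun h1 r) r
    rw [mul_apply_col hg, h0, mul_zero, Matrix.one_apply_eq] at this
    exact zero_ne_one this
  intro k hk
  have := congrFun (congrFun h1 k) r
  rw [mul_apply_col hg, Matrix.one_apply_ne hk] at this
  exact (mul_eq_zero.mp this).resolve_right hrr

/-- MG1: the top-left block of the stabiliser of the line `<e_r>` is a subgroup of
`GL (ι \ r)`. -/
theorem exists_proj_subgroup (M : Subgroup (GL ι F)) (r : ι) :
    ∃ G : Subgroup (GL {k : ι // k ≠ r} F), ∀ A : GL {k : ι // k ≠ r} F, A ∈ G ↔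
      ∃ g : GL ι F, g ∈ M ∧ ColAt (g : Matrix ι ι F) r r ∧
        (g : Matrix ι ι F).submatrix Subtype.val Subtype.val =
          (A : Matrix {k : ι // k ≠ r} {k : ι // k ≠ r} F) := by
  refine ⟨{ carrier := {A | ∃ g : GL ι F, g ∈ M ∧ ColAt (g : Matrix ι ι F) r r ∧
        (g : Matrix ι ι F).submatrix Subtype.val Subtype.val =
          (A : Matrix {k : ι // k ≠ r} {k : ι // k ≠ r} F)}
            mul_mem' := ?_
            one_mem' := ?_
            inv_mem' := ?_ }, fun A => Iff.rfl⟩
  · rintro A B ⟨g, hgM, hgc, hgA⟩ ⟨h, hhM, hhc, hhB⟩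
    refine ⟨g * h, M.mul_mem hgM hhM, ?_, ?_⟩
    · rw [Units.val_mul]
      exact colAt_mul hgc hhc
    · rw [Units.val_mul, block_mul hgc, hgA, hhB, Units.val_mul]
  · refine ⟨1, M.one_mem, ?_, ?_⟩
    · intro k hk
      rw [Units.val_one, Matrix.one_apply_ne hk]
    · ext k j
      rw [Units.val_one, Units.val_one, Matrix.submatrix_apply, Matrix.one_apply, Matrix.one_apply]
      simp only [Subtype.val_inj]
  · rintro A ⟨g, hgM, hgc, hgA⟩
    refine ⟨g⁻¹, M.inv_mem hgM, colAt_inv hgc, ?_⟩
    have h1 : (g : Matrix ι ι F) * ((g⁻¹ : GL ι F) : Matrix ι ι F) = 1 := by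
      rw [← Units.val_mul, mul_inv_cancel, Units.val_one]
    have h2 := block_mul (h := ((g⁻¹ : GL ι F) : Matrix ι ι F)) hgc
    rw [h1, hgA] at h2
    have h3 : (1 : Matrix ι ι F).submatrix (Subtype.val : {k : ι // k ≠ r} → ι)
        (Subtype.val : {k : ι // k ≠ r} → ι) = 1 := by
      ext k j
      rw [Matrix.submatrix_apply, Matrix.one_apply, Matrix.one_apply]
      simp only [Subtype.val_inj]
    rw [h3] at h2
    exact (Units.inv_eq_of_mul_eq_one_right h2.symm).symm

theorem block_one (r : ι) :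
    (1 : Matrix ι ι F).submatrix (Subtype.val : {k : ι // k ≠ r} → ι)
      (Subtype.val : {k : ι // k ≠ r} → ι) = 1 := by
  ext k j
  rw [Matrix.submatrix_apply, Matrix.one_apply, Matrix.one_apply]
  simp only [Subtype.val_inj]

/-- addition to MG1 (requested by helper11): the block of an element fixing `<e_r>` is invertible -/
theorem exists_block_gl (g : GL ι F) (r : ι) (hcol : ColAt (g : Matrix ι ι F) r r) :
    ∃ A : GL {k : ι // k ≠ r} F, (A : Matrix {k : ι // k ≠ r} {k : ι // k ≠ r} F) =
      (g : Matrix ι ι F).submatrix Subtype.val Subtype.val := by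
  have h1 : (g : Matrix ι ι F) * ((g⁻¹ : GL ι F) : Matrix ι ι F) = 1 := by
    rw [← Units.val_mul, mul_inv_cancel, Units.val_one]
  have h2 : ((g⁻¹ : GL ι F) : Matrix ι ι F) * (g : Matrix ι ι F) = 1 := by
    rw [← Units.val_mul, inv_mul_cancel, Units.val_one]
  have e1 := block_mul (h := ((g⁻¹ : GL ι F) : Matrix ι ι F)) hcol
  have e2 := block_mul (h := (g : Matrix ι ι F)) (colAt_inv hcol)
  rw [h1, block_one] at e1
  rw [h2, block_one] at e2
  exact ⟨⟨_, _, e1.symm, e2.symm⟩, rfl⟩

end Cfsg.Agent.Lib.Helper29.MonoLeaf
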