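import Mathlib
import Cfsg.Prelude.Def_GeometricClasses
import Cfsg.Agent.Lib.Helper11.MonoDefs

/-!
# S5634, case m = 1 (helper11's market), leaf MG2 (helper29)

Every monomial matrix on `ι \ r` is the block of a monomial matrix of determinant one on `ι`.
-/

set_option autoImplicit false

namespace Cfsg.Agent.Lib.Helper29.MonoLeaf
open Matrix Cfsg.Agent.Lib.Helper11.Mono

variable {F : Type*} [Field F] {ι : Type} [Fintype ι] [DecidableEq ι]

/-- the block-diagonal extension `diag(A, δ)` of a matrix on `ι \ r`, with its basic properties -/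
theorem exists_block_ext (r : ι) (A : Matrix {k : ι // k ≠ r} {k : ι // k ≠ r} F) (δ : F) :
    ∃ G : Matrix ι ι F, G.det = A.det * δ ∧ G r r = δ ∧
      (∀ k, k ≠ r → G k r = 0) ∧ (∀ j, j ≠ r → G r j = 0) ∧
      (∀ k j (hk : k ≠ r) (hj : j ≠ r), G k j = A ⟨k, hk⟩ ⟨j, hj⟩) := by
  classical
  have : Unique {k : ι // ¬ k ≠ r} :=
    ⟨⟨⟨r, by simp⟩⟩, fun x => Subtype.ext (not_not.mp x.2)⟩
  refine ⟨Matrix.reindex (Equiv.sumCompl (fun k : ι => k ≠ r)) (Equiv.sumCompl (fun k : ι => k ≠ r))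
    (Matrix.fromBlocks A 0 0 (Matrix.of fun _ _ => δ)), ?_, ?_, ?_, ?_, ?_⟩
  · rw [Matrix.det_reindex_self, Matrix.det_fromBlocks_zero₂₁]
    congr 1
    exact Matrix.det_unique _
  · have hr : ¬ (r ≠ r) := by simp
    rw [Matrix.reindex_apply, Matrix.submatrix_apply, Equiv.sumCompl_symm_apply_of_neg (p := fun k : ι => k ≠ r) hr,
      Matrix.fromBlocks_apply₂₂]
    rfl
  · intro k hk
    have hr : ¬ (r ≠ r) := by simp
    rw [Matrix.reindex_apply, Matrix.submatrix_apply, Equiv.sumCompl_symm_apply_of_neg (p := fun k : ι => k ≠ r) hr,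
      Equiv.sumCompl_symm_apply_of_pos (p := fun k : ι => k ≠ r) hk, Matrix.fromBlocks_apply₁₂]
    rfl
  · intro j hj
    have hr : ¬ (r ≠ r) := by simp
    rw [Matrix.reindex_apply, Matrix.submatrix_apply, Equiv.sumCompl_symm_apply_of_neg (p := fun k : ι => k ≠ r) hr,
      Equiv.sumCompl_symm_apply_of_pos (p := fun k : ι => k ≠ r) hj, Matrix.fromBlocks_apply₂₁]
    rfl
  · intro k j hk hj
    rw [Matrix.reindex_apply, Matrix.submatrix_apply, Equiv.sumCompl_symm_apply_of_pos (p := fun k : ι => k ≠ r) hk,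
      Equiv.sumCompl_symm_apply_of_pos (p := fun k : ι => k ≠ r) hj, Matrix.fromBlocks_apply₁₁]

/-- MG2: every monomial matrix on `ι \ r` is the block of a monomial matrix of determinant one
on `ι` (put `det⁻¹` at `(r,r)`). -/
theorem exists_lift_mono (r : ι) (A : GL {k : ι // k ≠ r} F)
    (hA : IsMono (A : Matrix {k : ι // k ≠ r} {k : ι // k ≠ r} F)) :
    ∃ g : GL ι F, IsMono (g : Matrix ι ι F) ∧ g ∈ Cfsg.Geo.specialLinear ι F ∧
      ColAt (g : Matrix ι ι F) r r ∧
      (g : Matrix ι ι F).submatrix Subtype.val Subtype.val =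
        (A : Matrix {k : ι // k ≠ r} {k : ι // k ≠ r} F) := by
  have hdetA : (A : Matrix {k : ι // k ≠ r} {k : ι // k ≠ r} F).det ≠ 0 := by
    have := (Matrix.isUnit_iff_isUnit_det _).mp A.isUnit
    exact this.ne_zero
  obtain ⟨G, hdet, hrr, hcol, hrow, hblk⟩ := exists_block_ext r
    (A : Matrix {k : ι // k ≠ r} {k : ι // k ≠ r} F)
    ((A : Matrix {k : ι // k ≠ r} {k : ι // k ≠ r} F).det)⁻¹
  rw [mul_inv_cancel₀ hdetA] at hdet
  refine ⟨Matrix.GeneralLinearGroup.mkOfDetNeZero G (by rw [hdet]; exact one_ne_zero), ?_, ?_, ?_, ?_⟩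
  · show IsMono G
    intro j
    by_cases hj : j = r
    · subst hj
      exact ⟨j, fun k hk => hcol k hk⟩
    · obtain ⟨i', hi'⟩ := hA ⟨j, hj⟩
      refine ⟨i'.val, fun k hk => ?_⟩
      by_cases hkr : k = r
      · subst hkr
        exact hrow j hj
      · rw [hblk k j hkr hj]
        apply hi'
        intro h
        apply hk
        rw [← h]
  · rw [mem_specialLinear_iff]
    exact hdet
  · show ColAt G r r
    exact fun k hk => hcol k hk
  · show G.submatrix Subtype.val Subtype.val = (A : Matrix {k : ι // k ≠ r} {k : ι // k ≠ r} F)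
    ext k j
    rw [Matrix.submatrix_apply, hblk k.val j.val k.2 j.2]

end Cfsg.Agent.Lib.Helper29.MonoLeaf
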