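import Mathlib
import Cfsg.Prelude.Def_GeometricClasses
import Cfsg.Agent.Lib.Helper11.MonoDefs

/-!
# S5634, case m = 1 (helper11's market), leaf MWb2 (helper29)

The twisted 3-cycle of a vector `u` with `u_a, u_b, u_c ≠ 0`.
-/

set_option autoImplicit false

namespace Cfsg.Agent.Lib.Helper29.MonoLeaf
open Matrix Cfsg.Agent.Lib.Helper11.Mono

variable {F : Type*} [Field F] {ι : Type} [Fintype ι] [DecidableEq ι]

/-- a diagonal matrix times a permutation matrix: entries, `mulVec`, determinant, monomiality -/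
theorem diag_perm_apply (d : ι → F) (τ : Equiv.Perm ι) (k j : ι) :
    (Matrix.diagonal d * τ.permMatrix F) k j = if τ k = j then d k else 0 := by
  rw [Matrix.diagonal_mul]
  unfold Equiv.Perm.permMatrix
  rw [PEquiv.toMatrix_apply, Equiv.toPEquiv_apply]
  simp only [Option.mem_def, Option.some.injEq]
  split_ifs <;> simp

theorem diag_perm_mulVec (d : ι → F) (τ : Equiv.Perm ι) (v : ι → F) :
    (Matrix.diagonal d * τ.permMatrix F) *ᵥ v = fun x => d x * v (τ x) := by
  rw [← Matrix.mulVec_mulVec, Matrix.permMatrix_mulVec]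
  ext x
  rw [Matrix.mulVec_diagonal]
  rfl

theorem diag_perm_det (d : ι → F) (τ : Equiv.Perm ι) :
    (Matrix.diagonal d * τ.permMatrix F).det = (∏ i, d i) * ((Equiv.Perm.sign τ : ℤ) : F) := by
  rw [Matrix.det_mul, Matrix.det_diagonal, Matrix.det_permutation]

theorem diag_perm_isMono (d : ι → F) (τ : Equiv.Perm ι) :
    IsMono (Matrix.diagonal d * τ.permMatrix F) := by
  intro j
  refine ⟨τ.symm j, fun k hk => ?_⟩
  rw [diag_perm_apply, if_neg]
  intro h
  apply hk
  rw [← h, Equiv.symm_apply_apply]

/-- MWb2: the twisted 3-cycle of a vector `u` with `u_a, u_b, u_c ≠ 0`. -/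
theorem exists_twist (u : ι → F) (a b c : ι) (hab : a ≠ b) (hac : a ≠ c) (hbc : b ≠ c)
    (ha : u a ≠ 0) (hb : u b ≠ 0) (hc : u c ≠ 0) :
    ∃ g : GL ι F, IsMono (g : Matrix ι ι F) ∧ g ∈ Cfsg.Geo.specialLinear ι F ∧
      (g : Matrix ι ι F) *ᵥ u = u ∧
      (∀ v : ι → F, (g : Matrix ι ι F) *ᵥ v = fun x =>
        if x = b then u b / u a * v a else if x = c then u c / u b * v b
        else if x = a then u a / u c * v c else v x) := by
  obtain ⟨d, hd⟩ : ∃ d : ι → F, d = fun x =>
      if x = b then u b / u a else if x = c then u c / u b else if x = a then u a / u c else 1 :=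
    ⟨_, rfl⟩
  obtain ⟨τ, hτ⟩ : ∃ τ : Equiv.Perm ι, τ = Equiv.swap a b * Equiv.swap a c := ⟨_, rfl⟩
  have hτb : τ b = a := by
    rw [hτ, Equiv.Perm.mul_apply, Equiv.swap_apply_of_ne_of_ne (Ne.symm hab) hbc,
      Equiv.swap_apply_right]
  have hτc : τ c = b := by
    rw [hτ, Equiv.Perm.mul_apply, Equiv.swap_apply_right, Equiv.swap_apply_left]
  have hτa : τ a = c := by
    rw [hτ, Equiv.Perm.mul_apply, Equiv.swap_apply_left,
      Equiv.swap_apply_of_ne_of_ne (Ne.symm hac) (Ne.symm hbc)]
  have hτx : ∀ x, x ≠ a → x ≠ b → x ≠ c → τ x = x := by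
    intro x hxa hxb hxc
    rw [hτ, Equiv.Perm.mul_apply, Equiv.swap_apply_of_ne_of_ne hxa hxc,
      Equiv.swap_apply_of_ne_of_ne hxa hxb]
  have hsign : Equiv.Perm.sign τ = 1 := by
    rw [hτ, Equiv.Perm.sign_mul, Equiv.Perm.sign_swap hab, Equiv.Perm.sign_swap hac]
    rfl
  have hprod : ∏ i, d i = 1 := by
    have h1 : ∏ i, d i = ∏ i ∈ ({a, b, c} : Finset ι), d i := by
      symm
      apply Finset.prod_subset (Finset.subset_univ _)
      intro x _ hx
      simp only [Finset.mem_insert, Finset.mem_singleton, not_or] at hx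
      rw [hd]
      simp only
      rw [if_neg hx.2.1, if_neg hx.2.2, if_neg hx.1]
    rw [h1, Finset.prod_insert (by simp [hab, hac]), Finset.prod_insert (by simp [hbc]),
      Finset.prod_singleton, hd]
    simp only [if_neg hab, if_neg hac, if_pos, if_neg (Ne.symm hbc)]
    field_simp
  have hdet : (Matrix.diagonal d * τ.permMatrix F).det = 1 := by
    rw [diag_perm_det, hprod, hsign]
    simp
  have hformula : ∀ v : ι → F, (Matrix.diagonal d * τ.permMatrix F) *ᵥ v = fun x =>
      if x = b then u b / u a * v a else if x = c then u c / u b * v b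
      else if x = a then u a / u c * v c else v x := by
    intro v
    rw [diag_perm_mulVec]
    ext x
    by_cases hxb : x = b
    · subst hxb
      rw [if_pos rfl, hτb, hd]
      simp only [if_true]
    · rw [if_neg hxb]
      by_cases hxc : x = c
      · subst hxc
        rw [if_pos rfl, hτc, hd]
        simp only [if_neg hxb, if_true]
      · rw [if_neg hxc]
        by_cases hxa : x = a
        · subst hxa
          rw [if_pos rfl, hτa, hd]
          simp only [if_neg hxb, if_neg hxc, if_true]
        · rw [if_neg hxa, hτx x hxa hxb hxc, hd]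
          simp only [if_neg hxb, if_neg hxc, if_neg hxa, one_mul]
  refine ⟨Matrix.GeneralLinearGroup.mkOfDetNeZero (Matrix.diagonal d * τ.permMatrix F)
    (by rw [hdet]; exact one_ne_zero), diag_perm_isMono d τ, ?_, ?_, hformula⟩
  · rw [mem_specialLinear_iff]
    exact hdet
  · show (Matrix.diagonal d * τ.permMatrix F) *ᵥ u = u
    rw [hformula]
    ext x
    by_cases hxb : x = b
    · subst hxb
      rw [if_pos rfl]
      field_simp
    · rw [if_neg hxb]
      by_cases hxc : x = c
      · subst hxc
        rw [if_pos rfl]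
        field_simp
      · rw [if_neg hxc]
        by_cases hxa : x = a
        · subst hxa
          rw [if_pos rfl]
          field_simp
        · rw [if_neg hxa]

end Cfsg.Agent.Lib.Helper29.MonoLeaf
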