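import Mathlib
import Cfsg.Agent.Lib.Helper11.MonoBasic
import Cfsg.Agent.Lib.Helper15.MonoWa1
import Cfsg.Agent.Lib.Helper2.MonoMA

/-!
S5696 (frame rows, torus `{±1}`): shared definitions for the exclusion of the dense world.
`L ≤ GL ι F` consists of orthogonal matrices (`gᵀ g = 1`), contains the sign changes at two coordinates and the
3-cycle permutation matrices.  Paper proof: notes/S5696_dense_plan_helper29.md.
-/

set_option autoImplicit false

namespace Cfsg.Agent.Lib.Helper29.Fr
open Matrix Cfsg.Agent.Lib.Helper11.Mono Cfsg.Agent.Lib.Helper15.MonoLeaf Cfsg.Agent.Lib.Helper2.MonoLeaf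

variable {F : Type*} [Field F] {ι : Type} [Fintype ι] [DecidableEq ι]

open Classical in
/-- the rows where column `j` of `g` vanishes -/
noncomputable def zerosCol (g : Matrix ι ι F) (j : ι) : Finset ι := Finset.univ.filter (fun c => g c j = 0)

open Classical in
/-- the support of column `j` of `g` -/
noncomputable def suppCol (g : Matrix ι ι F) (j : ι) : Finset ι := Finset.univ.filter (fun c => g c j ≠ 0)

/-- property (D_s): a non-monomial element of `L` has at most `s` zeros in each column -/
def ColDenseK (s : ℕ) (L : Subgroup (GL ι F)) : Prop :=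
  ∀ y ∈ L, ¬ IsMono (y : Matrix ι ι F) → ∀ j, (zerosCol (y : Matrix ι ι F) j).card ≤ s

/-- every element of `L` is orthogonal for the standard dot product -/
def IsOrth (L : Subgroup (GL ι F)) : Prop :=
  ∀ y ∈ L, (y : Matrix ι ι F)ᵀ * (y : Matrix ι ι F) = 1

/-- the sign changes at two coordinates lie in `L` -/
def HasSigns (L : Subgroup (GL ι F)) : Prop :=
  ∀ c c' : ι, c ≠ c' → dg (tcc c c' (-1 : Fˣ)) ∈ L

/-- the 3-cycle permutation matrices lie in `L` -/
def HasThreeCycles (L : Subgroup (GL ι F)) : Prop :=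
  ∀ σ : Equiv.Perm ι, σ.IsThreeCycle → (pmGL σ : GL ι F) ∈ L

/-- the SIGN DICHOTOMY: if column `j` of a non-monomial `B ∈ L` has at least 5 zeros, every other column meets the zero set
`Z` of column `j` in at most one row, or is supported inside `Z` with weight at most 2 -/
def SignDich (L : Subgroup (GL ι F)) : Prop :=
  ∀ B ∈ L, ¬ IsMono (B : Matrix ι ι F) → ∀ j, 5 ≤ (zerosCol (B : Matrix ι ι F) j).card → ∀ m, m ≠ j →
    (zerosCol (B : Matrix ι ι F) j ∩ suppCol (B : Matrix ι ι F) m).card ≤ 1 ∨
      (suppCol (B : Matrix ι ι F) m ⊆ zerosCol (B : Matrix ι ι F) j ∧ (suppCol (B : Matrix ι ι F) m).card ≤ 2)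

lemma mem_zerosCol (g : Matrix ι ι F) (j c : ι) : c ∈ zerosCol g j ↔ g c j = 0 := by
  simp [zerosCol]

lemma mem_suppCol (g : Matrix ι ι F) (j c : ι) : c ∈ suppCol g j ↔ g c j ≠ 0 := by
  simp [suppCol]

lemma card_zerosCol_add_card_suppCol (g : Matrix ι ι F) (j : ι) :
    (zerosCol g j).card + (suppCol g j).card = Fintype.card ι := by
  classical
  unfold zerosCol suppCol
  have := Finset.card_filter_add_card_filter_not (s := (Finset.univ : Finset ι)) (fun c => g c j = 0)
  rw [Finset.card_univ] at this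
  convert this using 2

/-- columns of an orthogonal matrix are orthonormal -/
lemma IsOrth.col_dot {L : Subgroup (GL ι F)} (hO : IsOrth L) {y : GL ι F} (hy : y ∈ L) (j m : ι) :
    ∑ c, (y : Matrix ι ι F) c j * (y : Matrix ι ι F) c m = if j = m then 1 else 0 := by
  have h := congrFun (congrFun (hO y hy) j) m
  rw [Matrix.mul_apply, Matrix.one_apply] at h
  simpa [Matrix.transpose_apply] using h

/-- the inverse of an orthogonal matrix is its transpose -/
lemma IsOrth.inv_val {L : Subgroup (GL ι F)} (hO : IsOrth L) {y : GL ι F} (hy : y ∈ L) :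
    ((y⁻¹ : GL ι F) : Matrix ι ι F) = (y : Matrix ι ι F)ᵀ := by
  have h := hO y hy
  calc ((y⁻¹ : GL ι F) : Matrix ι ι F)
      = ((y : Matrix ι ι F)ᵀ * (y : Matrix ι ι F)) * ((y⁻¹ : GL ι F) : Matrix ι ι F) := by
        rw [h, Matrix.one_mul]
    _ = (y : Matrix ι ι F)ᵀ := by
        rw [Matrix.mul_assoc, ← Units.val_mul, mul_inv_cancel, Units.val_one, Matrix.mul_one]

/-- the transpose of an element of an orthogonal group `L` is in `L` (as its inverse) -/
lemma IsOrth.inv_apply {L : Subgroup (GL ι F)} (hO : IsOrth L) {y : GL ι F} (hy : y ∈ L) (a b : ι) :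
    ((y⁻¹ : GL ι F) : Matrix ι ι F) a b = (y : Matrix ι ι F) b a := by
  rw [hO.inv_val hy, Matrix.transpose_apply]

end Cfsg.Agent.Lib.Helper29.Fr
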