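import Mathlib
import Cfsg.Prelude.Def_GeometricClasses
import Cfsg.Agent.Lib.Helper11.MonoDefs

/-!
S5696 / S5679 (orthogonal FRAMES): the STANDARD model.  `stdQ ι F c = c * Σ x_i²` on `ι → F`, the frame is the standard
basis, the frame stabiliser is the group of monomial matrices (`IsMono` of helper11).  `CoreProp ι F c` is the maximality
statement in these coordinates; `extGL j` embeds `GL {a // a ≠ j} F` into `GL ι F` as `1 ⊕ y` (fixing `e_j`).
-/

set_option autoImplicit false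
set_option linter.unusedSectionVars false

namespace Cfsg.Agent.Lib.Helper29.FrStd
open Matrix Cfsg.Agent.Lib.Helper11.Mono

variable {F : Type*} [Field F] {ι : Type} [Fintype ι] [DecidableEq ι]

/-- the standard quadratic form `c * Σ x_i²` -/
noncomputable def stdQ (ι : Type) [Fintype ι] (F : Type*) [Field F] (c : F) : QuadraticForm F (ι → F) :=
  QuadraticMap.weightedSumSquares F (fun _ : ι => c)

lemma stdQ_apply (c : F) (x : ι → F) : stdQ ι F c x = c * ∑ i, x i * x i := by
  unfold stdQ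
  rw [QuadraticMap.weightedSumSquares_apply, Finset.mul_sum]
  rfl

lemma polar_stdQ (c : F) (x y : ι → F) :
    QuadraticMap.polar (stdQ ι F c) x y = 2 * c * ∑ i, x i * y i := by
  unfold QuadraticMap.polar
  rw [stdQ_apply, stdQ_apply, stdQ_apply, ← mul_sub, ← mul_sub, ← Finset.sum_sub_distrib,
    ← Finset.sum_sub_distrib, mul_assoc, Finset.mul_sum, Finset.mul_sum, Finset.mul_sum]
  congr 1
  funext i
  simp only [Pi.add_apply]
  ring

/-- the CORE of the frame rows in standard coordinates: a subgroup of `Ω` containing all monomial elements of `Ω` and one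
non-monomial element is `Ω` -/
def CoreProp (ι : Type) [Fintype ι] [DecidableEq ι] (F : Type*) [Field F] (c : F) : Prop :=
  ∀ M : Subgroup (GL ι F), M ≤ Cfsg.Geo.omegaGL ⇑(stdQ ι F c) →
    (∀ g ∈ Cfsg.Geo.omegaGL ⇑(stdQ ι F c), IsMono (g : Matrix ι ι F) → g ∈ M) →
    (∃ g ∈ M, ¬ IsMono (g : Matrix ι ι F)) → Cfsg.Geo.omegaGL ⇑(stdQ ι F c) ≤ M

/-- the index bijection `{a // a = j} ⊕ {a // a ≠ j} ≃ ι` -/
def sumEquiv (j : ι) : {a : ι // a = j} ⊕ {a : ι // a ≠ j} ≃ ι := Equiv.sumCompl (fun a => a = j)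

/-- `y ↦ 1 ⊕ y` on matrices -/
noncomputable def extHom (j : ι) : Matrix {a : ι // a ≠ j} {a : ι // a ≠ j} F →* Matrix ι ι F where
  toFun y := Matrix.reindex (sumEquiv j) (sumEquiv j)
    (Matrix.fromBlocks (1 : Matrix {a : ι // a = j} {a : ι // a = j} F) 0 0 y)
  map_one' := by
    rw [Matrix.fromBlocks_one]
    simp
  map_mul' x y := by
    rw [Matrix.reindex_apply, Matrix.reindex_apply, Matrix.reindex_apply, Matrix.submatrix_mul_equiv,
      Matrix.fromBlocks_multiply]
    simp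

/-- `y ↦ 1 ⊕ y : GL {a // a ≠ j} F →* GL ι F` (the extension by the identity on `e_j`) -/
noncomputable def extGL (j : ι) : GL {a : ι // a ≠ j} F →* GL ι F := Units.map (extHom j)

/-- extension of a vector by `0` at `j` -/
def incl (j : ι) (v : {a : ι // a ≠ j} → F) : ι → F := fun a => if ha : a = j then 0 else v ⟨a, ha⟩

lemma extGL_val (j : ι) (y : GL {a : ι // a ≠ j} F) :
    ((extGL j y : GL ι F) : Matrix ι ι F) = Matrix.reindex (sumEquiv j) (sumEquiv j)
      (Matrix.fromBlocks (1 : Matrix {a : ι // a = j} {a : ι // a = j} F) 0 0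
        (y : Matrix {a : ι // a ≠ j} {a : ι // a ≠ j} F)) := rfl

lemma sumEquiv_symm_same (j : ι) : (sumEquiv j).symm j = Sum.inl ⟨j, rfl⟩ := by
  unfold sumEquiv
  rw [Equiv.sumCompl_symm_apply_of_pos]

lemma sumEquiv_symm_ne (j : ι) {a : ι} (ha : a ≠ j) : (sumEquiv j).symm a = Sum.inr ⟨a, ha⟩ := by
  unfold sumEquiv
  rw [Equiv.sumCompl_symm_apply_of_neg]

lemma extGL_same_same (j : ι) (y : GL {a : ι // a ≠ j} F) :
    ((extGL j y : GL ι F) : Matrix ι ι F) j j = 1 := by
  rw [extGL_val, Matrix.reindex_apply, Matrix.submatrix_apply, sumEquiv_symm_same,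
    Matrix.fromBlocks_apply₁₁, Matrix.one_apply_eq]

lemma extGL_same_ne (j : ι) (y : GL {a : ι // a ≠ j} F) {b : ι} (hb : b ≠ j) :
    ((extGL j y : GL ι F) : Matrix ι ι F) j b = 0 := by
  rw [extGL_val, Matrix.reindex_apply, Matrix.submatrix_apply, sumEquiv_symm_same, sumEquiv_symm_ne j hb,
    Matrix.fromBlocks_apply₁₂, Matrix.zero_apply]

lemma extGL_ne_same (j : ι) (y : GL {a : ι // a ≠ j} F) {a : ι} (ha : a ≠ j) :
    ((extGL j y : GL ι F) : Matrix ι ι F) a j = 0 := by
  rw [extGL_val, Matrix.reindex_apply, Matrix.submatrix_apply, sumEquiv_symm_same, sumEquiv_symm_ne j ha,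
    Matrix.fromBlocks_apply₂₁, Matrix.zero_apply]

lemma extGL_ne_ne (j : ι) (y : GL {a : ι // a ≠ j} F) {a b : ι} (ha : a ≠ j) (hb : b ≠ j) :
    ((extGL j y : GL ι F) : Matrix ι ι F) a b =
      (y : Matrix {a : ι // a ≠ j} {a : ι // a ≠ j} F) ⟨a, ha⟩ ⟨b, hb⟩ := by
  rw [extGL_val, Matrix.reindex_apply, Matrix.submatrix_apply, sumEquiv_symm_ne j ha, sumEquiv_symm_ne j hb,
    Matrix.fromBlocks_apply₂₂]

end Cfsg.Agent.Lib.Helper29.FrStd
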