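import Mathlib
import Cfsg.Prelude.Def_LocalEven
import Cfsg.Agent.Lib.Helper29.QuadPairDickson
import Cfsg.Agent.Lib.Helper29.QuadPairPStable
import Cfsg.Agent.Lib.Helper27.OddStable
import Cfsg.Agent.Lib.Helper27.Involves
import Cfsg.Agent.Lib.Helper8.ThTwoB

/-!
# `SL₂(p)`-free groups are `p`-stable (helper29)
-/

set_option autoImplicit false
set_option linter.style.haveILetI false
set_option linter.unusedSectionVars false

namespace Cfsg.Agent.Lib.Helper29.QuadPair

open Subgroup
open scoped commutatorElement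

universe u

variable {p : ℕ} [hpF : Fact p.Prime]

/-- A finite group not involving `SL₂(p)` (`p` odd) has `QuadCore`. -/
theorem quadCore_of_not_involves (hp : p ≠ 2) (Γ : Type u) [Group Γ] [Finite Γ]
    (hfree : ¬ Cfsg.Involves (Matrix.SpecialLinearGroup (Fin 2) (ZMod p)) Γ) : QuadCore p Γ := by
  intro C _ A _ _ hA act hinj a hquad
  obtain ⟨iM, ρ₀, hρ₀⟩ := exists_rep (p := p) hA act
  have hinj' : ∀ g, ρ₀ g = 1 → g = 1 := by
    intro g hg
    apply hinj
    rw [map_one]
    ext x
    have := congrArg (fun f => f (Additive.ofMul x)) hg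
    simp only [hρ₀, Module.End.one_apply] at this
    exact Additive.ofMul.injective this
  by_contra hna
  apply hfree
  obtain ⟨K, ψ, hψ⟩ := exists_SL2p_of_not_mem_pCore hp ρ₀ hinj' a
    (isQuad_of_act act ρ₀ hρ₀ a hquad) hna
  exact Cfsg.Agent.Lib.Helper8.ThTwo.involves_of_quotient C
    (Cfsg.Agent.Lib.Helper27.involves_of_surjective_on_subgroup K ψ hψ)

/-- If the normalizers of `p`-subgroups have `QuadCore`, the group is `p`-stable in the
normalizer form. -/
theorem isNormalizerPStable_of_quadCore {G : Type u} [Group G] [Finite G]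
    (hQ : ∀ P : Subgroup G, IsPGroup p P → QuadCore p ↥(normalizer (P : Set G))) :
    Cfsg.IsNormalizerPStable p G := by
  intro P hPp g hg hquad
  set N : Subgroup G := normalizer (P : Set G) with hN
  have hPp' : IsPGroup p (P.subgroupOf N) :=
    hPp.comap_of_injective _ (Subgroup.subtype_injective _)
  have hmapP : (P.subgroupOf N).map N.subtype = P :=
    Subgroup.map_subgroupOf_eq_of_le Subgroup.le_normalizer
  haveI hPn : (P.subgroupOf N).Normal := Subgroup.normal_in_normalizer
  have hquad' : ⁅⁅P.subgroupOf N, zpowers (⟨g, hg⟩ : N)⁆, zpowers (⟨g, hg⟩ : N)⁆ = ⊥ := by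
    rw [← Subgroup.map_eq_bot_iff_of_injective _ N.subtype_injective,
      Subgroup.map_commutator, Subgroup.map_commutator, hmapP, MonoidHom.map_zpowers]
    exact hquad
  have h1 := Cfsg.Agent.Lib.Helper27.OddStable.isPStableOn_of_quadCore_pGroup (hQ P hPp)
    (P.subgroupOf N) hPp' ⟨g, hg⟩ hquad'
  have hCeq : centralizer ((P.subgroupOf N : Subgroup N) : Set N) =
      (centralizer (P : Set G)).subgroupOf N := by
    ext x
    rw [Subgroup.mem_subgroupOf, Subgroup.mem_centralizer_iff, Subgroup.mem_centralizer_iff]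
    constructor
    · intro hx u hu
      have := hx ⟨u, Subgroup.le_normalizer hu⟩ (by
        rw [SetLike.mem_coe, Subgroup.mem_subgroupOf]; exact hu)
      exact congrArg Subtype.val this
    · intro hx u hu
      apply Subtype.ext
      exact hx u (Subgroup.mem_subgroupOf.mp hu)
  let e : (N ⧸ centralizer ((P.subgroupOf N : Subgroup N) : Set N)) ≃*
      (N ⧸ (centralizer (P : Set G)).subgroupOf N) := QuotientGroup.quotientMulEquivOfEq hCeq
  have hle : (Cfsg.pCore p (N ⧸ centralizer ((P.subgroupOf N : Subgroup N) : Set N))).map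
      e.toMonoidHom ≤ Cfsg.pCore p (N ⧸ (centralizer (P : Set G)).subgroupOf N) := by
    apply Cfsg.Agent.Lib.Helper1.le_pCore
    · exact Subgroup.Normal.map (Cfsg.Agent.Lib.Helper1.pCore_normal p _) _ e.surjective
    · exact (Cfsg.Agent.Lib.Helper1.pCore_isPGroup p _).map _
  exact hle (Subgroup.mem_map_of_mem e.toMonoidHom h1)

/-- **A finite group not involving `SL₂(p)`, `p` odd, is `p`-stable in the normalizer form.** -/
theorem isNormalizerPStable_of_not_involves (hp : p ≠ 2) {G : Type u} [Group G] [Finite G]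
    (hfree : ¬ Cfsg.Involves (Matrix.SpecialLinearGroup (Fin 2) (ZMod p)) G) :
    Cfsg.IsNormalizerPStable p G := by
  apply isNormalizerPStable_of_quadCore
  intro P _
  apply quadCore_of_not_involves hp
  intro h
  exact hfree (Cfsg.Agent.Lib.Helper27.involves_of_injective _ (Subgroup.subtype_injective _) h)

end Cfsg.Agent.Lib.Helper29.QuadPair
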