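import Cfsg.Agent.Lib.Helper29.ND44Defs

/-!
helper29, ND44 (S5825 conjunct (5)): glue leaves A0 `symm`, A1 `nostar`, A2 `inA_symm`, A3 `block_of_inA`,
B6 `rigid`, B6' `rigid'`.
-/

set_option autoImplicit false
set_option linter.unusedSectionVars false
set_option linter.unusedVariables false
set_option linter.unusedSimpArgs false

namespace Cfsg.Agent.Lib.Helper29.ND44Leaf

open Module QuadraticMap Matrix Cfsg.Agent.Lib.Helper25.CD Cfsg.Agent.Lib.Helper25.Spin
  Cfsg.Agent.Lib.Helper25.Fam Cfsg.Agent.Lib.Helper25.Siegel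
  Cfsg.Agent.Lib.Helper25.PS Cfsg.Agent.Lib.Helper25.OGeom Cfsg.Agent.Lib.Helper15
  Cfsg.Agent.Lib.Helper5.TSMax Cfsg.Agent.Lib.Helper5.NSMax Cfsg.Agent.Lib.Helper5.PairMax
  Cfsg.Agent.Lib.Helper5.NDMax Cfsg.Agent.Lib.Helper10.NDMax4 Cfsg.Agent.Lib.Helper29.ND44

variable {ι : Type} [Fintype ι] [DecidableEq ι] {F : Type*} [Field F] [Fintype F]
  {Q : QuadraticForm F (ι → F)}

section setup

variable {M : Subgroup ↥(Cfsg.isometryGroup F ⇑Q)} {W W' : Submodule F (ι → F)}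

theorem symm (hS : NS44 Q M W W') : NS44 Q M W' W := by
  refine ⟨hS.nd, hS.card, fun x hx y hy => ?_, ?_, ?_, hS.big', hS.big, ?_, hS.le⟩
  · rw [polar_comm]
    exact hS.orth y hy x hx
  · rw [inf_comm]
    exact hS.disj
  · rw [sup_comm]
    exact hS.sup
  · intro g hgΩ hg
    apply hS.stab g hgΩ
    intro x hx
    have hmap := map_eq_of_mem (toOG Q g) rfl hg
    obtain ⟨a, ha, b, hb, hab⟩ := hS.dec (toOG Q g x)
    have hb0 : b = 0 := by
      apply hS.ndW' b hb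
      intro w' hw'
      have hw'' := hw'
      rw [← hmap] at hw''
      obtain ⟨z, hz, rfl⟩ := hw''
      have h1 : polar Q (toOG Q g x) (toOG Q g z) = 0 := by
        rw [polar_toOG]
        exact hS.orth x hx z hz
      rw [hab, polar_add_left] at h1
      have h2 : polar Q a (toOG Q g z) = 0 := hS.orth a ha _ (hg z hz)
      have h3 : polar Q b (toOG Q g z) = 0 := by
        rw [h2, zero_add] at h1
        exact h1
      exact h3
    rw [hab, hb0, add_zero]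
    exact ha

theorem nostar (hS : NS44 Q M W W') (hne : M ≠ Cfsg.Omega F ⇑Q) {u y : ι → F} (hu : u ∈ W)
    (hu0 : u ≠ 0) (hQu : Q u = 0) (huy : polar Q u y = 0) (h : InA Q M u y) : y ∈ W := by
  obtain ⟨a, ha, b, hb, hab⟩ := hS.dec y
  by_cases hb0 : b = 0
  · rw [hab, hb0, add_zero]
    exact ha
  exfalso
  have hub : polar Q u b = 0 := hS.orth u hu b hb
  have hua : polar Q u a = 0 := by
    have h5 := huy
    rw [hab, polar_add_right, hub, add_zero] at h5
    exact h5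
  have h2 := InA.add hQu huy (by rw [polar_smul_right, hua, smul_zero]) h
    ((hS.inA_W hu hu0 hQu ha hua).smul (-1))
  have e : y + (-1 : F) • a = b := by
    rw [hab]
    module
  rw [e] at h2
  exact hne (hS.eq_omega_of_star hu hu0 hQu hb hb0 h2)

theorem inA_symm {β u : ι → F} (hQβ : Q β = 0) (hQu : Q u = 0) (h : InA Q M β u) :
    InA Q M u β := by
  intro c
  obtain ⟨g, hg, hgx⟩ := h (-c)
  refine ⟨g, hg, fun x => ?_⟩
  rw [hgx]
  unfold egen
  rw [QuadraticMap.map_smul, QuadraticMap.map_smul, hQβ, hQu, polar_smul_left, polar_smul_left]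
  simp only [smul_eq_mul, mul_zero, zero_mul, zero_smul, sub_zero]
  module

theorem block_of_inA (hS : NS44 Q M W W') (hne : M ≠ Cfsg.Omega F ⇑Q) {β u : ι → F}
    (hQβ : Q β = 0) (hu : u ∈ W) (hu0 : u ≠ 0) (hQu : Q u = 0) (hβu : polar Q β u = 0)
    (h : InA Q M β u) : β ∈ W :=
  nostar hS hne hu hu0 hQu (by rw [polar_comm]; exact hβu) (inA_symm hQβ hQu h)

theorem rigid (hS : NS44 Q M W W') (hne : M ≠ Cfsg.Omega F ⇑Q)
    {g : ↥(Cfsg.isometryGroup F ⇑Q)} (hg : g ∈ M) {p x : ι → F} (hp : p ∈ W) (hp0 : p ≠ 0)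
    (hQp : Q p = 0) (hgp : toOG Q g p ∈ W) (hx : x ∈ W) (hpx : polar Q p x = 0) :
    toOG Q g x ∈ W := by
  have h1 := InA.conj hg (hS.inA_W hp hp0 hQp hx hpx)
  have hgp0 : toOG Q g p ≠ 0 := fun h => hp0 ((toOG Q g).injective (by rw [h, map_zero]))
  exact nostar hS hne hgp hgp0 (by rw [Q_toOG, hQp]) (by rw [polar_toOG, hpx]) h1

theorem rigid' (hS : NS44 Q M W W') (hne : M ≠ Cfsg.Omega F ⇑Q)
    {g : ↥(Cfsg.isometryGroup F ⇑Q)} (hg : g ∈ M) {p x : ι → F} (hp : p ∈ W) (hp0 : p ≠ 0)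
    (hQp : Q p = 0) (hgp : toOG Q g p ∈ W') (hx : x ∈ W) (hpx : polar Q p x = 0) :
    toOG Q g x ∈ W' := by
  have h1 := InA.conj hg (hS.inA_W hp hp0 hQp hx hpx)
  have hgp0 : toOG Q g p ≠ 0 := fun h => hp0 ((toOG Q g).injective (by rw [h, map_zero]))
  exact nostar (symm hS) hne hgp hgp0 (by rw [Q_toOG, hQp]) (by rw [polar_toOG, hpx]) h1

end setup

end Cfsg.Agent.Lib.Helper29.ND44Leaf
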