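import Cfsg.Agent.Lib.Helper29.ND44Glue

/-!
helper29, ND44 (S5825 conjunct (5)): the unipotent tricks A4 `trick_bilin`, A5 `trick_lin`,
A6 `trick_lambda`.
-/

set_option autoImplicit false
set_option linter.unusedSectionVars false
set_option linter.unusedVariables false
set_option linter.unusedSimpArgs false

namespace Cfsg.Agent.Lib.Helper29.ND44Leaf

open Module QuadraticMap Matrix Cfsg.Agent.Lib.Helper25.CD Cfsg.Agent.Lib.Helper25.Spin
  Cfsg.Agent.Lib.Helper25.Fam Cfsg.Agent.Lib.Helper25.Siegel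
  Cfsg.Agent.Lib.Helper25.PS Cfsg.Agent.Lib.Helper25.OGeom Cfsg.Agent.Lib.Helper15
  Cfsg.Agent.Lib.Helper5.TSMax Cfsg.Agent.Lib.Helper5.NSMax Cfsg.Agent.Lib.Helper5.PairMax
  Cfsg.Agent.Lib.Helper5.NDMax Cfsg.Agent.Lib.Helper10.NDMax4 Cfsg.Agent.Lib.Helper29.ND44

variable {ι : Type} [Fintype ι] [DecidableEq ι] {F : Type*} [Field F] [Fintype F]
  {Q : QuadraticForm F (ι → F)}

section setup

variable {M : Subgroup ↥(Cfsg.isometryGroup F ⇑Q)} {W W' : Submodule F (ι → F)}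

/-- `A(β)` is stable under the Siegel elements `egen u w` (`u, w ∈ W`) fixing `β`. -/
theorem inA_egen_fix (hS : NS44 Q M W W') {β u w z : ι → F} (hu : u ∈ W) (hu0 : u ≠ 0)
    (hQu : Q u = 0) (huβ : polar Q u β = 0) (hw : w ∈ W) (huw : polar Q u w = 0)
    (hwβ : polar Q w β = 0) (hβz : polar Q β z = 0) (h : InA Q M β z) :
    polar Q β (egen Q u w z) = 0 ∧ InA Q M β (egen Q u w z) := by
  obtain ⟨m, hmM, hm⟩ := hS.inA_W hu hu0 hQu hw huw 1
  simp only [one_smul] at hm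
  have hfix : toOG Q m β = β := by rw [hm, egen_fix Q huβ hwβ]
  constructor
  · have h1 := polar_toOG Q m β z
    rw [hfix, hm z] at h1
    rw [h1]
    exact hβz
  · have h1 := InA.conj hmM h
    rw [hfix, hm z] at h1
    exact h1

theorem trick_bilin (hS : NS44 Q M W W') (hne : M ≠ Cfsg.Omega F ⇑Q) {β u w1 w2 y : ι → F}
    (hQβ : Q β = 0) (hβW : β ∉ W) (hu : u ∈ W) (hu0 : u ≠ 0) (hQu : Q u = 0)
    (huβ : polar Q u β = 0) (hw1 : w1 ∈ W) (hw2 : w2 ∈ W) (huw1 : polar Q u w1 = 0)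
    (huw2 : polar Q u w2 = 0) (hw1β : polar Q w1 β = 0) (hw2β : polar Q w2 β = 0)
    (hw12 : polar Q w1 w2 ≠ 0) (hβy : polar Q β y = 0) (h : InA Q M β y) : polar Q u y = 0 := by
  by_contra huy
  obtain ⟨p1, i1⟩ := inA_egen_fix hS hu hu0 hQu huβ hw1 huw1 hw1β hβy h
  obtain ⟨p2, i2⟩ := inA_egen_fix hS hu hu0 hQu huβ hw2 huw2 hw2β hβy h
  obtain ⟨p3, i3⟩ := inA_egen_fix hS hu hu0 hQu huβ (W.add_mem hw1 hw2)
    (by rw [polar_add_right, huw1, huw2, add_zero])
    (by rw [polar_add_left, hw1β, hw2β, add_zero]) hβy h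
  have q1 : polar Q β ((-1 : F) • egen Q u w1 y) = 0 := by rw [polar_smul_right, p1, smul_zero]
  have q2 : polar Q β ((-1 : F) • egen Q u w2 y) = 0 := by rw [polar_smul_right, p2, smul_zero]
  have j1 := InA.add hQβ p3 q1 i3 (i1.smul (-1))
  have q3 : polar Q β (egen Q u (w1 + w2) y + (-1 : F) • egen Q u w1 y) = 0 := by
    rw [polar_add_right, p3, q1, add_zero]
  have j2 := InA.add hQβ q3 q2 j1 (i2.smul (-1))
  have q4 : polar Q β (egen Q u (w1 + w2) y + (-1 : F) • egen Q u w1 y +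
      (-1 : F) • egen Q u w2 y) = 0 := by
    rw [polar_add_right, q3, q2, add_zero]
  have j3 := InA.add hQβ q4 hβy j2 h
  have e : egen Q u (w1 + w2) y + (-1 : F) • egen Q u w1 y + (-1 : F) • egen Q u w2 y + y =
      (-(polar Q w1 w2 * polar Q u y)) • u := by
    unfold egen
    rw [Cfsg.Agent.Lib.Helper25.MaxTS.Q_add w1 w2, polar_add_left]
    module
  rw [e] at j3
  have j4 := j3.smul (-(polar Q w1 w2 * polar Q u y))⁻¹
  rw [smul_smul, inv_mul_cancel₀ (neg_ne_zero.2 (mul_ne_zero hw12 huy)), one_smul] at j4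
  exact hβW (block_of_inA hS hne hQβ hu hu0 hQu (by rw [polar_comm]; exact huβ) j4)

theorem trick_lin (hS : NS44 Q M W W') (hne : M ≠ Cfsg.Omega F ⇑Q) {β u w y : ι → F}
    (hQβ : Q β = 0) (hβW : β ∉ W) (hu : u ∈ W) (hu0 : u ≠ 0) (hQu : Q u = 0)
    (huβ : polar Q u β = 0) (hw : w ∈ W) (huw : polar Q u w = 0) (hwβ : polar Q w β = 0)
    (hβy : polar Q β y = 0) (h : InA Q M β y) (huy : polar Q u y = 0) : polar Q w y = 0 := by
  by_contra hwy
  obtain ⟨p1, i1⟩ := inA_egen_fix hS hu hu0 hQu huβ hw huw hwβ hβy h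
  have q1 : polar Q β ((-1 : F) • y) = 0 := by rw [polar_smul_right, hβy, smul_zero]
  have j1 := InA.add hQβ p1 q1 i1 (h.smul (-1))
  have e : egen Q u w y + (-1 : F) • y = (-(polar Q w y)) • u := by
    unfold egen
    rw [huy]
    module
  rw [e] at j1
  have j4 := j1.smul (-(polar Q w y))⁻¹
  rw [smul_smul, inv_mul_cancel₀ (neg_ne_zero.2 hwy), one_smul] at j4
  exact hβW (block_of_inA hS hne hQβ hu hu0 hQu (by rw [polar_comm]; exact huβ) j4)

theorem trick_lambda (hS : NS44 Q M W W') (hne : M ≠ Cfsg.Omega F ⇑Q) (h2 : (2 : F) = 0)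
    (h4 : 4 ≤ Fintype.card F) {β u a y : ι → F} (hQβ : Q β = 0) (hβW : β ∉ W) (hu : u ∈ W)
    (hu0 : u ≠ 0) (hQu : Q u = 0) (huβ : polar Q u β = 0) (ha : a ∈ W) (hQa : Q a ≠ 0)
    (hua : polar Q u a = 0) (haβ : polar Q a β = 0) (hβy : polar Q β y = 0)
    (h : InA Q M β y) : polar Q u y = 0 := by
  by_contra huy
  -- a scalar different from 0 and 1
  obtain ⟨l, hl0, hl1⟩ : ∃ l : F, l ≠ 0 ∧ l ≠ 1 := by
    classical
    by_contra hcon
    push Not at hcon
    have hsub : (Finset.univ : Finset F) ⊆ {0, 1} := by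
      intro x _
      by_cases hx : x = 0
      · simp [hx]
      · simp [hcon x hx]
    have := Finset.card_le_card hsub
    rw [Finset.card_univ] at this
    have h5 : ({0, 1} : Finset F).card ≤ 2 := Finset.card_le_two
    omega
  obtain ⟨p1, i1⟩ := inA_egen_fix hS hu hu0 hQu huβ ha hua haβ hβy h
  obtain ⟨p2, i2⟩ := inA_egen_fix hS hu hu0 hQu huβ (W.smul_mem l ha)
    (by rw [polar_smul_right, hua, smul_zero]) (by rw [polar_smul_left, haβ, smul_zero]) hβy h
  -- (E_{u,la} y - y) - l (E_{u,a} y - y)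
  have q1 : polar Q β ((-l) • egen Q u a y) = 0 := by rw [polar_smul_right, p1, smul_zero]
  have j1 := InA.add hQβ p2 q1 i2 (i1.smul (-l))
  have q2 : polar Q β (egen Q u (l • a) y + (-l) • egen Q u a y) = 0 := by
    rw [polar_add_right, p2, q1, add_zero]
  have q3 : polar Q β ((l - 1) • y) = 0 := by rw [polar_smul_right, hβy, smul_zero]
  have j2 := InA.add hQβ q2 q3 j1 (h.smul (l - 1))
  have e : egen Q u (l • a) y + (-l) • egen Q u a y + (l - 1) • y =
      (l * (1 - l) * Q a * polar Q u y) • u := by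
    unfold egen
    rw [QuadraticMap.map_smul, polar_smul_left]
    simp only [smul_eq_mul]
    module
  rw [e] at j2
  have hne0 : l * (1 - l) * Q a * polar Q u y ≠ 0 :=
    mul_ne_zero (mul_ne_zero (mul_ne_zero hl0 (sub_ne_zero.2 (Ne.symm hl1))) hQa) huy
  have j4 := j2.smul (l * (1 - l) * Q a * polar Q u y)⁻¹
  rw [smul_smul, inv_mul_cancel₀ hne0, one_smul] at j4
  exact hβW (block_of_inA hS hne hQβ hu hu0 hQu (by rw [polar_comm]; exact huβ) j4)

end setup

end Cfsg.Agent.Lib.Helper29.ND44Leaf
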