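import Mathlib
import Cfsg.Agent.Lib.Helper29.MinNonPNilpotent

/-!
# Wielandt's theorem on nilpotent Hall subgroups (helper29)

`exists_conj_le_of_nilpotent_hall`: if `H` is a nilpotent Hall subgroup of the finite group `G`, every
subgroup `K` whose order involves only primes dividing `|H|` lies in a conjugate of `H`
(proof after Robinson 9.1.10, with `exists_proper_normal_q_complement` replacing Schmidt's theorem).
-/

set_option autoImplicit false

namespace Cfsg.Agent.Lib.Helper29

open Subgroup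
open scoped Pointwise commutatorElement

universe u

/-- Sylow's theorem inside a subgroup `N` containing a Sylow subgroup `T` of the whole group. -/
theorem exists_conj_mem_sylow_of_le {G : Type u} [Group G] [Finite G] {q : ℕ} [Fact q.Prime]
    (N : Subgroup G) (T : Sylow q G) (hT : (T : Subgroup G) ≤ N) (A : Subgroup G)
    (hA : IsPGroup q A) (hAN : A ≤ N) : ∃ n ∈ N, ∀ a ∈ A, n⁻¹ * a * n ∈ (T : Subgroup G) := by
  obtain ⟨R, hR⟩ := (hA.comap_subtype (K := N)).exists_le_sylow
  obtain ⟨n, hn⟩ := MulAction.exists_smul_eq N (T.subtype hT) R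
  refine ⟨n, n.2, ?_⟩
  intro a ha
  have h1 : (⟨a, hAN ha⟩ : N) ∈ (R : Subgroup N) := hR (by rw [Subgroup.mem_comap]; exact ha)
  rw [← hn] at h1
  have h2 := (mem_smul_sylow_iff _ _ _).mp h1
  have h3 : n⁻¹ * (⟨a, hAN ha⟩ : N) * n ∈ ((T.subtype hT : Sylow q N) : Subgroup N) := h2
  rw [Sylow.coe_subtype, Subgroup.mem_subgroupOf] at h3
  exact h3

/-- A nontrivial finite group all of whose proper subgroups are nilpotent has, for some prime `q`,
a proper normal `q`-complement. -/
theorem exists_proper_normal_q_complement (K : Type u) [Group K] [Finite K] [Nontrivial K]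
    (hmin : ∀ M : Subgroup K, M ≠ ⊤ → Group.IsNilpotent M) :
    ∃ q : ℕ, q.Prime ∧ ∃ L : Subgroup K, L.Normal ∧ ¬ q ∣ Nat.card L ∧ q ∣ L.index ∧
      ∃ k, L.index = q ^ k := by
  by_cases hall : ∀ p : ℕ, p.Prime → FrobCond p K
  · -- every prime is fine
    have hcard : Nat.card K ≠ 1 := by
      intro h
      have := (Nat.card_eq_one_iff_unique.mp h).1
      exact not_subsingleton K this
    obtain ⟨q, hq, hqd⟩ := Nat.exists_prime_and_dvd hcard
    have : Fact q.Prime := ⟨hq⟩
    obtain ⟨S⟩ : Nonempty (Sylow q K) := inferInstance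
    obtain ⟨L, hLn, hL⟩ := (hall q hq).exists_normal_complement S
    have h1 : ¬ q ∣ Nat.card L := by
      rw [← hL.index_eq_card]; exact S.not_dvd_index
    refine ⟨q, hq, L, hLn, h1, ?_, ?_⟩
    · have h2 : q ∣ Nat.card L * L.index := by rw [Subgroup.card_mul_index]; exact hqd
      exact (hq.dvd_mul.mp h2).resolve_left h1
    · obtain ⟨k, hk⟩ := IsPGroup.iff_card.mp S.2
      exact ⟨k, by rw [hL.symm.index_eq_card, hk]⟩
  · push Not at hall
    obtain ⟨p, hp, hnF⟩ := hall
    have : Fact p.Prime := ⟨hp⟩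
    obtain ⟨Q, g, hQn, hQ, hcop, hsup, hgc⟩ :=
      exists_normal_pgroup_sup_zpowers_of_minimal hnF
        (fun M hM => frobCond_of_isNilpotent (hmin M hM))
    have hQidx : Q.index ∣ orderOf g := index_dvd_orderOf_of_sup_zpowers Q g hsup
    have hQne : Q.index ≠ 1 := by
      intro h1
      rw [Subgroup.index_eq_one] at h1
      apply hgc
      have hgQ : g ∈ Q := by rw [h1]; exact Subgroup.mem_top _
      obtain ⟨k, hk⟩ := hQ ⟨g, hgQ⟩
      have hk' : g ^ p ^ k = 1 := by
        have := congrArg Subtype.val hk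
        simpa using this
      have h2 : orderOf g ∣ p ^ k := orderOf_dvd_of_pow_eq_one hk'
      have h3 : orderOf g = 1 :=
        Nat.eq_one_of_dvd_coprimes (Nat.Coprime.pow_right k hcop) dvd_rfl h2
      rw [orderOf_eq_one_iff.mp h3]
      exact Subgroup.one_mem _
    obtain ⟨q, hq, hqd⟩ := Nat.exists_prime_and_dvd hQne
    have : Fact q.Prime := ⟨hq⟩
    have hqp : q ≠ p := by
      rintro rfl
      have h3 := hqd.trans hQidx
      exact hq.ne_one (Nat.Coprime.eq_one_of_dvd hcop.symm h3)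
    have hab : commutator K ≤ Q :=
      hQn.commutator_le_of_self_sup_commutative_eq_top hsup
        (inferInstance : IsMulCommutative (Subgroup.zpowers g))
    -- the quotient is abelian hence nilpotent
    have hcomm : ∀ a b : K ⧸ Q, a * b = b * a := by
      intro a b
      obtain ⟨a, rfl⟩ := QuotientGroup.mk_surjective a
      obtain ⟨b, rfl⟩ := QuotientGroup.mk_surjective b
      rw [← QuotientGroup.mk_mul, ← QuotientGroup.mk_mul, QuotientGroup.eq]
      apply hab
      have e : (a * b)⁻¹ * (b * a) = ⁅b⁻¹, a⁻¹⁆ := by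
        rw [commutatorElement_def]; group
      rw [e, _root_.commutator_def]
      exact Subgroup.commutator_mem_commutator (Subgroup.mem_top _) (Subgroup.mem_top _)
    let _ : CommGroup (K ⧸ Q) := { (inferInstance : Group (K ⧸ Q)) with mul_comm := hcomm }
    have hnil : Group.IsNilpotent (K ⧸ Q) := CommGroup.isNilpotent
    obtain ⟨S⟩ : Nonempty (Sylow q (K ⧸ Q)) := inferInstance
    obtain ⟨L', hLn', hL'⟩ := (frobCond_of_isNilpotent (p := q) hnil).exists_normal_complement S
    have hL'card : ¬ q ∣ Nat.card L' := by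
      rw [← hL'.index_eq_card]; exact S.not_dvd_index
    have hidx : (L'.comap (QuotientGroup.mk' Q)).index = L'.index :=
      Subgroup.index_comap_of_surjective _ (QuotientGroup.mk'_surjective Q)
    refine ⟨q, hq, L'.comap (QuotientGroup.mk' Q), hLn'.comap _, ?_, ?_, ?_⟩
    · -- card L = card Q * card L'
      have e1 := Subgroup.card_mul_index (L'.comap (QuotientGroup.mk' Q))
      have e2 := Subgroup.card_mul_index Q
      have e3 := Subgroup.card_mul_index L'
      rw [← Subgroup.index_eq_card Q] at e3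
      rw [hidx] at e1
      have e4 : Nat.card (L'.comap (QuotientGroup.mk' Q)) * L'.index
          = (Nat.card Q * Nat.card L') * L'.index := by
        rw [e1, ← e2, ← e3, mul_assoc]
      have e5 := Nat.eq_of_mul_eq_mul_right (Nat.pos_of_ne_zero Subgroup.index_ne_zero_of_finite) e4
      rw [e5]
      intro hd
      rcases hq.dvd_mul.mp hd with h | h
      · obtain ⟨k, hk⟩ := IsPGroup.iff_card.mp hQ
        rw [hk] at h
        exact hqp ((Nat.prime_dvd_prime_iff_eq hq hp).mp (hq.dvd_of_dvd_pow h))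
      · exact hL'card h
    · rw [hidx]
      have h2 : q ∣ Nat.card L' * L'.index := by
        rw [Subgroup.card_mul_index, ← Subgroup.index_eq_card]; exact hqd
      exact (hq.dvd_mul.mp h2).resolve_left hL'card
    · obtain ⟨k, hk⟩ := IsPGroup.iff_card.mp S.2
      exact ⟨k, by rw [hidx, hL'.symm.index_eq_card, hk]⟩


/-- **Wielandt**: a nilpotent Hall subgroup contains a conjugate of every subgroup whose order only
involves primes dividing `|H|` (elementwise form). -/
theorem exists_conj_mem_of_nilpotent_hall {G : Type u} [Group G] [Finite G] (H : Subgroup G)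
    (hH : Group.IsNilpotent H) (hHall : (Nat.card H).Coprime H.index) :
    ∀ (n : ℕ) (K : Subgroup G), Nat.card K = n →
      (∀ p : ℕ, p.Prime → p ∣ Nat.card K → p ∣ Nat.card H) →
      ∃ x : G, ∀ y ∈ K, x⁻¹ * y * x ∈ H := by
  intro n
  induction n using Nat.strong_induction_on with
  | _ n ih =>
  intro K hKn hK
  by_cases hKbot : K = ⊥
  · refine ⟨1, ?_⟩
    intro y hy
    rw [hKbot, Subgroup.mem_bot] at hy
    rw [hy]; simp
  have hKnt : Nontrivial K := (Subgroup.nontrivial_iff_ne_bot K).mpr hKbot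
  -- proper subgroups of `K` are nilpotent
  have hmin : ∀ M : Subgroup K, M ≠ ⊤ → Group.IsNilpotent M := by
    intro M hM
    have hlt : Nat.card (M.map K.subtype) < n := by
      rw [Subgroup.card_map_of_injective K.subtype_injective, ← hKn]
      exact lt_of_le_of_ne (Subgroup.card_le_card_group M)
        (fun h' => hM ((Subgroup.card_eq_iff_eq_top M).mp h'))
    have hdvd : Nat.card (M.map K.subtype) ∣ Nat.card K := by
      rw [Subgroup.card_map_of_injective K.subtype_injective]
      exact Subgroup.card_subgroup_dvd_card M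
    obtain ⟨x, hx⟩ := ih _ hlt (M.map K.subtype) rfl
      (fun p hp hpd => hK p hp (hpd.trans hdvd))
    let f : M →* H := MonoidHom.codRestrict
      ((MulAut.conj x⁻¹).toMonoidHom.comp (K.subtype.comp M.subtype)) H (fun m => by
        have := hx _ (Subgroup.mem_map_of_mem K.subtype m.2)
        simpa using this)
    have hf : Function.Injective f := by
      intro a b hab
      have h1 := congrArg Subtype.val hab
      have h2 : x⁻¹ * ((a : K) : G) * x⁻¹⁻¹ = x⁻¹ * ((b : K) : G) * x⁻¹⁻¹ := h1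
      have h3 : ((a : K) : G) = ((b : K) : G) := by
        have := congrArg (fun t => x * t * x⁻¹) h2
        simpa [mul_assoc] using this
      exact Subtype.ext (Subtype.ext h3)
    have : Group.IsNilpotent H := hH
    exact (Group.isNilpotent_congr (MonoidHom.ofInjective hf)).mpr inferInstance
  obtain ⟨q, hq, L, hLn, hqL, hqLi, k, hLk⟩ := exists_proper_normal_q_complement K hmin
  have : Fact q.Prime := ⟨hq⟩
  have hqK : q ∣ Nat.card K := hqLi.trans (Subgroup.index_dvd_card L)
  have hqH : q ∣ Nat.card H := hK q hq hqK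
  -- the image of `L` in `G`
  set LG : Subgroup G := L.map K.subtype with hLG
  have hLGK : LG ≤ K := Subgroup.map_subtype_le L
  have hLGcard : Nat.card LG = Nat.card L := Subgroup.card_map_of_injective K.subtype_injective
  have hLne : L ≠ ⊤ := by
    intro h
    rw [h, Subgroup.index_top] at hqLi
    exact hq.ne_one (Nat.dvd_one.mp hqLi)
  have hLGlt : Nat.card LG < n := by
    rw [hLGcard, ← hKn]
    exact lt_of_le_of_ne (Subgroup.card_le_card_group L)
      (fun h' => hLne ((Subgroup.card_eq_iff_eq_top L).mp h'))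
  have hLGdvd : Nat.card LG ∣ Nat.card K := by
    rw [hLGcard]; exact Subgroup.card_subgroup_dvd_card L
  obtain ⟨x₁, hx₁⟩ := ih _ hLGlt LG rfl (fun p hp hpd => hK p hp (hpd.trans hLGdvd))
  -- the Sylow `q`-subgroup of `H` and its normal complement
  have hSylN := ((Group.isNilpotent_of_finite_tfae (G := H)).out 0 3).mp hH
  obtain ⟨SH⟩ : Nonempty (Sylow q H) := inferInstance
  have hSHn : (SH : Subgroup H).Normal := hSylN q inferInstance SH
  obtain ⟨H₂, hH₂n, hH₂⟩ := (frobCond_of_isNilpotent (p := q) hH).exists_normal_complement SH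
  have hdis : Disjoint (SH : Subgroup H) H₂ := by
    rw [Subgroup.disjoint_def]
    intro z hz1 hz2
    obtain ⟨j, hj⟩ := SH.2 ⟨z, hz1⟩
    have hj' : z ^ q ^ j = 1 := by
      have := congrArg Subtype.val hj
      simpa using this
    exact eq_one_of_mem_normal_complement SH H₂ hH₂ z hz2 j hj'
  -- `S_H` as a Sylow subgroup of `G`
  set H₁ : Subgroup G := (SH : Subgroup H).map H.subtype with hH₁
  have hH₁p : IsPGroup q H₁ := SH.2.map _
  have hH₁idx : ¬ q ∣ H₁.index := by
    have h1 : H₁.index = (SH : Subgroup H).index * H.index := by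
      rw [← Subgroup.relIndex_mul_index (Subgroup.map_subtype_le (SH : Subgroup H))]
      congr 1
      rw [Subgroup.relIndex, Subgroup.subgroupOf,
        Subgroup.comap_map_eq_self_of_injective H.subtype_injective]
    rw [h1]
    intro hd
    rcases hq.dvd_mul.mp hd with h | h
    · exact SH.not_dvd_index h
    · exact hq.ne_one (Nat.eq_one_of_dvd_coprimes hHall hqH h)
  set SG : Sylow q G := hH₁p.toSylow hH₁idx with hSG
  -- elements of `x₁ H₁ x₁⁻¹` centralize `LG`
  have hcent : ∀ t ∈ ((x₁ • SG : Sylow q G) : Subgroup G), ∀ y ∈ LG, t * y = y * t := by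
    intro t ht y hy
    have ht' : x₁⁻¹ * t * x₁ ∈ H₁ := (mem_smul_sylow_iff x₁ t SG).mp ht
    obtain ⟨s, hs, hse⟩ := Subgroup.mem_map.mp ht'
    have hyH : x₁⁻¹ * y * x₁ ∈ H := hx₁ y hy
    have hyo : (orderOf (⟨x₁⁻¹ * y * x₁, hyH⟩ : H)).Coprime q := by
      rw [← Subgroup.orderOf_coe]
      have h1 : orderOf (x₁⁻¹ * y * x₁) = orderOf y := by
        have := (MulAut.conj x₁⁻¹).orderOf_eq y
        rwa [MulAut.conj_apply, inv_inv] at this
      rw [Subtype.coe_mk, h1]
      have h2 : orderOf y ∣ Nat.card LG := Subgroup.orderOf_dvd_natCard LG hy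
      rw [hLGcard] at h2
      exact Nat.Coprime.coprime_dvd_left h2
        ((Nat.Prime.coprime_iff_not_dvd hq).mpr hqL).symm
    have hyH₂ : (⟨x₁⁻¹ * y * x₁, hyH⟩ : H) ∈ H₂ :=
      mem_normal_complement_of_coprime SH H₂ hH₂ _ hyo
    have hc := (Subgroup.commute_of_normal_of_disjoint _ _ hSHn hH₂n hdis s _ hs hyH₂).eq
    have hc' : (x₁⁻¹ * t * x₁) * (x₁⁻¹ * y * x₁) = (x₁⁻¹ * y * x₁) * (x₁⁻¹ * t * x₁) := by
      have := congrArg Subtype.val hc
      rw [← hse]
      simpa using this
    have e1 : t * y = x₁ * ((x₁⁻¹ * t * x₁) * (x₁⁻¹ * y * x₁)) * x₁⁻¹ := by group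
    have e2 : y * t = x₁ * ((x₁⁻¹ * y * x₁) * (x₁⁻¹ * t * x₁)) * x₁⁻¹ := by group
    rw [e1, e2, hc']
  -- the normalizer of `LG`
  have hTN : ((x₁ • SG : Sylow q G) : Subgroup G) ≤ normalizer (LG : Set G) := by
    intro t ht
    apply Subgroup.centralizer_le_normalizer
    rw [Subgroup.mem_centralizer_iff]
    intro y hy
    exact (hcent t ht y hy).symm
  have hKN : K ≤ normalizer (LG : Set G) := by
    intro y hy
    apply Subgroup.mem_normalizer_fintype
    intro l hl
    obtain ⟨l', hl', rfl⟩ := Subgroup.mem_map.mp hl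
    have := hLn.conj_mem l' hl' ⟨y, hy⟩
    exact Subgroup.mem_map.mpr ⟨_, this, by simp⟩
  -- a Sylow `q`-subgroup of `K`
  obtain ⟨Q₁⟩ : Nonempty (Sylow q K) := inferInstance
  set Q₁G : Subgroup G := (Q₁ : Subgroup K).map K.subtype with hQ₁G
  have hQ₁K : Q₁G ≤ K := Subgroup.map_subtype_le _
  obtain ⟨m, hmN, hm⟩ := exists_conj_mem_sylow_of_le (normalizer (LG : Set G)) (x₁ • SG) hTN Q₁G
    (Q₁.2.map _) (hQ₁K.trans hKN)
  -- `K = L Q₁`
  have hcardQ₁ : Nat.card (Q₁ : Subgroup K) = q ^ k := by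
    rw [Q₁.card_eq_multiplicity]
    congr 1
    rw [← Subgroup.card_mul_index L, hLk, Nat.factorization_mul Nat.card_pos.ne'
      (pow_ne_zero _ hq.ne_zero), Finsupp.add_apply, Nat.factorization_eq_zero_of_not_dvd hqL,
      zero_add, hq.factorization_pow, Finsupp.single_eq_same]
  have hcompl : L.IsComplement' (Q₁ : Subgroup K) := by
    apply Subgroup.isComplement'_of_coprime
    · rw [hcardQ₁, ← hLk]; exact Subgroup.card_mul_index L
    · rw [hcardQ₁]
      exact Nat.Coprime.pow_right k ((Nat.Prime.coprime_iff_not_dvd hq).mpr hqL).symm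
  refine ⟨m * x₁, ?_⟩
  intro y hy
  obtain ⟨⟨⟨l, hl⟩, ⟨a, ha⟩⟩, hla⟩ := hcompl.2 ⟨y, hy⟩
  have hla' : (l : G) * (a : G) = y := by
    have := congrArg Subtype.val hla
    simpa using this
  have hlLG : (l : G) ∈ LG := Subgroup.mem_map_of_mem K.subtype hl
  have haQ : (a : G) ∈ Q₁G := Subgroup.mem_map_of_mem K.subtype ha
  -- the `a` part
  have h1 : (m * x₁)⁻¹ * (a : G) * (m * x₁) ∈ H := by
    have h2 := hm _ haQ
    have h3 : x₁⁻¹ * (m⁻¹ * (a : G) * m) * x₁ ∈ H₁ := (mem_smul_sylow_iff x₁ _ SG).mp h2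
    have h4 : x₁⁻¹ * (m⁻¹ * (a : G) * m) * x₁ ∈ H := Subgroup.map_subtype_le _ h3
    have e : (m * x₁)⁻¹ * (a : G) * (m * x₁) = x₁⁻¹ * (m⁻¹ * (a : G) * m) * x₁ := by group
    rw [e]; exact h4
  -- the `l` part
  have h2 : (m * x₁)⁻¹ * (l : G) * (m * x₁) ∈ H := by
    have hm' : m⁻¹ ∈ normalizer (LG : Set G) := Subgroup.inv_mem _ hmN
    have h3 : m⁻¹ * (l : G) * m⁻¹⁻¹ ∈ LG := (Subgroup.mem_normalizer_iff.mp hm' _).mp hlLG
    rw [inv_inv] at h3
    have h4 := hx₁ _ h3
    have e : (m * x₁)⁻¹ * (l : G) * (m * x₁) = x₁⁻¹ * (m⁻¹ * (l : G) * m) * x₁ := by group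
    rw [e]; exact h4
  have e : (m * x₁)⁻¹ * y * (m * x₁)
      = ((m * x₁)⁻¹ * (l : G) * (m * x₁)) * ((m * x₁)⁻¹ * (a : G) * (m * x₁)) := by
    rw [← hla']; group
  rw [e]
  exact H.mul_mem h2 h1

end Cfsg.Agent.Lib.Helper29
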