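import Mathlib
import Cfsg.Agent.Lib.Helper16.FrakH2

set_option autoImplicit false

/-!
Helper29 library: Thompson–Wielandt pairs, part A.

`coreIn A S` is the core of `S` in `A` (the largest subgroup of `S ⊓ A` normalized by `A`), viewed
in the ambient group.  A `Pair A B` is a pair of distinct conjugate maximal subgroups with trivial
core (two point stabilizers of a faithful primitive permutation group).
-/

namespace Cfsg.Agent.Lib.Helper29.TWPair

open Cfsg Cfsg.Agent.Lib.Helper16

variable {G : Type*} [Group G]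

/-- The core of `S` in `A`, as a subgroup of the ambient group. -/
def coreIn (A S : Subgroup G) : Subgroup G := ((S.subgroupOf A).normalCore).map A.subtype

theorem mem_coreIn_iff {A S : Subgroup G} {x : G} :
    x ∈ coreIn A S ↔ x ∈ A ∧ ∀ a ∈ A, a * x * a⁻¹ ∈ S := by
  unfold coreIn
  constructor
  · rintro ⟨y, hy, rfl⟩
    refine ⟨y.2, fun a ha => ?_⟩
    have h := hy ⟨a, ha⟩
    rw [Subgroup.mem_subgroupOf] at h
    simpa using h
  · rintro ⟨hx, h⟩
    refine ⟨⟨x, hx⟩, ?_, rfl⟩
    intro b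
    rw [Subgroup.mem_subgroupOf]
    simpa using h b b.2

theorem coreIn_le_left (A S : Subgroup G) : coreIn A S ≤ A := fun _ hx => (mem_coreIn_iff.mp hx).1

theorem coreIn_le_right (A S : Subgroup G) : coreIn A S ≤ S := by
  intro x hx
  have h := (mem_coreIn_iff.mp hx).2 1 A.one_mem
  simpa using h

theorem le_normalizer_coreIn (A S : Subgroup G) :
    A ≤ Subgroup.normalizer ((coreIn A S : Subgroup G) : Set G) := by
  intro a ha
  rw [Subgroup.mem_normalizer_iff]
  intro x
  constructor
  · intro hx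
    obtain ⟨hxA, h⟩ := mem_coreIn_iff.mp hx
    refine mem_coreIn_iff.mpr ⟨A.mul_mem (A.mul_mem ha hxA) (A.inv_mem ha), fun b hb => ?_⟩
    have h2 := h (b * a) (A.mul_mem hb ha)
    have e : b * (a * x * a⁻¹) * b⁻¹ = b * a * x * (b * a)⁻¹ := by group
    rw [e]; exact h2
  · intro hx
    obtain ⟨hxA, h⟩ := mem_coreIn_iff.mp hx
    have hxA' : x ∈ A := by
      have := A.mul_mem (A.mul_mem (A.inv_mem ha) hxA) ha
      simpa [mul_assoc] using this
    refine mem_coreIn_iff.mpr ⟨hxA', fun b hb => ?_⟩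
    have h2 := h (b * a⁻¹) (A.mul_mem hb (A.inv_mem ha))
    have e : b * a⁻¹ * (a * x * a⁻¹) * (b * a⁻¹)⁻¹ = b * x * b⁻¹ := by group
    rw [e] at h2; exact h2

theorem le_coreIn {A S N : Subgroup G} (hNA : N ≤ A) (hNS : N ≤ S)
    (hAN : A ≤ Subgroup.normalizer (N : Set G)) : N ≤ coreIn A S := by
  intro x hx
  refine mem_coreIn_iff.mpr ⟨hNA hx, fun a ha => hNS ?_⟩
  exact (Subgroup.mem_normalizer_iff.mp (hAN ha) x).mp hx

theorem coreIn_mono {A S S' : Subgroup G} (h : S ≤ S') : coreIn A S ≤ coreIn A S' :=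
  le_coreIn (coreIn_le_left A S) ((coreIn_le_right A S).trans h) (le_normalizer_coreIn A S)

theorem coreIn_map_conj (A S : Subgroup G) (g : G) :
    (coreIn A S).map (MulAut.conj g).toMonoidHom =
      coreIn (A.map (MulAut.conj g).toMonoidHom) (S.map (MulAut.conj g).toMonoidHom) := by
  ext x
  rw [mem_map_conj_iff, mem_coreIn_iff, mem_coreIn_iff, mem_map_conj_iff]
  constructor
  · rintro ⟨h1, h2⟩
    refine ⟨h1, fun a ha => ?_⟩
    rw [mem_map_conj_iff] at ha ⊢
    have := h2 _ ha
    have e : g⁻¹ * (a * x * a⁻¹) * g = g⁻¹ * a * g * (g⁻¹ * x * g) * (g⁻¹ * a * g)⁻¹ := by group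
    rw [e]; exact this
  · rintro ⟨h1, h2⟩
    refine ⟨h1, fun a ha => ?_⟩
    have ha' : g * a * g⁻¹ ∈ A.map (MulAut.conj g).toMonoidHom := by
      rw [mem_map_conj_iff]
      have e : g⁻¹ * (g * a * g⁻¹) * g = a := by group
      rw [e]; exact ha
    have := h2 _ ha'
    rw [mem_map_conj_iff] at this
    have e : g⁻¹ * (g * a * g⁻¹ * x * (g * a * g⁻¹)⁻¹) * g = a * (g⁻¹ * x * g) * a⁻¹ := by group
    rw [e] at this; exact this

/-- For a maximal subgroup `A` with trivial core, a nontrivial subgroup of `A` normalized by `A`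
has normalizer exactly `A`. -/
theorem normalizer_eq_of_coatom {A N : Subgroup G} (hA : IsCoatom A) (hcore : A.normalCore = ⊥)
    (hN : N ≠ ⊥) (hNA : N ≤ A) (hAN : A ≤ Subgroup.normalizer (N : Set G)) :
    Subgroup.normalizer (N : Set G) = A := by
  rcases eq_or_ne (Subgroup.normalizer (N : Set G)) ⊤ with h | h
  · exfalso
    apply hN
    have hn : N.Normal := Subgroup.normalizer_eq_top_iff.mp h
    have : N ≤ A.normalCore := Subgroup.normal_le_normalCore.mpr hNA
    rw [hcore] at this
    exact le_bot_iff.mp this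
  · by_contra hne
    exact h (hA.2 _ (lt_of_le_of_ne hAN (Ne.symm hne)))

/-- A pair of distinct conjugate maximal subgroups with trivial core. -/
structure Pair (A B : Subgroup G) : Prop where
  coatomA : IsCoatom A
  coreA : A.normalCore = ⊥
  ne : A ≠ B
  conj : ∃ g : G, B = A.map (MulAut.conj g).toMonoidHom

theorem isCoatom_map_conj' {A : Subgroup G} (hA : IsCoatom A) (g : G) :
    IsCoatom (A.map (MulAut.conj g).toMonoidHom) := by
  have h := (OrderIso.isCoatom_iff ((MulAut.conj g).mapSubgroup) A).mpr hA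
  exact h

theorem normalCore_map_conj_eq_bot {A : Subgroup G} (hcore : A.normalCore = ⊥) (g : G) :
    (A.map (MulAut.conj g).toMonoidHom).normalCore = ⊥ := by
  set N := (A.map (MulAut.conj g).toMonoidHom).normalCore with hN
  have hNn : N.Normal := Subgroup.normalCore_normal _
  have hle : N ≤ A.map (MulAut.conj g).toMonoidHom := Subgroup.normalCore_le _
  have h1 : N ≤ A := by
    intro x hx
    have h2 : g * x * g⁻¹ ∈ N := hNn.conj_mem x hx g
    have h3 := hle h2
    rw [mem_map_conj_iff] at h3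
    have e : g⁻¹ * (g * x * g⁻¹) * g = x := by group
    rwa [e] at h3
  have h4 : N ≤ A.normalCore := Subgroup.normal_le_normalCore.mpr h1
  rw [hcore] at h4
  exact le_bot_iff.mp h4

theorem Pair.coatomB {A B : Subgroup G} (h : Pair A B) : IsCoatom B := by
  obtain ⟨g, rfl⟩ := h.conj
  exact isCoatom_map_conj' h.coatomA g

theorem Pair.coreB {A B : Subgroup G} (h : Pair A B) : B.normalCore = ⊥ := by
  obtain ⟨g, rfl⟩ := h.conj
  exact normalCore_map_conj_eq_bot h.coreA g

theorem Pair.symm {A B : Subgroup G} (h : Pair A B) : Pair B A where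
  coatomA := h.coatomB
  coreA := h.coreB
  ne := h.ne.symm
  conj := by
    obtain ⟨g, hg⟩ := h.conj
    refine ⟨g⁻¹, ?_⟩
    rw [hg, map_conj_inv_map_conj]

theorem Pair.normalizer_eq_left {A B N : Subgroup G} (h : Pair A B) (hN : N ≠ ⊥) (hNA : N ≤ A)
    (hAN : A ≤ Subgroup.normalizer (N : Set G)) : Subgroup.normalizer (N : Set G) = A :=
  normalizer_eq_of_coatom h.coatomA h.coreA hN hNA hAN

theorem Pair.normalizer_eq_right {A B N : Subgroup G} (h : Pair A B) (hN : N ≠ ⊥) (hNB : N ≤ B)
    (hBN : B ≤ Subgroup.normalizer (N : Set G)) : Subgroup.normalizer (N : Set G) = B :=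
  normalizer_eq_of_coatom h.coatomB h.coreB hN hNB hBN

/-- No nontrivial subgroup of `A` is normalized by both `A` and `B`. -/
theorem Pair.eq_bot_of_le_normalizer {A B N : Subgroup G} (h : Pair A B) (hNA : N ≤ A)
    (hAN : A ≤ Subgroup.normalizer (N : Set G)) (hBN : B ≤ Subgroup.normalizer (N : Set G)) :
    N = ⊥ := by
  by_contra hN
  have h1 := h.normalizer_eq_left hN hNA hAN
  rw [h1] at hBN
  have h2 : B = A := by
    by_contra hne
    exact h.coatomA.1 (h.coatomB.2 _ (lt_of_le_of_ne hBN hne))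
  exact h.ne h2.symm

end Cfsg.Agent.Lib.Helper29.TWPair
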