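import Mathlib
import Cfsg.Agent.Lib.Helper29.TWPairA
import Cfsg.Agent.Lib.Helper9.OmegaOdd

set_option autoImplicit false

/-!
Helper29 library: Thompson–Wielandt pairs, part B (the case `O_p(X) ≠ 1`).

For a pair `(A, B)` of distinct conjugate maximal subgroups with trivial core, let
`X = core_A(core_B(A ∩ B))`.  If `O_p(X) ≠ 1` then `C_A(O_p(A)) ≤ O_p(A)`.
-/

namespace Cfsg.Agent.Lib.Helper29.TWPair

open Cfsg Cfsg.Agent.Lib.Helper16
open scoped commutatorElement

variable {G : Type*} [Group G]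

theorem le_normalizer_inf' [Finite G] {H K L : Subgroup G}
    (hK : H ≤ Subgroup.normalizer (K : Set G)) (hL : H ≤ Subgroup.normalizer (L : Set G)) :
    H ≤ Subgroup.normalizer ((K ⊓ L : Subgroup G) : Set G) := by
  intro b hb
  apply mem_normalizer_of_map_conj_le
  refine (Subgroup.map_inf_le _ _ _).trans ?_
  rw [Helper16.map_conj_eq_of_mem_normalizer (hK hb), Helper16.map_conj_eq_of_mem_normalizer (hL hb)]

theorem le_normalizer_closure' [Finite G] {H : Subgroup G} {S : Set G}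
    (h : ∀ b ∈ H, ∀ s ∈ S, b * s * b⁻¹ ∈ S) :
    H ≤ Subgroup.normalizer ((Subgroup.closure S : Subgroup G) : Set G) := by
  intro b hb
  apply mem_normalizer_of_map_conj_le
  rw [MonoidHom.map_closure, Subgroup.closure_le]
  rintro _ ⟨s, hs, rfl⟩
  exact Subgroup.subset_closure (h b hb s hs)

theorem le_normalizer_sup' [Finite G] {H K L : Subgroup G}
    (hK : H ≤ Subgroup.normalizer (K : Set G)) (hL : H ≤ Subgroup.normalizer (L : Set G)) :
    H ≤ Subgroup.normalizer ((K ⊔ L : Subgroup G) : Set G) := by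
  intro b hb
  apply mem_normalizer_of_map_conj_le
  rw [Subgroup.map_sup, Helper16.map_conj_eq_of_mem_normalizer (hK hb), Helper16.map_conj_eq_of_mem_normalizer (hL hb)]

theorem le_normalizer_centralizer' [Finite G] {H K : Subgroup G}
    (hK : H ≤ Subgroup.normalizer (K : Set G)) :
    H ≤ Subgroup.normalizer ((Subgroup.centralizer (K : Set G) : Subgroup G) : Set G) := by
  intro b hb
  apply mem_normalizer_of_map_conj_le
  rw [← centralizer_map_conj, Helper16.map_conj_eq_of_mem_normalizer (hK hb)]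

/-- commutator of a subgroup `P` with `K`, where `P` normalizes `M ⊇ K`, lies in `M`. -/
theorem commutator_le_of_le_normalizer {P K M : Subgroup G} (hKM : K ≤ M)
    (hPM : P ≤ Subgroup.normalizer (M : Set G)) : ⁅P, K⁆ ≤ M := by
  rw [Subgroup.commutator_le]
  intro x hx y hy
  have h1 : x * y * x⁻¹ ∈ M := (Subgroup.mem_normalizer_iff.mp (hPM hx) y).mp (hKM hy)
  have e : ⁅x, y⁆ = x * y * x⁻¹ * y⁻¹ := rfl
  rw [e]
  exact M.mul_mem h1 (M.inv_mem (hKM hy))

/-- commutator of `P` with `K`, where `K` normalizes `P`, lies in `P`. -/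
theorem commutator_le_left_of_le_normalizer {P K : Subgroup G}
    (hKP : K ≤ Subgroup.normalizer (P : Set G)) : ⁅P, K⁆ ≤ P := by
  rw [Subgroup.commutator_le]
  intro x hx y hy
  have h1 : y * x⁻¹ * y⁻¹ ∈ P := (Subgroup.mem_normalizer_iff.mp (hKP hy) x⁻¹).mp (P.inv_mem hx)
  have e : ⁅x, y⁆ = x * (y * x⁻¹ * y⁻¹) := by
    show x * y * x⁻¹ * y⁻¹ = _
    group
  rw [e]
  exact P.mul_mem hx h1

section Main

variable [Finite G] {p : ℕ} [Fact p.Prime] {A B : Subgroup G}

/-- basic containments for `X = core_A(core_B(A ∩ B))`. -/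
theorem pCoreOf_X_le_left :
    pCoreOf p (coreIn A (coreIn B (A ⊓ B))) ≤ pCoreOf p A :=
  pCoreOf_le_pCoreOf_of_normal (coreIn_le_left _ _) (le_normalizer_coreIn _ _)

theorem coreIn_inf_le_left : coreIn B (A ⊓ B) ≤ A := (coreIn_le_right _ _).trans inf_le_left

theorem pCoreOf_X_le_right :
    pCoreOf p (coreIn A (coreIn B (A ⊓ B))) ≤ pCoreOf p B := by
  have h1 : pCoreOf p (coreIn A (coreIn B (A ⊓ B))) ≤ pCoreOf p (coreIn B (A ⊓ B)) :=
    pCoreOf_le_pCoreOf_of_normal (coreIn_le_right _ _)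
      (coreIn_inf_le_left.trans (le_normalizer_coreIn _ _))
  exact h1.trans (pCoreOf_le_pCoreOf_of_normal (coreIn_le_left _ _) (le_normalizer_coreIn _ _))

theorem Pair.normalizer_pCoreOf_X (h : Pair A B)
    (hR : pCoreOf p (coreIn A (coreIn B (A ⊓ B))) ≠ ⊥) :
    Subgroup.normalizer ((pCoreOf p (coreIn A (coreIn B (A ⊓ B))) : Subgroup G) : Set G) = A := by
  apply h.normalizer_eq_left hR ((pCoreOf_le _).trans (coreIn_le_left _ _))
  exact (le_normalizer_coreIn _ _).trans (normalizer_le_normalizer_pCoreOf _)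

/-- elements centralizing `O_p(B)` lie in `A`. -/
theorem Pair.centralizer_pCoreOf_le (h : Pair A B)
    (hR : pCoreOf p (coreIn A (coreIn B (A ⊓ B))) ≠ ⊥) :
    Subgroup.centralizer ((pCoreOf p B : Subgroup G) : Set G) ≤ A := by
  intro k hk
  have h1 : k ∈ Subgroup.centralizer
      ((pCoreOf p (coreIn A (coreIn B (A ⊓ B))) : Subgroup G) : Set G) :=
    Subgroup.centralizer_le pCoreOf_X_le_right hk
  have h2 := Subgroup.centralizer_le_normalizer _ h1
  rwa [h.normalizer_pCoreOf_X hR] at h2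

/-- the generating set of `O^p(C_B(O_p(B)))`. -/
def ppSet (p : ℕ) (B : Subgroup G) : Set G :=
  {k | k ∈ B ∧ k ∈ Subgroup.centralizer ((pCoreOf p B : Subgroup G) : Set G) ∧ (orderOf k).Coprime p}

/-- `O^p(C_B(O_p(B)))`: the subgroup generated by the `p'`-elements of `C_B(O_p(B))`. -/
def ppSub (p : ℕ) (B : Subgroup G) : Subgroup G := Subgroup.closure (ppSet p B)

theorem ppSub_le (B : Subgroup G) : ppSub p B ≤ B := by
  unfold ppSub
  rw [Subgroup.closure_le]
  intro k hk
  exact hk.1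

theorem ppSub_le_centralizer (B : Subgroup G) :
    ppSub p B ≤ Subgroup.centralizer ((pCoreOf p B : Subgroup G) : Set G) := by
  unfold ppSub
  rw [Subgroup.closure_le]
  intro k hk
  exact hk.2.1

theorem le_normalizer_ppSub (B : Subgroup G) :
    B ≤ Subgroup.normalizer ((ppSub p B : Subgroup G) : Set G) := by
  apply le_normalizer_closure'
  rintro b hb k ⟨hkB, hkC, hko⟩
  refine ⟨B.mul_mem (B.mul_mem hb hkB) (B.inv_mem hb), ?_, ?_⟩
  · have hn : b ∈ Subgroup.normalizer ((Subgroup.centralizer ((pCoreOf p B : Subgroup G) : Set G) :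
        Subgroup G) : Set G) := le_normalizer_centralizer' (le_normalizer_pCoreOf B) hb
    exact (Subgroup.mem_normalizer_iff.mp hn k).mp hkC
  · have e : orderOf (b * k * b⁻¹) = orderOf k := by
      have := orderOf_injective (MulAut.conj b).toMonoidHom (MulAut.conj b).injective k
      simpa using this
    rw [e]; exact hko

theorem ppSub_map_conj (B : Subgroup G) (g : G) :
    (ppSub p B).map (MulAut.conj g).toMonoidHom = ppSub p (B.map (MulAut.conj g).toMonoidHom) := by
  have key : ∀ (B : Subgroup G) (g : G), (ppSub p B).map (MulAut.conj g).toMonoidHom ≤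
      ppSub p (B.map (MulAut.conj g).toMonoidHom) := by
    intro B g
    unfold ppSub
    rw [MonoidHom.map_closure, Subgroup.closure_le]
    rintro _ ⟨k, ⟨hkB, hkC, hko⟩, rfl⟩
    apply Subgroup.subset_closure
    refine ⟨Subgroup.mem_map_of_mem _ hkB, ?_, ?_⟩
    · rw [pCoreOf_map_conj, centralizer_map_conj]
      exact Subgroup.mem_map_of_mem _ hkC
    · have e : orderOf ((MulAut.conj g).toMonoidHom k) = orderOf k :=
        orderOf_injective (MulAut.conj g).toMonoidHom (MulAut.conj g).injective k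
      rw [e]; exact hko
  apply le_antisymm (key B g)
  rw [le_map_conj_iff]
  have := key (B.map (MulAut.conj g).toMonoidHom) g⁻¹
  rwa [map_conj_inv_map_conj] at this

/-- Key step: a `p'`-element of `C_B(O_p(B))` centralizes `O_p(A)`. -/
theorem Pair.ppSet_le_centralizer (h : Pair A B)
    (hR : pCoreOf p (coreIn A (coreIn B (A ⊓ B))) ≠ ⊥) {k : G} (hk : k ∈ ppSet p B) :
    k ∈ Subgroup.centralizer ((pCoreOf p A : Subgroup G) : Set G) := by
  obtain ⟨hkB, hkC, hko⟩ := hk
  have hkA : k ∈ A := h.centralizer_pCoreOf_le hR hkC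
  -- the cyclic group generated by `k`
  have hKcop : (Nat.card (Subgroup.zpowers k)).Coprime p := by
    rw [Nat.card_zpowers]; exact hko
  have hKst : Helper9.PStable p (Subgroup.zpowers k) := Helper9.pStable_of_coprime p hKcop
  have hKA : Subgroup.zpowers k ≤ A := Subgroup.zpowers_le.mpr hkA
  have hKB : Subgroup.zpowers k ≤ B := Subgroup.zpowers_le.mpr hkB
  have hKC : Subgroup.zpowers k ≤ Subgroup.centralizer ((pCoreOf p B : Subgroup G) : Set G) :=
    Subgroup.zpowers_le.mpr hkC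
  have hKN₂ : Subgroup.zpowers k ≤ ppSub p B :=
    Subgroup.zpowers_le.mpr (Subgroup.subset_closure ⟨hkB, hkC, hko⟩)
  have hQ₂K : ⁅pCoreOf p B, Subgroup.zpowers k⁆ = ⊥ := by
    rw [Subgroup.commutator_comm]
    exact Subgroup.commutator_eq_bot_iff_le_centralizer.mpr hKC
  have hN₂A : ppSub p B ≤ A := (ppSub_le_centralizer B).trans (h.centralizer_pCoreOf_le hR)
  -- `K₂ = C_B(O_p(B))`
  have hBK₂ : B ≤ Subgroup.normalizer
      ((B ⊓ Subgroup.centralizer ((pCoreOf p B : Subgroup G) : Set G) : Subgroup G) : Set G) :=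
    le_normalizer_inf' Subgroup.le_normalizer (le_normalizer_centralizer' (le_normalizer_pCoreOf B))
  have hKK₂ : Subgroup.zpowers k ≤
      B ⊓ Subgroup.centralizer ((pCoreOf p B : Subgroup G) : Set G) := le_inf hKB hKC
  -- `P = O_p(A) ∩ K₂`
  have hPp : IsPGroup p ↥(pCoreOf p A ⊓
      (B ⊓ Subgroup.centralizer ((pCoreOf p B : Subgroup G) : Set G))) :=
    (pCoreOf_isPGroup A).to_le inf_le_left
  have hPA : pCoreOf p A ⊓ (B ⊓ Subgroup.centralizer ((pCoreOf p B : Subgroup G) : Set G)) ≤ A :=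
    inf_le_left.trans (pCoreOf_le A)
  have hPB : pCoreOf p A ⊓ (B ⊓ Subgroup.centralizer ((pCoreOf p B : Subgroup G) : Set G)) ≤ B :=
    inf_le_right.trans inf_le_left
  have hDP : A ⊓ B ≤ Subgroup.normalizer ((pCoreOf p A ⊓
      (B ⊓ Subgroup.centralizer ((pCoreOf p B : Subgroup G) : Set G)) : Subgroup G) : Set G) :=
    le_normalizer_inf' (inf_le_left.trans (le_normalizer_pCoreOf A)) (inf_le_right.trans hBK₂)
  have hKD : Subgroup.zpowers k ≤ A ⊓ B := le_inf hKA hKB
  -- step (a): `K` centralizes `P`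
  have h5a : ⁅pCoreOf p A ⊓ (B ⊓ Subgroup.centralizer ((pCoreOf p B : Subgroup G) : Set G)),
      Subgroup.zpowers k⁆ = ⊥ := by
    apply hKst ((pCoreOf p A ⊓ (B ⊓ Subgroup.centralizer ((pCoreOf p B : Subgroup G) : Set G))) ⊓
      pCoreOf p B) _ hPp inf_le_left
    · exact le_bot_iff.mp (hQ₂K ▸ Subgroup.commutator_mono inf_le_right le_rfl)
    · apply le_inf
      · exact commutator_le_left_of_le_normalizer (hKD.trans hDP)
      · have h1 : ⁅pCoreOf p A ⊓ (B ⊓ Subgroup.centralizer ((pCoreOf p B : Subgroup G) : Set G)),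
            Subgroup.zpowers k⁆ ≤ (pCoreOf p A ⊓
              (B ⊓ Subgroup.centralizer ((pCoreOf p B : Subgroup G) : Set G))) ⊓ ppSub p B :=
          le_inf (commutator_le_left_of_le_normalizer (hKD.trans hDP))
            (commutator_le_of_le_normalizer hKN₂ (hPB.trans (le_normalizer_ppSub B)))
        have h2 : (pCoreOf p A ⊓
            (B ⊓ Subgroup.centralizer ((pCoreOf p B : Subgroup G) : Set G))) ⊓ ppSub p B ≤
            pCoreOf p B := by
          have h3 : (pCoreOf p A ⊓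
              (B ⊓ Subgroup.centralizer ((pCoreOf p B : Subgroup G) : Set G))) ⊓ ppSub p B ≤
              pCoreOf p (ppSub p B) := by
            apply le_pCoreOf inf_le_right _ (hPp.to_le inf_le_left)
            exact le_normalizer_inf' ((le_inf hN₂A (ppSub_le B)).trans hDP) Subgroup.le_normalizer
          exact h3.trans (pCoreOf_le_pCoreOf_of_normal (ppSub_le B) (le_normalizer_ppSub B))
        exact h1.trans h2
  -- step (b): `K` centralizes `O_p(A) ∩ A ∩ B`
  have h5b : ⁅pCoreOf p A ⊓ (A ⊓ B), Subgroup.zpowers k⁆ = ⊥ := by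
    apply hKst (pCoreOf p A ⊓ (B ⊓ Subgroup.centralizer ((pCoreOf p B : Subgroup G) : Set G))) _
      ((pCoreOf_isPGroup A).to_le inf_le_left) (le_inf inf_le_left (le_inf hPA hPB)) h5a
    apply le_inf
    · refine (Subgroup.commutator_mono inf_le_left le_rfl).trans ?_
      exact commutator_le_left_of_le_normalizer (hKA.trans (le_normalizer_pCoreOf A))
    · exact commutator_le_of_le_normalizer hKK₂ ((inf_le_right.trans inf_le_right).trans hBK₂)
  -- step (c): the `A × B` lemma with `T₀ = O_p(B) ∩ B₁`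
  have hT₀B : B ≤ Subgroup.normalizer
      ((pCoreOf p B ⊓ coreIn B (A ⊓ B) : Subgroup G) : Set G) :=
    le_normalizer_inf' (le_normalizer_pCoreOf B) (le_normalizer_coreIn B _)
  have hRT₀ : pCoreOf p (coreIn A (coreIn B (A ⊓ B))) ≤ pCoreOf p B ⊓ coreIn B (A ⊓ B) :=
    le_inf pCoreOf_X_le_right ((pCoreOf_le _).trans (coreIn_le_right A _))
  have hT₀ne : pCoreOf p B ⊓ coreIn B (A ⊓ B) ≠ ⊥ := by
    intro h0
    rw [h0] at hRT₀
    exact hR (le_bot_iff.mp hRT₀)
  have hNT₀ : Subgroup.normalizer ((pCoreOf p B ⊓ coreIn B (A ⊓ B) : Subgroup G) : Set G) = B :=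
    h.normalizer_eq_right hT₀ne (inf_le_left.trans (pCoreOf_le B)) hT₀B
  have hT₀A : pCoreOf p B ⊓ coreIn B (A ⊓ B) ≤ A := inf_le_right.trans coreIn_inf_le_left
  have hT₀p : IsPGroup p ↥(pCoreOf p B ⊓ coreIn B (A ⊓ B)) :=
    (pCoreOf_isPGroup B).to_le inf_le_left
  have hT₀Q₁ : pCoreOf p B ⊓ coreIn B (A ⊓ B) ≤
      Subgroup.normalizer ((pCoreOf p A : Subgroup G) : Set G) :=
    hT₀A.trans (le_normalizer_pCoreOf A)
  have hHp : IsPGroup p ↥(pCoreOf p A ⊔ (pCoreOf p B ⊓ coreIn B (A ⊓ B))) :=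
    IsPGroup.to_sup_of_normal_left' (pCoreOf_isPGroup A) hT₀p hT₀Q₁
  have hT₀K : ⁅pCoreOf p B ⊓ coreIn B (A ⊓ B), Subgroup.zpowers k⁆ = ⊥ :=
    le_bot_iff.mp (hQ₂K ▸ Subgroup.commutator_mono inf_le_left le_rfl)
  have hmain : ⁅pCoreOf p A ⊔ (pCoreOf p B ⊓ coreIn B (A ⊓ B)), Subgroup.zpowers k⁆ = ⊥ := by
    apply Helper9.commutator_eq_bot_of_centralizes_centralizer hHp le_sup_right
      (le_normalizer_sup' (hKA.trans (le_normalizer_pCoreOf A)) (hKB.trans hT₀B))
      _ _ hKst
    · rw [← Subgroup.commutator_eq_bot_iff_le_centralizer, Subgroup.commutator_comm]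
      exact hT₀K
    · rw [Subgroup.commutator_eq_bot_iff_le_centralizer]
      rintro x ⟨hx1, hx2⟩
      have hxB : x ∈ B := by
        have := Subgroup.centralizer_le_normalizer _ hx2
        rwa [hNT₀] at this
      have hx1' : x ∈ ((pCoreOf p A ⊔ (pCoreOf p B ⊓ coreIn B (A ⊓ B)) : Subgroup G) : Set G) :=
        hx1
      rw [Subgroup.coe_mul_of_right_le_normalizer_left _ _ hT₀Q₁] at hx1'
      obtain ⟨q, hq, t, ht, rfl⟩ := hx1'
      have hqB : q ∈ B := by
        have htB : t ∈ B := (inf_le_left.trans (pCoreOf_le B)) ht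
        have := B.mul_mem hxB (B.inv_mem htB)
        simpa using this
      have hq' : q ∈ pCoreOf p A ⊓ (A ⊓ B) := ⟨hq, pCoreOf_le A hq, hqB⟩
      have hqc : q ∈ Subgroup.centralizer ((Subgroup.zpowers k : Subgroup G) : Set G) :=
        Subgroup.commutator_eq_bot_iff_le_centralizer.mp h5b hq'
      have htc : t ∈ Subgroup.centralizer ((Subgroup.zpowers k : Subgroup G) : Set G) :=
        Subgroup.commutator_eq_bot_iff_le_centralizer.mp hT₀K ht
      exact Subgroup.mul_mem _ hqc htc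
  have hfin : ⁅pCoreOf p A, Subgroup.zpowers k⁆ = ⊥ :=
    le_bot_iff.mp (hmain ▸ Subgroup.commutator_mono le_sup_left le_rfl)
  rw [Subgroup.commutator_comm, Subgroup.commutator_eq_bot_iff_le_centralizer] at hfin
  exact hfin (Subgroup.mem_zpowers k)

theorem Pair.ppSub_eq_bot (h : Pair A B)
    (hR : pCoreOf p (coreIn A (coreIn B (A ⊓ B))) ≠ ⊥) : ppSub p A = ⊥ := by
  have h1 : ppSub p B ≤ ppSub p A := by
    unfold ppSub
    rw [Subgroup.closure_le]
    intro k hk
    apply Subgroup.subset_closure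
    exact ⟨h.centralizer_pCoreOf_le hR hk.2.1, h.ppSet_le_centralizer hR hk, hk.2.2⟩
  obtain ⟨g, hg⟩ := h.conj
  have h2 : ppSub p B = ppSub p A := by
    have h3 : (ppSub p A).map (MulAut.conj g).toMonoidHom ≤ ppSub p A := by
      rw [ppSub_map_conj, ← hg]; exact h1
    have h4 := Subgroup.eq_of_le_of_card_ge h3 (card_map_conj (ppSub p A) g).ge
    rw [ppSub_map_conj, ← hg] at h4
    exact h4
  apply h.eq_bot_of_le_normalizer (ppSub_le A) (le_normalizer_ppSub A)
  rw [← h2]
  exact le_normalizer_ppSub B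

/-- **Case `O_p(X) ≠ 1`**: `C_A(O_p(A)) ≤ O_p(A)` (in the ambient group). -/
theorem Pair.inf_centralizer_le_pCoreOf (h : Pair A B)
    (hR : pCoreOf p (coreIn A (coreIn B (A ⊓ B))) ≠ ⊥) :
    A ⊓ Subgroup.centralizer ((pCoreOf p A : Subgroup G) : Set G) ≤ pCoreOf p A := by
  have hbot := h.ppSub_eq_bot hR
  have hCp : IsPGroup p ↥(A ⊓ Subgroup.centralizer ((pCoreOf p A : Subgroup G) : Set G)) := by
    apply isPGroup_of_coprime_trivial
    intro x hx hxo
    have : x ∈ ppSub p A := Subgroup.subset_closure ⟨hx.1, hx.2, hxo⟩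
    rw [hbot] at this
    exact Subgroup.mem_bot.mp this
  apply le_pCoreOf inf_le_left _ hCp
  exact le_normalizer_inf' Subgroup.le_normalizer
    (le_normalizer_centralizer' (le_normalizer_pCoreOf A))

omit [Finite G] [Fact p.Prime] in
/-- translation of `C_A(O_p(A)) ≤ O_p(A)` to the subtype `↥A`. -/
theorem charP_subtype_of_inf_centralizer_le {A : Subgroup G}
    (hle : A ⊓ Subgroup.centralizer ((pCoreOf p A : Subgroup G) : Set G) ≤ pCoreOf p A) :
    Subgroup.centralizer (pCore p ↥A : Set ↥A) ≤ pCore p ↥A := by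
  intro x hx
  have hx' : (x : G) ∈ A ⊓ Subgroup.centralizer ((pCoreOf p A : Subgroup G) : Set G) := by
    refine Subgroup.mem_inf.mpr ⟨x.2, ?_⟩
    rw [Subgroup.mem_centralizer_iff]
    rintro _ ⟨y, hy, rfl⟩
    have := Subgroup.mem_centralizer_iff.mp hx y hy
    have h2 := congrArg (fun z : ↥A => (z : G)) this
    simpa using h2
  obtain ⟨y, hy, hyx⟩ := hle hx'
  have : y = x := Subtype.ext hyx
  rw [← this]; exact hy

theorem Pair.charP_left (h : Pair A B)
    (hR : pCoreOf p (coreIn A (coreIn B (A ⊓ B))) ≠ ⊥) :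
    Subgroup.centralizer (pCore p ↥A : Set ↥A) ≤ pCore p ↥A :=
  charP_subtype_of_inf_centralizer_le (h.inf_centralizer_le_pCoreOf hR)

end Main

end Cfsg.Agent.Lib.Helper29.TWPair
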