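import Mathlib
import Cfsg.Agent.Lib.Helper29.TWPairB
import Cfsg.Agent.Lib.Helper9.FStar4
import Cfsg.Agent.Lib.Helper9.Components
import Cfsg.Agent.Lib.Helper9.PLocal2
import Cfsg.Agent.Lib.Helper25.CharP
import Cfsg.Agent.Lib.Helper1.Zipper
import Cfsg.Agent.Lib.Helper1.Fitting
import Cfsg.Agent.S3752

set_option autoImplicit false

/-!
Helper29 library: Thompson–Wielandt pairs, part C.

Main result (`Pair.exists_fstar_eq_pCore`): for a pair `(A, B)` of distinct conjugate maximal
subgroups with trivial core, if both `X = core_A(core_B(A ∩ B))` and `Y = core_B(core_A(A ∩ B))`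
are nontrivial then `F*(A) = O_p(A)` for some prime `p`.
-/

namespace Cfsg.Agent.Lib.Helper29.TWPair

open Cfsg Cfsg.Agent.Lib.Helper16
open scoped commutatorElement

variable {G : Type*} [Group G]

/-- `E(X)` as a subgroup of the ambient group. -/
def layerOf (X : Subgroup G) : Subgroup G := (layer ↥X).map X.subtype

theorem layerOf_le (X : Subgroup G) : layerOf X ≤ X := Subgroup.map_subtype_le _

theorem layerOf_map_conj (X : Subgroup G) (a : G) :
    layerOf (X.map (MulAut.conj a).toMonoidHom) =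
      (layerOf X).map (MulAut.conj a).toMonoidHom := by
  unfold layerOf
  rw [← Helper9.layer_map_equiv (X.equivMapOfInjective _ (MulAut.conj a).injective),
    Subgroup.map_map, Subgroup.map_map]
  congr 1

theorem normalizer_le_normalizer_layerOf [Finite G] (X : Subgroup G) :
    Subgroup.normalizer (X : Set G) ≤ Subgroup.normalizer ((layerOf X : Subgroup G) : Set G) := by
  intro a ha
  apply mem_normalizer_of_map_conj_le
  rw [← layerOf_map_conj, Helper16.map_conj_eq_of_mem_normalizer ha]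

/-- a subgroup of `↥B` normalizing `X.subgroupOf B` maps into the normalizer of `X`. -/
theorem map_subtype_le_normalizer [Finite G] {B X : Subgroup G} (hXB : X ≤ B) {K : Subgroup ↥B}
    (hK : K ≤ Subgroup.normalizer ((X.subgroupOf B : Subgroup ↥B) : Set ↥B)) :
    K.map B.subtype ≤ Subgroup.normalizer (X : Set G) := by
  rintro _ ⟨e, he, rfl⟩
  apply mem_normalizer_of_map_conj_le
  rintro _ ⟨x, hx, rfl⟩
  have h1 := (Subgroup.mem_normalizer_iff.mp (hK he) ⟨x, hXB hx⟩).mp
    (by rw [Subgroup.mem_subgroupOf]; exact hx)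
  rw [Subgroup.mem_subgroupOf] at h1
  simpa using h1

section Main

variable [Finite G] {A B : Subgroup G}

theorem subIn_X : Helper1.SubIn (coreIn A (coreIn B (A ⊓ B))) B :=
  (Helper1.SubIn.of_le_normalizer (coreIn_le_right _ _)
    (coreIn_inf_le_left.trans (le_normalizer_coreIn _ _))).trans
    (Helper1.SubIn.of_le_normalizer (coreIn_le_left _ _) (le_normalizer_coreIn _ _))

/-- `E(B) ≤ A` when `X ≠ 1`. -/
theorem Pair.layerOf_right_le (h : Pair A B) (hX : coreIn A (coreIn B (A ⊓ B)) ≠ ⊥) :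
    layerOf B ≤ A := by
  have h1 := Helper9.layer_le_normalizer_of_isSubnormal (G := ↥B) (subIn_X (A := A) (B := B)).2
  have h2 := map_subtype_le_normalizer (subIn_X (A := A) (B := B)).1 h1
  rw [h.normalizer_eq_left hX (coreIn_le_left _ _) (le_normalizer_coreIn _ _)] at h2
  exact h2

theorem fittingSubgroup_eq_bot_of_pCoreOf {X : Subgroup G}
    (hp : ∀ p : ℕ, p.Prime → pCoreOf p X = ⊥) : fittingSubgroup ↥X = ⊥ := by
  rw [Helper1.fittingSubgroup_eq_iSup_pCore]
  apply le_bot_iff.mp
  apply iSup_le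
  intro p
  have h1 := hp p p.2
  unfold pCoreOf at h1
  rw [(Subgroup.map_eq_bot_iff_of_injective _ X.subtype_injective).mp h1]

theorem layerOf_ne_bot_of_pCoreOf {X : Subgroup G} (hX : X ≠ ⊥)
    (hp : ∀ p : ℕ, p.Prime → pCoreOf p X = ⊥) : layerOf X ≠ ⊥ := by
  intro h0
  have hl : layer ↥X = ⊥ := by
    unfold layerOf at h0
    exact (Subgroup.map_eq_bot_iff_of_injective _ X.subtype_injective).mp h0
  have hF : generalizedFittingSubgroup ↥X = ⊥ := by
    unfold generalizedFittingSubgroup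
    rw [hl, fittingSubgroup_eq_bot_of_pCoreOf hp, sup_bot_eq]
  have hc := Helper9.centralizer_generalizedFittingSubgroup_le (G := ↥X)
  rw [hF] at hc
  apply hX
  rw [eq_bot_iff]
  intro x hx
  have h1 : (⟨x, hx⟩ : ↥X) ∈ Subgroup.centralizer (((⊥ : Subgroup ↥X) : Subgroup ↥X) : Set ↥X) := by
    rw [Subgroup.mem_centralizer_iff]
    intro y hy
    have : y = 1 := Subgroup.mem_bot.mp hy
    rw [this]; simp
  have h2 := hc h1
  have h3 : (⟨x, hx⟩ : ↥X) = 1 := Subgroup.mem_bot.mp h2
  have := congrArg (fun z : ↥X => (z : G)) h3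
  simpa using this

/-- **Case `F(X) = 1`**: `F*(B) ≤ A`. -/
theorem Pair.fstar_right_le (h : Pair A B) (hX : coreIn A (coreIn B (A ⊓ B)) ≠ ⊥)
    (hp : ∀ p : ℕ, p.Prime → pCoreOf p (coreIn A (coreIn B (A ⊓ B))) = ⊥) :
    (generalizedFittingSubgroup ↥B).map B.subtype ≤ A := by
  unfold generalizedFittingSubgroup
  rw [Subgroup.map_sup]
  apply sup_le (h.layerOf_right_le hX)
  -- `F(B)` centralizes `E(B) ≥ E(X) ≠ 1`
  have hEne := layerOf_ne_bot_of_pCoreOf hX hp
  have hEX : layerOf (coreIn A (coreIn B (A ⊓ B))) ≤ layerOf B :=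
    Helper9.layer_map_subtype_le_of_subnormal_in _ _ (subIn_X (A := A) (B := B)).1
      (subIn_X (A := A) (B := B)).2
  have hN : Subgroup.normalizer
      ((layerOf (coreIn A (coreIn B (A ⊓ B))) : Subgroup G) : Set G) = A :=
    h.normalizer_eq_left hEne ((layerOf_le _).trans (coreIn_le_left _ _))
      ((le_normalizer_coreIn _ _).trans (normalizer_le_normalizer_layerOf _))
  have hcomm := Helper9.commutator_layer_fittingSubgroup (G := ↥B)
  rw [Subgroup.commutator_comm, Subgroup.commutator_eq_bot_iff_le_centralizer] at hcomm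
  rintro _ ⟨f, hf, rfl⟩
  have h1 : (f : G) ∈ Subgroup.centralizer ((layerOf B : Subgroup G) : Set G) := by
    rw [Subgroup.mem_centralizer_iff]
    rintro _ ⟨e, he, rfl⟩
    have := Subgroup.mem_centralizer_iff.mp (hcomm hf) e he
    have h2 := congrArg (fun z : ↥B => (z : G)) this
    simpa using h2
  have h2 : (f : G) ∈ Subgroup.centralizer
      ((layerOf (coreIn A (coreIn B (A ⊓ B))) : Subgroup G) : Set G) :=
    Subgroup.centralizer_le hEX h1
  have h3 := Subgroup.centralizer_le_normalizer _ h2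
  rwa [hN] at h3

/-- **Thompson–Wielandt, part 1.** -/
theorem Pair.exists_fstar_eq_pCore (h : Pair A B) (hX : coreIn A (coreIn B (A ⊓ B)) ≠ ⊥)
    (hY : coreIn B (coreIn A (A ⊓ B)) ≠ ⊥) :
    ∃ p : ℕ, p.Prime ∧ generalizedFittingSubgroup ↥A = pCore p ↥A := by
  have hY' : coreIn B (coreIn A (B ⊓ A)) ≠ ⊥ := by rwa [inf_comm]
  by_cases h1 : ∃ p : ℕ, p.Prime ∧ pCoreOf p (coreIn A (coreIn B (A ⊓ B))) ≠ ⊥
  · obtain ⟨p, hp, hR⟩ := h1
    haveI : Fact p.Prime := ⟨hp⟩
    refine ⟨p, hp, ?_⟩
    exact Helper25.generalizedFittingSubgroup_eq_pCore_of_normal_pSubgroup (pCore p ↥A)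
      (Helper1.pCore_normal p ↥A) (Helper1.pCore_isPGroup p ↥A) (h.charP_left hR)
  · by_cases h2 : ∃ p : ℕ, p.Prime ∧ pCoreOf p (coreIn B (coreIn A (B ⊓ A))) ≠ ⊥
    · obtain ⟨p, hp, hR⟩ := h2
      haveI : Fact p.Prime := ⟨hp⟩
      refine ⟨p, hp, ?_⟩
      have hB : generalizedFittingSubgroup ↥B = pCore p ↥B :=
        Helper25.generalizedFittingSubgroup_eq_pCore_of_normal_pSubgroup (pCore p ↥B)
          (Helper1.pCore_normal p ↥B) (Helper1.pCore_isPGroup p ↥B) (h.symm.charP_left hR)
      obtain ⟨g, hg⟩ := h.symm.conj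
      exact Helper9.generalizedFittingSubgroup_eq_pCore_of_equiv p
        ((B.equivMapOfInjective _ (MulAut.conj g).injective).trans
          (MulEquiv.subgroupCongr hg.symm)) hB
    · push Not at h1 h2
      have hFB := h.fstar_right_le hX h1
      have hFA := h.symm.fstar_right_le hY' h2
      obtain ⟨p, hp, hc, -, -⟩ := Cfsg.Agent.S3752.result A B h.ne
        (by
          intro S hS hSD
          constructor
          · intro hn
            rw [h.normalizer_eq_left hS (hSD.trans inf_le_left) hn, inf_comm]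
          · intro hn
            rw [h.normalizer_eq_right hS (hSD.trans inf_le_right) hn]) hFA hFB
      haveI : Fact p.Prime := ⟨hp⟩
      refine ⟨p, hp, ?_⟩
      exact Helper25.generalizedFittingSubgroup_eq_pCore_of_normal_pSubgroup (pCore p ↥A)
        (Helper1.pCore_normal p ↥A) (Helper1.pCore_isPGroup p ↥A) hc

end Main

end Cfsg.Agent.Lib.Helper29.TWPair
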