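import Mathlib
import Cfsg.Agent.Lib.Helper29.TWPairC

set_option autoImplicit false

/-!
Helper29 library: Thompson–Wielandt pairs, part D (the second core is a `p`-group).

For a pair `(A, B)` of distinct conjugate maximal subgroups with trivial core and a prime `p` with
`O_p(A) ≠ 1`, the subgroup `X = core_A(core_B(A ∩ B))` is a `p`-group
(`Pair.isPGroup_X`).  The proof: if `T = O^p(X) ≠ 1` then `N_G(T) = A`; normal `p`-subgroups
normalize subnormal `p`-perfect subgroups, which gives `O_p(B) ≤ A` and `O_p(A) ∩ B ≤ O_p(B)`;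
the normalizer condition in the `p`-group `O_p(A) O_p(B)` then forces `O_p(A) = O_p(B)`.
-/

namespace Cfsg.Agent.Lib.Helper29.TWPair

open Cfsg Cfsg.Agent.Lib.Helper16

variable {G : Type*} [Group G]

/-- powers of a product `x * w` with `x ∈ X` and `w` normalizing `X`. -/
theorem exists_mul_pow_eq {X : Subgroup G} {x w : G} (hx : x ∈ X)
    (hw : w ∈ Subgroup.normalizer (X : Set G)) (j : ℕ) : ∃ y ∈ X, (x * w) ^ j = y * w ^ j := by
  induction j with
  | zero => exact ⟨1, X.one_mem, by simp⟩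
  | succ j ih =>
    obtain ⟨y, hy, hyj⟩ := ih
    have hwj : w ^ j ∈ Subgroup.normalizer (X : Set G) := Subgroup.pow_mem _ hw j
    have h1 : w ^ j * x * (w ^ j)⁻¹ ∈ X := (Subgroup.mem_normalizer_iff.mp hwj x).mp hx
    refine ⟨y * (w ^ j * x * (w ^ j)⁻¹), X.mul_mem hy h1, ?_⟩
    rw [pow_succ, hyj, pow_succ]
    group

/-- an element `z` normalizing `X`, of order prime to `p`, which differs from an element of `X`
by an element of `p`-power order, lies in `X`. -/
theorem mem_of_coprime_of_pow_eq_one {p : ℕ} {X : Subgroup G} {x z : G} (hx : x ∈ X)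
    (hz : z ∈ Subgroup.normalizer (X : Set G)) (hzo : (orderOf z).Coprime p) {k : ℕ}
    (hw : (x⁻¹ * z) ^ (p ^ k) = 1) : z ∈ X := by
  have hxn : x ∈ Subgroup.normalizer (X : Set G) := Subgroup.le_normalizer hx
  have hwn : x⁻¹ * z ∈ Subgroup.normalizer (X : Set G) :=
    Subgroup.mul_mem _ (Subgroup.inv_mem _ hxn) hz
  obtain ⟨y, hy, hyk⟩ := exists_mul_pow_eq hx hwn (p ^ k)
  have e : x * (x⁻¹ * z) = z := by group
  rw [e, hw, mul_one] at hyk
  have hc : (p ^ k).Coprime (orderOf z) := (Nat.Coprime.pow_right k hzo).symm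
  obtain ⟨m, hm⟩ := exists_pow_eq_self_of_coprime hc
  rw [← hm, hyk]
  exact X.pow_mem hy m

section Main

variable [Finite G] {p : ℕ} [Fact p.Prime]

/-- **Wielandt's lemma** (in the form needed): a `p`-subgroup `P` normalizing `M` and normalized by
`M`, where `X ⊴ M`, normalizes `O^p(X)`. -/
theorem le_normalizer_OpOf {X M P : Subgroup G} (hXM : X ≤ M)
    (hMX : M ≤ Subgroup.normalizer (X : Set G)) (hP : IsPGroup p ↥P)
    (hMP : M ≤ Subgroup.normalizer (P : Set G)) (hPM : P ≤ Subgroup.normalizer (M : Set G)) :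
    P ≤ Subgroup.normalizer ((OpOf p X : Subgroup G) : Set G) := by
  unfold OpOf
  apply le_normalizer_closure'
  rintro y hy x ⟨hxX, hxo⟩
  have hxM : x ∈ M := hXM hxX
  have hzM : y * x * y⁻¹ ∈ M := (Subgroup.mem_normalizer_iff.mp (hPM hy) x).mp hxM
  have hzo : orderOf (y * x * y⁻¹) = orderOf x := by
    have := orderOf_injective (MulAut.conj y).toMonoidHom (MulAut.conj y).injective x
    simpa using this
  have hxinv : x⁻¹ ∈ Subgroup.normalizer (P : Set G) := Subgroup.inv_mem _ (hMP hxM)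
  have h1 : x⁻¹ * y * x⁻¹⁻¹ ∈ P := (Subgroup.mem_normalizer_iff.mp hxinv y).mp hy
  have h2 : x⁻¹ * (y * x * y⁻¹) ∈ P := by
    have e : x⁻¹ * (y * x * y⁻¹) = x⁻¹ * y * x⁻¹⁻¹ * y⁻¹ := by group
    rw [e]
    exact P.mul_mem h1 (P.inv_mem hy)
  obtain ⟨k, hk⟩ := hP ⟨x⁻¹ * (y * x * y⁻¹), h2⟩
  have hk' : (x⁻¹ * (y * x * y⁻¹)) ^ (p ^ k) = 1 := by
    have := congrArg (fun t : ↥P => (t : G)) hk
    simpa using this
  refine ⟨mem_of_coprime_of_pow_eq_one hxX (hMX hzM) (hzo ▸ hxo) hk', hzo ▸ hxo⟩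

theorem le_normalizer_OpOf_of_le_normalizer {X H : Subgroup G}
    (h : H ≤ Subgroup.normalizer (X : Set G)) :
    H ≤ Subgroup.normalizer ((OpOf p X : Subgroup G) : Set G) := by
  unfold OpOf
  apply le_normalizer_closure'
  rintro b hb x ⟨hxX, hxo⟩
  refine ⟨(Subgroup.mem_normalizer_iff.mp (h hb) x).mp hxX, ?_⟩
  have e : orderOf (b * x * b⁻¹) = orderOf x := by
    have := orderOf_injective (MulAut.conj b).toMonoidHom (MulAut.conj b).injective x
    simpa using this
  rw [e]; exact hxo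

variable {A B : Subgroup G}

/-- `B₁ = core_B(A ∩ B)` lies in every `B`-conjugate of `A`. -/
theorem coreIn_le_map_conj {b : G} (hb : b ∈ B) :
    coreIn B (A ⊓ B) ≤ A.map (MulAut.conj b).toMonoidHom := by
  intro x hx
  rw [mem_map_conj_iff]
  have := (mem_coreIn_iff.mp hx).2 b⁻¹ (B.inv_mem hb)
  rw [inv_inv] at this
  exact this.1

/-- **Thompson–Wielandt, part 2**: if `O_p(A) ≠ 1` then `X = core_A(core_B(A ∩ B))` is a
`p`-group. -/
theorem Pair.isPGroup_X (h : Pair A B) (hQ : pCoreOf p A ≠ ⊥) :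
    IsPGroup p ↥(coreIn A (coreIn B (A ⊓ B))) := by
  by_contra hnp
  set X := coreIn A (coreIn B (A ⊓ B)) with hXdef
  set B₁ := coreIn B (A ⊓ B) with hB₁def
  -- `T = O^p(X) ≠ 1`
  have hT : OpOf p X ≠ ⊥ := by
    intro h0
    apply hnp
    apply isPGroup_of_coprime_trivial
    intro x hx hxo
    have : x ∈ OpOf p X := mem_OpOf_of_coprime hx hxo
    rw [h0] at this
    exact Subgroup.mem_bot.mp this
  have hXA : X ≤ A := coreIn_le_left _ _
  have hXB₁ : X ≤ B₁ := coreIn_le_right _ _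
  have hAX : A ≤ Subgroup.normalizer (X : Set G) := le_normalizer_coreIn _ _
  have hB₁A : B₁ ≤ A := coreIn_inf_le_left
  have hB₁B : B₁ ≤ B := coreIn_le_left _ _
  have hBB₁ : B ≤ Subgroup.normalizer (B₁ : Set G) := le_normalizer_coreIn _ _
  have hNT : Subgroup.normalizer ((OpOf p X : Subgroup G) : Set G) = A :=
    h.normalizer_eq_left hT ((OpOf_le X).trans hXA) (le_normalizer_OpOf_of_le_normalizer hAX)
  -- Step A: `O_p(B) ≤ A`
  have hQBA : pCoreOf p B ≤ A := by
    have := le_normalizer_OpOf (p := p) hXB₁ (hB₁A.trans hAX) (pCoreOf_isPGroup B)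
      (hB₁B.trans (le_normalizer_pCoreOf B)) ((pCoreOf_le B).trans hBB₁)
    rwa [hNT] at this
  -- Step C: `O_p(A) ∩ B ≤ B₁`
  have hEB₁ : pCoreOf p A ⊓ B ≤ B₁ := by
    intro y hy
    refine mem_coreIn_iff.mpr ⟨hy.2, fun b hb => ?_⟩
    have hyb : b * y * b⁻¹ ∈ pCoreOf p (A.map (MulAut.conj b).toMonoidHom) ⊓ B := by
      refine ⟨?_, B.mul_mem (B.mul_mem hb hy.2) (B.inv_mem hb)⟩
      rw [pCoreOf_map_conj]
      exact ⟨y, hy.1, by simp⟩
    have hle : pCoreOf p (A.map (MulAut.conj b).toMonoidHom) ⊓ B ≤ A := by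
      have := le_normalizer_OpOf (p := p) (P := pCoreOf p (A.map (MulAut.conj b).toMonoidHom) ⊓ B)
        hXB₁ (hB₁A.trans hAX) ((pCoreOf_isPGroup _).to_le inf_le_left)
        (le_normalizer_inf' ((coreIn_le_map_conj hb).trans (le_normalizer_pCoreOf _))
          (hB₁B.trans Subgroup.le_normalizer))
        (inf_le_right.trans hBB₁)
      rwa [hNT] at this
    exact ⟨hle hyb, hyb.2⟩
  -- Step D: `O_p(A) ∩ B ≤ O_p(B)`
  have hEQB : pCoreOf p A ⊓ B ≤ pCoreOf p B := by
    have h1 : pCoreOf p A ⊓ B ≤ pCoreOf p B₁ := by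
      apply le_pCoreOf hEB₁ _ ((pCoreOf_isPGroup A).to_le inf_le_left)
      exact le_normalizer_inf' (hB₁A.trans (le_normalizer_pCoreOf A))
        (hB₁B.trans Subgroup.le_normalizer)
    exact h1.trans (pCoreOf_le_pCoreOf_of_normal hB₁B hBB₁)
  -- `O_p(B) ≠ 1`, so `N(O_p(B)) = B`
  obtain ⟨g, hg⟩ := h.conj
  have hQBeq : pCoreOf p B = (pCoreOf p A).map (MulAut.conj g).toMonoidHom := by
    rw [hg, pCoreOf_map_conj]
  have hQB : pCoreOf p B ≠ ⊥ := by
    rw [hQBeq]; exact map_conj_ne_bot hQ g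
  have hNQB : Subgroup.normalizer ((pCoreOf p B : Subgroup G) : Set G) = B :=
    h.normalizer_eq_right hQB (pCoreOf_le B) (le_normalizer_pCoreOf B)
  -- the `p`-group `P = O_p(A) O_p(B)`
  have hQBn : pCoreOf p B ≤ Subgroup.normalizer ((pCoreOf p A : Subgroup G) : Set G) :=
    hQBA.trans (le_normalizer_pCoreOf A)
  have hPp : IsPGroup p ↥(pCoreOf p A ⊔ pCoreOf p B) :=
    IsPGroup.to_sup_of_normal_left' (pCoreOf_isPGroup A) (pCoreOf_isPGroup B) hQBn
  -- normalizer condition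
  have hle : pCoreOf p A ≤ pCoreOf p B := by
    by_contra hnle
    have : Group.IsNilpotent ↥(pCoreOf p A ⊔ pCoreOf p B) := hPp.isNilpotent
    have hlt : (pCoreOf p B).subgroupOf (pCoreOf p A ⊔ pCoreOf p B) < ⊤ := by
      rw [lt_top_iff_ne_top]
      intro htop
      apply hnle
      intro q hq
      have hqP : q ∈ pCoreOf p A ⊔ pCoreOf p B := (le_sup_left : pCoreOf p A ≤ _) hq
      have : (⟨q, hqP⟩ : ↥(pCoreOf p A ⊔ pCoreOf p B)) ∈
          (pCoreOf p B).subgroupOf (pCoreOf p A ⊔ pCoreOf p B) := by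
        rw [htop]; exact Subgroup.mem_top _
      rw [Subgroup.mem_subgroupOf] at this
      exact this
    have hnc := Group.normalizerCondition_of_isNilpotent (G := ↥(pCoreOf p A ⊔ pCoreOf p B)) _ hlt
    obtain ⟨n, hnN, hnH⟩ := SetLike.exists_of_lt hnc
    -- `n` normalizes `O_p(B)`
    have hnB : (n : G) ∈ B := by
      have hnN' : (n : G) ∈ Subgroup.normalizer ((pCoreOf p B : Subgroup G) : Set G) := by
        apply mem_normalizer_of_map_conj_le
        rintro _ ⟨q, hq, rfl⟩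
        have hqP : q ∈ pCoreOf p A ⊔ pCoreOf p B := (le_sup_right : pCoreOf p B ≤ _) hq
        have h1 : (⟨q, hqP⟩ : ↥(pCoreOf p A ⊔ pCoreOf p B)) ∈
            (pCoreOf p B).subgroupOf (pCoreOf p A ⊔ pCoreOf p B) := by
          rw [Subgroup.mem_subgroupOf]; exact hq
        have h2 := (Subgroup.mem_normalizer_iff.mp hnN ⟨q, hqP⟩).mp h1
        rw [Subgroup.mem_subgroupOf] at h2
        simpa using h2
      rwa [hNQB] at hnN'
    have hn' : (n : G) ∈ ((pCoreOf p A ⊔ pCoreOf p B : Subgroup G) : Set G) := n.2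
    rw [Subgroup.coe_mul_of_right_le_normalizer_left _ _ hQBn] at hn'
    obtain ⟨q, hq, t, ht, hqt⟩ := hn'
    have hqB : q ∈ B := by
      have htB : t ∈ B := pCoreOf_le B ht
      have := B.mul_mem hnB (B.inv_mem htB)
      rw [← hqt] at this
      simpa using this
    have hq' : q ∈ pCoreOf p B := hEQB ⟨hq, hqB⟩
    apply hnH
    rw [Subgroup.mem_subgroupOf]
    have : (n : G) = q * t := hqt.symm
    rw [this]
    exact Subgroup.mul_mem _ hq' ht
  have heq : pCoreOf p A = pCoreOf p B := by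
    apply Subgroup.eq_of_le_of_card_ge hle
    rw [hQBeq, card_map_conj]
  apply hQ
  apply h.eq_bot_of_le_normalizer (pCoreOf_le A) (le_normalizer_pCoreOf A)
  rw [heq]
  exact le_normalizer_pCoreOf B

end Main

end Cfsg.Agent.Lib.Helper29.TWPair
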