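import Mathlib
import Cfsg.Agent.Lib.Helper29.TWPairA

set_option autoImplicit false

/-!
Helper29 library: the index bound of Thompson–Wielandt (Wielandt's form).

For subgroups `A, B` of a finite group with `d = |A : A ∩ B|`, `d' = |B : A ∩ B|` and
`X = core_A(core_B(A ∩ B))`: `|A : X|` divides `d! · ((d' - 1)!)^d`.
-/

namespace Cfsg.Agent.Lib.Helper29.TWPair

open Cfsg Cfsg.Agent.Lib.Helper16

section Abstract

variable {K : Type*} [Group K] [Finite K]

/-- the index of the normal core divides the factorial of the index. -/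
theorem index_normalCore_dvd_factorial (H : Subgroup K) :
    H.normalCore.index ∣ Nat.factorial H.index := by
  rw [Subgroup.normalCore_eq_ker, Subgroup.index_ker]
  have h1 : Nat.card (MulAction.toPermHom K (K ⧸ H)).range ∣ Nat.card (Equiv.Perm (K ⧸ H)) :=
    Subgroup.card_subgroup_dvd_card _
  rwa [Nat.card_perm] at h1

theorem card_stabilizer_perm {Y : Type*} [Finite Y] (y : Y) :
    Nat.card (MulAction.stabilizer (Equiv.Perm Y) y) = Nat.factorial (Nat.card Y - 1) := by
  have h1 := Subgroup.card_mul_index (MulAction.stabilizer (Equiv.Perm Y) y)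
  rw [MulAction.index_stabilizer_of_transitive, Nat.card_perm] at h1
  have hpos : 0 < Nat.card Y := Nat.card_pos_iff.mpr ⟨⟨y⟩, inferInstance⟩
  obtain ⟨n, hn⟩ : ∃ n, Nat.card Y = n + 1 := ⟨Nat.card Y - 1, by omega⟩
  rw [hn] at h1 ⊢
  rw [Nat.factorial_succ, mul_comm] at h1
  have := Nat.eq_of_mul_eq_mul_left (by omega : 0 < n + 1) h1
  simpa using this

/-- a subgroup `S ≤ H` has `|S : S ∩ core(H)|` dividing `(|K : H| - 1)!`. -/
theorem relIndex_normalCore_dvd_factorial {H S : Subgroup K} (hSH : S ≤ H) :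
    H.normalCore.relIndex S ∣ Nat.factorial (H.index - 1) := by
  rw [Subgroup.normalCore_eq_ker, Subgroup.relIndex_ker]
  have hle : S.map (MulAction.toPermHom K (K ⧸ H)) ≤
      MulAction.stabilizer (Equiv.Perm (K ⧸ H)) ((1 : K) : K ⧸ H) := by
    rintro _ ⟨s, hs, rfl⟩
    rw [MulAction.mem_stabilizer_iff]
    show (MulAction.toPermHom K (K ⧸ H) s) ((1 : K) : K ⧸ H) = _
    rw [MulAction.toPermHom_apply, MulAction.toPerm_apply, MulAction.Quotient.smul_mk,
      smul_eq_mul, mul_one]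
    rw [QuotientGroup.eq]
    simpa using H.inv_mem (hSH hs)
  have h1 := Subgroup.card_dvd_of_le hle
  rwa [card_stabilizer_perm] at h1

end Abstract

variable {G : Type*} [Group G] [Finite G]

theorem coreIn_subgroupOf (L H : Subgroup G) :
    (coreIn L H).subgroupOf L = (H.subgroupOf L).normalCore := by
  unfold coreIn Subgroup.subgroupOf
  exact Subgroup.comap_map_eq_self_of_injective L.subtype_injective _

/-- `|L : core_L(H)|` divides `|L : H|!`. -/
theorem relIndex_coreIn_dvd_factorial (L H : Subgroup G) :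
    (coreIn L H).relIndex L ∣ Nat.factorial (H.relIndex L) := by
  unfold Subgroup.relIndex
  rw [coreIn_subgroupOf]
  exact index_normalCore_dvd_factorial _

/-- for `S ≤ H ≤ L`: `|S : S ∩ core_L(H)|` divides `(|L : H| - 1)!`. -/
theorem relIndex_coreIn_dvd_factorial_pred {L H S : Subgroup G} (hSH : S ≤ H) (hHL : H ≤ L) :
    (coreIn L H).relIndex S ∣ Nat.factorial (H.relIndex L - 1) := by
  have h1 : (H.subgroupOf L).normalCore.relIndex (S.subgroupOf L) ∣
      Nat.factorial ((H.subgroupOf L).index - 1) :=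
    relIndex_normalCore_dvd_factorial (Subgroup.comap_mono hSH)
  rw [← coreIn_subgroupOf, Subgroup.relIndex_subgroupOf (hSH.trans hHL)] at h1
  exact h1

/-- for `T ≤ S ≤ N_G(N)`: `|T : T ∩ N|` divides `|S : S ∩ N|`. -/
theorem relIndex_dvd_relIndex_of_le {N T S : Subgroup G} (hTS : T ≤ S)
    (hSN : S ≤ Subgroup.normalizer (N : Set G)) : N.relIndex T ∣ N.relIndex S := by
  have hn : (N.subgroupOf S).Normal := by
    have h1 : (N ⊓ S).subgroupOf S = N.subgroupOf S := Subgroup.inf_subgroupOf_right N S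
    rw [← h1]
    apply (Subgroup.normal_subgroupOf_iff_le_normalizer inf_le_right).mpr
    intro s hs
    rw [Subgroup.mem_normalizer_iff]
    intro x
    have hsN := Subgroup.mem_normalizer_iff.mp (hSN hs) x
    constructor
    · rintro ⟨h1, h2⟩
      exact ⟨hsN.mp h1, S.mul_mem (S.mul_mem hs h2) (S.inv_mem hs)⟩
    · rintro ⟨h1, h2⟩
      refine ⟨hsN.mpr h1, ?_⟩
      have := S.mul_mem (S.mul_mem (S.inv_mem hs) h2) hs
      simpa [mul_assoc] using this
  have h2 := Subgroup.relIndex_dvd_index_of_normal (N.subgroupOf S) (T.subgroupOf S)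
  rw [Subgroup.relIndex_subgroupOf hTS] at h2
  exact h2

theorem le_normalizer_iInf_finset {ι : Type*} (s : Finset ι) {S : Subgroup G}
    {N : ι → Subgroup G} (hN : ∀ i, S ≤ Subgroup.normalizer ((N i : Subgroup G) : Set G)) :
    S ≤ Subgroup.normalizer ((⨅ i ∈ s, N i : Subgroup G) : Set G) := by
  intro x hx
  apply mem_normalizer_of_map_conj_le
  rintro _ ⟨y, hy, rfl⟩
  simp only [SetLike.mem_coe, Subgroup.mem_iInf] at hy ⊢
  intro i hi
  exact (Subgroup.mem_normalizer_iff.mp (hN i hx) y).mp (hy i hi)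

/-- the index of a finite intersection of `S`-invariant subgroups divides the product. -/
theorem relIndex_iInf_dvd_pow {ι : Type*} [Fintype ι] {S : Subgroup G} {N : ι → Subgroup G}
    (hN : ∀ i, S ≤ Subgroup.normalizer ((N i : Subgroup G) : Set G)) {m : ℕ}
    (hm : ∀ i, (N i).relIndex S ∣ m) :
    (⨅ i, N i).relIndex S ∣ m ^ Fintype.card ι := by
  classical
  have key : ∀ s : Finset ι, (⨅ i ∈ s, N i).relIndex S ∣ m ^ s.card := by
    intro s
    induction s using Finset.induction_on with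
    | empty => simp
    | insert j s hj ih =>
      rw [Finset.iInf_insert, Finset.card_insert_of_notMem hj, pow_succ, mul_comm,
        ← Subgroup.relIndex_inf_mul_relIndex]
      apply mul_dvd_mul _ ih
      exact (relIndex_dvd_relIndex_of_le inf_le_right (hN j)).trans (hm j)
  have h1 := key Finset.univ
  simpa using h1

/-- **Wielandt's index bound.** -/
theorem relIndex_coreIn_coreIn_dvd (A B : Subgroup G) :
    (coreIn A (coreIn B (A ⊓ B))).relIndex A ∣
      Nat.factorial ((A ⊓ B).relIndex A) *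
        Nat.factorial ((A ⊓ B).relIndex B - 1) ^ ((A ⊓ B).relIndex A) := by
  classical
  set D := A ⊓ B with hD
  set A₁ := coreIn A D with hA₁
  set B₁ := coreIn B D with hB₁
  have hA₁D : A₁ ≤ D := coreIn_le_right _ _
  have hA₁A : A₁ ≤ A := coreIn_le_left _ _
  have hB₁D : B₁ ≤ D := coreIn_le_right _ _
  have hXA₁ : coreIn A B₁ ≤ A₁ := coreIn_mono hB₁D
  have h1 : A₁.relIndex A ∣ Nat.factorial (D.relIndex A) := relIndex_coreIn_dvd_factorial A D
  -- the index set: cosets of `D` in `A`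
  letI : Fintype (↥A ⧸ D.subgroupOf A) := Fintype.ofFinite _
  have hcard : Fintype.card (↥A ⧸ D.subgroupOf A) = D.relIndex A := by
    rw [← Nat.card_eq_fintype_card]; rfl
  have hr : ∀ q : ↥A ⧸ D.subgroupOf A, ((q.out : ↥A) : G) ∈ A := fun q => q.out.2
  have hA₁conj : ∀ q : ↥A ⧸ D.subgroupOf A,
      A₁ ≤ D.map (MulAut.conj ((q.out : ↥A) : G)).toMonoidHom := by
    intro q
    have h2 : A₁.map (MulAut.conj ((q.out : ↥A) : G)).toMonoidHom = A₁ :=
      Helper16.map_conj_eq_of_mem_normalizer (le_normalizer_coreIn A D (hr q))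
    rw [← h2]
    exact Subgroup.map_mono hA₁D
  have hNeq : ∀ q : ↥A ⧸ D.subgroupOf A,
      B₁.map (MulAut.conj ((q.out : ↥A) : G)).toMonoidHom =
        coreIn (B.map (MulAut.conj ((q.out : ↥A) : G)).toMonoidHom)
          (D.map (MulAut.conj ((q.out : ↥A) : G)).toMonoidHom) := fun q => coreIn_map_conj B D _
  have hDB : D ≤ B := inf_le_right
  have h3a : ∀ q : ↥A ⧸ D.subgroupOf A, A₁ ≤ Subgroup.normalizer
      ((B₁.map (MulAut.conj ((q.out : ↥A) : G)).toMonoidHom : Subgroup G) : Set G) := by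
    intro q
    rw [hNeq q]
    exact ((hA₁conj q).trans (Subgroup.map_mono hDB)).trans (le_normalizer_coreIn _ _)
  have h3b : ∀ q : ↥A ⧸ D.subgroupOf A,
      (B₁.map (MulAut.conj ((q.out : ↥A) : G)).toMonoidHom).relIndex A₁ ∣
        Nat.factorial (D.relIndex B - 1) := by
    intro q
    rw [hNeq q]
    have h4 := relIndex_coreIn_dvd_factorial_pred (hA₁conj q)
      (Subgroup.map_mono (f := (MulAut.conj ((q.out : ↥A) : G)).toMonoidHom) hDB)
    rwa [Subgroup.relIndex_map_map_of_injective _ _ (MulAut.conj _).injective] at h4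
  have h3c := relIndex_iInf_dvd_pow h3a h3b
  rw [hcard] at h3c
  -- the intersection lies in `X`
  have h3d : (⨅ q : ↥A ⧸ D.subgroupOf A,
      B₁.map (MulAut.conj ((q.out : ↥A) : G)).toMonoidHom) ⊓ A₁ ≤ coreIn A B₁ := by
    intro x hx
    obtain ⟨hx1, hx2⟩ := Subgroup.mem_inf.mp hx
    rw [Subgroup.mem_iInf] at hx1
    refine mem_coreIn_iff.mpr ⟨hA₁A hx2, fun h hh => ?_⟩
    obtain ⟨δ, hδ⟩ := QuotientGroup.mk_out_eq_mul (D.subgroupOf A) (⟨h⁻¹, A.inv_mem hh⟩ : ↥A)
    have hx3 := hx1 (QuotientGroup.mk (⟨h⁻¹, A.inv_mem hh⟩ : ↥A))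
    rw [mem_map_conj_iff, hδ] at hx3
    have hδD : ((δ : ↥A) : G) ∈ D := δ.2
    have hδN : ((δ : ↥A) : G) ∈ Subgroup.normalizer ((B₁ : Subgroup G) : Set G) :=
      le_normalizer_coreIn B D (hDB hδD)
    have hx4 := (Subgroup.mem_normalizer_iff.mp hδN _).mp hx3
    have e : ((δ : ↥A) : G) * ((((⟨h⁻¹, A.inv_mem hh⟩ : ↥A) * (δ : ↥A) : ↥A) : G)⁻¹ * x *
        (((⟨h⁻¹, A.inv_mem hh⟩ : ↥A) * (δ : ↥A) : ↥A) : G)) * ((δ : ↥A) : G)⁻¹ = h * x * h⁻¹ := by
      simp only [Subgroup.coe_mul]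
      group
    rwa [e] at hx4
  have h3 : (coreIn A B₁).relIndex A₁ ∣
      Nat.factorial (D.relIndex B - 1) ^ (D.relIndex A) := by
    refine (Subgroup.relIndex_dvd_of_le_left A₁ h3d).trans ?_
    rwa [Subgroup.inf_relIndex_right]
  rw [← Subgroup.relIndex_mul_relIndex (coreIn A B₁) A₁ A hXA₁ hA₁A, mul_comm]
  exact mul_dvd_mul h1 h3

end Cfsg.Agent.Lib.Helper29.TWPair
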