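import Mathlib
import Cfsg.Agent.Lib.Helper29.TWPairC
import Cfsg.Agent.Lib.Helper29.TWIndex
import Cfsg.Agent.Lib.Helper4.Basic

set_option autoImplicit false

/-!
Helper29 library: Thompson–Wielandt for primitive permutation groups (part 1, permutation form).

For a faithful primitive action of a finite group `G`, points `a, b` with `|b^{G_a}| = d ≥ 2`:
either `|G_a|` divides `d! ((d-1)!)^d`, or `F*(G_a) = O_p(G_a)` for some prime `p`.
-/

namespace Cfsg.Agent.Lib.Helper29.TWPair

open Cfsg MulAction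

variable {G Ω : Type*} [Group G] [MulAction G Ω]

theorem stabilizer_subgroup_eq (A : Subgroup G) (b : Ω) :
    stabilizer ↥A b = (stabilizer G b).subgroupOf A := by
  ext x
  rw [mem_stabilizer_iff, Subgroup.mem_subgroupOf, mem_stabilizer_iff]
  rfl

theorem relIndex_stabilizer_eq_card_orbit (a b : Ω) :
    (stabilizer G a ⊓ stabilizer G b).relIndex (stabilizer G a) =
      Nat.card (orbit (stabilizer G a) b) := by
  rw [Subgroup.inf_relIndex_left]
  unfold Subgroup.relIndex
  rw [← stabilizer_subgroup_eq, MulAction.index_stabilizer, Nat.card_coe_set_eq]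

theorem pair_of_primitive [FaithfulSMul G Ω] (hprim : IsPreprimitive G Ω) {a b : Ω}
    (hab : stabilizer G a ≠ stabilizer G b) : Pair (stabilizer G a) (stabilizer G b) := by
  haveI := hprim
  have hne : a ≠ b := fun h => hab (by rw [h])
  haveI : Nontrivial Ω := ⟨⟨a, b, hne⟩⟩
  refine ⟨IsPreprimitive.isCoatom_stabilizer_of_isPreprimitive G a, ?_, hab, ?_⟩
  · rw [eq_bot_iff]
    intro x hx
    rw [Subgroup.mem_bot]
    apply FaithfulSMul.eq_of_smul_eq_smul (α := Ω)
    intro ω
    obtain ⟨g, rfl⟩ := exists_smul_eq G a ω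
    have h1 : g⁻¹ * x * g⁻¹⁻¹ ∈ (stabilizer G a).normalCore :=
      (Subgroup.normalCore_normal _).conj_mem x hx g⁻¹
    have h2 := Subgroup.normalCore_le _ h1
    rw [mem_stabilizer_iff] at h2
    have e : x * g = g * (g⁻¹ * x * g⁻¹⁻¹) := by group
    rw [one_smul, ← mul_smul, e, mul_smul, h2]
  · obtain ⟨g, rfl⟩ := exists_smul_eq G a b
    exact ⟨g, stabilizer_smul_eq_stabilizer_map_conj g a⟩

theorem card_stabilizer_dvd_or_fstar [Finite G] [FaithfulSMul G Ω]
    (hprim : IsPreprimitive G Ω) (a b : Ω) (d : ℕ)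
    (hd : Nat.card (orbit (stabilizer G a) b) = d) (h2 : 2 ≤ d) :
    Nat.card (stabilizer G a) ∣ Nat.factorial d * (Nat.factorial (d - 1)) ^ d ∨
      ∃ p : ℕ, p.Prime ∧ generalizedFittingSubgroup ↥(stabilizer G a) = pCore p ↥(stabilizer G a) := by
  have hab : stabilizer G a ≠ stabilizer G b := by
    intro h
    have h1 : Nat.card (orbit (stabilizer G a) b) = 1 := by
      rw [Nat.card_eq_one_iff_unique]
      refine ⟨⟨?_⟩, ⟨⟨b, mem_orbit_self b⟩⟩⟩
      rintro ⟨_, ⟨x, rfl⟩⟩ ⟨_, ⟨y, rfl⟩⟩
      apply Subtype.ext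
      have hx : (x : G) ∈ stabilizer G b := h ▸ x.2
      have hy : (y : G) ∈ stabilizer G b := h ▸ y.2
      show (x : G) • b = (y : G) • b
      rw [mem_stabilizer_iff.mp hx, mem_stabilizer_iff.mp hy]
    omega
  have hP := pair_of_primitive hprim hab
  have hd1 : (stabilizer G a ⊓ stabilizer G b).relIndex (stabilizer G a) = d := by
    rw [relIndex_stabilizer_eq_card_orbit, hd]
  have hcard : Nat.card (stabilizer G a) = Nat.card (stabilizer G b) := by
    obtain ⟨g, hg⟩ := hP.conj
    rw [hg, Helper16.card_map_conj]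
  have hd2 : (stabilizer G a ⊓ stabilizer G b).relIndex (stabilizer G b) = d := by
    have e1 := Helper4.card_mul_relIndex (inf_le_left : stabilizer G a ⊓ stabilizer G b ≤ stabilizer G a)
    have e2 := Helper4.card_mul_relIndex (inf_le_right : stabilizer G a ⊓ stabilizer G b ≤ stabilizer G b)
    rw [hd1] at e1
    rw [← hcard, ← e1] at e2
    have hpos : 0 < Nat.card ↥(stabilizer G a ⊓ stabilizer G b) := Nat.card_pos
    exact Nat.eq_of_mul_eq_mul_left hpos e2
  by_cases hX : coreIn (stabilizer G a) (coreIn (stabilizer G b) (stabilizer G a ⊓ stabilizer G b)) = ⊥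
  · left
    have h3 := relIndex_coreIn_coreIn_dvd (stabilizer G a) (stabilizer G b)
    rw [hX, Subgroup.relIndex_bot_left, hd1, hd2] at h3
    exact h3
  · by_cases hY : coreIn (stabilizer G b) (coreIn (stabilizer G a) (stabilizer G a ⊓ stabilizer G b)) = ⊥
    · left
      have h3 := relIndex_coreIn_coreIn_dvd (stabilizer G b) (stabilizer G a)
      rw [inf_comm (stabilizer G b) (stabilizer G a), hY, Subgroup.relIndex_bot_left, hd1, hd2,
        ← hcard] at h3
      exact h3
    · right
      exact hP.exists_fstar_eq_pCore hX hY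

end Cfsg.Agent.Lib.Helper29.TWPair
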