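import Mathlib
import Cfsg.Agent.Lib.Helper29.TWPairD
import Cfsg.Agent.Lib.Helper29.TWPerm

set_option autoImplicit false

/-!
Helper29 library: Thompson–Wielandt for primitive permutation groups (Wielandt's bound).
-/

namespace Cfsg.Agent.Lib.Helper29.TWPair

open Cfsg MulAction Cfsg.Agent.Lib.Helper16

variable {G : Type*} [Group G]

theorem generalizedFittingSubgroup_ne_bot' [Finite G] {X : Subgroup G} (hX : X ≠ ⊥) :
    generalizedFittingSubgroup ↥X ≠ ⊥ := by
  intro hF
  have hc := Helper9.centralizer_generalizedFittingSubgroup_le (G := ↥X)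
  rw [hF] at hc
  apply hX
  rw [eq_bot_iff]
  intro x hx
  have h1 : (⟨x, hx⟩ : ↥X) ∈ Subgroup.centralizer (((⊥ : Subgroup ↥X) : Subgroup ↥X) : Set ↥X) := by
    rw [Subgroup.mem_centralizer_iff]
    intro y hy
    have : y = 1 := Subgroup.mem_bot.mp hy
    rw [this]; simp
  have h2 := hc h1
  have h3 : (⟨x, hx⟩ : ↥X) = 1 := Subgroup.mem_bot.mp h2
  have := congrArg (fun z : ↥X => (z : G)) h3
  simpa using this

/-- if `F*(A) = O_p(A)` and `A ≠ 1` then `O_p(A) ≠ 1` (ambient form). -/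
theorem pCoreOf_ne_bot_of_fstar [Finite G] {p : ℕ} {A : Subgroup G} (hA : A ≠ ⊥)
    (hF : generalizedFittingSubgroup ↥A = pCore p ↥A) : pCoreOf p A ≠ ⊥ := by
  unfold pCoreOf
  rw [Ne, Subgroup.map_eq_bot_iff_of_injective _ A.subtype_injective, ← hF]
  exact generalizedFittingSubgroup_ne_bot' hA

/-- **Thompson–Wielandt**: for a pair with `X ≠ 1 ≠ Y` there is a prime `p` with
`F*(A) = O_p(A)` and `X` a `p`-group. -/
theorem Pair.exists_prime_isPGroup_X [Finite G] {A B : Subgroup G} (h : Pair A B)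
    (hX : coreIn A (coreIn B (A ⊓ B)) ≠ ⊥) (hY : coreIn B (coreIn A (A ⊓ B)) ≠ ⊥) :
    ∃ p : ℕ, p.Prime ∧ generalizedFittingSubgroup ↥A = pCore p ↥A ∧
      IsPGroup p ↥(coreIn A (coreIn B (A ⊓ B))) := by
  obtain ⟨p, hp, hF⟩ := h.exists_fstar_eq_pCore hX hY
  haveI : Fact p.Prime := ⟨hp⟩
  refine ⟨p, hp, hF, h.isPGroup_X (pCoreOf_ne_bot_of_fstar ?_ hF)⟩
  intro hA
  apply hX
  exact le_bot_iff.mp (hA ▸ coreIn_le_left _ _)

variable {Ω : Type*} [MulAction G Ω]

/-- **Wielandt's bound.** -/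
theorem exists_normal_pSubgroup_index_dvd [Finite G] [FaithfulSMul G Ω]
    (hprim : IsPreprimitive G Ω) (a b : Ω) (d : ℕ)
    (hd : Nat.card (orbit (stabilizer G a) b) = d) (h2 : 2 ≤ d) :
    ∃ p : ℕ, p.Prime ∧ ∃ P : Subgroup (stabilizer G a), P.Normal ∧ IsPGroup p P ∧
      (∀ g : P, ((g : stabilizer G a) : G) • b = b) ∧
      P.index ∣ Nat.factorial d * (Nat.factorial (d - 1)) ^ d := by
  have hab : stabilizer G a ≠ stabilizer G b := by
    intro h
    have h1 : Nat.card (orbit (stabilizer G a) b) = 1 := by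
      rw [Nat.card_eq_one_iff_unique]
      refine ⟨⟨?_⟩, ⟨⟨b, mem_orbit_self b⟩⟩⟩
      rintro ⟨_, ⟨x, rfl⟩⟩ ⟨_, ⟨y, rfl⟩⟩
      apply Subtype.ext
      have hx : (x : G) ∈ stabilizer G b := h ▸ x.2
      have hy : (y : G) ∈ stabilizer G b := h ▸ y.2
      show (x : G) • b = (y : G) • b
      rw [mem_stabilizer_iff.mp hx, mem_stabilizer_iff.mp hy]
    omega
  have hP := pair_of_primitive hprim hab
  have hd1 : (stabilizer G a ⊓ stabilizer G b).relIndex (stabilizer G a) = d := by
    rw [relIndex_stabilizer_eq_card_orbit, hd]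
  have hcard : Nat.card (stabilizer G a) = Nat.card (stabilizer G b) := by
    obtain ⟨g, hg⟩ := hP.conj
    rw [hg, Helper16.card_map_conj]
  have hd2 : (stabilizer G a ⊓ stabilizer G b).relIndex (stabilizer G b) = d := by
    have e1 := Helper4.card_mul_relIndex (inf_le_left : stabilizer G a ⊓ stabilizer G b ≤ stabilizer G a)
    have e2 := Helper4.card_mul_relIndex (inf_le_right : stabilizer G a ⊓ stabilizer G b ≤ stabilizer G b)
    rw [hd1] at e1
    rw [← hcard, ← e1] at e2
    have hpos : 0 < Nat.card ↥(stabilizer G a ⊓ stabilizer G b) := Nat.card_pos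
    exact Nat.eq_of_mul_eq_mul_left hpos e2
  have hbot : Nat.card (stabilizer G a) ∣ Nat.factorial d * (Nat.factorial (d - 1)) ^ d →
      ∃ p : ℕ, p.Prime ∧ ∃ P : Subgroup (stabilizer G a), P.Normal ∧ IsPGroup p P ∧
      (∀ g : P, ((g : stabilizer G a) : G) • b = b) ∧
      P.index ∣ Nat.factorial d * (Nat.factorial (d - 1)) ^ d := by
    intro h3
    refine ⟨2, Nat.prime_two, ⊥, inferInstance, IsPGroup.of_bot, ?_, ?_⟩
    · rintro ⟨g, hg⟩
      have : g = 1 := Subgroup.mem_bot.mp hg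
      subst this
      simp
    · rw [Subgroup.index_bot]; exact h3
  by_cases hX : coreIn (stabilizer G a) (coreIn (stabilizer G b) (stabilizer G a ⊓ stabilizer G b)) = ⊥
  · apply hbot
    have h3 := relIndex_coreIn_coreIn_dvd (stabilizer G a) (stabilizer G b)
    rw [hX, Subgroup.relIndex_bot_left, hd1, hd2] at h3
    exact h3
  · by_cases hY : coreIn (stabilizer G b) (coreIn (stabilizer G a) (stabilizer G a ⊓ stabilizer G b)) = ⊥
    · apply hbot
      have h3 := relIndex_coreIn_coreIn_dvd (stabilizer G b) (stabilizer G a)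
      rw [inf_comm (stabilizer G b) (stabilizer G a), hY, Subgroup.relIndex_bot_left, hd1, hd2,
        ← hcard] at h3
      exact h3
    · obtain ⟨p, hp, -, hXp⟩ := hP.exists_prime_isPGroup_X hX hY
      refine ⟨p, hp, (coreIn (stabilizer G a) (coreIn (stabilizer G b)
        (stabilizer G a ⊓ stabilizer G b))).subgroupOf (stabilizer G a), ?_, ?_, ?_, ?_⟩
      · exact (Subgroup.normal_subgroupOf_iff_le_normalizer (coreIn_le_left _ _)).mpr
          (le_normalizer_coreIn _ _)
      · exact hXp.comap_subtype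
      · rintro ⟨g, hg⟩
        rw [Subgroup.mem_subgroupOf] at hg
        have h4 : ((g : stabilizer G a) : G) ∈ stabilizer G b :=
          coreIn_le_left _ _ (coreIn_le_right _ _ hg)
        exact mem_stabilizer_iff.mp h4
      · have h3 := relIndex_coreIn_coreIn_dvd (stabilizer G a) (stabilizer G b)
        rw [hd1, hd2] at h3
        exact h3

end Cfsg.Agent.Lib.Helper29.TWPair
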