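import Mathlib
import Cfsg.Agent.Lib.Helper29.TWPerm2

set_option autoImplicit false

/-!
Helper29 library: Thompson–Wielandt pairs, part E (assembly of the full theorem).
-/

namespace Cfsg.Agent.Lib.Helper29.TWPair

open Cfsg Cfsg.Agent.Lib.Helper16

/-- characteristic `p` is inherited by normal subgroups. -/
theorem fstar_eq_pCore_of_normal {H : Type*} [Group H] [Finite H] {p : ℕ} [Fact p.Prime]
    (N : Subgroup H) [N.Normal] (hF : generalizedFittingSubgroup H = pCore p H) :
    generalizedFittingSubgroup ↥N = pCore p ↥N := by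
  have h1 : (generalizedFittingSubgroup ↥N).map N.subtype = generalizedFittingSubgroup H ⊓ N :=
    (Helper9.generalizedFittingSubgroup_inf_normal N).symm
  have hp' : IsPGroup p ↥((generalizedFittingSubgroup ↥N).map N.subtype) := by
    rw [h1, hF]
    exact (Helper1.pCore_isPGroup p H).to_le inf_le_left
  have hp : IsPGroup p ↥(generalizedFittingSubgroup ↥N) :=
    hp'.of_equiv ((generalizedFittingSubgroup ↥N).equivMapOfInjective N.subtype
      N.subtype_injective).symm
  apply le_antisymm
  · exact Helper1.le_pCore inferInstance hp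
  · have h2 : pCore p ↥N ≤ fittingSubgroup ↥N :=
      Helper1.le_fittingSubgroup inferInstance (Helper1.pCore_isPGroup p ↥N).isNilpotent
    unfold generalizedFittingSubgroup
    exact h2.trans le_sup_right

variable {G : Type*} [Group G]

/-- characteristic `p` is inherited by subgroups normalized by the big group (ambient form). -/
theorem fstar_eq_pCore_of_le_normalizer [Finite G] {p : ℕ} [Fact p.Prime] {N M : Subgroup G}
    (hNM : N ≤ M) (hMN : M ≤ Subgroup.normalizer (N : Set G))
    (hF : generalizedFittingSubgroup ↥M = pCore p ↥M) :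
    generalizedFittingSubgroup ↥N = pCore p ↥N := by
  haveI : (N.subgroupOf M).Normal := (Subgroup.normal_subgroupOf_iff_le_normalizer hNM).mpr hMN
  have h1 := fstar_eq_pCore_of_normal (N.subgroupOf M) hF
  exact Helper9.generalizedFittingSubgroup_eq_pCore_of_equiv p (Subgroup.subgroupOfEquivOfLe hNM) h1

theorem coreIn_inf_eq_right (A B : Subgroup G) :
    coreIn A (coreIn A (A ⊓ B) ⊓ coreIn B (A ⊓ B)) = coreIn A (coreIn B (A ⊓ B)) := by
  apply le_antisymm (coreIn_mono inf_le_right)
  apply le_coreIn (coreIn_le_left _ _) _ (le_normalizer_coreIn _ _)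
  exact le_inf (coreIn_mono (coreIn_le_right _ _)) (coreIn_le_right _ _)

theorem coreIn_inf_eq_left (A B : Subgroup G) :
    coreIn B (coreIn A (A ⊓ B) ⊓ coreIn B (A ⊓ B)) = coreIn B (coreIn A (A ⊓ B)) := by
  apply le_antisymm (coreIn_mono inf_le_left)
  apply le_coreIn (coreIn_le_left _ _) _ (le_normalizer_coreIn _ _)
  exact le_inf (coreIn_le_right _ _) (coreIn_mono (coreIn_le_right _ _))

/-- **Thompson–Wielandt theorem.** -/
theorem Pair.thompson_wielandt [Finite G] {A B : Subgroup G} (h : Pair A B)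
    (hX : coreIn A (coreIn B (A ⊓ B)) ≠ ⊥) (hY : coreIn B (coreIn A (A ⊓ B)) ≠ ⊥) :
    ∃ p : ℕ, p.Prime ∧
      IsPGroup p ↥(coreIn A (coreIn B (A ⊓ B)) ⊔ coreIn B (coreIn A (A ⊓ B))) ∧
      generalizedFittingSubgroup ↥A = pCore p ↥A ∧
      generalizedFittingSubgroup ↥(coreIn A (A ⊓ B)) = pCore p ↥(coreIn A (A ⊓ B)) ∧
      generalizedFittingSubgroup ↥B = pCore p ↥B ∧
      generalizedFittingSubgroup ↥(coreIn B (A ⊓ B)) = pCore p ↥(coreIn B (A ⊓ B)) := by
  obtain ⟨p, hp, hFA, hXp⟩ := h.exists_prime_isPGroup_X hX hY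
  haveI : Fact p.Prime := ⟨hp⟩
  obtain ⟨g, hg⟩ := h.conj
  have hFB : generalizedFittingSubgroup ↥B = pCore p ↥B :=
    Helper9.generalizedFittingSubgroup_eq_pCore_of_equiv p
      ((A.equivMapOfInjective _ (MulAut.conj g).injective).trans
        (MulEquiv.subgroupCongr hg.symm)) hFA
  have hBne : B ≠ ⊥ := by
    intro hB
    apply hY
    exact le_bot_iff.mp (hB ▸ coreIn_le_left _ _)
  have hYp : IsPGroup p ↥(coreIn B (coreIn A (A ⊓ B))) := by
    have := h.symm.isPGroup_X (pCoreOf_ne_bot_of_fstar hBne hFB)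
    rwa [inf_comm] at this
  refine ⟨p, hp, ?_, hFA, ?_, hFB, ?_⟩
  · apply IsPGroup.to_sup_of_normal_left' hXp hYp
    exact ((coreIn_le_right _ _).trans (coreIn_le_left _ _)).trans (le_normalizer_coreIn _ _)
  · exact fstar_eq_pCore_of_le_normalizer (coreIn_le_left _ _) (le_normalizer_coreIn _ _) hFA
  · exact fstar_eq_pCore_of_le_normalizer (coreIn_le_left _ _) (le_normalizer_coreIn _ _) hFB

end Cfsg.Agent.Lib.Helper29.TWPair
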