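import Mathlib
import Cfsg.Agent.Lib.Helper18.Sims3Defs
import Cfsg.Agent.Lib.Helper4.Basic

/-!
# S3385 (Sims) market: shared basics on the interval subgroups `Hx x i j` (helper29)
-/

set_option autoImplicit false

namespace Cfsg.Agent.Lib.Helper29.SIMSBase

open Cfsg Cfsg.Agent.Lib.Helper29.TWPair Cfsg.Agent.Lib.Helper18.Sims3 MulAction

variable {G : Type*} [Group G]

theorem mem_Hx {x : ℕ → G} {i j k : ℕ} (h1 : i ≤ k) (h2 : k ≤ j) : x k ∈ Hx x i j :=
  Subgroup.subset_closure ⟨k, ⟨h1, h2⟩, rfl⟩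

theorem Hx_mono {x : ℕ → G} {i j i' j' : ℕ} (h1 : i ≤ i') (h2 : j' ≤ j) :
    Hx x i' j' ≤ Hx x i j :=
  Subgroup.closure_mono (Set.image_mono (Set.Icc_subset_Icc h1 h2))

theorem Hx_eq_bot {x : ℕ → G} {i j : ℕ} (h : j < i) : Hx x i j = ⊥ := by
  unfold Hx
  rw [Set.Icc_eq_empty (by omega), Set.image_empty, Subgroup.closure_empty]

theorem Hx_le_iff {x : ℕ → G} {i j : ℕ} {K : Subgroup G} :
    Hx x i j ≤ K ↔ ∀ k, i ≤ k → k ≤ j → x k ∈ K := by
  unfold Hx
  rw [Subgroup.closure_le]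
  constructor
  · intro h k h1 h2
    exact h ⟨k, ⟨h1, h2⟩, rfl⟩
  · rintro h _ ⟨k, ⟨h1, h2⟩, rfl⟩
    exact h k h1 h2

theorem Hx_sup {x : ℕ → G} {i m j : ℕ} (h1 : i ≤ m + 1) (h2 : m ≤ j) :
    Hx x i m ⊔ Hx x (m + 1) j = Hx x i j := by
  apply le_antisymm
  · exact sup_le (Hx_mono le_rfl h2) (Hx_mono h1 le_rfl)
  · rw [Hx_le_iff]
    intro k hk1 hk2
    rcases Nat.lt_or_ge m k with h | h
    · exact Subgroup.mem_sup_right (mem_Hx h hk2)
    · exact Subgroup.mem_sup_left (mem_Hx hk1 h)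

theorem Hx_succ {x : ℕ → G} {i j : ℕ} (h1 : i ≤ j + 1) :
    Hx x i j ⊔ Subgroup.zpowers (x (j + 1)) = Hx x i (j + 1) := by
  apply le_antisymm
  · refine sup_le (Hx_mono le_rfl (Nat.le_succ j)) ?_
    rw [Subgroup.zpowers_le]
    exact mem_Hx h1 le_rfl
  · rw [Hx_le_iff]
    intro k hk1 hk2
    rcases Nat.lt_or_ge j k with h | h
    · have : k = j + 1 := by omega
      subst this
      exact Subgroup.mem_sup_right (Subgroup.mem_zpowers _)
    · exact Subgroup.mem_sup_left (mem_Hx hk1 h)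

/-- the closure of a set of pairwise commuting elements is commutative -/
theorem closure_comm {S : Set G} (hS : ∀ a ∈ S, ∀ b ∈ S, a * b = b * a) :
    ∀ a ∈ Subgroup.closure S, ∀ b ∈ Subgroup.closure S, a * b = b * a := by
  have h1 : Subgroup.closure S ≤ Subgroup.centralizer S := by
    rw [Subgroup.closure_le]
    intro a ha
    rw [SetLike.mem_coe, Subgroup.mem_centralizer_iff]
    intro b hb
    exact hS b hb a ha
  have h2 : Subgroup.closure S ≤ Subgroup.centralizer (Subgroup.closure S : Set G) := by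
    rw [Subgroup.closure_le]
    intro a ha
    rw [SetLike.mem_coe, Subgroup.mem_centralizer_iff]
    intro b hb
    have := h1 hb
    rw [Subgroup.mem_centralizer_iff] at this
    exact (this a ha).symm
  intro a ha b hb
  have := h2 hb
  rw [Subgroup.mem_centralizer_iff] at this
  exact this a ha

theorem commLt_comm {x : ℕ → G} {l : ℕ} (hl : CommLt x l) {s t : ℕ}
    (h : s ≤ t + l ∧ t ≤ s + l ∧ (s < t + l) ∧ (t < s + l)) : x s * x t = x t * x s := by
  rcases Nat.le_total s t with hst | hst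
  · have := hl s (t - s) (by omega)
    rw [show s + (t - s) = t by omega] at this
    exact this
  · have := hl t (s - t) (by omega)
    rw [show t + (s - t) = s by omega] at this
    exact this.symm

/-- `Hx x i j` is commutative when `j - i < l`. -/
theorem Hx_comm {x : ℕ → G} {l : ℕ} (hl : CommLt x l) {i j : ℕ} (hij : j < i + l) :
    ∀ a ∈ Hx x i j, ∀ b ∈ Hx x i j, a * b = b * a := by
  apply closure_comm
  rintro _ ⟨s, ⟨hs1, hs2⟩, rfl⟩ _ ⟨t, ⟨ht1, ht2⟩, rfl⟩
  exact commLt_comm hl ⟨by omega, by omega, by omega, by omega⟩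

/-- two interval subgroups inside a commutative window: trivial intersection by orders -/
theorem Hx_inf_eq_bot {g : G} {x : ℕ → G} {n : ℕ} (h : TSData g x n) {l : ℕ} (hl : CommLt x l)
    {i m j : ℕ} (h1 : i ≤ m) (h2 : m + 1 ≤ j) (hjl : j < i + l) (hjn : j < i + n) :
    Hx x i m ⊓ Hx x (m + 1) j = ⊥ := by
  have hcomm := Hx_comm hl hjl
  have hnorm : Hx x i m ≤ Subgroup.normalizer (Hx x (m + 1) j : Set G) := by
    intro a ha
    rw [Subgroup.mem_normalizer_iff]
    intro b
    have ha' : a ∈ Hx x i j := Hx_mono le_rfl (by omega) ha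
    constructor
    · intro hb
      have hb' : b ∈ Hx x i j := Hx_mono (by omega) le_rfl hb
      rw [hcomm a ha' b hb', mul_inv_cancel_right]
      exact hb
    · intro hb
      have hb' : a * b * a⁻¹ ∈ Hx x i j := Hx_mono (by omega) le_rfl hb
      have : b = a⁻¹ * (a * b * a⁻¹) * a := by group
      rw [this, mul_assoc, ← hcomm a ha' _ hb', inv_mul_cancel_left]
      exact hb
  have hf := Cfsg.Agent.Lib.Helper4.card_sup_mul_card_inf _ _ hnorm
  rw [Hx_sup (by omega) (by omega), h.card i j (by omega) hjn, h.card i m h1 (by omega),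
    h.card (m + 1) j h2 (by omega)] at hf
  have hpow : 2 ^ (m - i + 1) * 2 ^ (j - (m + 1) + 1) = 2 ^ (j - i + 1) := by
    rw [← pow_add]
    congr 1
    omega
  rw [hpow] at hf
  have hone : Nat.card ↥(Hx x i m ⊓ Hx x (m + 1) j) = 1 := by
    have hpos : 0 < 2 ^ (j - i + 1) := by positivity
    exact Nat.eq_of_mul_eq_mul_left hpos (by rw [hf, mul_one])
  exact Subgroup.eq_bot_of_card_eq _ hone

end Cfsg.Agent.Lib.Helper29.SIMSBase
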