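import Mathlib
import Cfsg.Prelude.Def_ClassicalGeometry
import Cfsg.Prelude.Def_GeometricClasses
import Cfsg.Agent.Lib.Helper5.SpMax
import Cfsg.Agent.Lib.Helper2.SpSubDefs

/-!
# S5650 (helper2's market), leaves B2 + B3 (helper29)

Commutator calculus of the short root elements `Sab a b c : x ↦ x + c (B(x,a) b + B(x,b) a)` of the
symplectic group.
-/

set_option autoImplicit false
set_option linter.unusedSimpArgs false

open Cfsg Matrix Cfsg.Agent.Lib.Helper5 Cfsg.Agent.Lib.Helper5.SpMax Cfsg.Agent.Lib.Helper2.SpSub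

namespace Cfsg.Agent.Lib.Helper29.SpSubLeaf

variable {F : Type*} [Field F] {m : ℕ}

theorem gl_ext' {g h : GL (Fin m ⊕ Fin m) F} (H : ∀ x, mv g x = mv h x) : g = h :=
  Units.ext (mat_eq_of_mulVec H)

theorem mv_mul (g h : GL (Fin m ⊕ Fin m) F) (x : Fin m ⊕ Fin m → F) :
    mv (g * h) x = mv g (mv h x) := by
  unfold mv
  rw [Units.val_mul, Matrix.mulVec_mulVec]

theorem mv_tvc (a x : Fin m ⊕ Fin m → F) (c : F) :
    mv (tvc a c) x = x + (c * sympForm m F x a) • a := tvc_mulVec a x c

theorem symp_zero_swap {a b : Fin m ⊕ Fin m → F} (h : sympForm m F a b = 0) :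
    sympForm m F b a = 0 := by
  rw [sympForm_swap, h, neg_zero]

/-- (B1), own copy -/
theorem Sab_mulVec' {a b : Fin m ⊕ Fin m → F} (hab : sympForm m F a b = 0) (c : F)
    (x : Fin m ⊕ Fin m → F) :
    mv (Sab a b c) x = x + c • (sympForm m F x a • b + sympForm m F x b • a) := by
  have hba := symp_zero_swap hab
  unfold Sab
  rw [mv_mul, mv_mul, mv_tvc, mv_tvc, mv_tvc]
  simp only [sympForm_add_left, sympForm_add_right, sympForm_smul_left, sympForm_smul_right,
    sympForm_self, hab, hba, mul_zero, add_zero, zero_add]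
  module

/-- (B2) the commutator formula -/
theorem Sab_comm {a b b' d : Fin m ⊕ Fin m → F} (hab : sympForm m F a b = 0)
    (hb'd : sympForm m F b' d = 0) (hab' : sympForm m F a b' = 0) (had : sympForm m F a d = 0)
    (hbd : sympForm m F b d = 0) (c c' : F) :
    Sab a b c * Sab b' d c' * (Sab a b c)⁻¹ * (Sab b' d c')⁻¹ =
      Sab a d (c * c' * sympForm m F b' b) := by
  have key : Sab a b c * Sab b' d c' =
      Sab a d (c * c' * sympForm m F b' b) * Sab b' d c' * Sab a b c := by
    apply gl_ext'
    intro x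
    have hba := symp_zero_swap hab
    have hdb' := symp_zero_swap hb'd
    have hb'a := symp_zero_swap hab'
    have hda := symp_zero_swap had
    have hdb := symp_zero_swap hbd
    have hbb' : sympForm m F b b' = - sympForm m F b' b := sympForm_swap m b b'
    rw [mv_mul, mv_mul, mv_mul, Sab_mulVec' hab, Sab_mulVec' hb'd, Sab_mulVec' had,
      Sab_mulVec' hab, Sab_mulVec' hb'd]
    simp only [sympForm_add_left, sympForm_smul_left,
      sympForm_self, hab, hba, hb'd, hdb', hab', hb'a, had, hda, hbd, hdb, hbb',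
      mul_zero, add_zero, zero_add]
    module
  rw [key]
  group

/-- (B3) the Heisenberg relation in the unipotent radical of the stabiliser of `⟨a⟩` -/
theorem tvc_Sab_comm {a b y : Fin m ⊕ Fin m → F} (hab : sympForm m F a b = 0)
    (hay : sympForm m F a y = 0) (c : F) :
    tvc y c * Sab a b 1 * (tvc y c)⁻¹ * (Sab a b 1)⁻¹ =
      Sab a ((c * sympForm m F b y) • y) 1 * tvc a (-(c * sympForm m F b y ^ 2)) := by
  have hamy : sympForm m F a ((c * sympForm m F b y) • y) = 0 := by
    rw [sympForm_smul_right, hay, mul_zero]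
  have key : tvc y c * Sab a b 1 =
      Sab a ((c * sympForm m F b y) • y) 1 * tvc a (-(c * sympForm m F b y ^ 2)) *
        Sab a b 1 * tvc y c := by
    apply gl_ext'
    intro x
    have hba := symp_zero_swap hab
    have hya := symp_zero_swap hay
    have hyb : sympForm m F y b = - sympForm m F b y := sympForm_swap m y b
    rw [mv_mul, mv_mul, mv_mul, mv_mul, Sab_mulVec' hab, mv_tvc, mv_tvc, Sab_mulVec' hab,
      mv_tvc, Sab_mulVec' hamy]
    simp only [sympForm_add_left, sympForm_smul_left, sympForm_smul_right,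
      sympForm_self, hab, hba, hay, hya, hyb, mul_zero, add_zero, zero_add]
    module
  rw [key]
  group

end Cfsg.Agent.Lib.Helper29.SpSubLeaf
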