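import Mathlib
import Cfsg.Prelude.Def_ClassicalGeometry
import Cfsg.Prelude.Def_GeometricClasses
import Cfsg.Agent.Lib.Helper5.SpMax
import Cfsg.Agent.Lib.Helper2.SpSubDefs
import Cfsg.Agent.Lib.Helper2.SpSubBasic
import Cfsg.Agent.Lib.Helper29.SpSubB

/-!
# S5650 (helper2's market), leaf E1, core (helper29)

The coefficients `c` with `Sab (ee i) (ff j) c ∈ M` for all `i ≠ j` form an `F₀`-subalgebra of `F`;
as `[F : F₀]` is prime it is `F₀` or `F`.  The theorem `nrS_of` takes leaf E0 as a hypothesis.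
-/

set_option autoImplicit false
set_option linter.unusedSimpArgs false
set_option linter.unusedVariables false

open Cfsg Matrix Cfsg.Agent.Lib.Helper5 Cfsg.Agent.Lib.Helper5.SpMax Cfsg.Agent.Lib.Helper2.SpSub

namespace Cfsg.Agent.Lib.Helper29.SpSubLeaf

variable {F : Type*} [Field F] {m : ℕ}

theorem exists_ne2 (hm : 3 ≤ m) (i k : Fin m) : ∃ l : Fin m, l ≠ i ∧ l ≠ k := by
  by_contra hcon
  push Not at hcon
  have hsub : (Finset.univ : Finset (Fin m)) ⊆ {i, k} := by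
    intro l _
    by_cases h : l = i
    · simp [h]
    · simp [hcon l h]
  have h2 := Finset.card_le_card hsub
  have h3 : ({i, k} : Finset (Fin m)).card ≤ 2 := Finset.card_le_two
  rw [Finset.card_univ, Fintype.card_fin] at h2
  omega

theorem ortho_ef {i j : Fin m} (hij : i ≠ j) :
    sympForm m F (ee i : Fin m ⊕ Fin m → F) (ff j) = 0 := by
  rw [B_ee_ff, if_neg hij]

theorem B_ee_ff_self (j : Fin m) : sympForm m F (ee j : Fin m ⊕ Fin m → F) (ff j) = -1 := by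
  rw [B_ee_ff, if_pos rfl]

/-- the basic commutator: for pairwise distinct `i, j, k`,
`[S_{e_i,f_j}(c), S_{e_j,f_k}(d)] = S_{e_i,f_k}(-(c d))`. -/
theorem levi_comm {i j k : Fin m} (hij : i ≠ j) (hjk : j ≠ k) (hik : i ≠ k) (c d : F) :
    Sab (ee i) (ff j) c * Sab (ee j) (ff k) d * (Sab (ee i : Fin m ⊕ Fin m → F) (ff j) c)⁻¹ *
      (Sab (ee j : Fin m ⊕ Fin m → F) (ff k) d)⁻¹ = Sab (ee i) (ff k) (-(c * d)) := by
  rw [Sab_comm (ortho_ef hij) (ortho_ef hjk) (B_ee_ee i j) (ortho_ef hik) (B_ff_ff j k) c d,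
    B_ee_ff_self, mul_neg, mul_one]

theorem levi_comm_mem {M : Subgroup (GL (Fin m ⊕ Fin m) F)} {i j k : Fin m} (hij : i ≠ j)
    (hjk : j ≠ k) (hik : i ≠ k) {c d : F} (hc : Sab (ee i) (ff j) c ∈ M)
    (hd : Sab (ee j) (ff k) d ∈ M) : Sab (ee i) (ff k) (c * d) ∈ M := by
  have h1 : Sab (ee i) (ff k) (-(c * d)) ∈ M := by
    rw [← levi_comm hij hjk hik c d]
    exact M.mul_mem (M.mul_mem (M.mul_mem hc hd) (M.inv_mem hc)) (M.inv_mem hd)
  have h2 := M.inv_mem h1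
  rwa [Sab_inv (ortho_ef hik), neg_neg] at h2

section Alg
variable (F₀ : Subfield F) (M : Subgroup (GL (Fin m ⊕ Fin m) F))

/-- coefficients of the Levi root elements of `M` -/
def Cset : Set F := {c | ∀ i j : Fin m, i ≠ j → Sab (ee i) (ff j) c ∈ M}

variable {F₀ M}

theorem elem_one (hHM : H0 m F₀ ≤ M) {i j : Fin m} (hij : i ≠ j) :
    Sab (ee i) (ff j) (1 : F) ∈ M :=
  hHM (Sab_mem_H0 (ratV_ee i) (ratV_ff j) F₀.one_mem)

theorem col_move (hHM : H0 m F₀ ≤ M) {i j k : Fin m} (hij : i ≠ j) (hik : i ≠ k) {c : F}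
    (h : Sab (ee i) (ff j) c ∈ M) : Sab (ee i) (ff k) c ∈ M := by
  by_cases hkj : k = j
  · rw [hkj]; exact h
  have := levi_comm_mem hij (Ne.symm hkj) hik h (elem_one hHM (Ne.symm hkj))
  rwa [mul_one] at this

theorem row_move (hHM : H0 m F₀ ≤ M) {i l j : Fin m} (hij : i ≠ j) (hlj : l ≠ j) {c : F}
    (h : Sab (ee i) (ff j) c ∈ M) : Sab (ee l) (ff j) c ∈ M := by
  by_cases hli : l = i
  · rw [hli]; exact h
  have := levi_comm_mem hli hij hlj (elem_one hHM hli) h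
  rwa [one_mul] at this

theorem spread (hm : 3 ≤ m) (hHM : H0 m F₀ ≤ M) {i j : Fin m} (hij : i ≠ j) {c : F}
    (h : Sab (ee i) (ff j) c ∈ M) : c ∈ Cset M := by
  intro k l hkl
  obtain ⟨l', hl'i, hl'k⟩ := exists_ne2 hm i k
  have h1 := col_move hHM hij (Ne.symm hl'i) h
  have h2 := row_move hHM (Ne.symm hl'i) (Ne.symm hl'k) h1
  exact col_move hHM (Ne.symm hl'k) hkl h2

/-- the coefficients form a subalgebra over `F₀` -/
def Calg (hm : 3 ≤ m) (hHM : H0 m F₀ ≤ M) : Subalgebra F₀ F where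
  carrier := Cset M
  mul_mem' := by
    intro c d hc hd i k hik
    obtain ⟨j, hji, hjk⟩ := exists_ne2 hm i k
    exact levi_comm_mem (Ne.symm hji) hjk hik (hc i j (Ne.symm hji)) (hd j k hjk)
  one_mem' := fun i j hij => elem_one hHM hij
  add_mem' := by
    intro c d hc hd i j hij
    rw [← Sab_mul (ortho_ef hij)]
    exact M.mul_mem (hc i j hij) (hd i j hij)
  zero_mem' := by
    intro i j hij
    rw [Sab_zero]
    exact M.one_mem
  algebraMap_mem' := by
    intro c i j hij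
    exact hHM (Sab_mem_H0 (ratV_ee i) (ratV_ff j) c.2)

end Alg

/-- (E1) with (E0) as a hypothesis -/
theorem nrS_of [Fintype F] {F₀ : Subfield F} (hm : 3 ≤ m) {M : Subgroup (GL (Fin m ⊕ Fin m) F)}
    (h : Ctx F₀ M)
    (E0 : (∀ (c : F) (i j : Fin m), i ≠ j → Sab (ee i) (ff j) c ∈ M) → spGL m F ≤ M)
    {i j : Fin m} (hij : i ≠ j) {c : F} (hc : Sab (ee i) (ff j) c ∈ M) : c ∈ F₀ := by
  have := Subalgebra.isSimpleOrder_of_finrank_prime F₀ F h.prime
  have hcC : c ∈ Calg hm h.le := spread hm h.le hij hc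
  rcases eq_bot_or_eq_top (Calg hm h.le) with hbot | htop
  · rw [hbot, Algebra.mem_bot] at hcC
    obtain ⟨c₀, rfl⟩ := hcC
    exact c₀.2
  · exfalso
    apply h.ne
    apply E0
    intro d
    have hd : d ∈ Calg hm h.le := by rw [htop]; exact Algebra.mem_top
    exact hd

end Cfsg.Agent.Lib.Helper29.SpSubLeaf
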