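import Mathlib
import Cfsg.Prelude.Def_ClassicalGeometry
import Cfsg.Prelude.Def_GeometricClasses
import Cfsg.Agent.Lib.Helper5.SpMax
import Cfsg.Agent.Lib.Helper2.SpSubDefs
import Cfsg.Agent.Lib.Helper2.SpSubBasic
import Cfsg.Agent.Lib.Helper29.SpSubB

/-!
# S5650 (helper2's market), leaf N1 = (A), core (helper29)

If `S_{a,w}(1) T_a(ν) ∈ M` with `a` rational, then `w` is rational modulo `F a`.
The theorem `ratA_of` takes leaf E2 (`nr_pair`) as a hypothesis.
-/

set_option autoImplicit false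
set_option linter.unusedSimpArgs false
set_option linter.unusedVariables false

open Cfsg Matrix Cfsg.Agent.Lib.Helper5 Cfsg.Agent.Lib.Helper5.SpMax Cfsg.Agent.Lib.Helper2.SpSub

namespace Cfsg.Agent.Lib.Helper29.SpSubLeaf

variable {F : Type*} [Field F] {m : ℕ}

/-- `T_{b+κa}(1) T_b(-1) = S_{a,b}(κ) T_a(κ²)` for `a ⊥ b`. -/
theorem tvc_shift {a b : Fin m ⊕ Fin m → F} (hab : sympForm m F a b = 0) (κ : F) :
    tvc (b + κ • a) 1 * tvc b (-1) = Sab a b κ * tvc a (κ ^ 2) := by
  have hba := symp_zero_swap hab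
  apply gl_ext
  intro x
  rw [mv_mul, mv_mul, tvc_mv, tvc_mv, tvc_mv, Sab_mulVec hab]
  simp only [sympForm_add_left, sympForm_add_right, sympForm_smul_left, sympForm_smul_right,
    sympForm_self, hab, hba, mul_zero, add_zero, zero_add]
  module

/-- a nonzero vector has a rational (basis) vector not orthogonal to it -/
theorem exists_dual (F₀ : Subfield F) {a : Fin m ⊕ Fin m → F} (ha0 : a ≠ 0) :
    ∃ s : Fin m ⊕ Fin m → F, RatV F₀ s ∧ sympForm m F s a ≠ 0 := by
  obtain ⟨u, hu⟩ := Function.ne_iff.mp ha0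
  rw [Pi.zero_apply] at hu
  rcases u with i | i
  · exact ⟨ff i, ratV_ff i, by rw [B_left_ff]; exact hu⟩
  · exact ⟨ee i, ratV_ee i, by rw [B_left_ee]; exact neg_ne_zero.mpr hu⟩

/-- key step of (N1): `B(b, w) ∈ F₀` for every rational `b ⊥ a`. -/
theorem ratA_key {F₀ : Subfield F} {M : Subgroup (GL (Fin m ⊕ Fin m) F)} (h : Ctx F₀ M)
    (E2 : ∀ {a b : Fin m ⊕ Fin m → F}, RatV F₀ a → RatV F₀ b → sympForm m F a b = 0 →
      (∀ s t : F, s • a + t • b = 0 → s = 0 ∧ t = 0) →
      ∀ {κ ν : F}, Sab a b κ * tvc a ν ∈ M → κ ∈ F₀)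
    {a w : Fin m ⊕ Fin m → F} (ha : RatV F₀ a) (ha0 : a ≠ 0)
    (haw : sympForm m F a w = 0) {ν : F} (hc : Sab a w 1 * tvc a ν ∈ M)
    {b : Fin m ⊕ Fin m → F} (hb : RatV F₀ b) (hab : sympForm m F a b = 0) :
    sympForm m F b w ∈ F₀ := by
  have hba := symp_zero_swap hab
  have hXb : mv (Sab a w 1 * tvc a ν) b = b + sympForm m F b w • a := by
    rw [mv_mul, tvc_mv, Sab_mulVec haw]
    simp only [sympForm_add_left, sympForm_smul_left, sympForm_self, hba, mul_zero, add_zero,
      zero_add, zero_smul]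
    module
  have h1 : tvc (b + sympForm m F b w • a) 1 ∈ M := by
    rw [← hXb]
    have hconj := conj_tvc (h.le_sp hc) b 1
    unfold mv
    rw [← hconj]
    exact M.mul_mem (M.mul_mem hc (h.le (tvc_mem_H0 hb F₀.one_mem))) (M.inv_mem hc)
  have h2 : Sab a b (sympForm m F b w) * tvc a (sympForm m F b w ^ 2) ∈ M := by
    rw [← tvc_shift hab]
    exact M.mul_mem h1 (h.le (tvc_mem_H0 hb (F₀.neg_mem F₀.one_mem)))
  by_cases hind : ∀ s t : F, s • a + t • b = 0 → s = 0 ∧ t = 0
  · exact E2 ha hb hab hind h2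
  · push Not at hind
    obtain ⟨s, t, hst, hne⟩ := hind
    have ht : t ≠ 0 := by
      intro ht
      rw [ht, zero_smul, add_zero] at hst
      have hs : s = 0 := by
        rcases smul_eq_zero.mp hst with hs | ha'
        · exact hs
        · exact absurd ha' ha0
      exact hne hs ht
    have h3 : s * sympForm m F a w + t * sympForm m F b w = 0 := by
      have := congrArg (fun v => sympForm m F v w) hst
      simp only [sympForm_add_left, sympForm_smul_left, sympForm_zero_left] at this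
      exact this
    rw [haw, mul_zero, zero_add] at h3
    have hk0 : sympForm m F b w = 0 := (mul_eq_zero.mp h3).resolve_left ht
    rw [hk0]
    exact F₀.zero_mem

/-- (N1) = (A), with (E2) as a hypothesis -/
theorem ratA_of {F₀ : Subfield F} {M : Subgroup (GL (Fin m ⊕ Fin m) F)} (h : Ctx F₀ M)
    (E2 : ∀ {a b : Fin m ⊕ Fin m → F}, RatV F₀ a → RatV F₀ b → sympForm m F a b = 0 →
      (∀ s t : F, s • a + t • b = 0 → s = 0 ∧ t = 0) →
      ∀ {κ ν : F}, Sab a b κ * tvc a ν ∈ M → κ ∈ F₀)
    {a w : Fin m ⊕ Fin m → F} (ha : RatV F₀ a) (ha0 : a ≠ 0)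
    (haw : sympForm m F a w = 0) {ν : F} (hc : Sab a w 1 * tvc a ν ∈ M) :
    ∃ (r : Fin m ⊕ Fin m → F) (θ : F), RatV F₀ r ∧ w = r + θ • a := by
  obtain ⟨as, has, hlam⟩ := exists_dual F₀ ha0
  have hlamF : sympForm m F as a ∈ F₀ := ratV_sympForm has ha
  refine ⟨w - (sympForm m F as w / sympForm m F as a) • a,
    sympForm m F as w / sympForm m F as a, ?_, by abel⟩
  have key : ∀ v, RatV F₀ v →
      sympForm m F v (w - (sympForm m F as w / sympForm m F as a) • a) ∈ F₀ := by
    intro v hv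
    have hb : RatV F₀ (v - (sympForm m F v a / sympForm m F as a) • as) :=
      ratV_sub hv (ratV_smul (F₀.div_mem (ratV_sympForm hv ha) hlamF) has)
    have hab : sympForm m F a (v - (sympForm m F v a / sympForm m F as a) • as) = 0 := by
      rw [sympForm_sub_right, sympForm_smul_right, sympForm_swap m a as, sympForm_swap m a v]
      field_simp
      ring
    have hk := ratA_key h E2 ha ha0 haw hc hb hab
    have e : sympForm m F v (w - (sympForm m F as w / sympForm m F as a) • a) =
        sympForm m F (v - (sympForm m F v a / sympForm m F as a) • as) w := by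
      rw [sympForm_sub_right, sympForm_smul_right, sympForm_sub_left, sympForm_smul_left]
      field_simp
    rw [e]
    exact hk
  intro u
  rcases u with i | i
  · have := key (ff i) (ratV_ff i)
    rwa [B_left_ff] at this
  · have := key (ee i) (ratV_ee i)
    rw [B_left_ee] at this
    have h2 := F₀.neg_mem this
    rwa [neg_neg] at h2

end Cfsg.Agent.Lib.Helper29.SpSubLeaf
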