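import Mathlib
import Cfsg.Agent.Lib.Helper25.SpTDefs

/-!
# S5668 (helper29): ONE-SLOT linear algebra over `A = F^k` with the standard symplectic form `sf`

`dy s w = s w†` (`vecMulVec s (sfv w)`, `u ↦ sf u w • s`), `Nz w = w w†`, `wedge u v = u v† - v u†`.
Plan `notes/S5668_plan.md` §5.1 (Lemma A, Lemma A'), §5.3 (one-slot identities), §4.3 (three
differences).  Everything is stated with plain matrices over `Fin k`, so that it lifts through
helper8's `slot`.
-/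

set_option autoImplicit false
set_option linter.unusedSectionVars false

namespace Cfsg.Agent.Lib.Helper29.TWSOne
open Matrix
open Cfsg.Agent.Lib.Helper25.SpT (sf Jm sfv)

variable {F : Type*} [Field F] {k : ℕ}

/-- `dy s w = s w†` : the rank one operator `u ↦ sf u w • s` -/
abbrev dy (s w : Fin k → F) : Matrix (Fin k) (Fin k) F := Matrix.vecMulVec s (sfv w)

/-- `Nz w = w w†` -/
abbrev Nz (w : Fin k → F) : Matrix (Fin k) (Fin k) F := dy w w

/-- `wedge u v = u v† - v u†` (selfadjoint) -/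
abbrev wedge (u v : Fin k → F) : Matrix (Fin k) (Fin k) F := dy u v - dy v u

/-- selfadjoint for `sf` -/
def SelfAdj (E : Matrix (Fin k) (Fin k) F) : Prop := ∀ a b, sf (E *ᵥ a) b = sf a (E *ᵥ b)

/-- skew-adjoint for `sf` (the Lie algebra `sp(A)`) -/
def SkewAdj (E : Matrix (Fin k) (Fin k) F) : Prop := ∀ a b, sf (E *ᵥ a) b = - sf a (E *ᵥ b)

/-! ### basic calculus -/

lemma sfv_dot' (y v : Fin k → F) : sfv y ⬝ᵥ v = sf v y :=
  Cfsg.Agent.Lib.Helper25.SpT.sfv_dot y v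

lemma sfv_add (y y' : Fin k → F) : sfv (y + y') = sfv y + (sfv y' : Fin k → F) := by
  unfold sfv; rw [Matrix.mulVec_add]

lemma sfv_sub (y y' : Fin k → F) : sfv (y - y') = sfv y - (sfv y' : Fin k → F) := by
  unfold sfv; rw [Matrix.mulVec_sub]

lemma sfv_smul (c : F) (y : Fin k → F) : sfv (c • y) = c • (sfv y : Fin k → F) := by
  unfold sfv; rw [Matrix.mulVec_smul]

lemma sfv_neg (y : Fin k → F) : sfv (-y) = -(sfv y : Fin k → F) := by
  unfold sfv; rw [Matrix.mulVec_neg]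

lemma dy_apply (s w : Fin k → F) (i j : Fin k) : dy s w i j = s i * sfv w j := rfl

lemma dy_mulVec (s w u : Fin k → F) : dy s w *ᵥ u = sf u w • s := by
  rw [dy, Matrix.vecMulVec_mulVec, sfv_dot', op_smul_eq_smul]

lemma dy_mul_dy (a b c d : Fin k → F) : dy a b * dy c d = sf c b • dy a d := by
  rw [dy, dy, Matrix.vecMulVec_mul_vecMulVec, sfv_dot', Matrix.vecMulVec_smul]

lemma mul_dy (M : Matrix (Fin k) (Fin k) F) (a b : Fin k → F) : M * dy a b = dy (M *ᵥ a) b := by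
  rw [dy, Matrix.mul_vecMulVec]

lemma dy_add_left (a a' b : Fin k → F) : dy (a + a') b = dy a b + dy a' b := by
  rw [dy, Matrix.add_vecMulVec]

lemma dy_add_right (a b b' : Fin k → F) : dy a (b + b') = dy a b + dy a b' := by
  rw [dy, sfv_add, Matrix.vecMulVec_add]

lemma dy_sub_left (a a' b : Fin k → F) : dy (a - a') b = dy a b - dy a' b := by
  ext i j; simp only [dy_apply, Pi.sub_apply, Matrix.sub_apply]; ring

lemma dy_sub_right (a b b' : Fin k → F) : dy a (b - b') = dy a b - dy a b' := by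
  ext i j; simp only [dy_apply, sfv_sub, Pi.sub_apply, Matrix.sub_apply]; ring

lemma dy_smul_left (c : F) (a b : Fin k → F) : dy (c • a) b = c • dy a b := by
  rw [dy, Matrix.smul_vecMulVec]

lemma dy_smul_right (c : F) (a b : Fin k → F) : dy a (c • b) = c • dy a b := by
  rw [dy, sfv_smul, Matrix.vecMulVec_smul]

lemma dy_neg_left (a b : Fin k → F) : dy (-a) b = - dy a b := by
  rw [dy, Matrix.neg_vecMulVec]

lemma dy_neg_right (a b : Fin k → F) : dy a (-b) = - dy a b := by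
  rw [dy, sfv_neg, Matrix.vecMulVec_neg]

@[simp] lemma dy_zero_left (b : Fin k → F) : dy (0 : Fin k → F) b = 0 := by
  rw [dy, Matrix.zero_vecMulVec]

@[simp] lemma dy_zero_right (a : Fin k → F) : dy a (0 : Fin k → F) = 0 := by
  have : sfv (0 : Fin k → F) = (0 : Fin k → F) := by unfold sfv; rw [Matrix.mulVec_zero]
  rw [dy, this, Matrix.vecMulVec_zero]

/-- `b† M = (M^* b)†`: for selfadjoint `E`, `(a b†) E = a (E b)†` -/
lemma dy_mul_selfAdj {E : Matrix (Fin k) (Fin k) F} (hE : SelfAdj E) (a b : Fin k → F) :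
    dy a b * E = dy a (E *ᵥ b) := by
  have hv : sfv b ᵥ* E = sfv (E *ᵥ b) := by
    apply dotProduct_eq
    intro u
    rw [← Matrix.dotProduct_mulVec, sfv_dot', sfv_dot', hE u b]
  rw [dy, Matrix.vecMulVec_mul, hv]

lemma dy_mul_skewAdj {E : Matrix (Fin k) (Fin k) F} (hE : SkewAdj E) (a b : Fin k → F) :
    dy a b * E = - dy a (E *ᵥ b) := by
  have hv : sfv b ᵥ* E = sfv (-(E *ᵥ b)) := by
    apply dotProduct_eq
    intro u
    rw [← Matrix.dotProduct_mulVec, sfv_dot', sfv_dot', hE u b,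
      Cfsg.Agent.Lib.Helper25.SpT.sf_neg_right]
  rw [← dy_neg_right, dy, Matrix.vecMulVec_mul, hv]

/-- `z z† M z z† = sf (M z) z • z z†` -/
lemma Nz_mul_mul_Nz (z : Fin k → F) (M : Matrix (Fin k) (Fin k) F) :
    Nz z * M * Nz z = sf (M *ᵥ z) z • Nz z := by
  rw [Matrix.mul_assoc, mul_dy, dy_mul_dy]

/-- `N_z (a b†) N_z = sf a z * sf z b • N_z` -/
lemma Nz_mul_dy_mul_Nz (z a b : Fin k → F) :
    Nz z * dy a b * Nz z = (sf a z * sf z b) • Nz z := by
  rw [Nz_mul_mul_Nz, dy_mulVec, Cfsg.Agent.Lib.Helper25.SpT.sf_smul_left, mul_comm]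

lemma Nz_sq (z : Fin k → F) : Nz z * Nz z = 0 := by
  rw [dy_mul_dy, Cfsg.Agent.Lib.Helper25.SpT.sf_self, zero_smul]

lemma Nz_smul (c : F) (z : Fin k → F) : Nz (c • z) = (c * c) • Nz z := by
  rw [Nz, dy_smul_left, dy_smul_right, smul_smul]

/-- `N_w N_w' = sf w' w • w w'†` -/
lemma Nz_mul_Nz (w w' : Fin k → F) : Nz w * Nz w' = sf w' w • dy w w' := dy_mul_dy w w w' w'

/-- `sf w w* = 1`: `N_w N_w* = - w w*†` -/
lemma Nz_mul_Nz_of_pair {w w' : Fin k → F} (h : sf w w' = 1) : Nz w * Nz w' = - dy w w' := by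
  rw [Nz_mul_Nz, Cfsg.Agent.Lib.Helper25.SpT.sf_skew, h, neg_smul, one_smul]

/-- `sf w w* = 1`: `N_w* N_w = w* w†` -/
lemma Nz_mul_Nz_of_pair' {w w' : Fin k → F} (h : sf w w' = 1) : Nz w' * Nz w = dy w' w := by
  rw [Nz_mul_Nz, h, one_smul]

/-- conjugation by `1 + c N` (valid for every `N`; `(1 + cN)⁻¹ = 1 - cN` when `N² = 0`) -/
lemma conj_expand (N ρ : Matrix (Fin k) (Fin k) F) (c : F) :
    (1 + c • N) * ρ * (1 - c • N) = ρ + c • (N * ρ - ρ * N) - (c * c) • (N * ρ * N) := by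
  simp only [Matrix.add_mul, Matrix.mul_sub, Matrix.one_mul, Matrix.mul_one, Matrix.smul_mul,
    Matrix.mul_smul, Matrix.mul_assoc]
  module

/-- Lemma A with `c = 1` and `c = -1`: the sum of the two conjugates -/
lemma conj_add_conj (N ρ : Matrix (Fin k) (Fin k) F) :
    (1 + N) * ρ * (1 - N) + (1 - N) * ρ * (1 + N) = (2 : F) • ρ - (2 : F) • (N * ρ * N) := by
  simp only [Matrix.add_mul, Matrix.mul_sub, Matrix.mul_add, Matrix.sub_mul, Matrix.one_mul,
    Matrix.mul_one, two_smul, Matrix.mul_assoc]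
  abel

/-- Lemma A with `c = 1` and `c = -1`: the difference of the two conjugates -/
lemma conj_sub_conj (N ρ : Matrix (Fin k) (Fin k) F) :
    (1 + N) * ρ * (1 - N) - (1 - N) * ρ * (1 + N) = (2 : F) • (N * ρ - ρ * N) := by
  simp only [Matrix.add_mul, Matrix.mul_sub, Matrix.mul_add, Matrix.sub_mul, Matrix.one_mul,
    Matrix.mul_one, two_smul, Matrix.mul_assoc]
  abel

/-! ### adjoints -/

lemma selfAdj_one : SelfAdj (1 : Matrix (Fin k) (Fin k) F) := by
  intro a b; rw [Matrix.one_mulVec, Matrix.one_mulVec]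

lemma SelfAdj.smul {E : Matrix (Fin k) (Fin k) F} (hE : SelfAdj E) (c : F) : SelfAdj (c • E) := by
  intro a b
  rw [Matrix.smul_mulVec, Matrix.smul_mulVec, Cfsg.Agent.Lib.Helper25.SpT.sf_smul_left,
    Cfsg.Agent.Lib.Helper25.SpT.sf_smul_right, hE a b]

lemma SelfAdj.add {E E' : Matrix (Fin k) (Fin k) F} (hE : SelfAdj E) (hE' : SelfAdj E') :
    SelfAdj (E + E') := by
  intro a b
  rw [Matrix.add_mulVec, Matrix.add_mulVec, Cfsg.Agent.Lib.Helper25.SpT.sf_add_left,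
    Cfsg.Agent.Lib.Helper25.SpT.sf_add_right, hE a b, hE' a b]

lemma SelfAdj.sub {E E' : Matrix (Fin k) (Fin k) F} (hE : SelfAdj E) (hE' : SelfAdj E') :
    SelfAdj (E - E') := by
  intro a b
  rw [Matrix.sub_mulVec, Matrix.sub_mulVec, Cfsg.Agent.Lib.Helper25.SpT.sf_sub_left,
    Cfsg.Agent.Lib.Helper25.SpT.sf_sub_right, hE a b, hE' a b]

/-- `u ∧ v` is selfadjoint -/
lemma selfAdj_wedge (u v : Fin k → F) : SelfAdj (wedge u v) := by
  intro a b
  simp only [wedge, Matrix.sub_mulVec, dy_mulVec, Cfsg.Agent.Lib.Helper25.SpT.sf_sub_left,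
    Cfsg.Agent.Lib.Helper25.SpT.sf_sub_right, Cfsg.Agent.Lib.Helper25.SpT.sf_smul_left,
    Cfsg.Agent.Lib.Helper25.SpT.sf_smul_right]
  rw [Cfsg.Agent.Lib.Helper25.SpT.sf_skew u b, Cfsg.Agent.Lib.Helper25.SpT.sf_skew v b]
  ring

/-- `w w†` is skew-adjoint -/
lemma skewAdj_Nz (w : Fin k → F) : SkewAdj (Nz w) := by
  intro a b
  simp only [dy_mulVec, Cfsg.Agent.Lib.Helper25.SpT.sf_smul_left,
    Cfsg.Agent.Lib.Helper25.SpT.sf_smul_right]
  rw [Cfsg.Agent.Lib.Helper25.SpT.sf_skew w b]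
  ring

/-- `a b† + b a†` is skew-adjoint (the polarisation of `N`) -/
lemma skewAdj_dy_add (a b : Fin k → F) : SkewAdj (dy a b + dy b a) := by
  intro u v
  simp only [Matrix.add_mulVec, dy_mulVec, Cfsg.Agent.Lib.Helper25.SpT.sf_add_left,
    Cfsg.Agent.Lib.Helper25.SpT.sf_add_right, Cfsg.Agent.Lib.Helper25.SpT.sf_smul_left,
    Cfsg.Agent.Lib.Helper25.SpT.sf_smul_right]
  rw [Cfsg.Agent.Lib.Helper25.SpT.sf_skew a v, Cfsg.Agent.Lib.Helper25.SpT.sf_skew b v]
  ring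

/-- all compressions `sf (E w) w` vanish iff `E` is selfadjoint (`2 ≠ 0`) -/
lemma selfAdj_iff_forall_sf_self (h2 : (2 : F) ≠ 0) (E : Matrix (Fin k) (Fin k) F) :
    SelfAdj E ↔ ∀ w, sf (E *ᵥ w) w = 0 := by
  constructor
  · intro hE w
    have h1 := hE w w
    have h3 : sf (E *ᵥ w) w = - sf (E *ᵥ w) w := by
      conv_lhs => rw [h1, Cfsg.Agent.Lib.Helper25.SpT.sf_skew]
    have h4 : (2 : F) * sf (E *ᵥ w) w = 0 := by linear_combination h3
    rcases mul_eq_zero.1 h4 with h | h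
    · exact absurd h h2
    · exact h
  · intro h a b
    have h1 := h (a + b)
    rw [Matrix.mulVec_add, Cfsg.Agent.Lib.Helper25.SpT.sf_add_left,
      Cfsg.Agent.Lib.Helper25.SpT.sf_add_right, Cfsg.Agent.Lib.Helper25.SpT.sf_add_right,
      h a, h b, zero_add, add_zero] at h1
    rw [Cfsg.Agent.Lib.Helper25.SpT.sf_skew a (E *ᵥ b)]
    linear_combination h1

/-! ### §5.1 (iii): Lemma A' one-slot facts -/

/-- `[N_w, E] = w ∧ (E w)` for selfadjoint `E` -/
lemma comm_Nz_selfAdj {E : Matrix (Fin k) (Fin k) F} (hE : SelfAdj E) (w : Fin k → F) :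
    Nz w * E - E * Nz w = wedge w (E *ᵥ w) := by
  rw [Nz, dy_mul_selfAdj hE, mul_dy]

/-- the general formula `[N_w, x ∧ x'] = sf x w • (w ∧ x') - sf x' w • (w ∧ x)` -/
lemma comm_Nz_wedge (w x x' : Fin k → F) :
    Nz w * wedge x x' - wedge x x' * Nz w = sf x w • wedge w x' - sf x' w • wedge w x := by
  simp only [wedge, Nz, Matrix.mul_sub, Matrix.sub_mul, dy_mul_dy, smul_sub]
  rw [Cfsg.Agent.Lib.Helper25.SpT.sf_skew w x', Cfsg.Agent.Lib.Helper25.SpT.sf_skew w x]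
  simp only [neg_smul]
  abel

/-- `[N_w', w ∧ η] = sf w' η • (w' ∧ w)` for `w' ⟂ w` -/
lemma comm_Nz_wedge_of_perp {w w' : Fin k → F} (h : sf w' w = 0) (η : Fin k → F) :
    Nz w' * wedge w η - wedge w η * Nz w' = sf w' η • wedge w' w := by
  rw [comm_Nz_wedge]
  have h' : sf w w' = 0 := by rw [Cfsg.Agent.Lib.Helper25.SpT.sf_skew, h, neg_zero]
  rw [h', zero_smul, zero_sub, Cfsg.Agent.Lib.Helper25.SpT.sf_skew η w', neg_smul, neg_neg]

/-- `w ∧ v = 0`, `w ≠ 0` (`k` even) forces `v ∈ F w` -/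
lemma eq_smul_of_wedge_eq_zero (hk : Even k) {w v : Fin k → F} (hw : w ≠ 0)
    (h : wedge w v = 0) : ∃ c : F, v = c • w := by
  obtain ⟨a, ha⟩ := Cfsg.Agent.Lib.Helper25.SpT.exists_sf_ne_zero hk hw
  have ha' : sf a w ≠ 0 := by
    rw [Cfsg.Agent.Lib.Helper25.SpT.sf_skew]; exact neg_ne_zero.2 ha
  have h1 : wedge w v *ᵥ a = 0 := by rw [h, Matrix.zero_mulVec]
  rw [wedge, Matrix.sub_mulVec, dy_mulVec, dy_mulVec, sub_eq_zero] at h1
  refine ⟨(sf a w)⁻¹ * sf a v, ?_⟩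
  rw [← smul_smul, h1, smul_smul, inv_mul_cancel₀ ha', one_smul]

lemma wedge_smul_self (c : F) (w : Fin k → F) : wedge w (c • w) = 0 := by
  rw [wedge, dy_smul_left, dy_smul_right, sub_self]

lemma wedge_ne_zero (hk : Even k) {w v : Fin k → F} (hw : w ≠ 0) (hv : ¬ ∃ c : F, v = c • w) :
    wedge w v ≠ 0 := fun h => hv (eq_smul_of_wedge_eq_zero hk hw h)

lemma wedge_swap (u v : Fin k → F) : wedge v u = - wedge u v := by
  rw [wedge, wedge, neg_sub]

/-- a matrix for which every vector is an eigenvector is scalar -/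
lemma scalar_of_forall_eigen (E : Matrix (Fin k) (Fin k) F)
    (h : ∀ w : Fin k → F, ∃ c : F, E *ᵥ w = c • w) : ∃ c : F, E = c • (1 : Matrix (Fin k) (Fin k) F) := by
  classical
  rcases Nat.eq_zero_or_pos k with hk | hk
  · subst hk
    exact ⟨0, by ext i; exact i.elim0⟩
  choose c hc using fun i : Fin k => h (Pi.single i 1)
  have hent : ∀ i j, E i j = if i = j then c j else 0 := by
    intro i j
    have := congrFun (hc j) i
    rw [Matrix.mulVec_single_one] at this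
    simp only [Matrix.col_apply, Pi.smul_apply, Pi.single_apply, smul_eq_mul, mul_ite, mul_one,
      mul_zero] at this
    exact this
  have hcc : ∀ i j, c i = c j := by
    intro i j
    by_cases hij : i = j
    · rw [hij]
    obtain ⟨d, hd⟩ := h (Pi.single i 1 + Pi.single j 1)
    rw [Matrix.mulVec_add, hc i, hc j] at hd
    have hi := congrFun hd i
    have hj := congrFun hd j
    simp only [Pi.add_apply, Pi.smul_apply, Pi.single_apply, smul_eq_mul, if_true, if_neg hij,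
      if_neg (Ne.symm hij), mul_one, mul_zero, add_zero, zero_add] at hi hj
    rw [hi, hj]
  refine ⟨c ⟨0, hk⟩, ?_⟩
  ext i j
  rw [hent, Matrix.smul_apply, Matrix.one_apply, smul_eq_mul, hcc j ⟨0, hk⟩]
  split_ifs <;> simp

/-- a selfadjoint `E` with `w ∧ (E w) = 0` for all `w` is scalar -/
lemma scalar_of_forall_wedge_eq_zero (hk : Even k) (E : Matrix (Fin k) (Fin k) F)
    (h : ∀ w : Fin k → F, wedge w (E *ᵥ w) = 0) : ∃ c : F, E = c • (1 : Matrix (Fin k) (Fin k) F) := by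
  apply scalar_of_forall_eigen
  intro w
  by_cases hw : w = 0
  · exact ⟨0, by rw [hw, Matrix.mulVec_zero, smul_zero]⟩
  · exact eq_smul_of_wedge_eq_zero hk hw (h w)

/-- a non-scalar `E` has a `w ≠ 0` with `E w ∉ F w` (so `w ∧ (E w) ≠ 0`) -/
lemma exists_wedge_ne_zero (hk : Even k) (E : Matrix (Fin k) (Fin k) F)
    (hE : ¬ ∃ c : F, E = c • (1 : Matrix (Fin k) (Fin k) F)) :
    ∃ w : Fin k → F, w ≠ 0 ∧ (¬ ∃ c : F, E *ᵥ w = c • w) ∧ wedge w (E *ᵥ w) ≠ 0 := by
  by_contra hcon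
  apply hE
  apply scalar_of_forall_eigen
  intro w
  by_contra hw
  apply hcon
  have hw0 : w ≠ 0 := by
    rintro rfl
    exact hw ⟨0, by rw [Matrix.mulVec_zero, smul_zero]⟩
  exact ⟨w, hw0, hw, wedge_ne_zero hk hw0 hw⟩

/-! ### `k = 2`: selfadjoint = scalar -/

lemma sf_two (x y : Fin 2 → F) : sf x y = x 0 * y 1 - x 1 * y 0 := by
  rw [Cfsg.Agent.Lib.Helper25.SpT.sf_eq_sum]
  simp [Fin.sum_univ_two, Cfsg.Agent.Lib.Helper25.SpT.Jm_apply]
  ring

/-- in `F^2`, `w^⊥ = F w` -/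
lemma eq_smul_of_sf_eq_zero_two {v w : Fin 2 → F} (hw : w ≠ 0) (h : sf v w = 0) :
    ∃ c : F, v = c • w := by
  rw [sf_two] at h
  by_cases h0 : w 0 = 0
  · have h1 : w 1 ≠ 0 := by
      intro h1
      apply hw
      funext i
      fin_cases i
      · exact h0
      · exact h1
    refine ⟨v 1 / w 1, ?_⟩
    funext i
    fin_cases i
    · simp only [Fin.zero_eta, Pi.smul_apply, smul_eq_mul, h0, mul_zero]
      rw [h0, mul_zero, sub_zero] at h
      rcases mul_eq_zero.1 h with h | h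
      · exact h
      · exact absurd h h1
    · simp only [Fin.mk_one, Pi.smul_apply, smul_eq_mul]
      field_simp
  · refine ⟨v 0 / w 0, ?_⟩
    funext i
    fin_cases i
    · simp only [Fin.zero_eta, Pi.smul_apply, smul_eq_mul]
      field_simp
    · simp only [Fin.mk_one, Pi.smul_apply, smul_eq_mul]
      field_simp
      linear_combination -h

/-- `SelfAdj(F^2) = F · 1` (`2 ≠ 0`) -/
lemma scalar_of_selfAdj_two (h2 : (2 : F) ≠ 0) {E : Matrix (Fin 2) (Fin 2) F} (hE : SelfAdj E) :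
    ∃ c : F, E = c • (1 : Matrix (Fin 2) (Fin 2) F) := by
  apply scalar_of_forall_eigen
  intro w
  by_cases hw : w = 0
  · exact ⟨0, by rw [hw, Matrix.mulVec_zero, smul_zero]⟩
  · exact eq_smul_of_sf_eq_zero_two hw ((selfAdj_iff_forall_sf_self h2 E).1 hE w)

/-! ### §5.3 one-slot identities: `X = x ∧ x'`, `Y = y₁ ∧ x` -/

section conversion
variable {x x' y₁ : Fin k → F}

/-- `X Y = N_x` -/
lemma XY (h0 : sf x x' = 0) (h1 : sf y₁ x = 0) (h2 : sf y₁ x' = 1) :
    wedge x x' * wedge y₁ x = Nz x := by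
  simp only [wedge, Matrix.sub_mul, Matrix.mul_sub, dy_mul_dy, h0, h1, h2,
    Cfsg.Agent.Lib.Helper25.SpT.sf_self, zero_smul, one_smul, sub_zero]

/-- `Y X = - N_x` -/
lemma YX (h0 : sf x x' = 0) (h1 : sf y₁ x = 0) (h2 : sf y₁ x' = 1) :
    wedge y₁ x * wedge x x' = - Nz x := by
  have h1' : sf x y₁ = 0 := by rw [Cfsg.Agent.Lib.Helper25.SpT.sf_skew, h1, neg_zero]
  have h2' : sf x' y₁ = -1 := by rw [Cfsg.Agent.Lib.Helper25.SpT.sf_skew, h2]
  have h0' : sf x' x = 0 := by rw [Cfsg.Agent.Lib.Helper25.SpT.sf_skew, h0, neg_zero]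
  simp only [wedge, Matrix.sub_mul, Matrix.mul_sub, dy_mul_dy, h0', h1', h2',
    Cfsg.Agent.Lib.Helper25.SpT.sf_self, zero_smul, neg_smul, one_smul, sub_zero, zero_sub,
    sub_neg_eq_add, zero_add]

/-- `X² = 0` for a t.i. pair -/
lemma XX (h0 : sf x x' = 0) : wedge x x' * wedge x x' = 0 := by
  have h0' : sf x' x = 0 := by rw [Cfsg.Agent.Lib.Helper25.SpT.sf_skew, h0, neg_zero]
  simp only [wedge, Matrix.sub_mul, Matrix.mul_sub, dy_mul_dy, h0, h0',
    Cfsg.Agent.Lib.Helper25.SpT.sf_self, zero_smul, sub_zero]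

/-- `X Y X = 0` -/
lemma XYX (h0 : sf x x' = 0) (h1 : sf y₁ x = 0) (h2 : sf y₁ x' = 1) :
    wedge x x' * wedge y₁ x * wedge x x' = 0 := by
  have h0' : sf x' x = 0 := by rw [Cfsg.Agent.Lib.Helper25.SpT.sf_skew, h0, neg_zero]
  rw [XY h0 h1 h2]
  simp only [wedge, Nz, Matrix.mul_sub, dy_mul_dy, h0', Cfsg.Agent.Lib.Helper25.SpT.sf_self,
    zero_smul, sub_zero]

/-- `Y X Y = 0` -/
lemma YXY (h0 : sf x x' = 0) (h1 : sf y₁ x = 0) (h2 : sf y₁ x' = 1) :
    wedge y₁ x * wedge x x' * wedge y₁ x = 0 := by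
  rw [YX h0 h1 h2]
  simp only [wedge, Nz, Matrix.neg_mul, Matrix.mul_sub, dy_mul_dy, h1,
    Cfsg.Agent.Lib.Helper25.SpT.sf_self, zero_smul, sub_zero, neg_zero]

end conversion

/-- for a t.i. pair `sf u v = 0`: `(u ∧ v)² = 0` (so also `Y² = 0`) -/
lemma wedge_sq_of_perp {u v : Fin k → F} (h : sf u v = 0) : wedge u v * wedge u v = 0 := XX h

/-- the hyperbolic projection `π = w w*† - w* w†` fixes `w`, `w*` (`sf w w* = 1`) -/
lemma proj_mulVec_left {w w' : Fin k → F} (h : sf w w' = 1) : (dy w w' - dy w' w) *ᵥ w = w := by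
  rw [Matrix.sub_mulVec, dy_mulVec, dy_mulVec, h, Cfsg.Agent.Lib.Helper25.SpT.sf_self, one_smul,
    zero_smul, sub_zero]

lemma proj_mulVec_right {w w' : Fin k → F} (h : sf w w' = 1) : (dy w w' - dy w' w) *ᵥ w' = w' := by
  rw [Matrix.sub_mulVec, dy_mulVec, dy_mulVec, Cfsg.Agent.Lib.Helper25.SpT.sf_self,
    Cfsg.Agent.Lib.Helper25.SpT.sf_skew, h, zero_smul, zero_sub, neg_smul, one_smul, neg_neg]

lemma proj_mulVec_perp {w w' u : Fin k → F} (h1 : sf u w = 0) (h2 : sf u w' = 0) :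
    (dy w w' - dy w' w) *ᵥ u = 0 := by
  rw [Matrix.sub_mulVec, dy_mulVec, dy_mulVec, h1, h2, zero_smul, zero_smul, sub_zero]

/-! ### the three-differences identity (§4.3, `q = 3`) -/

/-- `N_{a+b} + N_{a-b} = 2 N_a + 2 N_b` -/
lemma Nz_add_add_Nz_sub (a b : Fin k → F) :
    Nz (a + b) + Nz (a - b) = (2 : F) • Nz a + (2 : F) • Nz b := by
  simp only [Nz, dy_add_left, dy_add_right, dy_sub_left, dy_sub_right, two_smul]
  abel

/-- in characteristic 3: `N_a = (N_a - N_b) + (N_a - N_{a+b}) + (N_a - N_{a-b})` -/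
lemma three_differences (h3 : (3 : F) = 0) (a b : Fin k → F) :
    Nz a = (Nz a - Nz b) + (Nz a - Nz (a + b)) + (Nz a - Nz (a - b)) := by
  have h := Nz_add_add_Nz_sub a b
  have e : (Nz a - Nz b) + (Nz a - Nz (a + b)) + (Nz a - Nz (a - b)) =
      (3 : F) • Nz a - Nz b - (Nz (a + b) + Nz (a - b)) := by
    have : (3 : F) • Nz a = Nz a + Nz a + Nz a := by
      rw [show (3 : F) = 1 + 1 + 1 by norm_num, add_smul, add_smul, one_smul]
    rw [this]; abel
  rw [e, h]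
  have : (2 : F) = -1 := by linear_combination h3
  rw [h3, this, zero_smul, neg_smul, one_smul, neg_smul, one_smul]
  abel

end Cfsg.Agent.Lib.Helper29.TWSOne
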