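import Mathlib
import Cfsg.Agent.Lib.Helper25.SpTDefs
import Cfsg.Agent.Lib.Helper29.TWSOneSlot

/-!
# S5668 (helper29): ONE-SLOT linear algebra, part 2: existence lemmas

* nondegeneracy in the second argument, hyperbolic partner, the vector `y₁` of §5.3;
* the hyperbolic splitting `∑ π = 1`;
* `k ≥ 3`: `w^⊥ ⊄ F w`; the non-covering lemma of Lemma A' (§5.1 (iii)).
-/

set_option autoImplicit false
set_option linter.unusedSectionVars false

namespace Cfsg.Agent.Lib.Helper29.TWSOne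
open Matrix
open Cfsg.Agent.Lib.Helper25.SpT (sf Jm sfv pr)

variable {F : Type*} [Field F] {k : ℕ}

/-- nondegeneracy in the second argument -/
lemma eq_zero_of_forall_sf_left (hk : Even k) {u : Fin k → F} (h : ∀ v, sf v u = 0) : u = 0 := by
  by_contra hu
  obtain ⟨y, hy⟩ := Cfsg.Agent.Lib.Helper25.SpT.exists_sf_ne_zero hk hu
  apply hy
  rw [Cfsg.Agent.Lib.Helper25.SpT.sf_skew, h y, neg_zero]

/-- nondegeneracy in the first argument -/
lemma eq_zero_of_forall_sf_right (hk : Even k) {u : Fin k → F} (h : ∀ v, sf u v = 0) : u = 0 := by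
  by_contra hu
  obtain ⟨y, hy⟩ := Cfsg.Agent.Lib.Helper25.SpT.exists_sf_ne_zero hk hu
  exact hy (h y)

/-- a hyperbolic partner -/
lemma exists_partner (hk : Even k) {w : Fin k → F} (hw : w ≠ 0) : ∃ w' : Fin k → F, sf w w' = 1 := by
  obtain ⟨y, hy⟩ := Cfsg.Agent.Lib.Helper25.SpT.exists_sf_ne_zero hk hw
  refine ⟨(sf w y)⁻¹ • y, ?_⟩
  rw [Cfsg.Agent.Lib.Helper25.SpT.sf_smul_right, inv_mul_cancel₀ hy]

/-- `x' ∉ F x`: there is `v ⟂ x` with `sf v x' ≠ 0` -/
lemma exists_perp_sf_ne_zero (hk : Even k) {x x' : Fin k → F} (hx : x ≠ 0)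
    (hind : ¬ ∃ c : F, x' = c • x) : ∃ v : Fin k → F, sf v x = 0 ∧ sf v x' ≠ 0 := by
  by_contra hcon
  push Not at hcon
  obtain ⟨a, ha⟩ := exists_partner hk hx
  have ha' : sf a x = -1 := by rw [Cfsg.Agent.Lib.Helper25.SpT.sf_skew, ha]
  apply hind
  refine ⟨- sf a x', ?_⟩
  have h0 : x' - (- sf a x') • x = 0 := by
    apply eq_zero_of_forall_sf_left hk
    intro v
    have hv : sf (v + sf v x • a) x = 0 := by
      rw [Cfsg.Agent.Lib.Helper25.SpT.sf_add_left, Cfsg.Agent.Lib.Helper25.SpT.sf_smul_left, ha']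
      ring
    have h1 := hcon _ hv
    rw [Cfsg.Agent.Lib.Helper25.SpT.sf_add_left, Cfsg.Agent.Lib.Helper25.SpT.sf_smul_left] at h1
    rw [Cfsg.Agent.Lib.Helper25.SpT.sf_sub_right, Cfsg.Agent.Lib.Helper25.SpT.sf_smul_right]
    linear_combination h1
  exact sub_eq_zero.1 h0

/-- the vector `y₁` of plan §5.3: `x' ∉ F x` gives `y₁ ⟂ x` with `sf y₁ x' = 1` -/
lemma exists_y1 (hk : Even k) {x x' : Fin k → F} (hx : x ≠ 0)
    (hind : ¬ ∃ c : F, x' = c • x) : ∃ y₁ : Fin k → F, sf y₁ x = 0 ∧ sf y₁ x' = 1 := by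
  obtain ⟨v, hv0, hv1⟩ := exists_perp_sf_ne_zero hk hx hind
  refine ⟨(sf v x')⁻¹ • v, ?_, ?_⟩
  · rw [Cfsg.Agent.Lib.Helper25.SpT.sf_smul_left, hv0, mul_zero]
  · rw [Cfsg.Agent.Lib.Helper25.SpT.sf_smul_left, inv_mul_cancel₀ hv1]

/-! ### the hyperbolic splitting -/

lemma sfv_single (j b : Fin k) : sfv (Pi.single j (1 : F)) b = Jm k b j := by
  unfold sfv
  rw [Matrix.mulVec_single_one]
  rfl

/-- `1 = ∑_i J(i, i*) e_i e_{i*}†` -/
lemma sum_Jm_dy (hk : Even k) :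
    ∑ i : Fin k, ((Jm k : Matrix (Fin k) (Fin k) F) i (pr hk i)) •
      dy (Pi.single i (1 : F)) (Pi.single (pr hk i) (1 : F)) = 1 := by
  classical
  ext a b
  rw [Matrix.sum_apply]
  simp only [Matrix.smul_apply, dy_apply, smul_eq_mul]
  rw [Finset.sum_eq_single a]
  · rw [Pi.single_eq_same, one_mul, sfv_single, Matrix.one_apply]
    by_cases hab : a = b
    · subst hab
      rw [if_pos rfl, Cfsg.Agent.Lib.Helper25.SpT.Jm_pr]
      split_ifs <;> simp
    · rw [if_neg hab, Cfsg.Agent.Lib.Helper25.SpT.Jm_eq_zero_of_ne hk b (pr hk a), mul_zero]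
      intro h
      apply hab
      have := congrArg (pr hk) h
      rw [Cfsg.Agent.Lib.Helper25.SpT.pr_pr, Cfsg.Agent.Lib.Helper25.SpT.pr_pr] at this
      exact this
  · intro i _ hia
    rw [Pi.single_eq_of_ne (Ne.symm hia)]
    ring
  · intro h
    exact absurd (Finset.mem_univ a) h

/-- the hyperbolic projection `π_i = e_i e_{i*}† - e_{i*} e_i†` for an EVEN index `i` -/
abbrev hypProj (hk : Even k) (i : Fin k) : Matrix (Fin k) (Fin k) F :=
  dy (Pi.single i (1 : F)) (Pi.single (pr hk i) (1 : F)) -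
    dy (Pi.single (pr hk i) (1 : F)) (Pi.single i (1 : F))

lemma sf_single_pr (hk : Even k) (i : Fin k) (hi : i.val % 2 = 0) :
    sf (Pi.single i (1 : F)) (Pi.single (pr hk i) (1 : F)) = 1 := by
  rw [Cfsg.Agent.Lib.Helper25.SpT.sf_single_single, Cfsg.Agent.Lib.Helper25.SpT.Jm_pr, if_pos hi]

/-- the sum of the hyperbolic projections over the even indices is `1` -/
lemma sum_hypProj (hk : Even k) :
    ∑ i ∈ (Finset.univ : Finset (Fin k)).filter (fun i => i.val % 2 = 0), hypProj (F := F) hk i = 1 := by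
  classical
  rw [← sum_Jm_dy (F := F) hk]
  -- split the full sum into even and odd indices, reindex the odd ones by `pr`
  rw [← Finset.sum_filter_add_sum_filter_not (Finset.univ : Finset (Fin k)) (fun i => i.val % 2 = 0)]
  have hodd : ∑ i ∈ (Finset.univ : Finset (Fin k)).filter (fun i => ¬ i.val % 2 = 0),
      ((Jm k : Matrix (Fin k) (Fin k) F) i (pr hk i)) •
        dy (Pi.single i (1 : F)) (Pi.single (pr hk i) (1 : F)) =
      ∑ i ∈ (Finset.univ : Finset (Fin k)).filter (fun i => i.val % 2 = 0),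
        - dy (Pi.single (pr hk i) (1 : F)) (Pi.single i (1 : F)) := by
    symm
    apply Finset.sum_bij (fun i _ => pr hk i)
    · intro i hi
      rw [Finset.mem_filter] at hi ⊢
      refine ⟨Finset.mem_univ _, ?_⟩
      rw [Cfsg.Agent.Lib.Helper25.SpT.pr_val_even hk i hi.2]
      omega
    · intro i _ j _ hij
      have := congrArg (pr hk) hij
      rw [Cfsg.Agent.Lib.Helper25.SpT.pr_pr, Cfsg.Agent.Lib.Helper25.SpT.pr_pr] at this
      exact this
    · intro j hj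
      rw [Finset.mem_filter] at hj
      refine ⟨pr hk j, ?_, Cfsg.Agent.Lib.Helper25.SpT.pr_pr hk j⟩
      rw [Finset.mem_filter]
      refine ⟨Finset.mem_univ _, ?_⟩
      rw [Cfsg.Agent.Lib.Helper25.SpT.pr_val_odd hk j hj.2]
      omega
    · intro i hi
      rw [Finset.mem_filter] at hi
      have hodd' : ¬ (pr hk i).val % 2 = 0 := by
        rw [Cfsg.Agent.Lib.Helper25.SpT.pr_val_even hk i hi.2]; omega
      rw [Cfsg.Agent.Lib.Helper25.SpT.Jm_pr, if_neg hodd', Cfsg.Agent.Lib.Helper25.SpT.pr_pr,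
        neg_smul, one_smul]
  rw [hodd, ← Finset.sum_add_distrib]
  apply Finset.sum_congr rfl
  intro i hi
  rw [Finset.mem_filter] at hi
  rw [Cfsg.Agent.Lib.Helper25.SpT.Jm_pr, if_pos hi.2, one_smul, hypProj, sub_eq_add_neg]

/-! ### `k ≥ 3`: non-covering -/

/-- `k ≥ 3`: there is `u ⟂ w`, `u ∉ F w` -/
lemma exists_perp_not_smul (hk : Even k) (hk3 : 3 ≤ k) {w : Fin k → F} (hw : w ≠ 0) :
    ∃ u : Fin k → F, sf u w = 0 ∧ ¬ ∃ c : F, u = c • w := by
  classical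
  obtain ⟨i, hi⟩ := Function.ne_iff.mp hw
  rw [Pi.zero_apply] at hi
  obtain ⟨j, hji, hjp⟩ : ∃ j : Fin k, j ≠ i ∧ j ≠ pr hk i := by
    by_contra hcon
    push Not at hcon
    have hsub : (Finset.univ : Finset (Fin k)) ⊆ {i, pr hk i} := by
      intro j _
      by_cases h : j = i
      · simp [h]
      · simp [hcon j h]
    have h1 := Finset.card_le_card hsub
    rw [Finset.card_univ, Fintype.card_fin] at h1
    have h2 : ({i, pr hk i} : Finset (Fin k)).card ≤ 2 := Finset.card_le_two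
    omega
  set a : F := sf (Pi.single j (1 : F)) w with ha
  set b : F := sf (Pi.single (pr hk i) (1 : F)) w with hb
  have hb0 : b ≠ 0 := by
    rw [hb, Cfsg.Agent.Lib.Helper25.SpT.sf_single_left' hk, Cfsg.Agent.Lib.Helper25.SpT.pr_pr]
    have h := Cfsg.Agent.Lib.Helper25.SpT.Jm_pr_ne_zero (F := F) hk (pr hk i)
    rw [Cfsg.Agent.Lib.Helper25.SpT.pr_pr] at h
    exact mul_ne_zero h hi
  have hpi : pr hk i ≠ i := Cfsg.Agent.Lib.Helper25.SpT.pr_ne hk i
  refine ⟨Pi.single j (1 : F) - (a / b) • Pi.single (pr hk i) (1 : F), ?_, ?_⟩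
  · rw [Cfsg.Agent.Lib.Helper25.SpT.sf_sub_left, Cfsg.Agent.Lib.Helper25.SpT.sf_smul_left, ← ha,
      ← hb]
    field_simp
    ring
  · rintro ⟨c, hc⟩
    have h1 := congrFun hc i
    have h2 := congrFun hc j
    simp only [Pi.sub_apply, Pi.smul_apply, smul_eq_mul, Pi.single_apply] at h1 h2
    rw [if_neg (Ne.symm hji), if_neg (Ne.symm hpi), mul_zero, sub_zero] at h1
    rw [if_pos trivial, if_neg hjp, mul_zero, sub_zero] at h2
    have hc0 : c = 0 := by
      rcases mul_eq_zero.1 h1.symm with h | h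
      · exact h
      · exact absurd h hi
    rw [hc0, zero_mul] at h2
    exact one_ne_zero h2

/-- Lemma A' (§5.1 (iii)), non-covering: `k ≥ 3` (so `k ≥ 4`), `w ≠ 0`, `η ∉ F w`: there is
`w' ⟂ w`, `w' ∉ F w` with `sf w' η ≠ 0`. -/
lemma exists_perp_not_smul_sf_ne_zero (hk : Even k) (hk3 : 3 ≤ k) {w η : Fin k → F} (hw : w ≠ 0)
    (hη : ¬ ∃ c : F, η = c • w) :
    ∃ w' : Fin k → F, sf w' w = 0 ∧ (¬ ∃ c : F, w' = c • w) ∧ sf w' η ≠ 0 := by
  obtain ⟨v, hv0, hv1⟩ := exists_perp_sf_ne_zero hk hw hη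
  by_cases hv : ∃ c : F, v = c • w
  · obtain ⟨c, rfl⟩ := hv
    rw [Cfsg.Agent.Lib.Helper25.SpT.sf_smul_left] at hv1
    have hwη : sf w η ≠ 0 := fun h => hv1 (by rw [h, mul_zero])
    obtain ⟨u, hu0, hu1⟩ := exists_perp_not_smul hk hk3 hw
    by_cases hu : sf u η = 0
    · refine ⟨u + w, ?_, ?_, ?_⟩
      · rw [Cfsg.Agent.Lib.Helper25.SpT.sf_add_left, hu0, Cfsg.Agent.Lib.Helper25.SpT.sf_self,
          add_zero]
      · rintro ⟨d, hd⟩
        apply hu1
        refine ⟨d - 1, ?_⟩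
        rw [sub_smul, one_smul, ← hd, add_sub_cancel_right]
      · rw [Cfsg.Agent.Lib.Helper25.SpT.sf_add_left, hu, zero_add]
        exact hwη
    · exact ⟨u, hu0, hu1, hu⟩
  · exact ⟨v, hv0, hv, hv1⟩

/-- Lemma A' in one slot: a selfadjoint non-scalar `E` (`k ≥ 3`) has `w`, `w' ⟂ w` with
`[N_w', [N_w, E]] = c • (w' ∧ w)`, `c ≠ 0`, `w' ∧ w ≠ 0`. -/
lemma lemmaA'_one_slot (hk : Even k) (hk3 : 3 ≤ k) {E : Matrix (Fin k) (Fin k) F} (hE : SelfAdj E)
    (hns : ¬ ∃ c : F, E = c • (1 : Matrix (Fin k) (Fin k) F)) :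
    ∃ (w w' : Fin k → F) (c : F), w ≠ 0 ∧ sf w' w = 0 ∧ (¬ ∃ d : F, w' = d • w) ∧ c ≠ 0 ∧
      Nz w' * (Nz w * E - E * Nz w) - (Nz w * E - E * Nz w) * Nz w' = c • wedge w' w ∧
      wedge w' w ≠ 0 := by
  obtain ⟨w, hw0, hw1, _⟩ := exists_wedge_ne_zero hk E hns
  obtain ⟨w', h0, h1, h2⟩ := exists_perp_not_smul_sf_ne_zero hk hk3 hw0 hw1
  refine ⟨w, w', sf w' (E *ᵥ w), hw0, h0, h1, h2, ?_, ?_⟩
  · rw [comm_Nz_selfAdj hE, comm_Nz_wedge_of_perp h0]
  · rw [wedge_swap]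
    exact neg_ne_zero.2 (wedge_ne_zero hk hw0 h1)

end Cfsg.Agent.Lib.Helper29.TWSOne
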