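import Mathlib
import Cfsg.Agent.Lib.Helper20.AschDefs

/-!
S5630 block A23 / TS, leaf STR2 `multiple_of_decomp` (adapted basis ⇒ matrices).
-/

set_option autoImplicit false
set_option linter.unusedSectionVars false
set_option linter.unusedVariables false

namespace Cfsg.Agent.Lib.Helper29.AschLeaf
open Matrix Cfsg.Geo Cfsg.Agent.Lib.Helper20.Asch
open scoped Kronecker

variable {F : Type*} [Field F] {n : ℕ}

/-- `A ⊗ 1 = B ⊗ 1` implies `A = B` -/
lemma str2_kron_inj {s k : ℕ} (hk : 0 < k) {A B : Matrix (Fin s) (Fin s) F}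
    (h : A ⊗ₖ (1 : Matrix (Fin k) (Fin k) F) = B ⊗ₖ (1 : Matrix (Fin k) (Fin k) F)) : A = B := by
  ext i j
  have h1 := congrFun (congrFun h (i, ⟨0, hk⟩)) (j, ⟨0, hk⟩)
  simpa [Matrix.kroneckerMap_apply] using h1

/-- `(A * B) ⊗ 1 = (A ⊗ 1) * (B ⊗ 1)` -/
lemma str2_kron_mul {s k : ℕ} (A B : Matrix (Fin s) (Fin s) F) :
    (A * B) ⊗ₖ (1 : Matrix (Fin k) (Fin k) F) =
      (A ⊗ₖ (1 : Matrix (Fin k) (Fin k) F)) * (B ⊗ₖ (1 : Matrix (Fin k) (Fin k) F)) := by
  rw [← Matrix.mul_kronecker_mul, mul_one]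

/-- the key matrix identity: if `x` acts on the columns `col (a, j)` through `rr` in the first index, then
`x * P = P * (rr ⊗ 1)` for the matrix `P` with these columns -/
lemma str2_key {s k : ℕ} (e : Fin n ≃ Fin s × Fin k) (col : Fin s × Fin k → (Fin n → F))
    (x : Matrix (Fin n) (Fin n) F) (rr : Matrix (Fin s) (Fin s) F)
    (h : ∀ a j, x *ᵥ col (a, j) = ∑ b, rr b a • col (b, j)) :
    x * (Matrix.of fun i' i => col (e i) i') =
      (Matrix.of fun i' i => col (e i) i') *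
        Matrix.reindex e.symm e.symm (rr ⊗ₖ (1 : Matrix (Fin k) (Fin k) F)) := by
  ext i' i
  rw [Matrix.mul_apply, Matrix.mul_apply]
  have h1 : ∑ m, x i' m * (Matrix.of fun i' i => col (e i) i') m i = (x *ᵥ col (e i)) i' := rfl
  rw [h1]
  have h2 := congrFun (h (e i).1 (e i).2) i'
  rw [Prod.mk.eta] at h2
  rw [h2]
  have h3 : ∑ l, (Matrix.of fun i' i => col (e i) i') i' l *
      (Matrix.reindex e.symm e.symm (rr ⊗ₖ (1 : Matrix (Fin k) (Fin k) F))) l i =
      ∑ p : Fin s × Fin k, col p i' *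
        (rr p.1 (e i).1 * (1 : Matrix (Fin k) (Fin k) F) p.2 (e i).2) := by
    apply Fintype.sum_equiv e
    intro l
    simp [Matrix.kroneckerMap_apply]
  rw [h3, Fintype.sum_prod_type]
  simp only [Finset.sum_apply, Pi.smul_apply, smul_eq_mul]
  apply Finset.sum_congr rfl
  intro b _
  rw [Finset.sum_eq_single (e i).2]
  · rw [Matrix.one_apply_eq, mul_one, mul_comm]
  · intro j _ hj
    rw [Matrix.one_apply_ne hj, mul_zero, mul_zero]
  · intro h; exact absurd (Finset.mem_univ _) h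

/-- the subgroup `{a ∈ GL_s | ∃ x ∈ X, x = P (a ⊗ 1) P⁻¹}` -/
def str2R {s k : ℕ} (X : Subgroup (GL (Fin n) F)) (e : Fin n ≃ Fin s × Fin k) (P : GL (Fin n) F) :
    Subgroup (GL (Fin s) F) where
  carrier := {a | ∃ x ∈ X, (x : Matrix (Fin n) (Fin n) F) =
    conjR e P ((a : Matrix (Fin s) (Fin s) F) ⊗ₖ (1 : Matrix (Fin k) (Fin k) F))}
  mul_mem' := by
    rintro a b ⟨x, hx, hxa⟩ ⟨y, hy, hyb⟩
    refine ⟨x * y, X.mul_mem hx hy, ?_⟩
    rw [Units.val_mul, Units.val_mul, hxa, hyb, ← conjR_mul, ← str2_kron_mul]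
  one_mem' := ⟨1, X.one_mem, by
    rw [Units.val_one, Units.val_one, Matrix.one_kronecker_one, conjR_one]⟩
  inv_mem' := by
    rintro a ⟨x, hx, hxa⟩
    refine ⟨x⁻¹, X.inv_mem hx, ?_⟩
    have h1 : conjR e P (((a⁻¹ : GL (Fin s) F) : Matrix (Fin s) (Fin s) F) ⊗ₖ
        (1 : Matrix (Fin k) (Fin k) F)) * (x : Matrix (Fin n) (Fin n) F) = 1 := by
      rw [hxa, ← conjR_mul, ← str2_kron_mul, ← Units.val_mul, inv_mul_cancel, Units.val_one,
        Matrix.one_kronecker_one, conjR_one]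
    calc ((x⁻¹ : GL (Fin n) F) : Matrix (Fin n) (Fin n) F)
        = (conjR e P (((a⁻¹ : GL (Fin s) F) : Matrix (Fin s) (Fin s) F) ⊗ₖ
            (1 : Matrix (Fin k) (Fin k) F)) * (x : Matrix (Fin n) (Fin n) F)) *
            ((x⁻¹ : GL (Fin n) F) : Matrix (Fin n) (Fin n) F) := by rw [h1, one_mul]
      _ = _ := by rw [mul_assoc, ← Units.val_mul, mul_inv_cancel, Units.val_one, mul_one]

/-- STR2, core: with a given basis `u` of `S` and `0 < k` -/
theorem str2_core {X : Subgroup (GL (Fin n) F)} {S : Submodule F (Fin n → F)}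
    (hSinv : XInv X S)
    (hmin : ∀ W : Submodule F (Fin n → F), W ≤ S → XInv X W → W = ⊥ ∨ W = S)
    {k : ℕ} (hk : 0 < k) (T : Fin k → Matrix (Fin n) (Fin n) F) (hT : ∀ j, T j ∈ Cen X)
    (hbij : Function.Bijective (fun v : Fin k → S => ∑ j, (T j).mulVec (v j : Fin n → F)))
    {s : ℕ} (u : Module.Basis (Fin s) F S) :
    ∃ (e : Fin n ≃ Fin s × Fin k) (P : GL (Fin n) F) (R : Subgroup (GL (Fin s) F)),
      Irr R ∧ IsMultipleOf X R e P := by
  classical
  -- the linear equivalence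
  let Φ : (Fin k → S) →ₗ[F] (Fin n → F) :=
    ∑ j, (Matrix.toLin' (T j)) ∘ₗ S.subtype ∘ₗ (LinearMap.proj j)
  have hΦ : ∀ v : Fin k → S, Φ v = ∑ j, (T j).mulVec (v j : Fin n → F) := by
    intro v
    simp [Φ, LinearMap.sum_apply, Matrix.toLin'_apply]
  have hΦbij : Function.Bijective Φ := by
    have : (Φ : (Fin k → S) → (Fin n → F)) =
        fun v : Fin k → S => ∑ j, (T j).mulVec (v j : Fin n → F) := funext hΦ
    rw [this]; exact hbij
  let Φe : (Fin k → S) ≃ₗ[F] (Fin n → F) := LinearEquiv.ofBijective Φ hΦbij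
  let col : Fin s × Fin k → (Fin n → F) := fun p => (T p.2).mulVec (u p.1 : Fin n → F)
  let c0 : Module.Basis (Fin s × Fin k) F (Fin n → F) :=
    ((Pi.basis fun _ : Fin k => u).map Φe).reindex
      ((Equiv.sigmaEquivProd (Fin k) (Fin s)).trans (Equiv.prodComm (Fin k) (Fin s)))
  have hc0 : ∀ p, c0 p = col p := by
    rintro ⟨a, j⟩
    simp only [c0, Module.Basis.reindex_apply, Module.Basis.map_apply]
    show Φe ((Pi.basis fun _ : Fin k => u) ⟨j, a⟩) = col (a, j)
    rw [Pi.basis_apply]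
    show Φ (Pi.single j (u a)) = _
    rw [hΦ]
    rw [Finset.sum_eq_single j]
    · simp [col]
    · intro j' _ hj'
      rw [Pi.single_eq_of_ne hj']
      simp
    · intro h; exact absurd (Finset.mem_univ _) h
  let e : Fin n ≃ Fin s × Fin k := (Pi.basisFun F (Fin n)).indexEquiv c0
  let c : Module.Basis (Fin n) F (Fin n → F) := c0.reindex e.symm
  have hc : ∀ i, c i = col (e i) := by
    intro i
    simp only [c, Module.Basis.reindex_apply, Equiv.symm_symm]
    exact hc0 _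
  let Pm : Matrix (Fin n) (Fin n) F := Matrix.of fun i' i => col (e i) i'
  have hPm : Pm = (Pi.basisFun F (Fin n)).toMatrix c := by
    ext i' i
    rw [Module.Basis.toMatrix_apply, Pi.basisFun_repr, hc]
    rfl
  let Pi' : Matrix (Fin n) (Fin n) F := c.toMatrix (Pi.basisFun F (Fin n))
  have h1 : Pm * Pi' = 1 := by rw [hPm]; exact Module.Basis.toMatrix_mul_toMatrix_flip _ _
  have h2 : Pi' * Pm = 1 := by rw [hPm]; exact Module.Basis.toMatrix_mul_toMatrix_flip _ _
  let P : GL (Fin n) F := ⟨Pm, Pi', h1, h2⟩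
  -- the key property
  have hkey : ∀ x ∈ X, ∃ rr : Matrix (Fin s) (Fin s) F,
      (x : Matrix (Fin n) (Fin n) F) = conjR e P (rr ⊗ₖ (1 : Matrix (Fin k) (Fin k) F)) ∧
      ∀ a, (x : Matrix (Fin n) (Fin n) F) *ᵥ (u a : Fin n → F) =
        ∑ b, rr b a • (u b : Fin n → F) := by
    intro x hx
    have hxS : ∀ a, (x : Matrix (Fin n) (Fin n) F) *ᵥ (u a : Fin n → F) ∈ S := by
      intro a
      have := hSinv x hx (Submodule.mem_map_of_mem (u a).2)
      rwa [Matrix.toLin'_apply] at this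
    let rr : Matrix (Fin s) (Fin s) F := Matrix.of fun b a => u.repr ⟨_, hxS a⟩ b
    have hA : ∀ a, (x : Matrix (Fin n) (Fin n) F) *ᵥ (u a : Fin n → F) =
        ∑ b, rr b a • (u b : Fin n → F) := by
      intro a
      have := congrArg (Subtype.val) (u.sum_repr ⟨_, hxS a⟩)
      simp only [Submodule.coe_sum, Submodule.coe_smul] at this
      rw [← this]
      rfl
    refine ⟨rr, ?_, hA⟩
    have hcol : ∀ a j, (x : Matrix (Fin n) (Fin n) F) *ᵥ col (a, j) =
        ∑ b, rr b a • col (b, j) := by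
      intro a j
      show (x : Matrix (Fin n) (Fin n) F) *ᵥ ((T j) *ᵥ (u a : Fin n → F)) =
        ∑ b, rr b a • ((T j) *ᵥ (u b : Fin n → F))
      rw [Matrix.mulVec_mulVec, (mem_Cen.mp (hT j)) x hx, ← Matrix.mulVec_mulVec, hA a,
        Matrix.mulVec_sum]
      simp only [Matrix.mulVec_smul]
    have hk' := str2_key e col (x : Matrix (Fin n) (Fin n) F) rr hcol
    unfold conjR
    show (x : Matrix (Fin n) (Fin n) F) = Pm * _ * Pi'
    rw [← hk', mul_assoc, h1, mul_one]
  have hkeyGL : ∀ x ∈ X, ∃ a : GL (Fin s) F,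
      (x : Matrix (Fin n) (Fin n) F) = conjR e P ((a : Matrix (Fin s) (Fin s) F) ⊗ₖ
        (1 : Matrix (Fin k) (Fin k) F)) ∧
      ∀ a', (x : Matrix (Fin n) (Fin n) F) *ᵥ (u a' : Fin n → F) =
        ∑ b, (a : Matrix (Fin s) (Fin s) F) b a' • (u b : Fin n → F) := by
    intro x hx
    obtain ⟨rr, hr1, hr2⟩ := hkey x hx
    obtain ⟨rr', hr1', -⟩ := hkey x⁻¹ (X.inv_mem hx)
    have e1 : rr * rr' = 1 := by
      apply str2_kron_inj hk
      apply conjR_injective e P
      rw [str2_kron_mul, conjR_mul, ← hr1, ← hr1', ← Units.val_mul, mul_inv_cancel, Units.val_one,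
        Matrix.one_kronecker_one, conjR_one]
    have e2 : rr' * rr = 1 := by
      apply str2_kron_inj hk
      apply conjR_injective e P
      rw [str2_kron_mul, conjR_mul, ← hr1, ← hr1', ← Units.val_mul, inv_mul_cancel, Units.val_one,
        Matrix.one_kronecker_one, conjR_one]
    exact ⟨⟨rr, rr', e1, e2⟩, hr1, hr2⟩
  refine ⟨e, P, str2R X e P, ?_, ?_, ?_⟩
  · -- irreducibility
    intro W hW
    let ψ : (Fin s → F) →ₗ[F] (Fin n → F) := S.subtype ∘ₗ u.equivFun.symm.toLinearMap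
    have hψ : ∀ w, ψ w = ∑ a, w a • (u a : Fin n → F) := by
      intro w
      simp [ψ, Module.Basis.equivFun_symm_apply]
    have hψinj : Function.Injective ψ := by
      intro w w' h
      have h' : u.equivFun.symm w = u.equivFun.symm w' := Subtype.ext h
      exact u.equivFun.symm.injective h'
    have hψS : ∀ w, ψ w ∈ S := fun w => (u.equivFun.symm w).2
    have hψsurj : ∀ v ∈ S, ∃ w, ψ w = v := by
      intro v hv
      refine ⟨u.equivFun ⟨v, hv⟩, ?_⟩
      show ((u.equivFun.symm (u.equivFun ⟨v, hv⟩) : S) : Fin n → F) = v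
      rw [LinearEquiv.symm_apply_apply]
    have hW'S : W.map ψ ≤ S := by
      rintro _ ⟨w, _, rfl⟩
      exact hψS w
    have hW'inv : XInv X (W.map ψ) := by
      intro x hx
      rintro _ ⟨_, ⟨w, hw, rfl⟩, rfl⟩
      obtain ⟨a, ha1, ha2⟩ := hkeyGL x hx
      have haR : a ∈ str2R X e P := ⟨x, hx, ha1⟩
      have hmem : (a : Matrix (Fin s) (Fin s) F) *ᵥ w ∈ W := by
        have := hW _ ⟨a, haR, rfl⟩ (Submodule.mem_map_of_mem hw)
        rwa [Matrix.toLin'_apply] at this
      refine ⟨_, hmem, ?_⟩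
      rw [Matrix.toLin'_apply, hψ, hψ, Matrix.mulVec_sum]
      simp only [Matrix.mulVec_smul, ha2, Finset.smul_sum, smul_smul]
      rw [Finset.sum_comm]
      apply Finset.sum_congr rfl
      intro b _
      rw [← Finset.sum_smul]
      congr 1
      simp only [Matrix.mulVec, dotProduct]
      apply Finset.sum_congr rfl
      intro a' _
      ring
    rcases hmin _ hW'S hW'inv with h | h
    · left
      rw [Submodule.eq_bot_iff]
      intro w hw
      have : ψ w ∈ W.map ψ := Submodule.mem_map_of_mem hw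
      rw [h, Submodule.mem_bot] at this
      exact hψinj (by rw [this, map_zero])
    · right
      rw [Submodule.eq_top_iff']
      intro w
      have : ψ w ∈ W.map ψ := by rw [h]; exact hψS w
      obtain ⟨w', hw', hww'⟩ := this
      rw [← hψinj hww']
      exact hw'
  · intro x hx
    obtain ⟨a, ha1, _⟩ := hkeyGL x hx
    exact ⟨a, ⟨x, hx, ha1⟩, ha1⟩
  · rintro a ⟨x, hx, hxa⟩
    exact ⟨x, hx, hxa⟩

/-- STR2 (adapted basis ⇒ matrices). -/
theorem multiple_of_decomp {X : Subgroup (GL (Fin n) F)} (hn : 0 < n) {S : Submodule F (Fin n → F)}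
    (hS0 : S ≠ ⊥) (hSinv : XInv X S)
    (hmin : ∀ W : Submodule F (Fin n → F), W ≤ S → XInv X W → W = ⊥ ∨ W = S)
    {k : ℕ} (T : Fin k → Matrix (Fin n) (Fin n) F) (hT : ∀ j, T j ∈ Cen X)
    (hbij : Function.Bijective (fun v : Fin k → S => ∑ j, (T j).mulVec (v j : Fin n → F))) :
    ∃ (s : ℕ) (e : Fin n ≃ Fin s × Fin k) (P : GL (Fin n) F) (R : Subgroup (GL (Fin s) F)),
      0 < s ∧ 0 < k ∧ Irr R ∧ IsMultipleOf X R e P := by
  have hk : 0 < k := by
    rcases Nat.eq_zero_or_pos k with h0 | h0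
    · exfalso
      subst h0
      have hsub : Subsingleton (Fin n → F) := hbij.2.subsingleton
      have h01 : (0 : Fin n → F) = fun _ => 1 := Subsingleton.elim _ _
      have := congrFun h01 ⟨0, hn⟩
      exact zero_ne_one this
    · exact h0
  have hs : 0 < Module.finrank F S := by
    apply Nat.pos_of_ne_zero
    intro h
    exact hS0 (Submodule.finrank_eq_zero.mp h)
  obtain ⟨e, P, R, hR, hmul⟩ := str2_core hSinv hmin hk T hT hbij (Module.finBasis F S)
  exact ⟨_, e, P, R, hs, hk, hR, hmul⟩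

end Cfsg.Agent.Lib.Helper29.AschLeaf
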