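import Mathlib
import Cfsg.Agent.Lib.Helper20.AschDefs

/-!
S5630 block A23, leaves S1 (`scalar_of_tensor_one`) and K1 (`absIrr_of_tensor_one`).
-/

set_option autoImplicit false
set_option linter.unusedSectionVars false
set_option linter.unusedVariables false

namespace Cfsg.Agent.Lib.Helper29.AschLeaf
open Matrix Cfsg.Geo Cfsg.Agent.Lib.Helper20.Asch
open scoped Kronecker

variable {F : Type*} [Field F] [Fintype F] {n : ℕ} {H N : Subgroup (GL (Fin n) F)}

/-- S1: first factor of dimension one. -/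
theorem scalar_of_tensor_one {k : ℕ} (e : Fin n ≃ Fin 1 × Fin k) (P : GL (Fin n) F)
    {X : Subgroup (GL (Fin n) F)}
    (h2 : ∀ T ∈ Env X, ∃ A : Matrix (Fin 1) (Fin 1) F,
      T = conjR e P (A ⊗ₖ (1 : Matrix (Fin k) (Fin k) F))) : X ≤ scalars (Fin n) F := by
  intro x hx
  have hxE : (x : Matrix (Fin n) (Fin n) F) ∈ Env X := Algebra.subset_adjoin ⟨x, hx, rfl⟩
  obtain ⟨A, hA⟩ := h2 _ hxE
  have hA1 : A = A 0 0 • (1 : Matrix (Fin 1) (Fin 1) F) := by
    ext i j
    have hi : i = 0 := Subsingleton.elim _ _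
    have hj : j = 0 := Subsingleton.elim _ _
    subst hi; subst hj
    simp
  have hx1 : (x : Matrix (Fin n) (Fin n) F) = A 0 0 • (1 : Matrix (Fin n) (Fin n) F) := by
    rw [hA, hA1, Matrix.smul_kronecker, Matrix.one_kronecker_one, conjR_smul, conjR_one]
    simp
  rw [mem_scalars_iff]
  by_cases h0 : A 0 0 = 0
  · -- then the matrix ring is trivial
    have hx0 : (x : Matrix (Fin n) (Fin n) F) = 0 := by rw [hx1, h0, zero_smul]
    have h10 : (1 : Matrix (Fin n) (Fin n) F) = 0 := by
      have := Units.mul_inv x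
      rw [hx0, zero_mul] at this
      exact this.symm
    refine ⟨1, ?_⟩
    rw [hx0, h10, smul_zero]
  · exact ⟨Units.mk0 _ h0, hx1⟩

/-- every matrix is of the form `conjR e P (A ⊗ₖ 1)` when the second factor has dimension one -/
lemma k1_surj {s : ℕ} (e : Fin n ≃ Fin s × Fin 1) (P : GL (Fin n) F)
    (M : Matrix (Fin n) (Fin n) F) :
    ∃ A : Matrix (Fin s) (Fin s) F, conjR e P (A ⊗ₖ (1 : Matrix (Fin 1) (Fin 1) F)) = M := by
  set M' : Matrix (Fin n) (Fin n) F :=
    ((P⁻¹ : GL (Fin n) F) : Matrix (Fin n) (Fin n) F) * M * (P : Matrix (Fin n) (Fin n) F) with hM'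
  refine ⟨Matrix.of fun i j => M' (e.symm (i, 0)) (e.symm (j, 0)), ?_⟩
  have hre : Matrix.reindex e.symm e.symm
      ((Matrix.of fun i j => M' (e.symm (i, 0)) (e.symm (j, 0))) ⊗ₖ
        (1 : Matrix (Fin 1) (Fin 1) F)) = M' := by
    ext a b
    simp only [Matrix.reindex_apply, Matrix.submatrix_apply, Equiv.symm_symm,
      Matrix.kroneckerMap_apply, Matrix.of_apply]
    have ha : ((e a).1, (0 : Fin 1)) = e a := by
      ext
      · rfl
      · exact congrArg Fin.val (Subsingleton.elim (0 : Fin 1) (e a).2)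
    have hb : ((e b).1, (0 : Fin 1)) = e b := by
      ext
      · rfl
      · exact congrArg Fin.val (Subsingleton.elim (0 : Fin 1) (e b).2)
    have h1 : (1 : Matrix (Fin 1) (Fin 1) F) (e a).2 (e b).2 = 1 := by
      rw [Subsingleton.elim (e a).2 (e b).2]
      exact Matrix.one_apply_eq _
    rw [h1, mul_one, ha, hb, Equiv.symm_apply_apply, Equiv.symm_apply_apply]
  unfold conjR
  rw [hre, hM']
  have h1 : (P : Matrix (Fin n) (Fin n) F) * ((P⁻¹ : GL (Fin n) F) : Matrix (Fin n) (Fin n) F) = 1 := by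
    rw [← Units.val_mul, mul_inv_cancel, Units.val_one]
  simp only [← mul_assoc, h1, one_mul]
  simp only [mul_assoc, h1, mul_one]

/-- K1: second factor of dimension one: `Env X` is the full matrix algebra, so `X` is absolutely irreducible. -/
theorem absIrr_of_tensor_one {s : ℕ} (e : Fin n ≃ Fin s × Fin 1) (P : GL (Fin n) F)
    {X : Subgroup (GL (Fin n) F)}
    (h1 : ∀ A : Matrix (Fin s) (Fin s) F, conjR e P (A ⊗ₖ (1 : Matrix (Fin 1) (Fin 1) F)) ∈ Env X) :
    AbsIrr X := by
  have hall : ∀ M : Matrix (Fin n) (Fin n) F, M ∈ Env X := by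
    intro M
    obtain ⟨A, hA⟩ := k1_surj e P M
    rw [← hA]
    exact h1 A
  -- invariance under the generators passes to the enveloping algebra
  have hinv : ∀ W : Submodule F (Fin n → F),
      (∀ s ∈ matrixSet X, W.map (Matrix.toLin' s) ≤ W) →
      ∀ M : Matrix (Fin n) (Fin n) F, ∀ w ∈ W, M *ᵥ w ∈ W := by
    intro W hW M
    have hM : M ∈ Algebra.adjoin F (matrixSet X) := hall M
    induction hM using Algebra.adjoin_induction with
    | mem x hx =>
      intro w hw
      have := hW x hx (Submodule.mem_map_of_mem hw)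
      rwa [Matrix.toLin'_apply] at this
    | algebraMap c =>
      intro w hw
      rw [Algebra.algebraMap_eq_smul_one, Matrix.smul_mulVec, Matrix.one_mulVec]
      exact W.smul_mem c hw
    | add a b _ _ ha hb =>
      intro w hw
      rw [Matrix.add_mulVec]
      exact W.add_mem (ha w hw) (hb w hw)
    | mul a b _ _ ha hb =>
      intro w hw
      rw [← Matrix.mulVec_mulVec]
      exact ha _ (hb w hw)
  -- commutation with the generators passes to the enveloping algebra
  have hcomm : ∀ C : Matrix (Fin n) (Fin n) F, (∀ s ∈ matrixSet X, C * s = s * C) →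
      ∀ M : Matrix (Fin n) (Fin n) F, C * M = M * C := by
    intro C hC M
    have hM : M ∈ Algebra.adjoin F (matrixSet X) := hall M
    induction hM using Algebra.adjoin_induction with
    | mem x hx => exact hC x hx
    | algebraMap c =>
      rw [Algebra.algebraMap_eq_smul_one, Matrix.mul_smul, Matrix.smul_mul, mul_one, one_mul]
    | add a b _ _ ha hb => rw [mul_add, add_mul, ha, hb]
    | mul a b _ _ ha hb => rw [← mul_assoc, ha, mul_assoc, hb, mul_assoc]
  refine ⟨?_, ?_⟩
  · intro W hW
    by_cases hbot : W = ⊥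
    · exact Or.inl hbot
    right
    obtain ⟨w, hw, hw0⟩ := Submodule.exists_mem_ne_zero_of_ne_bot hbot
    have : ∃ i, w i ≠ 0 := by
      by_contra hcon
      exact hw0 (funext fun i => by
        by_contra h
        exact hcon ⟨i, h⟩)
    obtain ⟨i₀, hi₀⟩ := this
    rw [eq_top_iff]
    intro v _
    have hmem := hinv W hW (Matrix.vecMulVec v (Pi.single i₀ (w i₀)⁻¹)) w hw
    rw [Matrix.vecMulVec_mulVec] at hmem
    have hdot : (Pi.single i₀ (w i₀)⁻¹ : Fin n → F) ⬝ᵥ w = 1 := by
      rw [single_dotProduct, inv_mul_cancel₀ hi₀]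
    rw [hdot] at hmem
    simpa using hmem
  · intro C hC
    have hr : C ∈ Set.range (Matrix.scalar (Fin n) : F →+* Matrix (Fin n) (Fin n) F) := by
      apply Matrix.mem_range_scalar_of_commute_single
      intro i j _
      exact (hcomm C hC _).symm
    obtain ⟨c, hc⟩ := hr
    refine ⟨c, ?_⟩
    rw [← hc, Matrix.smul_one_eq_diagonal]
    rfl

end Cfsg.Agent.Lib.Helper29.AschLeaf
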