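import Mathlib
import Cfsg.Agent.Lib.Helper20.AschDefs

/-!
S5630 block A23, leaves KF2 (`zcen_normalized`), KF4 (`scalar_of_finrank_one`), ENV (`env_conj`).
-/

set_option autoImplicit false
set_option linter.unusedSectionVars false
set_option linter.unusedVariables false

namespace Cfsg.Agent.Lib.Helper29.AschLeaf
open Matrix Cfsg.Geo Cfsg.Agent.Lib.Helper20.Asch
open scoped Kronecker

variable {F : Type*} [Field F] [Fintype F] {n : ℕ} {H N : Subgroup (GL (Fin n) F)}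

/-- `g⁻¹ g = 1` on matrices -/
lemma kf_inv_mul (g : GL (Fin n) F) :
    ((g⁻¹ : GL (Fin n) F) : Matrix (Fin n) (Fin n) F) * (g : Matrix (Fin n) (Fin n) F) = 1 := by
  rw [← Units.val_mul, inv_mul_cancel, Units.val_one]

/-- `g g⁻¹ = 1` on matrices -/
lemma kf_mul_inv (g : GL (Fin n) F) :
    (g : Matrix (Fin n) (Fin n) F) * ((g⁻¹ : GL (Fin n) F) : Matrix (Fin n) (Fin n) F) = 1 := by
  rw [← Units.val_mul, mul_inv_cancel, Units.val_one]

/-- conjugation by `g` with `g⁻¹ N g ⊆ N` maps `Cen N` into itself -/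
lemma kf_cen_conj (g : GL (Fin n) F) (hg : ∀ x ∈ N, g⁻¹ * x * g ∈ N)
    (T : Matrix (Fin n) (Fin n) F) (hT : T ∈ Cen N) :
    (g : Matrix (Fin n) (Fin n) F) * T * ((g⁻¹ : GL (Fin n) F) : Matrix (Fin n) (Fin n) F) ∈ Cen N := by
  rw [mem_Cen] at hT ⊢
  intro x hx
  have h1 := hT _ (hg x hx)
  rw [Units.val_mul, Units.val_mul] at h1
  -- h1 : g⁻¹ x g T = T g⁻¹ x g
  have e1 : (x : Matrix (Fin n) (Fin n) F) * ((g : Matrix (Fin n) (Fin n) F) * T *
      ((g⁻¹ : GL (Fin n) F) : Matrix (Fin n) (Fin n) F)) =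
      (g : Matrix (Fin n) (Fin n) F) * (((g⁻¹ : GL (Fin n) F) : Matrix (Fin n) (Fin n) F) *
        (x : Matrix (Fin n) (Fin n) F) * (g : Matrix (Fin n) (Fin n) F) * T) *
        ((g⁻¹ : GL (Fin n) F) : Matrix (Fin n) (Fin n) F) := by
    simp only [← mul_assoc, kf_mul_inv, one_mul]
  rw [e1, h1]
  simp only [mul_assoc, kf_mul_inv, mul_one]

/-- conjugation by `g` with `g N g⁻¹ ⊆ N` and `g⁻¹ N g ⊆ N` maps `ZCen N` into itself -/
lemma kf_zcen_conj (g : GL (Fin n) F) (hg : ∀ x ∈ N, g⁻¹ * x * g ∈ N) (hg' : ∀ x ∈ N, g * x * g⁻¹ ∈ N)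
    (T : Matrix (Fin n) (Fin n) F) (hT : T ∈ ZCen N) :
    (g : Matrix (Fin n) (Fin n) F) * T * ((g⁻¹ : GL (Fin n) F) : Matrix (Fin n) (Fin n) F) ∈ ZCen N := by
  rw [mem_ZCen] at hT ⊢
  refine ⟨kf_cen_conj g hg T hT.1, ?_⟩
  intro S hS
  have hS' : ((g⁻¹ : GL (Fin n) F) : Matrix (Fin n) (Fin n) F) * S *
      (((g⁻¹)⁻¹ : GL (Fin n) F) : Matrix (Fin n) (Fin n) F) ∈ Cen N := by
    apply kf_cen_conj g⁻¹ _ S hS
    intro x hx
    rw [inv_inv]
    exact hg' x hx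
  rw [inv_inv] at hS'
  have h1 := hT.2 _ hS'
  have e1 : S * ((g : Matrix (Fin n) (Fin n) F) * T *
      ((g⁻¹ : GL (Fin n) F) : Matrix (Fin n) (Fin n) F)) =
      (g : Matrix (Fin n) (Fin n) F) * (((g⁻¹ : GL (Fin n) F) : Matrix (Fin n) (Fin n) F) *
        S * (g : Matrix (Fin n) (Fin n) F) * T) *
        ((g⁻¹ : GL (Fin n) F) : Matrix (Fin n) (Fin n) F) := by
    simp only [← mul_assoc, kf_mul_inv, one_mul]
  rw [e1, h1]
  simp only [mul_assoc, kf_mul_inv, mul_one]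

/-- KF2: a group normalising `X` normalises `ZCen X` (pure algebra). -/
theorem zcen_normalized (hnorm : NormBy H N) : H ≤ subalgebraNormalizer (ZCen N) := by
  intro h hh
  have hinv : h⁻¹ ∈ H := H.inv_mem hh
  have hg' : ∀ x ∈ N, h * x * h⁻¹ ∈ N := fun x hx => hnorm h hh x hx
  have hg : ∀ x ∈ N, h⁻¹ * x * h ∈ N := by
    intro x hx
    have := hnorm h⁻¹ hinv x hx
    rwa [inv_inv] at this
  show ∀ k : Matrix (Fin n) (Fin n) F, k ∈ ZCen N ↔
    (h : Matrix (Fin n) (Fin n) F) * k * ((h⁻¹ : GL (Fin n) F) : Matrix (Fin n) (Fin n) F) ∈ ZCen N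
  intro k
  constructor
  · exact kf_zcen_conj h hg hg' k
  · intro hk
    have h2 := kf_zcen_conj (N := N) h⁻¹ (by rw [inv_inv]; exact hg') (by rw [inv_inv]; exact hg) _ hk
    rw [inv_inv] at h2
    have e : ((h⁻¹ : GL (Fin n) F) : Matrix (Fin n) (Fin n) F) *
        ((h : Matrix (Fin n) (Fin n) F) * k * ((h⁻¹ : GL (Fin n) F) : Matrix (Fin n) (Fin n) F)) *
        (h : Matrix (Fin n) (Fin n) F) = k := by
      simp only [← mul_assoc, kf_inv_mul, one_mul]
      simp only [mul_assoc, kf_inv_mul, mul_one]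
    rwa [e] at h2

/-- KF4: a subalgebra of dimension one consists of scalars. -/
theorem scalar_of_finrank_one (K : Subalgebra F (Matrix (Fin n) (Fin n) F))
    (h : Module.finrank F K = 1) : ∀ T ∈ K, ∃ c : F, T = c • (1 : Matrix (Fin n) (Fin n) F) := by
  intro T hT
  rcases subsingleton_or_nontrivial (Matrix (Fin n) (Fin n) F) with hs | hnt
  · exact ⟨0, Subsingleton.elim _ _⟩
  · rw [Subalgebra.finrank_eq_one_iff] at h
    rw [h, Algebra.mem_bot] at hT
    obtain ⟨c, rfl⟩ := hT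
    exact ⟨c, Algebra.algebraMap_eq_smul_one c⟩

/-- ENV: a group normalising `X` normalises `Env X` (`Algebra.adjoin_induction`). -/
theorem env_conj (hnorm : NormBy H N) (h : GL (Fin n) F) (hh : h ∈ H)
    (T : Matrix (Fin n) (Fin n) F) (hT : T ∈ Env N) :
    (h : Matrix (Fin n) (Fin n) F) * T * ((h⁻¹ : GL (Fin n) F) : Matrix (Fin n) (Fin n) F) ∈ Env N := by
  unfold Env at hT ⊢
  induction hT using Algebra.adjoin_induction with
  | mem x hx =>
    obtain ⟨y, hy, rfl⟩ := hx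
    apply Algebra.subset_adjoin
    refine ⟨h * y * h⁻¹, hnorm h hh y hy, ?_⟩
    simp only [Units.val_mul]
  | algebraMap c =>
    rw [Algebra.algebraMap_eq_smul_one, Matrix.mul_smul, Matrix.smul_mul, mul_one, kf_mul_inv]
    rw [← Algebra.algebraMap_eq_smul_one]
    exact Subalgebra.algebraMap_mem _ c
  | add a b _ _ ha hb =>
    rw [mul_add, add_mul]
    exact Subalgebra.add_mem _ ha hb
  | mul a b _ _ ha hb =>
    have e : (h : Matrix (Fin n) (Fin n) F) * (a * b) *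
        ((h⁻¹ : GL (Fin n) F) : Matrix (Fin n) (Fin n) F) =
        ((h : Matrix (Fin n) (Fin n) F) * a * ((h⁻¹ : GL (Fin n) F) : Matrix (Fin n) (Fin n) F)) *
        ((h : Matrix (Fin n) (Fin n) F) * b * ((h⁻¹ : GL (Fin n) F) : Matrix (Fin n) (Fin n) F)) := by
      have : (h : Matrix (Fin n) (Fin n) F) * a * ((h⁻¹ : GL (Fin n) F) : Matrix (Fin n) (Fin n) F) *
          ((h : Matrix (Fin n) (Fin n) F) * b * ((h⁻¹ : GL (Fin n) F) : Matrix (Fin n) (Fin n) F)) =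
          (h : Matrix (Fin n) (Fin n) F) * a * (((h⁻¹ : GL (Fin n) F) : Matrix (Fin n) (Fin n) F) *
          (h : Matrix (Fin n) (Fin n) F)) * b * ((h⁻¹ : GL (Fin n) F) : Matrix (Fin n) (Fin n) F) := by
        simp only [mul_assoc]
      rw [this, kf_inv_mul, mul_one]
      simp only [mul_assoc]
    rw [e]
    exact Subalgebra.mul_mem _ ha hb

end Cfsg.Agent.Lib.Helper29.AschLeaf
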