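import Cfsg.Agent.Lib.Helper28.SchurFoxG

set_option autoImplicit false

/-!
# Fox calculus certificates with sparse cycles

The checker of `Helper28.SchurFox` runs, for every cycle, over all pairs (relator, point).  Here a cycle is given,
for every relator, by the list of its cells `(point, coefficient)`; the accumulator is touched only along the walks
of the cells.  The soundness statement is the one needed by the adjustment argument of `SchurFoxF`, which is
repeated here over an abstract hypothesis on the cycles.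
-/

namespace Cfsg.Agent.Lib.Helper29.SchurFoxSparse

open Subgroup
open scoped IsMulCommutative
open Cfsg.Agent.Lib.Helper28.TC2Upper (force force_eq allLoop allLoop_eq_true slot)
open Cfsg.Agent.Lib.Helper28.TC2Lower (pathProd Table)
open Cfsg.Agent.Lib.Helper28.TC2Glue (pathOf lift_mk_eq_pathProd)
open Cfsg.Agent.Lib.Helper28.SchurFox

section Checker
variable (D : FoxData) (nxt : ℕ → ℕ → ℕ)

/-- the cells `(point, coefficient)` of one relator -/
noncomputable def rowAccS (path : List ℕ) : List (ℕ × ℕ) → ℕ → ℕ :=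
  @List.rec (ℕ × ℕ) (fun _ => ℕ → ℕ) (fun acc => acc)
    (fun cell _ ih acc => ih (D.walkAcc nxt cell.2 path cell.1 acc))

theorem rowAccS_nil (path : List ℕ) (acc : ℕ) : rowAccS D nxt path [] acc = acc := rfl

theorem rowAccS_cons (path : List ℕ) (c : ℕ × ℕ) (cs : List (ℕ × ℕ)) (acc : ℕ) :
    rowAccS D nxt path (c :: cs) acc = rowAccS D nxt path cs (D.walkAcc nxt c.2 path c.1 acc) := rfl

/-- the same on digit functions -/
def rowDS (path : List ℕ) : List (ℕ × ℕ) → (ℕ → ℕ) → (ℕ → ℕ)
  | [], g => g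
  | c :: cs, g => rowDS path cs (D.walkD nxt c.2 path c.1 g)

/-- sum of the coefficients of the cells -/
noncomputable def augS : List (ℕ × ℕ) → ℕ :=
  @List.rec (ℕ × ℕ) (fun _ => ℕ) 0 (fun c _ ih => Nat.add c.2 ih)

theorem augS_nil : augS [] = 0 := rfl
theorem augS_cons (c : ℕ × ℕ) (cs : List (ℕ × ℕ)) : augS (c :: cs) = c.2 + augS cs := rfl

/-- all relators -/
noncomputable def cycAccS (rows : List (List (ℕ × ℕ))) : ℕ :=
  loopN (fun j a => rowAccS D nxt (D.paths.getD j []) (rows.getD j []) a) D.paths.length 0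

/-- all relators, on digit functions -/
noncomputable def cycDS (rows : List (List (ℕ × ℕ))) : ℕ → ℕ :=
  loopD (fun j g => rowDS D nxt (D.paths.getD j []) (rows.getD j []) g) D.paths.length (fun _ => 0)

/-- the points of the cells are points -/
noncomputable def cellsOK (rows : List (List (ℕ × ℕ))) : Bool :=
  rows.all (fun cells => cells.all (fun c => Nat.blt c.1 D.n))

/-- the check of the cycle number `k`, given by its cells -/
noncomputable def cycleOKS (k : ℕ) (rows : List (List (ℕ × ℕ))) : Bool :=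
  and (and (and (cellsOK D rows)
    (allLoop (fun j => Nat.beq (augS (rows.getD j [])) (entry D.Lam k j)) D.paths.length))
    (Nat.blt (sumN (fun j => Nat.mul (entry D.Lam k j) (D.wt (D.paths.getD j []))) D.paths.length) D.mw))
    (force (cycAccS D nxt rows) (fun acc =>
      allLoop (fun s => Nat.beq (Nat.mod (slot D.w D.mw acc s) D.p) 0) (Nat.mul D.n D.d)))

theorem rowAccS_enc (hmw : D.mw = 2 ^ D.w) (htab : ∀ l < 2 * D.d, ∀ i < D.n, nxt l i < D.n)
    (path : List ℕ) (hw : ∀ l ∈ path, l < 2 * D.d) (cells : List (ℕ × ℕ)) (hc : ∀ c ∈ cells, c.1 < D.n)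
    (g : ℕ → ℕ) :
    rowAccS D nxt path cells (enc D.mw (D.n * D.d) g) = enc D.mw (D.n * D.d) (rowDS D nxt path cells g) := by
  induction cells generalizing g with
  | nil => rfl
  | cons c cs ih =>
    rw [rowAccS_cons, D.walkAcc_enc nxt hmw htab _ path hw c.1 (hc c List.mem_cons_self),
      ih (fun c' hc' => hc c' (List.mem_cons_of_mem _ hc'))]
    rfl

theorem tot_rowDS (htab : ∀ l < 2 * D.d, ∀ i < D.n, nxt l i < D.n)
    (path : List ℕ) (hw : ∀ l ∈ path, l < 2 * D.d) (cells : List (ℕ × ℕ)) (hc : ∀ c ∈ cells, c.1 < D.n)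
    (g : ℕ → ℕ) :
    tot (D.n * D.d) (rowDS D nxt path cells g) = tot (D.n * D.d) g + augS cells * D.wt path := by
  induction cells generalizing g with
  | nil => simp [rowDS, augS_nil]
  | cons c cs ih =>
    show tot _ (rowDS D nxt path cs _) = _
    rw [ih (fun c' hc' => hc c' (List.mem_cons_of_mem _ hc')),
      D.tot_walkD nxt htab _ path hw c.1 (hc c List.mem_cons_self), augS_cons]
    ring

theorem Val_rowDS {A : Type*} [CommGroup A] (F : ℕ → ℕ → A) (hp : 0 < D.p) (hF : ∀ i x, F i x ^ D.p = 1)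
    (htab : ∀ l < 2 * D.d, ∀ i < D.n, nxt l i < D.n)
    (path : List ℕ) (hw : ∀ l ∈ path, l < 2 * D.d) (cells : List (ℕ × ℕ)) (hc : ∀ c ∈ cells, c.1 < D.n)
    (g : ℕ → ℕ) :
    Val (D.n * D.d) (D.Fs F) (rowDS D nxt path cells g) =
      Val (D.n * D.d) (D.Fs F) g * (cells.map (fun c => walkF F nxt path c.1 ^ c.2)).prod := by
  induction cells generalizing g with
  | nil => simp [rowDS]
  | cons c cs ih =>
    show Val _ _ (rowDS D nxt path cs _) = _
    rw [ih (fun c' hc' => hc c' (List.mem_cons_of_mem _ hc')),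
      D.Val_walkD nxt F hp hF htab _ path hw c.1 (hc c List.mem_cons_self), List.map_cons, List.prod_cons, mul_assoc]

theorem cycAccS_enc (hmw : D.mw = 2 ^ D.w) (htab : ∀ l < 2 * D.d, ∀ i < D.n, nxt l i < D.n)
    (hpaths : ∀ path ∈ D.paths, ∀ l ∈ path, l < 2 * D.d) (rows : List (List (ℕ × ℕ)))
    (hc : ∀ j, ∀ c ∈ rows.getD j [], c.1 < D.n) :
    cycAccS D nxt rows = enc D.mw (D.n * D.d) (cycDS D nxt rows) := by
  unfold cycAccS cycDS
  have h0 : enc D.mw (D.n * D.d) (fun _ => 0) = 0 := by simp [enc]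
  have key : ∀ m', m' ≤ D.paths.length → ∀ g,
      loopN (fun j a => rowAccS D nxt (D.paths.getD j []) (rows.getD j []) a) m' (enc D.mw (D.n * D.d) g) =
      enc D.mw (D.n * D.d) (loopD (fun j g => rowDS D nxt (D.paths.getD j []) (rows.getD j []) g) m' g) := by
    intro m' hm' g
    induction m' with
    | zero => rfl
    | succ j ih =>
      rw [loopN_succ, ih (by omega)]
      exact rowAccS_enc D nxt hmw htab _ (hpaths _ (D.path_mem (by omega))) _ (hc j) _
  have := key _ le_rfl (fun _ => 0)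
  rw [h0] at this
  exact this

theorem tot_cycDS (htab : ∀ l < 2 * D.d, ∀ i < D.n, nxt l i < D.n)
    (hpaths : ∀ path ∈ D.paths, ∀ l ∈ path, l < 2 * D.d) (rows : List (List (ℕ × ℕ)))
    (hc : ∀ j, ∀ c ∈ rows.getD j [], c.1 < D.n) :
    tot (D.n * D.d) (cycDS D nxt rows) =
      ∑ j ∈ Finset.range D.paths.length, augS (rows.getD j []) * D.wt (D.paths.getD j []) := by
  unfold cycDS
  have key : ∀ m', m' ≤ D.paths.length → ∀ g,
      tot (D.n * D.d) (loopD (fun j g => rowDS D nxt (D.paths.getD j []) (rows.getD j []) g) m' g) =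
        tot (D.n * D.d) g + ∑ j ∈ Finset.range m', augS (rows.getD j []) * D.wt (D.paths.getD j []) := by
    intro m' hm' g
    induction m' with
    | zero => simp [loopD]
    | succ j ih =>
      show tot _ (rowDS D nxt _ _ _) = _
      rw [tot_rowDS D nxt htab _ (hpaths _ (D.path_mem (by omega))) _ (hc j), ih (by omega),
        Finset.sum_range_succ]
      ring
  rw [key _ le_rfl]
  simp [tot]

theorem Val_cycDS {A : Type*} [CommGroup A] (F : ℕ → ℕ → A) (hp : 0 < D.p) (hF : ∀ i x, F i x ^ D.p = 1)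
    (htab : ∀ l < 2 * D.d, ∀ i < D.n, nxt l i < D.n)
    (hpaths : ∀ path ∈ D.paths, ∀ l ∈ path, l < 2 * D.d) (rows : List (List (ℕ × ℕ)))
    (hc : ∀ j, ∀ c ∈ rows.getD j [], c.1 < D.n) :
    Val (D.n * D.d) (D.Fs F) (cycDS D nxt rows) =
      ∏ j ∈ Finset.range D.paths.length,
        ((rows.getD j []).map (fun c => walkF F nxt (D.paths.getD j []) c.1 ^ c.2)).prod := by
  unfold cycDS
  have key : ∀ m', m' ≤ D.paths.length → ∀ g,
      Val (D.n * D.d) (D.Fs F) (loopD (fun j g => rowDS D nxt (D.paths.getD j []) (rows.getD j []) g) m' g) =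
        Val (D.n * D.d) (D.Fs F) g * ∏ j ∈ Finset.range m',
          ((rows.getD j []).map (fun c => walkF F nxt (D.paths.getD j []) c.1 ^ c.2)).prod := by
    intro m' hm' g
    induction m' with
    | zero => simp [loopD]
    | succ j ih =>
      show Val _ _ (rowDS D nxt _ _ _) = _
      rw [Val_rowDS D nxt F hp hF htab _ (hpaths _ (D.path_mem (by omega))) _ (hc j), ih (by omega),
        Finset.prod_range_succ, mul_assoc]
  rw [key _ le_rfl]
  simp [Val]

theorem prod_cells {A : Type*} [CommGroup A] (n : ℕ) (f : ℕ → A) (a : A) (hf : ∀ i < n, f i = a)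
    (cells : List (ℕ × ℕ)) (hc : ∀ c ∈ cells, c.1 < n) :
    (cells.map (fun c => f c.1 ^ c.2)).prod = a ^ augS cells := by
  induction cells with
  | nil => simp [augS_nil]
  | cons c cs ih =>
    rw [List.map_cons, List.prod_cons, ih (fun c' hc' => hc c' (List.mem_cons_of_mem _ hc')), augS_cons, pow_add,
      hf c.1 (hc c List.mem_cons_self)]

/-- a cycle that passes the sparse check gives a relation between the values of the relators -/
theorem cycleS_sound (h : D.Static nxt) (k : ℕ) (rows : List (List (ℕ × ℕ)))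
    (hk : cycleOKS D nxt k rows = true)
    {A : Type*} [CommGroup A] (F : ℕ → ℕ → A) (hF : ∀ i x, F i x ^ D.p = 1) (z : ℕ → A)
    (hz : ∀ j < D.paths.length, ∀ i < D.n, walkF F nxt (D.paths.getD j []) i = z j) :
    ∏ j ∈ Finset.range D.paths.length, z j ^ entry D.Lam k j = 1 := by
  unfold cycleOKS at hk
  simp only [Bool.and_eq_true] at hk
  obtain ⟨⟨⟨h0, h1⟩, h2⟩, h3⟩ := hk
  rw [allLoop_eq_true] at h1
  have haug : ∀ j < D.paths.length, augS (rows.getD j []) = entry D.Lam k j :=
    fun j hj => (Cfsg.Agent.Lib.Helper28.TC2Upper.Data.nbeq_iff _ _).mp (h1 j hj)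
  have hc : ∀ j, ∀ c ∈ rows.getD j [], c.1 < D.n := by
    intro j c hcm
    by_cases hj : j < rows.length
    · rw [List.getD_eq_getElem _ _ hj] at hcm
      unfold cellsOK at h0
      rw [List.all_eq_true] at h0
      have h4 := h0 _ (List.getElem_mem hj)
      rw [List.all_eq_true] at h4
      simpa using h4 c hcm
    · rw [List.getD_eq_default _ _ (by omega)] at hcm
      exact absurd hcm (List.not_mem_nil)
  set g := cycDS D nxt rows with hg
  have htab := h.htab
  have htot : tot (D.n * D.d) g < D.mw := by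
    rw [hg, tot_cycDS D nxt htab h.paths rows hc]
    have h2' : (sumN (fun j => Nat.mul (entry D.Lam k j) (D.wt (D.paths.getD j []))) D.paths.length) < D.mw := by
      simpa using h2
    rw [sumN_eq] at h2'
    calc _ = ∑ j ∈ Finset.range D.paths.length, entry D.Lam k j * D.wt (D.paths.getD j []) := by
          apply Finset.sum_congr rfl
          intro j hj
          rw [haug j (Finset.mem_range.mp hj)]
      _ < D.mw := h2'
  have hB : 0 < D.mw := by rw [h.hmw]; positivity
  have hdig : ∀ s < D.n * D.d, g s < D.mw := by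
    intro s hs
    have : g s ≤ tot (D.n * D.d) g :=
      Finset.single_le_sum (f := g) (fun _ _ => Nat.zero_le _) (Finset.mem_range.mpr hs)
    omega
  obtain ⟨_, hdec⟩ := digit_enc D.mw hB (D.n * D.d) g hdig
  rw [force_eq, cycAccS_enc D nxt h.hmw htab h.paths rows hc, allLoop_eq_true] at h3
  have hmod : ∀ s < D.n * D.d, g s % D.p = 0 := by
    intro s hs
    have := (Cfsg.Agent.Lib.Helper28.TC2Upper.Data.nbeq_iff _ _).mp (h3 s hs)
    have e : slot D.w D.mw (enc D.mw (D.n * D.d) g) s = enc D.mw (D.n * D.d) g / D.mw ^ s % D.mw := by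
      show (enc D.mw (D.n * D.d) g >>> (D.w * s)) % D.mw = _
      rw [Nat.shiftRight_eq_div_pow, h.hmw, pow_mul]
    rw [e, hdec s hs] at this
    exact this
  have hval : Val (D.n * D.d) (D.Fs F) g = 1 := by
    unfold Val
    apply Finset.prod_eq_one
    intro s hs
    obtain ⟨q, hq⟩ := Nat.dvd_of_mod_eq_zero (hmod s (Finset.mem_range.mp hs))
    have hFs : D.Fs F s ^ D.p = 1 := hF _ _
    rw [hq, pow_mul, hFs, one_pow]
  rw [← hval, hg, Val_cycDS D nxt F h.hp hF htab h.paths rows hc]
  apply Finset.prod_congr rfl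
  intro j hj
  have hj' := Finset.mem_range.mp hj
  rw [prod_cells D.n (fun i => walkF F nxt (D.paths.getD j []) i) (z j) (hz j hj') _ (hc j), haug j hj']

end Checker

section Main
variable {Γ G : Type*} [Group Γ] [Group G] {σ : Γ →* G} {Ω : Type*} [MulAction G Ω]

/-- `exists_adjust` of `SchurFoxF` over an abstract hypothesis on the cycles -/
theorem exists_adjust_abs (D : FoxData) (nxt : ℕ → ℕ → ℕ) (hOK : D.staticOK nxt = true)
    (hcyc : ∀ k < D.cycles.length, ∀ (F : ℕ → ℕ → ↥(center Γ)), (∀ i x, F i x ^ D.p = 1) →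
      ∀ z : ℕ → ↥(center Γ), (∀ j < D.paths.length, ∀ i < D.n, walkF F nxt (D.paths.getD j []) i = z j) →
        ∏ j ∈ Finset.range D.paths.length, z j ^ entry D.Lam k j = 1)
    (C : Cocycle σ Ω) (hexp : ∀ a ∈ σ.ker, a ^ D.p = 1) (γx : ℕ → Γ) (pts : ℕ → Ω)
    (hact : ∀ x < D.d, ∀ i < D.n, σ (γx x) • pts i = pts (nxt (2 * x) i))
    (hrel : ∀ w ∈ D.paths, σ (pathProd (letG γx) w) = 1) :
    ∃ a : ℕ → ↥(center Γ), (∀ x, ((a x : ↥(center Γ)) : Γ) ∈ σ.ker) ∧
      ∀ w ∈ D.paths, pathProd (letG (fun x => γx x * (a x : Γ))) w = 1 := by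
  have h := D.static_of_check nxt hOK
  have htab := h.htab
  -- the action of the letters
  have hnxt : ∀ l < 2 * D.d, ∀ i < D.n, nxt l i < D.n ∧ σ (letG γx l) • pts i = pts (nxt l i) := by
    intro l hl i hi
    refine ⟨htab l hl i hi, ?_⟩
    obtain ⟨x, hx, hlx⟩ : ∃ x, x < D.d ∧ (l = 2 * x ∨ l = 2 * x + 1) := ⟨l / 2, by omega, by omega⟩
    obtain ⟨t1, t2, t3, t4⟩ := h.tab x hx i hi
    rcases hlx with rfl | rfl
    · have : letG γx (2 * x) = γx x := by
        simp only [letG]
        rw [if_pos (by omega), show 2 * x / 2 = x by omega]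
      rw [this, hact _ hx i hi]
    · have : letG γx (2 * x + 1) = (γx x)⁻¹ := by
        simp only [letG]
        rw [if_neg (by omega), show (2 * x + 1) / 2 = x by omega]
      rw [this, map_inv, inv_smul_eq_iff, hact _ hx _ t2, t4]
  -- the kernel inside the centre
  let kerC : Subgroup ↥(center Γ) := σ.ker.comap (center Γ).subtype
  have hkerC : ∀ c : ↥(center Γ), c ∈ kerC ↔ (c : Γ) ∈ σ.ker := fun c => Iff.rfl
  have hexpC : ∀ c ∈ kerC, c ^ D.p = 1 := by
    intro c hc
    apply Subtype.ext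
    rw [Subgroup.coe_pow]
    exact hexp _ hc
  let F : ℕ → ℕ → ↥(center Γ) := fun i x => C.c (γx x) (pts i)
  have hF : ∀ i x, F i x ^ D.p = 1 := fun i x => hexpC _ (C.mem_ker _ _)
  -- the values of the relators
  let z : ℕ → ↥(center Γ) := fun j => walkF F nxt (D.paths.getD j []) 0
  have hzi : ∀ j < D.paths.length, ∀ i < D.n, walkF F nxt (D.paths.getD j []) i = z j := by
    intro j hj i hi
    have hm := D.path_mem hj
    apply Subtype.ext
    rw [← relator_eq_walkF C γx pts nxt D.n D.d hnxt _ (h.paths _ hm) (hrel _ hm) i hi,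
      ← relator_eq_walkF C γx pts nxt D.n D.d hnxt _ (h.paths _ hm) (hrel _ hm) 0 h.hn]
  have hzval : ∀ j < D.paths.length, ((z j : ↥(center Γ)) : Γ) = pathProd (letG γx) (D.paths.getD j []) := by
    intro j hj
    have hm := D.path_mem hj
    exact (relator_eq_walkF C γx pts nxt D.n D.d hnxt _ (h.paths _ hm) (hrel _ hm) 0 h.hn).symm
  have hzker : ∀ j, z j ∈ kerC := by
    intro j
    by_cases hj : j < D.paths.length
    · rw [hkerC, hzval j hj, MonoidHom.mem_ker]
      exact hrel _ (D.path_mem hj)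
    · have : D.paths.getD j [] = [] := by
        rw [List.getD_eq_default]; omega
      show walkF F nxt (D.paths.getD j []) 0 ∈ kerC
      rw [this]
      exact one_mem _
  have hzp : ∀ j, z j ^ D.p = 1 := fun j => hexpC _ (hzker j)
  -- the cycles
  have hΛ : ∀ k < D.cycles.length, ∏ j ∈ Finset.range D.paths.length, z j ^ entry D.Lam k j = 1 :=
    fun k hk => hcyc k hk F hF z hzi
  have hla := la_lemma D.p D.paths.length D.d D.cycles.length z hzp D.ex (entry D.S) (entry D.Tm) (entry D.Lam)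
    hΛ h.id
  -- the correction
  let b : ℕ → ↥(center Γ) := fun x => ∏ i ∈ Finset.range D.paths.length, z i ^ entry D.S x i
  have hbker : ∀ x, b x ∈ kerC := fun x => Subgroup.prod_mem _ (fun i _ => pow_mem (hzker i) _)
  refine ⟨fun x => (b x)⁻¹, fun x => (hkerC _).mp (inv_mem (hbker x)), ?_⟩
  intro w hw
  obtain ⟨j, hj, rfl⟩ : ∃ j, j < D.paths.length ∧ D.paths.getD j [] = w := by
    obtain ⟨j, hj, rfl⟩ := List.getElem_of_mem hw
    exact ⟨j, hj, List.getD_eq_getElem _ _ hj⟩
  rw [pathProd_mul, ← hzval j hj]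
  have hprod : (((D.paths.getD j []).map (letA (fun x => (b x)⁻¹))).prod : ↥(center Γ)) =
      ∏ x ∈ Finset.range D.d, ((b x)⁻¹) ^ expo D.p (D.paths.getD j []) x :=
    prod_letA D.p h.hp (fun x => (b x)⁻¹) (fun x => by rw [inv_pow, hexpC _ (hbker x), inv_one]) D.d _
      (h.paths _ (D.path_mem hj))
  rw [hprod, ← Subgroup.coe_mul]
  have : z j * ∏ x ∈ Finset.range D.d, ((b x)⁻¹) ^ expo D.p (D.paths.getD j []) x = 1 := by
    rw [hla j hj]
    simp only [inv_pow, Finset.prod_inv_distrib]
    exact mul_inv_cancel _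
  rw [this]
  rfl

end Main

section Pres
variable {α : Type} (rels : Set (FreeGroup α)) (relWords : List (List (α × Bool)))
  (lw : α × Bool → ℕ) (gi : α → ℕ)

/-- `ker_eq_bot_of_fox` of `SchurFoxG` with the cycles given by their cells: `CY` lists, for every cycle and every
relator, the cells `(point, coefficient)` -/
theorem ker_eq_bot_of_fox_sparse
    (hrels : ∀ r, r ∈ rels ↔ ∃ L ∈ relWords, r = FreeGroup.mk L)
    (hlw : ∀ x b, lw (x, b) = 2 * gi x + cond b 0 1) (hgi : Function.Injective gi)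
    (H : Subgroup (PresentedGroup rels))
    (T : Table) (hT : T.OK) (hlwk : ∀ x, lw (x, true) < T.k)
    (φ : PresentedGroup rels →* Equiv.Perm (Fin T.n))
    (hφ : ∀ x, φ (PresentedGroup.of x) = Table.sigma hT (lw (x, true)))
    (f : PresentedGroup rels ⧸ H → Fin T.n) (hf : Function.Bijective f)
    (hfe : ∀ g q, f (g • q) = φ g (f q))
    (D : FoxData) (hDn : D.n = T.n) (hDd : ∀ k < D.d, ∃ x, gi x = k)
    (hpaths : D.paths = relWords.map (pathOf lw))
    (hOK : D.staticOK T.tau = true) (CY : List (List (List (ℕ × ℕ))))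
    (hcyc : ∀ k < D.cycles.length, cycleOKS D T.tau k (CY.getD k []) = true)
    {Γ : Type*} [Group Γ] (σ : Γ →* PresentedGroup rels) (hσ : Cfsg.IsStemExtension σ)
    (hexp : ∀ a ∈ σ.ker, a ^ D.p = 1) (R : Retraction σ (H.comap σ)) : σ.ker = ⊥ := by
  classical
  have hstat := D.static_of_check T.tau hOK
  -- the cocycle on the coset space
  have hV : ∀ γ, γ ∈ H.comap σ ↔ σ γ • (QuotientGroup.mk 1 : PresentedGroup rels ⧸ H) = QuotientGroup.mk 1 := by
    intro γ
    rw [Subgroup.mem_comap]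
    show _ ↔ (QuotientGroup.mk (σ γ * 1) : PresentedGroup rels ⧸ H) = QuotientGroup.mk 1
    rw [mul_one, QuotientGroup.eq, mul_one, inv_mem_iff]
  obtain ⟨C⟩ := exists_cocycle σ hσ.1 hσ.2.1 (QuotientGroup.mk 1 : PresentedGroup rels ⧸ H) (H.comap σ) hV R
  -- lifts of the generators
  have hlift : ∀ x : α, ∃ g : Γ, σ g = PresentedGroup.of x := fun x => hσ.1 _
  choose γ0 hγ0 using hlift
  let γx : ℕ → Γ := fun k => if h : ∃ x, gi x = k then γ0 h.choose else 1
  have hγx : ∀ x, γx (gi x) = γ0 x := by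
    intro x
    have h : ∃ y, gi y = gi x := ⟨x, rfl⟩
    show (if h : ∃ y, gi y = gi x then γ0 h.choose else 1) = γ0 x
    rw [dif_pos h, hgi h.choose_spec]
  -- the points
  let e := Equiv.ofBijective f hf
  let pts : ℕ → PresentedGroup rels ⧸ H := fun i => if h : i < T.n then e.symm ⟨i, h⟩ else QuotientGroup.mk 1
  have hpts : ∀ i (h : i < T.n), f (pts i) = ⟨i, h⟩ := by
    intro i h
    show f (if h : i < T.n then e.symm ⟨i, h⟩ else QuotientGroup.mk 1) = _
    rw [dif_pos h]
    exact e.apply_symm_apply _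
  have hact : ∀ x < D.d, ∀ i < D.n, σ (γx x) • pts i = pts (T.tau (2 * x) i) := by
    intro k hk i hi
    rw [hDn] at hi
    obtain ⟨x, rfl⟩ := hDd k hk
    rw [hγx, hγ0]
    apply hf.1
    rw [hfe, hφ, hpts i hi]
    have hlt : T.tau (2 * gi x) i < T.n := by
      have := (Table.sigma hT (lw (x, true)) ⟨i, hi⟩).2
      rwa [Table.sigma_apply hT (hlwk x), hlw, cond_true, add_zero] at this
    rw [hpts _ hlt]
    apply Fin.ext
    rw [Table.sigma_apply hT (hlwk x), hlw]
    rfl
  have hcomp : ∀ (g : α → Γ), (∀ x, σ (g x) = PresentedGroup.of x) → ∀ L : List (α × Bool),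
      σ (FreeGroup.lift g (FreeGroup.mk L)) = PresentedGroup.mk rels (FreeGroup.mk L) := by
    intro g hg L
    have : σ.comp (FreeGroup.lift g) = PresentedGroup.mk rels := by
      apply FreeGroup.ext_hom
      intro x
      show σ (FreeGroup.lift g (FreeGroup.of x)) = PresentedGroup.mk rels (FreeGroup.of x)
      rw [FreeGroup.lift_apply_of, hg]
      rfl
    exact congrArg (fun h : FreeGroup α →* PresentedGroup rels => h (FreeGroup.mk L)) this
  have hrel : ∀ w ∈ D.paths, σ (pathProd (letG γx) w) = 1 := by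
    intro w hw
    rw [hpaths, List.mem_map] at hw
    obtain ⟨L, hL, rfl⟩ := hw
    rw [← lift_mk_eq_pathProd γ0 lw (letG γx) (fun x b => by rw [letG_lw lw gi hlw, hγx]) L, hcomp γ0 hγ0]
    exact PresentedGroup.one_of_mem ((hrels _).mpr ⟨L, hL, rfl⟩)
  obtain ⟨a, haker, harel⟩ := exists_adjust_abs D T.tau hOK
    (fun k hk F hF z hz => cycleS_sound D T.tau hstat k _ (hcyc k hk) F hF z hz) C hexp γx pts hact hrel
  -- the corrected lifts
  let γ' : α → Γ := fun x => γ0 x * (a (gi x) : Γ)
  have hγ' : ∀ x, σ (γ' x) = PresentedGroup.of x := by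
    intro x
    show σ (γ0 x * (a (gi x) : Γ)) = _
    rw [map_mul, hγ0, MonoidHom.mem_ker.mp (haker _), mul_one]
  refine ker_eq_bot_of_lifts rels σ hσ γ' hγ' ?_
  intro r hr
  obtain ⟨L, hL, rfl⟩ := (hrels r).mp hr
  rw [lift_mk_eq_pathProd γ' lw (letG (fun k => γx k * (a k : Γ))) (fun x b => by
    rw [letG_lw lw gi hlw, hγx]) L]
  exact harel _ (by rw [hpaths]; exact List.mem_map_of_mem hL)

end Pres

end Cfsg.Agent.Lib.Helper29.SchurFoxSparse
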