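import Mathlib
import Cfsg.Prelude.Def_GeometricClasses
import Cfsg.Agent.Lib.Helper20.AschDefs

/-!
S5662 (Aschbacher's theorem for `Sp_2m(F)`): shared definitions (planner helper29).  Paper proof: `notes/S5662_plan.md`.

`bfm J` (bilinear form with Gram matrix `J`), `isoG J` (its isometry group in `GL`), `IsAltGram J`, `adjM J T = J⁻¹ Tᵀ J`,
`InSpPartialClassG` / `InSpClassG f I m M` (the frozen symplectic class predicates with `(Fin m ⊕ Fin m, sympForm, spGL)` replaced by a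
general `(ι, f, I)`; the frozen ones are the instance, by `Iff.rfl`), `SGeo J m H`, `SpCtx J m H`.
-/

set_option autoImplicit false
set_option linter.unusedSectionVars false
set_option linter.unusedVariables false

namespace Cfsg.Agent.Lib.Helper29.SpAsch
open Matrix Cfsg Cfsg.Geo Cfsg.Agent.Lib.Helper20.Asch
open scoped Kronecker

section generic
variable {ι : Type} [Fintype ι] [DecidableEq ι] {F : Type*} [Field F]

/-- the bilinear form with Gram matrix `J` -/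
def bfm (J : Matrix ι ι F) (u v : ι → F) : F := u ⬝ᵥ (J *ᵥ v)

/-- the isometry group of `bfm J` inside `GL` -/
def isoG (J : Matrix ι ι F) : Subgroup (GL ι F) := preserving (glToMat ι F) (bfm J)

/-- `J` is the Gram matrix of a non-degenerate alternating form -/
structure IsAltGram (J : Matrix ι ι F) : Prop where
  skew : Jᵀ = -J
  diag : ∀ i, J i i = 0
  det : J.det ≠ 0

/-- the adjoint of `T` for `bfm J`: `bfm J (T u) v = bfm J u (adjM J T v)` -/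
noncomputable def adjM (J : Matrix ι ι F) (T : Matrix ι ι F) : Matrix ι ι F := J⁻¹ * Tᵀ * J

variable [Fintype F]

/-- the frozen `InSymplecticPartialClass` for a general index type, form and isometry group -/
def InSpPartialClassG (f : (ι → F) → (ι → F) → F) (I : Subgroup (GL ι F)) (m : ℕ)
    (M : Subgroup (GL ι F)) : Prop :=
  (∃ W : Submodule F (ι → F), W ≠ ⊥ ∧ IsTotallySingularFor f W ∧ M = subspaceStabilizer W ⊓ I) ∨
  (∃ W : Submodule F (ι → F), W ≠ ⊥ ∧ IsNondegenerateOn f W ∧ Module.finrank F W < m ∧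
      M = subspaceStabilizer W ⊓ I) ∨
  (∃ (t k : ℕ) (D : Fin t → Submodule F (ι → F)), IsNondegenerateMDecomposition f k D ∧
      M = decompositionStabilizer D ⊓ I) ∨
  (∃ (D : Fin 2 → Submodule F (ι → F)), Odd (Fintype.card F) ∧ IsMDecomposition m D ∧
      (∀ i, IsTotallySingularFor f (D i)) ∧ M = decompositionStabilizer D ⊓ I) ∨
  (∃ (F₀ : Subfield F) (r : ℕ) (P : GL ι F) (ζ : F), r.Prime ∧ Fintype.card F = Nat.card F₀ ^ r ∧ ζ ≠ 0 ∧
      IsFormRationalStructure f F₀ ζ P ∧ M = subfieldSubgroup F₀ P ⊓ I) ∨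
  (∃ (R : Subgroup (GL ι F)) (p k : ℕ), IsSymplecticTypeGroup 2 R ∧
      ActsAbsolutelyIrreducibly (matrixSet R) ∧ R ≤ similarityGroup f ∧ p.Prime ∧ Odd p ∧ Fintype.card F = p ∧
      Nat.card R = 2 ^ (1 + 2 * k) ∧ Nat.card (Subgroup.center R) = 2 ∧ IsOfMinusType k R ∧
      M = subgroupNormalizer R ⊓ I) ∨
  (∃ Q : (ι → F) → F, ¬ Odd (Fintype.card F) ∧ IsNondegenerateQuadraticForm Q ∧
      (∀ u v, QuadraticMap.polar Q u v = f u v) ∧ M = quadSimilarityGroup Q ⊓ I)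

/-- the frozen `InSymplecticClass` for a general index type, form and isometry group -/
def InSpClassG (f : (ι → F) → (ι → F) → F) (I : Subgroup (GL ι F)) (m : ℕ)
    (M : Subgroup (GL ι F)) : Prop :=
  InSpPartialClassG f I m M ∨
  (∃ (r : ℕ) (K : Subalgebra F (Matrix ι ι F)), r.Prime ∧ IsFieldSubalgebra r K ∧
      IsSelfAdjointFor f K ∧ (∀ k ∈ K, ∀ v, f (k *ᵥ v) v = 0) ∧ M = subalgebraNormalizer K ⊓ I) ∨
  (∃ K : Subalgebra F (Matrix ι ι F), Odd (Fintype.card F) ∧ IsFieldSubalgebra 2 K ∧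
      IsAdjointClosedFor f K ∧ ¬ IsSelfAdjointFor f K ∧ M = subalgebraNormalizer K ⊓ I) ∨
  (∃ (n₁ n₂ : ℕ) (e : ι ≃ Fin n₁ × Fin n₂) (P : GL ι F)
      (f₁ : (Fin n₁ → F) → (Fin n₁ → F) → F) (f₂ : (Fin n₂ → F) → (Fin n₂ → F) → F),
      Odd (Fintype.card F) ∧ 3 ≤ n₂ ∧ IsSymplecticForm f₁ ∧ IsSymmetricForm f₂ ∧
      IsTensorFormStructure id f f₁ f₂ e P ∧ M = tensorProductSubgroup n₁ n₂ e P ⊓ I) ∨
  (∃ (k t : ℕ) (e : ι ≃ (Fin t → Fin k)) (P : GL ι F) (f₁ : (Fin k → F) → (Fin k → F) → F),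
      Odd (Fintype.card F) ∧ Odd t ∧ 3 ≤ t ∧ ¬ (Fintype.card F = 3 ∧ k = 2) ∧ IsSymplecticForm f₁ ∧
      IsTensorPowerFormStructure id f f₁ e P ∧ M = tensorWreathSubgroup k t e P ⊓ I)

end generic

section frozen
variable {F : Type*} [Field F] [Fintype F]

lemma sympForm_eq_bfm (m : ℕ) : sympForm m F = bfm (Matrix.J (Fin m) F) := rfl

lemma spGL_eq_isoG (m : ℕ) : spGL m F = isoG (Matrix.J (Fin m) F) := rfl

/-- the frozen predicate is the instance `(Fin m ⊕ Fin m, sympForm m F, spGL m F)` -/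
lemma inSymplecticClass_iff (m : ℕ) (M : Subgroup (GL (Fin m ⊕ Fin m) F)) :
    InSymplecticClass m F M ↔
      InSpClassG (bfm (Matrix.J (Fin m) F)) (isoG (Matrix.J (Fin m) F)) m M := Iff.rfl

end frozen

section fin
variable {F : Type*} [Field F] [Fintype F] {n : ℕ}

/-- `H` lies in a member of one of the eight classes for the isometry group of `bfm J` -/
def SGeo (J : Matrix (Fin n) (Fin n) F) (m : ℕ) (H : Subgroup (GL (Fin n) F)) : Prop :=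
  ∃ M : Subgroup (GL (Fin n) F), InSpClassG (bfm J) (isoG J) m M ∧ H ≤ M

/-- the standing hypotheses -/
structure SpCtx (J : Matrix (Fin n) (Fin n) F) (m : ℕ) (H : Subgroup (GL (Fin n) F)) : Prop where
  alt : IsAltGram J
  dim : n = 2 * m
  two_le : 2 ≤ m
  le : H ≤ isoG J

variable {J : Matrix (Fin n) (Fin n) F} {m : ℕ} {H : Subgroup (GL (Fin n) F)}

lemma SGeo.of_C1a (hH : H ≤ isoG J) (W : Submodule F (Fin n → F)) (h0 : W ≠ ⊥)
    (hts : IsTotallySingularFor (bfm J) W) (hW : H ≤ subspaceStabilizer W) : SGeo J m H :=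
  ⟨_, Or.inl (Or.inl ⟨W, h0, hts, rfl⟩), le_inf hW hH⟩

lemma SGeo.of_C1b (hH : H ≤ isoG J) (W : Submodule F (Fin n → F)) (h0 : W ≠ ⊥)
    (hnd : IsNondegenerateOn (bfm J) W) (hlt : Module.finrank F W < m)
    (hW : H ≤ subspaceStabilizer W) : SGeo J m H :=
  ⟨_, Or.inl (Or.inr (Or.inl ⟨W, h0, hnd, hlt, rfl⟩)), le_inf hW hH⟩

lemma SGeo.of_C2a (hH : H ≤ isoG J) {t k : ℕ} (D : Fin t → Submodule F (Fin n → F))
    (hD : IsNondegenerateMDecomposition (bfm J) k D) (hHD : H ≤ decompositionStabilizer D) :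
    SGeo J m H :=
  ⟨_, Or.inl (Or.inr (Or.inr (Or.inl ⟨t, k, D, hD, rfl⟩))), le_inf hHD hH⟩

lemma SGeo.of_C2b (hH : H ≤ isoG J) (D : Fin 2 → Submodule F (Fin n → F))
    (hodd : Odd (Fintype.card F)) (hD : IsMDecomposition m D)
    (hts : ∀ i, IsTotallySingularFor (bfm J) (D i)) (hHD : H ≤ decompositionStabilizer D) :
    SGeo J m H :=
  ⟨_, Or.inl (Or.inr (Or.inr (Or.inr (Or.inl ⟨D, hodd, hD, hts, rfl⟩)))), le_inf hHD hH⟩

lemma SGeo.of_C5 (hH : H ≤ isoG J) (F₀ : Subfield F) (r : ℕ) (P : GL (Fin n) F) (ζ : F)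
    (hr : r.Prime) (hcard : Fintype.card F = Nat.card F₀ ^ r) (hζ : ζ ≠ 0)
    (hform : IsFormRationalStructure (bfm J) F₀ ζ P) (hHP : H ≤ subfieldSubgroup F₀ P) : SGeo J m H :=
  ⟨_, Or.inl (Or.inr (Or.inr (Or.inr (Or.inr (Or.inl ⟨F₀, r, P, ζ, hr, hcard, hζ, hform, rfl⟩))))),
    le_inf hHP hH⟩

lemma SGeo.of_C6 (hH : H ≤ isoG J) (R : Subgroup (GL (Fin n) F)) (p k : ℕ)
    (hR : IsSymplecticTypeGroup 2 R) (habs : ActsAbsolutelyIrreducibly (matrixSet R))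
    (hsim : R ≤ similarityGroup (bfm J)) (hp : p.Prime) (hodd : Odd p) (hcard : Fintype.card F = p)
    (hRc : Nat.card R = 2 ^ (1 + 2 * k)) (hZ : Nat.card (Subgroup.center R) = 2)
    (hminus : IsOfMinusType k R) (hHR : H ≤ subgroupNormalizer R) : SGeo J m H :=
  ⟨_, Or.inl (Or.inr (Or.inr (Or.inr (Or.inr (Or.inr (Or.inl
    ⟨R, p, k, hR, habs, hsim, hp, hodd, hcard, hRc, hZ, hminus, rfl⟩)))))), le_inf hHR hH⟩

lemma SGeo.of_C8 (hH : H ≤ isoG J) (Q : (Fin n → F) → F) (heven : ¬ Odd (Fintype.card F))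
    (hQ : IsNondegenerateQuadraticForm Q) (hpolar : ∀ u v, QuadraticMap.polar Q u v = bfm J u v)
    (hHQ : H ≤ quadSimilarityGroup Q) : SGeo J m H :=
  ⟨_, Or.inl (Or.inr (Or.inr (Or.inr (Or.inr (Or.inr (Or.inr ⟨Q, heven, hQ, hpolar, rfl⟩)))))),
    le_inf hHQ hH⟩

lemma SGeo.of_C3a (hH : H ≤ isoG J) (r : ℕ) (K : Subalgebra F (Matrix (Fin n) (Fin n) F))
    (hr : r.Prime) (hK : IsFieldSubalgebra r K) (hsa : IsSelfAdjointFor (bfm J) K)
    (hz : ∀ k ∈ K, ∀ v, bfm J (k *ᵥ v) v = 0) (hHK : H ≤ subalgebraNormalizer K) : SGeo J m H :=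
  ⟨_, Or.inr (Or.inl ⟨r, K, hr, hK, hsa, hz, rfl⟩), le_inf hHK hH⟩

lemma SGeo.of_C3b (hH : H ≤ isoG J) (K : Subalgebra F (Matrix (Fin n) (Fin n) F))
    (hodd : Odd (Fintype.card F)) (hK : IsFieldSubalgebra 2 K) (hac : IsAdjointClosedFor (bfm J) K)
    (hnsa : ¬ IsSelfAdjointFor (bfm J) K) (hHK : H ≤ subalgebraNormalizer K) : SGeo J m H :=
  ⟨_, Or.inr (Or.inr (Or.inl ⟨K, hodd, hK, hac, hnsa, rfl⟩)), le_inf hHK hH⟩

lemma SGeo.of_C4 (hH : H ≤ isoG J) (n₁ n₂ : ℕ) (e : Fin n ≃ Fin n₁ × Fin n₂) (P : GL (Fin n) F)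
    (f₁ : (Fin n₁ → F) → (Fin n₁ → F) → F) (f₂ : (Fin n₂ → F) → (Fin n₂ → F) → F)
    (hodd : Odd (Fintype.card F)) (h3 : 3 ≤ n₂) (hf₁ : IsSymplecticForm f₁) (hf₂ : IsSymmetricForm f₂)
    (hten : IsTensorFormStructure id (bfm J) f₁ f₂ e P) (hHT : H ≤ tensorProductSubgroup n₁ n₂ e P) :
    SGeo J m H :=
  ⟨_, Or.inr (Or.inr (Or.inr (Or.inl ⟨n₁, n₂, e, P, f₁, f₂, hodd, h3, hf₁, hf₂, hten, rfl⟩))),
    le_inf hHT hH⟩

lemma SGeo.of_C7 (hH : H ≤ isoG J) (k t : ℕ) (e : Fin n ≃ (Fin t → Fin k)) (P : GL (Fin n) F)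
    (f₁ : (Fin k → F) → (Fin k → F) → F) (hodd : Odd (Fintype.card F)) (htodd : Odd t) (ht : 3 ≤ t)
    (hex : ¬ (Fintype.card F = 3 ∧ k = 2)) (hf₁ : IsSymplecticForm f₁)
    (hten : IsTensorPowerFormStructure id (bfm J) f₁ e P) (hHT : H ≤ tensorWreathSubgroup k t e P) :
    SGeo J m H :=
  ⟨_, Or.inr (Or.inr (Or.inr (Or.inr ⟨k, t, e, P, f₁, hodd, htodd, ht, hex, hf₁, hten, rfl⟩))),
    le_inf hHT hH⟩

lemma SGeo.mono {H H' : Subgroup (GL (Fin n) F)} (h : H ≤ H') (hG : SGeo J m H') : SGeo J m H := by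
  obtain ⟨M, hM, hH'⟩ := hG
  exact ⟨M, hM, h.trans hH'⟩

end fin

end Cfsg.Agent.Lib.Helper29.SpAsch
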