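import Mathlib
import Cfsg.Agent.Lib.Helper29.SpAschDefs
import Cfsg.Agent.Lib.Helper27.AschO4

/-!
S5662: basic toolkit for `bfm J`, `isoG J`, `adjM J` (all proved).  `bfm J = Helper27.AschO4.bf J` by `rfl`.
-/

set_option autoImplicit false
set_option linter.unusedSectionVars false
set_option linter.unusedVariables false

namespace Cfsg.Agent.Lib.Helper29.SpAsch
open Matrix Cfsg Cfsg.Geo Cfsg.Agent.Lib.Helper20.Asch Cfsg.Agent.Lib.Helper27.AschO4
open scoped Kronecker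

variable {F : Type*} [Field F] {ι : Type} [Fintype ι] [DecidableEq ι] {J : Matrix ι ι F}

lemma bfm_eq_bf : bfm J = bf J := rfl

lemma bfm_apply (u v : ι → F) : bfm J u v = u ⬝ᵥ (J *ᵥ v) := rfl

lemma bfm_bilinear (J : Matrix ι ι F) : IsBilinearForm (bfm J) := bf_bilinear J

lemma bfm_add_left (u u' v : ι → F) : bfm J (u + u') v = bfm J u v + bfm J u' v :=
  (bfm_bilinear J).add_left u u' v

lemma bfm_add_right (u v v' : ι → F) : bfm J u (v + v') = bfm J u v + bfm J u v' :=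
  (bfm_bilinear J).add_right u v v'

lemma bfm_smul_left (c : F) (u v : ι → F) : bfm J (c • u) v = c * bfm J u v :=
  (bfm_bilinear J).smul_left c u v

lemma bfm_smul_right (c : F) (u v : ι → F) : bfm J u (c • v) = c * bfm J u v :=
  (bfm_bilinear J).smul_right c u v

lemma bfm_zero_left (v : ι → F) : bfm J 0 v = 0 := by
  unfold bfm; rw [zero_dotProduct]

lemma bfm_zero_right (u : ι → F) : bfm J u 0 = 0 := by
  unfold bfm; rw [Matrix.mulVec_zero, dotProduct_zero]

lemma bfm_neg_left (u v : ι → F) : bfm J (-u) v = - bfm J u v := by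
  unfold bfm; rw [neg_dotProduct]

lemma bfm_neg_right (u v : ι → F) : bfm J u (-v) = - bfm J u v := by
  unfold bfm; rw [Matrix.mulVec_neg, dotProduct_neg]

lemma bfm_sub_left (u u' v : ι → F) : bfm J (u - u') v = bfm J u v - bfm J u' v := by
  rw [sub_eq_add_neg, bfm_add_left, bfm_neg_left, sub_eq_add_neg]

lemma bfm_sub_right (u v v' : ι → F) : bfm J u (v - v') = bfm J u v - bfm J u v' := by
  rw [sub_eq_add_neg, bfm_add_right, bfm_neg_right, sub_eq_add_neg]

/-- `bfm J (A u) (B v) = bfm (Aᵀ J B) u v` -/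
lemma bfm_mulVec (A B : Matrix ι ι F) (u v : ι → F) :
    bfm J (A *ᵥ u) (B *ᵥ v) = bfm (Aᵀ * J * B) u v := by
  unfold bfm
  rw [← Matrix.mulVec_mulVec, ← Matrix.mulVec_mulVec, Matrix.dotProduct_mulVec u,
    Matrix.vecMul_transpose]

lemma bfm_mulVec_left (A : Matrix ι ι F) (u v : ι → F) :
    bfm J (A *ᵥ u) v = bfm (Aᵀ * J) u v := by
  have := bfm_mulVec (J := J) A 1 u v
  rwa [Matrix.one_mulVec, mul_one] at this

lemma bfm_mulVec_right (B : Matrix ι ι F) (u v : ι → F) :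
    bfm J u (B *ᵥ v) = bfm (J * B) u v := by
  have := bfm_mulVec (J := J) 1 B u v
  rwa [Matrix.one_mulVec, Matrix.transpose_one, one_mul] at this

/-- the Gram matrix is determined by the form -/
lemma bfm_injective {J J' : Matrix ι ι F} (h : ∀ u v, bfm J u v = bfm J' u v) : J = J' := by
  ext i j
  have := h (Pi.single i 1) (Pi.single j 1)
  unfold bfm at this
  simpa using this

lemma bfm_entry (i j : ι) : bfm J (Pi.single i 1) (Pi.single j 1) = J i j := by
  unfold bfm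
  simp

lemma mem_isoG_iff (g : GL ι F) :
    g ∈ isoG J ↔ (g : Matrix ι ι F)ᵀ * J * (g : Matrix ι ι F) = J := by
  constructor
  · intro hg
    apply bfm_injective
    intro u v
    rw [← bfm_mulVec]
    exact hg u v
  · intro hg u v
    show bfm J ((g : Matrix ι ι F) *ᵥ u) ((g : Matrix ι ι F) *ᵥ v) = bfm J u v
    rw [bfm_mulVec, hg]

lemma isoG_apply {g : GL ι F} (hg : g ∈ isoG J) (u v : ι → F) :
    bfm J ((g : Matrix ι ι F) *ᵥ u) ((g : Matrix ι ι F) *ᵥ v) = bfm J u v := hg u v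

section det
variable (hd : J.det ≠ 0)
include hd

lemma J_inv_mul : J⁻¹ * J = 1 := Matrix.nonsing_inv_mul J (Ne.isUnit hd)

lemma J_mul_inv : J * J⁻¹ = 1 := Matrix.mul_nonsing_inv J (Ne.isUnit hd)

/-- `bfm J (T u) v = bfm J u (adjM J T v)` -/
lemma bfm_adjM (T : Matrix ι ι F) (u v : ι → F) :
    bfm J (T *ᵥ u) v = bfm J u (adjM J T *ᵥ v) := by
  rw [bfm_mulVec_left, bfm_mulVec_right]
  unfold adjM
  rw [← mul_assoc, ← mul_assoc, J_mul_inv hd, one_mul]

lemma adjM_one : adjM J (1 : Matrix ι ι F) = 1 := by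
  unfold adjM
  rw [Matrix.transpose_one, mul_one, J_inv_mul hd]

lemma adjM_mul (S T : Matrix ι ι F) : adjM J (S * T) = adjM J T * adjM J S := by
  unfold adjM
  rw [Matrix.transpose_mul]
  calc J⁻¹ * (Tᵀ * Sᵀ) * J = J⁻¹ * Tᵀ * (J * J⁻¹) * Sᵀ * J := by
        rw [J_mul_inv hd, mul_one]; simp only [mul_assoc]
    _ = _ := by simp only [mul_assoc]

lemma adjM_of_mem {g : GL ι F} (hg : g ∈ isoG J) :
    adjM J (g : Matrix ι ι F) = ((g⁻¹ : GL ι F) : Matrix ι ι F) := by
  rw [mem_isoG_iff] at hg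
  unfold adjM
  have h1 : J⁻¹ * (g : Matrix ι ι F)ᵀ * J * (g : Matrix ι ι F) = 1 := by
    rw [mul_assoc, mul_assoc, ← mul_assoc _ J, hg, J_inv_mul hd]
  have h2 : (g : Matrix ι ι F) * ((g⁻¹ : GL ι F) : Matrix ι ι F) = 1 := by
    rw [← Units.val_mul, mul_inv_cancel, Units.val_one]
  calc J⁻¹ * (g : Matrix ι ι F)ᵀ * J
      = J⁻¹ * (g : Matrix ι ι F)ᵀ * J * ((g : Matrix ι ι F) * ((g⁻¹ : GL ι F) : Matrix ι ι F)) := by
        rw [h2, mul_one]
    _ = ((g⁻¹ : GL ι F) : Matrix ι ι F) := by rw [← mul_assoc, h1, one_mul]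

end det

lemma adjM_add (S T : Matrix ι ι F) : adjM J (S + T) = adjM J S + adjM J T := by
  unfold adjM
  rw [Matrix.transpose_add, mul_add, add_mul]

lemma adjM_smul (c : F) (T : Matrix ι ι F) : adjM J (c • T) = c • adjM J T := by
  unfold adjM
  rw [Matrix.transpose_smul, Matrix.mul_smul, Matrix.smul_mul]

lemma adjM_zero : adjM J (0 : Matrix ι ι F) = 0 := by
  unfold adjM
  rw [Matrix.transpose_zero, mul_zero, zero_mul]

lemma adjM_sub (S T : Matrix ι ι F) : adjM J (S - T) = adjM J S - adjM J T := by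
  unfold adjM
  rw [Matrix.transpose_sub, mul_sub, sub_mul]

section alt
variable (hJ : IsAltGram J)
include hJ

lemma bfm_self (v : ι → F) : bfm J v v = 0 := bf_alt J hJ.skew hJ.diag v

lemma isSymplectic_bfm : IsSymplecticForm (bfm J) := symp_of_alt J (bfm_self hJ) hJ.det

lemma bfm_skew (u v : ι → F) : bfm J u v = - bfm J v u := (isSymplectic_bfm hJ).skew u v

lemma bfm_nondeg : IsNondegenerateForm (bfm J) := bf_nondeg J hJ.det

lemma inv_transpose_alt : (J⁻¹)ᵀ = -J⁻¹ := by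
  rw [Matrix.transpose_nonsing_inv, hJ.skew]
  apply Matrix.inv_eq_left_inv
  rw [neg_mul_neg, J_inv_mul hJ.det]

lemma adjM_adjM (T : Matrix ι ι F) : adjM J (adjM J T) = T := by
  unfold adjM
  rw [Matrix.transpose_mul, Matrix.transpose_mul, Matrix.transpose_transpose, inv_transpose_alt hJ,
    hJ.skew]
  have h1 := J_inv_mul hJ.det
  have h2 := J_mul_inv hJ.det
  calc J⁻¹ * (-J * (T * -J⁻¹)) * J = (J⁻¹ * J) * T * (J⁻¹ * J) := by
        simp only [Matrix.neg_mul, Matrix.mul_neg, neg_neg, mul_assoc]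
    _ = T := by rw [h1, one_mul, mul_one]

/-- `bfm J u (T v) = bfm J (adjM J T u) v` -/
lemma bfm_adjM' (T : Matrix ι ι F) (u v : ι → F) :
    bfm J u (T *ᵥ v) = bfm J (adjM J T *ᵥ u) v := by
  rw [bfm_adjM hJ.det (adjM J T) u v, adjM_adjM hJ]

lemma adjM_injective : Function.Injective (adjM J) := by
  intro S T h
  rw [← adjM_adjM hJ S, ← adjM_adjM hJ T, h]

end alt

section fin
variable {n : ℕ} {J : Matrix (Fin n) (Fin n) F} {X : Subgroup (GL (Fin n) F)}

lemma adjM_mem_Cen (hd : J.det ≠ 0) (hX : X ≤ isoG J) {T : Matrix (Fin n) (Fin n) F}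
    (hT : T ∈ Cen X) : adjM J T ∈ Cen X := by
  rw [mem_Cen] at hT ⊢
  intro x hx
  have h1 := hT x⁻¹ (X.inv_mem hx)
  have h2 := congrArg (adjM J) h1
  rw [adjM_mul hd, adjM_mul hd, adjM_of_mem hd (hX (X.inv_mem hx)), inv_inv] at h2
  exact h2.symm

lemma adjM_mem_ZCen (hJ : IsAltGram J) (hX : X ≤ isoG J) {T : Matrix (Fin n) (Fin n) F}
    (hT : T ∈ ZCen X) : adjM J T ∈ ZCen X := by
  rw [mem_ZCen] at hT ⊢
  refine ⟨adjM_mem_Cen hJ.det hX hT.1, ?_⟩
  intro S hS
  have h1 := hT.2 (adjM J S) (adjM_mem_Cen hJ.det hX hS)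
  have h2 := congrArg (adjM J) h1
  rw [adjM_mul hJ.det, adjM_mul hJ.det, adjM_adjM hJ] at h2
  exact h2.symm

lemma adjM_mem_Env (hd : J.det ≠ 0) (hX : X ≤ isoG J) {T : Matrix (Fin n) (Fin n) F}
    (hT : T ∈ Env X) : adjM J T ∈ Env X := by
  unfold Env at hT ⊢
  induction hT using Algebra.adjoin_induction with
  | mem x hx =>
    obtain ⟨g, hg, rfl⟩ := hx
    apply Algebra.subset_adjoin
    refine ⟨g⁻¹, X.inv_mem hg, ?_⟩
    exact (adjM_of_mem hd (hX hg)).symm
  | algebraMap r =>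
    rw [Algebra.algebraMap_eq_smul_one, adjM_smul, adjM_one hd]
    exact Subalgebra.smul_mem _ (Subalgebra.one_mem _) r
  | add x y _ _ hx hy => rw [adjM_add]; exact Subalgebra.add_mem _ hx hy
  | mul x y _ _ hx hy => rw [adjM_mul hd]; exact Subalgebra.mul_mem _ hy hx

/-- self-adjointness in terms of `adjM` -/
lemma isSelfAdjointFor_iff (hd : J.det ≠ 0) (K : Subalgebra F (Matrix (Fin n) (Fin n) F)) :
    IsSelfAdjointFor (bfm J) K ↔ ∀ k ∈ K, adjM J k = k := by
  constructor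
  · intro h k hk
    have h1 : ∀ u v, bfm J u (adjM J k *ᵥ v) = bfm J u (k *ᵥ v) := by
      intro u v
      rw [← bfm_adjM hd, h k hk]
    have h2 : J * adjM J k = J * k := by
      apply bfm_injective
      intro u v
      rw [← bfm_mulVec_right, ← bfm_mulVec_right, h1]
    have := congrArg (fun M => J⁻¹ * M) h2
    simpa [← mul_assoc, J_inv_mul hd] using this
  · intro h k hk u v
    rw [bfm_adjM hd, h k hk]

lemma isAdjointClosedFor_of (hd : J.det ≠ 0) (K : Subalgebra F (Matrix (Fin n) (Fin n) F))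
    (h : ∀ k ∈ K, adjM J k ∈ K) : IsAdjointClosedFor (bfm J) K := by
  intro k hk
  exact ⟨adjM J k, h k hk, fun u v => bfm_adjM hd k u v⟩

end fin

end Cfsg.Agent.Lib.Helper29.SpAsch
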