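import Mathlib
import Cfsg.Prelude.Def_Local
import Cfsg.Agent.Lib.Helper25.TSDefs

/-!
helper29: basic algebra of an anisotropic quadratic map `q : V → E` between elementary abelian 2-groups
(`Helper25.TS.QCtx`), shared by my Block A leaves of helper25's S3797 market.
-/

set_option autoImplicit false

namespace Cfsg.Agent.Lib.Helper29.TSQBase

open Cfsg.Agent.Lib.Helper25.TS

section

variable {V E : Type*} [AddCommGroup V] [AddCommGroup E]

theorem neg_eq_of_two {A : Type*} [AddCommGroup A] (h : ∀ a : A, a + a = 0) (a : A) : -a = a :=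
  neg_eq_of_add_eq_zero_left (h a)

theorem sub_eq_add_of_two {A : Type*} [AddCommGroup A] (h : ∀ a : A, a + a = 0) (a b : A) :
    a - b = a + b := by
  rw [sub_eq_add_neg, neg_eq_of_two h]

theorem pol_comm (q : V → E) (x y : V) : pol q x y = pol q y x := by
  unfold pol
  rw [add_comm x y]
  abel

theorem q_add (q : V → E) (x y : V) : q (x + y) = q x + q y + pol q x y := by
  unfold pol
  abel

variable {q : V → E}

theorem pol_add_right (hq : QCtx q) (z x y : V) : pol q z (x + y) = pol q z x + pol q z y := by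
  rw [pol_comm, hq.pol_add, pol_comm q x z, pol_comm q y z]

theorem pol_zero_left (hq : QCtx q) (z : V) : pol q 0 z = 0 := by
  have h := hq.pol_add 0 0 z
  rw [add_zero] at h
  exact left_eq_add.mp h

theorem pol_zero_right (hq : QCtx q) (z : V) : pol q z 0 = 0 := by
  rw [pol_comm, pol_zero_left hq]

theorem q_zero (hq : QCtx q) : q 0 = 0 := by
  have h := pol_zero_left hq (0 : V)
  unfold pol at h
  rw [add_zero, sub_self, zero_sub, neg_eq_zero] at h
  exact h

theorem pol_self (hq : QCtx q) (x : V) : pol q x x = 0 := by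
  unfold pol
  rw [hq.two_V, q_zero hq, zero_sub, sub_eq_add_of_two hq.two_E, neg_eq_of_two hq.two_E, hq.two_E]

theorem pol_neg_left (hq : QCtx q) (x y : V) : pol q (-x) y = pol q x y := by
  rw [neg_eq_of_two hq.two_V]

theorem pol_sum_left (hq : QCtx q) {ι : Type*} (s : Finset ι) (w : ι → V) (z : V) :
    pol q (∑ i ∈ s, w i) z = ∑ i ∈ s, pol q (w i) z := by
  classical
  induction s using Finset.induction_on with
  | empty => simp [pol_zero_left hq]
  | insert a s ha ih => rw [Finset.sum_insert ha, Finset.sum_insert ha, hq.pol_add, ih]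

variable {Γ : Type*} [Group Γ] [DistribMulAction Γ V]

theorem pol_smul {g : Γ} (hg : g ∈ isom Γ q) (x y : V) : pol q (g • x) (g • y) = pol q x y := by
  unfold pol
  rw [← smul_add, hg, hg, hg]

/-- `q ((1+u) v) = pol v (u v)` for an isometry `u` -/
theorem q_one_add (hq : QCtx q) {u : Γ} (hu : u ∈ isom Γ q) (v : V) :
    q (v + u • v) = pol q v (u • v) := by
  rw [q_add q v (u • v), hu v, hq.two_E, zero_add]

/-- A1 -/
theorem q_comm_add' (hq : QCtx q) {u : Γ} (hu : u ∈ isom Γ q) (hu2 : u * u = 1) (x y : V) :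
    q ((x + y) + u • (x + y)) = q (x + u • x) + q (y + u • y) := by
  rw [q_one_add hq hu, q_one_add hq hu, q_one_add hq hu, smul_add, hq.pol_add,
    pol_add_right hq, pol_add_right hq]
  have h1 : pol q y (u • x) = pol q x (u • y) := by
    rw [← pol_smul hu y (u • x), smul_smul, hu2, one_smul, pol_comm]
  rw [h1]
  have h2 := hq.two_E (pol q x (u • y))
  calc pol q x (u • x) + pol q x (u • y) + (pol q x (u • y) + pol q y (u • y))
      = pol q x (u • x) + pol q y (u • y) + (pol q x (u • y) + pol q x (u • y)) := by abel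
    _ = _ := by rw [h2, add_zero]

/-- A2 -/
theorem smul_comm_eq' (hq : QCtx q) {u g : Γ} (hu : u ∈ isom Γ q) (hu2 : u * u = 1)
    (hg : g ∈ isom Γ q) (hgu : g * u = u * g) (v : V) : g • (v + u • v) = v + u • v := by
  have h1 : g • (v + u • v) + (v + u • v) = (g • v + v) + u • (g • v + v) := by
    rw [smul_add, smul_add, smul_smul, smul_smul, hgu]
    abel
  have h2 : q ((g • v + v) + u • (g • v + v)) = 0 := by
    rw [q_comm_add' hq hu hu2]
    have h3 : g • v + u • g • v = g • (v + u • v) := by
      rw [smul_add, smul_smul, smul_smul, hgu]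
    rw [h3, hg, hq.two_E]
  have h4 := hq.aniso _ h2
  rw [← h1] at h4
  have h5 := eq_neg_of_add_eq_zero_left h4
  rw [neg_eq_of_two hq.two_V] at h5
  exact h5

end

end Cfsg.Agent.Lib.Helper29.TSQBase
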