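import Mathlib
import Cfsg.Prelude.Def_Local
import Cfsg.Agent.Lib.Helper25.TSDefs
import Cfsg.Agent.Lib.Helper29.TSQBase

/-! helper29: S3797 leaf DIV `card_invariant` (helper25's market): an invariant subgroup of `V` has order a
power of `|E|` when `B` is transitive on `E ∖ 0` through `q`. -/

set_option autoImplicit false
set_option linter.unusedSectionVars false

namespace Cfsg.Agent.Lib.Helper29.TSDIV

open Cfsg.Agent.Lib.Helper25.TS Cfsg.Agent.Lib.Helper29.TSQBase
open scoped commutatorElement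

universe u

section general

/-- a finite elementary abelian 2-group has order a power of 2 -/
theorem card_two_pow (A : Type*) [AddCommGroup A] [Finite A] (h : ∀ a : A, a + a = 0) :
    ∃ d : ℕ, Nat.card A = 2 ^ d := by
  classical
  let := AddCommGroup.zmodModule (n := 2) (G := A) (fun x => by rw [two_smul]; exact h x)
  have := Fintype.ofFinite A
  refine ⟨Module.finrank (ZMod 2) A, ?_⟩
  rw [Nat.card_eq_fintype_card, Module.card_eq_pow_finrank (K := ZMod 2), ZMod.card]

theorem arith (n d c : ℕ) (h : 2 ^ d = 1 + (2 ^ n - 1) * c) : ∃ k, 2 ^ d = (2 ^ n) ^ k := by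
  have hdvd : 2 ^ n - 1 ∣ 2 ^ d - 1 := ⟨c, by omega⟩
  have hg : Nat.gcd (2 ^ n - 1) (2 ^ d - 1) = 2 ^ n - 1 := Nat.gcd_eq_left hdvd
  rw [Nat.pow_sub_one_gcd_pow_sub_one] at hg
  have h1 : 1 ≤ 2 ^ Nat.gcd n d := Nat.one_le_two_pow
  have h2 : 1 ≤ 2 ^ n := Nat.one_le_two_pow
  have h3 : 2 ^ Nat.gcd n d = 2 ^ n := by omega
  have h4 : Nat.gcd n d = n := Nat.pow_right_injective (le_refl 2) h3
  obtain ⟨k, hk⟩ : n ∣ d := Nat.gcd_eq_left_iff_dvd.mp h4
  exact ⟨k, by rw [hk, pow_mul]⟩

end general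

section moduleLeaves

variable {V E : Type*} [AddCommGroup V] [AddCommGroup E] [Finite V] [Finite E]
variable {Γ : Type*} [Group Γ] [DistribMulAction Γ V]

/-- **A6 `card_invariant`** -/
theorem card_invariant {q : V → E} (hq : QCtx q) (B : Subgroup Γ)
    (htr : ∀ e e' : E, e ≠ 0 → e' ≠ 0 → ∃ b ∈ B, ∃ s : E → E, s e = e' ∧ ∀ v : V, q (b • v) = s (q v))
    (W : AddSubgroup V) (hW : ∀ b ∈ B, ∀ w ∈ W, b • w ∈ W) :
    ∃ k : ℕ, Nat.card W = Nat.card E ^ k := by
  classical
  by_cases hE : ∃ e₀ : E, e₀ ≠ 0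
  · obtain ⟨e₀, he₀⟩ := hE
    have := Fintype.ofFinite E
    have := Fintype.ofFinite W
    -- the fibres of `q` on `W`
    have hle : ∀ e e' : E, e ≠ 0 → e' ≠ 0 →
        Fintype.card {w : W // q (w : V) = e} ≤ Fintype.card {w : W // q (w : V) = e'} := by
      intro e e' he he'
      obtain ⟨b, hb, s, hs, hbs⟩ := htr e e' he he'
      refine Fintype.card_le_of_injective
        (fun w => ⟨⟨b • (w.1 : V), hW b hb _ w.1.2⟩, by rw [hbs, w.2, hs]⟩) ?_
      intro w w' hww'
      have h1 : b • (w.1 : V) = b • (w'.1 : V) := congrArg (fun z => ((z.1 : W) : V)) hww'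
      exact Subtype.ext (Subtype.ext (smul_left_cancel b h1))
    have heq : ∀ e : E, e ≠ 0 →
        Fintype.card {w : W // q (w : V) = e} = Fintype.card {w : W // q (w : V) = e₀} :=
      fun e he => le_antisymm (hle e e₀ he he₀) (hle e₀ e he₀ he)
    have hzero : Fintype.card {w : W // q (w : V) = 0} = 1 := by
      rw [Fintype.card_eq_one_iff]
      refine ⟨⟨0, by simpa using q_zero hq⟩, fun w => ?_⟩
      exact Subtype.ext (Subtype.ext (hq.aniso _ w.2))
    have hsum : Fintype.card W = ∑ e : E, Fintype.card {w : W // q (w : V) = e} := by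
      rw [← Fintype.card_sigma]
      exact Fintype.card_congr (Equiv.sigmaFiberEquiv (fun w : W => q (w : V))).symm
    have hsum2 : Fintype.card W =
        1 + (Fintype.card E - 1) * Fintype.card {w : W // q (w : V) = e₀} := by
      rw [hsum, ← Finset.add_sum_erase Finset.univ _ (Finset.mem_univ (0 : E)), hzero,
        Finset.sum_congr rfl (fun e he => heq e (Finset.ne_of_mem_erase he)), Finset.sum_const,
        Finset.card_erase_of_mem (Finset.mem_univ _), Finset.card_univ, smul_eq_mul]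
    obtain ⟨n, hn⟩ := card_two_pow E hq.two_E
    obtain ⟨d, hd⟩ := card_two_pow W (fun w => Subtype.ext (by simpa using hq.two_V (w : V)))
    rw [Nat.card_eq_fintype_card] at hn hd
    rw [hn, hd] at hsum2
    obtain ⟨k, hk⟩ := arith n d _ hsum2
    exact ⟨k, by rw [Nat.card_eq_fintype_card, Nat.card_eq_fintype_card, hn, hd, hk]⟩
  · push Not at hE
    refine ⟨0, ?_⟩
    rw [pow_zero]
    have : Subsingleton W := ⟨fun a b => Subtype.ext (by
      rw [hq.aniso (a : V) (hE _), hq.aniso (b : V) (hE _)])⟩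
    exact Nat.card_unique
end moduleLeaves

end Cfsg.Agent.Lib.Helper29.TSDIV
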