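import Mathlib
import Cfsg.Prelude.Def_Local
import Cfsg.Agent.Lib.Helper25.TSDefs
import Cfsg.Agent.Lib.Helper29.TSQBase

/-! helper29: S3797 leaf QCOMM `commSub_facts` (helper25's market). -/

set_option autoImplicit false
set_option linter.unusedSectionVars false

namespace Cfsg.Agent.Lib.Helper29.TSQCOMM

open Cfsg.Agent.Lib.Helper25.TS Cfsg.Agent.Lib.Helper29.TSQBase
open scoped commutatorElement

universe u

section general

variable {V E : Type*} [AddCommGroup V] [AddCommGroup E]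
variable {Γ : Type*} [Group Γ] [DistribMulAction Γ V]

theorem comm_of_sq {U : Subgroup Γ} (hU2 : ∀ u ∈ U, u * u = 1) {u y : Γ} (hu : u ∈ U) (hy : y ∈ U) :
    u * y = y * u := by
  have h1 := hU2 (u * y) (U.mul_mem hu hy)
  have h2 : u * y = (u * y)⁻¹ := eq_inv_of_mul_eq_one_left h1
  have hu' : u⁻¹ = u := (eq_inv_of_mul_eq_one_left (hU2 u hu)).symm
  have hy' : y⁻¹ = y := (eq_inv_of_mul_eq_one_left (hU2 y hy)).symm
  rw [h2, mul_inv_rev, hu', hy']

/-- in characteristic 2 the generators of `[V,U]` are the `(1+y) v` -/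
theorem gen_eq {q : V → E} (hq : QCtx q) (y : Γ) (v : V) : y • v - v = v + y • v := by
  rw [sub_eq_add_of_two hq.two_V, add_comm]

/-- `U` is trivial on `[V,U]` -/
theorem smul_eq_of_mem {q : V → E} (hq : QCtx q) (U : Subgroup Γ) (hU : U ≤ isom Γ q)
    (hU2 : ∀ u ∈ U, u * u = 1) : ∀ u ∈ U, ∀ a ∈ commSub (V := V) U, u • a = a := by
  intro u hu a ha
  unfold commSub at ha
  induction ha using AddSubgroup.closure_induction with
  | mem w hw =>
    obtain ⟨y, hy, v, rfl⟩ := hw
    rw [gen_eq hq]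
    exact smul_comm_eq' hq (hU hy) (hU2 y hy) (hU hu) (comm_of_sq hU2 hu hy) v
  | zero => rw [smul_zero]
  | add a b _ _ iha ihb => rw [smul_add, iha, ihb]
  | neg a _ iha => rw [smul_neg, iha]

/-- `[V,U]` is `pol`-orthogonal to `C_V(U)` -/
theorem pol_eq_zero_of_fixed {q : V → E} (hq : QCtx q) (U : Subgroup Γ) (hU : U ≤ isom Γ q) :
    ∀ a ∈ commSub (V := V) U, ∀ b : V, (∀ u ∈ U, u • b = b) → pol q a b = 0 := by
  intro a ha b hb
  unfold commSub at ha
  induction ha using AddSubgroup.closure_induction with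
  | mem w hw =>
    obtain ⟨y, hy, v, rfl⟩ := hw
    rw [gen_eq hq, hq.pol_add]
    have h1 : pol q (y • v) b = pol q v b := by
      conv_lhs => rw [← hb y hy]
      exact pol_smul (hU hy) v b
    rw [h1, hq.two_E]
  | zero => exact pol_zero_left hq b
  | add a c _ _ iha ihc => rw [hq.pol_add, iha, ihc, add_zero]
  | neg a _ iha => rw [pol_neg_left hq, iha]

theorem q_add_of_mem {q : V → E} (hq : QCtx q) (U : Subgroup Γ) (hU : U ≤ isom Γ q)
    (hU2 : ∀ u ∈ U, u * u = 1) :
    ∀ a ∈ commSub (V := V) U, ∀ b ∈ commSub (V := V) U, q (a + b) = q a + q b := by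
  intro a ha b hb
  rw [q_add q a b, pol_eq_zero_of_fixed hq U hU a ha b (fun u hu => smul_eq_of_mem hq U hU hU2 u hu b hb),
    add_zero]

theorem q_injOn {q : V → E} (hq : QCtx q) (U : Subgroup Γ) (hU : U ≤ isom Γ q)
    (hU2 : ∀ u ∈ U, u * u = 1) :
    ∀ a ∈ commSub (V := V) U, ∀ b ∈ commSub (V := V) U, q a = q b → a = b := by
  intro a ha b hb hab
  have h1 : q (a + b) = 0 := by
    rw [q_add_of_mem hq U hU hU2 a ha b hb, hab, hq.two_E]
  have h2 := hq.aniso _ h1
  have h3 := eq_neg_of_add_eq_zero_left h2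
  rw [neg_eq_of_two hq.two_V] at h3
  exact h3

end general

section moduleLeaves

variable {V E : Type*} [AddCommGroup V] [AddCommGroup E] [Finite V] [Finite E]
variable {Γ : Type*} [Group Γ] [DistribMulAction Γ V]

/-- **A3 `commSub_facts`** -/
theorem commSub_facts {q : V → E} (hq : QCtx q) (U : Subgroup Γ) (hU : U ≤ isom Γ q)
    (hU2 : ∀ u ∈ U, u * u = 1) :
    (∀ a ∈ commSub (V := V) U, ∀ b ∈ commSub (V := V) U, q (a + b) = q a + q b) ∧
    (∀ u ∈ U, ∀ a ∈ commSub (V := V) U, u • a = a) ∧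
    Nat.card (commSub (V := V) U) ≤ Nat.card E := by
  refine ⟨q_add_of_mem hq U hU hU2, smul_eq_of_mem hq U hU hU2, ?_⟩
  refine Nat.card_le_card_of_injective (fun a : commSub (V := V) U => q (a : V)) ?_
  intro a b hab
  exact Subtype.ext (q_injOn hq U hU hU2 a a.2 b b.2 hab)

end moduleLeaves

end Cfsg.Agent.Lib.Helper29.TSQCOMM
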