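import Mathlib
import Cfsg.Prelude.Def_Local
import Cfsg.Agent.Lib.Helper25.TSDefs
import Cfsg.Agent.Lib.Helper29.TSQBase

/-! helper29: S3797 leaf QFIX (helper25's market); proof in `Helper29.TSQBase`. -/

set_option autoImplicit false

namespace Cfsg.Agent.Lib.Helper29.TSQFIX

open Cfsg.Agent.Lib.Helper25.TS
open scoped commutatorElement

universe u

section moduleLeaves

variable {V E : Type*} [AddCommGroup V] [AddCommGroup E] [Finite V] [Finite E]
variable {Γ : Type*} [Group Γ] [DistribMulAction Γ V]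

/-- **A2 `smul_comm_eq`** -/
theorem smul_comm_eq {q : V → E} (hq : QCtx q) {u g : Γ} (hu : u ∈ isom Γ q) (hu2 : u * u = 1)
    (hg : g ∈ isom Γ q) (hgu : g * u = u * g) (v : V) : g • (v + u • v) = v + u • v :=
  Cfsg.Agent.Lib.Helper29.TSQBase.smul_comm_eq' hq hu hu2 hg hgu v

end moduleLeaves

end Cfsg.Agent.Lib.Helper29.TSQFIX
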