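import Mathlib
import Cfsg.Prelude.Def_Local
import Cfsg.Agent.Lib.Helper25.TSDefs
import Cfsg.Agent.Lib.Helper29.TSQBase

/-! helper29: S3797 leaf QODD `smul_eq_of_mem_commSub` (helper25's market), with the averaging lemma
`[V,Y] ∩ C_V(Y) = 0` for `|Y|` odd on an elementary abelian 2-group. -/

set_option autoImplicit false
set_option linter.unusedSectionVars false

namespace Cfsg.Agent.Lib.Helper29.TSQODD

open Cfsg.Agent.Lib.Helper25.TS Cfsg.Agent.Lib.Helper29.TSQBase
open scoped commutatorElement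

universe u

section general

variable {V : Type*} [AddCommGroup V]
variable {Γ : Type*} [Group Γ] [DistribMulAction Γ V]

/-- the "norm" of `Y` kills `[V,Y]` -/
theorem sum_smul_eq_zero (Y : Subgroup Γ) [Fintype Y] :
    ∀ w ∈ commSub (V := V) Y, ∑ y : Y, (y : Γ) • w = 0 := by
  intro w hw
  unfold commSub at hw
  induction hw using AddSubgroup.closure_induction with
  | mem w hw =>
    obtain ⟨y₀, hy₀, v, rfl⟩ := hw
    simp only [smul_sub, Finset.sum_sub_distrib]
    rw [sub_eq_zero]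
    refine Fintype.sum_equiv (Equiv.mulRight (⟨y₀, hy₀⟩ : Y)) _ _ fun y => ?_
    rw [smul_smul]
    rfl
  | zero => simp
  | add a b _ _ iha ihb => simp only [smul_add, Finset.sum_add_distrib, iha, ihb, add_zero]
  | neg a _ iha => simp only [smul_neg, Finset.sum_neg_distrib, iha, neg_zero]

theorem odd_nsmul_eq (hV2 : ∀ v : V, v + v = 0) {n : ℕ} (hn : Odd n) (w : V) : n • w = w := by
  obtain ⟨k, rfl⟩ := hn
  rw [add_smul, one_smul, mul_smul, two_smul, hV2, zero_add]

/-- `[V,Y] ∩ C_V(Y) = 0` for `|Y|` odd and `2 V = 0` -/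
theorem eq_zero_of_mem_commSub_of_fixed [Finite Γ] (hV2 : ∀ v : V, v + v = 0) (Y : Subgroup Γ)
    (hY : Odd (Nat.card Y)) : ∀ w ∈ commSub (V := V) Y, (∀ y ∈ Y, y • w = w) → w = 0 := by
  classical
  intro w hw hfix
  have : Fintype Y := Fintype.ofFinite Y
  have h1 := sum_smul_eq_zero Y w hw
  have h2 : ∑ y : Y, (y : Γ) • w = Nat.card Y • w := by
    rw [Finset.sum_congr rfl (fun (y : Y) _ => hfix (y : Γ) y.2), Finset.sum_const, Finset.card_univ,
      Nat.card_eq_fintype_card]
  rw [h2, odd_nsmul_eq hV2 hY] at h1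
  exact h1

/-- an element commuting with `Y` preserves `[V,Y]` -/
theorem smul_mem_commSub_of_comm (Y : Subgroup Γ) {u : Γ} (hcomm : ∀ y ∈ Y, u * y = y * u) :
    ∀ w ∈ commSub (V := V) Y, u • w ∈ commSub (V := V) Y := by
  intro w hw
  unfold commSub at hw
  induction hw using AddSubgroup.closure_induction with
  | mem w hw =>
    obtain ⟨y, hy, v, rfl⟩ := hw
    rw [smul_sub, smul_smul, hcomm y hy, ← smul_smul]
    exact smul_sub_mem_commSub Y hy (u • v)
  | zero => rw [smul_zero]; exact (commSub Y).zero_mem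
  | add a b _ _ iha ihb => rw [smul_add]; exact (commSub Y).add_mem iha ihb
  | neg a _ iha => rw [smul_neg]; exact (commSub Y).neg_mem iha

end general

section moduleLeaves

variable {V E : Type*} [AddCommGroup V] [AddCommGroup E] [Finite V] [Finite E]
variable {Γ : Type*} [Group Γ] [DistribMulAction Γ V]

/-- **A4 `smul_eq_of_mem_commSub`** -/
theorem smul_eq_of_mem_commSub [Finite Γ] {q : V → E} (hq : QCtx q) (Y : Subgroup Γ)
    (hY : Y ≤ isom Γ q) (hYodd : Odd (Nat.card Y)) {u : Γ} (hu : u ∈ isom Γ q) (hu2 : u * u = 1)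
    (hcomm : ∀ y ∈ Y, u * y = y * u) : ∀ w ∈ commSub (V := V) Y, u • w = w := by
  intro w hw
  have h1 : w + u • w ∈ commSub (V := V) Y :=
    (commSub Y).add_mem hw (smul_mem_commSub_of_comm Y hcomm w hw)
  have h2 : ∀ y ∈ Y, y • (w + u • w) = w + u • w := fun y hy =>
    smul_comm_eq' hq hu hu2 (hY hy) (hcomm y hy).symm w
  have h3 := eq_zero_of_mem_commSub_of_fixed hq.two_V Y hYodd _ h1 h2
  have h4 := eq_neg_of_add_eq_zero_right h3
  rw [neg_eq_of_two hq.two_V] at h4
  exact h4

end moduleLeaves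

end Cfsg.Agent.Lib.Helper29.TSQODD
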