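/-
helper29: S2524 leaf (LVH).  The Levi embedding `g ↦ diag(g, g⁻ᵀ)` of `GL_n` in `Sp_{2n}` is multiplicative and
normalises the Siegel radical.
-/
import Mathlib
import Cfsg.Agent.Lib.Helper10.WGDefs

set_option autoImplicit false
set_option linter.unusedSectionVars false

namespace Cfsg.Agent.Lib.Helper29.WGLVH

open Matrix Cfsg.Agent.Lib.Helper11.LS Cfsg.Agent.Lib.Helper10.WG

universe u

variable {F : Type*} [Field F] [Fintype F] [DecidableEq F]

/-- (LVH) `LvG` is multiplicative. -/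
theorem LvG_mul {n : ℕ} (g h : GL (Fin n) F) : (LvG (g * h) : SpG F n) = LvG g * LvG h := by
  apply Subtype.ext
  show ((LvG (g * h) : SpG F n) : Matrix (Fin n ⊕ Fin n) (Fin n ⊕ Fin n) F) =
    ((LvG g : SpG F n) : Matrix (Fin n ⊕ Fin n) (Fin n ⊕ Fin n) F) *
      ((LvG h : SpG F n) : Matrix (Fin n ⊕ Fin n) (Fin n ⊕ Fin n) F)
  rw [LvG_val, LvG_val, LvG_val, fromBlocks_multiply, _root_.mul_inv_rev, Units.val_mul, Units.val_mul,
    transpose_mul]
  simp

theorem LvG_one {n : ℕ} : (LvG (1 : GL (Fin n) F) : SpG F n) = 1 := by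
  apply Subtype.ext
  show ((LvG (1 : GL (Fin n) F) : SpG F n) : Matrix (Fin n ⊕ Fin n) (Fin n ⊕ Fin n) F) = 1
  rw [LvG_val, inv_one, Units.val_one, transpose_one, fromBlocks_one]

/-- (LVH) the Levi factor normalises the Siegel radical. -/
theorem LvG_mul_Xs {n : ℕ} (g : GL (Fin n) F) (S : Matrix (Fin n) (Fin n) F) (hS : Sᵀ = S) :
    (LvG g : SpG F n) * Xs S hS =
      Xs ((g : Matrix (Fin n) (Fin n) F) * S * (g : Matrix (Fin n) (Fin n) F)ᵀ)
        (by rw [transpose_mul, transpose_mul, transpose_transpose, hS, Matrix.mul_assoc]) * LvG g :=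
  Lv_mul_Xs _ _ _ S hS _

end Cfsg.Agent.Lib.Helper29.WGLVH
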