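/-
helper29: S2524 leaf (IOTA) - the block embedding `Sp_{2n} -> Sp_{2n+2}` is a homomorphism of symplectic
groups (`exists_iota`), and the images of the generators (`iota_gens`).  Mathlib + WGDefs only.
-/
import Mathlib
import Cfsg.Agent.Lib.Helper10.WGDefs

set_option autoImplicit false

namespace Cfsg.Agent.Lib.Helper29.WGIOTA

open Matrix Cfsg.Agent.Lib.Helper11.LS Cfsg.Agent.Lib.Helper10.WG

universe u

variable {F : Type*} [Field F] [Fintype F] [DecidableEq F]

set_option linter.unusedSectionVars false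

theorem bd_zero_mat {n : ℕ} : bd (0 : F) (0 : Matrix (Fin n) (Fin n) F) = 0 := by
  ext i j
  refine Fin.cases ?_ (fun i' => ?_) i <;> refine Fin.cases ?_ (fun j' => ?_) j <;> simp

theorem bd_neg_mat {n : ℕ} (c : F) (A : Matrix (Fin n) (Fin n) F) : bd (-c) (-A) = -bd c A := by
  ext i j
  refine Fin.cases ?_ (fun i' => ?_) i <;> refine Fin.cases ?_ (fun j' => ?_) j <;> simp

theorem bd_sub_mat {n : ℕ} (c c' : F) (A A' : Matrix (Fin n) (Fin n) F) :
    bd c A - bd c' A' = bd (c - c') (A - A') := by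
  ext i j
  refine Fin.cases ?_ (fun i' => ?_) i <;> refine Fin.cases ?_ (fun j' => ?_) j <;> simp

theorem bd_single_mat {n : ℕ} (j : Fin n) (c : F) :
    bd (0 : F) (single j j c : Matrix (Fin n) (Fin n) F) = single j.succ j.succ c := by
  ext i k
  refine Fin.cases ?_ (fun i' => ?_) i <;> refine Fin.cases ?_ (fun k' => ?_) k <;>
    simp [Matrix.single_apply, Fin.succ_ne_zero]

theorem iotaMat_fromBlocks {n : ℕ} (A B C D : Matrix (Fin n) (Fin n) F) :
    iotaMat (fromBlocks A B C D) = fromBlocks (bd 1 A) (bd 0 B) (bd 0 C) (bd 1 D) := by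
  rw [iotaMat, toBlocks_fromBlocks₁₁, toBlocks_fromBlocks₁₂, toBlocks_fromBlocks₂₁,
    toBlocks_fromBlocks₂₂]

theorem iotaMat_mul {n : ℕ} (M N : Matrix (Fin n ⊕ Fin n) (Fin n ⊕ Fin n) F) :
    iotaMat (M * N) = iotaMat M * iotaMat N := by
  rw [← fromBlocks_toBlocks M, ← fromBlocks_toBlocks N, fromBlocks_multiply, iotaMat_fromBlocks,
    iotaMat_fromBlocks, iotaMat_fromBlocks, fromBlocks_multiply]
  simp only [bd_mul, bd_add, mul_one, mul_zero, add_zero, zero_add]

theorem iotaMat_one {n : ℕ} :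
    iotaMat (1 : Matrix (Fin n ⊕ Fin n) (Fin n ⊕ Fin n) F) = 1 := by
  rw [← fromBlocks_one, iotaMat_fromBlocks, bd_one, bd_zero_mat, fromBlocks_one]

theorem iotaMat_mem {n : ℕ} {M : Matrix (Fin n ⊕ Fin n) (Fin n ⊕ Fin n) F}
    (hM : M ∈ Matrix.symplecticGroup (Fin n) F) :
    iotaMat M ∈ Matrix.symplecticGroup (Fin (n + 1)) F := by
  rw [← fromBlocks_toBlocks M, SymplecticGroup.fromBlocks_mem_iff] at hM
  obtain ⟨h1, h2, h3⟩ := hM
  rw [iotaMat, SymplecticGroup.fromBlocks_mem_iff]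
  refine ⟨?_, ?_, ?_⟩
  · rw [bd_transpose, bd_transpose, bd_mul, bd_mul, h1, mul_zero, zero_mul]
  · rw [bd_transpose, bd_transpose, bd_mul, bd_mul, h2, mul_zero, zero_mul]
  · rw [bd_transpose, bd_transpose, bd_mul, bd_mul, bd_sub_mat, h3, mul_one, mul_zero, sub_zero,
      bd_one]

/-- the block embedding as a homomorphism -/
def iotaHom (n : ℕ) : SpG F n →* SpG F (n + 1) where
  toFun g := ⟨iotaMat g.1, iotaMat_mem g.2⟩
  map_one' := Subtype.ext iotaMat_one
  map_mul' g h := Subtype.ext (iotaMat_mul g.1 h.1)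

/-- (IOTA) the block embedding is a homomorphism of symplectic groups. -/
theorem exists_iota (n : ℕ) : ∃ ι : SpG F n →* SpG F (n + 1), IsIota ι :=
  ⟨iotaHom n, fun _ => rfl⟩

/-- (IOTA) images of the generators. -/
theorem iota_gens {n : ℕ} (ι : SpG F n →* SpG F (n + 1)) (hι : IsIota ι) :
    (∀ (S : Matrix (Fin n) (Fin n) F) (hS : Sᵀ = S),
      ι (Xs S hS) = Xs (bd 0 S) (by rw [bd_transpose, hS])) ∧
    (∀ h : GL (Fin n) F, ι (LvG h) = LvG (upG h)) ∧
    (∀ j : Fin n, ι (sw j) = sw j.succ) := by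
  refine ⟨fun S hS => ?_, fun h => ?_, fun j => ?_⟩
  · apply Subtype.ext
    rw [hι, Xs_val, Xs_val, iotaMat_fromBlocks, bd_one, bd_zero_mat]
  · apply Subtype.ext
    rw [hι, LvG_val, LvG_val, iotaMat_fromBlocks, bd_zero_mat]
    show fromBlocks (bd 1 (h : Matrix (Fin n) (Fin n) F)) 0 0
        (bd 1 ((h⁻¹ : GL (Fin n) F) : Matrix (Fin n) (Fin n) F)ᵀ) =
      fromBlocks (bd 1 (h : Matrix (Fin n) (Fin n) F)) 0 0
        (bd 1 ((h⁻¹ : GL (Fin n) F) : Matrix (Fin n) (Fin n) F))ᵀ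
    rw [bd_transpose]
  · apply Subtype.ext
    rw [hι]
    show iotaMat (swMat j) = swMat j.succ
    rw [swMat, swMat, iotaMat_fromBlocks]
    have e1 : bd (1 : F) (1 - single j j 1 : Matrix (Fin n) (Fin n) F) =
        1 - single j.succ j.succ 1 := by
      rw [← bd_one, ← bd_single_mat, bd_sub_mat, sub_zero]
    have e2 : bd (0 : F) (-single j j 1 : Matrix (Fin n) (Fin n) F) =
        -single j.succ j.succ 1 := by
      rw [← bd_single_mat, ← bd_neg_mat, neg_zero]
    rw [e1, e2, bd_single_mat]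

end Cfsg.Agent.Lib.Helper29.WGIOTA
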