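/-
helper29: S4719 leaf G6a (planner helper13): Brauer–Fowler for a simple perfect subgroup with
trivial centralizer.
-/
import Cfsg.Agent.Lib.Helper13.DCDefs
import Cfsg.Agent.S0212

set_option autoImplicit false

universe u

namespace Cfsg.Agent.Lib.Helper29.DCG6a

open Cfsg Cfsg.Agent.Lib.Helper13.DC Cfsg.Agent.S0233
open scoped commutatorElement

variable {Y : Type*} [Group Y]

/-- conjugation facts for an element fixing `x`. -/
theorem conj_facts_pos (x g : Y) (h : g * x * g⁻¹ = x) :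
    g * x⁻¹ * g⁻¹ = x⁻¹ ∧ g⁻¹ * x * g = x ∧ g⁻¹ * x⁻¹ * g = x⁻¹ := by
  have h1 : g * x⁻¹ * g⁻¹ = x⁻¹ := by
    have : g * x⁻¹ * g⁻¹ = (g * x * g⁻¹)⁻¹ := by group
    rw [this, h]
  have h2 : g⁻¹ * x * g = x := by
    have : g⁻¹ * x * g = g⁻¹ * (g * x * g⁻¹) * g := by rw [h]
    rw [this]; group
  have h3 : g⁻¹ * x⁻¹ * g = x⁻¹ := by
    have : g⁻¹ * x⁻¹ * g = (g⁻¹ * x * g)⁻¹ := by group
    rw [this, h2]
  exact ⟨h1, h2, h3⟩

/-- conjugation facts for an element inverting `x`. -/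
theorem conj_facts_neg (x g : Y) (h : g * x * g⁻¹ = x⁻¹) :
    g * x⁻¹ * g⁻¹ = x ∧ g⁻¹ * x * g = x⁻¹ ∧ g⁻¹ * x⁻¹ * g = x := by
  have h1 : g * x⁻¹ * g⁻¹ = x := by
    have : g * x⁻¹ * g⁻¹ = (g * x * g⁻¹)⁻¹ := by group
    rw [this, h, inv_inv]
  have h3 : g⁻¹ * x⁻¹ * g = x := by
    have : g⁻¹ * x⁻¹ * g = g⁻¹ * (g * x * g⁻¹) * g := by rw [h]
    rw [this]; group
  have h2 : g⁻¹ * x * g = x⁻¹ := by
    have : g⁻¹ * x * g = (g⁻¹ * x⁻¹ * g)⁻¹ := by group
    rw [this, h3]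
  exact ⟨h1, h2, h3⟩

/-- commutators of elements of `C*(x)` centralize `x`. -/
theorem commutator_mem_cent (x a b : Y) (ha : a ∈ extCent x) (hb : b ∈ extCent x) :
    ⁅a, b⁆ ∈ Subgroup.centralizer ({x} : Set Y) := by
  rw [mem_cent_iff]
  have e : ⁅a, b⁆ * x * ⁅a, b⁆⁻¹ = a * (b * (a⁻¹ * (b⁻¹ * x * b) * a) * b⁻¹) * a⁻¹ := by
    rw [commutatorElement_def]; group
  rw [e]
  rcases ha with ha | ha <;> rcases hb with hb | hb
  · obtain ⟨a1, a2, a3⟩ := conj_facts_pos x a ha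
    obtain ⟨b1, b2, b3⟩ := conj_facts_pos x b hb
    rw [b2, a2, hb, ha]
  · obtain ⟨a1, a2, a3⟩ := conj_facts_pos x a ha
    obtain ⟨b1, b2, b3⟩ := conj_facts_neg x b hb
    rw [b2, a3, b1, ha]
  · obtain ⟨a1, a2, a3⟩ := conj_facts_neg x a ha
    obtain ⟨b1, b2, b3⟩ := conj_facts_pos x b hb
    rw [b2, a2, b1, a1]
  · obtain ⟨a1, a2, a3⟩ := conj_facts_neg x a ha
    obtain ⟨b1, b2, b3⟩ := conj_facts_neg x b hb
    rw [b2, a3, hb, a1]

/-- A perfect subgroup inside `C*(x)` centralizes `x`. -/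
theorem le_cent_of_le_extCent (S : Subgroup Y) (hperf : ⁅S, S⁆ = S) (x : Y)
    (h : S ≤ extCent x) : S ≤ Subgroup.centralizer ({x} : Set Y) := by
  have h1 : ⁅S, S⁆ ≤ Subgroup.centralizer ({x} : Set Y) := by
    rw [Subgroup.commutator_le]
    intro a ha b hb
    exact commutator_mem_cent x a b (h ha) (h hb)
  rwa [hperf] at h1

/-- LEAF G6a. -/
theorem card_simple_le_of_involution {Y : Type u} [Group Y] [Finite Y] (S : Subgroup Y)
    (hS : IsSimpleGroup S) (hperf : ⁅S, S⁆ = S)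
    (hcent : Subgroup.centralizer (S : Set Y) = ⊥) (t : Y) (ht : orderOf t = 2) (c : ℕ)
    (hc : Nat.card (Subgroup.centralizer ({t} : Set Y)) ≤ c) :
    Nat.card S ≤ (c * (c + 1)).factorial := by
  classical
  have : Fintype Y := Fintype.ofFinite Y
  have hinv : (invs Y).Nonempty := ⟨t, (mem_invs t).mpr ht⟩
  obtain ⟨x, hx1, -, hlt⟩ := core (G := Y) hinv
  have hcardI : Nat.card {s : Y // orderOf s = 2} = (invs Y).card := by
    rw [Nat.card_eq_fintype_card, Fintype.card_subtype]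
    rfl
  have hk := Cfsg.Agent.S0212.card_le_invs_mul_cent t ht
  rw [hcardI] at hk
  set n := (invs Y).card with hn
  set m := Nat.card Y with hm
  set h := (extCent x).index with hh
  have hnpos : 0 < n := Finset.card_pos.mpr hinv
  have hk' : m ≤ n * c := le_trans hk (Nat.mul_le_mul_left _ hc)
  have h4 : m * (m + n) ≤ n ^ 2 * (c * (c + 1)) := by
    calc m * (m + n) ≤ (n * c) * (n * c + n) :=
          Nat.mul_le_mul hk' (Nat.add_le_add_right hk' n)
      _ = n ^ 2 * (c * (c + 1)) := by ring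
  have h5 : h ≤ c * (c + 1) := by
    have h6 : n ^ 2 * (2 * h) < n ^ 2 * (c * (c + 1)) := by
      calc n ^ 2 * (2 * h) = 2 * h * n ^ 2 := by ring
        _ < m * (m + n) := hlt
        _ ≤ _ := h4
    have := lt_of_mul_lt_mul_left h6 (Nat.zero_le _)
    omega
  -- the proper subgroup of `S`
  have hne : (extCent x).subgroupOf S ≠ ⊤ := by
    intro htop
    rw [Subgroup.subgroupOf_eq_top] at htop
    have h7 := le_cent_of_le_extCent S hperf x htop
    have hx : x ∈ Subgroup.centralizer (S : Set Y) := by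
      rw [Subgroup.mem_centralizer_iff]
      intro s hs
      have := h7 hs
      rw [Subgroup.mem_centralizer_iff] at this
      exact (this x rfl).symm
    rw [hcent, Subgroup.mem_bot] at hx
    exact hx1 hx
  have h8 := Cfsg.Agent.S0212.card_le_factorial_index ((extCent x).subgroupOf S) hne
  have h9 : ((extCent x).subgroupOf S).index ≤ h := by
    have h10 : (extCent x).relIndex S ≤ (extCent x).relIndex ⊤ :=
      Subgroup.relIndex_le_of_le_right le_top (by
        rw [Subgroup.relIndex_top_right]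
        exact Subgroup.index_ne_zero_of_finite)
    rwa [Subgroup.relIndex_top_right] at h10
  exact le_trans h8 (Nat.factorial_le (le_trans h9 h5))

end Cfsg.Agent.Lib.Helper29.DCG6a
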