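/-
helper29: S4719 leaf G6b (planner helper13): a quasisimple subgroup normalized by an involution
with small centralizer is small modulo its centre.
-/
import Cfsg.Agent.Lib.Helper29.DCG6a
import Cfsg.Agent.Lib.Helper7.DCG1
import Cfsg.Prelude.Def_CaseTheorems

set_option autoImplicit false

universe u

namespace Cfsg.Agent.Lib.Helper29.DCG6b

open Cfsg Cfsg.Agent.Lib.Helper13.DC

/-- a homomorphism with commutative image from a perfect group is trivial -/
theorem hom_trivial_of_perfect {L A : Type*} [Group L] [Group A] [Group.IsPerfect L]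
    (f : L →* A) (hcomm : ∀ a b, f a * f b = f b * f a) (l : L) : f l = 1 := by
  have h : commutator L ≤ f.ker := by
    rw [commutator_def, Subgroup.commutator_le]
    intro a _ b _
    rw [MonoidHom.mem_ker, commutatorElement_def, map_mul, map_mul, map_mul, map_inv, map_inv,
      hcomm a b]
    group
  rw [Group.IsPerfect.commutator_eq_top] at h
  exact MonoidHom.mem_ker.mp (h (Subgroup.mem_top l))

/-- LEAF G6b. -/
theorem card_le_of_normalizes {G : Type u} [Group G] [Finite G] (L : Subgroup G)
    (hL : Cfsg.IsQuasisimple L) (y : G) (hy : y * y = 1)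
    (hyL : y ∈ Subgroup.normalizer (L : Set G)) (c : ℕ)
    (hc : Nat.card (Subgroup.centralizer ({y} : Set G)) ≤ c) :
    Nat.card L ≤ (c * (c + 1)).factorial * Nat.card (Subgroup.center L) := by
  classical
  obtain ⟨hperf, hsimple⟩ := hL
  let φ := L.normalizerMonoidHom
  let N : Subgroup ↥(Subgroup.normalizer (L : Set G)) := φ.ker
  let ι : L →* ↥(Subgroup.normalizer (L : Set G)) := Subgroup.inclusion Subgroup.le_normalizer
  let ψ : L →* (↥(Subgroup.normalizer (L : Set G)) ⧸ N) := (QuotientGroup.mk' N).comp ι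
  have hφ_apply : ∀ (n : ↥(Subgroup.normalizer (L : Set G))) (l : L),
      ((φ n l : L) : G) = (n : G) * l * (n : G)⁻¹ := fun n l => rfl
  -- `mk n = 1` iff `n` centralizes `L`
  have hmk1 : ∀ n : ↥(Subgroup.normalizer (L : Set G)),
      (QuotientGroup.mk' N n : _ ⧸ N) = 1 ↔ ∀ l : L, φ n l = l := by
    intro n
    rw [QuotientGroup.mk'_apply, QuotientGroup.eq_one_iff]
    show n ∈ φ.ker ↔ _
    rw [MonoidHom.mem_ker]
    constructor
    · intro h l
      rw [h]; rfl
    · intro h
      ext l
      rw [h l]; rfl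
  -- the centralizer of the image of `L` is trivial
  have hcentS : Subgroup.centralizer (ψ.range : Set (_ ⧸ N)) = ⊥ := by
    rw [eq_bot_iff]
    intro q hq
    obtain ⟨n, rfl⟩ := QuotientGroup.mk'_surjective N q
    rw [Subgroup.mem_bot, hmk1]
    have hcen : ∀ l l' : L, (φ n l * l⁻¹) * l' = l' * (φ n l * l⁻¹) := by
      intro l l'
      have h1 : (QuotientGroup.mk' N (n * ι l * n⁻¹ * (ι l)⁻¹) : _ ⧸ N) = 1 := by
        have h2 := (Subgroup.mem_centralizer_iff.mp hq) (ψ l) ⟨l, rfl⟩
        rw [map_mul, map_mul, map_mul, map_inv, map_inv]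
        have h3 : (QuotientGroup.mk' N (ι l) : _ ⧸ N) = ψ l := rfl
        rw [h3, ← h2]; group
      have h4 := (hmk1 _).mp h1 l'
      have h5 : φ (n * ι l * n⁻¹ * (ι l)⁻¹) l' = (φ n l * l⁻¹) * l' * (φ n l * l⁻¹)⁻¹ := by
        apply Subtype.ext
        rw [hφ_apply]
        simp only [Subgroup.coe_mul, Subgroup.coe_inv, hφ_apply]
        rfl
      rw [h5] at h4
      calc (φ n l * l⁻¹) * l' = ((φ n l * l⁻¹) * l' * (φ n l * l⁻¹)⁻¹) * (φ n l * l⁻¹) := by group
        _ = l' * (φ n l * l⁻¹) := by rw [h4]
    let f : L →* Subgroup.center L := MonoidHom.mk'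
      (fun l => ⟨φ n l * l⁻¹, Subgroup.mem_center_iff.mpr fun l' => (hcen l l').symm⟩)
      (by
        intro a b
        apply Subtype.ext
        show φ n (a * b) * (a * b)⁻¹ = (φ n a * a⁻¹) * (φ n b * b⁻¹)
        rw [map_mul, mul_inv_rev]
        calc φ n a * φ n b * (b⁻¹ * a⁻¹) = φ n a * ((φ n b * b⁻¹) * a⁻¹) := by group
          _ = φ n a * (a⁻¹ * (φ n b * b⁻¹)) := by rw [hcen b a⁻¹]
          _ = _ := by group)
    intro l
    have h6 := hom_trivial_of_perfect f (fun a b => Subtype.ext (Subgroup.mem_center_iff.mp (f b).2 (f a).1)) l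
    have h7 : φ n l * l⁻¹ = 1 := congrArg Subtype.val h6
    exact mul_inv_eq_one.mp h7
  -- the kernel of `ψ`
  have hconj : ∀ l l' : L, φ (ι l) l' = l * l' * l⁻¹ := fun l l' => Subtype.ext rfl
  have hker : ψ.ker = Subgroup.center L := by
    ext l
    rw [MonoidHom.mem_ker]
    show (QuotientGroup.mk' N (ι l) : _ ⧸ N) = 1 ↔ _
    rw [hmk1, Subgroup.mem_center_iff]
    constructor
    · intro h l'
      have h2 := h l'
      rw [hconj] at h2
      calc l' * l = (l * l' * l⁻¹) * l := by rw [h2]
        _ = l * l' := by group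
    · intro h l'
      rw [hconj, ← h l']; group
  -- the image is simple and perfect
  have e : L ⧸ Subgroup.center L ≃* ψ.range :=
    (QuotientGroup.quotientMulEquivOfEq hker.symm).trans (QuotientGroup.quotientKerEquivRange ψ)
  have hSsimple : IsSimpleGroup ψ.range := by
    have := hsimple
    exact e.symm.isSimpleGroup
  have hSperf : ⁅ψ.range, ψ.range⁆ = ψ.range := by
    have := hperf
    exact Subgroup.isPerfect_iff.mp (Group.IsPerfect.range ψ)
  have hcardL : Nat.card L = Nat.card ψ.range * Nat.card (Subgroup.center L) := by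
    rw [Subgroup.card_eq_card_quotient_mul_card_subgroup (Subgroup.center L),
      Nat.card_congr e.toEquiv]
  have hZpos : 0 < Nat.card (Subgroup.center L) := Nat.card_pos
  -- the image of `y`
  set g : ↥(Subgroup.normalizer (L : Set G)) := ⟨y, hyL⟩ with hg
  by_cases ht1 : (QuotientGroup.mk' N g : _ ⧸ N) = 1
  · -- `y` centralizes `L`
    have h1 := (hmk1 g).mp ht1
    have hle : L ≤ Subgroup.centralizer ({y} : Set G) := by
      intro l hl
      rw [Cfsg.Agent.S0233.mem_cent_iff]
      have h2 := congrArg (fun z : L => (z : G)) (h1 ⟨l, hl⟩)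
      simp only [hφ_apply] at h2
      calc l * y * l⁻¹ = (y * l * y⁻¹) * y * l⁻¹ := by rw [h2]
        _ = y := by group
    have h3 : Nat.card L ≤ c := le_trans (Subgroup.card_le_of_le hle) hc
    calc Nat.card L ≤ c := h3
      _ ≤ c * (c + 1) := Nat.le_mul_of_pos_right _ (Nat.succ_pos _)
      _ ≤ (c * (c + 1)).factorial := Nat.self_le_factorial _
      _ ≤ _ := Nat.le_mul_of_pos_right _ hZpos
  · have ht2 : orderOf (QuotientGroup.mk' N g : _ ⧸ N) = 2 := by
      have : Fact (Nat.Prime 2) := ⟨Nat.prime_two⟩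
      refine orderOf_eq_prime ?_ ht1
      rw [pow_two, ← map_mul]
      have : g * g = 1 := Subtype.ext hy
      rw [this, map_one]
    have hG2 := Cfsg.Agent.Lib.Helper7.DCG1.card_centralizer_quotient_singleton_le N g
    have hinj : Nat.card (Subgroup.centralizer ({g} : Set ↥(Subgroup.normalizer (L : Set G)))) ≤
        Nat.card (Subgroup.centralizer ({y} : Set G)) := by
      let k : Subgroup.centralizer ({g} : Set ↥(Subgroup.normalizer (L : Set G))) →
          Subgroup.centralizer ({y} : Set G) := fun h => ⟨h.1.1, by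
        have h1 := h.2
        rw [Subgroup.mem_centralizer_iff] at h1 ⊢
        intro z hz
        rw [Set.mem_singleton_iff] at hz
        subst hz
        exact congrArg Subtype.val (h1 g rfl)⟩
      refine Nat.card_le_card_of_injective k ?_
      intro a b hab
      have hab' : ((k a : Subgroup.centralizer ({y} : Set G)) : G) = k b := congrArg (fun z : Subgroup.centralizer ({y} : Set G) => (z : G)) hab
      exact Subtype.ext (Subtype.ext hab')
    have hcY : Nat.card (Subgroup.centralizer
        ({(QuotientGroup.mk' N) g} : Set (↥(Subgroup.normalizer (L : Set G)) ⧸ N))) ≤ c :=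
      le_trans hG2 (le_trans hinj hc)
    have h6a := Cfsg.Agent.Lib.Helper29.DCG6a.card_simple_le_of_involution ψ.range hSsimple hSperf
      hcentS _ ht2 c hcY
    rw [hcardL]
    exact Nat.mul_le_mul_right _ h6a

end Cfsg.Agent.Lib.Helper29.DCG6b
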