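import Mathlib
import Cfsg.Agent.S2012

/-!
# Alperin's fusion theorem for a single element, in step form (helper29)

Repackages helper12's `Cfsg.Agent.S2012.result` for `A = {a}`: a sequence `y 0 = a, …, y n = g⁻¹ a g`
with `y (i+1) = (xs i)⁻¹ * y i * xs i`, `y i ∈ P ⊓ Q i`, `xs i ∈ N_G(P ⊓ Q i)`, `P ⊓ Q i` tame and
`xs i` a `p`-element unless `Q i = P`.
-/

set_option autoImplicit false

namespace Cfsg.Agent.Lib.Helper29

open Subgroup

theorem alperin_steps {G : Type*} [Group G] [Finite G] {p : ℕ} [Fact p.Prime] (P : Sylow p G)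
    (a g : G) (ha : a ∈ (P : Subgroup G)) (hag : g⁻¹ * a * g ∈ (P : Subgroup G)) :
    ∃ (n : ℕ) (Q : Fin n → Sylow p G) (xs : Fin n → G) (y : ℕ → G),
      y 0 = a ∧ y n = g⁻¹ * a * g ∧ ∀ i : Fin n,
        (¬ p ∣ ((P : Subgroup G) ⊓ normalizer ((((P : Subgroup G) ⊓ (Q i : Subgroup G)) :
            Subgroup G) : Set G)).relIndex
              (normalizer ((((P : Subgroup G) ⊓ (Q i : Subgroup G)) : Subgroup G) : Set G))) ∧
        (¬ p ∣ ((Q i : Subgroup G) ⊓ normalizer ((((P : Subgroup G) ⊓ (Q i : Subgroup G)) :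
            Subgroup G) : Set G)).relIndex
              (normalizer ((((P : Subgroup G) ⊓ (Q i : Subgroup G)) : Subgroup G) : Set G))) ∧
        xs i ∈ normalizer ((((P : Subgroup G) ⊓ (Q i : Subgroup G)) : Subgroup G) : Set G) ∧
        ((Q i : Subgroup G) = (P : Subgroup G) ∨ ∃ k : ℕ, orderOf (xs i) = p ^ k) ∧
        y i ∈ (P : Subgroup G) ⊓ (Q i : Subgroup G) ∧
        y (i + 1) = (xs i)⁻¹ * y i * xs i := by
  obtain ⟨n, Q, xs, hprod, hstep, h0, hnext⟩ := Cfsg.Agent.S2012.result P ({a} : Set G) g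
    (by rintro _ rfl; exact ha) (by rintro _ ⟨b, rfl, rfl⟩; exact hag)
  refine ⟨n, Q, xs, fun i => (((List.ofFn xs).take i).prod)⁻¹ * a * ((List.ofFn xs).take i).prod,
    by simp, ?_, ?_⟩
  · have : (List.ofFn xs).take n = List.ofFn xs := by
      apply List.take_of_length_le; simp
    beta_reduce
    rw [this, hprod]
  · intro i
    obtain ⟨h1, h2, h3, h4⟩ := hstep i
    refine ⟨h2, h3, h1, h4, ?_, ?_⟩
    · obtain ⟨i, hi⟩ := i
      cases i with
      | zero =>
        have := h0 hi (Set.mem_singleton a)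
        simp only [List.take_zero, List.prod_nil, inv_one, one_mul, mul_one]
        exact this
      | succ j =>
        have := hnext ⟨j, by omega⟩ hi ⟨a, Set.mem_singleton a, rfl⟩
        exact this
    · have hlen : (i : ℕ) < (List.ofFn xs).length := by simp
      beta_reduce
      rw [List.prod_take_succ _ _ hlen]
      simp only [List.getElem_ofFn]
      group

/-- If `X / C` is a `p`-group, then `X = C R` for every Sylow `p`-subgroup `R`. -/
theorem exists_mul_inv_mem_of_isPGroup_quotient {X : Type*} [Group X] [Finite X] {p : ℕ}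
    [Fact p.Prime] (C : Subgroup X) [C.Normal] (hq : IsPGroup p (X ⧸ C)) (R : Sylow p X) (n : X) :
    ∃ r ∈ R, n * r⁻¹ ∈ C := by
  have hf : Function.Surjective (QuotientGroup.mk' C) := QuotientGroup.mk'_surjective C
  have hS : ((R.mapSurjective hf : Sylow p (X ⧸ C)) : Subgroup (X ⧸ C)) = ⊤ :=
    ((R.mapSurjective hf).3 (hq.to_subgroup ⊤) le_top).symm
  have hn : QuotientGroup.mk' C n ∈ ((R.mapSurjective hf : Sylow p (X ⧸ C)) : Subgroup (X ⧸ C)) := by
    rw [hS]; exact Subgroup.mem_top _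
  rw [Sylow.coe_mapSurjective] at hn
  obtain ⟨r, hr, hrn⟩ := Subgroup.mem_map.mp hn
  refine ⟨r, hr, ?_⟩
  rw [← QuotientGroup.eq_one_iff, QuotientGroup.mk_mul, QuotientGroup.mk_inv]
  have : (r : X ⧸ C) = (n : X ⧸ C) := hrn
  rw [this, mul_inv_cancel]

end Cfsg.Agent.Lib.Helper29
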