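import Mathlib
import Cfsg.Agent.Lib.Helper29.FrStdDefs
import Cfsg.Prelude.Def_Classical

/-!
helper29, S5696 part 2, leaves **S0** `stdQ_nondeg` and **S1** `transpose_mul_self_of_mem` (the standard model
`stdQ ι F c = c Σ x_i²`: nondegenerate; its isometries are orthogonal matrices).
-/

set_option autoImplicit false
set_option linter.unusedSectionVars false
set_option linter.unusedVariables false

namespace Cfsg.Agent.Lib.Helper29.Fr2Leaf
open Matrix Cfsg.Agent.Lib.Helper11.Mono Cfsg.Agent.Lib.Helper29.FrStd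

variable {F : Type*} [Field F] [Fintype F] {ι : Type} [Fintype ι] [DecidableEq ι]

lemma sum_mul_single (x : ι → F) (i : ι) : ∑ k, x k * (Pi.single i (1 : F) : ι → F) k = x i := by
  rw [Finset.sum_eq_single i]
  · rw [Pi.single_eq_same, mul_one]
  · intro k _ hk
    rw [Pi.single_eq_of_ne hk, mul_zero]
  · intro h; exact absurd (Finset.mem_univ i) h

/-- S0 -/
theorem stdQ_nondeg (h2 : (2 : F) ≠ 0) {c : F} (hc : c ≠ 0) :
    (QuadraticMap.polarBilin (stdQ ι F c)).Nondegenerate := by
  have key : ∀ x : ι → F, (∀ i, QuadraticMap.polar (stdQ ι F c) x (Pi.single i 1) = 0) → x = 0 := by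
    intro x hx
    funext i
    have h := hx i
    rw [polar_stdQ, sum_mul_single] at h
    rcases mul_eq_zero.1 h with h | h
    · exact absurd h (mul_ne_zero h2 hc)
    · exact h
  constructor
  · intro x hx
    apply key
    intro i
    have := hx (Pi.single i 1)
    rwa [QuadraticMap.polarBilin_apply_apply] at this
  · intro y hy
    apply key
    intro i
    have := hy (Pi.single i 1)
    rw [QuadraticMap.polarBilin_apply_apply, QuadraticMap.polar_comm] at this
    exact this

/-- S1 -/
theorem transpose_mul_self_of_mem (h2 : (2 : F) ≠ 0) {c : F} (hc : c ≠ 0) (g : GL ι F)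
    (hg : g ∈ Cfsg.isometryGroup F ⇑(stdQ ι F c)) :
    (g : Matrix ι ι F)ᵀ * (g : Matrix ι ι F) = 1 := by
  have hQ : ∀ u : ι → F, stdQ ι F c ((g : Matrix ι ι F) *ᵥ u) = stdQ ι F c u := fun u => hg u u
  have hpol : ∀ u v : ι → F, QuadraticMap.polar (stdQ ι F c) ((g : Matrix ι ι F) *ᵥ u)
      ((g : Matrix ι ι F) *ᵥ v) = QuadraticMap.polar (stdQ ι F c) u v := by
    intro u v
    unfold QuadraticMap.polar
    rw [← Matrix.mulVec_add, hQ, hQ, hQ]
  ext a b
  have h := hpol (Pi.single a 1) (Pi.single b 1)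
  rw [polar_stdQ, polar_stdQ, Matrix.mulVec_single_one, Matrix.mulVec_single_one] at h
  have h' := mul_left_cancel₀ (mul_ne_zero h2 hc) h
  rw [Matrix.mul_apply, Matrix.one_apply]
  simp only [Matrix.transpose_apply]
  have e : ∀ x, (g : Matrix ι ι F) x a * (g : Matrix ι ι F) x b =
      ((g : Matrix ι ι F).col a) x * ((g : Matrix ι ι F).col b) x := fun x => rfl
  rw [Finset.sum_congr rfl (fun x _ => e x), h', sum_mul_single]
  rw [Pi.single_apply]
  by_cases hab : a = b
  · rw [if_pos hab, if_pos hab.symm]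
  · rw [if_neg hab, if_neg (Ne.symm hab)]

end Cfsg.Agent.Lib.Helper29.Fr2Leaf
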