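import Mathlib

/-!
S5679 / S5696 CORE13, the DICKSON BRIDGE: pure 2x2 matrix lemmas for the case analysis of the trichotomy
(helper12's `pgl2_prime_trichotomy`, stated here as `Tri`).
-/

set_option autoImplicit false
set_option linter.unusedSimpArgs false

namespace Cfsg.Agent.Lib.Helper29.FrDB
open Matrix

variable {F : Type*} [Field F]

/-- the conclusion of helper12's trichotomy for a subgroup `X` of `GL_2(F)`, `p = |F|` -/
def Tri (p : ℕ) (X : Subgroup (GL (Fin 2) F)) : Prop :=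
  (∀ s : Matrix.SpecialLinearGroup (Fin 2) F, ∃ x ∈ X, ∃ c : F,
      (x : Matrix (Fin 2) (Fin 2) F) = c • (s : Matrix (Fin 2) (Fin 2) F)) ∨
  (∃ g ∈ X, (∀ c : F, ((g ^ 2 : GL (Fin 2) F) : Matrix (Fin 2) (Fin 2) F) ≠ c • 1) ∧
      (∀ c : F, (g : Matrix (Fin 2) (Fin 2) F) ≠ c • 1) ∧
      ∀ x ∈ X, ∃ (k : ℕ) (c : F), ((x * g * x⁻¹ : GL (Fin 2) F) : Matrix (Fin 2) (Fin 2) F) =
        c • ((g ^ k : GL (Fin 2) F) : Matrix (Fin 2) (Fin 2) F)) ∨
  (∀ x ∈ X, ∃ m : ℕ, 1 ≤ m ∧ m ≤ 5 ∧ m ≠ p ∧ ∃ c : F,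
      ((x ^ m : GL (Fin 2) F) : Matrix (Fin 2) (Fin 2) F) = c • 1)

/-- Cayley-Hamilton for 2x2 matrices -/
lemma mul_self_two (g : Matrix (Fin 2) (Fin 2) F) :
    g * g = g.trace • g - g.det • (1 : Matrix (Fin 2) (Fin 2) F) := by
  ext i j
  fin_cases i <;> fin_cases j <;>
    simp [Matrix.mul_apply, Fin.sum_univ_two, Matrix.det_fin_two, Matrix.trace_fin_two] <;> ring

/-- powers of a 2x2 matrix lie in `F + F g` -/
lemma pow_eq_lin (g : Matrix (Fin 2) (Fin 2) F) (k : ℕ) :
    ∃ a b : F, g ^ k = a • (1 : Matrix (Fin 2) (Fin 2) F) + b • g := by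
  induction k with
  | zero => exact ⟨1, 0, by simp⟩
  | succ k ih =>
    obtain ⟨a, b, hab⟩ := ih
    refine ⟨-(b * g.det), a + b * g.trace, ?_⟩
    rw [pow_succ, hab, Matrix.add_mul, Matrix.smul_mul, Matrix.smul_mul, Matrix.one_mul, mul_self_two]
    module

/-- if `x g x⁻¹ ∈ F g^k` then `x` preserves the line of the trace-zero part of `g` -/
lemma conj_traceless_part (h2 : (2 : F) ≠ 0) (g x xi : Matrix (Fin 2) (Fin 2) F) (hx : x * xi = 1)
    (hxi : xi * x = 1) (k : ℕ) (c : F) (h : x * g * xi = c • g ^ k) :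
    ∃ l : F, x * (g - (g.trace / 2) • (1 : Matrix (Fin 2) (Fin 2) F)) * xi =
      l • (g - (g.trace / 2) • (1 : Matrix (Fin 2) (Fin 2) F)) := by
  obtain ⟨a, b, hab⟩ := pow_eq_lin g k
  refine ⟨c * b, ?_⟩
  have e1 : x * (g - (g.trace / 2) • (1 : Matrix (Fin 2) (Fin 2) F)) * xi =
      c • g ^ k - (g.trace / 2) • (1 : Matrix (Fin 2) (Fin 2) F) := by
    rw [Matrix.mul_sub, Matrix.sub_mul, h, Matrix.mul_smul, Matrix.mul_one, Matrix.smul_mul, hx]
  have e2 : (x * (g - (g.trace / 2) • (1 : Matrix (Fin 2) (Fin 2) F)) * xi).trace = 0 := by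
    rw [Matrix.trace_mul_cycle, hxi, Matrix.one_mul, Matrix.trace_sub, Matrix.trace_smul, Matrix.trace_one]
    simp only [Fintype.card_fin, smul_eq_mul, Nat.cast_ofNat]
    rw [div_mul_cancel₀ _ h2, sub_self]
  rw [e1, hab] at e2
  rw [e1, hab]
  have e3 : c * a + c * b * (g.trace / 2) - g.trace / 2 = 0 := by
    have : 2 * (c * a + c * b * (g.trace / 2) - g.trace / 2) = 0 := by
      rw [Matrix.trace_sub, Matrix.trace_smul, Matrix.trace_add, Matrix.trace_smul, Matrix.trace_smul,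
        Matrix.trace_smul, Matrix.trace_one] at e2
      simp only [Fintype.card_fin, smul_eq_mul, Nat.cast_ofNat] at e2
      have h2' : g.trace / 2 * 2 = g.trace := div_mul_cancel₀ _ h2
      linear_combination e2 + (c * b) * h2'
    exact (mul_eq_zero.mp this).resolve_left h2
  have e4 : c • (a • (1 : Matrix (Fin 2) (Fin 2) F) + b • g) - (g.trace / 2) • (1 : Matrix (Fin 2) (Fin 2) F) =
      (c * a + c * b * (g.trace / 2) - g.trace / 2) • (1 : Matrix (Fin 2) (Fin 2) F) +
        (c * b) • (g - (g.trace / 2) • (1 : Matrix (Fin 2) (Fin 2) F)) := by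
    module
  rw [e4, e3, zero_smul, zero_add]

/-- no line of trace-zero matrices is invariant under both `[[1,2],[0,1]]` and `[[1,0],[2,1]]` -/
lemma transv_no_line (h2 : (2 : F) ≠ 0) (g₀ : Matrix (Fin 2) (Fin 2) F) (hg₀ : g₀.trace = 0) (hne : g₀ ≠ 0)
    (l l' : F) (h1 : !![1, 2; 0, 1] * g₀ * !![1, -2; 0, 1] = l • g₀)
    (h1' : !![1, 0; 2, 1] * g₀ * !![1, 0; -2, 1] = l' • g₀) : False := by
  have h11 : g₀ 1 1 = - g₀ 0 0 := by
    rw [Matrix.trace_fin_two] at hg₀
    linear_combination hg₀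
  rw [Matrix.eta_fin_two g₀, Matrix.mul_fin_two, Matrix.mul_fin_two, Matrix.smul_of, Matrix.smul_cons,
    Matrix.smul_cons, Matrix.smul_cons, Matrix.smul_cons] at h1 h1'
  have a00 := congrFun (congrFun h1 0) 0
  have a01 := congrFun (congrFun h1 0) 1
  have a10 := congrFun (congrFun h1 1) 0
  have b00 := congrFun (congrFun h1' 0) 0
  have b01 := congrFun (congrFun h1' 0) 1
  have b10 := congrFun (congrFun h1' 1) 0
  simp [h11] at a00 a01 a10 b00 b01 b10
  have h4 : (4 : F) ≠ 0 := by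
    have : (4 : F) = 2 * 2 := by norm_num
    rw [this]
    exact mul_ne_zero h2 h2
  -- `c = g₀ 1 0 = 0`
  have hc : g₀ 1 0 = 0 := by
    by_contra hc
    have hl : l = 1 := by
      have : (1 - l) * g₀ 1 0 = 0 := by linear_combination a10
      rcases mul_eq_zero.mp this with h | h
      · linear_combination -h
      · exact absurd h hc
    rw [hl] at a00
    have : 2 * g₀ 1 0 = 0 := by linear_combination a00
    exact hc ((mul_eq_zero.mp this).resolve_left h2)
  have hb : g₀ 0 1 = 0 := by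
    by_contra hb
    have hl : l' = 1 := by
      have : (1 - l') * g₀ 0 1 = 0 := by linear_combination b01
      rcases mul_eq_zero.mp this with h | h
      · linear_combination -h
      · exact absurd h hb
    rw [hl] at b00
    have : 2 * g₀ 0 1 = 0 := by linear_combination -b00
    exact hb ((mul_eq_zero.mp this).resolve_left h2)
  have ha : g₀ 0 0 = 0 := by
    by_contra ha
    have hl : l = 1 := by
      rw [hc] at a00
      have : (1 - l) * g₀ 0 0 = 0 := by linear_combination a00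
      rcases mul_eq_zero.mp this with h | h
      · linear_combination -h
      · exact absurd h ha
    rw [hl, hb, hc] at a01
    have : 4 * g₀ 0 0 = 0 := by linear_combination -a01
    exact ha ((mul_eq_zero.mp this).resolve_left h4)
  apply hne
  ext i j
  fin_cases i <;> fin_cases j <;> simp [ha, hb, hc, h11]

/-- powers of an upper transvection -/
lemma upper_pow (a : F) (m : ℕ) : (!![1, a; 0, 1] : Matrix (Fin 2) (Fin 2) F) ^ m = !![1, m * a; 0, 1] := by
  induction m with
  | zero =>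
    ext i j
    fin_cases i <;> fin_cases j <;> simp
  | succ m ih =>
    rw [pow_succ, ih]
    ext i j
    fin_cases i <;> fin_cases j <;> simp [Matrix.mul_apply, Fin.sum_univ_two]
    ring

end Cfsg.Agent.Lib.Helper29.FrDB
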