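import Mathlib

/-!
S5679 / S5696 CORE13, the DICKSON BRIDGE: binary forms `s² - α t²` are universal over a finite field of odd order, and two
trace-zero 2x2 matrices of equal non-zero determinant are conjugate under `SL_2`.
-/

set_option autoImplicit false
set_option linter.unusedSimpArgs false

namespace Cfsg.Agent.Lib.Helper29.FrDB
open Matrix Polynomial

variable {F : Type*} [Field F]

/-- `s² - α t² = β` is solvable over a finite field of odd order -/
theorem exists_norm_eq [Fintype F] (hodd : Fintype.card F % 2 = 1) {α : F} (hα : α ≠ 0) (β : F) :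
    ∃ s t : F, s ^ 2 - α * t ^ 2 = β := by
  have hg : degree (C (-α) * X ^ 2 - C β : F[X]) = 2 := by
    have h1 : degree (C (-α) * X ^ 2 : F[X]) = 2 := by
      rw [degree_C_mul_X_pow 2 (neg_ne_zero.mpr hα)]
      rfl
    rw [degree_sub_eq_left_of_degree_lt]
    · exact h1
    · rw [h1]
      exact lt_of_le_of_lt degree_C_le (by norm_num)
  obtain ⟨a, b, hab⟩ := FiniteField.exists_root_sum_quadratic (f := (X ^ 2 : F[X]))
    (g := C (-α) * X ^ 2 - C β) (degree_X_pow 2) hg hodd
  refine ⟨a, b, ?_⟩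
  simp only [eval_pow, eval_X, eval_sub, eval_mul, eval_C] at hab
  linear_combination hab

/-- a trace-zero non-zero matrix (characteristic not 2) has a cyclic vector -/
lemma exists_cyclic (h2 : (2 : F) ≠ 0) (A : Matrix (Fin 2) (Fin 2) F) (hA : A.trace = 0) (hA0 : A ≠ 0) :
    ∃ v : Fin 2 → F, (Matrix.of ![![v 0, (A *ᵥ v) 0], ![v 1, (A *ᵥ v) 1]]).det ≠ 0 := by
  have h11 : A 1 1 = - A 0 0 := by
    rw [Matrix.trace_fin_two] at hA
    linear_combination hA
  by_cases hc : A 1 0 = 0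
  · by_cases hb : A 0 1 = 0
    · have ha : A 0 0 ≠ 0 := by
        intro ha
        apply hA0
        ext i j
        fin_cases i <;> fin_cases j <;> simp [ha, hb, hc, h11]
      refine ⟨![1, 1], ?_⟩
      simp [Matrix.det_fin_two, Matrix.mulVec, dotProduct, Fin.sum_univ_two, hb, hc, h11]
      intro h
      apply ha
      have : 2 * A 0 0 = 0 := by linear_combination -h
      exact (mul_eq_zero.mp this).resolve_left h2
    · refine ⟨![0, 1], ?_⟩
      simp [Matrix.det_fin_two, Matrix.mulVec, dotProduct, Fin.sum_univ_two, hb]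
  · refine ⟨![1, 0], ?_⟩
    simp [Matrix.det_fin_two, Matrix.mulVec, dotProduct, Fin.sum_univ_two, hc]

/-- a trace-zero 2x2 matrix squares to `-det` -/
lemma mul_self_of_trace_zero (A : Matrix (Fin 2) (Fin 2) F) (hA : A.trace = 0) :
    A * A = (-A.det) • (1 : Matrix (Fin 2) (Fin 2) F) := by
  have h11 : A 1 1 = - A 0 0 := by
    rw [Matrix.trace_fin_two] at hA
    linear_combination hA
  ext i j
  fin_cases i <;> fin_cases j <;>
    simp [Matrix.mul_apply, Fin.sum_univ_two, Matrix.det_fin_two, h11] <;> ring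

/-- the matrix with columns `v`, `A v` -/
def cycM (A : Matrix (Fin 2) (Fin 2) F) (v : Fin 2 → F) : Matrix (Fin 2) (Fin 2) F :=
  Matrix.of ![![v 0, (A *ᵥ v) 0], ![v 1, (A *ᵥ v) 1]]

/-- `A [v | Av] = [v | Av] C`, `C` the companion matrix of `X² + d` -/
lemma mul_cycM (A : Matrix (Fin 2) (Fin 2) F) (hA : A.trace = 0) (v : Fin 2 → F) :
    A * cycM A v = cycM A v * !![0, -A.det; 1, 0] := by
  have h11 : A 1 1 = - A 0 0 := by
    rw [Matrix.trace_fin_two] at hA
    linear_combination hA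
  ext i j
  fin_cases i <;> fin_cases j <;>
    simp [cycM, Matrix.mul_apply, Fin.sum_univ_two, Matrix.det_fin_two, Matrix.mulVec, dotProduct, h11] <;> ring

/-- two trace-zero matrices of equal non-zero determinant are conjugate under `SL_2` (finite field of odd order) -/
theorem exists_SL_conj [Fintype F] (hodd : Fintype.card F % 2 = 1) (h2 : (2 : F) ≠ 0)
    (A A' : Matrix (Fin 2) (Fin 2) F) (hA : A.trace = 0) (hA' : A'.trace = 0) (hdet : A.det = A'.det)
    (hd : A.det ≠ 0) : ∃ S : Matrix (Fin 2) (Fin 2) F, S.det = 1 ∧ S * A = A' * S := by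
  have hA0 : A ≠ 0 := by
    rintro rfl
    simp at hd
  have hA'0 : A' ≠ 0 := by
    rintro rfl
    rw [hdet] at hd
    simp at hd
  obtain ⟨v, hv⟩ := exists_cyclic h2 A hA hA0
  obtain ⟨v', hv'⟩ := exists_cyclic h2 A' hA' hA'0
  change (cycM A v).det ≠ 0 at hv
  change (cycM A' v').det ≠ 0 at hv'
  obtain ⟨P, hP⟩ : ∃ P, P = cycM A v := ⟨_, rfl⟩
  obtain ⟨P', hP'⟩ : ∃ P', P' = cycM A' v' := ⟨_, rfl⟩
  have e1 : A * P = P * !![0, -A.det; 1, 0] := by rw [hP]; exact mul_cycM A hA v
  have e2 : A' * P' = P' * !![0, -A.det; 1, 0] := by rw [hP', hdet]; exact mul_cycM A' hA' v'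
  rw [← hP] at hv
  rw [← hP'] at hv'
  -- `adj P * A = C * adj P`
  have e3 : P.adjugate * A = !![0, -A.det; 1, 0] * P.adjugate := by
    have h1 : P.adjugate * A * P = P.adjugate * P * !![0, -A.det; 1, 0] := by
      rw [Matrix.mul_assoc, e1, ← Matrix.mul_assoc]
    have h2' : P.adjugate * A * P * P.adjugate = P.adjugate * P * !![0, -A.det; 1, 0] * P.adjugate := by
      rw [h1]
    rw [Matrix.mul_assoc (P.adjugate * A), Matrix.mul_adjugate, Matrix.adjugate_mul, Matrix.mul_smul,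
      Matrix.mul_one, Matrix.smul_mul, Matrix.one_mul, Matrix.smul_mul] at h2'
    have h3 := congrArg (fun M => P.det⁻¹ • M) h2'
    simp only [smul_smul, inv_mul_cancel₀ hv, one_smul] at h3
    exact h3
  obtain ⟨S₁, hS₁⟩ : ∃ S₁, S₁ = P' * P.adjugate := ⟨_, rfl⟩
  have e4 : S₁ * A = A' * S₁ := by
    rw [hS₁, Matrix.mul_assoc, e3, ← Matrix.mul_assoc, ← e2, Matrix.mul_assoc]
  have hδ : S₁.det ≠ 0 := by
    rw [hS₁, Matrix.det_mul, Matrix.det_adjugate]
    simp only [Fintype.card_fin, Nat.add_one_sub_one, pow_one]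
    exact mul_ne_zero hv' hv
  obtain ⟨l, m, hlm⟩ := exists_norm_eq hodd (α := -A.det) (neg_ne_zero.mpr hd) (S₁.det)⁻¹
  have hz : (l • (1 : Matrix (Fin 2) (Fin 2) F) + m • A').det = l ^ 2 - -A.det * m ^ 2 := by
    have h11 : A' 1 1 = - A' 0 0 := by
      rw [Matrix.trace_fin_two] at hA'
      linear_combination hA'
    rw [hdet]
    simp [Matrix.det_fin_two, h11]
    ring
  refine ⟨(l • (1 : Matrix (Fin 2) (Fin 2) F) + m • A') * S₁, ?_, ?_⟩
  · rw [Matrix.det_mul, hz, hlm, inv_mul_cancel₀ hδ]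
  · rw [Matrix.mul_assoc, e4, ← Matrix.mul_assoc, ← Matrix.mul_assoc]
    congr 1
    rw [Matrix.add_mul, Matrix.mul_add, Matrix.smul_mul, Matrix.mul_smul, Matrix.one_mul, Matrix.mul_one,
      Matrix.smul_mul, Matrix.mul_smul]

end Cfsg.Agent.Lib.Helper29.FrDB
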