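import Mathlib

/-!
S5679 / S5696 CORE13, the DICKSON BRIDGE (helper29, sub-plan of helper17's plan): the 2x2 MODEL of a 3-dimensional
quadratic space.  For `α s t : F`, `β := s² - α t²`, the matrices `I = !![0, α; 1, 0]`, `J = !![s, -αt; t, -s]` satisfy
`I² = α`, `J² = β`, `IJ = -JI`; `qm α s t x y z = x I + y J + z IJ` runs through the trace-zero matrices and
`qm² = (α x² + β y² - αβ z²) • 1`.  Conjugation by `X = qm ..` is minus the reflection in `X`.
-/

set_option autoImplicit false
set_option linter.unusedSimpArgs false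

namespace Cfsg.Agent.Lib.Helper29.FrDB
open Matrix

variable {F : Type*} [Field F]

/-- `x I + y J + z IJ` -/
def qm (α s t x y z : F) : Matrix (Fin 2) (Fin 2) F :=
  !![y * s + z * α * t, x * α - y * α * t - z * α * s; x + y * t + z * s, -(y * s + z * α * t)]

/-- the norm form `α x² + β y² - αβ z²`, `β = s² - α t²` -/
def qn (α s t x y z : F) : F :=
  α * x ^ 2 + (s ^ 2 - α * t ^ 2) * y ^ 2 - α * (s ^ 2 - α * t ^ 2) * z ^ 2

/-- the polar form of `qn` (halved) -/
def qb (α s t x y z x' y' z' : F) : F :=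
  α * x * x' + (s ^ 2 - α * t ^ 2) * y * y' - α * (s ^ 2 - α * t ^ 2) * z * z'

lemma qm_trace (α s t x y z : F) : (qm α s t x y z).trace = 0 := by
  simp [qm, Matrix.trace_fin_two]

lemma qm_add (α s t x y z x' y' z' : F) :
    qm α s t x y z + qm α s t x' y' z' = qm α s t (x + x') (y + y') (z + z') := by
  ext i j
  fin_cases i <;> fin_cases j <;> simp [qm] <;> ring

lemma qm_smul (α s t x y z c : F) : c • qm α s t x y z = qm α s t (c * x) (c * y) (c * z) := by
  ext i j
  fin_cases i <;> fin_cases j <;> simp [qm] <;> ring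

lemma qm_neg (α s t x y z : F) : - qm α s t x y z = qm α s t (-x) (-y) (-z) := by
  ext i j
  fin_cases i <;> fin_cases j <;> simp [qm] <;> ring

lemma qm_zero (α s t : F) : qm α s t 0 0 0 = 0 := by
  ext i j
  fin_cases i <;> fin_cases j <;> simp [qm]

/-- `X² = N(X)` -/
lemma qm_mul_self (α s t x y z : F) :
    qm α s t x y z * qm α s t x y z = qn α s t x y z • (1 : Matrix (Fin 2) (Fin 2) F) := by
  ext i j
  fin_cases i <;> fin_cases j <;> simp [qm, qn, Matrix.mul_apply, Fin.sum_univ_two] <;> ring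

/-- the Clifford relation `XY + YX = 2 B(X,Y)` -/
lemma qm_clifford (α s t x y z x' y' z' : F) :
    qm α s t x y z * qm α s t x' y' z' + qm α s t x' y' z' * qm α s t x y z =
      (2 * qb α s t x y z x' y' z') • (1 : Matrix (Fin 2) (Fin 2) F) := by
  ext i j
  fin_cases i <;> fin_cases j <;> simp [qm, qb, Matrix.mul_apply, Fin.sum_univ_two] <;> ring

/-- `X Y X = -N(X) Y + 2 B(X,Y) X` : conjugation by `X` is minus the reflection in `X` -/
lemma qm_sandwich (α s t x y z x' y' z' : F) :
    qm α s t x y z * qm α s t x' y' z' * qm α s t x y z =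
      -(qn α s t x y z • qm α s t x' y' z') + (2 * qb α s t x y z x' y' z') • qm α s t x y z := by
  ext i j
  fin_cases i <;> fin_cases j <;> simp [qm, qn, qb, Matrix.mul_apply, Fin.sum_univ_two] <;> ring

lemma qm_det (α s t x y z : F) : (qm α s t x y z).det = - qn α s t x y z := by
  simp [qm, qn, Matrix.det_fin_two]
  ring

/-- injectivity of `qm` -/
lemma qm_eq_zero (h2 : (2 : F) ≠ 0) {α s t : F} (hα : α ≠ 0) (hβ : s ^ 2 - α * t ^ 2 ≠ 0) {x y z : F}
    (h : qm α s t x y z = 0) : x = 0 ∧ y = 0 ∧ z = 0 := by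
  have h00 := congrFun (congrFun h 0) 0
  have h01 := congrFun (congrFun h 0) 1
  have h10 := congrFun (congrFun h 1) 0
  simp [qm] at h00 h01 h10
  have hx : x = 0 := by
    have : 2 * α * x = 0 := by linear_combination h01 + α * h10
    rcases mul_eq_zero.mp this with h | h
    · exact absurd h (mul_ne_zero h2 hα)
    · exact h
  subst hx
  have hy : (s ^ 2 - α * t ^ 2) * y = 0 := by linear_combination s * h00 - α * t * h10
  have hz : (s ^ 2 - α * t ^ 2) * z = 0 := by linear_combination s * h10 - t * h00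
  exact ⟨rfl, (mul_eq_zero.mp hy).resolve_left hβ, (mul_eq_zero.mp hz).resolve_left hβ⟩

/-- every trace-zero matrix is a `qm` -/
lemma exists_qm (h2 : (2 : F) ≠ 0) {α s t : F} (hα : α ≠ 0) (hβ : s ^ 2 - α * t ^ 2 ≠ 0)
    (A : Matrix (Fin 2) (Fin 2) F) (hA : A.trace = 0) : ∃ x y z : F, A = qm α s t x y z := by
  have h11 : A 1 1 = - A 0 0 := by
    rw [Matrix.trace_fin_two] at hA
    linear_combination hA
  refine ⟨(α * A 1 0 + A 0 1) / (2 * α),
    (s * A 0 0 - α * t * ((α * A 1 0 - A 0 1) / (2 * α))) / (s ^ 2 - α * t ^ 2),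
    (s * ((α * A 1 0 - A 0 1) / (2 * α)) - t * A 0 0) / (s ^ 2 - α * t ^ 2), ?_⟩
  ext i j
  fin_cases i <;> fin_cases j <;> simp [qm, h11] <;> field_simp <;> ring

end Cfsg.Agent.Lib.Helper29.FrDB
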