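import Mathlib
import Cfsg.Agent.Lib.Helper29.FrDBModel
import Cfsg.Agent.Lib.Helper17.OC2Defs

/-!
S5679 / S5696 CORE13, the DICKSON BRIDGE: the map `phi : (ι → F) → M_2(F)` attached to a non-degenerate 3-space
`U = ⟨u1, u2, u3⟩` (orthogonal basis) of a quadratic space, `phi v = qm (coordinates of the projection of v to U)`;
`phi (-r_x v) = x̂ (phi v) x̂⁻¹` for `x ∈ U` non-singular (`Rel`), `x̂ = phi x`.
-/

set_option autoImplicit false
set_option linter.unusedSectionVars false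
set_option linter.unusedVariables false
set_option linter.unusedSimpArgs false

namespace Cfsg.Agent.Lib.Helper29.FrDB
open Module QuadraticMap Matrix Cfsg.Agent.Lib.Helper25.CD Cfsg.Agent.Lib.Helper25.Spin
  Cfsg.Agent.Lib.Helper17.OC2

variable {ι : Type} [Fintype ι] [DecidableEq ι] {F : Type*} [Field F]
  (Q : QuadraticForm F (ι → F))

/-- the data: an orthogonal basis `u1 u2 u3` of non-singular vectors and parameters `α s t` of the 2x2 model with
`α = -q3/q2`, `β = s² - α t² = -q3/q1` -/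
structure Mod3 (u1 u2 u3 : ι → F) (α s t : F) : Prop where
  h2 : (2 : F) ≠ 0
  q1 : Q u1 ≠ 0
  q2 : Q u2 ≠ 0
  q3 : Q u3 ≠ 0
  o12 : polar Q u1 u2 = 0
  o13 : polar Q u1 u3 = 0
  o23 : polar Q u2 u3 = 0
  hα : α = -(Q u3 / Q u2)
  hβ : s ^ 2 - α * t ^ 2 = -(Q u3 / Q u1)

/-- coordinate of (the projection of) `v` along the non-singular vector `u` -/
noncomputable def cd (u v : ι → F) : F := polar Q u v / (2 * Q u)

/-- the linear combination `a u1 + b u2 + c u3` -/
def lc (u1 u2 u3 : ι → F) (a b c : F) : ι → F := a • u1 + b • u2 + c • u3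

/-- the map to 2x2 matrices -/
noncomputable def phi (u1 u2 u3 : ι → F) (α s t : F) (v : ι → F) : Matrix (Fin 2) (Fin 2) F :=
  qm α s t (cd Q u1 v) (cd Q u2 v) (cd Q u3 v)

variable {Q}

lemma cd_add (u v w : ι → F) : cd Q u (v + w) = cd Q u v + cd Q u w := by
  unfold cd
  rw [polar_add_right, add_div]

lemma cd_smul (u v : ι → F) (c : F) : cd Q u (c • v) = c * cd Q u v := by
  unfold cd
  rw [polar_smul_right, smul_eq_mul, mul_div_assoc]

lemma cd_neg (u v : ι → F) : cd Q u (-v) = - cd Q u v := by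
  have := cd_smul (Q := Q) u v (-1)
  rwa [neg_one_smul, neg_one_mul] at this

lemma phi_add (u1 u2 u3 : ι → F) (α s t : F) (v w : ι → F) :
    phi Q u1 u2 u3 α s t (v + w) = phi Q u1 u2 u3 α s t v + phi Q u1 u2 u3 α s t w := by
  unfold phi
  rw [qm_add, cd_add, cd_add, cd_add]

lemma phi_smul (u1 u2 u3 : ι → F) (α s t : F) (c : F) (v : ι → F) :
    phi Q u1 u2 u3 α s t (c • v) = c • phi Q u1 u2 u3 α s t v := by
  unfold phi
  rw [qm_smul, cd_smul, cd_smul, cd_smul]

lemma phi_neg (u1 u2 u3 : ι → F) (α s t : F) (v : ι → F) :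
    phi Q u1 u2 u3 α s t (-v) = - phi Q u1 u2 u3 α s t v := by
  unfold phi
  rw [qm_neg, cd_neg, cd_neg, cd_neg]

lemma phi_sub (u1 u2 u3 : ι → F) (α s t : F) (v w : ι → F) :
    phi Q u1 u2 u3 α s t (v - w) = phi Q u1 u2 u3 α s t v - phi Q u1 u2 u3 α s t w := by
  rw [sub_eq_add_neg, phi_add, phi_neg, ← sub_eq_add_neg]

section mod
variable {u1 u2 u3 : ι → F} {α s t : F} (hM : Mod3 Q u1 u2 u3 α s t)
include hM

lemma Mod3.pself1 : polar Q u1 u1 = 2 * Q u1 := Cfsg.Agent.Lib.Helper25.MaxTS.polar_self _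
omit hM in
lemma pself' (u : ι → F) : polar Q u u = 2 * Q u := Cfsg.Agent.Lib.Helper25.MaxTS.polar_self _

lemma Mod3.cd1_lc (a b c : F) : cd Q u1 (lc u1 u2 u3 a b c) = a := by
  unfold cd lc
  rw [polar_add_right, polar_add_right, polar_smul_right, polar_smul_right, polar_smul_right, pself', hM.o12, hM.o13]
  have := hM.q1
  have := hM.h2
  simp only [smul_eq_mul, mul_zero, add_zero]
  field_simp

lemma Mod3.cd2_lc (a b c : F) : cd Q u2 (lc u1 u2 u3 a b c) = b := by
  unfold cd lc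
  rw [polar_add_right, polar_add_right, polar_smul_right, polar_smul_right, polar_smul_right, pself',
    polar_comm Q u2 u1, hM.o12, hM.o23]
  have := hM.q2
  have := hM.h2
  simp only [smul_eq_mul, mul_zero, add_zero, zero_add]
  field_simp

lemma Mod3.cd3_lc (a b c : F) : cd Q u3 (lc u1 u2 u3 a b c) = c := by
  unfold cd lc
  rw [polar_add_right, polar_add_right, polar_smul_right, polar_smul_right, polar_smul_right, pself',
    polar_comm Q u3 u1, polar_comm Q u3 u2, hM.o13, hM.o23]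
  have := hM.q3
  have := hM.h2
  simp only [smul_eq_mul, mul_zero, add_zero, zero_add]
  field_simp

lemma Mod3.phi_lc (a b c : F) : phi Q u1 u2 u3 α s t (lc u1 u2 u3 a b c) = qm α s t a b c := by
  unfold phi
  rw [hM.cd1_lc, hM.cd2_lc, hM.cd3_lc]

lemma Mod3.Q_lc (a b c : F) :
    Q (lc u1 u2 u3 a b c) = Q u1 * a ^ 2 + Q u2 * b ^ 2 + Q u3 * c ^ 2 := by
  unfold lc
  rw [Cfsg.Agent.Lib.Helper25.MaxTS.Q_add, Cfsg.Agent.Lib.Helper25.MaxTS.Q_add, QuadraticMap.map_smul,
    QuadraticMap.map_smul, QuadraticMap.map_smul, polar_add_left, polar_smul_left, polar_smul_left,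
    polar_smul_right, polar_smul_right, polar_smul_left, polar_smul_right, hM.o12, hM.o13, hM.o23]
  simp only [smul_eq_mul, mul_zero, add_zero]
  ring

lemma Mod3.polar_lc (a b c : F) (v : ι → F) :
    polar Q (lc u1 u2 u3 a b c) v =
      2 * Q u1 * a * cd Q u1 v + 2 * Q u2 * b * cd Q u2 v + 2 * Q u3 * c * cd Q u3 v := by
  unfold lc cd
  rw [polar_add_left, polar_add_left, polar_smul_left, polar_smul_left, polar_smul_left]
  have := hM.q1
  have := hM.q2
  have := hM.q3
  have := hM.h2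
  simp only [smul_eq_mul]
  field_simp

/-- `N(phi x) = -μ Q(x)`, `μ = q3/(q1 q2)` -/
lemma Mod3.qn_lc (a b c : F) :
    qn α s t a b c = -(Q u3 / (Q u1 * Q u2)) * Q (lc u1 u2 u3 a b c) := by
  rw [hM.Q_lc]
  unfold qn
  rw [hM.hβ, hM.hα]
  have := hM.q1
  have := hM.q2
  field_simp
  ring

/-- `2 B(phi x, phi v) = -μ polar(x, v)` -/
lemma Mod3.qb_lc (a b c : F) (v : ι → F) :
    2 * qb α s t a b c (cd Q u1 v) (cd Q u2 v) (cd Q u3 v) =
      -(Q u3 / (Q u1 * Q u2)) * polar Q (lc u1 u2 u3 a b c) v := by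
  rw [hM.polar_lc]
  unfold qb
  rw [hM.hβ, hM.hα]
  have := hM.q1
  have := hM.q2
  field_simp
  ring

end mod

end Cfsg.Agent.Lib.Helper29.FrDB
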