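import Mathlib
import Cfsg.Agent.Lib.Helper29.FrDBPhi

/-!
S5679 / S5696 CORE13, the DICKSON BRIDGE: the lift `xhat x ∈ GL_2(F)` of a non-singular vector `x` of `U`, the relation
`Rel g X` (`phi (g v) = X (phi v) X⁻¹`), `Rel (-r_x) (xhat x)`, the properties `PresU` (maps `U` to `U`) and `FixP`
(fixes `U^⊥` pointwise).
-/

set_option autoImplicit false
set_option linter.unusedSectionVars false
set_option linter.unusedVariables false
set_option linter.unusedSimpArgs false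

namespace Cfsg.Agent.Lib.Helper29.FrDB
open Module QuadraticMap Matrix Cfsg.Agent.Lib.Helper25.CD Cfsg.Agent.Lib.Helper25.Spin
  Cfsg.Agent.Lib.Helper17.OC2

variable {ι : Type} [Fintype ι] [DecidableEq ι] {F : Type*} [Field F] [Fintype F]
  (Q : QuadraticForm F (ι → F))

/-- the invertible matrix `qm a b c` when its norm is non-zero -/
noncomputable def xh (α s t a b c : F) (h : qn α s t a b c ≠ 0) : GL (Fin 2) F :=
  ⟨qm α s t a b c, (qn α s t a b c)⁻¹ • qm α s t a b c,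
    by rw [Matrix.mul_smul, qm_mul_self, smul_smul, inv_mul_cancel₀ h, one_smul],
    by rw [Matrix.smul_mul, qm_mul_self, smul_smul, inv_mul_cancel₀ h, one_smul]⟩

lemma xh_val (α s t a b c : F) (h : qn α s t a b c ≠ 0) :
    ((xh α s t a b c h : GL (Fin 2) F) : Matrix (Fin 2) (Fin 2) F) = qm α s t a b c := rfl

lemma xh_inv_val (α s t a b c : F) (h : qn α s t a b c ≠ 0) :
    (((xh α s t a b c h)⁻¹ : GL (Fin 2) F) : Matrix (Fin 2) (Fin 2) F) =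
      (qn α s t a b c)⁻¹ • qm α s t a b c := rfl

open Classical in
/-- the lift of a vector `x` (its projection to `U`) to `GL_2`; `1` if the norm vanishes -/
noncomputable def xhat (u1 u2 u3 : ι → F) (α s t : F) (x : ι → F) : GL (Fin 2) F :=
  if h : qn α s t (cd Q u1 x) (cd Q u2 x) (cd Q u3 x) ≠ 0 then
    xh α s t (cd Q u1 x) (cd Q u2 x) (cd Q u3 x) h else 1

/-- `phi (g v) = X (phi v) X⁻¹` -/
def Rel (u1 u2 u3 : ι → F) (α s t : F) (g : ↥(Cfsg.isometryGroup F ⇑Q)) (X : GL (Fin 2) F) : Prop :=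
  ∀ v : ι → F, phi Q u1 u2 u3 α s t (toOG Q g v) =
    (X : Matrix (Fin 2) (Fin 2) F) * phi Q u1 u2 u3 α s t v * ((X⁻¹ : GL (Fin 2) F) : Matrix (Fin 2) (Fin 2) F)

/-- `g` maps `U = ⟨u1, u2, u3⟩` into itself -/
def PresU (u1 u2 u3 : ι → F) (g : ↥(Cfsg.isometryGroup F ⇑Q)) : Prop :=
  ∀ a b c : F, ∃ a' b' c' : F, toOG Q g (lc u1 u2 u3 a b c) = lc u1 u2 u3 a' b' c'

/-- `g` fixes `U^⊥` pointwise -/
def FixP (u1 u2 u3 : ι → F) (g : ↥(Cfsg.isometryGroup F ⇑Q)) : Prop :=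
  ∀ w : ι → F, polar Q u1 w = 0 → polar Q u2 w = 0 → polar Q u3 w = 0 → toOG Q g w = w

variable {Q}

lemma rel_one (u1 u2 u3 : ι → F) (α s t : F) : Rel Q u1 u2 u3 α s t 1 1 := by
  intro v
  rw [map_one, inv_one, Units.val_one, Matrix.one_mul, Matrix.mul_one]
  rfl

lemma Rel.mul {u1 u2 u3 : ι → F} {α s t : F} {g g' : ↥(Cfsg.isometryGroup F ⇑Q)} {X X' : GL (Fin 2) F}
    (h : Rel Q u1 u2 u3 α s t g X) (h' : Rel Q u1 u2 u3 α s t g' X') :
    Rel Q u1 u2 u3 α s t (g * g') (X * X') := by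
  intro v
  rw [map_mul, LinearEquiv.mul_apply, h, h', _root_.mul_inv_rev, Units.val_mul, Units.val_mul]
  simp only [Matrix.mul_assoc]

lemma Rel.inv {u1 u2 u3 : ι → F} {α s t : F} {g : ↥(Cfsg.isometryGroup F ⇑Q)} {X : GL (Fin 2) F}
    (h : Rel Q u1 u2 u3 α s t g X) : Rel Q u1 u2 u3 α s t g⁻¹ X⁻¹ := by
  intro v
  have h1 := h (toOG Q g⁻¹ v)
  have e : toOG Q g (toOG Q g⁻¹ v) = v := by
    rw [← LinearEquiv.mul_apply, ← map_mul, mul_inv_cancel, map_one]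
    rfl
  rw [e] at h1
  rw [h1, inv_inv]
  have e1 : ((X⁻¹ : GL (Fin 2) F) : Matrix (Fin 2) (Fin 2) F) * (X : Matrix (Fin 2) (Fin 2) F) = 1 := by
    rw [← Units.val_mul, inv_mul_cancel, Units.val_one]
  rw [← Matrix.mul_assoc, ← Matrix.mul_assoc, e1, Matrix.one_mul, Matrix.mul_assoc, e1, Matrix.mul_one]

lemma Rel.pow {u1 u2 u3 : ι → F} {α s t : F} {g : ↥(Cfsg.isometryGroup F ⇑Q)} {X : GL (Fin 2) F}
    (h : Rel Q u1 u2 u3 α s t g X) (n : ℕ) : Rel Q u1 u2 u3 α s t (g ^ n) (X ^ n) := by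
  induction n with
  | zero => rw [pow_zero, pow_zero]; exact rel_one _ _ _ _ _ _
  | succ n ih => rw [pow_succ, pow_succ]; exact ih.mul h

lemma presU_one (u1 u2 u3 : ι → F) : PresU Q u1 u2 u3 1 := by
  intro a b c
  exact ⟨a, b, c, by rw [map_one]; rfl⟩

lemma PresU.mul {u1 u2 u3 : ι → F} {g g' : ↥(Cfsg.isometryGroup F ⇑Q)}
    (h : PresU Q u1 u2 u3 g) (h' : PresU Q u1 u2 u3 g') : PresU Q u1 u2 u3 (g * g') := by
  intro a b c
  obtain ⟨a', b', c', e'⟩ := h' a b c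
  obtain ⟨a'', b'', c'', e''⟩ := h a' b' c'
  exact ⟨a'', b'', c'', by rw [map_mul, LinearEquiv.mul_apply, e', e'']⟩

lemma PresU.pow {u1 u2 u3 : ι → F} {g : ↥(Cfsg.isometryGroup F ⇑Q)}
    (h : PresU Q u1 u2 u3 g) (n : ℕ) : PresU Q u1 u2 u3 (g ^ n) := by
  induction n with
  | zero => rw [pow_zero]; exact presU_one _ _ _
  | succ n ih => rw [pow_succ]; exact ih.mul h

lemma fixP_one (u1 u2 u3 : ι → F) : FixP Q u1 u2 u3 1 := by
  intro w _ _ _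
  rw [map_one]; rfl

lemma FixP.mul {u1 u2 u3 : ι → F} {g g' : ↥(Cfsg.isometryGroup F ⇑Q)}
    (h : FixP Q u1 u2 u3 g) (h' : FixP Q u1 u2 u3 g') : FixP Q u1 u2 u3 (g * g') := by
  intro w h1 h2 h3
  rw [map_mul, LinearEquiv.mul_apply, h' w h1 h2 h3, h w h1 h2 h3]

lemma FixP.inv {u1 u2 u3 : ι → F} {g : ↥(Cfsg.isometryGroup F ⇑Q)}
    (h : FixP Q u1 u2 u3 g) : FixP Q u1 u2 u3 g⁻¹ := by
  intro w h1 h2 h3
  have e := h w h1 h2 h3
  have e2 : toOG Q g⁻¹ (toOG Q g w) = w := by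
    rw [← LinearEquiv.mul_apply, ← map_mul, inv_mul_cancel, map_one]
    rfl
  rw [e] at e2
  exact e2

section mod
variable {u1 u2 u3 : ι → F} {α s t : F} (hM : Mod3 Q u1 u2 u3 α s t)
include hM

lemma Mod3.mu_ne : Q u3 / (Q u1 * Q u2) ≠ 0 :=
  div_ne_zero hM.q3 (mul_ne_zero hM.q1 hM.q2)

lemma Mod3.qn_ne {a b c : F} (hx : Q (lc u1 u2 u3 a b c) ≠ 0) : qn α s t a b c ≠ 0 := by
  rw [hM.qn_lc]
  exact mul_ne_zero (neg_ne_zero.mpr hM.mu_ne) hx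

lemma Mod3.xhat_lc {a b c : F} (hx : Q (lc u1 u2 u3 a b c) ≠ 0) :
    xhat Q u1 u2 u3 α s t (lc u1 u2 u3 a b c) = xh α s t a b c (hM.qn_ne hx) := by
  unfold xhat
  have h : qn α s t (cd Q u1 (lc u1 u2 u3 a b c)) (cd Q u2 (lc u1 u2 u3 a b c))
      (cd Q u3 (lc u1 u2 u3 a b c)) ≠ 0 := by
    rw [hM.cd1_lc, hM.cd2_lc, hM.cd3_lc]
    exact hM.qn_ne hx
  rw [dif_pos h]
  congr 1
  · exact hM.cd1_lc a b c
  · exact hM.cd2_lc a b c
  · exact hM.cd3_lc a b c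

/-- `-r_x` corresponds to conjugation by `x̂` -/
lemma Mod3.rel_negRefl {a b c : F} (hx : Q (lc u1 u2 u3 a b c) ≠ 0) :
    Rel Q u1 u2 u3 α s t (negRefl Q (lc u1 u2 u3 a b c)) (xhat Q u1 u2 u3 α s t (lc u1 u2 u3 a b c)) := by
  intro v
  rw [hM.xhat_lc hx, xh_val, xh_inv_val, toOG_negRefl, reflE_apply, phi_neg, phi_sub, phi_smul, hM.phi_lc,
    Matrix.mul_smul]
  have e : qm α s t a b c * phi Q u1 u2 u3 α s t v * qm α s t a b c =
      -(qn α s t a b c • phi Q u1 u2 u3 α s t v) +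
        (2 * qb α s t a b c (cd Q u1 v) (cd Q u2 v) (cd Q u3 v)) • qm α s t a b c := by
    unfold phi
    exact qm_sandwich α s t a b c _ _ _
  rw [e, hM.qb_lc, smul_add, smul_neg, smul_smul, smul_smul, inv_mul_cancel₀ (hM.qn_ne hx), one_smul,
    hM.qn_lc]
  have hμ := hM.mu_ne
  have e2 : (-(Q u3 / (Q u1 * Q u2)) * Q (lc u1 u2 u3 a b c))⁻¹ *
      (-(Q u3 / (Q u1 * Q u2)) * polar Q (lc u1 u2 u3 a b c) v) =
      (Q (lc u1 u2 u3 a b c))⁻¹ * polar Q (lc u1 u2 u3 a b c) v := by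
    have h1 := hM.q1
    have h2 := hM.q2
    have h3 := hM.q3
    field_simp
  rw [e2]
  abel

/-- `-r_x`, `x ∈ U`, maps `U` into itself -/
lemma Mod3.presU_negRefl (a b c : F) : PresU Q u1 u2 u3 (negRefl Q (lc u1 u2 u3 a b c)) := by
  intro a' b' c'
  obtain ⟨l, hl⟩ : ∃ l, l = (Q (lc u1 u2 u3 a b c))⁻¹ * polar Q (lc u1 u2 u3 a b c) (lc u1 u2 u3 a' b' c') :=
    ⟨_, rfl⟩
  refine ⟨-(a' - l * a), -(b' - l * b), -(c' - l * c), ?_⟩
  rw [toOG_negRefl, reflE_apply, ← hl]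
  unfold lc
  module

/-- `-r_x`, `x ∈ U`, is `-1` on `U^⊥` -/
lemma Mod3.negRefl_perp (a b c : F) (w : ι → F) (h1 : polar Q u1 w = 0) (h2 : polar Q u2 w = 0)
    (h3 : polar Q u3 w = 0) : toOG Q (negRefl Q (lc u1 u2 u3 a b c)) w = -w := by
  rw [toOG_negRefl, reflE_apply]
  have e : polar Q (lc u1 u2 u3 a b c) w = 0 := by
    unfold lc
    rw [polar_add_left, polar_add_left, polar_smul_left, polar_smul_left, polar_smul_left, h1, h2, h3]
    simp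
  rw [e, mul_zero, zero_smul, sub_zero]

/-- `phi` is injective on `U` -/
lemma Mod3.lc_eq_of_phi_eq {a b c a' b' c' : F}
    (h : phi Q u1 u2 u3 α s t (lc u1 u2 u3 a b c) = phi Q u1 u2 u3 α s t (lc u1 u2 u3 a' b' c')) :
    lc u1 u2 u3 a b c = lc u1 u2 u3 a' b' c' := by
  rw [hM.phi_lc, hM.phi_lc] at h
  have h0 : qm α s t (a - a') (b - b') (c - c') = 0 := by
    have := qm_add α s t a' b' c' (a - a') (b - b') (c - c')
    rw [add_sub_cancel, add_sub_cancel, add_sub_cancel, ← h] at this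
    exact add_eq_left.mp this
  have hβ : s ^ 2 - α * t ^ 2 ≠ 0 := by
    rw [hM.hβ]
    exact neg_ne_zero.mpr (div_ne_zero hM.q3 hM.q1)
  have hα : α ≠ 0 := by
    rw [hM.hα]
    exact neg_ne_zero.mpr (div_ne_zero hM.q3 hM.q2)
  obtain ⟨e1, e2, e3⟩ := qm_eq_zero hM.h2 hα hβ h0
  rw [sub_eq_zero.mp e1, sub_eq_zero.mp e2, sub_eq_zero.mp e3]

end mod

end Cfsg.Agent.Lib.Helper29.FrDB
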