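import Mathlib
import Cfsg.Agent.Lib.Helper29.FrDBRel

/-!
S5679 / S5696 CORE13, the DICKSON BRIDGE: for a set `R` of non-singular vectors of `U`, the group `Gp` of even words in the
`-r_x` (`x ∈ R`) and the group `Xp ≤ GL_2(F)` of even words in the `x̂`; every element of one has a partner in the other
(`Rel`), and the elements of `Gp` map `U` to `U` and fix `U^⊥` pointwise.
-/

set_option autoImplicit false
set_option linter.unusedSectionVars false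
set_option linter.unusedVariables false
set_option linter.unusedSimpArgs false

namespace Cfsg.Agent.Lib.Helper29.FrDB
open Module QuadraticMap Matrix Cfsg.Agent.Lib.Helper25.CD Cfsg.Agent.Lib.Helper25.Spin
  Cfsg.Agent.Lib.Helper17.OC2

variable {ι : Type} [Fintype ι] [DecidableEq ι] {F : Type*} [Field F] [Fintype F]
  (Q : QuadraticForm F (ι → F))

/-- `R` consists of non-singular vectors of `U` -/
structure RSet (u1 u2 u3 : ι → F) (R : Set (ι → F)) : Prop where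
  mem : ∀ x ∈ R, ∃ a b c : F, x = lc u1 u2 u3 a b c
  ns : ∀ x ∈ R, Q x ≠ 0

/-- the group of even words in the `-r_x`, `x ∈ R` -/
def Gp (R : Set (ι → F)) : Subgroup ↥(Cfsg.isometryGroup F ⇑Q) :=
  Subgroup.closure {g | ∃ x ∈ R, ∃ y ∈ R, g = negRefl Q x * negRefl Q y}

/-- the group of even words in the `x̂`, `x ∈ R` -/
def Xp (u1 u2 u3 : ι → F) (α s t : F) (R : Set (ι → F)) : Subgroup (GL (Fin 2) F) :=
  Subgroup.closure {X | ∃ x ∈ R, ∃ y ∈ R, X = xhat Q u1 u2 u3 α s t x * xhat Q u1 u2 u3 α s t y}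

/-- the group of all words in the `-r_x`, `x ∈ R` -/
def G1 (R : Set (ι → F)) : Subgroup ↥(Cfsg.isometryGroup F ⇑Q) :=
  Subgroup.closure (negRefl Q '' R)

/-- the group of all words in the `x̂`, `x ∈ R` -/
def X1 (u1 u2 u3 : ι → F) (α s t : F) (R : Set (ι → F)) : Subgroup (GL (Fin 2) F) :=
  Subgroup.closure (xhat Q u1 u2 u3 α s t '' R)

variable {Q}
variable {u1 u2 u3 : ι → F} {α s t : F} (hM : Mod3 Q u1 u2 u3 α s t) {R : Set (ι → F)}
  (hR : RSet Q u1 u2 u3 R)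
include hM hR

/-- the basic pair `(-r_x)(-r_y)`, `x̂ ŷ` -/
lemma pair_rel {x y : ι → F} (hx : x ∈ R) (hy : y ∈ R) :
    Rel Q u1 u2 u3 α s t (negRefl Q x * negRefl Q y)
        (xhat Q u1 u2 u3 α s t x * xhat Q u1 u2 u3 α s t y) ∧
      PresU Q u1 u2 u3 (negRefl Q x * negRefl Q y) ∧ PresU Q u1 u2 u3 (negRefl Q x * negRefl Q y)⁻¹ ∧
      FixP Q u1 u2 u3 (negRefl Q x * negRefl Q y) := by
  obtain ⟨a, b, c, rfl⟩ := hR.mem x hx
  obtain ⟨a', b', c', rfl⟩ := hR.mem y hy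
  refine ⟨(hM.rel_negRefl (hR.ns _ hx)).mul (hM.rel_negRefl (hR.ns _ hy)),
    (hM.presU_negRefl a b c).mul (hM.presU_negRefl a' b' c'), ?_, ?_⟩
  · rw [_root_.mul_inv_rev, negRefl_inv, negRefl_inv]
    exact (hM.presU_negRefl a' b' c').mul (hM.presU_negRefl a b c)
  · intro w h1 h2 h3
    rw [map_mul, LinearEquiv.mul_apply, hM.negRefl_perp a' b' c' w h1 h2 h3, map_neg,
      hM.negRefl_perp a b c w h1 h2 h3, neg_neg]

/-- every element of `Xp` has a partner in `Gp` -/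
theorem lift_X {X : GL (Fin 2) F} (hX : X ∈ Xp Q u1 u2 u3 α s t R) :
    ∃ g ∈ Gp Q R, Rel Q u1 u2 u3 α s t g X ∧ PresU Q u1 u2 u3 g ∧ PresU Q u1 u2 u3 g⁻¹ ∧
      FixP Q u1 u2 u3 g := by
  unfold Xp at hX
  induction hX using Subgroup.closure_induction with
  | mem X hX =>
    obtain ⟨x, hx, y, hy, rfl⟩ := hX
    exact ⟨_, Subgroup.subset_closure ⟨x, hx, y, hy, rfl⟩, pair_rel hM hR hx hy⟩
  | one => exact ⟨1, Subgroup.one_mem _, rel_one _ _ _ _ _ _, presU_one _ _ _,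
      by rw [inv_one]; exact presU_one _ _ _, fixP_one _ _ _⟩
  | mul X Y _ _ ihX ihY =>
    obtain ⟨g, hg, h1, h2, h3, h4⟩ := ihX
    obtain ⟨g', hg', h1', h2', h3', h4'⟩ := ihY
    refine ⟨g * g', Subgroup.mul_mem _ hg hg', h1.mul h1', h2.mul h2', ?_, h4.mul h4'⟩
    rw [_root_.mul_inv_rev]
    exact h3'.mul h3
  | inv X _ ih =>
    obtain ⟨g, hg, h1, h2, h3, h4⟩ := ih
    exact ⟨g⁻¹, Subgroup.inv_mem _ hg, h1.inv, h3, by rw [inv_inv]; exact h2, h4.inv⟩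

/-- every element of `Gp` has a partner in `Xp` -/
theorem lift_G {g : ↥(Cfsg.isometryGroup F ⇑Q)} (hg : g ∈ Gp Q R) :
    ∃ X ∈ Xp Q u1 u2 u3 α s t R, Rel Q u1 u2 u3 α s t g X ∧ PresU Q u1 u2 u3 g ∧ PresU Q u1 u2 u3 g⁻¹ ∧
      FixP Q u1 u2 u3 g := by
  unfold Gp at hg
  induction hg using Subgroup.closure_induction with
  | mem g hg =>
    obtain ⟨x, hx, y, hy, rfl⟩ := hg
    exact ⟨_, Subgroup.subset_closure ⟨x, hx, y, hy, rfl⟩, pair_rel hM hR hx hy⟩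
  | one => exact ⟨1, Subgroup.one_mem _, rel_one _ _ _ _ _ _, presU_one _ _ _,
      by rw [inv_one]; exact presU_one _ _ _, fixP_one _ _ _⟩
  | mul g g' _ _ ihX ihY =>
    obtain ⟨X, hX, h1, h2, h3, h4⟩ := ihX
    obtain ⟨X', hX', h1', h2', h3', h4'⟩ := ihY
    refine ⟨X * X', Subgroup.mul_mem _ hX hX', h1.mul h1', h2.mul h2', ?_, h4.mul h4'⟩
    rw [_root_.mul_inv_rev]
    exact h3'.mul h3
  | inv g _ ih =>
    obtain ⟨X, hX, h1, h2, h3, h4⟩ := ih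
    exact ⟨X⁻¹, Subgroup.inv_mem _ hX, h1.inv, h3, by rw [inv_inv]; exact h2, h4.inv⟩

/-- every element of `G1` has a partner in `X1` -/
theorem lift_G1 {g : ↥(Cfsg.isometryGroup F ⇑Q)} (hg : g ∈ G1 Q R) :
    ∃ X ∈ X1 Q u1 u2 u3 α s t R, Rel Q u1 u2 u3 α s t g X ∧ PresU Q u1 u2 u3 g ∧ PresU Q u1 u2 u3 g⁻¹ := by
  unfold G1 at hg
  induction hg using Subgroup.closure_induction with
  | mem g hg =>
    obtain ⟨x, hx, rfl⟩ := hg
    obtain ⟨a, b, c, rfl⟩ := hR.mem x hx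
    refine ⟨_, Subgroup.subset_closure ⟨_, hx, rfl⟩, hM.rel_negRefl (hR.ns _ hx), hM.presU_negRefl a b c, ?_⟩
    rw [negRefl_inv]
    exact hM.presU_negRefl a b c
  | one => exact ⟨1, Subgroup.one_mem _, rel_one _ _ _ _ _ _, presU_one _ _ _,
      by rw [inv_one]; exact presU_one _ _ _⟩
  | mul g g' _ _ ihX ihY =>
    obtain ⟨X, hX, h1, h2, h3⟩ := ihX
    obtain ⟨X', hX', h1', h2', h3'⟩ := ihY
    refine ⟨X * X', Subgroup.mul_mem _ hX hX', h1.mul h1', h2.mul h2', ?_⟩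
    rw [_root_.mul_inv_rev]
    exact h3'.mul h3
  | inv g _ ih =>
    obtain ⟨X, hX, h1, h2, h3⟩ := ih
    exact ⟨X⁻¹, Subgroup.inv_mem _ hX, h1.inv, h3, by rw [inv_inv]; exact h2⟩

end Cfsg.Agent.Lib.Helper29.FrDB
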