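import Mathlib
import Cfsg.Agent.Lib.Helper29.FrDBLift
import Cfsg.Agent.Lib.Helper29.FrDBCases
import Cfsg.Agent.Lib.Helper29.FrDBConj

/-!
S5679 / S5696 CORE13, the DICKSON BRIDGE, core form `bridge_core`: in the coordinates of an orthogonal basis `u1 u2 u3` of
`U`, from the trichotomy `Tri` for `X1` (all words in the `x̂`) and `Xp` (even words).
-/

set_option autoImplicit false
set_option linter.unusedSectionVars false
set_option linter.unusedVariables false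
set_option linter.unusedSimpArgs false

namespace Cfsg.Agent.Lib.Helper29.FrDB
open Module QuadraticMap Matrix Cfsg.Agent.Lib.Helper25.CD Cfsg.Agent.Lib.Helper25.Spin
  Cfsg.Agent.Lib.Helper17.OC2

variable {ι : Type} [Fintype ι] [DecidableEq ι] {F : Type*} [Field F] [Fintype F]
  {Q : QuadraticForm F (ι → F)}
  {u1 u2 u3 : ι → F} {α s t : F} {R : Set (ι → F)}

lemma units_smul_ne {x : GL (Fin 2) F} {c : F} {S : Matrix (Fin 2) (Fin 2) F}
    (h : (x : Matrix (Fin 2) (Fin 2) F) = c • S) : c ≠ 0 := by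
  rintro rfl
  rw [zero_smul] at h
  have h1 : (x : Matrix (Fin 2) (Fin 2) F) * ((x⁻¹ : GL (Fin 2) F) : Matrix (Fin 2) (Fin 2) F) = 1 := by
    rw [← Units.val_mul, mul_inv_cancel, Units.val_one]
  rw [h, Matrix.zero_mul] at h1
  exact zero_ne_one h1

/-- the inverse of a unit whose matrix is `c • S`, `S T = 1` -/
lemma units_inv_val {x : GL (Fin 2) F} {c : F} {S T : Matrix (Fin 2) (Fin 2) F}
    (h : (x : Matrix (Fin 2) (Fin 2) F) = c • S) (hST : S * T = 1) :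
    ((x⁻¹ : GL (Fin 2) F) : Matrix (Fin 2) (Fin 2) F) = c⁻¹ • T := by
  have hc := units_smul_ne h
  rw [Matrix.coe_units_inv]
  apply Matrix.inv_eq_right_inv
  rw [h, Matrix.smul_mul, Matrix.mul_smul, smul_smul, mul_inv_cancel₀ hc, one_smul, hST]

/-- conjugating by `c • S` is conjugating by `S` -/
lemma conj_smul {x : GL (Fin 2) F} {c : F} {S T : Matrix (Fin 2) (Fin 2) F}
    (h : (x : Matrix (Fin 2) (Fin 2) F) = c • S) (hST : S * T = 1) (A : Matrix (Fin 2) (Fin 2) F) :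
    (x : Matrix (Fin 2) (Fin 2) F) * A * ((x⁻¹ : GL (Fin 2) F) : Matrix (Fin 2) (Fin 2) F) = S * A * T := by
  have hc := units_smul_ne h
  rw [units_inv_val h hST, h, Matrix.smul_mul, Matrix.smul_mul, Matrix.mul_smul, smul_smul, mul_inv_cancel₀ hc,
    one_smul]

theorem bridge_core (hM : Mod3 Q u1 u2 u3 α s t) (hR : RSet Q u1 u2 u3 R) (hodd : Fintype.card F % 2 = 1)
    {p : ℕ} [Fact p.Prime] [CharP F p] (hp5 : 5 ≤ p)
    (htri : ∀ X : Subgroup (GL (Fin 2) F), Tri p X)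
    (hsq : ∀ x ∈ X1 Q u1 u2 u3 α s t R, x * x ∈ Xp Q u1 u2 u3 α s t R)
    (hirr : ∀ a b c : F, lc u1 u2 u3 a b c ≠ 0 → ∃ x ∈ R, polar Q x (lc u1 u2 u3 a b c) ≠ 0 ∧
      lc u1 u2 u3 a b c ∉ Submodule.span F {x})
    (M : Subgroup ↥(Cfsg.isometryGroup F ⇑Q)) (hRM : ∀ x ∈ R, negRefl Q x ∈ M) :
    (∀ a b c a' b' c' : F, Q (lc u1 u2 u3 a b c) = Q (lc u1 u2 u3 a' b' c') → Q (lc u1 u2 u3 a b c) ≠ 0 →
      ∃ g ∈ M, toOG Q g (lc u1 u2 u3 a b c) = lc u1 u2 u3 a' b' c' ∧ FixP Q u1 u2 u3 g) ∨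
    (∀ g ∈ G1 Q R, ∃ k : ℕ, 1 ≤ k ∧ k ≤ 5 ∧ k ≠ p ∧
      ∀ a b c : F, toOG Q (g ^ k) (lc u1 u2 u3 a b c) = lc u1 u2 u3 a b c) := by
  have h2 := hM.h2
  have hα : α ≠ 0 := by
    rw [hM.hα]
    exact neg_ne_zero.mpr (div_ne_zero hM.q3 hM.q2)
  have hβ : s ^ 2 - α * t ^ 2 ≠ 0 := by
    rw [hM.hβ]
    exact neg_ne_zero.mpr (div_ne_zero hM.q3 hM.q1)
  have hGpM : Gp Q R ≤ M := by
    unfold Gp
    rw [Subgroup.closure_le]
    rintro g ⟨x, hx, y, hy, rfl⟩
    exact M.mul_mem (hRM x hx) (hRM y hy)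
  -- the two transvections
  have hU2 : (!![1, 2; 0, 1] : Matrix (Fin 2) (Fin 2) F) * !![1, -2; 0, 1] = 1 := by
    rw [Matrix.mul_fin_two, Matrix.one_fin_two]
    simp
  have hL2 : (!![1, 0; 2, 1] : Matrix (Fin 2) (Fin 2) F) * !![1, 0; -2, 1] = 1 := by
    rw [Matrix.mul_fin_two, Matrix.one_fin_two]
    simp
  -- from (A) for `X1`: the squares of the two transvections (up to scalars) lie in `Xp`
  have hsqU : (∀ s' : Matrix.SpecialLinearGroup (Fin 2) F, ∃ x ∈ X1 Q u1 u2 u3 α s t R, ∃ c : F,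
      (x : Matrix (Fin 2) (Fin 2) F) = c • (s' : Matrix (Fin 2) (Fin 2) F)) →
      (∃ y ∈ Xp Q u1 u2 u3 α s t R, ∃ c : F, (y : Matrix (Fin 2) (Fin 2) F) = c • !![1, 2; 0, 1]) ∧
      (∃ y ∈ Xp Q u1 u2 u3 α s t R, ∃ c : F, (y : Matrix (Fin 2) (Fin 2) F) = c • !![1, 0; 2, 1]) := by
    intro hA
    constructor
    · obtain ⟨x, hx, c, hxc⟩ := hA ⟨!![1, 1; 0, 1], by simp [Matrix.det_fin_two]⟩
      refine ⟨x * x, hsq x hx, c * c, ?_⟩
      rw [Units.val_mul, hxc]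
      change c • !![1, 1; 0, 1] * c • !![1, 1; 0, 1] = _
      rw [Matrix.smul_mul, Matrix.mul_smul, smul_smul, Matrix.mul_fin_two]
      congr 1
      ext i j
      fin_cases i <;> fin_cases j <;> simp
      norm_num
    · obtain ⟨x, hx, c, hxc⟩ := hA ⟨!![1, 0; 1, 1], by simp [Matrix.det_fin_two]⟩
      refine ⟨x * x, hsq x hx, c * c, ?_⟩
      rw [Units.val_mul, hxc]
      change c • !![1, 0; 1, 1] * c • !![1, 0; 1, 1] = _
      rw [Matrix.smul_mul, Matrix.mul_smul, smul_smul, Matrix.mul_fin_two]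
      congr 1
      ext i j
      fin_cases i <;> fin_cases j <;> simp
      norm_num
  rcases htri (X1 Q u1 u2 u3 α s t R) with hA | hB | hC
  · -- (A)
    obtain ⟨⟨yU, hyU, cU, hyUc⟩, ⟨yL, hyL, cL, hyLc⟩⟩ := hsqU hA
    rcases htri (Xp Q u1 u2 u3 α s t R) with hA' | hB' | hC'
    · -- (A⁺) : transitivity
      left
      intro a b c a' b' c' hQ hne
      have hdet : (qm α s t a b c).det = (qm α s t a' b' c').det := by
        rw [qm_det, qm_det, hM.qn_lc, hM.qn_lc, hQ]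
      have hd : (qm α s t a b c).det ≠ 0 := by
        rw [qm_det]
        exact neg_ne_zero.mpr (hM.qn_ne hne)
      obtain ⟨S, hS1, hSA⟩ := exists_SL_conj hodd h2 (qm α s t a b c) (qm α s t a' b' c')
        (qm_trace _ _ _ _ _ _) (qm_trace _ _ _ _ _ _) hdet hd
      obtain ⟨x, hx, c₀, hxc⟩ := hA' ⟨S, hS1⟩
      change (x : Matrix (Fin 2) (Fin 2) F) = c₀ • S at hxc
      obtain ⟨g, hg, hrel, hpres, -, hfix⟩ := lift_X hM hR hx
      refine ⟨g, hGpM hg, ?_, hfix⟩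
      obtain ⟨a'', b'', c'', hgu⟩ := hpres a b c
      rw [hgu]
      apply hM.lc_eq_of_phi_eq
      rw [← hgu, hrel, hM.phi_lc, hM.phi_lc]
      have e1 : (x : Matrix (Fin 2) (Fin 2) F) * qm α s t a b c = qm α s t a' b' c' * (x : Matrix (Fin 2) (Fin 2) F) := by
        rw [hxc, Matrix.smul_mul, hSA, Matrix.mul_smul]
      rw [e1, Matrix.mul_assoc, ← Units.val_mul, mul_inv_cancel, Units.val_one, Matrix.mul_one]
    · -- (B⁺)
      exfalso
      obtain ⟨g, hg, -, hgns, hnorm⟩ := hB'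
      obtain ⟨g₀, hg₀⟩ : ∃ g₀, g₀ = (g : Matrix (Fin 2) (Fin 2) F) -
          ((g : Matrix (Fin 2) (Fin 2) F).trace / 2) • (1 : Matrix (Fin 2) (Fin 2) F) := ⟨_, rfl⟩
      have hg₀tr : g₀.trace = 0 := by
        rw [hg₀, Matrix.trace_sub, Matrix.trace_smul, Matrix.trace_one]
        simp only [Fintype.card_fin, smul_eq_mul, Nat.cast_ofNat]
        rw [div_mul_cancel₀ _ h2, sub_self]
      have hg₀ne : g₀ ≠ 0 := by
        intro h0
        rw [hg₀, sub_eq_zero] at h0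
        exact hgns _ h0
      have key : ∀ y ∈ Xp Q u1 u2 u3 α s t R, ∀ (c : F) (S T : Matrix (Fin 2) (Fin 2) F),
          (y : Matrix (Fin 2) (Fin 2) F) = c • S → S * T = 1 → ∃ l : F, S * g₀ * T = l • g₀ := by
        intro y hy c S T hyc hST
        obtain ⟨k, c', hconj⟩ := hnorm y hy
        rw [Units.val_mul, Units.val_mul, Units.val_pow_eq_pow_val] at hconj
        have hx1 : (y : Matrix (Fin 2) (Fin 2) F) * ((y⁻¹ : GL (Fin 2) F) : Matrix (Fin 2) (Fin 2) F) = 1 := by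
          rw [← Units.val_mul, mul_inv_cancel, Units.val_one]
        have hx2 : ((y⁻¹ : GL (Fin 2) F) : Matrix (Fin 2) (Fin 2) F) * (y : Matrix (Fin 2) (Fin 2) F) = 1 := by
          rw [← Units.val_mul, inv_mul_cancel, Units.val_one]
        obtain ⟨l, hl⟩ := conj_traceless_part h2 _ _ _ hx1 hx2 k c' hconj
        rw [← hg₀, conj_smul hyc hST] at hl
        exact ⟨l, hl⟩
      obtain ⟨l, hl⟩ := key yU hyU cU _ _ hyUc hU2
      obtain ⟨l', hl'⟩ := key yL hyL cL _ _ hyLc hL2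
      exact transv_no_line h2 g₀ hg₀tr hg₀ne l l' hl hl'
    · -- (C⁺)
      exfalso
      obtain ⟨m, hm1, hm5, hmp, c', hpow⟩ := hC' yU hyU
      rw [Units.val_pow_eq_pow_val, hyUc, smul_pow, upper_pow] at hpow
      have h01 := congrFun (congrFun hpow 0) 1
      simp at h01
      have hcU := units_smul_ne hyUc
      have hm0 : (m : F) = 0 := by
        rcases h01 with h | h
        · exact absurd h.1 hcU
        · rcases h with h | h
          · exact h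
          · exact absurd h h2
      rw [CharP.cast_eq_zero_iff F p] at hm0
      have := Nat.le_of_dvd (by omega) hm0
      omega
  · -- (B)
    exfalso
    obtain ⟨g, hg, -, hgns, hnorm⟩ := hB
    obtain ⟨g₀, hg₀⟩ : ∃ g₀, g₀ = (g : Matrix (Fin 2) (Fin 2) F) -
        ((g : Matrix (Fin 2) (Fin 2) F).trace / 2) • (1 : Matrix (Fin 2) (Fin 2) F) := ⟨_, rfl⟩
    have hg₀tr : g₀.trace = 0 := by
      rw [hg₀, Matrix.trace_sub, Matrix.trace_smul, Matrix.trace_one]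
      simp only [Fintype.card_fin, smul_eq_mul, Nat.cast_ofNat]
      rw [div_mul_cancel₀ _ h2, sub_self]
    have hg₀ne : g₀ ≠ 0 := by
      intro h0
      rw [hg₀, sub_eq_zero] at h0
      exact hgns _ h0
    obtain ⟨a, b, c, habc⟩ := exists_qm h2 hα hβ g₀ hg₀tr
    have hw0 : lc u1 u2 u3 a b c ≠ 0 := by
      intro h0
      apply hg₀ne
      rw [habc, ← hM.phi_lc, h0]
      unfold phi cd
      simp only [polar_zero_right, zero_div]
      exact qm_zero α s t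
    obtain ⟨x, hxR, hpol, hnspan⟩ := hirr a b c hw0
    obtain ⟨a₁, b₁, c₁, rfl⟩ := hR.mem x hxR
    have hQx := hR.ns _ hxR
    have hxX : xhat Q u1 u2 u3 α s t (lc u1 u2 u3 a₁ b₁ c₁) ∈ X1 Q u1 u2 u3 α s t R :=
      Subgroup.subset_closure ⟨_, hxR, rfl⟩
    obtain ⟨k, c', hconj⟩ := hnorm _ hxX
    rw [Units.val_mul, Units.val_mul, Units.val_pow_eq_pow_val] at hconj
    obtain ⟨X, hXdef⟩ : ∃ X, X = xhat Q u1 u2 u3 α s t (lc u1 u2 u3 a₁ b₁ c₁) := ⟨_, rfl⟩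
    rw [← hXdef] at hconj
    have hx1 : (X : Matrix (Fin 2) (Fin 2) F) * ((X⁻¹ : GL (Fin 2) F) : Matrix (Fin 2) (Fin 2) F) = 1 := by
      rw [← Units.val_mul, mul_inv_cancel, Units.val_one]
    have hx2 : ((X⁻¹ : GL (Fin 2) F) : Matrix (Fin 2) (Fin 2) F) * (X : Matrix (Fin 2) (Fin 2) F) = 1 := by
      rw [← Units.val_mul, inv_mul_cancel, Units.val_one]
    obtain ⟨l, hl⟩ := conj_traceless_part h2 _ _ _ hx1 hx2 k c' hconj
    rw [← hg₀, habc] at hl
    have hrel := hM.rel_negRefl hQx (lc u1 u2 u3 a b c)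
    rw [← hXdef, hM.phi_lc, hl, qm_smul, ← hM.phi_lc (l * a) (l * b) (l * c)] at hrel
    obtain ⟨a'', b'', c'', hpu⟩ := hM.presU_negRefl a₁ b₁ c₁ a b c
    rw [hpu] at hrel
    have e1 := hM.lc_eq_of_phi_eq hrel
    rw [← hpu, toOG_negRefl, reflE_apply] at e1
    obtain ⟨lam, hlam⟩ : ∃ lam, lam = (Q (lc u1 u2 u3 a₁ b₁ c₁))⁻¹ *
        polar Q (lc u1 u2 u3 a₁ b₁ c₁) (lc u1 u2 u3 a b c) := ⟨_, rfl⟩
    rw [← hlam] at e1
    have hlam0 : lam ≠ 0 := by
      rw [hlam]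
      exact mul_ne_zero (inv_ne_zero hQx) hpol
    have e2 : lc u1 u2 u3 (l * a) (l * b) (l * c) = l • lc u1 u2 u3 a b c := by
      unfold lc
      module
    rw [e2] at e1
    have e3 : lam • lc u1 u2 u3 a₁ b₁ c₁ = (1 + l) • lc u1 u2 u3 a b c := by
      have : lam • lc u1 u2 u3 a₁ b₁ c₁ = lc u1 u2 u3 a b c + -(lc u1 u2 u3 a b c - lam • lc u1 u2 u3 a₁ b₁ c₁) := by
        abel
      rw [this, e1]
      module
    by_cases hl1 : 1 + l = 0
    · rw [hl1, zero_smul] at e3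
      rcases smul_eq_zero.mp e3 with h | h
      · exact hlam0 h
      · rw [h] at hQx
        exact hQx (map_zero Q)
    · apply hnspan
      rw [Submodule.mem_span_singleton]
      refine ⟨(1 + l)⁻¹ * lam, ?_⟩
      rw [mul_smul, e3, smul_smul, inv_mul_cancel₀ hl1, one_smul]
  · -- (C)
    right
    intro g hg
    obtain ⟨X, hX, hrel, hpres, -⟩ := lift_G1 hM hR hg
    obtain ⟨m, hm1, hm5, hmp, c', hpow⟩ := hC X hX
    refine ⟨m, hm1, hm5, hmp, ?_⟩
    intro a b c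
    have hrelm := hrel.pow m (lc u1 u2 u3 a b c)
    obtain ⟨a'', b'', c'', hpu⟩ := hpres.pow m a b c
    rw [hpu]
    apply hM.lc_eq_of_phi_eq
    rw [← hpu, hrelm]
    have h1 : (1 : Matrix (Fin 2) (Fin 2) F) * 1 = 1 := Matrix.one_mul 1
    rw [conj_smul hpow h1, Matrix.one_mul, Matrix.mul_one]

end Cfsg.Agent.Lib.Helper29.FrDB
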