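import Mathlib
import Cfsg.Agent.Lib.Helper29.FrDefs

/-!
helper29, S5696 dense exclusion, leaf **FE1** `sign_dichotomy`: in world (W), for an orthogonal group `L` containing the
sign changes at two coordinates, a column `j` of a non-monomial `B ∈ L` with at least 5 zeros forces every other column to meet
its zero set in at most one row, or to be supported inside it with weight at most 2.
-/

set_option autoImplicit false

namespace Cfsg.Agent.Lib.Helper29.FrLeaf
open Matrix Cfsg.Agent.Lib.Helper11.Mono Cfsg.Agent.Lib.Helper15.MonoLeaf Cfsg.Agent.Lib.Helper2.MonoLeaf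
  Cfsg.Agent.Lib.Helper29.Fr

variable {F : Type*} [Field F] [Fintype F] {ι : Type} [Fintype ι] [DecidableEq ι]

lemma tccm_val_same (c c' : ι) : ((tcc c c' (-1 : Fˣ) c : Fˣ) : F) = -1 := by
  rw [tcc_same]; simp

lemma tccm_val_other {c c' : ι} (h : c ≠ c') : ((tcc c c' (-1 : Fˣ) c' : Fˣ) : F) = -1 := by
  rw [tcc_other h]; simp

lemma tccm_val_off {c c' x : ι} (h1 : x ≠ c) (h2 : x ≠ c') : ((tcc c c' (-1 : Fˣ) x : Fˣ) : F) = 1 := by
  rw [tcc_off h1 h2]; simp

lemma sum_tccm {c c' : ι} (h : c ≠ c') (f : ι → F) :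
    ∑ x, (((tcc c c' (-1 : Fˣ) x : Fˣ) : F) - 1) * f x = -2 * (f c + f c') := by
  rw [Finset.sum_eq_add c c' h]
  · rw [tccm_val_same, tccm_val_other h]; ring
  · intro x _ hx
    rw [tccm_val_off hx.1 hx.2]; ring
  · intro hk; exact absurd (Finset.mem_univ c) hk
  · intro hk; exact absurd (Finset.mem_univ c') hk

/-- the basic dot-product consequence of `perm_frame`: a diagonal element `dg s ∈ L` fixing column `j` of `B` maps column `m`
to a multiple of itself, or to a vector orthogonal to it -/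
lemma dot_dich (L : Subgroup (GL ι F)) (hO : IsOrth L) (hW : WorldW L) (B : GL ι F) (hB : B ∈ L) (j m : ι)
    (s : ι → Fˣ) (hs : dg s ∈ L) (hfix : ∀ x, (B : Matrix ι ι F) x j ≠ 0 → s x = 1) :
    (1 + ∑ x, ((s x : F) - 1) * (B : Matrix ι ι F) x m ^ 2 = 0) ∨
      (∃ κ : F, ∀ x, (s x : F) * (B : Matrix ι ι F) x m = κ * (B : Matrix ι ι F) x m) := by
  have hfix' : ((dg s : GL ι F) : Matrix ι ι F) *ᵥ Matrix.col (B : Matrix ι ι F) j =
      (1 : F) • Matrix.col (B : Matrix ι ι F) j := by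
    rw [dg_mulVec, one_smul]
    funext x
    by_cases hx : (B : Matrix ι ι F) x j = 0
    · simp [Matrix.col_apply, hx]
    · rw [hfix x hx]; simp
  obtain ⟨k', c', hk⟩ := perm_frame L hW B (dg s) hB hs j 1 hfix' m
  have hent : ∀ x, (s x : F) * (B : Matrix ι ι F) x m = c' * (B : Matrix ι ι F) x k' := by
    intro x
    have := congrFun hk x
    rw [dg_mulVec] at this
    simpa [Matrix.col_apply] using this
  by_cases hkm : k' = m
  · right; exact ⟨c', fun x => by rw [hent x, hkm]⟩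
  · left
    have h1 : ∑ x, (B : Matrix ι ι F) x m ^ 2 = 1 := by
      have := hO.col_dot hB m m
      rw [if_pos rfl] at this
      rw [← this]
      exact Finset.sum_congr rfl (fun x _ => by ring)
    have h2 : ∑ x, (s x : F) * (B : Matrix ι ι F) x m ^ 2 = 0 := by
      have h3 : ∀ x, (s x : F) * (B : Matrix ι ι F) x m ^ 2 =
          c' * ((B : Matrix ι ι F) x k' * (B : Matrix ι ι F) x m) := by
        intro x
        rw [pow_two, ← mul_assoc, hent x]; ring
      rw [Finset.sum_congr rfl (fun x _ => h3 x), ← Finset.mul_sum, hO.col_dot hB k' m, if_neg hkm,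
        mul_zero]
    calc 1 + ∑ x, ((s x : F) - 1) * (B : Matrix ι ι F) x m ^ 2
        = ∑ x, (B : Matrix ι ι F) x m ^ 2 + ∑ x, ((s x : F) - 1) * (B : Matrix ι ι F) x m ^ 2 := by
          rw [h1]
      _ = ∑ x, (s x : F) * (B : Matrix ι ι F) x m ^ 2 := by
          rw [← Finset.sum_add_distrib]; exact Finset.sum_congr rfl (fun x _ => by ring)
      _ = 0 := h2

/-- (P): the sign change at two zeros `c₁ c₂` of column `j` -/
lemma pair_P (h2 : (2 : F) ≠ 0) (L : Subgroup (GL ι F)) (hO : IsOrth L) (hS : HasSigns L) (hW : WorldW L)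
    (B : GL ι F) (hB : B ∈ L) (j m c₁ c₂ : ι) (hne : c₁ ≠ c₂)
    (z1 : (B : Matrix ι ι F) c₁ j = 0) (z2 : (B : Matrix ι ι F) c₂ j = 0) :
    ((B : Matrix ι ι F) c₁ m = 0 ∧ (B : Matrix ι ι F) c₂ m = 0) ∨
      (∀ x, x ≠ c₁ → x ≠ c₂ → (B : Matrix ι ι F) x m = 0) ∨
      2 * ((B : Matrix ι ι F) c₁ m ^ 2 + (B : Matrix ι ι F) c₂ m ^ 2) = 1 := by
  have hfix : ∀ x, (B : Matrix ι ι F) x j ≠ 0 → tcc c₁ c₂ (-1 : Fˣ) x = 1 := by
    intro x hx
    apply tcc_off
    · rintro rfl; exact hx z1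
    · rintro rfl; exact hx z2
  rcases dot_dich L hO hW B hB j m _ (hS c₁ c₂ hne) hfix with hA | ⟨κ, hκ⟩
  · right; right
    rw [sum_tccm hne (fun x => (B : Matrix ι ι F) x m ^ 2)] at hA
    linear_combination -hA
  · by_cases hz : (B : Matrix ι ι F) c₁ m = 0 ∧ (B : Matrix ι ι F) c₂ m = 0
    · left; exact hz
    · right; left
      have hκ1 : κ = -1 := by
        rw [not_and_or] at hz
        rcases hz with hz | hz
        · have := hκ c₁
          rw [tccm_val_same] at this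
          exact (mul_right_cancel₀ hz this).symm
        · have := hκ c₂
          rw [tccm_val_other hne] at this
          exact (mul_right_cancel₀ hz this).symm
      intro x hx1 hx2
      have := hκ x
      rw [tccm_val_off hx1 hx2, hκ1] at this
      have h3 : (2 : F) * (B : Matrix ι ι F) x m = 0 := by linear_combination this
      exact (mul_eq_zero.1 h3).resolve_left h2

/-- (P4): the sign change at four zeros of column `j` -/
lemma quad_P (h2 : (2 : F) ≠ 0) (L : Subgroup (GL ι F)) (hO : IsOrth L) (hS : HasSigns L) (hW : WorldW L)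
    (B : GL ι F) (hB : B ∈ L) (j m c₁ c₂ c₃ c₄ y : ι)
    (h12 : c₁ ≠ c₂) (h13 : c₁ ≠ c₃) (h14 : c₁ ≠ c₄) (h23 : c₂ ≠ c₃) (h24 : c₂ ≠ c₄) (h34 : c₃ ≠ c₄)
    (z1 : (B : Matrix ι ι F) c₁ j = 0) (z2 : (B : Matrix ι ι F) c₂ j = 0)
    (z3 : (B : Matrix ι ι F) c₃ j = 0) (z4 : (B : Matrix ι ι F) c₄ j = 0)
    (hu1 : (B : Matrix ι ι F) c₁ m ≠ 0) (hy1 : y ≠ c₁) (hy2 : y ≠ c₂) (hy3 : y ≠ c₃) (hy4 : y ≠ c₄)
    (huy : (B : Matrix ι ι F) y m ≠ 0) :
    2 * ((B : Matrix ι ι F) c₁ m ^ 2 + (B : Matrix ι ι F) c₂ m ^ 2 + (B : Matrix ι ι F) c₃ m ^ 2 +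
      (B : Matrix ι ι F) c₄ m ^ 2) = 1 := by
  have hs : dg (tcc c₁ c₂ (-1 : Fˣ) * tcc c₃ c₄ (-1 : Fˣ)) ∈ L := by
    rw [← dg_mul]
    exact L.mul_mem (hS c₁ c₂ h12) (hS c₃ c₄ h34)
  have hfix : ∀ x, (B : Matrix ι ι F) x j ≠ 0 → (tcc c₁ c₂ (-1 : Fˣ) * tcc c₃ c₄ (-1 : Fˣ)) x = 1 := by
    intro x hx
    have e1 : x ≠ c₁ := by rintro rfl; exact hx z1
    have e2 : x ≠ c₂ := by rintro rfl; exact hx z2
    have e3 : x ≠ c₃ := by rintro rfl; exact hx z3
    have e4 : x ≠ c₄ := by rintro rfl; exact hx z4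
    rw [Pi.mul_apply, tcc_off e1 e2, tcc_off e3 e4, one_mul]
  have hval : ∀ x, (((tcc c₁ c₂ (-1 : Fˣ) * tcc c₃ c₄ (-1 : Fˣ)) x : Fˣ) : F) =
      ((tcc c₁ c₂ (-1 : Fˣ) x : Fˣ) : F) * ((tcc c₃ c₄ (-1 : Fˣ) x : Fˣ) : F) := by
    intro x
    rw [Pi.mul_apply, Units.val_mul]
  rcases dot_dich L hO hW B hB j m _ hs hfix with hA | ⟨κ, hκ⟩
  · have hsplit : ∀ x, ((((tcc c₁ c₂ (-1 : Fˣ) * tcc c₃ c₄ (-1 : Fˣ)) x : Fˣ) : F) - 1) *
        (B : Matrix ι ι F) x m ^ 2 =
        (((tcc c₁ c₂ (-1 : Fˣ) x : Fˣ) : F) - 1) * (B : Matrix ι ι F) x m ^ 2 +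
          (((tcc c₃ c₄ (-1 : Fˣ) x : Fˣ) : F) - 1) * (B : Matrix ι ι F) x m ^ 2 := by
      intro x
      rw [hval x]
      by_cases e1 : x = c₁
      · rw [e1, tccm_val_off h13 h14]; ring
      · by_cases e2 : x = c₂
        · rw [e2, tccm_val_off h23 h24]; ring
        · rw [tccm_val_off e1 e2]; ring
    rw [Finset.sum_congr rfl (fun x _ => hsplit x), Finset.sum_add_distrib,
      sum_tccm h12 (fun x => (B : Matrix ι ι F) x m ^ 2),
      sum_tccm h34 (fun x => (B : Matrix ι ι F) x m ^ 2)] at hA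
    linear_combination -hA
  · exfalso
    have e1 := hκ c₁
    rw [hval, tccm_val_same, tccm_val_off h13 h14] at e1
    have e2 := hκ y
    rw [hval, tccm_val_off hy1 hy2, tccm_val_off hy3 hy4] at e2
    have k1 : κ = -1 * 1 := (mul_right_cancel₀ hu1 e1).symm
    have k2 : κ = 1 * 1 := (mul_right_cancel₀ huy e2).symm
    apply h2
    rw [k1] at k2
    linear_combination -k2

/-- FE1 SIGN DICHOTOMY -/
theorem sign_dichotomy (h2 : (2 : F) ≠ 0) (L : Subgroup (GL ι F)) (hO : IsOrth L) (hS : HasSigns L)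
    (hW : WorldW L) : SignDich L := by
  classical
  intro B hB _ j hZ m _
  by_contra hcon
  push Not at hcon
  obtain ⟨h1, h2'⟩ := hcon
  obtain ⟨c, hc, c', hc', hcc'⟩ := Finset.one_lt_card.1 h1
  rw [Finset.mem_inter, mem_zerosCol, mem_suppCol] at hc hc'
  -- the support of column `m` is not inside `{c, c'}`
  have hy : ∃ y, y ≠ c ∧ y ≠ c' ∧ (B : Matrix ι ι F) y m ≠ 0 := by
    by_contra hno
    push Not at hno
    have hsub : suppCol (B : Matrix ι ι F) m ⊆ {c, c'} := by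
      intro x hx
      rw [mem_suppCol] at hx
      rw [Finset.mem_insert, Finset.mem_singleton]
      by_contra hx'
      push Not at hx'
      exact hx (hno x hx'.1 hx'.2)
    have hsubZ : suppCol (B : Matrix ι ι F) m ⊆ zerosCol (B : Matrix ι ι F) j := by
      intro x hx
      have := hsub hx
      rw [Finset.mem_insert, Finset.mem_singleton] at this
      rcases this with rfl | rfl
      · rw [mem_zerosCol]; exact hc.1
      · rw [mem_zerosCol]; exact hc'.1
    have e1 := h2' hsubZ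
    have e2 := Finset.card_le_card hsub
    have e3 : ({c, c'} : Finset ι).card ≤ 2 := Finset.card_le_two
    omega
  obtain ⟨y, hyc, hyc', huy⟩ := hy
  -- two more zeros of column `j`
  have hcard : 1 < (zerosCol (B : Matrix ι ι F) j \ {c, c', y}).card := by
    have e1 := Finset.le_card_sdiff ({c, c', y} : Finset ι) (zerosCol (B : Matrix ι ι F) j)
    have e2 : ({c, c', y} : Finset ι).card ≤ 3 := Finset.card_le_three
    omega
  obtain ⟨x₁, hx₁, x₂, hx₂, hx12⟩ := Finset.one_lt_card.1 hcard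
  simp only [Finset.mem_sdiff, mem_zerosCol, Finset.mem_insert, Finset.mem_singleton, not_or] at hx₁ hx₂
  obtain ⟨zx₁, hx₁c, hx₁c', hx₁y⟩ := hx₁
  obtain ⟨zx₂, hx₂c, hx₂c', hx₂y⟩ := hx₂
  -- (1)
  have E1 : 2 * ((B : Matrix ι ι F) c m ^ 2 + (B : Matrix ι ι F) c' m ^ 2) = 1 := by
    rcases pair_P h2 L hO hS hW B hB j m c c' hcc' hc.1 hc'.1 with h | h | h
    · exact absurd h.1 hc.2
    · exact absurd (h y hyc hyc') huy
    · exact h
  -- (2)
  have E2 := quad_P h2 L hO hS hW B hB j m c c' x₁ x₂ y hcc' (Ne.symm hx₁c) (Ne.symm hx₂c) (Ne.symm hx₁c')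
    (Ne.symm hx₂c') hx12 hc.1 hc'.1 zx₁ zx₂ hc.2 hyc hyc' (Ne.symm hx₁y) (Ne.symm hx₂y) huy
  -- (3)
  have E3 : (B : Matrix ι ι F) x₁ m = 0 ∧ (B : Matrix ι ι F) x₂ m = 0 := by
    rcases pair_P h2 L hO hS hW B hB j m x₁ x₂ hx12 zx₁ zx₂ with h | h | h
    · exact h
    · exact absurd (h c (Ne.symm hx₁c) (Ne.symm hx₂c)) hc.2
    · exfalso
      have : (1 : F) = 0 := by linear_combination E2 - E1 - h
      exact one_ne_zero this
  -- (4), (5)
  have E4 : 2 * (B : Matrix ι ι F) c m ^ 2 = 1 := by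
    rcases pair_P h2 L hO hS hW B hB j m c x₁ (Ne.symm hx₁c) hc.1 zx₁ with h | h | h
    · exact absurd h.1 hc.2
    · exact absurd (h c' (Ne.symm hcc') (Ne.symm hx₁c')) hc'.2
    · rw [E3.1] at h; linear_combination h
  have E5 : 2 * (B : Matrix ι ι F) c' m ^ 2 = 1 := by
    rcases pair_P h2 L hO hS hW B hB j m c' x₁ (Ne.symm hx₁c') hc'.1 zx₁ with h | h | h
    · exact absurd h.1 hc'.2
    · exact absurd (h c hcc' (Ne.symm hx₁c)) hc.2
    · rw [E3.1] at h; linear_combination h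
  have : (1 : F) = 0 := by linear_combination E1 - E4 - E5
  exact one_ne_zero this

end Cfsg.Agent.Lib.Helper29.FrLeaf
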