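import Mathlib
import Cfsg.Agent.Lib.Helper29.FrDefs
import Cfsg.Agent.Lib.Helper29.FrStdDefs
import Cfsg.Agent.Lib.Helper29.FrFE1

/-!
helper29, S5696 part 2, MATRIX leaves: **S7** `exists_ext_of_colAt`, **S8** `isMono_ext_iff`, **S11** `exists_fix_col`,
**S12** `exists_threeCycle_move`, and `isMono_pmGL`.
-/

set_option autoImplicit false
set_option linter.unusedSectionVars false
set_option linter.unusedVariables false

namespace Cfsg.Agent.Lib.Helper29.Fr2Leaf
open Matrix Cfsg.Agent.Lib.Helper11.Mono Cfsg.Agent.Lib.Helper15.MonoLeaf Cfsg.Agent.Lib.Helper2.MonoLeaf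
  Cfsg.Agent.Lib.Helper29.Fr Cfsg.Agent.Lib.Helper29.FrStd

variable {F : Type*} [Field F] [Fintype F] {ι : Type} [Fintype ι] [DecidableEq ι]

theorem isMono_pmGL (σ : Equiv.Perm ι) : IsMono ((pmGL σ : GL ι F) : Matrix ι ι F) := by
  have h := mono_isMono (F := F) (1 : ι → Fˣ) σ
  rwa [dg_one, one_mul] at h

lemma exists_two_ne (h3 : 3 ≤ Fintype.card ι) (i j : ι) : ∃ k : ι, k ≠ i ∧ k ≠ j := by
  classical
  have h2 : ({i, j} : Finset ι).card < (Finset.univ : Finset ι).card := by
    have := Finset.card_le_two (a := i) (b := j)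
    rw [Finset.card_univ]; omega
  obtain ⟨k, -, hk⟩ := Finset.exists_mem_notMem_of_card_lt_card h2
  rw [Finset.mem_insert, Finset.mem_singleton, not_or] at hk
  exact ⟨k, hk.1, hk.2⟩

/-- S12 -/
theorem exists_threeCycle_move (h3 : 3 ≤ Fintype.card ι) (j : ι) :
    ∃ σ : Equiv.Perm ι, σ.IsThreeCycle ∧ ¬ ColAt ((pmGL σ : GL ι F) : Matrix ι ι F) j j := by
  classical
  obtain ⟨a, haj, -⟩ := exists_two_ne h3 j j
  obtain ⟨b, hbj, hba⟩ := exists_two_ne h3 j a
  refine ⟨Equiv.swap j a * Equiv.swap j b,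
    Equiv.Perm.isThreeCycle_swap_mul_swap_same haj.symm hbj.symm hba.symm, ?_⟩
  intro hcol
  have h1 := hcol a haj
  rw [pmGL_val, permMatrix_apply'] at h1
  have h2 : (Equiv.swap j a * Equiv.swap j b) a = j := by
    rw [Equiv.Perm.mul_apply, Equiv.swap_apply_of_ne_of_ne haj hba.symm, Equiv.swap_apply_right]
  rw [if_pos h2] at h1
  exact one_ne_zero h1

/-- S11 -/
theorem exists_fix_col (L : Subgroup (GL ι F)) (hC : HasThreeCycles L) (h3 : 3 ≤ Fintype.card ι)
    (h : GL ι F) (hh : h ∈ L) (hmc : HasMonoCol (h : Matrix ι ι F)) (hnm : ¬ IsMono (h : Matrix ι ι F)) :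
    ∃ h₁ ∈ L, ¬ IsMono (h₁ : Matrix ι ι F) ∧ ∃ j, ColAt (h₁ : Matrix ι ι F) j j := by
  classical
  obtain ⟨j, i, hcol⟩ := hmc
  by_cases hij : i = j
  · rw [hij] at hcol
    exact ⟨h, hh, hnm, j, hcol⟩
  · obtain ⟨k, hki, hkj⟩ := exists_two_ne h3 i j
    have hσ : (Equiv.swap i j * Equiv.swap i k).IsThreeCycle :=
      Equiv.Perm.isThreeCycle_swap_mul_swap_same hij hki.symm hkj.symm
    have hσj : (Equiv.swap i j * Equiv.swap i k) j = i := by
      rw [Equiv.Perm.mul_apply, Equiv.swap_apply_of_ne_of_ne (Ne.symm hij) hkj.symm,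
        Equiv.swap_apply_right]
    refine ⟨pmGL (Equiv.swap i j * Equiv.swap i k) * h, L.mul_mem (hC _ hσ) hh, ?_, j, ?_⟩
    · intro hm
      apply hnm
      have h1 := (isMono_inv _ (isMono_pmGL (F := F) (Equiv.swap i j * Equiv.swap i k))).mul hm
      rw [← Units.val_mul, inv_mul_cancel_left] at h1
      exact h1
    · intro a ha
      rw [Units.val_mul, pmGL_val, Matrix.mul_apply,
        Finset.sum_eq_single ((Equiv.swap i j * Equiv.swap i k) a)]
      · rw [permMatrix_apply', if_pos rfl, one_mul]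
        apply hcol
        intro hσa
        apply ha
        exact (Equiv.swap i j * Equiv.swap i k).injective (hσa.trans hσj.symm)
      · intro x _ hx
        rw [permMatrix_apply', if_neg (Ne.symm hx), zero_mul]
      · intro hx
        exact absurd (Finset.mem_univ _) hx

/-- S8 -/
theorem isMono_ext_iff (j : ι) (y : GL {a : ι // a ≠ j} F) :
    IsMono ((extGL j y : GL ι F) : Matrix ι ι F) ↔
      IsMono (y : Matrix {a : ι // a ≠ j} {a : ι // a ≠ j} F) := by
  constructor
  · intro hm b'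
    obtain ⟨i, hi⟩ := hm b'.1
    by_cases hij : i = j
    · refine ⟨b', fun k' _ => ?_⟩
      have := hi k'.1 (by rw [hij]; exact k'.2)
      rwa [extGL_ne_ne j y k'.2 b'.2] at this
    · refine ⟨⟨i, hij⟩, fun k' hk' => ?_⟩
      have := hi k'.1 (fun h => hk' (Subtype.ext h))
      rwa [extGL_ne_ne j y k'.2 b'.2] at this
  · intro hm b
    by_cases hb : b = j
    · refine ⟨j, fun a ha => ?_⟩
      rw [hb]
      exact extGL_ne_same j y ha
    · obtain ⟨i', hi'⟩ := hm ⟨b, hb⟩
      refine ⟨i'.1, fun a ha => ?_⟩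
      by_cases haj : a = j
      · rw [haj]
        exact extGL_same_ne j y hb
      · rw [extGL_ne_ne j y haj hb]
        apply hi'
        intro h
        apply ha
        rw [← h]

/-- an orthogonal matrix fixing `e_j` is `1 ⊕ y` -/
theorem exists_ext_of_fix (g : GL ι F) (hO : (g : Matrix ι ι F)ᵀ * (g : Matrix ι ι F) = 1) (j : ι)
    (hfix : ∀ a, (g : Matrix ι ι F) a j = if a = j then 1 else 0) :
    ∃ y : GL {a : ι // a ≠ j} F, extGL j y = g := by
  classical
  have hdot : ∀ a b, ∑ x, (g : Matrix ι ι F) x a * (g : Matrix ι ι F) x b = if a = b then 1 else 0 := by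
    intro a b
    have h := congrFun (congrFun hO a) b
    rw [Matrix.mul_apply, Matrix.one_apply] at h
    simpa [Matrix.transpose_apply] using h
  have hrow : ∀ b, b ≠ j → (g : Matrix ι ι F) j b = 0 := by
    intro b hb
    have h := hdot j b
    rw [if_neg (Ne.symm hb), Finset.sum_eq_single j] at h
    · rwa [hfix j, if_pos rfl, one_mul] at h
    · intro x _ hx
      rw [hfix x, if_neg hx, zero_mul]
    · intro hx; exact absurd (Finset.mem_univ _) hx
  obtain ⟨A, hA⟩ : ∃ A : Matrix {a : ι // a ≠ j} {a : ι // a ≠ j} F,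
      ∀ a b, A a b = (g : Matrix ι ι F) a.1 b.1 := ⟨fun a b => (g : Matrix ι ι F) a.1 b.1, fun _ _ => rfl⟩
  have hAA : Aᵀ * A = 1 := by
    ext a b
    rw [Matrix.mul_apply, Matrix.one_apply]
    have h := hdot a.1 b.1
    rw [Fintype.sum_eq_add_sum_subtype_ne _ j, hrow a.1 a.2, zero_mul, zero_add] at h
    have e : ∀ x : {a : ι // a ≠ j}, Aᵀ a x * A x b =
        (g : Matrix ι ι F) x.1 a.1 * (g : Matrix ι ι F) x.1 b.1 := by
      intro x
      rw [Matrix.transpose_apply, hA, hA]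
    rw [Finset.sum_congr rfl (fun x _ => e x), h]
    by_cases hab : a = b
    · rw [if_pos hab, if_pos (congrArg Subtype.val hab)]
    · rw [if_neg hab, if_neg (fun h => hab (Subtype.ext h))]
  have hAA' : A * Aᵀ = 1 := _root_.mul_eq_one_comm.mp hAA
  refine ⟨⟨A, Aᵀ, hAA', hAA⟩, ?_⟩
  apply Units.ext
  ext a b
  by_cases ha : a = j
  · by_cases hb : b = j
    · rw [ha, hb, extGL_same_same, hfix j, if_pos rfl]
    · rw [ha, extGL_same_ne j _ hb, hrow b hb]
  · by_cases hb : b = j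
    · rw [hb, extGL_ne_same j _ ha, hfix a, if_neg ha]
    · rw [extGL_ne_ne j _ ha hb]
      exact hA _ _

/-- S7 -/
theorem exists_ext_of_colAt (h2 : (2 : F) ≠ 0) (g : GL ι F)
    (hO : (g : Matrix ι ι F)ᵀ * (g : Matrix ι ι F) = 1) (j k : ι) (hjk : j ≠ k)
    (hcol : ColAt (g : Matrix ι ι F) j j) :
    ∃ y : GL {a : ι // a ≠ j} F, extGL j y = g ∨ extGL j y = g * dg (tcc j k (-1 : Fˣ)) := by
  classical
  have hsq : (g : Matrix ι ι F) j j * (g : Matrix ι ι F) j j = 1 := by
    have h := congrFun (congrFun hO j) j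
    rw [Matrix.mul_apply, Matrix.one_apply_eq, Finset.sum_eq_single j] at h
    · simpa [Matrix.transpose_apply] using h
    · intro x _ hx
      rw [hcol x hx, mul_zero]
    · intro hx; exact absurd (Finset.mem_univ _) hx
  have hpm : (g : Matrix ι ι F) j j = 1 ∨ (g : Matrix ι ι F) j j = -1 := by
    have h : ((g : Matrix ι ι F) j j - 1) * ((g : Matrix ι ι F) j j + 1) = 0 := by
      linear_combination hsq
    rcases mul_eq_zero.1 h with h | h
    · left; linear_combination h
    · right; linear_combination h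
  rcases hpm with h1 | h1
  · obtain ⟨y, hy⟩ := exists_ext_of_fix g hO j (fun a => by
      by_cases ha : a = j
      · rw [ha, if_pos rfl, h1]
      · rw [if_neg ha, hcol a ha])
    exact ⟨y, Or.inl hy⟩
  · have hval : ∀ a b, ((g * dg (tcc j k (-1 : Fˣ)) : GL ι F) : Matrix ι ι F) a b =
        (g : Matrix ι ι F) a b * ((tcc j k (-1 : Fˣ) b : Fˣ) : F) := by
      intro a b
      rw [Units.val_mul, dg_val, Matrix.mul_diagonal]
    have hss : ∀ b, ((tcc j k (-1 : Fˣ) b : Fˣ) : F) * ((tcc j k (-1 : Fˣ) b : Fˣ) : F) = 1 := by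
      intro b
      by_cases hb : b = j
      · rw [hb, Cfsg.Agent.Lib.Helper29.FrLeaf.tccm_val_same]; ring
      · by_cases hb' : b = k
        · rw [hb', Cfsg.Agent.Lib.Helper29.FrLeaf.tccm_val_other hjk]; ring
        · rw [Cfsg.Agent.Lib.Helper29.FrLeaf.tccm_val_off hb hb']; ring
    have hO' : ((g * dg (tcc j k (-1 : Fˣ)) : GL ι F) : Matrix ι ι F)ᵀ *
        ((g * dg (tcc j k (-1 : Fˣ)) : GL ι F) : Matrix ι ι F) = 1 := by
      ext a b
      rw [Matrix.mul_apply]
      have h := congrFun (congrFun hO a) b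
      rw [Matrix.mul_apply] at h
      simp only [Matrix.transpose_apply, hval] at h ⊢
      have e : ∀ x, (g : Matrix ι ι F) x a * ((tcc j k (-1 : Fˣ) a : Fˣ) : F) *
          ((g : Matrix ι ι F) x b * ((tcc j k (-1 : Fˣ) b : Fˣ) : F)) =
          (((tcc j k (-1 : Fˣ) a : Fˣ) : F) * ((tcc j k (-1 : Fˣ) b : Fˣ) : F)) *
            ((g : Matrix ι ι F) x a * (g : Matrix ι ι F) x b) := fun x => by ring
      rw [Finset.sum_congr rfl (fun x _ => e x), ← Finset.mul_sum, h]
      by_cases hab : a = b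
      · rw [hab, Matrix.one_apply_eq, mul_one, hss]
      · rw [Matrix.one_apply_ne hab, mul_zero]
    obtain ⟨y, hy⟩ := exists_ext_of_fix (g * dg (tcc j k (-1 : Fˣ))) hO' j (fun a => by
      rw [hval, Cfsg.Agent.Lib.Helper29.FrLeaf.tccm_val_same]
      by_cases ha : a = j
      · rw [ha, if_pos rfl, h1]; ring
      · rw [if_neg ha, hcol a ha, zero_mul])
    exact ⟨y, Or.inr hy⟩

end Cfsg.Agent.Lib.Helper29.Fr2Leaf
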