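import Mathlib
import Cfsg.Agent.Lib.Helper29.FrStdDefs
import Cfsg.Agent.Lib.Helper29.Fr2Std
import Cfsg.Agent.Lib.Helper11.MonoBasic
import Cfsg.Agent.Lib.Helper5.NDGlue

/-!
helper29, S5696 part 2, leaf **S9** `eq_omega_of_stab_line`: in the standard model the stabiliser of the line `<e_j>` in `Ω` is
maximal (helper5's `isMaximalIn_nd'`), so a subgroup of `Ω` containing it and moving the line is `Ω`.
-/

set_option autoImplicit false
set_option linter.unusedSectionVars false
set_option linter.unusedVariables false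

namespace Cfsg.Agent.Lib.Helper29.Fr2Leaf
open Matrix Module Cfsg.Agent.Lib.Helper11.Mono Cfsg.Agent.Lib.Helper29.FrStd

variable {F : Type*} [Field F] [Fintype F] {ι : Type} [Fintype ι] [DecidableEq ι]

lemma single_ne_zero' (j : ι) : (Pi.single j (1 : F) : ι → F) ≠ 0 := by
  intro h
  have := congrFun h j
  rw [Pi.single_eq_same, Pi.zero_apply] at this
  exact one_ne_zero this

/-- membership in the stabiliser of the line `<e_j>` -/
lemma mem_stab_line_iff (j : ι) (g : GL ι F) :
    g ∈ Cfsg.Geo.subspaceStabilizer (Submodule.span F {(Pi.single j (1 : F) : ι → F)}) ↔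
      ColAt (g : Matrix ι ι F) j j := by
  constructor
  · intro hg
    have h1 := (hg (Pi.single j 1)).1 (Submodule.mem_span_singleton_self _)
    obtain ⟨a, ha⟩ := Submodule.mem_span_singleton.1 h1
    intro k hk
    have h2 := congrFun ha k
    rw [Pi.smul_apply, Pi.single_eq_of_ne hk, smul_zero] at h2
    have h3 : (Cfsg.glToMat ι F g *ᵥ (Pi.single j (1 : F) : ι → F)) k = (g : Matrix ι ι F) k j := by
      change ((g : Matrix ι ι F) *ᵥ (Pi.single j (1 : F) : ι → F)) k = _
      rw [Matrix.mulVec_single_one]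
      rfl
    rw [← h3, ← h2]
  · intro hcol v
    have hgj : (g : Matrix ι ι F) *ᵥ (Pi.single j (1 : F) : ι → F) =
        (g : Matrix ι ι F) j j • (Pi.single j (1 : F) : ι → F) := mulVec_single_of_colAt hcol
    have hne : (g : Matrix ι ι F) j j ≠ 0 := entry_ne_zero_of_colAt g hcol
    change v ∈ Submodule.span F {(Pi.single j (1 : F) : ι → F)} ↔
      (g : Matrix ι ι F) *ᵥ v ∈ Submodule.span F {(Pi.single j (1 : F) : ι → F)}
    constructor
    · intro hv
      obtain ⟨a, rfl⟩ := Submodule.mem_span_singleton.1 hv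
      rw [Matrix.mulVec_smul, hgj, smul_smul]
      exact Submodule.smul_mem _ _ (Submodule.mem_span_singleton_self _)
    · intro hv
      obtain ⟨b, hb⟩ := Submodule.mem_span_singleton.1 hv
      have h1 : (g : Matrix ι ι F) *ᵥ v =
          (g : Matrix ι ι F) *ᵥ ((b * ((g : Matrix ι ι F) j j)⁻¹) • (Pi.single j (1 : F) : ι → F)) := by
        rw [Matrix.mulVec_smul, hgj, smul_smul, mul_assoc, inv_mul_cancel₀ hne, mul_one, hb]
      rw [mulVec_inj g h1]
      exact Submodule.smul_mem _ _ (Submodule.mem_span_singleton_self _)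

/-- S9 -/
theorem eq_omega_of_stab_line (h2 : (2 : F) ≠ 0) {c : F} (hc : c ≠ 0) (h13 : 13 ≤ Fintype.card ι) (j : ι)
    (M : Subgroup (GL ι F)) (hle : M ≤ Cfsg.Geo.omegaGL ⇑(stdQ ι F c))
    (hstab : ∀ g ∈ Cfsg.Geo.omegaGL ⇑(stdQ ι F c), ColAt (g : Matrix ι ι F) j j → g ∈ M)
    (hmove : ∃ g ∈ M, ¬ ColAt (g : Matrix ι ι F) j j) :
    Cfsg.Geo.omegaGL ⇑(stdQ ι F c) ≤ M := by
  have hnd : (QuadraticMap.polarBilin (stdQ ι F c)).Nondegenerate := stdQ_nondeg h2 hc
  have hfr : finrank F (Submodule.span F {(Pi.single j (1 : F) : ι → F)}) = 1 :=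
    finrank_span_singleton (single_ne_zero' j)
  have hW : Cfsg.Agent.Lib.Helper15.NdOn (stdQ ι F c) (Submodule.span F {(Pi.single j (1 : F) : ι → F)}) := by
    intro w hw hall
    obtain ⟨a, rfl⟩ := Submodule.mem_span_singleton.1 hw
    have h := hall (Pi.single j 1) (Submodule.mem_span_singleton_self _)
    rw [polar_stdQ, sum_mul_single, Pi.smul_apply, Pi.single_eq_same, smul_eq_mul, mul_one] at h
    rcases mul_eq_zero.1 h with h | h
    · exact absurd h (mul_ne_zero h2 hc)
    · rw [h, zero_smul]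
  have hW0 : Submodule.span F {(Pi.single j (1 : F) : ι → F)} ≠ ⊥ := by
    intro h
    rw [h, finrank_bot] at hfr
    exact zero_ne_one hfr
  have hW1 : Submodule.span F {(Pi.single j (1 : F) : ι → F)} ≠ ⊤ := by
    intro h
    rw [h, finrank_top, Module.finrank_fintype_fun_eq_card] at hfr
    omega
  have hperp := Cfsg.Agent.Lib.Helper25.MaxTS.finrank_perp hnd
    (Submodule.span F {(Pi.single j (1 : F) : ι → F)})
  rw [hfr, Module.finrank_fintype_fun_eq_card] at hperp
  have hmax := Cfsg.Agent.Lib.Helper5.NDMax.isMaximalIn_nd' (stdQ ι F c) hnd h13 hW hW0 hW1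
    (by rw [hfr]; omega) (by
      rintro U (rfl | rfl) ⟨-, hU2, -⟩
      · rw [hfr] at hU2; omega
      · rw [hperp] at hU2; omega)
  rcases hmax.2 M (fun g hg => hstab g hg.2 ((mem_stab_line_iff j g).1 hg.1)) hle with h | h
  · exfalso
    obtain ⟨g, hg, hng⟩ := hmove
    rw [h] at hg
    exact hng ((mem_stab_line_iff j g).1 hg.1)
  · rw [h]

end Cfsg.Agent.Lib.Helper29.Fr2Leaf
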