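import Mathlib
import Cfsg.Agent.Lib.Helper29.FrDefs
import Cfsg.Agent.Lib.Helper29.FrFK2a
import Cfsg.Agent.Lib.Helper29.FrFE1
import Cfsg.Agent.Lib.Helper23.FrFK2e
import Cfsg.Agent.Lib.Helper23.FrFM
import Cfsg.Agent.Lib.Helper11.FrFS
import Cfsg.Agent.Lib.Helper18.UDenseComb
import Cfsg.Agent.Lib.Helper23.UDenseK2b

/-!
S5696 (orthogonal FRAMES, torus `{±1}`), PART 1: exclusion of the DENSE world (assembly of the leaves of helper29's market:
FK2a, FE1 (helper29), FK2e, FM (helper23), FS (helper11; also landed by helper15), on helper18's `exists_comb_core` and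
helper23's K2b).  Paper proof: notes/S5696_dense_plan_helper29.md.
-/

set_option autoImplicit false

namespace Cfsg.Agent.Lib.Helper29.FrMain
open Matrix Cfsg.Agent.Lib.Helper11.Mono Cfsg.Agent.Lib.Helper15.MonoLeaf Cfsg.Agent.Lib.Helper2.MonoLeaf
  Cfsg.Agent.Lib.Helper29.Fr

variable {F : Type*} [Field F] [Fintype F] {ι : Type} [Fintype ι] [DecidableEq ι]

/-- FK2: (D_s) forces `L` to be monomial, `card ι ≥ s + 10`. -/
theorem isMono_of_colDenseK (s : ℕ) (hn : s + 10 ≤ Fintype.card ι) (L : Subgroup (GL ι F)) (hD : ColDenseK s L)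
    (ζ : Fˣ) (r : ℕ) (hr : r.Prime) (hζ : orderOf ζ = r)
    (hz : ∀ k l : ι, k ≠ l → dg (tcc k l ζ) ∈ L) (g : GL ι F) (hg : g ∈ L) :
    IsMono (g : Matrix ι ι F) := by
  by_contra hnm
  have hζr : ζ ^ r = 1 := by rw [← hζ]; exact pow_orderOf_eq_one ζ
  have hζ1 : ζ ≠ 1 := by
    intro h
    rw [h, orderOf_one] at hζ
    exact hr.ne_one hζ.symm
  have h3 : ∃ a b c : ι, a ≠ b ∧ c ≠ a ∧ c ≠ b := by
    have : 2 < Fintype.card ι := by omega
    obtain ⟨a, b, c, hab, hac, hbc⟩ := Fintype.two_lt_card_iff.mp this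
    exact ⟨a, b, c, hab, hac.symm, hbc.symm⟩
  obtain ⟨a, b, c, hab, hca, hcb⟩ := h3
  refine Cfsg.Agent.Lib.Helper23.FrLeaf.false_of_comb_K s hn L hD g hg hnm a b c hab hca hcb
    (fun k l hkl => ?_)
  exact Cfsg.Agent.Lib.Helper18.UDense.exists_comb_core L ζ r hζr hz
    (fun k l hkl h hh hy =>
      Cfsg.Agent.Lib.Helper29.FrLeaf.isMono_of_conj_isMono_K s (by omega) L hD ζ hζ1 k l hkl h hh hy)
    (fun N z z' g hz hz' hzN h1 h2 =>
      Cfsg.Agent.Lib.Helper23.UDenseLeaf.exists_mem_closure_coset N z z' g r hr hz hz' hzN h1 h2)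
    g hg a b c hab k l hkl

/-- the interface for S5696: orthogonal matrices + sign changes + 3-cycles + a non-monomial element
==> some non-monomial element has a monomial column. -/
theorem not_worldW_signs (h14 : 14 ≤ Fintype.card ι) (h2 : (2 : F) ≠ 0) (L : Subgroup (GL ι F)) (hO : IsOrth L)
    (hS : HasSigns L) (hC : HasThreeCycles L) (g : GL ι F) (hg : g ∈ L)
    (hnm : ¬ IsMono (g : Matrix ι ι F)) : ¬ WorldW L := by
  intro hW
  have hE := Cfsg.Agent.Lib.Helper29.FrLeaf.sign_dichotomy h2 L hO hS hW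
  rcases Cfsg.Agent.Lib.Helper23.FrLeaf.colDenseK_or_weight_two L hO hW hE with hD | ⟨B, hB, hBnm, j, hj⟩
  · have hord : orderOf (-1 : Fˣ) = 2 := by
      refine orderOf_eq_prime (by simp) ?_
      intro h
      apply h2
      have h' := congrArg Units.val h
      rw [Units.val_neg, Units.val_one] at h'
      linear_combination (-1 : F) * h'
    exact hnm (isMono_of_colDenseK 4 (by omega) L hD (-1) 2 Nat.prime_two hord
      (fun k l hkl => hS k l hkl) g hg)
  · exact Cfsg.Agent.Lib.Helper11.FrLeaf.false_of_weight_two (by omega) L hO hC hW hE B hB hBnm j hj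

end Cfsg.Agent.Lib.Helper29.FrMain
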