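import Mathlib
import Cfsg.Agent.Lib.Helper29.FrDefs
import Cfsg.Agent.Lib.Helper29.FrStdDefs
import Cfsg.Agent.Lib.Helper29.FrMain
import Cfsg.Agent.Lib.Helper29.Fr2Mat
import Cfsg.Agent.Lib.Helper29.Fr2Std
import Cfsg.Agent.Lib.Helper29.Fr2S9
import Cfsg.Agent.Lib.Helper15.Fr2S2
import Cfsg.Agent.Lib.Helper15.Fr2S3
import Cfsg.Agent.Lib.Helper15.Fr2S4
import Cfsg.Agent.Lib.Helper23.Fr2S6
import Cfsg.Agent.Lib.Helper11.Fr2R
import Cfsg.Agent.Lib.Helper25.SpinAll
import Cfsg.Agent.Lib.Helper25.SpinForms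
import Cfsg.Agent.Lib.Helper25.OmegaNonMax
import Cfsg.Agent.Lib.Helper5.NDGlue
import Cfsg.Agent.Lib.Helper18.OSubR2
import Cfsg.Agent.Lib.Helper11.UTrans

/-!
S5696 (orthogonal FRAMES, even dimension), PART 2 (assembly of helper29's second market): the step `n - 1 → n` in the standard
model (`core_step`), the induction down to `card = 13` (`coreProp_of_base`), the maximality statement in the standard model
(`isMaximalIn_std`), the transport to an arbitrary frame (`frame_of_core`) and S5696 from the CORE (`result_of_core`,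
`result_of_base`).  Leaves: S0 S1 S7 S8 S9 S11 S12 (helper29), S2 S3 S4 (helper15), S6a S6b (helper23), R0 R1 R2 (helper11).
Paper proof: notes/S5696_part2_plan_helper29.md.
-/

set_option autoImplicit false
set_option linter.unusedSectionVars false
set_option linter.unusedVariables false

namespace Cfsg.Agent.Lib.Helper29.Fr2Main
open Matrix Cfsg.Agent.Lib.Helper11.Mono Cfsg.Agent.Lib.Helper15.MonoLeaf Cfsg.Agent.Lib.Helper2.MonoLeaf
  Cfsg.Agent.Lib.Helper29.Fr Cfsg.Agent.Lib.Helper29.FrStd Cfsg.Agent.Lib.Helper29.Fr2Leaf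
  Cfsg.Agent.Lib.Helper29.FrMain

variable {F : Type*} [Field F] [Fintype F] {ι : Type} [Fintype ι] [DecidableEq ι]

/-! ## the step `n - 1 → n` (assembly, helper29) -/

theorem core_step (h14 : 14 ≤ Fintype.card ι) (h2 : (2 : F) ≠ 0) {c : F} (hc : c ≠ 0)
    (hprev : ∀ j : ι, CoreProp {a : ι // a ≠ j} F c) : CoreProp ι F c := by
  intro M hle hH hex
  obtain ⟨g, hg, hnm⟩ := hex
  have hiso : ∀ y ∈ M, (y : Matrix ι ι F)ᵀ * (y : Matrix ι ι F) = 1 := fun y hy =>
    transpose_mul_self_of_mem h2 hc y (Cfsg.Agent.Lib.Helper19.OSub.omegaGL_le_iso (hle hy))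
  have hO : IsOrth M := hiso
  have hS : HasSigns M := fun a b hab => hH _ (Cfsg.Agent.Lib.Helper15.Fr2Leaf.signs_mem h2 hc a b hab) (dg_isMono _)
  have hC : HasThreeCycles M := fun σ hσ => hH _ (Cfsg.Agent.Lib.Helper15.Fr2Leaf.threeCycle_mem h2 hc σ hσ) (isMono_pmGL σ)
  have hnW := not_worldW_signs h14 h2 M hO hS hC g hg hnm
  unfold WorldW at hnW
  push Not at hnW
  obtain ⟨h, hhM, hmc, hhnm⟩ := hnW
  obtain ⟨h₁, hh₁M, hh₁nm, j, hcol⟩ := exists_fix_col M hC (by omega) h hhM hmc hhnm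
  obtain ⟨k, hjk⟩ : ∃ k, j ≠ k := by
    have : 1 < Fintype.card ι := by omega
    obtain ⟨k, hk⟩ := Fintype.exists_ne_of_one_lt_card this j
    exact ⟨k, hk.symm⟩
  have hsM : dg (tcc j k (-1 : Fˣ)) ∈ M := hS j k hjk
  have hsmono : IsMono ((dg (tcc j k (-1 : Fˣ)) : GL ι F) : Matrix ι ι F) := dg_isMono _
  -- the group induced on `e_j^⊥`
  have hMW : Cfsg.Geo.omegaGL ⇑(stdQ {a : ι // a ≠ j} F c) ≤ M.comap (extGL j) := by
    apply hprev j (M.comap (extGL j))
    · intro y hy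
      exact Cfsg.Agent.Lib.Helper23.Fr2Leaf.mem_omega_of_ext h2 hc j y (hle hy)
    · intro y hy hmono
      exact hH _ (Cfsg.Agent.Lib.Helper23.Fr2Leaf.ext_mem_omega h2 hc j y hy) ((isMono_ext_iff j y).2 hmono)
    · obtain ⟨y, hy | hy⟩ := exists_ext_of_colAt h2 h₁ (hiso h₁ hh₁M) j k hjk hcol
      · refine ⟨y, ?_, ?_⟩
        · change extGL j y ∈ M
          rw [hy]; exact hh₁M
        · intro hmono
          apply hh₁nm
          rw [← hy]
          exact (isMono_ext_iff j y).2 hmono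
      · refine ⟨y, ?_, ?_⟩
        · change extGL j y ∈ M
          rw [hy]; exact M.mul_mem hh₁M hsM
        · intro hmono
          apply hh₁nm
          have h1 := (isMono_ext_iff j y).2 hmono
          rw [hy] at h1
          have h3 := h1.mul (isMono_inv _ hsmono)
          rw [← Units.val_mul, mul_inv_cancel_right] at h3
          exact h3
  apply eq_omega_of_stab_line h2 hc (by omega) j M hle
  · intro x hxΩ hxcol
    have hxO := transpose_mul_self_of_mem h2 hc x (Cfsg.Agent.Lib.Helper19.OSub.omegaGL_le_iso hxΩ)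
    obtain ⟨y, hy | hy⟩ := exists_ext_of_colAt h2 x hxO j k hjk hxcol
    · have h1 : y ∈ Cfsg.Geo.omegaGL ⇑(stdQ {a : ι // a ≠ j} F c) := by
        apply Cfsg.Agent.Lib.Helper23.Fr2Leaf.mem_omega_of_ext h2 hc j y
        rw [hy]; exact hxΩ
      have h3 : extGL j y ∈ M := hMW h1
      rwa [hy] at h3
    · have h1 : y ∈ Cfsg.Geo.omegaGL ⇑(stdQ {a : ι // a ≠ j} F c) := by
        apply Cfsg.Agent.Lib.Helper23.Fr2Leaf.mem_omega_of_ext h2 hc j y
        rw [hy]
        exact (Cfsg.Geo.omegaGL ⇑(stdQ ι F c)).mul_mem hxΩ (Cfsg.Agent.Lib.Helper15.Fr2Leaf.signs_mem h2 hc j k hjk)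
      have h3 : extGL j y ∈ M := hMW h1
      rw [hy] at h3
      have h4 := M.mul_mem h3 (M.inv_mem hsM)
      rwa [mul_inv_cancel_right] at h4
  · obtain ⟨σ, hσ, hmove⟩ := exists_threeCycle_move (F := F) (by omega) j
    exact ⟨pmGL σ, hC σ hσ, hmove⟩

/-! ## the maximality statement in the standard model -/

/-- the group of monomial matrices -/
def monoSub (ι : Type) [Fintype ι] [DecidableEq ι] (F : Type*) [Field F] : Subgroup (GL ι F) where
  carrier := {g | IsMono (g : Matrix ι ι F)}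
  mul_mem' {a b} ha hb := by
    change IsMono ((a * b : GL ι F) : Matrix ι ι F)
    rw [Units.val_mul]
    exact IsMono.mul ha hb
  one_mem' := by
    change IsMono ((1 : GL ι F) : Matrix ι ι F)
    rw [Units.val_one]
    exact isMono_one
  inv_mem' {a} ha := isMono_inv a ha

theorem mem_monoSub (g : GL ι F) : g ∈ monoSub ι F ↔ IsMono (g : Matrix ι ι F) := Iff.rfl

theorem isMaximalIn_std {c : F} (hcore : CoreProp ι F c)
    (hprop : ∃ g ∈ Cfsg.Geo.omegaGL ⇑(stdQ ι F c), ¬ IsMono (g : Matrix ι ι F)) :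
    Cfsg.Geo.IsMaximalIn (Cfsg.Geo.omegaGL ⇑(stdQ ι F c))
      (monoSub ι F ⊓ Cfsg.Geo.omegaGL ⇑(stdQ ι F c)) := by
  constructor
  · refine lt_of_le_of_ne inf_le_right (fun heq => ?_)
    obtain ⟨g, hg, hnm⟩ := hprop
    rw [← heq] at hg
    exact hnm hg.1
  · intro M h1 h2
    by_cases hne : M = monoSub ι F ⊓ Cfsg.Geo.omegaGL ⇑(stdQ ι F c)
    · exact Or.inl hne
    · right
      apply le_antisymm h2
      apply hcore M h2 (fun g hg hmono => h1 ⟨hmono, hg⟩)
      by_contra hno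
      push Not at hno
      apply hne
      apply le_antisymm _ h1
      intro g hg
      exact ⟨hno g hg, h2 hg⟩

/-! ## transport to an arbitrary frame -/

/-- TRANSPORT (assembly, helper29) -/
theorem frame_of_core {n : ℕ} (hn : 13 ≤ n) (h2 : (2 : F) ≠ 0) (Qf : QuadraticForm F (Fin n → F))
    (hcore : ∀ c : F, c ≠ 0 → CoreProp (Fin n) F c)
    {t : ℕ} (D : Fin t → Submodule F (Fin n → F)) (hD : Cfsg.Geo.IsOrthogonalMDecomposition ⇑Qf 1 D) :
    Cfsg.Geo.IsMaximalIn (Cfsg.Geo.omegaGL ⇑Qf)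
      (Cfsg.Geo.decompositionStabilizer D ⊓ Cfsg.Geo.omegaGL ⇑Qf) := by
  have ht := Cfsg.Agent.Lib.Helper11.Fr2Leaf.card_eq_of_decomp D hD.decomp.decomp
  subst ht
  obtain ⟨c, x, hc, hx, hxD, horth⟩ := Cfsg.Agent.Lib.Helper11.Fr2Leaf.exists_frame Qf D hD
  obtain ⟨P, hPx, hPQ⟩ := Cfsg.Agent.Lib.Helper11.Fr2Leaf.exists_P Qf D hD c x hx hxD horth
  have hP : ∀ j, D j = Submodule.span F {(P : Matrix (Fin t) (Fin t) F) *ᵥ (Pi.single j (1 : F))} := by
    intro j
    rw [hPx j, hxD j]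
  have hstd := isMaximalIn_std (hcore c hc)
    (Cfsg.Agent.Lib.Helper15.Fr2Leaf.exists_nonmono h2 hc (by rw [Fintype.card_fin]; omega))
  have hinj : Function.Injective (MulAut.conj P).toMonoidHom := (MulAut.conj P).injective
  have h := Cfsg.Agent.Lib.Helper5.TSMax.isMaximalIn_map (MulAut.conj P).toMonoidHom hinj hstd.1 hstd.2
  have hΩ : (Cfsg.Geo.omegaGL ⇑(stdQ (Fin t) F c)).map (MulAut.conj P).toMonoidHom =
      Cfsg.Geo.omegaGL ⇑Qf := by
    rw [← hPQ]
    exact Cfsg.Agent.Lib.Helper18.OSubLeaf.omegaGL_comp Qf P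
  have hS : (monoSub (Fin t) F).map (MulAut.conj P).toMonoidHom = Cfsg.Geo.decompositionStabilizer D := by
    ext g
    constructor
    · rintro ⟨h, hh, rfl⟩
      exact Cfsg.Agent.Lib.Helper11.Mono.conj_mem_stab D P hP h hh
    · intro hg
      refine ⟨P⁻¹ * g * P, ?_, ?_⟩
      · apply Cfsg.Agent.Lib.Helper11.UTr.isMono_of_conj_mem_stab D P hP
        have e : P * (P⁻¹ * g * P) * P⁻¹ = g := by group
        rw [e]
        exact hg
      · simp only [MulEquiv.coe_toMonoidHom, MulAut.conj_apply]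
        group
  rw [Subgroup.map_inf _ _ _ hinj, hΩ, hS] at h
  exact h

/-- S5696 from the CORE in odd dimension -/
theorem result_of_core {n : ℕ} (hn : 13 ≤ n) (heven : Even n) (Q : (Fin n → F) → F)
    (hQ : Cfsg.Geo.IsNondegenerateQuadraticForm Q) (hodd : Odd (Fintype.card F))
    (hcoreOdd : ∀ (κ : Type) [Fintype κ] [DecidableEq κ], Odd (Fintype.card κ) → 13 ≤ Fintype.card κ →
      ∀ c : F, c ≠ 0 → CoreProp κ F c)
    {t : ℕ} (D : Fin t → Submodule F (Fin n → F)) (hD : Cfsg.Geo.IsOrthogonalMDecomposition Q 1 D) :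
    Cfsg.Geo.IsMaximalIn (Cfsg.Geo.omegaGL Q) (Cfsg.Geo.decompositionStabilizer D ⊓ Cfsg.Geo.omegaGL Q) := by
  have h2 : (2 : F) ≠ 0 := Cfsg.Agent.Lib.Helper25.Spin.two_ne_zero_of_odd_card hodd
  obtain ⟨Qf, rfl, hnd⟩ := Cfsg.Agent.Lib.Helper25.Fam.exists_qf hQ
  have h14 : 14 ≤ n := by
    obtain ⟨r, hr⟩ := heven
    omega
  apply frame_of_core hn h2 Qf _ D hD
  intro c hc
  apply core_step (by rw [Fintype.card_fin]; exact h14) h2 hc
  intro j
  have hcard : Fintype.card {a : Fin n // a ≠ j} = n - 1 := by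
    rw [Fintype.card_subtype_compl, Fintype.card_fin, Fintype.card_unique]
  apply hcoreOdd {a : Fin n // a ≠ j}
  · rw [hcard]
    obtain ⟨r, hr⟩ := heven
    exact ⟨r - 1, by omega⟩
  · rw [hcard]; omega
  · exact hc

/-- INDUCTION: the CORE for index types of cardinality 13 gives the CORE in all dimensions `≥ 13` (no parity) -/
theorem coreProp_of_base (h2 : (2 : F) ≠ 0) {c : F} (hc : c ≠ 0)
    (hbase : ∀ (κ : Type) [Fintype κ] [DecidableEq κ], Fintype.card κ = 13 → CoreProp κ F c) :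
    ∀ (n : ℕ), 13 ≤ n → ∀ (κ : Type) [Fintype κ] [DecidableEq κ], Fintype.card κ = n → CoreProp κ F c := by
  intro n hn
  induction n, hn using Nat.le_induction with
  | base => intro κ _ _ h; exact hbase κ h
  | succ n hn ih =>
    intro κ _ _ h
    apply core_step (by omega) h2 hc
    intro j
    apply ih
    rw [Fintype.card_subtype_compl, h, Fintype.card_unique]
    omega

/-- the frame rows (S5679, S5696: ANY `n ≥ 13`) from the CORE in dimension 13 -/
theorem result_of_base {n : ℕ} (hn : 13 ≤ n) (Q : (Fin n → F) → F)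
    (hQ : Cfsg.Geo.IsNondegenerateQuadraticForm Q) (hodd : Odd (Fintype.card F))
    (hbase : ∀ c : F, c ≠ 0 → ∀ (κ : Type) [Fintype κ] [DecidableEq κ], Fintype.card κ = 13 → CoreProp κ F c)
    {t : ℕ} (D : Fin t → Submodule F (Fin n → F)) (hD : Cfsg.Geo.IsOrthogonalMDecomposition Q 1 D) :
    Cfsg.Geo.IsMaximalIn (Cfsg.Geo.omegaGL Q) (Cfsg.Geo.decompositionStabilizer D ⊓ Cfsg.Geo.omegaGL Q) := by
  have h2 : (2 : F) ≠ 0 := Cfsg.Agent.Lib.Helper25.Spin.two_ne_zero_of_odd_card hodd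
  obtain ⟨Qf, rfl, hnd⟩ := Cfsg.Agent.Lib.Helper25.Fam.exists_qf hQ
  apply frame_of_core hn h2 Qf _ D hD
  intro c hc
  exact coreProp_of_base h2 hc (hbase c hc) n hn (Fin n) (Fintype.card_fin n)

end Cfsg.Agent.Lib.Helper29.Fr2Main
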