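import Mathlib
import Cfsg.Agent.Lib.Helper29.Fr2Main
import Cfsg.Agent.Lib.Helper11.Fr2RG
import Cfsg.Agent.Lib.Helper14.OrthOdd

/-!
S5679 (orthogonal FRAMES, odd dimension): the transport of `Fr2Main` for an ARBITRARY index type (`frame_of_core_gen`,
leaves R0g-R4g by helper11) and S5679 from the CORE in dimension 13 (`result_of_base_odd`).
-/

set_option autoImplicit false
set_option linter.unusedSectionVars false
set_option linter.unusedVariables false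

namespace Cfsg.Agent.Lib.Helper29.Fr2Main
open Matrix Cfsg.Agent.Lib.Helper11.Mono Cfsg.Agent.Lib.Helper15.MonoLeaf Cfsg.Agent.Lib.Helper2.MonoLeaf
  Cfsg.Agent.Lib.Helper29.Fr Cfsg.Agent.Lib.Helper29.FrStd Cfsg.Agent.Lib.Helper29.Fr2Leaf
  Cfsg.Agent.Lib.Helper29.FrMain

variable {F : Type*} [Field F] [Fintype F] {ι : Type} [Fintype ι] [DecidableEq ι]

/-- TRANSPORT for an arbitrary index type (assembly, helper29) -/
theorem frame_of_core_gen (hn : 13 ≤ Fintype.card ι) (h2 : (2 : F) ≠ 0) (Qf : QuadraticForm F (ι → F))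
    (hcore : ∀ c : F, c ≠ 0 → CoreProp ι F c)
    {t : ℕ} (D : Fin t → Submodule F (ι → F)) (hD : Cfsg.Geo.IsOrthogonalMDecomposition ⇑Qf 1 D) :
    Cfsg.Geo.IsMaximalIn (Cfsg.Geo.omegaGL ⇑Qf)
      (Cfsg.Geo.decompositionStabilizer D ⊓ Cfsg.Geo.omegaGL ⇑Qf) := by
  have ht := Cfsg.Agent.Lib.Helper11.Fr2Leaf.card_eq_of_decomp_gen D hD.decomp.decomp
  let e : Fin t ≃ ι := (Fintype.equivFinOfCardEq ht.symm).symm
  obtain ⟨c, x, hc, hx, hxD, horth⟩ := Cfsg.Agent.Lib.Helper11.Fr2Leaf.exists_frame_gen Qf D hD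
  obtain ⟨P, hPx, hPQ⟩ := Cfsg.Agent.Lib.Helper11.Fr2Leaf.exists_P_gen Qf D hD c x hx hxD horth e
  have hP : ∀ j, D j = Submodule.span F {(P : Matrix ι ι F) *ᵥ (Pi.single (e j) (1 : F))} := by
    intro j
    rw [hPx j, hxD j]
  have hstd := isMaximalIn_std (hcore c hc)
    (Cfsg.Agent.Lib.Helper15.Fr2Leaf.exists_nonmono h2 hc (by omega))
  have hinj : Function.Injective (MulAut.conj P).toMonoidHom := (MulAut.conj P).injective
  have h := Cfsg.Agent.Lib.Helper5.TSMax.isMaximalIn_map (MulAut.conj P).toMonoidHom hinj hstd.1 hstd.2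
  have hΩ : (Cfsg.Geo.omegaGL ⇑(stdQ ι F c)).map (MulAut.conj P).toMonoidHom =
      Cfsg.Geo.omegaGL ⇑Qf := by
    rw [← hPQ]
    exact Cfsg.Agent.Lib.Helper18.OSubLeaf.omegaGL_comp Qf P
  have hS : (monoSub ι F).map (MulAut.conj P).toMonoidHom = Cfsg.Geo.decompositionStabilizer D := by
    ext g
    constructor
    · rintro ⟨h, hh, rfl⟩
      exact Cfsg.Agent.Lib.Helper11.Fr2Leaf.conj_mem_stab_gen D e P hP h hh
    · intro hg
      refine ⟨P⁻¹ * g * P, ?_, ?_⟩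
      · apply Cfsg.Agent.Lib.Helper11.Fr2Leaf.isMono_of_conj_mem_stab_gen D e P hP
        have e' : P * (P⁻¹ * g * P) * P⁻¹ = g := by group
        rw [e']
        exact hg
      · simp only [MulEquiv.coe_toMonoidHom, MulAut.conj_apply]
        group
  rw [Subgroup.map_inf _ _ _ hinj, hΩ, hS] at h
  exact h

/-- the frame rows for a quadratic form on `ι → F`, `13 ≤ card ι`, from the CORE in dimension 13 -/
theorem result_of_base_gen (hn : 13 ≤ Fintype.card ι) (h2 : (2 : F) ≠ 0) (Qf : QuadraticForm F (ι → F))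
    (hbase : ∀ c : F, c ≠ 0 → ∀ (κ : Type) [Fintype κ] [DecidableEq κ], Fintype.card κ = 13 → CoreProp κ F c)
    {t : ℕ} (D : Fin t → Submodule F (ι → F)) (hD : Cfsg.Geo.IsOrthogonalMDecomposition ⇑Qf 1 D) :
    Cfsg.Geo.IsMaximalIn (Cfsg.Geo.omegaGL ⇑Qf) (Cfsg.Geo.decompositionStabilizer D ⊓ Cfsg.Geo.omegaGL ⇑Qf) := by
  apply frame_of_core_gen hn h2 Qf _ D hD
  intro c hc
  exact coreProp_of_base h2 hc (hbase c hc) (Fintype.card ι) hn ι rfl

/-- S5679 from the CORE in dimension 13 -/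
theorem result_of_base_odd (hodd : Odd (Fintype.card F)) (m : ℕ) (hm : 6 ≤ m)
    (hbase : ∀ c : F, c ≠ 0 → ∀ (κ : Type) [Fintype κ] [DecidableEq κ], Fintype.card κ = 13 → CoreProp κ F c)
    {t : ℕ} (D : Fin t → Submodule F (Unit ⊕ (Fin m ⊕ Fin m) → F))
    (hD : Cfsg.Geo.IsOrthogonalMDecomposition (Cfsg.quadFormOdd m F) 1 D) :
    Cfsg.Geo.IsMaximalIn (Cfsg.Geo.omegaGL (Cfsg.quadFormOdd m F))
      (Cfsg.Geo.decompositionStabilizer D ⊓ Cfsg.Geo.omegaGL (Cfsg.quadFormOdd m F)) := by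
  have h2 : (2 : F) ≠ 0 := Cfsg.Agent.Lib.Helper25.Spin.two_ne_zero_of_odd_card hodd
  obtain ⟨Qf, hQfe⟩ : ∃ Qf : QuadraticForm F (Unit ⊕ (Fin m ⊕ Fin m) → F),
      ⇑Qf = Cfsg.quadFormOdd m F :=
    ⟨Cfsg.Agent.Lib.Helper25.Spin.qfOf (Cfsg.Agent.Lib.Helper14.isQF_odd (m := m) h2), rfl⟩
  rw [← hQfe] at hD ⊢
  apply result_of_base_gen _ h2 Qf hbase D hD
  simp only [Fintype.card_sum, Fintype.card_unique, Fintype.card_fin]
  omega

end Cfsg.Agent.Lib.Helper29.Fr2Main
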