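/-
helper29: S4503 PART H market (sub-planner helper6), leaf BRH-LAM `exists_lam`:
the `p` linear characters `λ_u × 1_K` of `C = C_G(P)` (the principal block of `C`).
-/
import Mathlib
import Cfsg.Prelude.Def_BlockRank
import Cfsg.Agent.Lib.Helper6.BRHDefs
import Cfsg.Agent.Lib.Helper7.DOS4441
import Cfsg.Agent.Lib.Helper22.DOLOC2
import Cfsg.Agent.Lib.Helper6.DOGS
import Cfsg.Agent.Lib.Helper29.DOTI

set_option autoImplicit false

namespace Cfsg.Agent.Lib.Helper29.BRHLAM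

open Cfsg Cfsg.Agent.Lib.Helper8.DOM Cfsg.Agent.Lib.Helper27.DO Cfsg.Agent.CharLib
open Cfsg.Agent.Lib.Helper6.BRH Cfsg.Agent.Lib.Helper7.DOS4441
open scoped ComplexConjugate

universe u

variable {G : Type u} [Group G] [Finite G] {p : ℕ} [Fact p.Prime] {M : Ideal AlgInt}

/-- `∑_{i : ℤ/p} ζ^(i k) = 0` for `p ∤ k`. -/
theorem sum_zetaP_pow_eq_zero' (k : ℕ) (hk : ¬ p ∣ k) :
    ∑ i : ZMod p, zetaP p ^ (i.val * k) = 0 := by
  have hp : p.Prime := Fact.out
  have hζ : IsPrimitiveRoot (zetaP p) p := Complex.isPrimitiveRoot_exp p hp.ne_zero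
  have hω : IsPrimitiveRoot (zetaP p ^ k) p :=
    hζ.pow_of_coprime k ((Nat.Prime.coprime_iff_not_dvd hp).2 hk).symm
  have h0 := hω.geom_sum_eq_zero hp.one_lt
  have h1 : ∀ i : ZMod p, zetaP p ^ (i.val * k) = (zetaP p ^ k) ^ i.val := by
    intro i; rw [← pow_mul, mul_comm]
  simp only [h1]
  obtain ⟨n, hn⟩ : ∃ n, p = n + 1 := Nat.exists_eq_succ_of_ne_zero hp.ne_zero
  subst hn
  rw [← h0]
  exact Fin.sum_univ_eq_sum_range (fun j => (zetaP (n + 1) ^ k) ^ j) (n + 1)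

omit [Finite G] [Fact p.Prime] in
/-- iterating the central index -/
theorem hasIdx_pow (P : Subgroup G) (x0 : G) (φ : Cz P → ℂ) (i : ZMod p)
    (h : HasIdx p P x0 φ i) (x0' : Cz P) (hx0' : (x0' : G) = x0) (y : Cz P) (k : ℕ) :
    φ (x0' ^ k * y) = zetaP p ^ (i.val * k) * φ y := by
  induction k with
  | zero => simp
  | succ k ih =>
    have h1 := h (x0' ^ k * y) (x0' ^ (k + 1) * y) (by
      rw [pow_succ', mul_assoc, Subgroup.coe_mul, hx0'])
    rw [h1, ih, ← mul_assoc, ← pow_add]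
    congr 2
    ring

/-- a `p`-singular element of `C` is `x0^k y` with `p ∤ k` and `y` `p`-regular -/
theorem exists_decomp (P : Subgroup G) (hP : Nat.card P = p) (hSyl : ¬ p ∣ P.index) (x0 : G)
    (hx0 : P = Subgroup.zpowers x0) (x0' : Cz P) (hx0' : (x0' : G) = x0) (c : Cz P)
    (hc : p ∣ orderOf c) :
    ∃ (k : ℕ) (y : Cz P), ¬ p ∣ k ∧ ¬ p ∣ orderOf y ∧ c = x0' ^ k * y := by
  have hp : p.Prime := Fact.out
  obtain ⟨m, hm⟩ := hc
  -- p ∤ m
  have hpm : ¬ p ∣ m := by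
    intro hpm
    have h1 : p * p ∣ orderOf c := by rw [hm]; exact Nat.mul_dvd_mul_left p hpm
    have h2 : orderOf c ∣ Nat.card G := by
      have h3 : orderOf c = orderOf (c : G) := (Subgroup.orderOf_coe c).symm
      rw [h3]
      exact orderOf_dvd_natCard (c : G)
    have h4 : p * p ∣ Nat.card G := h1.trans h2
    rw [← Subgroup.card_mul_index P, hP] at h4
    exact hSyl (Nat.dvd_of_mul_dvd_mul_left hp.pos h4)
  have hcop : Nat.Coprime p m := (Nat.Prime.coprime_iff_not_dvd hp).mpr hpm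
  have hbez : (p : ℤ) * Nat.gcdA p m + (m : ℤ) * Nat.gcdB p m = 1 := by
    have := Nat.gcd_eq_gcd_ab p m
    rw [hcop] at this
    exact_mod_cast this.symm
  set A := Nat.gcdA p m
  set B := Nat.gcdB p m
  set z : Cz P := c ^ ((m : ℤ) * B) with hz
  set y : Cz P := c ^ ((p : ℤ) * A) with hy
  have hcyz : c = z * y := by
    rw [hz, hy, ← zpow_add, add_comm, hbez, zpow_one]
  have hzp : z ^ p = 1 := by
    rw [hz, ← zpow_natCast, ← zpow_mul]
    have : (m : ℤ) * B * (p : ℤ) = ((orderOf c : ℕ) : ℤ) * B := by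
      rw [hm]; push_cast; ring
    rw [this, zpow_mul, zpow_natCast, pow_orderOf_eq_one, one_zpow]
  have hym : y ^ m = 1 := by
    rw [hy, ← zpow_natCast, ← zpow_mul]
    have : (p : ℤ) * A * (m : ℤ) = ((orderOf c : ℕ) : ℤ) * A := by
      rw [hm]; push_cast; ring
    rw [this, zpow_mul, zpow_natCast, pow_orderOf_eq_one, one_zpow]
  have hyreg : ¬ p ∣ orderOf y := fun h => hpm (h.trans (orderOf_dvd_of_pow_eq_one hym))
  have hz1 : z ≠ 1 := by
    intro h
    rw [h, one_mul] at hcyz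
    apply hpm
    have : orderOf c ∣ m := by rw [hcyz]; exact orderOf_dvd_of_pow_eq_one hym
    exact (Dvd.intro _ hm.symm).trans this
  have hzP : (z : G) ∈ P := by
    apply Cfsg.Agent.Lib.Helper29.DOTI.mem_of_mem_Cz P hP hSyl z.2
    rw [← Subgroup.coe_pow, hzp, Subgroup.coe_one]
  have hzP' : (z : G) ∈ Subgroup.zpowers x0 := hx0 ▸ hzP
  rw [← mem_powers_iff_mem_zpowers] at hzP'
  obtain ⟨k, hk⟩ := (Submonoid.mem_powers_iff _ _).mp hzP'
  have hzk : z = x0' ^ k := by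
    apply Subtype.ext
    rw [Subgroup.coe_pow, hx0', hk]
  refine ⟨k, y, ?_, hyreg, by rw [hcyz, hzk]⟩
  intro hpk
  apply hz1
  have hx0p : x0 ^ p = 1 := by
    have hmem : x0 ∈ P := by rw [hx0]; exact Subgroup.mem_zpowers x0
    have := pow_card_eq_one' (G := P) (x := ⟨x0, hmem⟩)
    rw [hP] at this
    exact congrArg Subtype.val this
  obtain ⟨q, rfl⟩ := hpk
  apply Subtype.ext
  rw [hzk, Subgroup.coe_pow, hx0', pow_mul, hx0p, one_pow, Subgroup.coe_one]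

/-- LAM : the `p` linear characters `λ_u × 1_K` of `C`. -/
theorem exists_lam (hM : IsPModular p M) (P : Subgroup G) (hP : Nat.card P = p)
    (hSyl : ¬ p ∣ P.index) : ∃ lam : ZMod p → IrrCharacter (Cz P), LamData p P lam := by
  have hp : p.Prime := Fact.out
  obtain ⟨x0, hx0⟩ := exists_gen P hP
  have h2 : Cfsg.Agent.Lib.Helper6.DOGS.Loc2 p M P x0 (triv P) :=
    Cfsg.Agent.Lib.Helper22.DOLOC2.block_of_pTriv hM P hP hSyl x0 hx0 (triv P) (pTriv_triv P)
  have hx0P : x0 ∈ P := by rw [hx0]; exact Subgroup.mem_zpowers x0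
  have hx0C : x0 ∈ Cz P := by
    rw [Subgroup.mem_centralizer_iff]
    intro h hh
    have hh' : h ∈ P := hh
    rw [hx0] at hh'
    obtain ⟨j, rfl⟩ := Subgroup.mem_zpowers_iff.mp hh'
    exact (Commute.zpow_self x0 j).eq
  refine ⟨Cfsg.Agent.Lib.Helper6.DOGS.phi h2, ?_, ?_, ?_, ?_⟩
  · intro i j h
    exact Cfsg.Agent.Lib.Helper6.DOGS.phi_inj h2 hx0 i j h
  · intro c
    rw [Cfsg.Agent.Lib.Helper6.DOGS.phi_zero hM h2 hx0 (pTriv_triv P)]
    exact triv_apply P c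
  · intro u c hc
    rw [h2.2.1 _ (Cfsg.Agent.Lib.Helper6.DOGS.phi_mem h2 u) c hc]
    exact triv_apply P c
  · intro c hc
    obtain ⟨k, y, hk, hy, rfl⟩ := exists_decomp P hP hSyl x0 hx0 ⟨x0, hx0C⟩ rfl c hc
    rw [finsum_eq_sum_of_fintype]
    have hterm : ∀ u : ZMod p,
        (Cfsg.Agent.Lib.Helper6.DOGS.phi h2 u : Cz P → ℂ) ((⟨x0, hx0C⟩ : Cz P) ^ k * y) =
          zetaP p ^ (u.val * k) := by
      intro u
      rw [hasIdx_pow P x0 _ u (Cfsg.Agent.Lib.Helper6.DOGS.phi_idx h2 u) ⟨x0, hx0C⟩ rfl y k,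
        h2.2.1 _ (Cfsg.Agent.Lib.Helper6.DOGS.phi_mem h2 u) y hy, triv_apply, mul_one]
    simp only [hterm]
    exact sum_zetaP_pow_eq_zero' k hk

end Cfsg.Agent.Lib.Helper29.BRHLAM
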