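import Mathlib
import Cfsg.Agent.S3971

/-!
# Subgroups of dihedral 2-groups and odd-order automorphisms (helper29)

`DihLike Q`: the subgroup `Q` has a cyclic subgroup `⟨c⟩` of index at most 2 such that every element
of `Q` outside `⟨c⟩` squares to 1.  Dihedral groups have this property, and it passes to subgroups and
along injective homomorphisms.

Main result `mem_centralizer_or_isKleinFour`: an element of odd order normalizing a `DihLike`
2-subgroup `Q` centralizes it, unless `Q` is a Klein four-group.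
-/

set_option autoImplicit false

namespace Cfsg.Agent.Lib.Helper29

open Subgroup

/-- `Q` has a cyclic subgroup `⟨c⟩` of index at most 2 outside which every element squares to 1. -/
def DihLike {G : Type*} [Group G] (Q : Subgroup G) : Prop :=
  ∃ c ∈ Q, Nat.card Q ≤ 2 * orderOf c ∧ ∀ x ∈ Q, x ∉ zpowers c → x ^ 2 = 1

theorem dihLike_top_dihedralGroup (m : ℕ) : DihLike (⊤ : Subgroup (DihedralGroup m)) := by
  refine ⟨DihedralGroup.r 1, mem_top _, ?_, ?_⟩
  · rw [Subgroup.card_top, DihedralGroup.nat_card, DihedralGroup.orderOf_r_one]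
  · intro x _ hx
    cases x with
    | r i =>
      exfalso
      apply hx
      rw [Subgroup.mem_zpowers_iff]
      obtain ⟨k, hk⟩ : ∃ k : ℤ, (k : ZMod m) = i := ZMod.intCast_surjective i
      exact ⟨k, by rw [DihedralGroup.r_one_zpow, hk]⟩
    | sr i => rw [pow_two, DihedralGroup.sr_mul_self]

theorem DihLike.map {G H : Type*} [Group G] [Group H] {Q : Subgroup G} (hQ : DihLike Q)
    (f : G →* H) (hf : Function.Injective f) : DihLike (Q.map f) := by
  obtain ⟨c, hc, hcard, hout⟩ := hQ
  refine ⟨f c, Subgroup.mem_map_of_mem f hc, ?_, ?_⟩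
  · rw [Subgroup.card_map_of_injective hf, orderOf_injective f hf]
    exact hcard
  · rintro _ ⟨y, hy, rfl⟩ hyc
    have : y ∉ zpowers c := by
      intro h
      apply hyc
      obtain ⟨k, rfl⟩ := Subgroup.mem_zpowers_iff.mp h
      exact Subgroup.mem_zpowers_iff.mpr ⟨k, by rw [map_zpow]⟩
    rw [← map_pow, hout y hy this, map_one]

theorem DihLike.of_le {G : Type*} [Group G] [Finite G] {S Q : Subgroup G} (hS : DihLike S)
    (hQS : Q ≤ S) : DihLike Q := by
  obtain ⟨c, hc, hcard, hout⟩ := hS
  obtain ⟨j, hj⟩ := (Subgroup.le_zpowers_iff c (Q ⊓ zpowers c)).mp inf_le_right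
  have hcQ : c ^ j ∈ Q := by
    have : c ^ j ∈ Q ⊓ zpowers c := by rw [hj]; exact mem_zpowers _
    exact this.1
  refine ⟨c ^ j, hcQ, ?_, ?_⟩
  · rw [← Nat.card_zpowers, ← hj]
    have hCS : zpowers c ≤ S := zpowers_le_of_mem hc
    have h1 := Cfsg.Agent.Lib.Helper4.card_mul_relIndex (inf_le_left : Q ⊓ zpowers c ≤ Q)
    rw [Subgroup.inf_relIndex_left] at h1
    have h2 := Cfsg.Agent.Lib.Helper4.card_mul_relIndex hCS
    rw [Nat.card_zpowers] at h2
    have hri : (zpowers c).relIndex S ≤ 2 := by
      by_contra hcon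
      push Not at hcon
      have : orderOf c * 3 ≤ orderOf c * (zpowers c).relIndex S := Nat.mul_le_mul_left _ hcon
      have := orderOf_pos c
      omega
    have hne : (zpowers c).relIndex S ≠ 0 := by
      intro h0
      rw [h0, mul_zero] at h2
      exact (Nat.card_pos (α := S)).ne' h2.symm
    have hle := Subgroup.relIndex_le_of_le_right hQS hne
    rw [← h1, mul_comm]
    exact Nat.mul_le_mul_right _ (hle.trans hri)
  · intro x hx hxc
    apply hout x (hQS hx)
    intro h
    apply hxc
    have : x ∈ Q ⊓ zpowers c := ⟨hx, h⟩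
    rw [hj] at this
    exact this

/-- prime power version of the main lemma -/
theorem le_centralizer_or_isKleinFour_of_prime_pow {G : Type*} [Group G] [Finite G]
    (Q : Subgroup G) (hQ2 : IsPGroup 2 Q) (hQ : DihLike Q) (g : G)
    (hg : g ∈ normalizer (Q : Set G)) (r k : ℕ) (hr : r.Prime) (hr3 : 3 ≤ r)
    (ho : orderOf g = r ^ k) :
    Q ≤ centralizer (zpowers g : Set G) ∨ IsKleinFour Q := by
  obtain ⟨c, hc, hcard, hout⟩ := hQ
  obtain ⟨m, hm⟩ := (IsPGroup.iff_orderOf.mp hQ2) ⟨c, hc⟩
  rw [Subgroup.orderOf_mk] at hm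
  have hr2 : r ≠ 2 := by omega
  have hcopQ : (Nat.card Q).Coprime r := by
    obtain ⟨j, hj⟩ := IsPGroup.iff_card.mp hQ2
    rw [hj]
    exact Nat.Coprime.pow_left _ ((Nat.coprime_primes Nat.prime_two hr).mpr (Ne.symm hr2))
  by_cases h4 : 4 ≤ orderOf c
  · left
    have hc2 : c ^ 2 ≠ 1 := by
      intro h
      have := orderOf_le_of_pow_eq_one (by norm_num) h
      omega
    have hCeq : Subgroup.closure {x | x ∈ Q ∧ x ^ 2 ≠ 1} = zpowers c := by
      apply le_antisymm
      · rw [Subgroup.closure_le]
        rintro x ⟨hxQ, hx2⟩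
        by_contra hxc
        exact hx2 (hout x hxQ hxc)
      · apply zpowers_le_of_mem
        exact Subgroup.subset_closure ⟨hc, hc2⟩
    have hgC : g ∈ normalizer (zpowers c : Set G) := by
      rw [← hCeq]
      apply Cfsg.Agent.Lib.Helper16.mem_normalizer_of_map_conj_le
      rw [MonoidHom.map_closure, Subgroup.closure_le]
      rintro _ ⟨x, ⟨hxQ, hx2⟩, rfl⟩
      apply Subgroup.subset_closure
      refine ⟨(Subgroup.mem_normalizer_iff.mp hg x).mp hxQ, ?_⟩
      change (g * x * g⁻¹) ^ 2 ≠ 1
      rw [conj_pow]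
      intro h
      apply hx2
      have : x ^ 2 = g⁻¹ * (g * x ^ 2 * g⁻¹) * g := by group
      rw [this, h]; group
    have hE := Cfsg.Agent.S3971.zpowers_le_centralizer_of_two_pow g r k hr hr3 ho m c hm hgC
    refine Cfsg.Agent.S3971.le_centralizer_of_card_lt Q (zpowers c) g hg r k hr ho hcopQ
      (zpowers_le_of_mem hc) hE ?_
    rw [Nat.card_zpowers]
    have := orderOf_pos c
    nlinarith
  · push Not at h4
    have hc2 : c ^ 2 = 1 := by
      have hm1 : m ≤ 1 := by
        by_contra hcon
        push Not at hcon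
        have : 2 ^ 2 ≤ 2 ^ m := Nat.pow_le_pow_right (by norm_num) hcon
        omega
      apply orderOf_dvd_iff_pow_eq_one.mp
      rw [hm]
      interval_cases m <;> norm_num
    have hall : ∀ x ∈ Q, x ^ 2 = 1 := by
      intro x hx
      by_cases hxc : x ∈ zpowers c
      · obtain ⟨i, rfl⟩ := Subgroup.mem_zpowers_iff.mp hxc
        rw [← zpow_natCast, ← zpow_mul, mul_comm, zpow_mul, zpow_natCast, hc2, one_zpow]
      · exact hout x hx hxc
    have hcard4 : Nat.card Q ≤ 4 := by
      have : orderOf c ≤ 2 := orderOf_le_of_pow_eq_one (by norm_num) hc2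
      omega
    obtain ⟨j, hj⟩ := IsPGroup.iff_card.mp hQ2
    have hj2 : j ≤ 2 := by
      by_contra hcon
      push Not at hcon
      have : 2 ^ 3 ≤ 2 ^ j := Nat.pow_le_pow_right (by norm_num) hcon
      omega
    by_cases hj' : j = 2
    · right
      refine ⟨by rw [hj, hj']; norm_num, ?_⟩
      have hdvd : Monoid.exponent Q ∣ 2 := by
        apply Monoid.exponent_dvd_of_forall_pow_eq_one
        rintro ⟨x, hx⟩
        apply Subtype.ext
        simpa using hall x hx
      have hne1 : Monoid.exponent Q ≠ 1 := by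
        intro h1
        rw [Monoid.exp_eq_one_iff] at h1
        have := Nat.card_eq_one_iff_unique.mpr ⟨h1, ⟨1⟩⟩
        rw [hj, hj'] at this
        norm_num at this
      rcases (Nat.dvd_prime Nat.prime_two).mp hdvd with h | h
      · exact absurd h hne1
      · exact h
    · left
      refine Cfsg.Agent.S3971.le_centralizer_of_card_lt Q ⊥ g hg r k hr ho hcopQ bot_le bot_le ?_
      rw [Subgroup.card_bot, hj]
      have : j ≤ 1 := by omega
      have : 2 ^ j ≤ 2 ^ 1 := Nat.pow_le_pow_right (by norm_num) this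
      omega

/-- To show that an element `g` of odd order normalizing `Q` centralizes `Q`, it suffices to treat its
powers of odd prime power order. -/
theorem mem_centralizer_of_forall_prime_pow {G : Type*} [Group G] [Finite G]
    (Q : Subgroup G) (g : G) (hodd : (orderOf g).Coprime 2)
    (h : ∀ g' ∈ zpowers g, ∀ r k : ℕ, r.Prime → 3 ≤ r → orderOf g' = r ^ k →
      Q ≤ centralizer (zpowers g' : Set G)) :
    g ∈ centralizer (Q : Set G) := by
  by_contra hgc
  obtain ⟨g', hg'z, hg'c, r, k, hr, hg'o⟩ :=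
    exists_prime_pow_order_not_mem (centralizer (Q : Set G)) _ g rfl hgc
  have hd : orderOf g' ∣ orderOf g := by
    obtain ⟨j, rfl⟩ := Subgroup.mem_zpowers_iff.mp hg'z
    exact orderOf_dvd_of_pow_eq_one (by
      rw [← zpow_natCast, ← zpow_mul, mul_comm, zpow_mul, zpow_natCast, pow_orderOf_eq_one,
        one_zpow])
  have hk : k ≠ 0 := by
    rintro rfl
    rw [pow_zero, orderOf_eq_one_iff] at hg'o
    rw [hg'o] at hg'c
    exact hg'c (Subgroup.one_mem _)
  have hrd : r ∣ orderOf g' := by
    rw [hg'o]; exact dvd_pow_self r hk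
  have hr2 : r ≠ 2 := by
    rintro rfl
    have h2 : 2 ∣ orderOf g := hrd.trans hd
    have := Nat.eq_one_of_dvd_coprimes hodd h2 (dvd_refl 2)
    omega
  have hr3 : 3 ≤ r := by
    have := hr.two_le
    omega
  have hle := h g' hg'z r k hr hr3 hg'o
  apply hg'c
  rw [Subgroup.mem_centralizer_iff]
  intro y hy
  have hy' := hle hy
  rw [Subgroup.mem_centralizer_iff] at hy'
  exact (hy' g' (mem_zpowers g')).symm

/-- An element of odd order normalizing a `DihLike` 2-subgroup centralizes it, unless the subgroup is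
a Klein four-group. -/
theorem mem_centralizer_or_isKleinFour {G : Type*} [Group G] [Finite G]
    (Q : Subgroup G) (hQ2 : IsPGroup 2 Q) (hQ : DihLike Q) (g : G)
    (hg : g ∈ normalizer (Q : Set G)) (hodd : (orderOf g).Coprime 2) :
    g ∈ centralizer (Q : Set G) ∨ IsKleinFour Q := by
  by_cases hK : IsKleinFour Q
  · exact Or.inr hK
  left
  apply mem_centralizer_of_forall_prime_pow Q g hodd
  intro g' hg'z r k hr hr3 hg'o
  have hg'N : g' ∈ normalizer (Q : Set G) := (Subgroup.zpowers_le.mpr hg) hg'z
  rcases le_centralizer_or_isKleinFour_of_prime_pow Q hQ2 hQ g' hg'N r k hr hr3 hg'o with h | h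
  · exact h
  · exact absurd h hK

/-- An element of odd order normalizing a subgroup `Q` of order 4 and centralizing a nonidentity element
of `Q` centralizes `Q`. -/
theorem mem_centralizer_of_card_four_of_fixed {G : Type*} [Group G] [Finite G]
    (Q : Subgroup G) (hQ4 : Nat.card Q = 4) (g : G)
    (hg : g ∈ normalizer (Q : Set G)) (hodd : (orderOf g).Coprime 2) (t : G) (htQ : t ∈ Q)
    (ht1 : t ≠ 1) (hgt : g * t = t * g) : g ∈ centralizer (Q : Set G) := by
  apply mem_centralizer_of_forall_prime_pow Q g hodd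
  intro g' hg'z r k hr hr3 hg'o
  have hg'N : g' ∈ normalizer (Q : Set G) := (Subgroup.zpowers_le.mpr hg) hg'z
  have hr2 : r ≠ 2 := by omega
  refine Cfsg.Agent.S3971.le_centralizer_of_card_lt Q (zpowers t) g' hg'N r k hr hg'o ?_
    (zpowers_le_of_mem htQ) ?_ ?_
  · rw [hQ4]
    exact Nat.Coprime.pow_left 2 ((Nat.coprime_primes Nat.prime_two hr).mpr (Ne.symm hr2))
  · -- `t` commutes with every power of `g'`
    apply zpowers_le_of_mem
    rw [Subgroup.mem_centralizer_iff]
    intro y hy
    have hyg : y ∈ zpowers g := (Subgroup.zpowers_le.mpr hg'z) hy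
    obtain ⟨i, rfl⟩ := Subgroup.mem_zpowers_iff.mp hyg
    exact ((Commute.zpow_left (show Commute g t from hgt) i)).eq
  · rw [hQ4, Nat.card_zpowers]
    have h2 : 2 ≤ orderOf t := by
      have hpos := orderOf_pos t
      have : orderOf t ≠ 1 := fun h => ht1 (orderOf_eq_one_iff.mp h)
      omega
    nlinarith

/-- If a Sylow `p`-subgroup is `DihLike` then so is every `p`-subgroup. -/
theorem DihLike.of_isPGroup {G : Type*} [Group G] [Finite G] {p : ℕ} [Fact p.Prime]
    (S : Sylow p G) (hS : DihLike (S : Subgroup G)) (R : Subgroup G) (hR : IsPGroup p R) :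
    DihLike R := by
  obtain ⟨S', hRS'⟩ := hR.exists_le_sylow
  obtain ⟨x, hx⟩ := MulAction.exists_smul_eq G S S'
  have h1 : DihLike ((x • S : Sylow p G) : Subgroup G) := by
    rw [Sylow.coe_subgroup_smul, Subgroup.pointwise_smul_def]
    exact hS.map _ (MulAut.conj x).injective
  rw [hx] at h1
  exact h1.of_le hRS'

/-- A subgroup isomorphic to a dihedral group is `DihLike`. -/
theorem dihLike_of_mulEquiv_dihedralGroup {G : Type*} [Group G] (S : Subgroup G) (m : ℕ)
    (eS : S ≃* DihedralGroup m) : DihLike S := by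
  have h1 := (dihLike_top_dihedralGroup m).map
    (S.subtype.comp eS.symm.toMonoidHom) (S.subtype_injective.comp eS.symm.injective)
  have e : (⊤ : Subgroup (DihedralGroup m)).map (S.subtype.comp eS.symm.toMonoidHom) = S := by
    rw [← MonoidHom.range_eq_map, MonoidHom.range_comp,
      MonoidHom.range_eq_top.mpr eS.symm.surjective, ← MonoidHom.range_eq_map,
      Subgroup.range_subtype]
  rwa [e] at h1

end Cfsg.Agent.Lib.Helper29
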