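import Mathlib
import Cfsg.Agent.Lib.Helper29.SpAschTools
import Cfsg.Agent.Lib.Helper20.AschTS
import Cfsg.Agent.Lib.Helper29.AschKF2
import Cfsg.Agent.Lib.Helper27.AschKF3
import Cfsg.Agent.Lib.Helper7.AschForms

/-!
S5662 market FQ: leaves (Q1) `invariant_bilinear_eq`, (Q2) `quad_odd_false`, (U1) `unitary_rep`, (U2) `unitary_conj`,
(U3) `exists_fixed_subfield` (exact signatures of `notes/S5662_FQ_leaves.lean`).
-/

set_option autoImplicit false
set_option linter.unusedSectionVars false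
set_option linter.unusedVariables false

namespace Cfsg.Agent.Lib.Helper29.SpAschLeaf
open Matrix Cfsg Cfsg.Geo Cfsg.Agent.Lib.Helper20.Asch Cfsg.Agent.Lib.Helper29.SpAsch
open scoped Kronecker

variable {F : Type*} [Field F] [Fintype F] {n m : ℕ} {J : Matrix (Fin n) (Fin n) F}
  {H N : Subgroup (GL (Fin n) F)}

/-- `J x J⁻¹` is the inverse of `xᵀ` for an isometry `x` -/
lemma conj_mul_transpose (hd : J.det ≠ 0) (x : Matrix (Fin n) (Fin n) F) (hx : xᵀ * J * x = J) :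
    (J * x * J⁻¹) * xᵀ = 1 := by
  have h1 : xᵀ * (J * x * J⁻¹) = 1 := by
    rw [← mul_assoc, ← mul_assoc, hx, J_mul_inv hd]
  exact mul_eq_one_comm.mp h1

/-- (Q1) SCHUR -/
theorem invariant_bilinear_eq (hJ : IsAltGram J) (hNJ : N ≤ isoG J) (habs : AbsIrr N)
    (B : (Fin n → F) → (Fin n → F) → F) (hB : IsBilinearForm B) (hfix : FixesForm (matrixSet N) B) :
    ∃ c : F, ∀ u v, B u v = c * bfm J u v := by
  classical
  obtain ⟨G, hGdef⟩ : ∃ G, G = Cfsg.Agent.Lib.Helper7.AschLeaf.gramF B := ⟨_, rfl⟩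
  have hrep : ∀ u v, B u v = bfm G u v := by
    intro u v
    have := Cfsg.Agent.Lib.Helper7.AschLeaf.rep_of (RingHom.id F) B hB.add_left hB.smul_left
      hB.add_right (by intro c v x; simpa using hB.smul_right c v x) u v
    rw [this, hGdef]
    rfl
  have hd := hJ.det
  have hGx : ∀ x ∈ N, (x : Matrix (Fin n) (Fin n) F)ᵀ * G * (x : Matrix (Fin n) (Fin n) F) = G := by
    intro x hx
    apply bfm_injective
    intro u v
    rw [← bfm_mulVec, ← hrep, ← hrep]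
    exact hfix _ ⟨x, hx, rfl⟩ u v
  have hJx : ∀ x ∈ N, (x : Matrix (Fin n) (Fin n) F)ᵀ * J * (x : Matrix (Fin n) (Fin n) F) = J :=
    fun x hx => (mem_isoG_iff x).1 (hNJ hx)
  obtain ⟨c, hc⟩ := habs.2 (J⁻¹ * G) (by
    rintro _ ⟨x, hx, rfl⟩
    have h1 := conj_mul_transpose hd _ (hJx x hx)
    have h2 : G * (x : Matrix (Fin n) (Fin n) F) =
        J * (x : Matrix (Fin n) (Fin n) F) * J⁻¹ * G := by
      calc G * (x : Matrix (Fin n) (Fin n) F)
          = (J * (x : Matrix (Fin n) (Fin n) F) * J⁻¹ * (x : Matrix (Fin n) (Fin n) F)ᵀ) *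
              (G * (x : Matrix (Fin n) (Fin n) F)) := by rw [h1, one_mul]
        _ = J * (x : Matrix (Fin n) (Fin n) F) * J⁻¹ *
              ((x : Matrix (Fin n) (Fin n) F)ᵀ * G * (x : Matrix (Fin n) (Fin n) F)) := by
            simp only [mul_assoc]
        _ = _ := by rw [hGx x hx]
    calc J⁻¹ * G * (x : Matrix (Fin n) (Fin n) F)
        = J⁻¹ * (G * (x : Matrix (Fin n) (Fin n) F)) := by rw [mul_assoc]
      _ = (J⁻¹ * J) * (x : Matrix (Fin n) (Fin n) F) * (J⁻¹ * G) := by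
          rw [h2]; simp only [mul_assoc]
      _ = (x : Matrix (Fin n) (Fin n) F) * (J⁻¹ * G) := by rw [J_inv_mul hd, one_mul])
  refine ⟨c, fun u v => ?_⟩
  have hG : G = c • J := by
    calc G = (J * J⁻¹) * G := by rw [J_mul_inv hd, one_mul]
      _ = J * (J⁻¹ * G) := by rw [mul_assoc]
      _ = c • J := by rw [hc, Matrix.mul_smul, mul_one]
  rw [hrep, hG]
  unfold bfm
  rw [Matrix.smul_mulVec, dotProduct_smul, smul_eq_mul]

/-- (Q2) odd characteristic: no invariant quadratic form -/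
theorem quad_odd_false (hJ : IsAltGram J) (hn : 0 < n) (h2 : (2 : F) ≠ 0) (Q : (Fin n → F) → F)
    (hQ : IsNondegenerateQuadraticForm Q) (c : F)
    (hc : ∀ u v, QuadraticMap.polar Q u v = c * bfm J u v) : False := by
  classical
  have hv : (Pi.single (⟨0, hn⟩ : Fin n) (1 : F) : Fin n → F) ≠ 0 := by
    intro h
    have := congrFun h ⟨0, hn⟩
    simp at this
  obtain ⟨x, hx⟩ := (hQ.nondegenerate _ hv).1
  apply hx
  have h1 := hc x (Pi.single (⟨0, hn⟩ : Fin n) (1 : F))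
  have h3 := hc (Pi.single (⟨0, hn⟩ : Fin n) (1 : F)) x
  have hsk := bfm_skew hJ (Pi.single (⟨0, hn⟩ : Fin n) (1 : F)) x
  have hcomm := QuadraticMap.polar_comm Q x (Pi.single (⟨0, hn⟩ : Fin n) (1 : F))
  have h4 : (2 : F) * (c * bfm J x (Pi.single (⟨0, hn⟩ : Fin n) (1 : F))) = 0 := by
    have h5 : c * bfm J x (Pi.single (⟨0, hn⟩ : Fin n) (1 : F)) =
        c * bfm J (Pi.single (⟨0, hn⟩ : Fin n) (1 : F)) x := by rw [← h1, ← h3, hcomm]
    rw [hsk] at h5
    linear_combination h5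
  rw [h1]
  exact (mul_eq_zero.mp h4).resolve_left h2

/-- (U1) Gram matrix of a unitary form -/
theorem unitary_rep (σ : F ≃+* F) (g : (Fin n → F) → (Fin n → F) → F) (hg : IsUnitaryForm σ g) :
    ∃ G : Matrix (Fin n) (Fin n) F, G.det ≠ 0 ∧
      ∀ u v : Fin n → F, g u v = u ⬝ᵥ (G *ᵥ (fun i => σ (v i))) := by
  have har : ∀ v x y, g v (x + y) = g v x + g v y := by
    intro v x y
    rw [hg.herm v (x + y), hg.add_left, map_add, ← hg.herm, ← hg.herm]
  have hsr : ∀ (c : F) (v x : Fin n → F), g v (c • x) = (σ : F →+* F) c * g v x := by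
    intro c v x
    rw [hg.herm v (c • x), hg.smul_left, map_mul, ← hg.herm]
    rfl
  have hrep := Cfsg.Agent.Lib.Helper7.AschLeaf.rep_of (σ : F →+* F) g hg.add_left hg.smul_left har hsr
  refine ⟨Cfsg.Agent.Lib.Helper7.AschLeaf.gramF g,
    Cfsg.Agent.Lib.Helper7.AschLeaf.gram_det_ne_zero' (σ : F →+* F) g hrep hg.nondegenerate, ?_⟩
  intro u v
  rw [hrep u v]
  rfl

/-- (U2) the twist by `σ` is conjugation by `C = J⁻¹ G` -/
theorem unitary_conj (hJ : IsAltGram J) (hNJ : N ≤ isoG J) (σ : F ≃+* F) (G : Matrix (Fin n) (Fin n) F)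
    (hG : G.det ≠ 0) (g : (Fin n → F) → (Fin n → F) → F)
    (hrep : ∀ u v : Fin n → F, g u v = u ⬝ᵥ (G *ᵥ (fun i => σ (v i))))
    (hfix : FixesForm (matrixSet N) g) :
    ∃ C : GL (Fin n) F, ∀ x ∈ N, (x : Matrix (Fin n) (Fin n) F).map σ =
      ((C⁻¹ : GL (Fin n) F) : Matrix (Fin n) (Fin n) F) * (x : Matrix (Fin n) (Fin n) F) * (C : Matrix (Fin n) (Fin n) F) := by
  classical
  have hd := hJ.det
  have hGi : G⁻¹ * G = 1 := Matrix.nonsing_inv_mul G (Ne.isUnit hG)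
  have hGi' : G * G⁻¹ = 1 := Matrix.mul_nonsing_inv G (Ne.isUnit hG)
  let C : GL (Fin n) F := ⟨J⁻¹ * G, G⁻¹ * J, by
      calc J⁻¹ * G * (G⁻¹ * J) = J⁻¹ * (G * G⁻¹) * J := by simp only [mul_assoc]
        _ = 1 := by rw [hGi', mul_one, J_inv_mul hd], by
      calc G⁻¹ * J * (J⁻¹ * G) = G⁻¹ * (J * J⁻¹) * G := by simp only [mul_assoc]
        _ = 1 := by rw [J_mul_inv hd, mul_one, hGi]⟩
  refine ⟨C, fun x hx => ?_⟩
  have hCv : (C : Matrix (Fin n) (Fin n) F) = J⁻¹ * G := rfl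
  have hCi : ((C⁻¹ : GL (Fin n) F) : Matrix (Fin n) (Fin n) F) = G⁻¹ * J := rfl
  have hJx : (x : Matrix (Fin n) (Fin n) F)ᵀ * J * (x : Matrix (Fin n) (Fin n) F) = J :=
    (mem_isoG_iff x).1 (hNJ hx)
  have hGx : (x : Matrix (Fin n) (Fin n) F)ᵀ * G * (x : Matrix (Fin n) (Fin n) F).map σ = G := by
    apply Cfsg.Agent.Lib.Helper7.AschLeaf.eq_of_forall_dot (σ : F →+* F)
    intro u v
    have h1 := hfix _ ⟨x, hx, rfl⟩ u v
    rw [hrep, hrep] at h1
    have h2 := Cfsg.Agent.Lib.Helper7.AschLeaf.dot_conj (σ : F →+* F) G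
      (x : Matrix (Fin n) (Fin n) F) u v
    exact h2.symm.trans h1
  have h1 := conj_mul_transpose hd _ hJx
  have h2 : G * (x : Matrix (Fin n) (Fin n) F).map σ =
      J * (x : Matrix (Fin n) (Fin n) F) * J⁻¹ * G := by
    calc G * (x : Matrix (Fin n) (Fin n) F).map σ
        = (J * (x : Matrix (Fin n) (Fin n) F) * J⁻¹ * (x : Matrix (Fin n) (Fin n) F)ᵀ) *
            (G * (x : Matrix (Fin n) (Fin n) F).map σ) := by rw [h1, one_mul]
      _ = J * (x : Matrix (Fin n) (Fin n) F) * J⁻¹ *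
            ((x : Matrix (Fin n) (Fin n) F)ᵀ * G * (x : Matrix (Fin n) (Fin n) F).map σ) := by
          simp only [mul_assoc]
      _ = _ := by rw [hGx]
  rw [hCv, hCi]
  calc (x : Matrix (Fin n) (Fin n) F).map σ
      = (G⁻¹ * G) * (x : Matrix (Fin n) (Fin n) F).map σ := by rw [hGi, one_mul]
    _ = G⁻¹ * (G * (x : Matrix (Fin n) (Fin n) F).map σ) := by rw [mul_assoc]
    _ = G⁻¹ * J * (x : Matrix (Fin n) (Fin n) F) * (J⁻¹ * G) := by rw [h2]; simp only [mul_assoc]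

/-- (U3) the fixed field of a non-trivial automorphism is a proper subfield -/
theorem exists_fixed_subfield (σ : F ≃+* F) (hσ : σ ≠ RingEquiv.refl F) :
    ∃ F₀ : Subfield F, F₀ ≠ ⊤ ∧ ∀ c : F, c ∈ F₀ ↔ σ c = c := by
  refine ⟨(σ : F →+* F).eqLocusField (RingHom.id F), ?_, fun c => Iff.rfl⟩
  intro htop
  apply hσ
  ext c
  have : c ∈ (σ : F →+* F).eqLocusField (RingHom.id F) := by rw [htop]; trivial
  exact this

end Cfsg.Agent.Lib.Helper29.SpAschLeaf
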