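import Mathlib
import Cfsg.Agent.Lib.Helper2.SOTDefs
import Cfsg.Agent.Lib.Helper27.SOTLADefs
import Cfsg.Agent.Lib.Helper13.OTUCalc
import Cfsg.Agent.Lib.Helper13.OTLADefs

/-!
S5681 + S5709 part (LA'), wave 1: packet C0 (`cls` / `Free` / `Corner` / adapted Gram matrices).
-/

set_option autoImplicit false
set_option linter.unusedSectionVars false
set_option linter.unusedVariables false

namespace Cfsg.Agent.Lib.Helper29.OTLALeaf
open Matrix
open Cfsg.Agent.Lib.Helper25.Tens Cfsg.Agent.Lib.Helper19.OSub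
open Cfsg.Agent.Lib.Helper2.SOT Cfsg.Agent.Lib.Helper27.SOTLA Cfsg.Agent.Lib.Helper13.OTU
open Cfsg.Agent.Lib.Helper13.OTLA
open scoped Kronecker

variable {F : Type*} [Field F] [Fintype F] {a b : ℕ} {G₁ : Matrix (Fin a) (Fin a) F}
  {G₂ : Matrix (Fin b) (Fin b) F} {o o' p p' : Fin b} {Om M : Subgroup (GL (Idx a b) F)}

lemma mem_TL (o o' k : Fin b) : k ∈ TL o o' ↔ (k = o ∨ k = o') := by
  unfold TL
  simp

/-- (C0a) -/
theorem TL_disjoint (hA : Adp G₂ o o' p p') : Disjoint (TL o o') (TL p p') := by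
  rw [Finset.disjoint_left]
  intro k hk hk'
  rw [mem_TL] at hk hk'
  rcases hk with rfl | rfl <;> rcases hk' with h | h
  · exact hA.hop h
  · exact hA.hop' h
  · exact hA.ho'p h
  · exact hA.ho'p' h

/-- (C0b) -/
theorem cls_eq_zero_iff (k : Fin b) : cls o o' p p' k = 0 ↔ (k = o ∨ k = o') := by
  unfold cls
  split_ifs with h1 h2
  · simp [h1]
  · simp [h1]
  · simp [h1]

/-- (C0c) -/
theorem cls_eq_two_iff (hA : Adp G₂ o o' p p') (k : Fin b) :
    cls o o' p p' k = 2 ↔ (k = p ∨ k = p') := by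
  unfold cls
  split_ifs with h1 h2
  · constructor
    · intro h; exact absurd h (by decide)
    · intro h
      exfalso
      rcases h1 with rfl | rfl <;> rcases h with h | h
      · exact hA.hop h
      · exact hA.hop' h
      · exact hA.ho'p h
      · exact hA.ho'p' h
  · simp [h2]
  · simp [h2]

/-- (C0d) -/
theorem cls_eq_one_iff (hA : Adp G₂ o o' p p') (k : Fin b) :
    cls o o' p p' k = 1 ↔ (k ≠ o ∧ k ≠ o' ∧ k ≠ p ∧ k ≠ p') := by
  unfold cls
  split_ifs with h1 h2
  · constructor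
    · intro h; exact absurd h (by decide)
    · rintro ⟨h3, h4, -, -⟩
      rcases h1 with h | h
      · exact absurd h h3
      · exact absurd h h4
  · constructor
    · intro h; exact absurd h (by decide)
    · rintro ⟨-, -, h3, h4⟩
      rcases h2 with h | h
      · exact absurd h h3
      · exact absurd h h4
  · constructor
    · intro _
      exact ⟨fun h => h1 (Or.inl h), fun h => h1 (Or.inr h), fun h => h2 (Or.inl h),
        fun h => h2 (Or.inr h)⟩
    · intro _; rfl

/-- (C0e) -/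
theorem cls_le_two (k : Fin b) : cls o o' p p' k ≤ 2 := by
  unfold cls
  split_ifs <;> omega

/-- (C0f) -/
theorem free_iff_cls (hA : Adp G₂ o o' p p') (k l : Fin b) :
    Free (TL o o') (TL p p') k l ↔ cls o o' p p' k < cls o o' p p' l := by
  unfold Free
  rw [mem_TL, mem_TL, mem_TL, mem_TL, ← cls_eq_zero_iff (p := p) (p' := p') k,
    ← cls_eq_zero_iff (p := p) (p' := p') l, ← cls_eq_two_iff hA l, ← cls_eq_two_iff hA k]
  have h1 := cls_le_two (o := o) (o' := o') (p := p) (p' := p') k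
  have h2 := cls_le_two (o := o) (o' := o') (p := p) (p' := p') l
  omega

/-- (C0g) -/
theorem corner_iff_cls (hA : Adp G₂ o o' p p') (k l : Fin b) :
    Corner (TL o o') (TL p p') k l ↔ (cls o o' p p' k = 0 ∧ cls o o' p p' l = 2) := by
  unfold Corner
  rw [mem_TL, mem_TL, ← cls_eq_zero_iff (p := p) (p' := p') k, ← cls_eq_two_iff hA l]

/-- (C0h) the entries of an adapted Gram matrix: `G₂ k l ≠ 0` only if `cls k + cls l = 2`; columns `o, o', p, p'`. -/
theorem adp_entries (hs2 : G₂ᵀ = G₂) (hA : Adp G₂ o o' p p') :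
    (∀ k l : Fin b, cls o o' p p' k + cls o o' p p' l ≠ 2 → G₂ k l = 0) ∧
    (∀ k : Fin b, G₂ k o = if k = p then 1 else 0) ∧ (∀ k : Fin b, G₂ k o' = if k = p' then 1 else 0) ∧
    (∀ k : Fin b, G₂ k p = if k = o then 1 else 0) ∧ (∀ k : Fin b, G₂ k p' = if k = o' then 1 else 0) := by
  have hsym : ∀ k l : Fin b, G₂ k l = G₂ l k := by
    intro k l
    have := congrFun (congrFun hs2 l) k
    rw [Matrix.transpose_apply] at this
    exact this
  have co : ∀ k : Fin b, G₂ k o = if k = p then 1 else 0 := fun k => by rw [hsym, hA.row_o]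
  have co' : ∀ k : Fin b, G₂ k o' = if k = p' then 1 else 0 := fun k => by rw [hsym, hA.row_o']
  have cp : ∀ k : Fin b, G₂ k p = if k = o then 1 else 0 := fun k => by rw [hsym, hA.row_p]
  have cp' : ∀ k : Fin b, G₂ k p' = if k = o' then 1 else 0 := fun k => by rw [hsym, hA.row_p']
  refine ⟨?_, co, co', cp, cp'⟩
  intro k l hkl
  have hk2 := cls_le_two (o := o) (o' := o') (p := p) (p' := p') k
  have hl2 := cls_le_two (o := o) (o' := o') (p := p) (p' := p') l
  have hk3 : cls o o' p p' k = 0 ∨ cls o o' p p' k = 1 ∨ cls o o' p p' k = 2 := by omega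
  rcases hk3 with hk | hk | hk
  · have hl : ¬ (l = p ∨ l = p') := by
      rw [← cls_eq_two_iff hA]; omega
    rw [cls_eq_zero_iff] at hk
    rcases hk with rfl | rfl
    · rw [hA.row_o, if_neg (fun h => hl (Or.inl h))]
    · rw [hA.row_o', if_neg (fun h => hl (Or.inr h))]
  · have hkm := (cls_eq_one_iff hA k).1 hk
    have hl3 : cls o o' p p' l = 0 ∨ cls o o' p p' l = 2 := by omega
    rcases hl3 with hl | hl
    · rw [cls_eq_zero_iff] at hl
      rcases hl with rfl | rfl
      · rw [co, if_neg hkm.2.2.1]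
      · rw [co', if_neg hkm.2.2.2]
    · rw [cls_eq_two_iff hA] at hl
      rcases hl with rfl | rfl
      · rw [cp, if_neg hkm.1]
      · rw [cp', if_neg hkm.2.1]
  · have hl : ¬ (l = o ∨ l = o') := by
      rw [← cls_eq_zero_iff (p := p) (p' := p')]; omega
    rw [cls_eq_two_iff hA] at hk
    rcases hk with rfl | rfl
    · rw [hA.row_p, if_neg (fun h => hl (Or.inl h))]
    · rw [hA.row_p', if_neg (fun h => hl (Or.inr h))]

/-- a column of the inverse from a column of the matrix -/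
lemma inv_col_of_col {G : Matrix (Fin b) (Fin b) F} (hn : G.det ≠ 0) {x y : Fin b}
    (h : ∀ k : Fin b, G k x = if k = y then 1 else 0) :
    ∀ k : Fin b, G⁻¹ k y = if k = x then 1 else 0 := by
  have h1 : G *ᵥ (Pi.single x 1) = Pi.single y 1 := by
    ext k
    rw [Matrix.mulVec_single_one]
    show G k x = _
    rw [h k, Pi.single_apply]
  have h2 : G⁻¹ *ᵥ (Pi.single y 1) = Pi.single x 1 := by
    rw [← h1, Matrix.mulVec_mulVec, Matrix.nonsing_inv_mul _ (Ne.isUnit hn), Matrix.one_mulVec]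
  intro k
  have h3 := congrFun h2 k
  rw [Matrix.mulVec_single_one] at h3
  show G⁻¹ k y = _
  rw [Pi.single_apply] at h3
  exact h3

/-- (C0i) the inverse of an adapted Gram matrix is adapted (same shape): `G₂⁻¹ e_p = e_o`, ... -/
theorem adp_inv (hs2 : G₂ᵀ = G₂) (hn2 : G₂.det ≠ 0) (hA : Adp G₂ o o' p p') :
    Adp G₂⁻¹ o o' p p' ∧ (G₂⁻¹)ᵀ = G₂⁻¹ := by
  have hsi : (G₂⁻¹)ᵀ = G₂⁻¹ := by
    rw [Matrix.transpose_nonsing_inv, hs2]
  have hsym : ∀ k l : Fin b, G₂⁻¹ k l = G₂⁻¹ l k := by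
    intro k l
    have := congrFun (congrFun hsi l) k
    rw [Matrix.transpose_apply] at this
    exact this
  obtain ⟨-, co, co', cp, cp'⟩ := adp_entries hs2 hA
  refine ⟨⟨hA.hoo', hA.hop, hA.hop', hA.ho'p, hA.ho'p', hA.hpp', ?_, ?_, ?_, ?_⟩, hsi⟩
  · intro k
    rw [hsym]
    exact inv_col_of_col hn2 cp k
  · intro k
    rw [hsym]
    exact inv_col_of_col hn2 cp' k
  · intro k
    rw [hsym]
    exact inv_col_of_col hn2 co k
  · intro k
    rw [hsym]
    exact inv_col_of_col hn2 co' k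

end Cfsg.Agent.Lib.Helper29.OTLALeaf
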