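import Mathlib
import Cfsg.Agent.Lib.Helper18.Sims3Defs
import Cfsg.Agent.Lib.Helper29.SIMSBase

/-!
# S3385 (Sims) market leaf SIMS-L6 (helper29): `mu ≤ nu`
-/

set_option autoImplicit false

namespace Cfsg.Agent.Lib.Helper29.SIMSL6

open Cfsg Cfsg.Agent.Lib.Helper29.TWPair Cfsg.Agent.Lib.Helper18.Sims3 MulAction
open Cfsg.Agent.Lib.Helper29.SIMSBase

variable {G : Type*} [Group G]

/-- LEAF L6 (`mu ≤ nu`). -/
theorem mu_le_nu {g : G} {x : ℕ → G} {n : ℕ} (h : TSData g x n)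
    (l : ℕ) (hln : l + 1 ≤ n) (hl : CommLt x l) (c : G) (hc1 : c ≠ 1)
    (mu nu : ℕ) (hmu1 : 1 ≤ mu) (hnu : nu + 1 ≤ l)
    (hmu : c ∈ Hx x mu (l - 1)) (hnu' : c ∈ Hx x 1 nu) : mu ≤ nu := by
  by_contra hlt
  have hlt : nu < mu := by omega
  -- `nu ≥ 1`
  have hnu1 : 1 ≤ nu := by
    by_contra h0
    have h0 : nu < 1 := by omega
    rw [Hx_eq_bot h0, Subgroup.mem_bot] at hnu'
    exact hc1 hnu'
  -- `mu ≤ l - 1`
  have hmul : mu ≤ l - 1 := by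
    by_contra h0
    have h0 : l - 1 < mu := by omega
    rw [Hx_eq_bot h0, Subgroup.mem_bot] at hmu
    exact hc1 hmu
  have hc2 : c ∈ Hx x (nu + 1) (l - 1) := Hx_mono (by omega) le_rfl hmu
  have hbot := Hx_inf_eq_bot h hl (i := 1) (m := nu) (j := l - 1) hnu1 (by omega) (by omega)
    (by omega)
  have : c ∈ Hx x 1 nu ⊓ Hx x (nu + 1) (l - 1) := ⟨hnu', hc2⟩
  rw [hbot, Subgroup.mem_bot] at this
  exact hc1 this

end Cfsg.Agent.Lib.Helper29.SIMSL6
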