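import Mathlib
import Cfsg.Agent.Lib.Helper18.Sims3Defs
import Cfsg.Agent.Lib.Helper29.SIMSBase

/-!
# S3385 (Sims) market: more shared basics (helper29)
-/

set_option autoImplicit false

namespace Cfsg.Agent.Lib.Helper29.SIMSBase

open Cfsg Cfsg.Agent.Lib.Helper29.TWPair Cfsg.Agent.Lib.Helper18.Sims3 MulAction

variable {G : Type*} [Group G]

theorem inv_of_sq {a : G} (h : a * a = 1) : a⁻¹ = a := inv_eq_of_mul_eq_one_right h

theorem x_ne_one {g : G} {x : ℕ → G} {n : ℕ} (h : TSData g x n) (hn : 1 ≤ n) (i : ℕ) :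
    x i ≠ 1 := by
  intro h1
  have hc := h.card i i le_rfl (by omega)
  have hb : Hx x i i = ⊥ := by
    rw [eq_bot_iff, Hx_le_iff]
    intro k hk1 hk2
    have : k = i := by omega
    subst this
    rw [h1]
    exact Subgroup.one_mem _
  rw [hb, Subgroup.card_bot] at hc
  simp at hc

/-- `zpowers (x i) ⊔ H[i+1,j] = H[i,j]` -/
theorem Hx_pred {x : ℕ → G} {i j : ℕ} (h1 : i ≤ j + 1) :
    Hx x (i + 1) j ⊔ Subgroup.zpowers (x i) = Hx x i j ⊔ Subgroup.zpowers (x i) := by
  apply le_antisymm
  · exact sup_le_sup_right (Hx_mono (Nat.le_succ i) le_rfl) _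
  · refine sup_le ?_ le_sup_right
    rw [Hx_le_iff]
    intro k hk1 hk2
    rcases Nat.lt_or_ge i k with hk | hk
    · exact Subgroup.mem_sup_left (mem_Hx hk hk2)
    · have : k = i := by omega
      subst this
      exact Subgroup.mem_sup_right (Subgroup.mem_zpowers _)

theorem Hx_pred' {x : ℕ → G} {i j : ℕ} (h1 : i ≤ j) :
    Hx x (i + 1) j ⊔ Subgroup.zpowers (x i) = Hx x i j := by
  rw [Hx_pred (by omega)]
  apply le_antisymm
  · refine sup_le le_rfl ?_
    rw [Subgroup.zpowers_le]
    exact mem_Hx le_rfl h1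
  · exact le_sup_left

/-- in a commutative group generated by involutions every element is an involution -/
theorem sq_eq_one_of_closure {S : Set G} (hS : ∀ a ∈ S, a * a = 1)
    (hcomm : ∀ a ∈ Subgroup.closure S, ∀ b ∈ Subgroup.closure S, a * b = b * a) :
    ∀ a ∈ Subgroup.closure S, a * a = 1 := by
  intro a ha
  induction ha using Subgroup.closure_induction with
  | mem a ha => exact hS a ha
  | one => simp
  | mul a b ha hb iha ihb =>
    calc a * b * (a * b) = a * (b * a) * b := by group
      _ = a * (a * b) * b := by rw [hcomm b hb a ha]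
      _ = (a * a) * (b * b) := by group
      _ = 1 := by rw [iha, ihb, one_mul]
  | inv a ha iha =>
    calc a⁻¹ * a⁻¹ = (a * a)⁻¹ := by group
      _ = 1 := by rw [iha, inv_one]

theorem Hx_sq {x : ℕ → G} {l : ℕ} (hl : CommLt x l) (hsq : ∀ i, x i * x i = 1) {i j : ℕ}
    (hij : j < i + l) : ∀ a ∈ Hx x i j, a * a = 1 := by
  apply sq_eq_one_of_closure
  · rintro _ ⟨s, -, rfl⟩
    exact hsq s
  · exact Hx_comm hl hij

/-- elements of a commutative `A ⊔ ⟨y⟩`, `y` an involution -/
theorem mem_or_mul_mem (A : Subgroup G) (y : G) (hy : y * y = 1)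
    (hcomm : ∀ a ∈ A ⊔ Subgroup.zpowers y, ∀ b ∈ A ⊔ Subgroup.zpowers y, a * b = b * a) :
    ∀ s ∈ A ⊔ Subgroup.zpowers y, s ∈ A ∨ s * y ∈ A := by
  have hyS : y ∈ A ⊔ Subgroup.zpowers y := Subgroup.mem_sup_right (Subgroup.mem_zpowers y)
  have hclo : A ⊔ Subgroup.zpowers y = Subgroup.closure ((A : Set G) ∪ {y}) := by
    rw [Subgroup.closure_union, Subgroup.closure_eq, Subgroup.zpowers_eq_closure]
  rw [hclo] at hcomm hyS ⊢
  intro s hs
  induction hs using Subgroup.closure_induction with
  | mem s hs =>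
    rcases hs with hs | hs
    · exact Or.inl hs
    · rw [Set.mem_singleton_iff] at hs
      right
      rw [hs, hy]
      exact Subgroup.one_mem _
  | one => exact Or.inl (Subgroup.one_mem _)
  | mul s t hs ht ihs iht =>
    have hty : t * y = y * t := hcomm t ht y hyS
    rcases ihs with h1 | h1 <;> rcases iht with h2 | h2
    · exact Or.inl (Subgroup.mul_mem _ h1 h2)
    · right
      rw [mul_assoc]
      exact Subgroup.mul_mem _ h1 h2
    · right
      have : s * t * y = s * y * t := by rw [mul_assoc, hty, ← mul_assoc]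
      rw [this]
      exact Subgroup.mul_mem _ h1 h2
    · left
      have : s * t = s * y * (t * y) := by
        rw [hty]
        calc s * t = s * (y * y) * t := by rw [hy, mul_one]
          _ = s * y * (y * t) := by group
      rw [this]
      exact Subgroup.mul_mem _ h1 h2
  | inv s hs ihs =>
    have hsy : s * y = y * s := hcomm s hs y hyS
    rcases ihs with h1 | h1
    · exact Or.inl (Subgroup.inv_mem _ h1)
    · right
      have : s⁻¹ * y = (s * y)⁻¹ := by
        rw [hsy, mul_inv_rev, inv_of_sq hy]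
      rw [this]
      exact Subgroup.inv_mem _ h1

/-- `g (cm (x i) (x j)) g⁻¹ = cm (x (i+1)) (x (j+1))` -/
theorem cm_shift {g : G} {x : ℕ → G} {n : ℕ} (h : TSData g x n) (i j : ℕ) :
    g * cm (x i) (x j) * g⁻¹ = cm (x (i + 1)) (x (j + 1)) := by
  unfold cm
  rw [← h.shift i, ← h.shift j]
  group

theorem cm_of_sq {a b : G} (ha : a * a = 1) (hb : b * b = 1) : cm a b = a * b * a * b := by
  unfold cm
  rw [inv_of_sq ha, inv_of_sq hb]

theorem cm_eq_one_of_commute {a b : G} (h : a * b = b * a) : cm a b = 1 := by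
  unfold cm
  rw [h]
  group

theorem commute_of_cm_eq_one {a b : G} (h : cm a b = 1) : a * b = b * a := by
  unfold cm at h
  have : a * b = (a * b * a⁻¹ * b⁻¹) * (b * a) := by group
  rw [this, h, one_mul]

end Cfsg.Agent.Lib.Helper29.SIMSBase
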