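import Mathlib
import Cfsg.Agent.Lib.Helper18.Sims3Defs
import Cfsg.Agent.Lib.Helper29.SIMSBase
import Cfsg.Agent.Lib.Helper29.SIMSBase2

/-!
# S3385 (Sims) market leaf SIMS-L7B (helper29): `[x 0, x 5] ∈ ⟨x 2, x 3⟩` in the case `(l, n) = (4, 6)`
-/

set_option autoImplicit false

namespace Cfsg.Agent.Lib.Helper29.SIMSL7B

open Cfsg Cfsg.Agent.Lib.Helper29.TWPair Cfsg.Agent.Lib.Helper18.Sims3 MulAction
open Cfsg.Agent.Lib.Helper29.SIMSBase

variable {G : Type*} [Group G]

/-- LEAF L7B (the case `l = 4`, `n = 6`: `[x 0, x 5] ∈ ⟨x 2, x 3⟩`). -/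
theorem gamma_mem {g : G} {x : ℕ → G} (h : TSData g x 6) (hl : CommLt x 4)
    (hsq : ∀ i, x i * x i = 1)
    (hcm : ∀ i j, i < j → j < i + 6 → cm (x i) (x j) ∈ Hx x (i + 1) (j - 1))
    (hc : cm (x 0) (x 4) = x 2) : cm (x 0) (x 5) ∈ Hx x 2 3 := by
  have hinv : ∀ i, (x i)⁻¹ = x i := fun i => inv_of_sq (hsq i)
  obtain ⟨gam, hgam⟩ : ∃ gam, gam = cm (x 0) (x 5) := ⟨_, rfl⟩
  rw [← hgam]
  have hgam' : gam = x 0 * x 5 * x 0 * x 5 := by rw [hgam, cm_of_sq (hsq 0) (hsq 5)]
  have hg14 : gam ∈ Hx x 1 4 := by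
    rw [hgam]
    exact hcm 0 5 (by norm_num) (by norm_num)
  have hcomm14 := Hx_comm hl (i := 1) (j := 4) (by norm_num)
  have hgsq : gam * gam = 1 := Hx_sq hl hsq (i := 1) (j := 4) (by norm_num) gam hg14
  have hginv : gam⁻¹ = gam := inv_of_sq hgsq
  -- `x 0` and `x 5` commute with `gam`
  have h0g : x 0 * gam = gam * x 0 := by
    have h1 : x 0 * gam * x 0 = gam⁻¹ := by
      rw [hgam']
      have : (x 0 * x 5 * x 0 * x 5)⁻¹ = x 5 * x 0 * x 5 * x 0 := by
        simp only [mul_inv_rev, hinv, mul_assoc]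
      rw [this]
      calc x 0 * (x 0 * x 5 * x 0 * x 5) * x 0 = (x 0 * x 0) * x 5 * x 0 * x 5 * x 0 := by group
        _ = x 5 * x 0 * x 5 * x 0 := by rw [hsq 0, one_mul]
    rw [hginv] at h1
    calc x 0 * gam = x 0 * gam * (x 0 * x 0) := by rw [hsq 0, mul_one]
      _ = (x 0 * gam * x 0) * x 0 := by group
      _ = gam * x 0 := by rw [h1]
  have h5g : x 5 * gam = gam * x 5 := by
    have h1 : x 5 * gam * x 5 = gam⁻¹ := by
      rw [hgam']
      have : (x 0 * x 5 * x 0 * x 5)⁻¹ = x 5 * x 0 * x 5 * x 0 := by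
        simp only [mul_inv_rev, hinv, mul_assoc]
      rw [this]
      calc x 5 * (x 0 * x 5 * x 0 * x 5) * x 5 = x 5 * x 0 * x 5 * x 0 * (x 5 * x 5) := by group
        _ = x 5 * x 0 * x 5 * x 0 := by rw [hsq 5, mul_one]
    rw [hginv] at h1
    calc x 5 * gam = x 5 * gam * (x 5 * x 5) := by rw [hsq 5, mul_one]
      _ = (x 5 * gam * x 5) * x 5 := by group
      _ = gam * x 5 := by rw [h1]
  -- step 1 : `gam ∈ H[1,3]`
  have hg13 : gam ∈ Hx x 1 3 := by
    have hsup : Hx x 1 3 ⊔ Subgroup.zpowers (x 4) = Hx x 1 4 := Hx_succ (by norm_num)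
    have hm := mem_or_mul_mem (Hx x 1 3) (x 4) (hsq 4) (by rw [hsup]; exact hcomm14) gam
      (by rw [hsup]; exact hg14)
    rcases hm with hm | hm
    · exact hm
    · exfalso
      -- `x 0` centralizes `H[1,3]`
      have hcen : Hx x 1 3 ≤ Subgroup.centralizer {x 0} := by
        rw [Hx_le_iff]
        intro k hk1 hk2
        rw [Subgroup.mem_centralizer_singleton_iff]
        exact commLt_comm hl ⟨by omega, by omega, by omega, by omega⟩
      have hu := hcen hm
      rw [Subgroup.mem_centralizer_singleton_iff] at hu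
      -- `x 4 = gam * (gam * x 4)`
      have h4 : x 4 = gam * (gam * x 4) := by rw [← mul_assoc, hgsq, one_mul]
      have hcomm04 : x 0 * x 4 = x 4 * x 0 := by
        have e1 : x 0 * (gam * (gam * x 4)) = gam * (gam * x 4) * x 0 := by
          calc x 0 * (gam * (gam * x 4)) = (x 0 * gam) * (gam * x 4) := by group
            _ = gam * (x 0 * (gam * x 4)) := by rw [h0g]; group
            _ = gam * (gam * x 4 * x 0) := by rw [hu]
            _ = gam * (gam * x 4) * x 0 := by group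
        rw [← h4] at e1
        exact e1
      have := cm_eq_one_of_commute hcomm04
      rw [hc] at this
      exact x_ne_one h (by norm_num) 2 this
  -- step 2 : `gam ∈ H[2,3]`
  have hcomm13 := Hx_comm hl (i := 1) (j := 3) (by norm_num)
  have hsup : Hx x 2 3 ⊔ Subgroup.zpowers (x 1) = Hx x 1 3 := Hx_pred' (by norm_num)
  have hm := mem_or_mul_mem (Hx x 2 3) (x 1) (hsq 1) (by rw [hsup]; exact hcomm13) gam
    (by rw [hsup]; exact hg13)
  rcases hm with hm | hm
  · exact hm
  · exfalso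
    have hcen : Hx x 2 3 ≤ Subgroup.centralizer {x 5} := by
      rw [Hx_le_iff]
      intro k hk1 hk2
      rw [Subgroup.mem_centralizer_singleton_iff]
      exact commLt_comm hl ⟨by omega, by omega, by omega, by omega⟩
    have hu := hcen hm
    rw [Subgroup.mem_centralizer_singleton_iff] at hu
    have h1 : x 1 = gam * (gam * x 1) := by rw [← mul_assoc, hgsq, one_mul]
    have hcomm51 : x 5 * x 1 = x 1 * x 5 := by
      have e1 : x 5 * (gam * (gam * x 1)) = gam * (gam * x 1) * x 5 := by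
        calc x 5 * (gam * (gam * x 1)) = (x 5 * gam) * (gam * x 1) := by group
          _ = gam * (x 5 * (gam * x 1)) := by rw [h5g]; group
          _ = gam * (gam * x 1 * x 5) := by rw [hu]
          _ = gam * (gam * x 1) * x 5 := by group
      rw [← h1] at e1
      exact e1
    have h15 : cm (x 1) (x 5) = x 3 := by
      have := cm_shift h 0 4
      rw [hc, h.shift 2] at this
      exact this.symm
    have := cm_eq_one_of_commute hcomm51.symm
    rw [h15] at this
    exact x_ne_one h (by norm_num) 3 this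

end Cfsg.Agent.Lib.Helper29.SIMSL7B
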