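import Mathlib
import Cfsg.Agent.Lib.Helper18.Sims3Defs
import Cfsg.Agent.Lib.Helper29.SIMSBase

/-!
# S3385 (Sims) market leaf SIMS-T2C1 (helper29): `⟨x_i, …, x_j⟩ = D_(j+1) ⊓ … ⊓ D_(i+n)`
-/

set_option autoImplicit false

namespace Cfsg.Agent.Lib.Helper29.SIMST2C1

open Cfsg Cfsg.Agent.Lib.Helper29.TWPair Cfsg.Agent.Lib.Helper18.Sims3 MulAction
open Cfsg.Agent.Lib.Helper29.SIMSBase

variable {G : Type*} [Group G]

theorem mem_cj {u y : G} {S : Subgroup G} : y ∈ cj u S ↔ u⁻¹ * y * u ∈ S := by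
  unfold cj
  rw [Subgroup.mem_map]
  constructor
  · rintro ⟨s, hs, rfl⟩
    have : u⁻¹ * ((MulAut.conj u).toMonoidHom s) * u = s := by
      show u⁻¹ * (MulAut.conj u s) * u = s
      rw [MulAut.conj_apply]
      group
    rw [this]
    exact hs
  · intro h
    refine ⟨u⁻¹ * y * u, h, ?_⟩
    show MulAut.conj u (u⁻¹ * y * u) = y
    rw [MulAut.conj_apply]
    group

theorem mem_Dn {g y : G} {D : Subgroup G} {m : ℕ} :
    y ∈ Dn g D m ↔ (g ^ m)⁻¹ * y * g ^ m ∈ D := mem_cj

theorem mem_Fc {g y : G} {D : Subgroup G} {a k : ℕ} :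
    y ∈ Fc g D a k ↔ ∀ l, l ≤ k → y ∈ Dn g D (a + l) := by
  unfold Fc
  rw [Subgroup.mem_iInf]
  constructor
  · intro h l hl
    exact h ⟨l, by omega⟩
  · intro h l
    exact h l (by have := l.2; omega)

theorem xs_mem_Dn {g x0 : G} {D : Subgroup G} {a : ℕ} (h : x0 ∈ Dn g D a) (m : ℕ) :
    xs g x0 m ∈ Dn g D (m + a) := by
  rw [mem_Dn] at h ⊢
  have : (g ^ (m + a))⁻¹ * xs g x0 m * g ^ (m + a) = (g ^ a)⁻¹ * x0 * g ^ a := by
    unfold xs
    rw [pow_add]
    group
  rw [this]
  exact h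

theorem xs_ne_one {g x0 : G} (h : x0 ≠ 1) (m : ℕ) : xs g x0 m ≠ 1 := by
  intro h1
  apply h
  unfold xs at h1
  have : x0 = (g ^ m)⁻¹ * (g ^ m * x0 * (g ^ m)⁻¹) * g ^ m := by group
  rw [this, h1]
  group

/-- `x_m ∈ Fc (m+1) (n-1)` -/
theorem xs_mem_Fc {g x0 : G} {D : Subgroup G} {n : ℕ} (hx0 : x0 ∈ Fc g D 1 (n - 1)) (m : ℕ) :
    xs g x0 m ∈ Fc g D (m + 1) (n - 1) := by
  rw [mem_Fc] at hx0 ⊢
  intro l hl
  have := xs_mem_Dn (hx0 l hl) m
  rw [show m + (1 + l) = m + 1 + l by omega] at this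
  exact this

/-- sandwich by orders -/
theorem eq_of_sandwich [Finite G] {H K T : Subgroup G} (h1 : H ≤ K) (h2 : K ≤ T) (hne : H ≠ K)
    (hcard : Nat.card T = 2 * Nat.card H) : K = T := by
  have hd1 : Nat.card H ∣ Nat.card K := Subgroup.card_dvd_of_le h1
  have hd2 : Nat.card K ∣ Nat.card T := Subgroup.card_dvd_of_le h2
  obtain ⟨m, hm⟩ := hd1
  have hHpos : 0 < Nat.card H := Nat.card_pos
  have hm2 : m ∣ 2 := by
    rw [hm, hcard, Nat.mul_comm 2] at hd2
    exact (Nat.mul_dvd_mul_iff_left hHpos).mp hd2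
  have hm12 : m = 1 ∨ m = 2 := by
    have hle := Nat.le_of_dvd (by norm_num) hm2
    have hm0 : m ≠ 0 := by
      rintro rfl
      simp at hm2
    omega
  rcases hm12 with rfl | rfl
  · exfalso
    apply hne
    exact Subgroup.eq_of_le_of_card_ge h1 (by rw [hm, mul_one])
  · exact Subgroup.eq_of_le_of_card_ge h2 (by rw [hcard, hm, Nat.mul_comm])

/-- LEAF T2C1. -/
theorem Hx_xs_eq_Fc [Finite G] (g : G) (D : Subgroup G) (n : ℕ) (h1 : 1 ≤ n)
    (hF : ∀ i k, k ≤ n → Nat.card ↥(Fc g D i k) = 2 ^ (n - k))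
    (x0 : G) (hx0 : x0 ∈ Fc g D 1 (n - 1)) (hx01 : x0 ≠ 1) :
    ∀ i j, i ≤ j → j < i + n → Hx (xs g x0) i j = Fc g D (j + 1) (n - 1 - (j - i)) := by
  have key : ∀ d i, d < n → Hx (xs g x0) i (i + d) = Fc g D (i + d + 1) (n - 1 - d) := by
    intro d
    induction d with
    | zero =>
      intro i _
      -- base
      have hxi : xs g x0 i ∈ Fc g D (i + 1) (n - 1) := xs_mem_Fc hx0 i
      have hle : Hx (xs g x0) i i ≤ Fc g D (i + 1) (n - 1) := by
        rw [Hx_le_iff]
        intro k hk1 hk2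
        have : k = i := by omega
        subst this
        exact hxi
      have hcard : Nat.card ↥(Fc g D (i + 1) (n - 1)) = 2 := by
        rw [hF (i + 1) (n - 1) (by omega)]
        have : n - (n - 1) = 1 := by omega
        rw [this, pow_one]
      have hbot : (⊥ : Subgroup G) ≠ Hx (xs g x0) i i := by
        intro hb
        have : xs g x0 i ∈ (⊥ : Subgroup G) := hb ▸ mem_Hx le_rfl le_rfl
        rw [Subgroup.mem_bot] at this
        exact xs_ne_one hx01 i this
      have := eq_of_sandwich (H := ⊥) bot_le hle hbot (by rw [hcard, Subgroup.card_bot])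
      simpa using this
    | succ d ih =>
      intro i hd
      have ihd := ih i (by omega)
      -- notation
      have hT : Nat.card ↥(Fc g D (i + (d + 1) + 1) (n - 1 - (d + 1))) = 2 ^ (d + 2) := by
        rw [hF _ _ (by omega)]
        congr 1
        omega
      have hH : Nat.card ↥(Hx (xs g x0) i (i + d)) = 2 ^ (d + 1) := by
        rw [ihd, hF _ _ (by omega)]
        congr 1
        omega
      have hsucc : Hx (xs g x0) i (i + d) ⊔ Subgroup.zpowers (xs g x0 (i + d + 1)) =
          Hx (xs g x0) i (i + (d + 1)) := Hx_succ (by omega)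
      have hxm : xs g x0 (i + d + 1) ∈ Fc g D (i + d + 1 + 1) (n - 1) := xs_mem_Fc hx0 (i + d + 1)
      -- `H[i,i+d] ≤ T`
      have hle1 : Hx (xs g x0) i (i + d) ≤ Fc g D (i + (d + 1) + 1) (n - 1 - (d + 1)) := by
        rw [ihd]
        intro y hy
        rw [mem_Fc] at hy ⊢
        intro l hl
        have := hy (l + 1) (by omega)
        rw [show i + d + 1 + (l + 1) = i + (d + 1) + 1 + l by omega] at this
        exact this
      have hle2 : xs g x0 (i + d + 1) ∈ Fc g D (i + (d + 1) + 1) (n - 1 - (d + 1)) := by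
        rw [mem_Fc] at hxm ⊢
        intro l hl
        have := hxm l (by omega)
        rw [show i + d + 1 + 1 + l = i + (d + 1) + 1 + l by omega] at this
        exact this
      have hle : Hx (xs g x0) i (i + (d + 1)) ≤ Fc g D (i + (d + 1) + 1) (n - 1 - (d + 1)) := by
        rw [← hsucc]
        refine sup_le hle1 ?_
        rw [Subgroup.zpowers_le]
        exact hle2
      have hne : Hx (xs g x0) i (i + d) ≠ Hx (xs g x0) i (i + (d + 1)) := by
        intro he
        have hmem : xs g x0 (i + d + 1) ∈ Hx (xs g x0) i (i + d) := by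
          rw [he]
          exact mem_Hx (by omega) (by omega)
        rw [ihd] at hmem
        -- `x_(i+d+1) ∈ Fc (i+d+1) n`, of order 1
        have hall : xs g x0 (i + d + 1) ∈ Fc g D (i + d + 1) n := by
          rw [mem_Fc] at hmem hxm ⊢
          intro l hl
          rcases Nat.eq_zero_or_pos l with h0 | h0
          · subst h0
            exact hmem 0 (Nat.zero_le _)
          · have := hxm (l - 1) (by omega)
            rw [show i + d + 1 + 1 + (l - 1) = i + d + 1 + l by omega] at this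
            exact this
        have hc1 : Nat.card ↥(Fc g D (i + d + 1) n) = 1 := by
          rw [hF _ _ le_rfl, Nat.sub_self, pow_zero]
        have hb := Subgroup.eq_bot_of_card_eq _ hc1
        rw [hb, Subgroup.mem_bot] at hall
        exact xs_ne_one hx01 _ hall
      exact eq_of_sandwich (Hx_mono le_rfl (by omega)) hle hne
        (by rw [hT, hH, pow_succ, Nat.mul_comm])
  intro i j hij hjn
  have := key (j - i) i (by omega)
  rw [show i + (j - i) = j by omega] at this
  exact this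

end Cfsg.Agent.Lib.Helper29.SIMST2C1
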