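import Mathlib
import Cfsg.Agent.Lib.Helper18.Sims3Defs
import Cfsg.Agent.Lib.Helper29.SIMSBase
import Cfsg.Agent.Lib.Helper29.SIMST2C1

/-!
# S3385 (Sims) market leaf SIMS-T2C2 (helper29, twin): `⟨x_0, …, x_n⟩` is a conjugate of `A`
-/

set_option autoImplicit false

namespace Cfsg.Agent.Lib.Helper29.SIMST2C2

open Cfsg Cfsg.Agent.Lib.Helper29.TWPair Cfsg.Agent.Lib.Helper18.Sims3 MulAction
open Cfsg.Agent.Lib.Helper29.SIMSBase Cfsg.Agent.Lib.Helper29.SIMST2C1

variable {G : Type*} [Group G]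

theorem cj_mono {u : G} {S T : Subgroup G} (h : S ≤ T) : cj u S ≤ cj u T :=
  Subgroup.map_mono h

theorem cj_cj (u v : G) (S : Subgroup G) : cj u (cj v S) = cj (u * v) S := by
  ext y
  rw [mem_cj, mem_cj, mem_cj]
  have : v⁻¹ * (u⁻¹ * y * u) * v = (u * v)⁻¹ * y * (u * v) := by group
  rw [this]

theorem relIndex_cj (u : G) (S T : Subgroup G) : (cj u S).relIndex (cj u T) = S.relIndex T :=
  Subgroup.relIndex_map_map_of_injective S T (MulAut.conj u).injective

/-- prime index: nothing strictly between -/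
theorem eq_of_prime_relIndex {H K T : Subgroup G} (h1 : H ≤ K) (h2 : K ≤ T) (hne : H ≠ K)
    (hidx : H.relIndex T = 3) : K = T := by
  have hmul := Subgroup.relIndex_mul_relIndex H K T h1 h2
  rw [hidx] at hmul
  have hd : H.relIndex K ∣ 3 := Dvd.intro _ hmul
  have h3 : Nat.Prime 3 := by norm_num
  rcases (Nat.dvd_prime h3).mp hd with h | h
  · exfalso
    apply hne
    exact le_antisymm h1 (Subgroup.relIndex_eq_one.mp h)
  · rw [h] at hmul
    have : K.relIndex T = 1 := by omega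
    exact le_antisymm h2 (Subgroup.relIndex_eq_one.mp this)

/-- the general shifted statement -/
theorem Hx_eq_cj_aux [Finite G] {A B : Subgroup G} (h : TS A B) (g : G) (hg : B = cj g A)
    (n : ℕ) (h1 : 1 ≤ n)
    (hF : ∀ i k, k ≤ n → Nat.card ↥(Fc g (A ⊓ B) i k) = 2 ^ (n - k))
    (x0 : G) (hx0 : x0 ∈ Fc g (A ⊓ B) 1 (n - 1)) (hx01 : x0 ≠ 1)
    (hH : ∀ i j, i ≤ j → j < i + n →
      Hx (xs g x0) i j = Fc g (A ⊓ B) (j + 1) (n - 1 - (j - i))) (m : ℕ) :
    Hx (xs g x0) m (m + n) = cj (g ^ (m + n + 1)) A := by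
  -- `H[m, m+n-1] = D_(m+n)`
  have hHm : Hx (xs g x0) m (m + n - 1) = Fc g (A ⊓ B) (m + n) 0 := by
    have := hH m (m + n - 1) (by omega) (by omega)
    rw [show m + n - 1 + 1 = m + n by omega, show n - 1 - (m + n - 1 - m) = 0 by omega] at this
    exact this
  have hFc0 : Fc g (A ⊓ B) (m + n) 0 = Dn g (A ⊓ B) (m + n) := by
    ext y
    rw [mem_Fc]
    constructor
    · intro hy
      exact hy 0 le_rfl
    · intro hy l hl
      have : l = 0 := by omega
      subst this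
      exact hy
  -- the big group `A' = cj (g^(m+n)) B`
  have hA' : cj (g ^ (m + n + 1)) A = cj (g ^ (m + n)) B := by
    rw [hg, cj_cj, ← pow_succ]
  have hDle : Dn g (A ⊓ B) (m + n) ≤ cj (g ^ (m + n)) B := cj_mono inf_le_right
  have hidx : (Dn g (A ⊓ B) (m + n)).relIndex (cj (g ^ (m + n)) B) = 3 := by
    unfold Dn
    rw [relIndex_cj]
    exact h.idxB
  -- `x_(m+n)`
  have hxm : xs g x0 (m + n) ∈ Fc g (A ⊓ B) (m + n + 1) (n - 1) := xs_mem_Fc hx0 (m + n)
  have hxA' : xs g x0 (m + n) ∈ cj (g ^ (m + n)) B := by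
    rw [← hA']
    have h0 : xs g x0 (m + n) ∈ Dn g (A ⊓ B) (m + n + 1) := by
      rw [mem_Fc] at hxm
      exact hxm 0 (Nat.zero_le _)
    exact cj_mono inf_le_left h0
  have hsucc : Hx (xs g x0) m (m + n - 1) ⊔ Subgroup.zpowers (xs g x0 (m + n)) =
      Hx (xs g x0) m (m + n) := by
    have := Hx_succ (x := xs g x0) (i := m) (j := m + n - 1) (by omega)
    rw [show m + n - 1 + 1 = m + n by omega] at this
    exact this
  have hle : Hx (xs g x0) m (m + n) ≤ cj (g ^ (m + n)) B := by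
    rw [← hsucc, hHm, hFc0]
    refine sup_le hDle ?_
    rw [Subgroup.zpowers_le]
    exact hxA'
  have hne : Dn g (A ⊓ B) (m + n) ≠ Hx (xs g x0) m (m + n) := by
    intro he
    have hmem : xs g x0 (m + n) ∈ Dn g (A ⊓ B) (m + n) := by
      rw [he]
      exact mem_Hx (by omega) le_rfl
    have hall : xs g x0 (m + n) ∈ Fc g (A ⊓ B) (m + n) n := by
      rw [mem_Fc] at hxm ⊢
      intro l hl
      rcases Nat.eq_zero_or_pos l with h0 | h0
      · subst h0
        exact hmem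
      · have := hxm (l - 1) (by omega)
        rw [show m + n + 1 + (l - 1) = m + n + l by omega] at this
        exact this
    have hc1 : Nat.card ↥(Fc g (A ⊓ B) (m + n) n) = 1 := by
      rw [hF _ _ le_rfl, Nat.sub_self, pow_zero]
    have hb := Subgroup.eq_bot_of_card_eq _ hc1
    rw [hb, Subgroup.mem_bot] at hall
    exact xs_ne_one hx01 _ hall
  have hle0 : Dn g (A ⊓ B) (m + n) ≤ Hx (xs g x0) m (m + n) := by
    rw [← hFc0, ← hHm]
    exact Hx_mono le_rfl (by omega)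
  rw [hA']
  exact eq_of_prime_relIndex hle0 hle hne hidx

/-- LEAF T2C2. -/
theorem Hx_xs_eq_cj [Finite G] {A B : Subgroup G} (h : TS A B) (g : G) (hg : B = cj g A)
    (n : ℕ) (h1 : 1 ≤ n)
    (hF : ∀ i k, k ≤ n → Nat.card ↥(Fc g (A ⊓ B) i k) = 2 ^ (n - k))
    (x0 : G) (hx0 : x0 ∈ Fc g (A ⊓ B) 1 (n - 1)) (hx01 : x0 ≠ 1)
    (hH : ∀ i j, i ≤ j → j < i + n →
      Hx (xs g x0) i j = Fc g (A ⊓ B) (j + 1) (n - 1 - (j - i))) :
    Hx (xs g x0) 0 n = cj (g ^ (n + 1)) A ∧ Hx (xs g x0) 1 (n + 1) = cj (g ^ (n + 2)) A := by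
  constructor
  · have := Hx_eq_cj_aux h g hg n h1 hF x0 hx0 hx01 hH 0
    rw [Nat.zero_add] at this
    exact this
  · have := Hx_eq_cj_aux h g hg n h1 hF x0 hx0 hx01 hH 1
    rw [show 1 + n = n + 1 by omega, show n + 1 + 1 = n + 2 by omega] at this
    exact this

end Cfsg.Agent.Lib.Helper29.SIMST2C2
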