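import Mathlib
import Cfsg.Prelude.Def_Local
import Cfsg.Agent.Lib.Helper25.TSDefs
import Cfsg.Agent.Lib.Helper29.TSQBase

/-! helper29: S3797 leaf CW `card_le_sq` (helper25's market): Chevalley–Warning for an anisotropic quadratic
map `q : V → E` between finite elementary abelian 2-groups gives `|V| ≤ |E|²`. -/

set_option autoImplicit false
set_option linter.unusedSectionVars false

namespace Cfsg.Agent.Lib.Helper29.TSCW

open Cfsg.Agent.Lib.Helper25.TS Cfsg.Agent.Lib.Helper29.TSQBase
open scoped commutatorElement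

universe u

section general

variable {V E : Type*} [AddCommGroup V] [AddCommGroup E] {q : V → E}

/-- expansion of `q` on an ordered sum -/
theorem q_sum_ordered {ι : Type*} [LinearOrder ι] (hq : QCtx q) (s : Finset ι) (w : ι → V) :
    q (∑ j ∈ s, w j) =
      ∑ j ∈ s, q (w j) + ∑ j ∈ s, ∑ i ∈ s.filter (· < j), pol q (w i) (w j) := by
  classical
  induction s using Finset.induction_on_max with
  | empty => simp [q_zero hq]
  | insert a s has ih =>
    have ha : a ∉ s := fun h => lt_irrefl a (has a h)
    rw [Finset.sum_insert ha, Finset.sum_insert ha, Finset.sum_insert ha, q_add q (w a) _, ih]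
    have h1 : (insert a s).filter (· < a) = s := by
      rw [Finset.filter_insert, if_neg (lt_irrefl a)]
      exact Finset.filter_true_of_mem has
    have h2 : ∀ j ∈ s, (insert a s).filter (· < j) = s.filter (· < j) := by
      intro j hj
      rw [Finset.filter_insert, if_neg (not_lt.mpr (has j hj).le)]
    have h3 : ∑ j ∈ s, ∑ i ∈ (insert a s).filter (· < j), pol q (w i) (w j) =
        ∑ j ∈ s, ∑ i ∈ s.filter (· < j), pol q (w i) (w j) :=
      Finset.sum_congr rfl (fun j hj => by rw [h2 j hj])
    rw [h1, h3, pol_comm q (w a), pol_sum_left hq]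
    abel

theorem zmod2_cases (t : ZMod 2) : t = 0 ∨ t = 1 := by
  revert t
  decide

variable [Module (ZMod 2) V] [Module (ZMod 2) E]

theorem q_smul (hq : QCtx q) (t : ZMod 2) (v : V) : q (t • v) = t • q v := by
  rcases zmod2_cases t with rfl | rfl
  · rw [zero_smul, zero_smul, q_zero hq]
  · rw [one_smul, one_smul]

theorem pol_smul_smul (hq : QCtx q) (s t : ZMod 2) (u v : V) :
    pol q (s • u) (t • v) = (s * t) • pol q u v := by
  rcases zmod2_cases s with rfl | rfl <;> rcases zmod2_cases t with rfl | rfl <;>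
    simp [pol_zero_left hq, pol_zero_right hq]

open MvPolynomial in
/-- the polynomial computing a linear functional of `q` in coordinates -/
noncomputable def poly (q : V → E) {d : ℕ} (b : Fin d → V) (f : E →ₗ[ZMod 2] ZMod 2) :
    MvPolynomial (Fin d) (ZMod 2) :=
  ∑ j, (C (f (q (b j))) * X j +
    ∑ i ∈ Finset.univ.filter (· < j), C (f (pol q (b i) (b j))) * X i * X j)

open MvPolynomial in
theorem eval_poly (hq : QCtx q) {d : ℕ} (b : Fin d → V) (f : E →ₗ[ZMod 2] ZMod 2)
    (x : Fin d → ZMod 2) : eval x (poly q b f) = f (q (∑ j, x j • b j)) := by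
  rw [q_sum_ordered hq Finset.univ (fun j => x j • b j), map_add, map_sum, map_sum, poly, map_sum,
    ← Finset.sum_add_distrib]
  refine Finset.sum_congr rfl fun j _ => ?_
  rw [map_add, map_mul, eval_C, eval_X, q_smul hq, map_smul, smul_eq_mul, mul_comm, map_sum, map_sum]
  congr 1
  refine Finset.sum_congr rfl fun i _ => ?_
  rw [map_mul, map_mul, eval_C, eval_X, eval_X, pol_smul_smul hq, map_smul, smul_eq_mul]
  ring

open MvPolynomial in
theorem totalDegree_poly_le {d : ℕ} (b : Fin d → V) (f : E →ₗ[ZMod 2] ZMod 2) :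
    (poly q b f).totalDegree ≤ 2 := by
  unfold poly
  refine totalDegree_finsetSum_le fun j _ => ?_
  refine (totalDegree_add _ _).trans (max_le ?_ ?_)
  · refine (totalDegree_mul _ _).trans ?_
    rw [totalDegree_C, totalDegree_X]
    omega
  · refine totalDegree_finsetSum_le fun i _ => ?_
    refine (totalDegree_mul _ _).trans ?_
    refine (add_le_add (totalDegree_mul _ _) le_rfl).trans ?_
    rw [totalDegree_C, totalDegree_X, totalDegree_X]

/-- Chevalley–Warning: `dim V ≤ 2 dim E` -/
theorem finrank_le [Finite V] [Finite E] (hq : QCtx q) :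
    Module.finrank (ZMod 2) V ≤ 2 * Module.finrank (ZMod 2) E := by
  classical
  by_contra hlt
  push Not at hlt
  set d := Module.finrank (ZMod 2) V with hd
  set n := Module.finrank (ZMod 2) E with hn
  let b : Module.Basis (Fin d) (ZMod 2) V := Module.finBasis (ZMod 2) V
  let c : Module.Basis (Fin n) (ZMod 2) E := Module.finBasis (ZMod 2) E
  let P : Fin n → MvPolynomial (Fin d) (ZMod 2) := fun k => poly q b (c.coord k)
  have hdeg : (∑ k, (P k).totalDegree) < Fintype.card (Fin d) := by
    rw [Fintype.card_fin]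
    calc (∑ k, (P k).totalDegree) ≤ ∑ _k : Fin n, 2 :=
          Finset.sum_le_sum fun k _ => totalDegree_poly_le b (c.coord k)
      _ = 2 * n := by rw [Finset.sum_const, Finset.card_univ, Fintype.card_fin, smul_eq_mul, mul_comm]
      _ < d := hlt
  have hzero : ∀ k, MvPolynomial.eval (0 : Fin d → ZMod 2) (P k) = 0 := by
    intro k
    rw [eval_poly hq]
    simp [q_zero hq]
  have hdvd : 2 ∣ Nat.card {x : Fin d → ZMod 2 // ∀ k, MvPolynomial.eval x (P k) = 0} := by
    have := char_dvd_card_solutions_of_fintype_sum_lt 2 hdeg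
    rwa [Fintype.card_eq_nat_card] at this
  have : Nonempty {x : Fin d → ZMod 2 // ∀ k, MvPolynomial.eval x (P k) = 0} := ⟨⟨0, hzero⟩⟩
  have hpos : 0 < Nat.card {x : Fin d → ZMod 2 // ∀ k, MvPolynomial.eval x (P k) = 0} :=
    Nat.card_pos
  have hcard : 1 < Nat.card {x : Fin d → ZMod 2 // ∀ k, MvPolynomial.eval x (P k) = 0} :=
    lt_of_lt_of_le (by norm_num) (Nat.le_of_dvd hpos hdvd)
  have : Nontrivial {x : Fin d → ZMod 2 // ∀ k, MvPolynomial.eval x (P k) = 0} :=
    Finite.one_lt_card_iff_nontrivial.mp hcard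
  obtain ⟨x, hx⟩ := exists_ne
    (⟨0, hzero⟩ : {x : Fin d → ZMod 2 // ∀ k, MvPolynomial.eval x (P k) = 0})
  have hx0 : (x : Fin d → ZMod 2) ≠ 0 := fun h => hx (Subtype.ext h)
  have hq0 : q (∑ j, (x : Fin d → ZMod 2) j • b j) = 0 := by
    apply c.ext_elem
    intro k
    have := x.2 k
    rw [eval_poly hq] at this
    rw [map_zero, Finsupp.zero_apply]
    exact this
  have hv0 := hq.aniso _ hq0
  apply hx0
  have h1 : b.equivFun.symm (x : Fin d → ZMod 2) = 0 := by
    rw [Module.Basis.equivFun_symm_apply]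
    exact hv0
  exact b.equivFun.symm.map_eq_zero_iff.mp h1

end general

section moduleLeaves

variable {V E : Type*} [AddCommGroup V] [AddCommGroup E] [Finite V] [Finite E]
variable {Γ : Type*} [Group Γ] [DistribMulAction Γ V]

/-- **A5 `card_le_sq`** -/
theorem card_le_sq {q : V → E} (hq : QCtx q) : Nat.card V ≤ Nat.card E ^ 2 := by
  classical
  let _ := AddCommGroup.zmodModule (n := 2) (G := V) (fun x => by rw [two_smul]; exact hq.two_V x)
  let _ := AddCommGroup.zmodModule (n := 2) (G := E) (fun x => by rw [two_smul]; exact hq.two_E x)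
  have := Fintype.ofFinite V
  have := Fintype.ofFinite E
  have h := finrank_le hq
  rw [Nat.card_eq_fintype_card, Nat.card_eq_fintype_card,
    Module.card_eq_pow_finrank (K := ZMod 2) (V := V),
    Module.card_eq_pow_finrank (K := ZMod 2) (V := E), ZMod.card, ← pow_mul, mul_comm]
  exact Nat.pow_le_pow_right (by norm_num) h

end moduleLeaves

end Cfsg.Agent.Lib.Helper29.TSCW
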