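import Mathlib
import Cfsg.Agent.Lib.Helper29.SpAschTools
import Cfsg.Agent.Lib.Helper18.AschA89Defs

/-!
S5662 block [PRF] (the perfect case, tensor power with form): definitions.
`gramT e P J` (Gram matrix of `bfm J` in the coordinates `x ↦ P *ᵥ (x ∘ e)`), `stdM e P g` (matrix of `g` in these coordinates),
`tvec e P x` (the vector with coordinates `x`), `pvec v` (pure tensor vector).
-/

set_option autoImplicit false
set_option linter.unusedSectionVars false
set_option linter.unusedVariables false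

namespace Cfsg.Agent.Lib.Helper29.SpAsch
open Matrix Cfsg Cfsg.Geo Cfsg.Agent.Lib.Helper20.Asch Cfsg.Agent.Lib.Helper18.AschA89
open scoped Kronecker

variable {F : Type*} [Field F] {n : ℕ} {κ : Type} [Fintype κ] [DecidableEq κ]

/-- the Gram matrix of `bfm J` in the coordinates `x ↦ P *ᵥ (x ∘ e)` -/
def gramT (e : Fin n ≃ κ) (P : GL (Fin n) F) (J : Matrix (Fin n) (Fin n) F) : Matrix κ κ F :=
  Matrix.reindex e e ((P : Matrix (Fin n) (Fin n) F)ᵀ * J * (P : Matrix (Fin n) (Fin n) F))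

/-- the matrix of `g` in the coordinates `x ↦ P *ᵥ (x ∘ e)`: `conjR e P (stdM e P g) = g` -/
def stdM (e : Fin n ≃ κ) (P : GL (Fin n) F) (g : Matrix (Fin n) (Fin n) F) : Matrix κ κ F :=
  Matrix.reindex e e (((P⁻¹ : GL (Fin n) F) : Matrix (Fin n) (Fin n) F) * g * (P : Matrix (Fin n) (Fin n) F))

/-- the vector with coordinates `x` -/
def tvec (e : Fin n ≃ κ) (P : GL (Fin n) F) (x : κ → F) : Fin n → F :=
  (P : Matrix (Fin n) (Fin n) F) *ᵥ (x ∘ e)

/-- the pure tensor vector `v 0 ⊗ ⋯ ⊗ v (t-1)` -/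
def pvec {s t : ℕ} (v : Fin t → Fin s → F) : (Fin t → Fin s) → F := fun z => ∏ i, v i (z i)

end Cfsg.Agent.Lib.Helper29.SpAsch
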