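/-
helper29: S2262 leaf (FX1) `card_fixF_pow` (frozen statement `notes/S2262_leaves.lean`):
`|Fix σ| ^ orderOf σ = |F|` for an automorphism `σ` of a finite field (Artin:
`FixedPoints.finrank_eq_card` for `Subgroup.zpowers σ`).
-/
import Mathlib
import Cfsg.Agent.Lib.Helper19.AutPSLDefs

set_option autoImplicit false

namespace Cfsg.Agent.Lib.Helper29.AutPSLFX1

open Matrix Polynomial Cfsg.Agent.Lib.Helper19.AutPSL

/-- the fixed field of `σ` is the fixed field of the cyclic group generated by `σ` -/
theorem fixF_eq {F : Type*} [Field F] (σ : F ≃+* F) :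
    fixF σ = FixedPoints.subfield (Subgroup.zpowers (σ : RingAut F)) F := by
  ext x
  have hmem : x ∈ FixedPoints.subfield (Subgroup.zpowers (σ : RingAut F)) F ↔
      ∀ m : Subgroup.zpowers (σ : RingAut F), m • x = x := Iff.rfl
  rw [mem_fixF, hmem]
  constructor
  · intro h
    have hinv : (σ : RingAut F)⁻¹ x = x := by
      have h2 : σ.symm (σ x) = x := σ.symm_apply_apply x
      rw [h] at h2; exact h2
    have key : ∀ k : ℤ, ((σ : RingAut F) ^ k) x = x := by
      intro k
      induction k using Int.induction_on with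
      | zero => simp
      | succ k ih =>
        rw [_root_.zpow_add_one]
        show ((σ : RingAut F) ^ (k : ℤ)) (σ x) = x
        rw [h]; exact ih
      | pred k ih =>
        rw [_root_.zpow_sub_one]
        show ((σ : RingAut F) ^ (-(k : ℤ))) ((σ : RingAut F)⁻¹ x) = x
        rw [hinv]; exact ih
    rintro ⟨τ, hτ⟩
    obtain ⟨k, rfl⟩ := Subgroup.mem_zpowers_iff.mp hτ
    exact key k
  · intro h
    exact h ⟨σ, Subgroup.mem_zpowers σ⟩

section FX

variable {F : Type*} [Field F] [Fintype F]

/-- (FX1) Artin: `[F : Fix σ] = orderOf σ`. -/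
theorem card_fixF_pow (σ : F ≃+* F) : Nat.card (fixF σ) ^ orderOf σ = Fintype.card F := by
  classical
  rw [fixF_eq σ]
  have : Finite (F ≃+* F) :=
    Finite.of_injective (fun e : F ≃+* F => (e : F → F)) DFunLike.coe_injective
  have : Fintype (Subgroup.zpowers (σ : RingAut F)) := Fintype.ofFinite _
  have h1 := FixedPoints.finrank_eq_card (Subgroup.zpowers (σ : RingAut F)) F
  rw [Fintype.card_eq_nat_card, Nat.card_zpowers] at h1
  have h2 := Module.card_eq_pow_finrank
    (K := FixedPoints.subfield (Subgroup.zpowers (σ : RingAut F)) F) (V := F)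
  rw [h1] at h2
  rw [h2, Nat.card_eq_fintype_card]

end FX

end Cfsg.Agent.Lib.Helper29.AutPSLFX1
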