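/-
helper29: S2262 leaf (FX2) `exists_map_fixF` (frozen statement `notes/S2262_leaves.lean`):
a `σ`-fixed polynomial has coefficients in the fixed field of `σ`.
-/
import Mathlib
import Cfsg.Agent.Lib.Helper19.AutPSLDefs

set_option autoImplicit false

namespace Cfsg.Agent.Lib.Helper29.AutPSLFX2

open Matrix Polynomial Cfsg.Agent.Lib.Helper19.AutPSL

section FX

variable {F : Type*} [Field F] [Fintype F]

set_option linter.unusedSectionVars false in
/-- (FX2) a `σ`-fixed polynomial has coefficients in the fixed field. -/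
theorem exists_map_fixF (σ : F ≃+* F) (P : F[X]) (h : P.map (σ : F →+* F) = P) :
    ∃ P₀ : (fixF σ)[X], P₀.map (fixF σ).subtype = P := by
  have hmem : P ∈ Polynomial.lifts (fixF σ).subtype := by
    rw [Polynomial.lifts_iff_coeff_lifts]
    intro n
    have hc : σ (P.coeff n) = P.coeff n := by
      have h1 := congrArg (fun Q => Q.coeff n) h
      simpa [Polynomial.coeff_map] using h1
    exact ⟨⟨P.coeff n, hc⟩, rfl⟩
  exact (Polynomial.mem_lifts _).mp hmem

end FX

end Cfsg.Agent.Lib.Helper29.AutPSLFX2
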