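import Mathlib
import Cfsg.Agent.Lib.Helper29.SpPrfDefs
import Cfsg.Agent.Lib.Helper20.AschA89Main
import Cfsg.Agent.Lib.Helper17.SpAschQ0
import Cfsg.Agent.Lib.Helper17.SpAschZ
import Cfsg.Agent.Lib.Helper28.SLMP7core
import Cfsg.Agent.Lib.Helper19.SpPrfA

/-!
S5662 block [PRF]: leaves (B2) `isAltGram_gramT`, (B3) `bfm_gramT`, (C2) `exit_odd` (EXACT signatures of
`notes/S5662_PRF_leaves.lean`) and the core form of (C1) `exit_even` (the leaves A8, A9, B6, B7 as hypotheses).
-/

set_option autoImplicit false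
set_option linter.unusedSectionVars false
set_option linter.unusedVariables false

namespace Cfsg.Agent.Lib.Helper29.SpPrfLeaf
open Matrix Cfsg Cfsg.Geo Cfsg.Agent.Lib.Helper20.Asch Cfsg.Agent.Lib.Helper29.SpAsch
  Cfsg.Agent.Lib.Helper18.AschA89
open scoped Kronecker

variable {F : Type*} [Field F] [Fintype F] {n m : ℕ} {J : Matrix (Fin n) (Fin n) F}
  {H N : Subgroup (GL (Fin n) F)}

section transport
variable {κ : Type} [Fintype κ] [DecidableEq κ]

lemma bfm_reindex_c (e : Fin n ≃ κ) (M : Matrix (Fin n) (Fin n) F) (x y : κ → F) :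
    bfm (Matrix.reindex e e M) x y = bfm M (x ∘ e) (y ∘ e) := by
  simp only [bfm, dotProduct, Matrix.mulVec, Matrix.reindex_apply, Matrix.submatrix_apply, Function.comp]
  rw [← e.sum_comp]
  refine Finset.sum_congr rfl fun i _ => ?_
  congr 1
  rw [← e.sum_comp]
  simp

/-- (B3) [S-M] -/
theorem bfm_gramT (e : Fin n ≃ κ) (P : GL (Fin n) F) (x y : κ → F) :
    bfm J (tvec e P x) (tvec e P y) = bfm (gramT e P J) x y := by
  unfold gramT tvec
  rw [bfm_reindex_c, bfm_mulVec]

/-- (B2) [S-M] -/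
theorem isAltGram_gramT (hJ : IsAltGram J) (e : Fin n ≃ κ) (P : GL (Fin n) F) :
    IsAltGram (gramT e P J) := by
  have hdiag : ∀ v : κ → F, bfm (gramT e P J) v v = 0 := fun v => by
    rw [← bfm_gramT]; exact bfm_self hJ _
  refine ⟨?_, ?_, ?_⟩
  · unfold gramT
    rw [Matrix.reindex_apply, Matrix.transpose_submatrix, Matrix.transpose_mul, Matrix.transpose_mul,
      Matrix.transpose_transpose, hJ.skew, Matrix.neg_mul, Matrix.mul_neg, Matrix.mul_assoc]
    rfl
  · intro a
    rw [← bfm_entry (J := gramT e P J) a a]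
    exact hdiag _
  · unfold gramT
    rw [Matrix.det_reindex_self, Matrix.det_mul, Matrix.det_mul, Matrix.det_transpose]
    have hP : (P : Matrix (Fin n) (Fin n) F).det ≠ 0 := by
      have := (Matrix.isUnit_iff_isUnit_det _).1 P.isUnit
      exact this.ne_zero
    exact mul_ne_zero (mul_ne_zero hP hJ.det) hP

end transport

/-- (C2) [M] ODD `q`: C7. -/
theorem exit_odd (h : SpCtx J m H) (hodd : Odd (Fintype.card F)) {s t : ℕ} (htodd : Odd t) (ht : 3 ≤ t)
    (hex : ¬ (Fintype.card F = 3 ∧ s = 2))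
    (e : Fin n ≃ (Fin t → Fin s)) (P : GL (Fin n) F) (c : F) (hc : c ≠ 0)
    (G₀ : Matrix (Fin s) (Fin s) F) (hG₀ : IsAltGram G₀)
    (hgram : gramT e P J = c • ptens s t (fun _ => G₀))
    (hHW : H ≤ tensorWreathSubgroup s t e P) : SGeo J m H := by
  refine SGeo.of_C7 h.le s t e P (bfm G₀) hodd htodd ht hex (isSymplectic_bfm hG₀) ?_ hHW
  refine ⟨c, hc, fun x y => ?_⟩
  have hB3 := bfm_gramT (J := J) e P x y
  unfold tvec at hB3
  rw [hB3, hgram]
  have hgm : ∀ i j, gramMatrix (bfm G₀) i j = G₀ i j := fun i j => bfm_entry (J := G₀) i j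
  simp only [hgm, id]
  simp only [bfm, dotProduct, Matrix.mulVec, Matrix.smul_apply, ptens_apply, smul_eq_mul]
  rw [Finset.mul_sum]
  refine Finset.sum_congr rfl fun a _ => ?_
  rw [Finset.mul_sum, Finset.mul_sum]
  refine Finset.sum_congr rfl fun b _ => ?_
  ring

lemma bfm_transpose_c {ι : Type} [Fintype ι] [DecidableEq ι] (M : Matrix ι ι F) (x y : ι → F) :
    bfm Mᵀ x y = bfm M y x := by
  unfold bfm
  rw [Matrix.mulVec_transpose, Matrix.dotProduct_mulVec, dotProduct_comm]

lemma bfm_add_mat_c {ι : Type} [Fintype ι] [DecidableEq ι] (M M' : Matrix ι ι F) (x y : ι → F) :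
    bfm (M + M') x y = bfm M x y + bfm M' x y := by
  unfold bfm
  rw [Matrix.add_mulVec, dotProduct_add]

lemma bfm_smul_mat_c {ι : Type} [Fintype ι] [DecidableEq ι] (c : F) (M : Matrix ι ι F) (x y : ι → F) :
    bfm (c • M) x y = c * bfm M x y := by
  unfold bfm
  rw [Matrix.smul_mulVec, dotProduct_smul, smul_eq_mul]

/-- coordinates of a vector -/
noncomputable def coordC {s t : ℕ} (e : Fin n ≃ (Fin t → Fin s)) (P : GL (Fin n) F) (u : Fin n → F) :
    (Fin t → Fin s) → F :=
  fun a => (((P⁻¹ : GL (Fin n) F) : Matrix (Fin n) (Fin n) F) *ᵥ u) (e.symm a)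

lemma tvec_coordC {s t : ℕ} (e : Fin n ≃ (Fin t → Fin s)) (P : GL (Fin n) F) (u : Fin n → F) :
    tvec e P (coordC e P u) = u := by
  unfold tvec coordC
  have : (fun a => (((P⁻¹ : GL (Fin n) F) : Matrix (Fin n) (Fin n) F) *ᵥ u) (e.symm a)) ∘ e
      = ((P⁻¹ : GL (Fin n) F) : Matrix (Fin n) (Fin n) F) *ᵥ u := by
    funext i; simp
  rw [this, Matrix.mulVec_mulVec, ← Units.val_mul, mul_inv_cancel, Units.val_one, Matrix.one_mulVec]

lemma coordC_tvec {s t : ℕ} (e : Fin n ≃ (Fin t → Fin s)) (P : GL (Fin n) F) (x : (Fin t → Fin s) → F) :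
    coordC e P (tvec e P x) = x := by
  unfold tvec coordC
  rw [Matrix.mulVec_mulVec, ← Units.val_mul, inv_mul_cancel, Units.val_one, Matrix.one_mulVec]
  funext a; simp

lemma coordC_add {s t : ℕ} (e : Fin n ≃ (Fin t → Fin s)) (P : GL (Fin n) F) (u v : Fin n → F) :
    coordC e P (u + v) = coordC e P u + coordC e P v := by
  unfold coordC; rw [Matrix.mulVec_add]; rfl

lemma coordC_smul {s t : ℕ} (e : Fin n ≃ (Fin t → Fin s)) (P : GL (Fin n) F) (a : F) (u : Fin n → F) :
    coordC e P (a • u) = a • coordC e P u := by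
  unfold coordC; rw [Matrix.mulVec_smul]; rfl

/-- (C1) core: the leaves (B6), (B7) as hypotheses. -/
theorem exit_even_core (h : SpCtx J m H) (heven : ¬ Odd (Fintype.card F)) {s t : ℕ} (ht : 2 ≤ t)
    (e : Fin n ≃ (Fin t → Fin s)) (P : GL (Fin n) F) (c : F) (hc : c ≠ 0)
    (G₀ : Matrix (Fin s) (Fin s) F) (hsym : G₀ᵀ = G₀) (hdiag : ∀ j, G₀ j j = 0)
    (hgram : gramT e P J = c • ptens s t (fun _ => G₀))
    (hHW : H ≤ tensorWreathSubgroup s t e P)
    (hB6 : ∀ g : GL (Fin n) F, g ∈ tensorWreathSubgroup s t e P → ∀ v : Fin t → Fin s → F,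
      ∃ v' : Fin t → Fin s → F, (g : Matrix (Fin n) (Fin n) F) *ᵥ tvec e P (pvec v) = tvec e P (pvec v'))
    (hB7 : Submodule.span F {u : Fin n → F | ∃ v : Fin t → Fin s → F, u = tvec e P (pvec v)} = ⊤) :
    SGeo J m H := by
  classical
  have h2 : (2 : F) = 0 := Cfsg.Agent.Lib.Helper17.SpAschLeaf.two_eq_zero_of_not_odd heven
  have hneg : ∀ a : F, -a = a := fun a => by
    have : a + a = 0 := by rw [← two_mul, h2, zero_mul]
    exact neg_eq_of_add_eq_zero_left this
  let i₀ : Fin t := ⟨0, by omega⟩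
  let i₁ : Fin t := ⟨1, by omega⟩
  have hi : i₁ ≠ i₀ := by
    intro hh; have := congrArg Fin.val hh; simp [i₀, i₁] at this
  let T₀ : Matrix (Fin s) (Fin s) F := Matrix.of fun i j => if i < j then G₀ i j else 0
  have hT : T₀ + T₀ᵀ = G₀ := by
    ext i j
    simp only [Matrix.add_apply, Matrix.transpose_apply, T₀, Matrix.of_apply]
    rcases lt_trichotomy i j with hij | hij | hij
    · rw [if_pos hij, if_neg (not_lt.2 hij.le), add_zero]
    · subst hij; rw [if_neg (lt_irrefl _), add_zero, hdiag]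
    · rw [if_neg (not_lt.2 hij.le), if_pos hij, zero_add]
      have := congrFun (congrFun hsym i) j
      rw [Matrix.transpose_apply] at this
      exact this
  let A : Fin t → Matrix (Fin s) (Fin s) F := Function.update (fun _ => G₀) i₀ T₀
  let M : Matrix (Fin t → Fin s) (Fin t → Fin s) F := c • ptens s t A
  have hMM : M + Mᵀ = gramT e P J := by
    rw [hgram]
    show c • ptens s t A + (c • ptens s t A)ᵀ = _
    rw [Matrix.transpose_smul, ← smul_add, Cfsg.Agent.Lib.Helper20.AschLeaf.ptens_transpose]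
    congr 1
    have hA' : (fun i => (A i)ᵀ) = Function.update (fun _ => G₀) i₀ T₀ᵀ := by
      funext i
      by_cases hii : i = i₀
      · subst hii; simp [A]
      · simp [A, Function.update_of_ne hii, hsym]
    rw [hA', ← Cfsg.Agent.Lib.Helper19.SpPrfLeaf.ptens_update_add, hT, Function.update_eq_self]
  let Q : (Fin n → F) → F := fun u => bfm M (coordC e P u) (coordC e P u)
  have hsmul : ∀ (a : F) (v : Fin n → F), Q (a • v) = a ^ 2 * Q v := by
    intro a v
    show bfm M (coordC e P (a • v)) (coordC e P (a • v)) = a ^ 2 * bfm M (coordC e P v) (coordC e P v)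
    rw [coordC_smul, bfm_smul_left, bfm_smul_right]; ring
  have hpolar : ∀ u v, QuadraticMap.polar Q u v = bfm J u v := by
    intro u v
    unfold QuadraticMap.polar
    show bfm M (coordC e P (u + v)) (coordC e P (u + v)) - bfm M (coordC e P u) (coordC e P u)
      - bfm M (coordC e P v) (coordC e P v) = _
    rw [coordC_add, bfm_add_left, bfm_add_right, bfm_add_right]
    have h1 : bfm J u v = bfm M (coordC e P u) (coordC e P v) + bfm M (coordC e P v) (coordC e P u) := by
      conv_lhs => rw [← tvec_coordC e P u, ← tvec_coordC e P v]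
      rw [bfm_gramT, ← hMM, bfm_add_mat_c, bfm_transpose_c]
    rw [h1]; ring
  refine Cfsg.Agent.Lib.Helper17.SpAschLeaf.c8_of_vanishing h heven Q hsmul hpolar
    {u : Fin n → F | ∃ v : Fin t → Fin s → F, u = tvec e P (pvec v)} hB7 ?_ ?_
  · rintro _ ⟨v, rfl⟩
    show bfm M (coordC e P (tvec e P (pvec v))) (coordC e P (tvec e P (pvec v))) = 0
    rw [coordC_tvec]
    show bfm (c • ptens s t A) (pvec v) (pvec v) = 0
    rw [bfm_smul_mat_c, Cfsg.Agent.Lib.Helper19.SpPrfLeaf.bfm_ptens_pvec]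
    have hz : bfm (A i₁) (v i₁) (v i₁) = 0 := by
      have : A i₁ = G₀ := by simp [A, Function.update_of_ne hi]
      rw [this, bfm_eq_bf]
      refine Cfsg.Agent.Lib.Helper27.AschO4.bf_alt G₀ ?_ hdiag _
      rw [hsym]
      ext i j
      rw [Matrix.neg_apply, hneg]
    rw [Finset.prod_eq_zero (Finset.mem_univ i₁) hz, mul_zero]
  · rintro g hg _ ⟨v, rfl⟩
    obtain ⟨v', hv'⟩ := hB6 g (hHW hg) v
    exact ⟨v', hv'⟩

end Cfsg.Agent.Lib.Helper29.SpPrfLeaf
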