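import Mathlib
import Cfsg.Agent.Lib.Helper20.AschDefs
import Cfsg.Agent.Lib.Helper18.AschA89Defs
import Cfsg.Agent.Lib.Helper20.AschA89F2
import Cfsg.Agent.Lib.Helper20.AschA89PS
import Cfsg.Agent.Lib.Helper20.AschA89WR
import Cfsg.Agent.Lib.Helper20.AschTS
import Cfsg.Agent.Lib.Helper15.AschCL
import Cfsg.Agent.Lib.Helper29.AschS1K1
import Cfsg.Agent.Lib.Helper14.AschA89G
import Cfsg.Agent.Lib.Helper14.AschA89G2f
import Cfsg.Agent.Lib.Helper14.AschA89Simp
import Cfsg.Agent.Lib.Helper28.AschA89Irr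
import Cfsg.Agent.Lib.Helper28.AschA89L1
import Cfsg.Agent.Lib.Helper28.AschA89Lin
import Cfsg.Agent.Lib.Helper28.AschA89WRT
import Cfsg.Agent.Lib.Helper4.AschA89L2

import Cfsg.Agent.Lib.Helper20.AschA89Main
import Cfsg.Agent.Lib.Helper29.SpPrfDefs

/-!
S5662 market PRF, group D (helper29): copies of S5630-A89 leaves with stronger conclusions:
(D1) `simple_of_core'` (arbitrary proposition), (D2) `wreath_data_of_cfam` (slot data in the conclusion), (D3) `cfam_exists'` (perfect factors).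
Proof texts: helper14 (`AschA89Simp`, `AschA89G2f`), helper18/helper20 (`AschA89Main`).
-/

set_option autoImplicit false
set_option linter.unusedSectionVars false
set_option linter.unusedVariables false

namespace Cfsg.Agent.Lib.Helper29.SpPrfLeaf
open Matrix Cfsg.Geo Cfsg.Agent.Lib.Helper20.Asch Cfsg.Agent.Lib.Helper18.AschA89
open scoped Kronecker
open Cfsg.Agent.Lib.Helper15.AschLeaf (clifford)
open Cfsg.Agent.Lib.Helper20.AschLeaf (tensor_of_homog mem_tensorWreathStandard_of_perm)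
open Cfsg.Agent.Lib.Helper29.AschLeaf (scalar_of_tensor_one)
open Cfsg.Agent.Lib.Helper14.AschLeaf (simple_of_core exists_minNS_le minNS_cj minNS_comm_mod iSup_cj_eq minNS_perfect commute_of_comm_mod cfam_of_conjugates)
open Cfsg.Agent.Lib.Helper28.AschLeaf (homog_of_cfam isUnits_conjR conjR_kron_eq_sum isUnits_conj env_cj env_cj_inv env_commute irr_units_of_cfam slot_eq_sum mem_tensorWreath_of_perm)
open Cfsg.Agent.Lib.Helper4.AschLeaf (zcen_scalar_of_cfam)

open Cfsg.Agent.Lib.Helper14.AschLeaf (cj_one cj_cj cj_inv_cj cj_cj_inv cj_mono)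
open Cfsg.Agent.Lib.Helper20.AschA89Asm (product_system)

variable {F : Type*} [Field F] [Fintype F] {n : ℕ} {H N : Subgroup (GL (Fin n) F)}

/-- SIMP: from the core statement to simplicity of `N` modulo scalars (quotient group API). -/
theorem simple_of_core' {p : Prop} (hns : ¬ N ≤ scalars (Fin n) F)
    (hcore : ∀ K : Subgroup (GL (Fin n) F), K ≤ N → NormBy N K → ¬ K ≤ scalars (Fin n) F → K ≠ N → p) :
    p ∨ IsSimpleGroup (N ⧸ (scalars (Fin n) F).subgroupOf N) := by
  classical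
  by_cases hG : p
  · exact Or.inl hG
  right
  have hall : ∀ K : Subgroup (GL (Fin n) F), K ≤ N → NormBy N K → K ≤ scalars (Fin n) F ∨ K = N := by
    intro K hK hKn
    by_contra hcon
    push Not at hcon
    exact hG (hcore K hK hKn hcon.1 hcon.2)
  have hnt : Nontrivial (N ⧸ (scalars (Fin n) F).subgroupOf N) := by
    by_contra hcon
    rw [not_nontrivial_iff_subsingleton] at hcon
    have h1 := QuotientGroup.subgroup_eq_top_of_subsingleton _ hcon
    rw [Subgroup.subgroupOf_eq_top] at h1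
    exact hns h1
  refine { toNontrivial := hnt, eq_bot_or_eq_top_of_normal := ?_ }
  intro Kb hKb
  obtain ⟨K', hK'def⟩ : ∃ K' : Subgroup N,
      K' = Kb.comap (QuotientGroup.mk' ((scalars (Fin n) F).subgroupOf N)) := ⟨_, rfl⟩
  have hK'mem : ∀ x : N, x ∈ K' ↔
      (QuotientGroup.mk x : N ⧸ (scalars (Fin n) F).subgroupOf N) ∈ Kb := by
    intro x
    rw [hK'def]
    rfl
  have hK'n : K'.Normal := by
    rw [hK'def]
    exact Subgroup.Normal.comap hKb _
  obtain ⟨K, hKdef⟩ : ∃ K : Subgroup (GL (Fin n) F), K = K'.map N.subtype := ⟨_, rfl⟩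
  have hKN : K ≤ N := by rw [hKdef]; exact Subgroup.map_subtype_le K'
  have hKmem : ∀ x : N, (x : GL (Fin n) F) ∈ K ↔ x ∈ K' := by
    intro x
    rw [hKdef]
    constructor
    · rintro ⟨x'', hx'', hxx⟩
      have : x'' = x := Subtype.ext hxx
      rwa [this] at hx''
    · intro hx
      exact ⟨x, hx, rfl⟩
  have hKnorm : NormBy N K := by
    intro y hy x hx
    have hxN : x ∈ N := hKN hx
    have h1 : (⟨x, hxN⟩ : N) ∈ K' := (hKmem ⟨x, hxN⟩).1 hx
    have h2 := hK'n.conj_mem ⟨x, hxN⟩ h1 ⟨y, hy⟩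
    exact (hKmem _).2 h2
  rcases hall K hKN hKnorm with h1 | h1
  · left
    rw [eq_bot_iff]
    intro q hq
    obtain ⟨x', rfl⟩ := QuotientGroup.mk_surjective q
    have hx' : x' ∈ K' := (hK'mem x').2 hq
    have h2 : (x' : GL (Fin n) F) ∈ scalars (Fin n) F := h1 ((hKmem x').2 hx')
    rw [Subgroup.mem_bot, QuotientGroup.eq_one_iff]
    exact h2
  · right
    rw [eq_top_iff]
    intro q _
    obtain ⟨x', rfl⟩ := QuotientGroup.mk_surjective q
    have h2 : (x' : GL (Fin n) F) ∈ K := h1 ▸ x'.2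
    exact (hK'mem x').1 ((hKmem x').1 h2)


/-- LIN: the tensor wreath structure. -/
theorem wreath_data_of_cfam (hn : 3 ≤ n) {r : ℕ} {Nf : Fin r → Subgroup (GL (Fin n) F)}
    (hfam : CFam H N r Nf) (habs : AbsIrr N) :
    ∃ (s : ℕ) (e : Fin n ≃ (Fin r → Fin s)) (P : GL (Fin n) F), 2 ≤ s ∧
      (∀ i, ∀ A : Matrix (Fin s) (Fin s) F, conjR e P (slot s r i A) ∈ Env (Nf i)) ∧
      (∀ i, ∀ T ∈ Env (Nf i), ∃ A : Matrix (Fin s) (Fin s) F, T = conjR e P (slot s r i A)) ∧
      H ≤ tensorWreathSubgroup s r e P := by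
  have hn0 : 0 < n := by omega
  have hr : 0 < r := by have := hfam.two_le; omega
  let i₀ : Fin r := ⟨0, hr⟩
  have hirrN : Irr N := habs.1
  obtain ⟨s, k, e₁, P₁, h1, h2⟩ :=
    tensor_of_homog hn0 (homog_of_cfam hn0 hfam hirrN i₀
      (clifford hn0 hirrN (hfam.le i₀) (hfam.normN i₀))) (zcen_scalar_of_cfam hfam habs i₀)
  choose hs hsH hsc using fun i => hfam.trans i₀ i
  let U : Fin s → Fin s → Matrix (Fin n) (Fin n) F := fun a b =>
    conjR e₁ P₁ (Matrix.single a b (1 : F) ⊗ₖ (1 : Matrix (Fin k) (Fin k) F))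
  let E : Fin r → Fin s → Fin s → Matrix (Fin n) (Fin n) F := fun i a b =>
    ((hs i : GL (Fin n) F) : Matrix (Fin n) (Fin n) F) * U a b *
      (((hs i)⁻¹ : GL (Fin n) F) : Matrix (Fin n) (Fin n) F)
  have hU : IsUnits U := isUnits_conjR e₁ P₁
  have hEmem : ∀ i a b, E i a b ∈ Env (Nf i) := by
    intro i a b
    rw [← hsc i]
    exact env_cj (hs i) (Nf i₀) _ (h1 _)
  have hval : ∀ i, ((hs i : GL (Fin n) F) : Matrix (Fin n) (Fin n) F) *
      (((hs i)⁻¹ : GL (Fin n) F) : Matrix (Fin n) (Fin n) F) = 1 := by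
    intro i
    rw [← Units.val_mul, mul_inv_cancel, Units.val_one]
  have hspan : ∀ i, ∀ T ∈ Env (Nf i), ∃ A : Matrix (Fin s) (Fin s) F,
      T = ∑ a, ∑ b, A a b • E i a b := by
    intro i T hT
    rw [← hsc i] at hT
    obtain ⟨A, hA⟩ := h2 _ (env_cj_inv (hs i) (Nf i₀) T hT)
    refine ⟨A, ?_⟩
    have h3 : T = ((hs i : GL (Fin n) F) : Matrix (Fin n) (Fin n) F) *
        ((((hs i)⁻¹ : GL (Fin n) F) : Matrix (Fin n) (Fin n) F) * T *
          ((hs i : GL (Fin n) F) : Matrix (Fin n) (Fin n) F)) *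
        (((hs i)⁻¹ : GL (Fin n) F) : Matrix (Fin n) (Fin n) F) := by
      rw [← mul_assoc, ← mul_assoc, hval i, one_mul, mul_assoc, hval i, mul_one]
    rw [h3, hA, conjR_kron_eq_sum]
    simp only [E, U, Finset.mul_sum, Finset.sum_mul, Matrix.mul_smul, Matrix.smul_mul]
  have hEunits : IsCommUnits E := by
    refine ⟨fun i => isUnits_conj U hU (hs i), ?_⟩
    intro i j hij a b c d
    exact env_commute (hfam.comm i j hij) _ (hEmem i a b) _ (hEmem j c d)
  obtain ⟨e, P, hEP⟩ := product_system hn0 E hEunits (irr_units_of_cfam hfam hirrN E hspan)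
  -- Env (Nf i) = slot i
  have hslot_mem : ∀ i, ∀ A : Matrix (Fin s) (Fin s) F, conjR e P (slot s r i A) ∈ Env (Nf i) := by
    intro i A
    rw [slot_eq_sum, ← Finset.sum_comm]
    have : conjR e P (∑ b, ∑ a, A a b • slot s r i (Matrix.single a b (1 : F))) =
        ∑ b, ∑ a, A a b • E i a b := by
      have hadd : ∀ (ι : Type) (t : Finset ι) (f : ι → Matrix (Fin r → Fin s) (Fin r → Fin s) F),
          conjR e P (∑ x ∈ t, f x) = ∑ x ∈ t, conjR e P (f x) := by
        intro ι t f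
        classical
        induction t using Finset.induction_on with
        | empty =>
          simp only [Finset.sum_empty]
          have := conjR_smul e P (0 : F) (0 : Matrix (Fin r → Fin s) (Fin r → Fin s) F)
          simpa using this
        | insert a t ha ih => rw [Finset.sum_insert ha, Finset.sum_insert ha, conjR_add, ih]
      rw [hadd]
      refine Finset.sum_congr rfl fun b _ => ?_
      rw [hadd]
      refine Finset.sum_congr rfl fun a _ => ?_
      rw [conjR_smul, hEP]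
    rw [this]
    refine Subalgebra.sum_mem _ fun b _ => Subalgebra.sum_mem _ fun a _ => ?_
    exact Subalgebra.smul_mem _ (hEmem i a b) _
  have hslot_of : ∀ i, ∀ T ∈ Env (Nf i), ∃ A : Matrix (Fin s) (Fin s) F,
      T = conjR e P (slot s r i A) := by
    intro i T hT
    obtain ⟨A, hA⟩ := hspan i T hT
    refine ⟨A, ?_⟩
    rw [hA, slot_eq_sum]
    have hadd : ∀ (ι : Type) (t : Finset ι) (f : ι → Matrix (Fin r → Fin s) (Fin r → Fin s) F),
        conjR e P (∑ x ∈ t, f x) = ∑ x ∈ t, conjR e P (f x) := by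
      intro ι t f
      classical
      induction t using Finset.induction_on with
      | empty =>
        simp only [Finset.sum_empty]
        have := conjR_smul e P (0 : F) (0 : Matrix (Fin r → Fin s) (Fin r → Fin s) F)
        simpa using this
      | insert a t ha ih => rw [Finset.sum_insert ha, Finset.sum_insert ha, conjR_add, ih]
    rw [hadd]
    refine Finset.sum_congr rfl fun a _ => ?_
    rw [hadd]
    refine Finset.sum_congr rfl fun b _ => ?_
    rw [conjR_smul, hEP]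
  -- s ≥ 2
  have hs2 : 2 ≤ s := by
    by_contra hlt
    have hs01 : s = 0 ∨ s = 1 := by omega
    rcases hs01 with h0 | h1'
    · subst h0
      have hcard := Fintype.card_congr e₁
      simp at hcard
      omega
    · subst h1'
      exact hfam.ns i₀ (scalar_of_tensor_one e₁ P₁ h2)
  refine ⟨s, e, P, hs2, hslot_mem, hslot_of, ?_⟩
  intro h hh
  obtain ⟨σ, hσ⟩ := hfam.perm h hh
  apply mem_tensorWreath_of_perm e P h σ
    (fun g₀ hg₀ => mem_tensorWreathStandard_of_perm hr g₀ σ hg₀)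
  intro i A
  have h4 := env_cj h (Nf i) _ (hslot_mem i A)
  rw [hσ i] at h4
  exact hslot_of (σ i) _ h4


/-- G2f: enumerate the (finitely many) distinct `H`-conjugates of `M`. -/
theorem cfam_of_conjugates' {M : Subgroup (GL (Fin n) F)} (hMN : M ≠ N)
    (hsup : (⨆ h : H, cj (h : GL (Fin n) F) M) = N)
    (hmns : ∀ h ∈ H, MinNS N (cj h M))
    (hcomm : ∀ h₁ ∈ H, ∀ h₂ ∈ H, cj h₁ M ≠ cj h₂ M →
      ∀ x ∈ cj h₁ M, ∀ y ∈ cj h₂ M, x * y = y * x) :
    ∃ (r : ℕ) (Nf : Fin r → Subgroup (GL (Fin n) F)), CFam H N r Nf ∧ ∀ i, ∃ h ∈ H, Nf i = cj h M := by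
  classical
  let C : Set (Subgroup (GL (Fin n) F)) := Set.range (fun h : H => cj (h : GL (Fin n) F) M)
  have hCfin : Finite C := (Set.finite_range _).to_subtype
  let e : C ≃ Fin (Nat.card C) := Finite.equivFin C
  let Nf : Fin (Nat.card C) → Subgroup (GL (Fin n) F) := fun i => ((e.symm i : C) : Subgroup (GL (Fin n) F))
  have hNfinj : Function.Injective Nf := by
    intro i j hij
    have : (e.symm i : C) = e.symm j := Subtype.ext hij
    exact e.symm.injective this
  have ha : ∀ i, ∃ h ∈ H, Nf i = cj h M := by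
    intro i
    obtain ⟨h, hh⟩ := (e.symm i).2
    exact ⟨h, h.2, hh.symm⟩
  have hb : ∀ h ∈ H, ∃ i, Nf i = cj h M := by
    intro h hh
    refine ⟨e ⟨cj h M, ⟨⟨h, hh⟩, rfl⟩⟩, ?_⟩
    change ((e.symm (e ⟨cj h M, _⟩) : C) : Subgroup (GL (Fin n) F)) = cj h M
    rw [Equiv.symm_apply_apply]
  refine ⟨Nat.card C, Nf, ⟨?_, ?_, ?_, ?_, ?_, ?_, ?_, ?_⟩, ha⟩
  · -- two_le
    by_contra hlt
    push Not at hlt
    have hsub : Subsingleton C := by
      rw [← Finite.card_le_one_iff_subsingleton]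
      omega
    have hconst : ∀ h : H, cj (h : GL (Fin n) F) M = M := by
      intro h
      have h1 : (⟨cj (h : GL (Fin n) F) M, ⟨h, rfl⟩⟩ : C) = ⟨cj (1 : GL (Fin n) F) M, ⟨⟨1, H.one_mem⟩, rfl⟩⟩ :=
        Subsingleton.elim _ _
      have h2 := congrArg (fun X : C => (X : Subgroup (GL (Fin n) F))) h1
      simpa [cj_one] using h2
    apply hMN
    rw [← hsup]
    apply le_antisymm
    · have := le_iSup (fun h : H => cj (h : GL (Fin n) F) M) ⟨1, H.one_mem⟩
      simpa [cj_one] using this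
    · apply iSup_le
      intro h
      rw [hconst h]
  · -- le
    intro i
    obtain ⟨h, hh, hi⟩ := ha i
    rw [hi]
    exact (hmns h hh).1
  · -- ns
    intro i
    obtain ⟨h, hh, hi⟩ := ha i
    rw [hi]
    exact (hmns h hh).2.2.1
  · -- comm
    intro i j hij x hx y hy
    obtain ⟨h₁, hh₁, hi⟩ := ha i
    obtain ⟨h₂, hh₂, hj⟩ := ha j
    have hne : cj h₁ M ≠ cj h₂ M := by
      intro heq
      apply hij
      apply hNfinj
      rw [hi, hj, heq]
    rw [hi] at hx
    rw [hj] at hy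
    exact hcomm h₁ hh₁ h₂ hh₂ hne x hx y hy
  · -- sup
    rw [← hsup]
    apply le_antisymm
    · apply iSup_le
      intro i
      obtain ⟨h, hh, hi⟩ := ha i
      rw [hi]
      exact le_iSup (fun h : H => cj (h : GL (Fin n) F) M) ⟨h, hh⟩
    · apply iSup_le
      intro h
      obtain ⟨i, hi⟩ := hb h h.2
      rw [← hi]
      exact le_iSup Nf i
  · -- normN
    intro i
    obtain ⟨h, hh, hi⟩ := ha i
    rw [hi]
    exact (hmns h hh).2.1
  · -- perm
    intro g hg
    have hmemC : ∀ (g' : GL (Fin n) F), g' ∈ H → ∀ X : C, cj g' (X : Subgroup (GL (Fin n) F)) ∈ C := by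
      intro g' hg' X
      obtain ⟨h, hh⟩ := X.2
      refine ⟨⟨g' * h, H.mul_mem hg' h.2⟩, ?_⟩
      change cj (g' * (h : GL (Fin n) F)) M = cj g' X
      rw [← hh, cj_cj]
    let f : Equiv.Perm C :=
      { toFun := fun X => ⟨cj g X, hmemC g hg X⟩
        invFun := fun X => ⟨cj g⁻¹ X, hmemC g⁻¹ (H.inv_mem hg) X⟩
        left_inv := fun X => Subtype.ext (cj_inv_cj g X)
        right_inv := fun X => Subtype.ext (cj_cj_inv g X) }
    refine ⟨(e.symm.trans f).trans e, ?_⟩
    intro i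
    change cj g (Nf i) = ((e.symm (e (f (e.symm i))) : C) : Subgroup (GL (Fin n) F))
    rw [Equiv.symm_apply_apply]
    rfl
  · -- trans
    intro i j
    obtain ⟨h₁, hh₁, hi⟩ := ha i
    obtain ⟨h₂, hh₂, hj⟩ := ha j
    refine ⟨h₂ * h₁⁻¹, H.mul_mem hh₂ (H.inv_mem hh₁), ?_⟩
    rw [hi, hj, cj_cj, inv_mul_cancel_right]


/-- (D3) the commuting family, with perfect factors -/
theorem cfam_exists' {M : Subgroup (GL (Fin n) F)} (hnorm : NormBy H N) (hns : ¬ N ≤ scalars (Fin n) F)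
    (hmin : ∀ M : Subgroup (GL (Fin n) F), M ≤ N → NormBy H M → M = N ∨ M ≤ scalars (Fin n) F)
    (hperf : ⁅N, N⁆ = N) (hM : MinNS N M) (hMN : M ≠ N) :
    ∃ (t : ℕ) (Nf : Fin t → Subgroup (GL (Fin n) F)), CFam H N t Nf ∧ ∀ i, ⁅Nf i, Nf i⁆ = Nf i := by
  have hsup := iSup_cj_eq hnorm hmin hM
  have hmns : ∀ h ∈ H, MinNS N (cj h M) := fun h hh => minNS_cj hnorm h hh hM
  have hperfM : ∀ h ∈ H, ⁅cj h M, cj h M⁆ = cj h M := by
    intro h hh
    have hsup' : (⨆ h' : H, cj (h' : GL (Fin n) F) (cj h M)) = N :=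
      iSup_cj_eq hnorm hmin (hmns h hh)
    refine minNS_perfect hns hperf (hmns h hh) hsup' ?_
    intro h₁ hh₁ h₂ hh₂ hne
    exact minNS_comm_mod (minNS_cj hnorm h₁ hh₁ (hmns h hh)) (minNS_cj hnorm h₂ hh₂ (hmns h hh)) hne
  obtain ⟨t, Nf, hfam, hconj⟩ := cfam_of_conjugates' hMN hsup hmns (by
    intro h₁ hh₁ h₂ hh₂ hne
    exact commute_of_comm_mod (hperfM h₂ hh₂) (minNS_comm_mod (hmns h₁ hh₁) (hmns h₂ hh₂) hne))
  refine ⟨t, Nf, hfam, fun i => ?_⟩
  obtain ⟨h, hh, hi⟩ := hconj i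
  rw [hi]
  exact hperfM h hh

end Cfsg.Agent.Lib.Helper29.SpPrfLeaf
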