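import Mathlib
import Cfsg.Agent.Lib.Helper29.SpPrfC
import Cfsg.Agent.Lib.Helper23.SpPrfB5

/-!
S5662 block [PRF]: leaf (C1) `exit_even`, EXACT signature of `notes/S5662_PRF_leaves.lean`
(core `exit_even_core` of `Helper29.SpPrfC` + helper23's (B6), (B7)).
-/

set_option autoImplicit false
set_option linter.unusedSectionVars false
set_option linter.unusedVariables false

namespace Cfsg.Agent.Lib.Helper29.SpPrfLeaf
open Matrix Cfsg Cfsg.Geo Cfsg.Agent.Lib.Helper20.Asch Cfsg.Agent.Lib.Helper29.SpAsch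
  Cfsg.Agent.Lib.Helper18.AschA89
open scoped Kronecker

variable {F : Type*} [Field F] [Fintype F] {n m : ℕ} {J : Matrix (Fin n) (Fin n) F}
  {H N : Subgroup (GL (Fin n) F)}

/-- (C1) [L] EVEN `q`: C8. -/
theorem exit_even (h : SpCtx J m H) (heven : ¬ Odd (Fintype.card F)) {s t : ℕ} (ht : 2 ≤ t)
    (e : Fin n ≃ (Fin t → Fin s)) (P : GL (Fin n) F) (c : F) (hc : c ≠ 0)
    (G₀ : Matrix (Fin s) (Fin s) F) (hsym : G₀ᵀ = G₀) (hdiag : ∀ j, G₀ j j = 0)
    (hgram : gramT e P J = c • ptens s t (fun _ => G₀))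
    (hHW : H ≤ tensorWreathSubgroup s t e P) : SGeo J m H :=
  exit_even_core h heven ht e P c hc G₀ hsym hdiag hgram hHW
    (fun g hg v => Cfsg.Agent.Lib.Helper23.SpPrfLeaf.wreath_mapsTo_dec e P g hg v)
    (Cfsg.Agent.Lib.Helper23.SpPrfLeaf.span_tvec_pvec e P)

end Cfsg.Agent.Lib.Helper29.SpPrfLeaf
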