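import Mathlib
import Cfsg.Agent.Lib.Helper29.SpPrfDefs
import Cfsg.Agent.Lib.Helper20.AschA89Main
import Cfsg.Agent.Lib.Helper17.SpAschQ0
import Cfsg.Agent.Lib.Helper17.SpAschZ
import Cfsg.Agent.Lib.Helper28.SLMP7core
import Cfsg.Agent.Lib.Helper29.SpPrfD
import Cfsg.Agent.Lib.Helper29.SpPrfC
import Cfsg.Agent.Lib.Helper29.SpPrfC1
import Cfsg.Agent.Lib.Helper26.SpPrfA56
import Cfsg.Agent.Lib.Helper26.SpPrfA7E3
import Cfsg.Agent.Lib.Helper6.SpPrfC3
import Cfsg.Agent.Lib.Helper7.SpPrfE0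
import Cfsg.Agent.Lib.Helper6.SpPrfE12

/-!
S5662 (Aschbacher for `Sp_2m(F)`), block **[PRF]** `sgeo_or_simple` (the perfect case): the assembly of
`notes/S5662_PRF_leaves.lean` on the landed leaves (helper19 A1-A4 A8 A9, helper26 A5-A7 E3, helper23 B1 B4-B7,
helper6 C3 C3' E1 E2, helper7 E0, helper29 B2 B3 C1 C2 D1-D3).
-/

set_option autoImplicit false
set_option linter.unusedSectionVars false
set_option linter.unusedVariables false

namespace Cfsg.Agent.Lib.Helper29.SpPrfLeaf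
open Matrix Cfsg Cfsg.Geo Cfsg.Agent.Lib.Helper20.Asch Cfsg.Agent.Lib.Helper29.SpAsch
  Cfsg.Agent.Lib.Helper18.AschA89
open scoped Kronecker

variable {F : Type*} [Field F] [Fintype F] {n m : ℕ} {J : Matrix (Fin n) (Fin n) F}
  {H N : Subgroup (GL (Fin n) F)}

/-! ## assembly -/

/-- the factors of a commuting family of perfect groups are pairwise distinct -/
theorem cfam_injective {t : ℕ} {Nf : Fin t → Subgroup (GL (Fin n) F)} (hfam : CFam H N t Nf)
    (hperf : ∀ i, ⁅Nf i, Nf i⁆ = Nf i) : Function.Injective Nf := by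
  intro a b hab
  by_contra hne
  apply hfam.ns a
  have hcomm : ⁅Nf a, Nf a⁆ = ⊥ := by
    rw [Subgroup.commutator_eq_bot_iff_le_centralizer]
    intro x hx y hy
    have hy' : y ∈ Nf b := by rw [← hab]; exact hy
    exact (hfam.comm a b hne y hy x (hab ▸ hx)).symm ▸ (by
      have := hfam.comm a b hne y hy x (hab ▸ hx)
      exact this.symm ▸ rfl)
  rw [hperf a] at hcomm
  rw [hcomm]
  exact bot_le

/-- the core: from the wreath data to a class -/
theorem sgeo_of_wreath_data (h : SpCtx J m H) {t s : ℕ} {Nf : Fin t → Subgroup (GL (Fin n) F)}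
    (hfam : CFam H N t Nf) (hN : N ≤ H) (hperf : ∀ i, ⁅Nf i, Nf i⁆ = Nf i) (hs : 2 ≤ s)
    (e : Fin n ≃ (Fin t → Fin s)) (P : GL (Fin n) F)
    (hmem : ∀ i, ∀ A : Matrix (Fin s) (Fin s) F, conjR e P (slot s t i A) ∈ Env (Nf i))
    (hof : ∀ i, ∀ T ∈ Env (Nf i), ∃ A : Matrix (Fin s) (Fin s) F, T = conjR e P (slot s t i A))
    (hHW : H ≤ tensorWreathSubgroup s t e P) : SGeo J m H := by
  have ht2 := hfam.two_le
  have hs0 : 0 < s := by omega
  have hNfJ : ∀ i, Nf i ≤ isoG J := fun i => ((hfam.le i).trans hN).trans h.le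
  obtain ⟨c, G, hc, hG, hgram⟩ := Cfsg.Agent.Lib.Helper7.SpPrfLeaf.exists_gram_ptens h.alt hs0 hNfJ e P hmem hof
    (fun G' hG' hadj hinv => Cfsg.Agent.Lib.Helper26.SpPrfLeaf.gram_ptens_of_adj hs0 G' hG' hadj hinv)
  have hinj := cfam_injective hfam hperf
  have hact : ∀ i j : Fin t, ∃ g ∈ H, ∃ σ : Equiv.Perm (Fin t), σ i = j ∧
      ∀ k, ∀ A : Matrix (Fin s) (Fin s) F, ∃ A' : Matrix (Fin s) (Fin s) F,
        (g : Matrix (Fin n) (Fin n) F) * conjR e P (slot s t k A) *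
          ((g⁻¹ : GL (Fin n) F) : Matrix (Fin n) (Fin n) F) = conjR e P (slot s t (σ k) A') := by
    intro i j
    obtain ⟨g, hg, hgij⟩ := hfam.trans i j
    obtain ⟨σ, hσ⟩ := hfam.perm g hg
    refine ⟨g, hg, σ, hinj ((hσ i).symm.trans hgij), ?_⟩
    intro k A
    have h4 := Cfsg.Agent.Lib.Helper28.AschLeaf.env_cj g (Nf k) _ (hmem k A)
    rw [hσ k] at h4
    exact hof (σ k) _ h4
  obtain ⟨i₀, hi₀⟩ : ∃ i₀ : Fin t, i₀ = ⟨0, by omega⟩ := ⟨_, rfl⟩
  have hcong := Cfsg.Agent.Lib.Helper6.SpPrfLeaf.all_congruent h.le hs0 e P c hc G hG hgram hact i₀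
  obtain ⟨P', c', hc', hgram', hW'⟩ := Cfsg.Agent.Lib.Helper6.SpPrfLeaf.normalise e P c hc G hgram (G i₀) hcong
  have hHW' : H ≤ tensorWreathSubgroup s t e P' := by rw [hW']; exact hHW
  have hG₀ne : G i₀ ≠ 0 := by
    intro h0
    have hdet := (hG i₀).ne_zero
    rw [h0] at hdet
    have : Nonempty (Fin s) := ⟨⟨0, hs0⟩⟩
    exact hdet Matrix.det_zero
  have halt' := isAltGram_gramT h.alt e P'
  obtain ⟨ε, hε, hε2, hεt⟩ := Cfsg.Agent.Lib.Helper26.SpPrfLeaf.symm_type (by omega) c' hc' (G i₀) hG₀ne (gramT e P' J) halt'.skew hgram'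
  by_cases hodd : Odd (Fintype.card F)
  · have h2 := Cfsg.Agent.Lib.Helper17.SpAschLeaf.two_ne_zero_of_odd hodd
    have hε1 : ε = -1 := by
      have h3 : (ε - 1) * (ε + 1) = 0 := by linear_combination hε2
      rcases mul_eq_zero.mp h3 with h1 | h1
      · exfalso
        have h4 : ε = 1 := by linear_combination h1
        rw [h4, one_pow] at hεt
        apply h2
        linear_combination hεt
      · linear_combination h1
    have htodd : Odd t := by
      by_contra hne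
      rw [Nat.not_odd_iff_even] at hne
      rw [hε1, hne.neg_one_pow] at hεt
      apply h2
      linear_combination hεt
    have ht3 : 3 ≤ t := by
      obtain ⟨k, hk⟩ := htodd
      omega
    have hskew : (G i₀)ᵀ = -G i₀ := by rw [hε, hε1, neg_one_smul]
    have hG₀alt : IsAltGram (G i₀) := by
      refine ⟨hskew, ?_, (hG i₀).ne_zero⟩
      intro j
      have h5 := congrFun (congrFun hskew j) j
      rw [Matrix.transpose_apply, Matrix.neg_apply] at h5
      have h6 : (2 : F) * G i₀ j j = 0 := by linear_combination h5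
      exact (mul_eq_zero.mp h6).resolve_left h2
    have hex : ¬ (Fintype.card F = 3 ∧ s = 2) := by
      rintro ⟨hF3, rfl⟩
      exact hfam.ns i₀ (Cfsg.Agent.Lib.Helper6.SpPrfLeaf.scalar_of_perfect_slot hF3 e P i₀ (Nf i₀) (hperf i₀) (hof i₀)
        (fun R hR => Cfsg.Agent.Lib.Helper6.SpPrfLeaf.perfect_gl2_f3 hF3 R hR))
    exact exit_odd h hodd htodd ht3 hex e P' c' hc' (G i₀) hG₀alt hgram' hHW'
  · have h2 := Cfsg.Agent.Lib.Helper17.SpAschLeaf.two_eq_zero_of_not_odd (F := F) hodd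
    have hε1 : ε = 1 := by
      have h3 : (ε - 1) * (ε - 1) = 0 := by linear_combination hε2 - (ε - 1) * h2
      have h4 := mul_self_eq_zero.mp h3
      linear_combination h4
    have hsym : (G i₀)ᵀ = G i₀ := by rw [hε, hε1, one_smul]
    have hdiag : ∀ j, G i₀ j j = 0 := by
      intro j
      have h5 := halt'.diag (fun _ => j)
      rw [hgram', Matrix.smul_apply, ptens_apply, Finset.prod_const, smul_eq_mul] at h5
      exact pow_eq_zero_iff (by simp; omega) |>.mp ((mul_eq_zero.mp h5).resolve_left hc')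
    exact exit_even h hodd ht2 e P' c' hc' (G i₀) hsym hdiag hgram' hHW'

/-- a proper non-scalar `N`-normal subgroup of `N` forces a class -/
theorem core' (h : SpCtx J m H) (hqp : QP H) (hN : N ≤ H) (hnorm : NormBy H N)
    (hns : ¬ N ≤ scalars (Fin n) F)
    (hmin : ∀ M : Subgroup (GL (Fin n) F), M ≤ N → NormBy H M → M = N ∨ M ≤ scalars (Fin n) F)
    (hperf : ⁅N, N⁆ = N) (K : Subgroup (GL (Fin n) F)) (hK : K ≤ N) (hKn : NormBy N K)
    (hKs : ¬ K ≤ scalars (Fin n) F) (hKN : K ≠ N) : SGeo J m H := by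
  have hn3 : 3 ≤ n := by have := h.dim; have := h.two_le; omega
  obtain ⟨M, hMK, hM⟩ := Cfsg.Agent.Lib.Helper14.AschLeaf.exists_minNS_le K hK hKn hKs
  have hMN : M ≠ N := by
    rintro rfl
    exact hKN (le_antisymm hK hMK)
  obtain ⟨t, Nf, hfam, hperfNf⟩ := cfam_exists' hnorm hns hmin hperf hM hMN
  have habs : AbsIrr N := (hqp N hN hnorm).resolve_left hns
  obtain ⟨s, e, P, hs, hmem, hof, hHW⟩ := wreath_data_of_cfam hn3 hfam habs
  exact sgeo_of_wreath_data h hfam hN hperfNf hs e P hmem hof hHW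

/-- [PRF] core of the block theorem -/
theorem sgeo_or_simple_prf (h : SpCtx J m H) (hirr : Irr H) (hqp : QP H) (hN : N ≤ H)
    (hnorm : NormBy H N) (hns : ¬ N ≤ scalars (Fin n) F)
    (hmin : ∀ M : Subgroup (GL (Fin n) F), M ≤ N → NormBy H M → M = N ∨ M ≤ scalars (Fin n) F)
    (hperf : ⁅N, N⁆ = N) :
    SGeo J m H ∨ IsSimpleGroup (N ⧸ (scalars (Fin n) F).subgroupOf N) :=
  simple_of_core' hns fun K hK hKn hKs hKN =>
    core' h hqp hN hnorm hns hmin hperf K hK hKn hKs hKN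

end Cfsg.Agent.Lib.Helper29.SpPrfLeaf

namespace Cfsg.Agent.Lib.Helper29.SpAschLeaf
open Matrix Cfsg Cfsg.Geo Cfsg.Agent.Lib.Helper20.Asch Cfsg.Agent.Lib.Helper29.SpAsch
open scoped Kronecker

variable {F : Type*} [Field F] [Fintype F] {n m : ℕ} {J : Matrix (Fin n) (Fin n) F}
  {H N : Subgroup (GL (Fin n) F)}

/-- [PRF] THE PERFECT CASE: `N = N_1 ∘ ⋯ ∘ N_t`, `t ≥ 2`: C7 (`q` odd) or C8 (`q` even); `t = 1`: `N` simple modulo scalars.
EXACT signature of `notes/S5662_leaves.lean`. -/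
theorem sgeo_or_simple (h : SpCtx J m H) (hirr : Irr H) (hqp : QP H) (hN : N ≤ H)
    (hnorm : NormBy H N) (hns : ¬ N ≤ scalars (Fin n) F)
    (hmin : ∀ M : Subgroup (GL (Fin n) F), M ≤ N → NormBy H M → M = N ∨ M ≤ scalars (Fin n) F)
    (hperf : ⁅N, N⁆ = N) :
    SGeo J m H ∨ IsSimpleGroup (N ⧸ (scalars (Fin n) F).subgroupOf N) :=
  Cfsg.Agent.Lib.Helper29.SpPrfLeaf.sgeo_or_simple_prf h hirr hqp hN hnorm hns hmin hperf

end Cfsg.Agent.Lib.Helper29.SpAschLeaf
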