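import Mathlib
import Cfsg.Agent.Lib.Helper17.OSubDefs

/-!
# S5659 (helper17's market), leaves A4, A5, A6 (helper29)

Commutators of Siegel elements with a common centre, change of `y` by a skew multiple of the centre,
and products / inverses / uniqueness of unitary transvections with a common centre.
-/

set_option autoImplicit false
set_option linter.unusedSectionVars false
set_option linter.unusedVariables false
set_option linter.unusedSimpArgs false

namespace Cfsg.Agent.Lib.Helper29.OSubLeaf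
open Cfsg Matrix Cfsg.Agent.Lib.Helper5.SpMax
  Cfsg.Agent.Lib.Helper5.UForm Cfsg.Agent.Lib.Helper5.HermBridge
  Cfsg.Agent.Lib.Helper5.SUGen Cfsg.Agent.Lib.Helper5.SUMax Cfsg.Agent.Lib.Helper5.USub
  Cfsg.Agent.Lib.Helper17.OSub

variable {F : Type*} [Field F] [Fintype F] {q n : ℕ}

/-- Siegel elements preserve `h(·, z)`. -/
theorem siegel_form_center (hF : Fintype.card F = q ^ 2) {g : GL (Fin n) F} {z y : Fin n → F}
    (hzz : Cfsg.hermForm n F q z z = 0) (hyz : Cfsg.hermForm n F q y z = 0)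
    (hg : IsSiegel q g z y) (x : Fin n → F) :
    Cfsg.hermForm n F q ((g : Matrix (Fin n) (Fin n) F) *ᵥ x) z = Cfsg.hermForm n F q x z := by
  have hf := herm_unitary (n := n) hF
  rw [hg x, u_sub_left hf, hf.add_left, hf.smul_left, hf.smul_left, hzz, hyz]
  ring

/-- transvections with isotropic centre preserve `h(·, z)`. -/
theorem tv_form_center (hF : Fintype.card F = q ^ 2) {t : GL (Fin n) F} {z : Fin n → F} {c : F}
    (hzz : Cfsg.hermForm n F q z z = 0) (ht : IsTv q t z c) (x : Fin n → F) :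
    Cfsg.hermForm n F q ((t : Matrix (Fin n) (Fin n) F) *ᵥ x) z = Cfsg.hermForm n F q x z := by
  have hf := herm_unitary (n := n) hF
  rw [ht x, hf.add_left, hf.smul_left, hzz]
  ring

/-- LEAF A4: the commutator of two Siegel elements with the same centre is a transvection. -/
theorem siegel_comm (hF : Fintype.card F = q ^ 2) (h2 : (2 : F) ≠ 0) {g₁ g₂ : GL (Fin n) F}
    {z y y' : Fin n → F} (hzz : Cfsg.hermForm n F q z z = 0)
    (hyz : Cfsg.hermForm n F q y z = 0) (hy'z : Cfsg.hermForm n F q y' z = 0)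
    (h₁ : IsSiegel q g₁ z y) (h₂ : IsSiegel q g₂ z y') :
    IsTv q (g₁ * g₂ * g₁⁻¹ * g₂⁻¹) z
      (Cfsg.hermForm n F q y y' - Cfsg.hermForm n F q y' y) := by
  have hf := herm_unitary (n := n) hF
  have hzy : Cfsg.hermForm n F q z y = 0 := u_symm_zero hf hyz
  have hzy' : Cfsg.hermForm n F q z y' = 0 := u_symm_zero hf hy'z
  have key : ∀ v : Fin n → F,
      (g₁ : Matrix (Fin n) (Fin n) F) *ᵥ ((g₂ : Matrix (Fin n) (Fin n) F) *ᵥ v) =
        (g₂ : Matrix (Fin n) (Fin n) F) *ᵥ ((g₁ : Matrix (Fin n) (Fin n) F) *ᵥ v) +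
          ((Cfsg.hermForm n F q y y' - Cfsg.hermForm n F q y' y) *
            Cfsg.hermForm n F q v z) • z := by
    intro v
    rw [h₁ ((g₂ : Matrix (Fin n) (Fin n) F) *ᵥ v), h₂ ((g₁ : Matrix (Fin n) (Fin n) F) *ᵥ v),
      siegel_form_center hF hzz hy'z h₂, siegel_form_center hF hzz hyz h₁, h₁ v, h₂ v]
    simp only [u_sub_left hf, hf.add_left, hf.smul_left, hzy, hzy', hzz, hyz, hy'z, mul_zero,
      add_zero, sub_zero]
    module
  intro x
  rw [Units.val_mul, Units.val_mul, Units.val_mul, ← Matrix.mulVec_mulVec, ← Matrix.mulVec_mulVec,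
    ← Matrix.mulVec_mulVec, key, mul_inv_mulVec, mul_inv_mulVec]
  congr 2
  rw [← siegel_form_center hF hzz hyz h₁, mul_inv_mulVec,
    ← siegel_form_center hF hzz hy'z h₂, mul_inv_mulVec]

/-- LEAF A5: changing `y` by a skew multiple of the centre changes the Siegel element by a
transvection. -/
theorem siegel_add_center (hF : Fintype.card F = q ^ 2) (h2 : (2 : F) ≠ 0)
    {g₁ g₂ : GL (Fin n) F} {z y : Fin n → F} {ε : F}
    (hzz : Cfsg.hermForm n F q z z = 0) (hyz : Cfsg.hermForm n F q y z = 0)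
    (hε : frobQ hF ε = -ε) (h₁ : IsSiegel q g₁ z (y + ε • z)) (h₂ : IsSiegel q g₂ z y) :
    IsTv q (g₁ * g₂⁻¹) z (2 * ε) := by
  have hf := herm_unitary (n := n) hF
  have hzy : Cfsg.hermForm n F q z y = 0 := u_symm_zero hf hyz
  have key : ∀ v : Fin n → F,
      (g₁ : Matrix (Fin n) (Fin n) F) *ᵥ v =
        (g₂ : Matrix (Fin n) (Fin n) F) *ᵥ v + ((2 * ε) * Cfsg.hermForm n F q v z) • z := by
    intro v
    rw [h₁ v, h₂ v]
    simp only [u_add_right hf, u_smul_right hf, hf.add_left, hf.smul_left, hε, hzy, hzz, hyz,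
      mul_zero, add_zero, zero_add]
    module
  intro x
  rw [Units.val_mul, ← Matrix.mulVec_mulVec, key, mul_inv_mulVec]
  congr 2
  rw [← siegel_form_center hF hzz hyz h₂, mul_inv_mulVec]

/-- LEAF A6: products / inverses / uniqueness of transvections with the same centre. -/
theorem tv_mul (hF : Fintype.card F = q ^ 2) {t₁ t₂ : GL (Fin n) F} {z : Fin n → F} {c₁ c₂ : F}
    (hzz : Cfsg.hermForm n F q z z = 0) (h₁ : IsTv q t₁ z c₁) (h₂ : IsTv q t₂ z c₂) :
    IsTv q (t₁ * t₂) z (c₁ + c₂) := by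
  intro x
  rw [Units.val_mul, ← Matrix.mulVec_mulVec, h₁, tv_form_center hF hzz h₂, h₂ x]
  module

theorem tv_inv (hF : Fintype.card F = q ^ 2) {t : GL (Fin n) F} {z : Fin n → F} {c : F}
    (hzz : Cfsg.hermForm n F q z z = 0) (h : IsTv q t z c) : IsTv q t⁻¹ z (-c) := by
  intro x
  have h1 := h (((t⁻¹ : GL (Fin n) F) : Matrix (Fin n) (Fin n) F) *ᵥ x)
  have h2 := tv_form_center hF hzz h (((t⁻¹ : GL (Fin n) F) : Matrix (Fin n) (Fin n) F) *ᵥ x)
  rw [mul_inv_mulVec] at h1 h2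
  rw [← h2] at h1
  have h3 : ((t⁻¹ : GL (Fin n) F) : Matrix (Fin n) (Fin n) F) *ᵥ x =
      x - (c * Cfsg.hermForm n F q x z) • z := by
    rw [eq_sub_iff_add_eq]
    exact h1.symm
  rw [h3]
  module

theorem tv_unique {t₁ t₂ : GL (Fin n) F} {z : Fin n → F} {c : F}
    (h₁ : IsTv q t₁ z c) (h₂ : IsTv q t₂ z c) : t₁ = t₂ := by
  apply Units.ext
  apply mat_eq_of_mulVec
  intro v
  rw [h₁ v, h₂ v]

end Cfsg.Agent.Lib.Helper29.OSubLeaf
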