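import Mathlib
import Cfsg.Agent.Lib.Helper2.SOTDefs
import Cfsg.Agent.Lib.Helper27.SOTLADefs
import Cfsg.Agent.Lib.Helper13.OTUCalc
import Cfsg.Agent.Lib.Helper13.OTLADefs
import Cfsg.Agent.Lib.Helper29.OTLAC0

/-!
S5681 + S5709 part (LA'), wave 2, block R2: `stabR_inv` (R2-1), `blk_levi` (R2-3a), `levi_mul_levi` (R2-4a),
`UL_mul_levi` (R2-4b), `levi_eq_kron` (R2-9).
-/

set_option autoImplicit false
set_option linter.unusedSectionVars false
set_option linter.unusedVariables false

namespace Cfsg.Agent.Lib.Helper29.OTLALeaf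
open Matrix
open Cfsg.Agent.Lib.Helper25.Tens Cfsg.Agent.Lib.Helper19.OSub
open Cfsg.Agent.Lib.Helper2.SOT Cfsg.Agent.Lib.Helper27.SOTLA Cfsg.Agent.Lib.Helper13.OTU
open Cfsg.Agent.Lib.Helper13.OTLA
open scoped Kronecker

variable {F : Type*} [Field F] [Fintype F] {a b : ℕ} {G₁ : Matrix (Fin a) (Fin a) F}
  {G₂ : Matrix (Fin b) (Fin b) F} {o o' p p' : Fin b} {Om M : Subgroup (GL (Idx a b) F)}

/-- the subspace `R = A ⊗ L` -/
def subR (a : ℕ) {b : ℕ} (F : Type*) [Field F] (o o' : Fin b) : Submodule F (Idx a b → F) where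
  carrier := {v | ∀ (i : Fin a) (k : Fin b), k ≠ o → k ≠ o' → v (i, k) = 0}
  add_mem' := by
    intro v w hv hw i k h1 h2
    rw [Pi.add_apply, hv i k h1 h2, hw i k h1 h2, add_zero]
  zero_mem' := fun _ _ _ _ => rfl
  smul_mem' := by
    intro c v hv i k h1 h2
    rw [Pi.smul_apply, hv i k h1 h2, smul_zero]

lemma stabR_maps (X : Matrix (Idx a b) (Idx a b) F) (hst : StabR o o' X) :
    ∀ v ∈ subR a F o o', X *ᵥ v ∈ subR a F o o' := by
  intro v hv i k h1 h2
  show ∑ y, X (i, k) y * v y = 0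
  apply Finset.sum_eq_zero
  rintro ⟨i', l⟩ _
  by_cases hl : l = o ∨ l = o'
  · have := congrFun (congrFun (hst k l hl h1 h2) i) i'
    have e : X (i, k) (i', l) = 0 := this
    rw [e, zero_mul]
  · rw [hv i' l (fun h => hl (Or.inl h)) (fun h => hl (Or.inr h)), mul_zero]

lemma stabR_of_maps (X : Matrix (Idx a b) (Idx a b) F)
    (h : ∀ v ∈ subR a F o o', X *ᵥ v ∈ subR a F o o') : StabR o o' X := by
  intro k l hl h1 h2
  ext i i'
  have hmem : (Pi.single (i', l) (1 : F) : Idx a b → F) ∈ subR a F o o' := by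
    intro i'' k' hk1 hk2
    rw [Pi.single_apply, if_neg]
    intro he
    have : k' = l := congrArg Prod.snd he
    rcases hl with hl | hl
    · exact hk1 (this.trans hl)
    · exact hk2 (this.trans hl)
  have := h _ hmem i k h1 h2
  rw [Matrix.mulVec_single_one] at this
  exact this

/-- (R2-1) an invertible matrix mapping `R = A ⊗ L` into itself maps it ONTO itself -/
theorem stabR_inv (g : GL (Idx a b) F) (hst : StabR o o' g.1) : StabR o o' g⁻¹.1 := by
  apply stabR_of_maps
  have hmaps := stabR_maps g.1 hst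
  -- the restriction of `g` to `R`
  let φ : (subR a F o o') →ₗ[F] (subR a F o o') :=
    LinearMap.restrict (Matrix.toLin' g.1) (fun v hv => by
      rw [Matrix.toLin'_apply]; exact hmaps v hv)
  have hinv : g⁻¹.1 * g.1 = 1 := by rw [← Units.val_mul, inv_mul_cancel, Units.val_one]
  have hφinj : Function.Injective φ := by
    intro v w hvw
    have h1 : g.1 *ᵥ (v : Idx a b → F) = g.1 *ᵥ (w : Idx a b → F) := by
      have := congrArg Subtype.val hvw
      simpa [φ, LinearMap.restrict_apply, Matrix.toLin'_apply] using this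
    have h2 := congrArg (fun u => g⁻¹.1 *ᵥ u) h1
    simp only [Matrix.mulVec_mulVec, hinv, Matrix.one_mulVec] at h2
    exact Subtype.ext h2
  have hφsurj : Function.Surjective φ := LinearMap.surjective_of_injective hφinj
  intro w hw
  obtain ⟨v, hv⟩ := hφsurj ⟨w, hw⟩
  have h1 : g.1 *ᵥ (v : Idx a b → F) = w := by
    have := congrArg Subtype.val hv
    simpa [φ, LinearMap.restrict_apply, Matrix.toLin'_apply] using this
  rw [← h1, Matrix.mulVec_mulVec, hinv, Matrix.one_mulVec]
  exact v.2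

/-- (R2-3a) -/
theorem blk_levi (X : Matrix (Idx a b) (Idx a b) F) (k l : Fin b) :
    blk (levi o o' p p' X) k l = if cls o o' p p' k = cls o o' p p' l then blk X k l else 0 := by
  by_cases h : cls o o' p p' k = cls o o' p p' l
  · rw [if_pos h]
    ext i i'
    unfold blk levi
    simp only [Matrix.of_apply]
    rw [if_pos h]
  · rw [if_neg h]
    ext i i'
    unfold blk levi
    simp only [Matrix.of_apply]
    rw [if_neg h]
    rfl

/-- restricted block sums of `g * g⁻¹` -/
lemma levi_sum_eq {g : GL (Idx a b) F} (hg : BUT o o' p p' g.1) (hg' : BUT o o' p p' g⁻¹.1)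
    (k l : Fin b) (hkl : cls o o' p p' k = cls o o' p p' l) :
    (∑ j, if cls o o' p p' j = cls o o' p p' l then blk g.1 k j * blk g⁻¹.1 j l else 0) =
      if k = l then 1 else 0 := by
  have h1 : g.1 * g⁻¹.1 = 1 := by rw [← Units.val_mul, mul_inv_cancel, Units.val_one]
  rw [← blk_one (a := a) k l, ← h1, blk_mul]
  apply Finset.sum_congr rfl
  intro j _
  by_cases hj : cls o o' p p' j = cls o o' p p' l
  · rw [if_pos hj]
  · rw [if_neg hj]
    rcases Nat.lt_or_gt_of_ne hj with hlt | hgt
    · rw [hg k j (by omega), zero_mul]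
    · rw [hg' j l hgt, mul_zero]

/-- (R2-4a) the Levi parts of `g` and `g⁻¹` are inverse to each other -/
theorem levi_mul_levi {g : GL (Idx a b) F} (hg : BUT o o' p p' g.1) (hg' : BUT o o' p p' g⁻¹.1) :
    levi o o' p p' g.1 * levi o o' p p' g⁻¹.1 = 1 := by
  apply ext_blk
  intro k l
  rw [blk_mul, blk_one]
  by_cases hkl : cls o o' p p' k = cls o o' p p' l
  · rw [← levi_sum_eq hg hg' k l hkl]
    apply Finset.sum_congr rfl
    intro j _
    rw [blk_levi, blk_levi]
    by_cases hj : cls o o' p p' j = cls o o' p p' l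
    · rw [if_pos hj, if_pos hj, if_pos (hkl.trans hj.symm)]
    · rw [if_neg hj, if_neg hj, mul_zero]
  · have hne : k ≠ l := fun h => hkl (by rw [h])
    rw [if_neg hne]
    apply Finset.sum_eq_zero
    intro j _
    rw [blk_levi, blk_levi]
    by_cases hj : cls o o' p p' j = cls o o' p p' l
    · rw [if_neg (fun h => hkl (h.trans hj)), zero_mul]
    · rw [if_neg hj, mul_zero]

/-- (R2-4b) `g · levi(g⁻¹)` has `U`-form. -/
theorem UL_mul_levi (hA : Adp G₂ o o' p p') {g : GL (Idx a b) F} (hg : BUT o o' p p' g.1)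
    (hg' : BUT o o' p p' g⁻¹.1) : UL o o' p p' (g.1 * levi o o' p p' g⁻¹.1) := by
  intro k l hkl
  rw [free_iff_cls hA] at hkl
  rw [blk_mul]
  by_cases hcl : cls o o' p p' k = cls o o' p p' l
  · rw [← levi_sum_eq hg hg' k l hcl]
    apply Finset.sum_congr rfl
    intro j _
    rw [blk_levi]
    by_cases hj : cls o o' p p' j = cls o o' p p' l
    · rw [if_pos hj, if_pos hj]
    · rw [if_neg hj, if_neg hj, mul_zero]
  · have hne : k ≠ l := fun h => hcl (by rw [h])
    rw [if_neg hne]
    apply Finset.sum_eq_zero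
    intro j _
    rw [blk_levi]
    by_cases hj : cls o o' p p' j = cls o o' p p' l
    · rw [hg k j (by omega), zero_mul]
    · rw [if_neg hj, mul_zero]

/-- (R2-9) -/
theorem levi_eq_kron {X : Matrix (Idx a b) (Idx a b) F} (α : Matrix (Fin a) (Fin a) F)
    (hX : ∀ k l : Fin b, cls o o' p p' k = cls o o' p p' l → ∃ c : F, blk X k l = c • α) :
    ∃ β : Matrix (Fin b) (Fin b) F, levi o o' p p' X = α ⊗ₖ β := by
  classical
  refine ⟨Matrix.of fun k l => if h : cls o o' p p' k = cls o o' p p' l then (hX k l h).choose else 0, ?_⟩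
  apply ext_blk
  intro k l
  rw [blk_levi, blk_kron, Matrix.of_apply]
  by_cases h : cls o o' p p' k = cls o o' p p' l
  · rw [if_pos h, dif_pos h]
    exact (hX k l h).choose_spec
  · rw [if_neg h, dif_neg h, zero_smul]

end Cfsg.Agent.Lib.Helper29.OTLALeaf
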