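import Mathlib
import Cfsg.Agent.Lib.Helper2.SOTDefs
import Cfsg.Agent.Lib.Helper27.SOTLADefs
import Cfsg.Agent.Lib.Helper13.OTUCalc
import Cfsg.Agent.Lib.Helper13.OTLADefs
import Cfsg.Agent.Lib.Helper1.SOTLAA7core

/-!
S5681 + S5709 part (LA'), wave 1: packet C7 (`adjB` toolkit).
-/

set_option autoImplicit false
set_option linter.unusedSectionVars false
set_option linter.unusedVariables false

namespace Cfsg.Agent.Lib.Helper29.OTLALeaf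
open Matrix
open Cfsg.Agent.Lib.Helper25.Tens Cfsg.Agent.Lib.Helper19.OSub
open Cfsg.Agent.Lib.Helper2.SOT Cfsg.Agent.Lib.Helper27.SOTLA Cfsg.Agent.Lib.Helper13.OTU
open Cfsg.Agent.Lib.Helper13.OTLA
open scoped Kronecker

variable {F : Type*} [Field F] [Fintype F] {a b : ℕ} {G₁ : Matrix (Fin a) (Fin a) F}
  {G₂ : Matrix (Fin b) (Fin b) F} {o o' p p' : Fin b} {Om M : Subgroup (GL (Idx a b) F)}

/-- (C7) `adjB` toolkit (beyond `Helper1.SOTLAA7core`): `†` is an anti-involution. -/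
theorem adjB_adjB (hs1 : G₁ᵀ = G₁) (hn1 : G₁.det ≠ 0) (σ : Matrix (Fin a) (Fin a) F) :
    adjB G₁ (adjB G₁ σ) = σ := by
  have hu : IsUnit G₁.det := Ne.isUnit hn1
  unfold adjB
  rw [Matrix.transpose_mul, Matrix.transpose_mul, Matrix.transpose_transpose,
    Matrix.transpose_nonsing_inv, hs1]
  calc G₁⁻¹ * (G₁ * (σ * G₁⁻¹)) * G₁ = (G₁⁻¹ * G₁) * σ * (G₁⁻¹ * G₁) := by
        simp only [mul_assoc]
    _ = σ := by rw [Matrix.nonsing_inv_mul _ hu, one_mul, mul_one]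

theorem adjB_mul (hn1 : G₁.det ≠ 0) (σ τ : Matrix (Fin a) (Fin a) F) :
    adjB G₁ (σ * τ) = adjB G₁ τ * adjB G₁ σ := by
  have hu : IsUnit G₁.det := Ne.isUnit hn1
  unfold adjB
  rw [Matrix.transpose_mul]
  calc G₁⁻¹ * (τᵀ * σᵀ) * G₁ = G₁⁻¹ * τᵀ * 1 * σᵀ * G₁ := by
        rw [mul_one]; simp only [mul_assoc]
    _ = G₁⁻¹ * τᵀ * (G₁ * G₁⁻¹) * σᵀ * G₁ := by rw [Matrix.mul_nonsing_inv _ hu]
    _ = G₁⁻¹ * τᵀ * G₁ * (G₁⁻¹ * σᵀ * G₁) := by simp only [mul_assoc]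

theorem adjB_add (σ τ : Matrix (Fin a) (Fin a) F) : adjB G₁ (σ + τ) = adjB G₁ σ + adjB G₁ τ := by
  unfold adjB
  rw [Matrix.transpose_add, Matrix.mul_add, Matrix.add_mul]

theorem adjB_neg (σ : Matrix (Fin a) (Fin a) F) : adjB G₁ (-σ) = -adjB G₁ σ := by
  unfold adjB
  rw [Matrix.transpose_neg, Matrix.mul_neg, Matrix.neg_mul]

theorem adjB_zero : adjB G₁ (0 : Matrix (Fin a) (Fin a) F) = 0 := by
  unfold adjB
  rw [Matrix.transpose_zero, Matrix.mul_zero, Matrix.zero_mul]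

theorem isSkewAdj_iff_adjB (hn1 : G₁.det ≠ 0) (κ : Matrix (Fin a) (Fin a) F) :
    IsSkewAdj G₁ κ ↔ adjB G₁ κ = -κ := by
  have hu : IsUnit G₁.det := Ne.isUnit hn1
  constructor
  · intro h
    unfold IsSkewAdj at h
    unfold adjB
    have h' : κᵀ * G₁ = -(G₁ * κ) := by rw [h, neg_neg]
    rw [mul_assoc, h', Matrix.mul_neg, ← mul_assoc, Matrix.nonsing_inv_mul _ hu, one_mul]
  · intro h
    exact Cfsg.Agent.Lib.Helper1.SOTLALeaf.isSkewAdj_of_adjB hn1 h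

theorem isSelfAdj_iff_adjB (hn1 : G₁.det ≠ 0) (σ : Matrix (Fin a) (Fin a) F) :
    IsSelfAdj G₁ σ ↔ adjB G₁ σ = σ := by
  have hu : IsUnit G₁.det := Ne.isUnit hn1
  unfold IsSelfAdj adjB
  constructor
  · intro h
    rw [mul_assoc, ← h, ← mul_assoc, Matrix.nonsing_inv_mul _ hu, one_mul]
  · intro h
    calc G₁ * σ = G₁ * (G₁⁻¹ * σᵀ * G₁) := by rw [h]
      _ = (G₁ * G₁⁻¹) * σᵀ * G₁ := by simp only [mul_assoc]
      _ = σᵀ * G₁ := by rw [Matrix.mul_nonsing_inv _ hu, one_mul]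

/-- `r_d† = r_d` -/
theorem adjB_refl (hs1 : G₁ᵀ = G₁) (hn1 : G₁.det ≠ 0) (d : Fin a → F) :
    adjB G₁ (refl G₁ d) = refl G₁ d := by
  unfold Cfsg.Agent.Lib.Helper27.SOTLA.refl
  rw [Cfsg.Agent.Lib.Helper1.SOTLALeaf.adjB_sub, Cfsg.Agent.Lib.Helper1.SOTLALeaf.adjB_one hn1,
    Cfsg.Agent.Lib.Helper1.SOTLALeaf.adjB_smul, Cfsg.Agent.Lib.Helper1.SOTLALeaf.adjB_rk1 hs1 hn1]

end Cfsg.Agent.Lib.Helper29.OTLALeaf
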