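import Mathlib
import Cfsg.Agent.Lib.Helper2.SOTDefs
import Cfsg.Agent.Lib.Helper27.SOTLADefs
import Cfsg.Agent.Lib.Helper13.OTUCalc
import Cfsg.Agent.Lib.Helper13.OTLADefs
import Cfsg.Agent.Lib.Helper1.SOTLAA7core

/-!
S5681 + S5709 part (LA'), wave 1: packet C4 (`mem_KG_of_kron`, `Zc_scalar_mem_KG`, `KG_uform`).
-/

set_option autoImplicit false
set_option linter.unusedSectionVars false
set_option linter.unusedVariables false

namespace Cfsg.Agent.Lib.Helper29.OTLALeaf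
open Matrix
open Cfsg.Agent.Lib.Helper25.Tens Cfsg.Agent.Lib.Helper19.OSub
open Cfsg.Agent.Lib.Helper2.SOT Cfsg.Agent.Lib.Helper27.SOTLA Cfsg.Agent.Lib.Helper13.OTU
open Cfsg.Agent.Lib.Helper13.OTLA
open scoped Kronecker

variable {F : Type*} [Field F] [Fintype F] {a b : ℕ} {G₁ : Matrix (Fin a) (Fin a) F}
  {G₂ : Matrix (Fin b) (Fin b) F} {o o' p p' : Fin b} {Om M : Subgroup (GL (Idx a b) F)}

/-- (C4a) an invertible Kronecker product is in the Kronecker group -/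
theorem mem_KG_of_kron (ha : 0 < a) (hb : 0 < b) (g : GL (Idx a b) F) (α : Matrix (Fin a) (Fin a) F)
    (β : Matrix (Fin b) (Fin b) F) (h : g.1 = α ⊗ₖ β) : g ∈ KG a b F := by
  have hdet : (g.1).det ≠ 0 := by
    have hu : IsUnit g.1 := ⟨g, rfl⟩
    exact ((Matrix.isUnit_iff_isUnit_det _).1 hu).ne_zero
  rw [h, Matrix.det_kronecker, Fintype.card_fin, Fintype.card_fin] at hdet
  have hα : α.det ≠ 0 := by
    intro h0
    apply hdet
    rw [h0, zero_pow (by omega), zero_mul]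
  have hβ : β.det ≠ 0 := by
    intro h0
    apply hdet
    rw [h0, zero_pow (by omega), mul_zero]
  rw [mem_KG_iff]
  refine ⟨Matrix.nonsingInvUnit α (Ne.isUnit hα), Matrix.nonsingInvUnit β (Ne.isUnit hβ), ?_⟩
  rw [h]
  rfl

/-- `Z(0,0,c·1) = 1 ⊗ (1 + c n)` (local copy of (C3j)) -/
lemma Zc_scalar_eq' (hn1 : G₁.det ≠ 0) (c : F) :
    Zc G₁ o o' p p' 0 0 (c • (1 : Matrix (Fin a) (Fin a) F)) =
      (1 : Matrix (Fin a) (Fin a) F) ⊗ₖ (1 + c • nL o o' p p' : Matrix (Fin b) (Fin b) F) := by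
  unfold Zc Zm nL
  rw [Cfsg.Agent.Lib.Helper1.SOTLALeaf.adjB_smul, Cfsg.Agent.Lib.Helper1.SOTLALeaf.adjB_one hn1]
  have e1 : (Matrix.single o p' (1 : F) - Matrix.single o' p (1 : F) : Matrix (Fin b) (Fin b) F) =
      Matrix.single o p' (1 : F) + (-1 : F) • Matrix.single o' p (1 : F) := by
    rw [neg_one_smul, sub_eq_add_neg]
  have e2 : (-(c • (1 : Matrix (Fin a) (Fin a) F))) = (-c) • (1 : Matrix (Fin a) (Fin a) F) := by
    rw [neg_smul]
  rw [e1, e2, Matrix.zero_kronecker, Matrix.zero_kronecker, add_zero, add_zero, Matrix.kronecker_add,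
    Matrix.one_kronecker_one, Matrix.kronecker_smul, Matrix.kronecker_add, Matrix.kronecker_smul,
    Matrix.smul_kronecker, Matrix.smul_kronecker]
  module

/-- (C4b) -/
theorem Zc_scalar_mem_KG (ha : 0 < a) (hb : 0 < b) (hn1 : G₁.det ≠ 0) (g : GL (Idx a b) F) (c : F)
    (hg : g.1 = Zc G₁ o o' p p' 0 0 (c • (1 : Matrix (Fin a) (Fin a) F))) : g ∈ KG a b F := by
  rw [Zc_scalar_eq' hn1] at hg
  exact mem_KG_of_kron ha hb g _ _ hg

/-- (C4c) plan (C3): the blocks of an element of `KG` of `U`-form are scalar -/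
theorem KG_uform (hA : Adp G₂ o o' p p') {g : GL (Idx a b) F} (hg : g ∈ KG a b F)
    (hU : UL o o' p p' g.1) (k l : Fin b) : IsScal (blk g.1 k l) := by
  rw [mem_KG_iff] at hg
  obtain ⟨α, β, hαβ⟩ := hg
  have h1 : blk g.1 o o = 1 := by
    have := hU o o (not_free_diag _ _ o)
    rwa [if_pos rfl] at this
  rw [hαβ, blk_kron] at h1
  rw [hαβ, blk_kron]
  rcases Nat.eq_zero_or_pos a with ha | ha
  · subst ha
    exact ⟨0, Subsingleton.elim _ _⟩
  · have hne : (β.1 o o) ≠ 0 := by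
      intro h0
      rw [h0, zero_smul] at h1
      have := congrFun (congrFun h1 ⟨0, ha⟩) ⟨0, ha⟩
      rw [Matrix.zero_apply, Matrix.one_apply_eq] at this
      exact zero_ne_one this
    have hα : α.1 = (β.1 o o)⁻¹ • (1 : Matrix (Fin a) (Fin a) F) := by
      rw [← h1, smul_smul, inv_mul_cancel₀ hne, one_smul]
    refine ⟨β.1 k l * (β.1 o o)⁻¹, ?_⟩
    rw [hα, smul_smul]

end Cfsg.Agent.Lib.Helper29.OTLALeaf
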