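import Mathlib
import Cfsg.Agent.Lib.Helper2.SOTDefs
import Cfsg.Agent.Lib.Helper27.SOTLADefs
import Cfsg.Agent.Lib.Helper13.OTUCalc
import Cfsg.Agent.Lib.Helper13.OTLADefs
import Cfsg.Agent.Lib.Helper29.OTLAC0
import Cfsg.Agent.Lib.Helper29.OTLAC7

/-!
S5681 + S5709 part (LA'), wave 2, block R1+: `scalar_of_gram_scalar` (P2b), cores of `theta_scalar` (P2c) and
`suppC_of_theta_zero` (P3) (inputs (P2a) `theta_gram_scalar` resp. (C2) `rho_of_iso` as hypotheses).
-/

set_option autoImplicit false
set_option linter.unusedSectionVars false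
set_option linter.unusedVariables false

namespace Cfsg.Agent.Lib.Helper29.OTLALeaf
open Matrix
open Cfsg.Agent.Lib.Helper25.Tens Cfsg.Agent.Lib.Helper19.OSub
open Cfsg.Agent.Lib.Helper2.SOT Cfsg.Agent.Lib.Helper27.SOTLA Cfsg.Agent.Lib.Helper13.OTU
open Cfsg.Agent.Lib.Helper13.OTLA
open scoped Kronecker

variable {F : Type*} [Field F] [Fintype F] {a b : ℕ} {G₁ : Matrix (Fin a) (Fin a) F}
  {G₂ : Matrix (Fin b) (Fin b) F} {o o' p p' : Fin b} {Om M : Subgroup (GL (Idx a b) F)}

/-- (P2b) pure linear algebra: invert the Gram matrix on the middle -/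
theorem scalar_of_gram_scalar (hs2 : G₂ᵀ = G₂) (hn2 : G₂.det ≠ 0) (hA : Adp G₂ o o' p p')
    (θ : Fin b → Matrix (Fin a) (Fin a) F) (hθ : ∀ m : Fin b, cls o o' p p' m ≠ 1 → θ m = 0)
    (hS : ∀ m₀ : Fin b, cls o o' p p' m₀ = 1 → IsScal (∑ m, G₂ m m₀ • θ m)) :
    ∀ m : Fin b, IsScal (θ m) := by
  obtain ⟨hent, -⟩ := adp_entries hs2 hA
  -- all the combinations are scalar
  have hS' : ∀ m₀ : Fin b, IsScal (∑ m, G₂ m m₀ • θ m) := by
    intro m₀
    by_cases hm₀ : cls o o' p p' m₀ = 1
    · exact hS m₀ hm₀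
    · have : (∑ m, G₂ m m₀ • θ m) = 0 := by
        apply Finset.sum_eq_zero
        intro m _
        by_cases hm : cls o o' p p' m = 1
        · rw [hent m m₀ (by omega), zero_smul]
        · rw [hθ m hm, smul_zero]
      rw [this]
      exact isScal_zero
  choose c hc using hS'
  intro m₁
  have hinv : G₂ * G₂⁻¹ = 1 := Matrix.mul_nonsing_inv _ (Ne.isUnit hn2)
  have key : θ m₁ = ∑ m₀, G₂⁻¹ m₀ m₁ • ∑ m, G₂ m m₀ • θ m := by
    simp only [Finset.smul_sum, smul_smul]
    rw [Finset.sum_comm]
    have : ∀ m : Fin b, (∑ m₀, (G₂⁻¹ m₀ m₁ * G₂ m m₀) • θ m) = ((1 : Matrix (Fin b) (Fin b) F) m m₁) • θ m := by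
      intro m
      rw [← Finset.sum_smul, ← hinv, Matrix.mul_apply]
      congr 1
      apply Finset.sum_congr rfl
      intro m₀ _
      ring
    simp only [this]
    rw [Finset.sum_eq_single m₁]
    · rw [Matrix.one_apply_eq, one_smul]
    · intro m _ hm
      rw [Matrix.one_apply_ne hm, zero_smul]
    · intro h; exact absurd (Finset.mem_univ _) h
  refine ⟨∑ m₀, G₂⁻¹ m₀ m₁ * c m₀, ?_⟩
  rw [key, Finset.sum_smul]
  apply Finset.sum_congr rfl
  intro m₀ _
  rw [hc m₀, smul_smul]

/-- (P2c), core: all `θ`-blocks of `g` of `U`-form are scalar, given (P2a) for `g`. -/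
theorem theta_scalar_core (hs2 : G₂ᵀ = G₂) (hn2 : G₂.det ≠ 0) (hA : Adp G₂ o o' p p')
    {g : GL (Idx a b) F}
    (hP2a : ∀ m₀ : Fin b, cls o o' p p' m₀ = 1 →
      IsScal (∑ m, if cls o o' p p' m = 1 then G₂ m m₀ • blk g.1 m p else 0) ∧
      IsScal (∑ m, if cls o o' p p' m = 1 then G₂ m m₀ • blk g.1 m p' else 0))
    (m : Fin b) (hm : cls o o' p p' m = 1) : IsScal (blk g.1 m p) ∧ IsScal (blk g.1 m p') := by
  constructor
  · have := scalar_of_gram_scalar hs2 hn2 hA
      (fun m => if cls o o' p p' m = 1 then blk g.1 m p else 0)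
      (fun m hm => by simp only [if_neg hm])
      (fun m₀ hm₀ => by
        have h1 := (hP2a m₀ hm₀).1
        have e : (∑ m, G₂ m m₀ • (if cls o o' p p' m = 1 then blk g.1 m p else 0)) =
            ∑ m, if cls o o' p p' m = 1 then G₂ m m₀ • blk g.1 m p else 0 := by
          apply Finset.sum_congr rfl
          intro m _
          split_ifs
          · rfl
          · rw [smul_zero]
        rw [e]; exact h1) m
    simpa only [if_pos hm] using this
  · have := scalar_of_gram_scalar hs2 hn2 hA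
      (fun m => if cls o o' p p' m = 1 then blk g.1 m p' else 0)
      (fun m hm => by simp only [if_neg hm])
      (fun m₀ hm₀ => by
        have h1 := (hP2a m₀ hm₀).2
        have e : (∑ m, G₂ m m₀ • (if cls o o' p p' m = 1 then blk g.1 m p' else 0)) =
            ∑ m, if cls o o' p p' m = 1 then G₂ m m₀ • blk g.1 m p' else 0 := by
          apply Finset.sum_congr rfl
          intro m _
          split_ifs
          · rfl
          · rw [smul_zero]
        rw [e]; exact h1) m
    simpa only [if_pos hm] using this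

/-- (P3), core: a `U`-form matrix with zero `θ`-part whose `ρ`-part is given by (C2) is `1` modulo the corner. -/
theorem suppC_of_theta_zero_core (hs2 : G₂ᵀ = G₂) (hA : Adp G₂ o o' p p')
    {X : Matrix (Idx a b) (Idx a b) F} (hU : UL o o' p p' X)
    (hρ : ∀ m : Fin b, cls o o' p p' m = 1 →
      blk X o m = -∑ m', G₂ m' m • adjB G₁ (blk X m' p) ∧
      blk X o' m = -∑ m', G₂ m' m • adjB G₁ (blk X m' p'))
    (hθ : ∀ m : Fin b, cls o o' p p' m = 1 → blk X m p = 0 ∧ blk X m p' = 0) :
    SuppC (TL o o') (TL p p') (X - 1) := by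
  obtain ⟨hent, -⟩ := adp_entries hs2 hA
  intro k l hkl
  rw [blk_sub, blk_one]
  by_cases hF : Free (TL o o') (TL p p') k l
  · -- free, not corner: `ρ`-part or `θ`-part
    have hne : k ≠ l := by
      intro h
      subst h
      exact not_free_diag _ _ k hF
    rw [if_neg hne, sub_zero]
    rw [free_iff_cls hA] at hF
    rw [corner_iff_cls hA] at hkl
    have hk2 := cls_le_two (o := o) (o' := o') (p := p) (p' := p') k
    have hl2 := cls_le_two (o := o) (o' := o') (p := p) (p' := p') l
    have hcases : (cls o o' p p' k = 0 ∧ cls o o' p p' l = 1) ∨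
        (cls o o' p p' k = 1 ∧ cls o o' p p' l = 2) := by omega
    rcases hcases with ⟨hk, hl⟩ | ⟨hk, hl⟩
    · -- `ρ`-part
      have hzero : ∀ q : Fin b, (q = p ∨ q = p') →
          (∑ m', G₂ m' l • adjB G₁ (blk X m' q)) = 0 := by
        intro q hq
        apply Finset.sum_eq_zero
        intro m' _
        by_cases hm' : cls o o' p p' m' = 1
        · have hz : blk X m' q = 0 := by
            rcases hq with rfl | rfl
            · exact (hθ m' hm').1
            · exact (hθ m' hm').2
          rw [hz, adjB_zero, smul_zero]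
        · rw [hent m' l (by omega), zero_smul]
      rw [cls_eq_zero_iff] at hk
      rcases hk with rfl | rfl
      · rw [(hρ l hl).1, hzero p (Or.inl rfl), neg_zero]
      · rw [(hρ l hl).2, hzero p' (Or.inr rfl), neg_zero]
    · -- `θ`-part
      rw [cls_eq_two_iff hA] at hl
      rcases hl with rfl | rfl
      · exact (hθ k hk).1
      · exact (hθ k hk).2
  · rw [hU k l hF, sub_self]

end Cfsg.Agent.Lib.Helper29.OTLALeaf
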