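import Mathlib
import Cfsg.Agent.Lib.Helper2.SOTDefs
import Cfsg.Agent.Lib.Helper27.SOTLADefs
import Cfsg.Agent.Lib.Helper13.OTUCalc
import Cfsg.Agent.Lib.Helper13.OTLADefs
import Cfsg.Agent.Lib.Helper7.OTLARho
import Cfsg.Agent.Lib.Helper29.OTLAR1p

/-!
S5681 + S5709 part (LA'), wave 2, block R1+: `suppC_of_theta_zero` (P3), final form (on helper7's (C2) `rho_of_iso`).
-/

set_option autoImplicit false
set_option linter.unusedSectionVars false
set_option linter.unusedVariables false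

namespace Cfsg.Agent.Lib.Helper29.OTLALeaf
open Matrix
open Cfsg.Agent.Lib.Helper25.Tens Cfsg.Agent.Lib.Helper19.OSub
open Cfsg.Agent.Lib.Helper2.SOT Cfsg.Agent.Lib.Helper27.SOTLA Cfsg.Agent.Lib.Helper13.OTU
open Cfsg.Agent.Lib.Helper13.OTLA
open scoped Kronecker

variable {F : Type*} [Field F] [Fintype F] {a b : ℕ} {G₁ : Matrix (Fin a) (Fin a) F}
  {G₂ : Matrix (Fin b) (Fin b) F} {o o' p p' : Fin b} {Om M : Subgroup (GL (Idx a b) F)}

/-- (P3) a `U`-form isometry with zero `θ`-part is `1` modulo the corner [(C2): the `ρ`-part vanishes]. -/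
theorem suppC_of_theta_zero (hs1 : G₁ᵀ = G₁) (hs2 : G₂ᵀ = G₂) (hn1 : G₁.det ≠ 0)
    (hA : Adp G₂ o o' p p') {X : Matrix (Idx a b) (Idx a b) F} (hiso : IsIso G₁ G₂ X)
    (hU : UL o o' p p' X)
    (hθ : ∀ m : Fin b, cls o o' p p' m = 1 → blk X m p = 0 ∧ blk X m p' = 0) :
    SuppC (TL o o') (TL p p') (X - 1) :=
  suppC_of_theta_zero_core hs2 hA hU
    (fun m hm => Cfsg.Agent.Lib.Helper7.OTLALeaf.rho_of_iso hs1 hs2 hn1 hA hiso hU m hm) hθ

end Cfsg.Agent.Lib.Helper29.OTLALeaf
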