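import Mathlib
import Cfsg.Agent.Lib.Helper2.SOTDefs
import Cfsg.Agent.Lib.Helper27.SOTLADefs
import Cfsg.Agent.Lib.Helper13.OTUCalc
import Cfsg.Agent.Lib.Helper13.OTLADefs

/-!
S5681 + S5709 part (LA'), wave 2: packet P0 (`IsIso` closure properties).
-/

set_option autoImplicit false
set_option linter.unusedSectionVars false
set_option linter.unusedVariables false

namespace Cfsg.Agent.Lib.Helper29.OTLALeaf
open Matrix
open Cfsg.Agent.Lib.Helper25.Tens Cfsg.Agent.Lib.Helper19.OSub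
open Cfsg.Agent.Lib.Helper2.SOT Cfsg.Agent.Lib.Helper27.SOTLA Cfsg.Agent.Lib.Helper13.OTU
open Cfsg.Agent.Lib.Helper13.OTLA
open scoped Kronecker

variable {F : Type*} [Field F] [Fintype F] {a b : ℕ} {G₁ : Matrix (Fin a) (Fin a) F}
  {G₂ : Matrix (Fin b) (Fin b) F} {o o' p p' : Fin b} {Om M : Subgroup (GL (Idx a b) F)}

/-- (P0a) isometries: closure properties. -/
theorem IsIso_one : IsIso G₁ G₂ (1 : Matrix (Idx a b) (Idx a b) F) := by
  unfold IsIso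
  rw [Matrix.transpose_one, one_mul, mul_one]

theorem IsIso_mul {X Y : Matrix (Idx a b) (Idx a b) F} (hX : IsIso G₁ G₂ X) (hY : IsIso G₁ G₂ Y) :
    IsIso G₁ G₂ (X * Y) := by
  unfold IsIso at hX hY ⊢
  rw [Matrix.transpose_mul]
  calc Yᵀ * Xᵀ * KM G₁ G₂ * (X * Y) = Yᵀ * (Xᵀ * KM G₁ G₂ * X) * Y := by simp only [mul_assoc]
    _ = KM G₁ G₂ := by rw [hX, hY]

theorem IsIso_inv (g : GL (Idx a b) F) (hg : IsIso G₁ G₂ g.1) : IsIso G₁ G₂ g⁻¹.1 := by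
  unfold IsIso at hg ⊢
  have h1 : g.1 * g⁻¹.1 = 1 := by rw [← Units.val_mul, mul_inv_cancel, Units.val_one]
  calc g⁻¹.1ᵀ * KM G₁ G₂ * g⁻¹.1 = g⁻¹.1ᵀ * (g.1ᵀ * KM G₁ G₂ * g.1) * g⁻¹.1 := by rw [hg]
    _ = (g.1 * g⁻¹.1)ᵀ * KM G₁ G₂ * (g.1 * g⁻¹.1) := by
        rw [Matrix.transpose_mul]; simp only [mul_assoc]
    _ = KM G₁ G₂ := by rw [h1, Matrix.transpose_one, one_mul, mul_one]

/-- (P0b) `1 ⊗ β` is an isometry if `β` is. -/
theorem IsIso_kel_one (β : GL (Fin b) F) (hβ : IsOrthB G₂ β.1) :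
    IsIso G₁ G₂ (kel (1 : GL (Fin a) F) β : GL (Idx a b) F).1 := by
  unfold IsIso KM
  unfold IsOrthB at hβ
  rw [kel_val, Units.val_one, ← Matrix.kroneckerMap_transpose, ← Matrix.mul_kronecker_mul,
    ← Matrix.mul_kronecker_mul, Matrix.transpose_one, one_mul, mul_one, hβ]

end Cfsg.Agent.Lib.Helper29.OTLALeaf
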