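import Mathlib
import Cfsg.Agent.Lib.Helper2.SOTDefs
import Cfsg.Agent.Lib.Helper27.SOTLADefs
import Cfsg.Agent.Lib.Helper13.OTUCalc
import Cfsg.Agent.Lib.Helper13.OTLADefs

/-!
S5681 + S5709 part (LA'), wave 1: leaf C1 `comm_UFS` (commutator of two `U`-form elements).
-/

set_option autoImplicit false
set_option linter.unusedSectionVars false
set_option linter.unusedVariables false

namespace Cfsg.Agent.Lib.Helper29.OTLALeaf
open Matrix
open Cfsg.Agent.Lib.Helper25.Tens Cfsg.Agent.Lib.Helper19.OSub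
open Cfsg.Agent.Lib.Helper2.SOT Cfsg.Agent.Lib.Helper27.SOTLA Cfsg.Agent.Lib.Helper13.OTU
open Cfsg.Agent.Lib.Helper13.OTLA
open scoped Kronecker

variable {F : Type*} [Field F] [Fintype F] {a b : ℕ} {G₁ : Matrix (Fin a) (Fin a) F}
  {G₂ : Matrix (Fin b) (Fin b) F} {o o' p p' : Fin b} {Om M : Subgroup (GL (Idx a b) F)}

lemma suppC_sub {T Bt : Finset (Fin b)} {N N' : Matrix (Idx a b) (Idx a b) F}
    (h : SuppC T Bt N) (h' : SuppC T Bt N') : SuppC T Bt (N - N') := by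
  intro k l hkl
  rw [blk_sub, h k l hkl, h' k l hkl, sub_zero]

/-- the commutator identity for matrices `1 + A`, `1 + B` all of whose triple products in `A`, `B` vanish -/
lemma comm_identity {R : Type*} [Ring R] (A B : R)
    (hAAA : A * A * A = 0) (hBAA : B * A * A = 0) (hABA : A * B * A = 0)
    (hBBB : B * B * B = 0) (hABB : A * B * B = 0) (hBAB : B * A * B = 0) :
    (1 + A) * (1 + B) * (1 - A + A * A) * (1 - B + B * B) = 1 + (A * B - B * A) := by
  have e1 : (1 + A) * (1 + B) * (1 - A + A * A) =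
      1 + B + A * B - B * A + (A * A * A + B * A * A - A * B * A + A * B * A * A) := by
    noncomm_ring
  have e2 : (1 + B + A * B - B * A) * (1 - B + B * B) =
      1 + (A * B - B * A) + (B * B * B - A * B * B + A * B * B * B + B * A * B - B * A * B * B) := by
    noncomm_ring
  rw [e1, hAAA, hBAA, hABA, zero_mul, add_zero, add_zero, sub_zero, add_zero, e2, hBBB, hABB,
    zero_mul, hBAB, zero_mul]
  simp

/-- (C1) commutator of two `U`-form elements (generic index sets `T`, `Bt`). -/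
theorem comm_UFS {T Bt : Finset (Fin b)} (hd : Disjoint T Bt) (g h : GL (Idx a b) F)
    (hg : UFS T Bt g.1) (hh : UFS T Bt h.1) :
    (g * h * g⁻¹ * h⁻¹).1 - 1 = (g.1 - 1) * (h.1 - 1) - (h.1 - 1) * (g.1 - 1) ∧
    UFS T Bt (g * h * g⁻¹ * h⁻¹).1 ∧ SuppC T Bt ((g * h * g⁻¹ * h⁻¹).1 - 1) ∧
    ∀ k l : Fin b, Corner T Bt k l → blk (g * h * g⁻¹ * h⁻¹).1 k l =
      ∑ m, (if m ∈ T ∨ m ∈ Bt then 0 else blk g.1 k m * blk h.1 m l - blk h.1 k m * blk g.1 m l) := by
  have hA := (UFS_iff T Bt g.1).1 hg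
  have hB := (UFS_iff T Bt h.1).1 hh
  obtain ⟨-, hgi⟩ := UFS_inv hd g hg
  obtain ⟨-, hhi⟩ := UFS_inv hd h hh
  set A : Matrix (Idx a b) (Idx a b) F := g.1 - 1 with hAdef
  set B : Matrix (Idx a b) (Idx a b) F := h.1 - 1 with hBdef
  have hg1 : g.1 = 1 + A := by rw [hAdef]; abel
  have hh1 : h.1 = 1 + B := by rw [hBdef]; abel
  have hgi1 : (g⁻¹).1 = 1 - A + A * A := by
    have : (g⁻¹).1 = 1 + ((g⁻¹).1 - 1) := by abel
    rw [this, hgi]; abel
  have hhi1 : (h⁻¹).1 = 1 - B + B * B := by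
    have : (h⁻¹).1 = 1 + ((h⁻¹).1 - 1) := by abel
    rw [this, hhi]; abel
  have e : (g * h * g⁻¹ * h⁻¹).1 = 1 + (A * B - B * A) := by
    rw [Units.val_mul, Units.val_mul, Units.val_mul, hgi1, hhi1, hg1, hh1]
    exact comm_identity A B (hA.mul_mul hd hA hA) (hB.mul_mul hd hA hA) (hA.mul_mul hd hB hA)
      (hB.mul_mul hd hB hB) (hA.mul_mul hd hB hB) (hB.mul_mul hd hA hB)
  have e' : (g * h * g⁻¹ * h⁻¹).1 - 1 = A * B - B * A := by rw [e]; abel
  obtain ⟨hCAB, hsAB⟩ := hA.mul hd hB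
  obtain ⟨hCBA, hsBA⟩ := hB.mul hd hA
  have hC : SuppC T Bt (A * B - B * A) := suppC_sub hCAB hCBA
  refine ⟨e', ?_, ?_, ?_⟩
  · rw [UFS_iff, e']
    exact hC.suppF hd
  · rw [e']; exact hC
  · intro k l hkl
    have hne : k ≠ l := fun hkl' => Finset.disjoint_left.1 hd hkl.1 (hkl' ▸ hkl.2)
    have e1 : blk (g * h * g⁻¹ * h⁻¹).1 k l = blk ((g * h * g⁻¹ * h⁻¹).1 - 1) k l := by
      rw [blk_sub, blk_one, if_neg hne, sub_zero]
    rw [e1, e', blk_sub, hsAB k l, hsBA k l, ← Finset.sum_sub_distrib]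
    apply Finset.sum_congr rfl
    intro m _
    by_cases hm : m ∈ T ∨ m ∈ Bt
    · rw [if_pos hm, if_pos hm, if_pos hm, sub_zero]
    · rw [if_neg hm, if_neg hm, if_neg hm]
      have hmid := not_or.1 hm
      have hkm : k ≠ m := fun h' => hmid.1 (h' ▸ hkl.1)
      have hml : m ≠ l := fun h' => hmid.2 (h' ▸ hkl.2)
      rw [hAdef, hBdef]
      simp only [blk_sub, blk_one, if_neg hkm, if_neg hml, sub_zero]

end Cfsg.Agent.Lib.Helper29.OTLALeaf
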