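import Mathlib
import Cfsg.Prelude.Def_Transfer
import Cfsg.Prelude.Def_Solvable
import Cfsg.Prelude.Def_Local
import Cfsg.Prelude.Def_OddOrderLocal
import Cfsg.Prelude.Def_CaseTheorems
import Cfsg.Agent.Lib.Helper13.R3Defs2

/-! S4404 wave 2 leaf **GENBOUND** (helper29): an elementary abelian quotient of exponent 3 of a group generated by
`s` has order at most `3 ^ |s|`. -/

set_option autoImplicit false

namespace Cfsg.Agent.Lib.Helper29.R3GENBOUND

open Pointwise Cfsg.Agent.Lib.Helper13.R3
open scoped commutatorElement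

theorem card_le_of_comm_exp3 {Q : Type*} [Group Q] [Finite Q] (hcomm : ∀ a b : Q, a * b = b * a)
    (h3 : ∀ a : Q, a ^ 3 = 1) (t : Finset Q) (ht : Subgroup.closure (t : Set Q) = ⊤) :
    Nat.card Q ≤ 3 ^ t.card := by
  letI : CommGroup Q := { (inferInstance : Group Q) with mul_comm := hcomm }
  have h1 : Nat.card Q ∣ 3 ^ Group.rank Q := card_dvd_exponent_pow_rank' Q h3
  have h2 : Group.rank Q ≤ t.card := Group.rank_le ht
  calc Nat.card Q ≤ 3 ^ Group.rank Q := Nat.le_of_dvd (by positivity) h1
    _ ≤ 3 ^ t.card := Nat.pow_le_pow_right (by norm_num) h2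

section pure

variable {G : Type*} [Group G] [Finite G]

/-- GENBOUND `index_le_pow_card`. -/
theorem index_le_pow_card (N : Subgroup G) [N.Normal] (h3 : ∀ g : G, g ^ 3 ∈ N)
    (hc : ∀ g h : G, ⁅g, h⁆ ∈ N) (s : Finset G) (hs : Subgroup.closure (s : Set G) = ⊤) :
    N.index ≤ 3 ^ s.card := by
  classical
  have hcomm : ∀ a b : G ⧸ N, a * b = b * a := by
    intro a b
    induction a using QuotientGroup.induction_on with
    | H a =>
      induction b using QuotientGroup.induction_on with
      | H b =>
        rw [← QuotientGroup.mk_mul, ← QuotientGroup.mk_mul, QuotientGroup.eq]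
        have h := hc b⁻¹ a⁻¹
        rw [commutatorElement_def, inv_inv, inv_inv] at h
        have e : (a * b)⁻¹ * (b * a) = b⁻¹ * a⁻¹ * b * a := by group
        rw [e]
        exact h
  have h3' : ∀ a : G ⧸ N, a ^ 3 = 1 := by
    intro a
    induction a using QuotientGroup.induction_on with
    | H a =>
      rw [← QuotientGroup.mk_pow]
      exact (QuotientGroup.eq_one_iff _).mpr (h3 a)
  have ht : Subgroup.closure ((s.image (QuotientGroup.mk' N) : Finset (G ⧸ N)) : Set (G ⧸ N)) = ⊤ := by
    rw [Finset.coe_image, ← MonoidHom.map_closure, hs]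
    exact Subgroup.map_top_of_surjective _ (QuotientGroup.mk'_surjective N)
  have h := card_le_of_comm_exp3 hcomm h3' _ ht
  rw [Subgroup.index_eq_card]
  exact h.trans (Nat.pow_le_pow_right (by norm_num) Finset.card_image_le)

end pure

end Cfsg.Agent.Lib.Helper29.R3GENBOUND
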