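import Mathlib
import Cfsg.Prelude.Def_Transfer
import Cfsg.Prelude.Def_Solvable
import Cfsg.Prelude.Def_Local
import Cfsg.Prelude.Def_OddOrderLocal
import Cfsg.Prelude.Def_CaseTheorems
import Cfsg.Agent.Lib.Helper13.R3Defs2

/-! S4404 wave 2 leaf **INDEP** (helper29): independent elements give a big quotient. -/

set_option autoImplicit false

namespace Cfsg.Agent.Lib.Helper29.R3INDEP

open Pointwise Cfsg.Agent.Lib.Helper13.R3
open scoped commutatorElement

theorem pow_card_le_index_iInf {P' : Type*} [Group P'] [Finite P'] {ι : Type*} [Fintype ι]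
    (K : ι → Subgroup P') [hK : ∀ i, (K i).Normal] (z : ι → P')
    (hz : ∀ i j, i ≠ j → z i ∈ K j) (hz' : ∀ i, z i ∉ K i) (hz3 : ∀ i, z i ^ 3 ∈ K i) :
    3 ^ Fintype.card ι ≤ (⨅ i, K i).index := by
  classical
  let φ : P' →* ∀ i, P' ⧸ K i := MonoidHom.pi (fun i => QuotientGroup.mk' (K i))
  have hφ : ∀ x i, φ x i = QuotientGroup.mk' (K i) x := fun _ _ => rfl
  have hker : φ.ker = ⨅ i, K i := by
    ext x
    rw [MonoidHom.mem_ker, Subgroup.mem_iInf]
    constructor
    · intro h i
      have h1 := congrFun h i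
      rw [hφ] at h1
      exact (QuotientGroup.eq_one_iff x).mp h1
    · intro h
      funext i
      rw [hφ]
      exact (QuotientGroup.eq_one_iff x).mpr (h i)
  rw [← hker, Subgroup.index_ker]
  have hord : ∀ i, orderOf (QuotientGroup.mk' (K i) (z i)) = 3 := by
    intro i
    haveI : Fact (Nat.Prime 3) := ⟨by norm_num⟩
    apply orderOf_eq_prime
    · rw [← map_pow]
      exact (QuotientGroup.eq_one_iff _).mpr (hz3 i)
    · intro h
      exact hz' i ((QuotientGroup.eq_one_iff _).mp h)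
  have hle : Subgroup.pi Set.univ (fun i => Subgroup.zpowers (QuotientGroup.mk' (K i) (z i))) ≤
      φ.range := by
    rw [Subgroup.pi_le_iff]
    intro i
    rw [MonoidHom.map_zpowers, Subgroup.zpowers_le]
    refine ⟨z i, ?_⟩
    funext j
    rw [hφ]
    by_cases hji : j = i
    · subst hji
      simp
    · rw [MonoidHom.mulSingle_apply, Pi.mulSingle_eq_of_ne hji]
      exact (QuotientGroup.eq_one_iff _).mpr (hz i j (Ne.symm hji))
  let ψ : (∀ i, Subgroup.zpowers (QuotientGroup.mk' (K i) (z i))) → φ.range :=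
    fun f => ⟨fun i => (f i : P' ⧸ K i), hle (by
      rw [Subgroup.mem_pi]
      intro i _
      exact (f i).2)⟩
  have hψ : Function.Injective ψ := by
    intro f g h
    funext i
    apply Subtype.ext
    exact congrArg (fun t : φ.range => (t : ∀ i, P' ⧸ K i) i) h
  have hcard := Nat.card_le_card_of_injective ψ hψ
  rw [Nat.card_pi] at hcard
  simp only [Nat.card_zpowers, hord, Finset.prod_const, Finset.card_univ] at hcard
  exact hcard

/-- INDEP `pow_card_le_relIndex`. -/
theorem pow_card_le_relIndex {G : Type*} [Group G] [Finite G] (P : Subgroup G) {ι : Type*}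
    [Fintype ι] (F : ι → Subgroup G) (hnorm : ∀ i, ∀ g ∈ P, ∀ f ∈ F i, g * f * g⁻¹ ∈ F i)
    (z : ι → G) (hzP : ∀ i, z i ∈ P) (hz : ∀ i j, i ≠ j → z i ∈ F j) (hz' : ∀ i, z i ∉ F i)
    (hz3 : ∀ i, z i ^ 3 ∈ F i) : 3 ^ Fintype.card ι ≤ (P ⊓ ⨅ i, F i).relIndex P := by
  haveI hK : ∀ i, ((F i).subgroupOf P).Normal := by
    intro i
    refine ⟨fun n hn g => ?_⟩
    rw [Subgroup.mem_subgroupOf] at hn ⊢
    exact hnorm i g g.2 n hn
  have h := pow_card_le_index_iInf (fun i => (F i).subgroupOf P) (fun i => (⟨z i, hzP i⟩ : ↥P))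
    (fun i j hij => Subgroup.mem_subgroupOf.mpr (hz i j hij))
    (fun i hi => hz' i (Subgroup.mem_subgroupOf.mp hi))
    (fun i => Subgroup.mem_subgroupOf.mpr (hz3 i))
  have e : (P ⊓ ⨅ i, F i).subgroupOf P = ⨅ i, (F i).subgroupOf P := by
    ext x
    simp only [Subgroup.mem_subgroupOf, Subgroup.mem_inf, Subgroup.mem_iInf]
    constructor
    · intro h i
      exact h.2 i
    · intro h
      exact ⟨x.2, h⟩
  rw [Subgroup.relIndex, e]
  exact h

end Cfsg.Agent.Lib.Helper29.R3INDEP
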