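import Mathlib
import Cfsg.Agent.Lib.Helper16.SLMinDefs
import Cfsg.Agent.Lib.Helper2.SLGen

/-!
helper29, leaves C0 and C0' of helper16's S2332 market (signatures from `notes/S2332_leaves.lean`):

* `finrank_wt_rad_eq` : the block `SL ι'` is transitive on the non-zero weights of the first-row radical of
  `SL (Unit ⊕ ι')`, so all non-zero weights have the same multiplicity (`2 ≤ |ι'|`);
* `trivial_of_rad_trivial` : a representation of `SL (Unit ⊕ ι')` which is trivial on the radical is trivial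
  (`2 ≤ |ι'|`): the normal closure of the radical contains every elementary transvection.
-/

set_option autoImplicit false

namespace Cfsg.Agent.Lib.Helper29.SLMin

open Matrix Module Cfsg.Agent.Lib.Helper16.SLMin

/-! ### `SL ι` is transitive on non-zero vectors -/
section trans

variable {F : Type*} [Field F] {ι : Type*} [Fintype ι] [DecidableEq ι]

/-- `1 + d φᵀ`, an element of `SL` when `φ ⬝ᵥ d = 0` -/
def tv (d φ : ι → F) (h : φ ⬝ᵥ d = 0) : SpecialLinearGroup ι F :=
  ⟨1 + vecMulVec d φ, by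
    rw [vecMulVec_eq Unit, det_one_add_replicateCol_mul_replicateRow, h, add_zero]⟩

theorem tv_mulVec (d φ : ι → F) (h : φ ⬝ᵥ d = 0) (v : ι → F) :
    (tv d φ h : Matrix ι ι F) *ᵥ v = v + (φ ⬝ᵥ v) • d := by
  show (1 + vecMulVec d φ) *ᵥ v = v + (φ ⬝ᵥ v) • d
  rw [add_mulVec, one_mulVec, vecMulVec_mulVec, op_smul_eq_smul]

/-- two vectors in the same `SL`-orbit -/
def SameOrb (v u : ι → F) : Prop :=
  ∃ g : SpecialLinearGroup ι F, (g : Matrix ι ι F) *ᵥ v = u

theorem SameOrb.refl (v : ι → F) : SameOrb v v :=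
  ⟨1, by
    show (1 : Matrix ι ι F) *ᵥ v = v
    rw [one_mulVec]⟩

theorem SameOrb.symm {v u : ι → F} (h : SameOrb v u) : SameOrb u v := by
  obtain ⟨g, rfl⟩ := h
  refine ⟨g⁻¹, ?_⟩
  have h : ((g⁻¹ : SpecialLinearGroup ι F) : Matrix ι ι F) * (g : Matrix ι ι F) = 1 :=
    congrArg Subtype.val (inv_mul_cancel g)
  rw [mulVec_mulVec, h, one_mulVec]

theorem SameOrb.trans {v u w : ι → F} (h : SameOrb v u) (h' : SameOrb u w) : SameOrb v w := by
  obtain ⟨g, rfl⟩ := h
  obtain ⟨g', rfl⟩ := h'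
  refine ⟨g' * g, ?_⟩
  show ((g' : Matrix ι ι F) * (g : Matrix ι ι F)) *ᵥ v = _
  rw [mulVec_mulVec]

/-- one non-zero coordinate in common: same orbit -/
theorem sameOrb_of_coord {v u : ι → F} (i : ι) (hv : v i ≠ 0) (h : u i = v i) : SameOrb v u := by
  have hd : (Pi.single i (v i)⁻¹ : ι → F) ⬝ᵥ (u - v) = 0 := by
    rw [single_dotProduct, Pi.sub_apply, h, sub_self, mul_zero]
  refine ⟨tv (u - v) (Pi.single i (v i)⁻¹) hd, ?_⟩
  rw [tv_mulVec, single_dotProduct, inv_mul_cancel₀ hv, one_smul]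
  abel

theorem sameOrb_single {v : ι → F} (i k : ι) (hki : k ≠ i) (hv : v i ≠ 0) :
    SameOrb v (Pi.single k 1) := by
  have h1 : SameOrb v (Function.update v k 1) :=
    sameOrb_of_coord i hv (Function.update_of_ne hki.symm _ _)
  have h2 : SameOrb (Function.update v k 1) (Pi.single k 1) := by
    apply sameOrb_of_coord k
    · rw [Function.update_self]; exact one_ne_zero
    · rw [Function.update_self, Pi.single_eq_same]
  exact h1.trans h2

theorem sameOrb_single' (h2 : 2 ≤ Fintype.card ι) {v : ι → F} (hv : v ≠ 0) (k₀ : ι) :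
    SameOrb v (Pi.single k₀ 1) := by
  obtain ⟨i, hi⟩ := Function.ne_iff.mp hv
  rw [Pi.zero_apply] at hi
  by_cases hk : k₀ = i
  · subst hk
    obtain ⟨k, hk⟩ := Fintype.exists_ne_of_one_lt_card (by omega : 1 < Fintype.card ι) k₀
    have h1 : SameOrb v (Pi.single k 1) := sameOrb_single k₀ k hk hi
    have h2 : SameOrb (Pi.single k (1 : F)) (Pi.single k₀ 1) := by
      apply sameOrb_single k k₀ hk.symm
      rw [Pi.single_eq_same]; exact one_ne_zero
    exact h1.trans h2
  · exact sameOrb_single i k₀ hk hi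

/-- `SL ι` is transitive on the non-zero vectors when `2 ≤ |ι|` -/
theorem sameOrb_of_ne_zero (h2 : 2 ≤ Fintype.card ι) {v v' : ι → F} (hv : v ≠ 0) (hv' : v' ≠ 0) :
    SameOrb v v' := by
  have hne : Nonempty ι := Fintype.card_pos_iff.mp (by omega)
  obtain ⟨k₀⟩ := hne
  exact (sameOrb_single' h2 hv k₀).trans (sameOrb_single' h2 hv' k₀).symm

end trans

/-! ### C0 -/
section C0

variable {F : Type*} [Field F] {M : Type*} [AddCommGroup M] [Module ℂ M]
  {ι' : Type*} [Fintype ι'] [DecidableEq ι']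

theorem rad_mul_emb (g : SpecialLinearGroup ι' F) (r : ι' → F) :
    rad r * emb g = emb g * rad (r ᵥ* (g : Matrix ι' ι' F)) := by
  have h := emb_rad (g⁻¹) r
  rw [inv_inv, map_inv, inv_inv] at h
  rw [← h]
  group

variable [Fintype F]

theorem map_mem_wt (ρ : Representation ℂ (SpecialLinearGroup (Unit ⊕ ι') F) M)
    (g : SpecialLinearGroup ι' F) (v : ι' → F) (m : M)
    (hm : m ∈ wt ρ (rad (F := F) (ι' := ι')) v) :
    ρ (emb g) m ∈ wt ρ (rad (F := F) (ι' := ι')) ((g : Matrix ι' ι' F) *ᵥ v) := by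
  intro r
  have h1 : ρ (rad r) (ρ (emb g) m) = ρ (emb g) (ρ (rad (r ᵥ* (g : Matrix ι' ι' F))) m) := by
    rw [← Module.End.mul_apply, ← map_mul, rad_mul_emb, map_mul, Module.End.mul_apply]
  rw [h1, hm (r ᵥ* (g : Matrix ι' ι' F)), map_smul]
  congr 2
  rw [dotProduct_comm, ← dotProduct_mulVec, dotProduct_comm]

variable [FiniteDimensional ℂ M]

theorem finrank_wt_le (ρ : Representation ℂ (SpecialLinearGroup (Unit ⊕ ι') F) M)
    (g : SpecialLinearGroup ι' F) (v : ι' → F) :
    finrank ℂ ↥(wt ρ (rad (F := F) (ι' := ι')) v) ≤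
      finrank ℂ ↥(wt ρ (rad (F := F) (ι' := ι')) ((g : Matrix ι' ι' F) *ᵥ v)) := by
  let f : ↥(wt ρ (rad (F := F) (ι' := ι')) v) →ₗ[ℂ]
      ↥(wt ρ (rad (F := F) (ι' := ι')) ((g : Matrix ι' ι' F) *ᵥ v)) :=
    (ρ (emb g)).restrict (fun m hm => map_mem_wt ρ g v m hm)
  apply LinearMap.finrank_le_finrank_of_injective (f := f)
  intro x y hxy
  have h1 : ρ (emb g) (x : M) = ρ (emb g) (y : M) := congrArg Subtype.val hxy
  have h2 : ∀ z : M, ρ (emb g⁻¹) (ρ (emb g) z) = z := by
    intro z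
    rw [← Module.End.mul_apply, ← map_mul, ← map_mul, inv_mul_cancel, map_one, map_one,
      Module.End.one_apply]
  apply Subtype.ext
  rw [← h2 (x : M), ← h2 (y : M), h1]

/-- **C0**: the Levi factor is transitive on the non-zero weights of the radical. -/
theorem finrank_wt_rad_eq [DecidableEq F] (h2 : 2 ≤ Fintype.card ι')
    (ρ : Representation ℂ (SpecialLinearGroup (Unit ⊕ ι') F) M) (v v' : ι' → F) (hv : v ≠ 0)
    (hv' : v' ≠ 0) :
    finrank ℂ ↥(wt ρ (rad (F := F) (ι' := ι')) v) = finrank ℂ ↥(wt ρ (rad (F := F) (ι' := ι')) v') := by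
  obtain ⟨g, hg⟩ := sameOrb_of_ne_zero h2 hv hv'
  obtain ⟨g', hg'⟩ := sameOrb_of_ne_zero h2 hv' hv
  apply le_antisymm
  · have := finrank_wt_le ρ g v
    rwa [hg] at this
  · have := finrank_wt_le ρ g' v'
    rwa [hg'] at this

end C0

/-! ### C0' -/
section C0'

variable {F : Type*} [Field F] {M : Type*} [AddCommGroup M] [Module ℂ M]
  {ι' : Type*} [Fintype ι'] [DecidableEq ι']

theorem rad_single (b : ι') (c : F) :
    rad (Pi.single b c) = SpecialLinearGroup.transvection
      (Sum.inl_ne_inr : (Sum.inl () : Unit ⊕ ι') ≠ Sum.inr b) c := by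
  apply Subtype.ext
  rw [rad_coe, SpecialLinearGroup.transvection_coe]
  ext i j
  rcases i with ⟨⟩ | i <;> rcases j with ⟨⟩ | j
  · simp
  · simp [Matrix.single_apply, Pi.single_apply, eq_comm]
  · simp
  · simp [Matrix.one_apply]

open scoped commutatorElement in
theorem rho_commutator_left {G : Type*} [Group G] (ρ : Representation ℂ G M) (x y : G)
    (hx : ρ x = 1) : ρ ⁅x, y⁆ = 1 := by
  have hx' : ρ x⁻¹ = 1 := by
    have : ρ x * ρ x⁻¹ = 1 := by rw [← map_mul, mul_inv_cancel, map_one]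
    rwa [hx, one_mul] at this
  rw [commutatorElement_def, map_mul, map_mul, map_mul, hx, hx', one_mul, mul_one, ← map_mul,
    mul_inv_cancel, map_one]

open scoped commutatorElement in
theorem rho_commutator_right {G : Type*} [Group G] (ρ : Representation ℂ G M) (x y : G)
    (hy : ρ y = 1) : ρ ⁅x, y⁆ = 1 := by
  have hy' : ρ y⁻¹ = 1 := by
    have : ρ y * ρ y⁻¹ = 1 := by rw [← map_mul, mul_inv_cancel, map_one]
    rwa [hy, one_mul] at this
  rw [commutatorElement_def, map_mul, map_mul, map_mul, hy, hy', mul_one, mul_one, ← map_mul,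
    mul_inv_cancel, map_one]

/-- **C0'**: the normal closure of the radical is everything. -/
theorem trivial_of_rad_trivial [Fintype F] [DecidableEq F] [FiniteDimensional ℂ M]
    (h2 : 2 ≤ Fintype.card ι')
    (ρ : Representation ℂ (SpecialLinearGroup (Unit ⊕ ι') F) M)
    (h : ∀ r : ι' → F, ρ (rad r) = 1) : ∀ g, ρ g = 1 := by
  classical
  have : Nontrivial (Unit ⊕ ι') := by
    have hne : Nonempty ι' := Fintype.card_pos_iff.mp (by omega)
    obtain ⟨b⟩ := hne
    exact ⟨⟨Sum.inl (), Sum.inr b, Sum.inl_ne_inr⟩⟩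
  -- row `0`
  have h0 : ∀ (b : ι') (c : F), ρ (SpecialLinearGroup.transvection
      (Sum.inl_ne_inr : (Sum.inl () : Unit ⊕ ι') ≠ Sum.inr b) c) = 1 := by
    intro b c
    rw [← rad_single]
    exact h _
  -- inside the block
  have h1 : ∀ (a b : ι') (hab : (Sum.inr a : Unit ⊕ ι') ≠ Sum.inr b) (c : F),
      ρ (SpecialLinearGroup.transvection hab c) = 1 := by
    intro a b hab c
    rw [Cfsg.Agent.Lib.Helper2.transvection_eq_commutator hab
      (Sum.inr_ne_inl : (Sum.inr a : Unit ⊕ ι') ≠ Sum.inl ())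
      (Sum.inl_ne_inr : (Sum.inl () : Unit ⊕ ι') ≠ Sum.inr b) c]
    exact rho_commutator_right ρ _ _ (h0 b 1)
  -- column `0`
  have h3 : ∀ (a : ι') (c : F), ρ (SpecialLinearGroup.transvection
      (Sum.inr_ne_inl : (Sum.inr a : Unit ⊕ ι') ≠ Sum.inl ()) c) = 1 := by
    intro a c
    obtain ⟨b, hb⟩ := Fintype.exists_ne_of_one_lt_card (by omega : 1 < Fintype.card ι') a
    have hab : (Sum.inr a : Unit ⊕ ι') ≠ Sum.inr b := fun hh => hb (Sum.inr_injective hh).symm
    rw [Cfsg.Agent.Lib.Helper2.transvection_eq_commutator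
      (Sum.inr_ne_inl : (Sum.inr a : Unit ⊕ ι') ≠ Sum.inl ()) hab
      (Sum.inr_ne_inl : (Sum.inr b : Unit ⊕ ι') ≠ Sum.inl ()) c]
    exact rho_commutator_left ρ _ _ (h1 a b hab c)
  intro g
  refine Cfsg.Agent.Lib.Helper2.sl_transvection_induction (fun x => ρ x = 1) ?_ ?_ g
  · intro i j hij c
    rcases i with ⟨⟩ | a <;> rcases j with ⟨⟩ | b
    · exact absurd rfl hij
    · exact h0 b c
    · exact h3 a c
    · exact h1 a b hij c
  · intro A B hA hB
    rw [map_mul, hA, hB, one_mul]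

end C0'

end Cfsg.Agent.Lib.Helper29.SLMin
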