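/-
helper29: the unital line closure `L3` for a unitary form, model-free.

`R` is any set of isotropic vectors closed under scalars and under `v ↦ v + (c f(v,w)) w`
(`w ∈ R`, `c` skew) -- e.g. the root vectors `Rt` of a subgroup generated by unitary transvections.
If `R` contains a hyperbolic pair `E`, `F'` and ONE further isotropic vector `β E + α D + F'` with
`α ≠ 0` of the non-degenerate 3-space `⟨E, D, F'⟩` (`D ⊥ E, F'`, `f D D = 1`), then `R` contains every
isotropic vector of that 3-space.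
-/
import Mathlib
import Cfsg.Agent.Lib.Helper5.UForm

set_option autoImplicit false
set_option linter.unusedSectionVars false
set_option linter.unusedVariables false

namespace Cfsg.Agent.Lib.Helper29.SUL3

open Cfsg Cfsg.Agent.Lib.Helper5.UForm

variable {F : Type*} [Field F] {n : ℕ} {σ : F ≃+* F} {f : (Fin n → F) → (Fin n → F) → F}

/-- a Witt triple: `E, F'` a hyperbolic pair, `D` a unit vector perpendicular to both -/
structure WT (f : (Fin n → F) → (Fin n → F) → F) (E D F' : Fin n → F) : Prop where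
  EE : f E E = 0
  FF : f F' F' = 0
  EF : f E F' = 1
  DD : f D D = 1
  ED : f E D = 0
  FD : f F' D = 0

section
variable (hf : Cfsg.Geo.IsUnitaryForm σ f) {E D F' : Fin n → F} (hW : WT f E D F')
include hf hW

theorem form3 (x y z x' y' z' : F) :
    f (x • E + y • D + z • F') (x' • E + y' • D + z' • F') = x * σ z' + z * σ x' + y * σ y' := by
  have hFE : f F' E = 1 := by rw [hf.herm, hW.EF, map_one]
  have hDE : f D E = 0 := by rw [hf.herm, hW.ED, map_zero]
  have hDF : f D F' = 0 := by rw [hf.herm, hW.FD, map_zero]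
  simp only [hf.add_left, u_add_right hf, hf.smul_left, u_smul_right hf, hW.EE, hW.FF, hW.EF,
    hW.DD, hW.ED, hW.FD, hFE, hDE, hDF]
  ring

/-- the point `β E + α D + F'` -/
def Pt (E D F' : Fin n → F) (α β : F) : Fin n → F := β • E + α • D + (1 : F) • F'

theorem form_Pt (α β α' β' : F) :
    f (Pt E D F' α β) (Pt E D F' α' β') = β + σ β' + α * σ α' := by
  unfold Pt
  rw [form3 hf hW, map_one]; ring

theorem form_Pt_E (α β : F) : f (Pt E D F' α β) E = 1 := by
  have hFE : f F' E = 1 := by rw [hf.herm, hW.EF, map_one]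
  have hDE : f D E = 0 := by rw [hf.herm, hW.ED, map_zero]
  unfold Pt
  simp only [hf.add_left, hf.smul_left, hW.EE, hFE, hDE]
  ring

end

section closure
variable (hf : Cfsg.Geo.IsUnitaryForm σ f) {E D F' : Fin n → F} (hW : WT f E D F')
  (R : Set (Fin n → F)) (hRiso : ∀ v ∈ R, f v v = 0)
  (hsmul : ∀ (a : F) (v : Fin n → F), v ∈ R → a • v ∈ R)
  (hadd : ∀ v w : Fin n → F, v ∈ R → w ∈ R → ∀ c : F, σ c = -c → v + (c * f v w) • w ∈ R)

/-- the set of `α` such that the points `P(α, *)` lie in `R` -/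
def MS (σ : F ≃+* F) (E D F' : Fin n → F) (R : Set (Fin n → F)) : Set F :=
  {α | ∃ β : F, β + σ β + α * σ α = 0 ∧ Pt E D F' α β ∈ R}

include hf hW hadd in
theorem MS_all_beta (hE : E ∈ R) {α : F} (hα : α ∈ MS σ E D F' R) (β : F)
    (hβ : β + σ β + α * σ α = 0) : Pt E D F' α β ∈ R := by
  obtain ⟨β0, hβ0, hP⟩ := hα
  have hc : σ (β - β0) = -(β - β0) := by
    rw [map_sub]; linear_combination hβ - hβ0
  have := hadd _ _ hP hE (β - β0) hc
  rw [form_Pt_E hf hW, mul_one] at this
  have e : Pt E D F' α β0 + (β - β0) • E = Pt E D F' α β := by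
    unfold Pt
    rw [sub_smul]; abel
  rwa [e] at this

include hf hW hRiso hsmul hadd in
theorem MS_affine_moved (hE : E ∈ R) {α α' : F} (hα : α ∈ MS σ E D F' R)
    (hα' : α' ∈ MS σ E D F' R) (hne : α ≠ α') {z : F} (hz : σ z ≠ z) :
    α + z * (α' - α) ∈ MS σ E D F' R := by
  have hinv := hf.involutive
  obtain ⟨β, hβ, hP⟩ := hα
  have hz1 : (1 : F) - z ≠ 0 := by
    intro h
    apply hz
    have : z = 1 := by linear_combination -h
    rw [this, map_one]
  obtain ⟨y, hy⟩ : ∃ y : F, y = z / (1 - z) := ⟨_, rfl⟩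
  have hy1 : (1 : F) + y = 1 / (1 - z) := by
    rw [hy]; field_simp; ring
  have hy1ne : (1 : F) + y ≠ 0 := by
    rw [hy1]; exact one_div_ne_zero hz1
  have hσz1 : (1 : F) - σ z ≠ 0 := by
    intro h
    apply hz1
    have : σ ((1 : F) - z) = 0 := by rw [map_sub, map_one]; exact h
    exact (map_eq_zero σ).mp this
  have hσy : σ y = σ z / (1 - σ z) := by
    rw [hy, map_div₀, map_sub, map_one]
  have hyne : σ y - y ≠ 0 := by
    rw [hσy, hy]
    intro h
    apply hz
    field_simp at h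
    linear_combination h
  obtain ⟨ν, hν⟩ : ∃ ν : F, ν = (α - α') * σ (α - α') := ⟨_, rfl⟩
  have hdne : α - α' ≠ 0 := sub_ne_zero.mpr hne
  have hνne : ν ≠ 0 := by
    rw [hν]; exact mul_ne_zero hdne ((map_ne_zero σ).mpr hdne)
  have hσν : σ ν = ν := by
    rw [hν, map_mul, hinv]; ring
  obtain ⟨c, hc⟩ : ∃ c : F, c = (σ y - y) / ν := ⟨_, rfl⟩
  have hcne : c ≠ 0 := by rw [hc]; exact div_ne_zero hyne hνne
  have hσc : σ c = -c := by
    rw [hc, map_div₀, map_sub, hinv, hσν]; ring
  obtain ⟨η, hη⟩ : ∃ η : F, η = y / c := ⟨_, rfl⟩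
  have hηtr : η + σ η = -ν := by
    have h1 : η * c = y := by rw [hη]; field_simp
    have h2 : σ η * c = -σ y := by
      have := congrArg σ h1
      rw [map_mul, hσc] at this
      linear_combination -this
    have h3 : c * ν = σ y - y := by rw [hc]; field_simp
    have : (η + σ η + ν) * c = 0 := by linear_combination h1 + h2 + h3
    rcases mul_eq_zero.mp this with h | h
    · linear_combination h
    · exact absurd h hcne
  -- the second point
  obtain ⟨β', hβ'⟩ : ∃ β' : F, β' = σ (η - β - α * σ α') := ⟨_, rfl⟩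
  have hσβ' : σ β' = η - β - α * σ α' := by rw [hβ', hinv]
  have hβ'iso : β' + σ β' + α' * σ α' = 0 := by
    have h1 : β' = σ η - σ β - σ α * α' := by
      rw [hβ', map_sub, map_sub, map_mul, hinv]
    rw [hσβ', h1]
    have h2 : ν = α * σ α - α * σ α' - α' * σ α + α' * σ α' := by
      rw [hν, map_sub]; ring
    linear_combination hηtr - hβ - h2
  have hP' : Pt E D F' α' β' ∈ R := MS_all_beta hf hW R hadd hE hα' β' hβ'iso
  have hform : f (Pt E D F' α β) (Pt E D F' α' β') = η := by
    rw [form_Pt hf hW, hσβ']; ring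
  have h3 := hadd _ _ hP hP' c hσc
  rw [hform] at h3
  have hcη : c * η = y := by rw [hη]; field_simp
  rw [hcη] at h3
  have h4 := hsmul (1 + y)⁻¹ _ h3
  -- identify the vector
  have e : (1 + y)⁻¹ • (Pt E D F' α β + y • Pt E D F' α' β') =
      Pt E D F' (α + z * (α' - α)) ((β + y * β') * (1 + y)⁻¹) := by
    have hα''eq : (α + y * α') * (1 + y)⁻¹ = α + z * (α' - α) := by
      rw [hy1, hy]; field_simp; ring
    rw [← hα''eq]
    funext i
    simp only [Pt, Pi.add_apply, Pi.smul_apply, smul_eq_mul]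
    field_simp
    ring
  rw [e] at h4
  refine ⟨(β + y * β') * (1 + y)⁻¹, ?_, h4⟩
  have := hRiso _ h4
  rw [form_Pt hf hW] at this
  linear_combination this

include hf hW hRiso hsmul hadd in
theorem MS_affine (hE : E ∈ R) {α α' : F} (hα : α ∈ MS σ E D F' R)
    (hα' : α' ∈ MS σ E D F' R) (hne : α ≠ α') (z : F) :
    α + z * (α' - α) ∈ MS σ E D F' R := by
  by_cases hz : σ z ≠ z
  · exact MS_affine_moved hf hW R hRiso hsmul hadd hE hα hα' hne hz
  push Not at hz
  by_cases hz0 : z = 0
  · rw [hz0, zero_mul, add_zero]; exact hα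
  obtain ⟨θ, hθ⟩ := exists_moved hf.ne_refl
  have hθ0 : θ ≠ 0 := by
    rintro rfl
    exact hθ (map_zero σ)
  have h1 := MS_affine_moved hf hW R hRiso hsmul hadd hE hα hα' hne hθ
  have hne1 : α ≠ α + θ * (α' - α) := by
    intro h
    have : θ * (α' - α) = 0 := by linear_combination -h
    rcases mul_eq_zero.mp this with h | h
    · exact hθ0 h
    · exact hne (by linear_combination -h)
  have hz2 : σ (z / θ) ≠ z / θ := by
    rw [map_div₀, hz]
    intro h
    have hσθ0 : σ θ ≠ 0 := (map_ne_zero σ).mpr hθ0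
    rw [div_eq_div_iff hσθ0 hθ0] at h
    exact hθ (mul_left_cancel₀ hz0 h).symm
  have h2 := MS_affine_moved hf hW R hRiso hsmul hadd hE hα h1 hne1 hz2
  have e : α + z / θ * (α + θ * (α' - α) - α) = α + z * (α' - α) := by
    field_simp
    ring
  rwa [e] at h2

include hf hW hRiso hsmul hadd in
/-- **L3, two-point form**: `E ∈ R` and two points `β₁ E + α₁ D + F'`, `β₂ E + α₂ D + F'` of `R` with
`α₁ ≠ α₂` give every isotropic vector of `⟨E, D, F'⟩` (`F'` itself need not be assumed in `R`). -/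
theorem L3_two (hE : E ∈ R) {α₁ β₁ α₂ β₂ : F} (h12 : α₁ ≠ α₂)
    (hP₁ : β₁ • E + α₁ • D + F' ∈ R) (hP₂ : β₂ • E + α₂ • D + F' ∈ R) (x y z : F)
    (hiso : f (x • E + y • D + z • F') (x • E + y • D + z • F') = 0) :
    x • E + y • D + z • F' ∈ R := by
  have hinv := hf.involutive
  have hP₁' : Pt E D F' α₁ β₁ ∈ R := by unfold Pt; rwa [one_smul]
  have hP₂' : Pt E D F' α₂ β₂ ∈ R := by unfold Pt; rwa [one_smul]
  have hβ₁ : β₁ + σ β₁ + α₁ * σ α₁ = 0 := by
    have := hRiso _ hP₁'
    rwa [form_Pt hf hW] at this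
  have hβ₂ : β₂ + σ β₂ + α₂ * σ α₂ = 0 := by
    have := hRiso _ hP₂'
    rwa [form_Pt hf hW] at this
  have hM₁ : α₁ ∈ MS σ E D F' R := ⟨β₁, hβ₁, hP₁'⟩
  have hM₂ : α₂ ∈ MS σ E D F' R := ⟨β₂, hβ₂, hP₂'⟩
  have hd : α₂ - α₁ ≠ 0 := sub_ne_zero.mpr (Ne.symm h12)
  have hall : ∀ a : F, a ∈ MS σ E D F' R := by
    intro a
    have := MS_affine hf hW R hRiso hsmul hadd hE hM₁ hM₂ h12 ((a - α₁) / (α₂ - α₁))
    have e : α₁ + (a - α₁) / (α₂ - α₁) * (α₂ - α₁) = a := by
      rw [div_mul_cancel₀ _ hd]; ring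
    rwa [e] at this
  have hiso' : x * σ z + z * σ x + y * σ y = 0 := by
    rw [form3 hf hW] at hiso; exact hiso
  by_cases hz : z = 0
  · subst hz
    rw [map_zero, mul_zero, zero_mul, zero_add, zero_add] at hiso'
    have hy : y = 0 := by
      rcases mul_eq_zero.mp hiso' with h | h
      · exact h
      · exact (map_eq_zero σ).mp h
    subst hy
    rw [zero_smul, zero_smul, add_zero, add_zero]
    exact hsmul x E hE
  · have hσz : σ z ≠ 0 := by rwa [Ne, map_eq_zero]
    have hiso2 : x / z + σ (x / z) + y / z * σ (y / z) = 0 := by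
      rw [map_div₀, map_div₀]
      field_simp
      linear_combination hiso'
    have h1 := MS_all_beta hf hW R hadd hE (hall (y / z)) (x / z) hiso2
    have h2 := hsmul z _ h1
    have e : z • Pt E D F' (y / z) (x / z) = x • E + y • D + z • F' := by
      unfold Pt
      simp only [smul_add, smul_smul]
      congr 2
      · congr 1; field_simp
      · congr 1; field_simp
      · rw [mul_one]
    rwa [e] at h2

include hf hW hRiso hsmul hadd in
/-- **L3**: `E, F' ∈ R` and ONE further point `β E + α D + F'`, `α ≠ 0`. -/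
theorem L3 (hE : E ∈ R) (hF' : F' ∈ R) {α β : F} (hα : α ≠ 0)
    (hP : β • E + α • D + F' ∈ R) (x y z : F)
    (hiso : f (x • E + y • D + z • F') (x • E + y • D + z • F') = 0) :
    x • E + y • D + z • F' ∈ R := by
  have h0 : (0 : F) • E + (0 : F) • D + F' ∈ R := by simpa using hF'
  exact L3_two hf hW R hRiso hsmul hadd hE (Ne.symm hα) h0 hP x y z hiso

end closure

end Cfsg.Agent.Lib.Helper29.SUL3
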