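/-
helper29: the unital line closure `L3` for the root vectors `Rt hF M` of helper6's `SUApiA`
(standard model `Cfsg.SU n F q`, any dimension).
-/
import Mathlib
import Cfsg.Agent.Lib.Helper29.SUL3
import Cfsg.Agent.Lib.Helper6.SUApiA

set_option autoImplicit false
set_option linter.unusedSectionVars false
set_option linter.unusedVariables false

namespace Cfsg.Agent.Lib.Helper29.SUL3

open Cfsg Cfsg.Agent.Lib.Helper5.UForm Cfsg.Agent.Lib.Helper5.HermBridge
  Cfsg.Agent.Lib.Helper6.SUApi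

variable {F : Type*} [Field F] [Fintype F] {q n : ℕ} (hF : Fintype.card F = q ^ 2)
  {M : Subgroup ↥(Cfsg.SU n F q)}

/-- two-point form of `L3` for `Rt hF M` -/
theorem L3_two_Rt {E D F' : Fin n → F} (hW : WT (Cfsg.hermForm n F q) E D F')
    (hE : E ∈ Rt hF M) {α₁ β₁ α₂ β₂ : F} (h12 : α₁ ≠ α₂)
    (hP₁ : β₁ • E + α₁ • D + F' ∈ Rt hF M) (hP₂ : β₂ • E + α₂ • D + F' ∈ Rt hF M) (x y z : F)
    (hiso : Cfsg.hermForm n F q (x • E + y • D + z • F') (x • E + y • D + z • F') = 0) :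
    x • E + y • D + z • F' ∈ Rt hF M :=
  L3_two (herm_unitary (n := n) hF) hW (Rt hF M) (fun v hv => hv.1)
    (fun a v hv => Rt_smul hF a hv)
    (fun v w hv hw c hc => Rt_add_smul hF hv hw hc) hE h12 hP₁ hP₂ x y z hiso

/-- one-point form of `L3` for `Rt hF M` (`E, F'` and one point with `α ≠ 0`) -/
theorem L3_Rt {E D F' : Fin n → F} (hW : WT (Cfsg.hermForm n F q) E D F')
    (hE : E ∈ Rt hF M) (hF' : F' ∈ Rt hF M) {α β : F} (hα : α ≠ 0)
    (hP : β • E + α • D + F' ∈ Rt hF M) (x y z : F)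
    (hiso : Cfsg.hermForm n F q (x • E + y • D + z • F') (x • E + y • D + z • F') = 0) :
    x • E + y • D + z • F' ∈ Rt hF M :=
  L3 (herm_unitary (n := n) hF) hW (Rt hF M) (fun v hv => hv.1)
    (fun a v hv => Rt_smul hF a hv)
    (fun v w hv hw c hc => Rt_add_smul hF hv hw hc) hE hF' hα hP x y z hiso

end Cfsg.Agent.Lib.Helper29.SUL3
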