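/-
helper29: Weyl elements of a hyperbolic pair inside a subgroup `M ≤ SU n F q` (helper6's `SUApiA`), and
the passage from one totally isotropic line `⟨e_i, e_j⟩ ⊆ Rt M` between two hyperbolic pairs to the
other three lines `⟨e_i, f_j⟩`, `⟨f_i, e_j⟩`, `⟨f_i, f_j⟩`.
-/
import Mathlib
import Cfsg.Agent.Lib.Helper6.SUApiA

set_option autoImplicit false
set_option linter.unusedSectionVars false
set_option linter.unusedVariables false
set_option linter.unusedSimpArgs false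

namespace Cfsg.Agent.Lib.Helper29.SUWeyl

open Cfsg Matrix Cfsg.Agent.Lib.Helper14 Cfsg.Agent.Lib.Helper5.SpMax
  Cfsg.Agent.Lib.Helper5.UForm Cfsg.Agent.Lib.Helper5.UEichler Cfsg.Agent.Lib.Helper5.HermBridge
  Cfsg.Agent.Lib.Helper5.SUGen Cfsg.Agent.Lib.Helper6.SUApi

variable {F : Type*} [Field F] [Fintype F] {q n : ℕ} (hF : Fintype.card F = q ^ 2)
  {M : Subgroup ↥(Cfsg.SU n F q)}

/-- the Weyl element `T_e(c) T_f(-1/c) T_e(c)` of a hyperbolic pair `e, f` -/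
noncomputable def wE (e f : Fin n → F) (c : F) : ↥(Cfsg.SU n F q) :=
  Tu hF e c * Tu hF f (-c⁻¹) * Tu hF e c

theorem skew_neg_inv {c : F} (hc : frobQ hF c = -c) : frobQ hF (-c⁻¹) = -(-c⁻¹) := by
  rw [map_neg, map_inv₀, hc, inv_neg]

theorem wE_mem {e f : Fin n → F} (he : e ∈ Rt hF M) (hf : f ∈ Rt hF M) {c : F}
    (hc : frobQ hF c = -c) : wE hF e f c ∈ M :=
  M.mul_mem (M.mul_mem (he.2 c hc) (hf.2 _ (skew_neg_inv hF hc))) (he.2 c hc)

section formulas
variable {e f : Fin n → F} (hee : Cfsg.hermForm n F q e e = 0) (hff : Cfsg.hermForm n F q f f = 0)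
  (hef : Cfsg.hermForm n F q e f = 1) {c : F} (hc : frobQ hF c = -c) (hc0 : c ≠ 0)
include hee hff hef hc hc0

theorem av_wE_e : av (wE hF e f c) e = (-c⁻¹) • f := by
  have hu := herm_unitary (n := n) hF
  have hfe : Cfsg.hermForm n F q f e = 1 := by rw [hu.herm, hef, map_one]
  have hd := skew_neg_inv hF hc
  have s1 : av (Tu hF e c) e = e := by
    rw [av_Tu hF hee hc, hee, mul_zero, zero_smul, add_zero]
  have s2 : av (Tu hF f (-c⁻¹)) e = e + (-c⁻¹) • f := by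
    rw [av_Tu hF hff hd, hef, mul_one]
  have s3 : av (Tu hF e c) (e + (-c⁻¹) • f) = (-c⁻¹) • f := by
    rw [av_Tu hF hee hc, hu.add_left, hu.smul_left, hee, hfe, zero_add, mul_one]
    have : c * -c⁻¹ = -1 := by field_simp
    rw [this]
    module
  unfold wE
  rw [av_mul, av_mul, s1, s2, s3]

theorem av_wE_f : av (wE hF e f c) f = c • e := by
  have hu := herm_unitary (n := n) hF
  have hfe : Cfsg.hermForm n F q f e = 1 := by rw [hu.herm, hef, map_one]
  have hd := skew_neg_inv hF hc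
  have s1 : av (Tu hF e c) f = f + c • e := by
    rw [av_Tu hF hee hc, hfe, mul_one]
  have s2 : av (Tu hF f (-c⁻¹)) (f + c • e) = c • e := by
    rw [av_Tu hF hff hd, hu.add_left, hu.smul_left, hff, hef, zero_add, mul_one]
    have : -c⁻¹ * c = -1 := by field_simp
    rw [this]
    module
  have s3 : av (Tu hF e c) (c • e) = c • e := by
    rw [av_Tu hF hee hc, hu.smul_left, hee, mul_zero, mul_zero, zero_smul, add_zero]
  unfold wE
  rw [av_mul, av_mul, s1, s2, s3]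

theorem av_wE_perp (x : Fin n → F) (hxe : Cfsg.hermForm n F q x e = 0)
    (hxf : Cfsg.hermForm n F q x f = 0) : av (wE hF e f c) x = x := by
  have hd := skew_neg_inv hF hc
  have s1 : av (Tu hF e c) x = x := by
    rw [av_Tu hF hee hc, hxe, mul_zero, zero_smul, add_zero]
  have s2 : av (Tu hF f (-c⁻¹)) x = x := by
    rw [av_Tu hF hff hd, hxf, mul_zero, zero_smul, add_zero]
  unfold wE
  rw [av_mul, av_mul, s1, s2, s1]

end formulas

/-- **Weyl lemma**: for a hyperbolic pair `e, f ∈ Rt M` there is `g ∈ M` with `g e = -(1/c) f`,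
`g f = c e`, fixing `⟨e, f⟩^⊥` pointwise. -/
theorem weyl {e f : Fin n → F} (he : e ∈ Rt hF M) (hf : f ∈ Rt hF M)
    (hef : Cfsg.hermForm n F q e f = 1) {c : F} (hc : frobQ hF c = -c) (hc0 : c ≠ 0) :
    ∃ g ∈ M, av g e = (-c⁻¹) • f ∧ av g f = c • e ∧
      ∀ x, Cfsg.hermForm n F q x e = 0 → Cfsg.hermForm n F q x f = 0 → av g x = x :=
  ⟨wE hF e f c, wE_mem hF he hf hc, av_wE_e hF he.1 hf.1 hef hc hc0,
    av_wE_f hF he.1 hf.1 hef hc hc0, av_wE_perp hF he.1 hf.1 hef hc hc0⟩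

/-- existence of a nonzero skew scalar -/
theorem exists_skew_ne : ∃ c : F, c ≠ 0 ∧ frobQ hF c = -c := by
  have hu := herm_unitary (n := 1) hF
  exact exists_skew hu.involutive hu.ne_refl

/-- moving the first vector of a line: `e + μ x ∈ Rt` for all `μ` (with `x ⊥ e, f`) gives
`f + μ x ∈ Rt` for all `μ`. -/
theorem line_swap_left {e f x : Fin n → F} (he : e ∈ Rt hF M) (hf : f ∈ Rt hF M)
    (hef : Cfsg.hermForm n F q e f = 1) (hxe : Cfsg.hermForm n F q x e = 0)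
    (hxf : Cfsg.hermForm n F q x f = 0) (hline : ∀ μ : F, e + μ • x ∈ Rt hF M) (μ : F) :
    f + μ • x ∈ Rt hF M := by
  have hu := herm_unitary (n := n) hF
  obtain ⟨c, hc0, hc⟩ := exists_skew_ne hF
  obtain ⟨g, hg, hge, -, hgx⟩ := weyl hF he hf hef hc hc0
  -- g (e + ν x) = -(1/c) f + ν x ; scale by -c
  have h1 := Rt_ap hF hg (hline (-c⁻¹ * μ))
  rw [av_add, av_smul, hge, hgx x hxe hxf] at h1
  have h2 := Rt_smul hF (-c) h1
  have e1 : (-c) • ((-c⁻¹) • f + (-c⁻¹ * μ) • x) = f + μ • x := by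
    rw [smul_add, smul_smul, smul_smul]
    have a1 : -c * -c⁻¹ = 1 := by field_simp
    have a2 : -c * (-c⁻¹ * μ) = μ := by field_simp
    rw [a1, a2, one_smul]
  rwa [e1] at h2

/-- moving the second vector of a line: `x + μ e ∈ Rt` for all `μ` (with `x ⊥ e, f`) gives
`x + μ f ∈ Rt` for all `μ`. -/
theorem line_swap_right {e f x : Fin n → F} (he : e ∈ Rt hF M) (hf : f ∈ Rt hF M)
    (hef : Cfsg.hermForm n F q e f = 1) (hxe : Cfsg.hermForm n F q x e = 0)
    (hxf : Cfsg.hermForm n F q x f = 0) (hline : ∀ μ : F, x + μ • e ∈ Rt hF M) (μ : F) :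
    x + μ • f ∈ Rt hF M := by
  obtain ⟨c, hc0, hc⟩ := exists_skew_ne hF
  obtain ⟨g, hg, hge, -, hgx⟩ := weyl hF he hf hef hc hc0
  have h1 := Rt_ap hF hg (hline (-c * μ))
  rw [av_add, av_smul, hge, hgx x hxe hxf, smul_smul] at h1
  have a1 : -c * μ * -c⁻¹ = μ := by field_simp
  rwa [a1] at h1

/-- **(G2) for one pair of hyperbolic pairs**: from the line `⟨e_i, e_j⟩` to the other three. -/
theorem lines_of_ee {ei fi ej fj : Fin n → F}
    (hei : ei ∈ Rt hF M) (hfi : fi ∈ Rt hF M) (hej : ej ∈ Rt hF M) (hfj : fj ∈ Rt hF M)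
    (hii : Cfsg.hermForm n F q ei fi = 1) (hjj : Cfsg.hermForm n F q ej fj = 1)
    (h1 : Cfsg.hermForm n F q ei ej = 0) (h2 : Cfsg.hermForm n F q ei fj = 0)
    (h3 : Cfsg.hermForm n F q fi ej = 0) (h4 : Cfsg.hermForm n F q fi fj = 0)
    (hee : ∀ μ : F, ei + μ • ej ∈ Rt hF M) :
    (∀ μ : F, ei + μ • fj ∈ Rt hF M) ∧ (∀ μ : F, fi + μ • ej ∈ Rt hF M) ∧
      (∀ μ : F, fi + μ • fj ∈ Rt hF M) := by
  have hu := herm_unitary (n := n) hF
  have sym0 : ∀ {a b : Fin n → F}, Cfsg.hermForm n F q a b = 0 → Cfsg.hermForm n F q b a = 0 :=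
    fun {a b} h => by rw [hu.herm, h, map_zero]
  have hef : ∀ μ : F, ei + μ • fj ∈ Rt hF M :=
    line_swap_right hF hej hfj hjj h1 h2 hee
  have hfe : ∀ μ : F, fi + μ • ej ∈ Rt hF M :=
    line_swap_left hF hei hfi hii (sym0 h1) (sym0 h3) hee
  have hff : ∀ μ : F, fi + μ • fj ∈ Rt hF M :=
    line_swap_left hF hei hfi hii (sym0 h2) (sym0 h4) hef
  exact ⟨hef, hfe, hff⟩

end Cfsg.Agent.Lib.Helper29.SUWeyl
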