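import Mathlib
import Cfsg.Agent.Lib.Helper7.ThetaDefs

/-!
# S1632 leaf B1 (helper29): Lagrange reduction (LDLᵀ) of a positive definite rational symmetric
matrix, by Schur complements.
-/

set_option autoImplicit false

noncomputable section

namespace Cfsg.Agent.Lib.Helper29.ThetaB1

open Cfsg.Agent.Lib.Helper7.Theta

section general

variable {K : Type*} [Field K]

/-- Schur complement of the `(0,0)` entry. -/
def schur {n : ℕ} (M : Matrix (Fin (n + 1)) (Fin (n + 1)) K) : Matrix (Fin n) (Fin n) K :=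
  fun i j => M i.succ j.succ - M 0 i.succ * M 0 j.succ / M 0 0

theorem schur_isSymm {n : ℕ} (M : Matrix (Fin (n + 1)) (Fin (n + 1)) K) (hM : M.IsSymm) :
    (schur M).IsSymm := by
  ext i j
  simp only [schur, Matrix.transpose_apply]
  rw [hM.apply i.succ j.succ]
  ring

/-- splitting off the first variable of a symmetric quadratic form -/
theorem quad_split {n : ℕ} (M : Matrix (Fin (n + 1)) (Fin (n + 1)) K) (hM : M.IsSymm)
    (hc : M 0 0 ≠ 0) (x : Fin (n + 1) → K) :
    x ⬝ᵥ M.mulVec x =
      M 0 0 * (x 0 + ∑ j : Fin n, M 0 j.succ / M 0 0 * x j.succ) ^ 2 +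
        (fun j => x j.succ) ⬝ᵥ (schur M).mulVec (fun j => x j.succ) := by
  set c := M 0 0 with hcdef
  set s : K := ∑ j : Fin n, M 0 j.succ * x j.succ with hs
  set T : K := ∑ i : Fin n, x i.succ * ∑ j : Fin n, M i.succ j.succ * x j.succ with hT
  have hL : x ⬝ᵥ M.mulVec x = c * x 0 ^ 2 + 2 * x 0 * s + T := by
    simp only [dotProduct, Matrix.mulVec, Fin.sum_univ_succ]
    have h1 : ∑ i : Fin n, x i.succ * (M i.succ 0 * x 0 + ∑ j : Fin n, M i.succ j.succ * x j.succ) =
        x 0 * s + T := by
      rw [hs, hT, Finset.mul_sum, ← Finset.sum_add_distrib]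
      apply Finset.sum_congr rfl
      intro i _
      rw [hM.apply 0 i.succ]
      ring
    rw [h1]
    ring
  have hs' : ∑ j : Fin n, M 0 j.succ / c * x j.succ = s / c := by
    rw [hs, Finset.sum_div]
    apply Finset.sum_congr rfl
    intro j _
    ring
  have hR : (fun j => x j.succ) ⬝ᵥ (schur M).mulVec (fun j => x j.succ) = T - s * s / c := by
    simp only [dotProduct, Matrix.mulVec, schur]
    have h2 : ∀ i : Fin n, ∑ j : Fin n, (M i.succ j.succ - M 0 i.succ * M 0 j.succ / M 0 0) * x j.succ =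
        ∑ j : Fin n, M i.succ j.succ * x j.succ - M 0 i.succ / c * s := by
      intro i
      rw [hs, Finset.mul_sum, ← Finset.sum_sub_distrib]
      apply Finset.sum_congr rfl
      intro j _
      ring
    simp_rw [h2, mul_sub, Finset.sum_sub_distrib]
    rw [← hT]
    congr 1
    rw [hs, Finset.sum_mul, Finset.sum_div]
    apply Finset.sum_congr rfl
    intro i _
    ring
  rw [hL, hs', hR]
  field_simp
  ring

end general

theorem schur_map {n : ℕ} (A : Matrix (Fin (n + 1)) (Fin (n + 1)) ℚ) :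
    schur (A.map (fun q : ℚ => (q : ℝ))) = (schur A).map (fun q : ℚ => (q : ℝ)) := by
  ext i j
  simp only [schur, Matrix.map_apply]
  push_cast
  ring

/-- LEAF B1: Lagrange reduction (LDLᵀ) of a positive definite rational symmetric matrix. -/
theorem exists_gdata : ∀ {n : ℕ} (A : Matrix (Fin n) (Fin n) ℚ) (_hA : A.IsSymm)
    (_hpos : ∀ x : Fin n → ℚ, x ≠ 0 → 0 < x ⬝ᵥ (A.mulVec x)),
    ∃ d : GData n, d.Pos ∧
      ∀ x : Fin n → ℝ, d.Q x = x ⬝ᵥ ((A.map (fun q : ℚ => (q : ℝ))).mulVec x)
  | 0, A, _, _ => ⟨GData.nil, trivial, fun x => by simp [dotProduct]⟩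
  | n + 1, A, hA, hpos => by
    have hc : 0 < A 0 0 := by
      have h1 := hpos (Pi.single 0 1) (by
        intro h
        have := congrFun h 0
        simp at this)
      simpa [dotProduct, Matrix.mulVec, Pi.single_apply] using h1
    have hS : (schur A).IsSymm := schur_isSymm A hA
    have hSpos : ∀ y : Fin n → ℚ, y ≠ 0 → 0 < y ⬝ᵥ ((schur A).mulVec y) := by
      intro y hy
      set x : Fin (n + 1) → ℚ := Fin.cons (-(∑ j : Fin n, A 0 j.succ / A 0 0 * y j)) y with hx
      have hx0 : x ≠ 0 := by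
        intro h
        apply hy
        funext j
        have := congrFun h j.succ
        simpa [hx] using this
      have h1 := hpos x hx0
      rw [quad_split A hA (ne_of_gt hc) x] at h1
      have h4 : ∀ j : Fin n, x j.succ = y j := fun j => by simp [hx]
      have h3 : x 0 = -(∑ j : Fin n, A 0 j.succ / A 0 0 * y j) := by simp [hx]
      simp only [h4, h3] at h1
      simpa using h1
    obtain ⟨r, hr, hrQ⟩ := exists_gdata (schur A) hS hSpos
    refine ⟨GData.cons ((A 0 0 : ℚ) : ℝ) (fun j => ((A 0 j.succ / A 0 0 : ℚ) : ℝ)) r,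
      ⟨by exact_mod_cast hc, hr⟩, ?_⟩
    intro x
    have hAR : (A.map (fun q : ℚ => (q : ℝ))).IsSymm := by
      ext i j
      simp only [Matrix.transpose_apply, Matrix.map_apply]
      rw [hA.apply j i]
    have hcR : (A.map (fun q : ℚ => (q : ℝ))) 0 0 ≠ 0 := by
      simp only [Matrix.map_apply]
      exact_mod_cast ne_of_gt hc
    rw [quad_split _ hAR hcR x, schur_map, ← hrQ, GData.Q_cons]
    simp only [Matrix.map_apply]
    push_cast
    rfl

end Cfsg.Agent.Lib.Helper29.ThetaB1

end
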