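import Mathlib
import Cfsg.Agent.Lib.Helper19.SchurCyclic
import Cfsg.Agent.Lib.Helper7.DHBDefs

/-!
# Vocabulary for the market "WD" (S3572: Wielandt, dihedral groups are B-groups)

The point stabiliser `U` of a primitive group containing a regular dihedral group acts on
`DihedralGroup n` by `star` (helper19's `SchurCyclic.Ax star`); the `star`-invariant sets
(`SchurCyclic.Inv star T`) are the S-sets of the transitivity module.  Coordinates:
`T = {r i | i ∈ XX T} ∪ {sr j | j ∈ YY T}`.
-/

set_option autoImplicit false
set_option linter.unusedSectionVars false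

namespace Cfsg.Agent.Lib.Helper29.WD

open Finset DihedralGroup

variable {n : ℕ} [NeZero n]

/-- the rotation part (`A`-part) of `T` -/
def XX (T : Finset (DihedralGroup n)) : Finset (ZMod n) := univ.filter (fun i => r i ∈ T)

/-- the reflection part (`b`-part) of `T` -/
def YY (T : Finset (DihedralGroup n)) : Finset (ZMod n) := univ.filter (fun i => sr i ∈ T)

theorem mem_XX {T : Finset (DihedralGroup n)} {i : ZMod n} : i ∈ XX T ↔ r i ∈ T := by
  simp [XX]

theorem mem_YY {T : Finset (DihedralGroup n)} {i : ZMod n} : i ∈ YY T ↔ sr i ∈ T := by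
  simp [YY]

/-- primitivity: no proper non-trivial `star`-invariant subgroup -/
def Prim {U : Type*} (star : U → DihedralGroup n → DihedralGroup n) : Prop :=
  ∀ K : Subgroup (DihedralGroup n), (∀ u, ∀ x ∈ K, star u x ∈ K) → K = ⊥ ∨ K = ⊤

/-- a trivial S-set not containing `1` -/
def Triv (T : Finset (DihedralGroup n)) : Prop := T = ∅ ∨ T = univ.erase 1

/-- the subgroup of `ZMod n` generated by the rotation part -/
def gen (T : Finset (DihedralGroup n)) : AddSubgroup (ZMod n) :=
  AddSubgroup.closure (XX T : Set (ZMod n))

/-- a "good" S-set: `star`-invariant, non-empty, not containing `1` -/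
def Good {U : Type*} [Group U] (star : U → DihedralGroup n → DihedralGroup n)
    (T : Finset (DihedralGroup n)) : Prop :=
  Cfsg.Agent.Lib.Helper19.SchurCyclic.Inv star T ∧ (1 : DihedralGroup n) ∉ T ∧ T.Nonempty

/-- `gen T` is minimal among the `gen` of good S-sets -/
def MinGen {U : Type*} [Group U] (star : U → DihedralGroup n → DihedralGroup n)
    (T : Finset (DihedralGroup n)) : Prop :=
  ∀ T' : Finset (DihedralGroup n), Good star T' → ¬ gen T' < gen T

/-- multiplication of a subset of `ZMod n` by a natural number -/
def mulSet (m : ℕ) (S : Finset (ZMod n)) : Finset (ZMod n) := S.image (fun s => m • s)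

end Cfsg.Agent.Lib.Helper29.WD
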