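import Mathlib
import Cfsg.Agent.Lib.Helper29.WDDefs

/-!
# S3572, market "WD", leaf BAS: Boolean algebra of S-sets, level sets, primitivity, rank 2 ⇒ transitivity
-/

set_option autoImplicit false
set_option linter.unusedSectionVars false
set_option linter.unusedVariables false

namespace Cfsg.Agent.Lib.Helper29.WDLeaf

open Finset DihedralGroup
open Cfsg.Agent.Lib.Helper19.SchurCyclic
open Cfsg.Agent.Lib.Helper7.DHB
open Cfsg.Agent.Lib.Helper29.WD

variable {n : ℕ} [NeZero n] {U : Type*} [Group U] {star : U → DihedralGroup n → DihedralGroup n}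
variable {T T' T₁ T₂ : Finset (DihedralGroup n)}

theorem inv_empty : Inv star (∅ : Finset (DihedralGroup n)) :=
  fun _ t ht => absurd ht (Finset.notMem_empty t)

theorem inv_univ : Inv star (univ : Finset (DihedralGroup n)) := fun _ _ _ => Finset.mem_univ _

theorem inv_union (h₁ : Inv star T₁) (h₂ : Inv star T₂) : Inv star (T₁ ∪ T₂) := by
  intro u t ht
  rw [Finset.mem_union] at ht ⊢
  exact ht.imp (h₁ u t) (h₂ u t)

theorem inv_inter (h₁ : Inv star T₁) (h₂ : Inv star T₂) : Inv star (T₁ ∩ T₂) := by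
  intro u t ht
  rw [Finset.mem_inter] at ht ⊢
  exact ⟨h₁ u t ht.1, h₂ u t ht.2⟩

theorem inv_sdiff (hax : Ax star) (h₁ : Inv star T₁) (h₂ : Inv star T₂) : Inv star (T₁ \ T₂) := by
  intro u t ht
  rw [Finset.mem_sdiff] at ht ⊢
  exact ⟨h₁ u t ht.1, fun h => ht.2 ((h₂.mem_iff hax u t).1 h)⟩

theorem inv_erase_one (hax : Ax star) (hT : Inv star T) : Inv star (T.erase 1) := by
  intro u t ht
  rw [Finset.mem_erase] at ht ⊢
  exact ⟨fun h => ht.1 ((hax.eq_one_iff u t).1 h), hT u t ht.2⟩

theorem inv_insert_one (hax : Ax star) (hT : Inv star T) : Inv star (insert 1 T) := by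
  intro u t ht
  rw [Finset.mem_insert] at ht ⊢
  rcases ht with rfl | ht
  · exact Or.inl (hax.one_right u)
  · exact Or.inr (hT u t ht)

theorem inv_biUnion {ι : Type*} (s : Finset ι) (f : ι → Finset (DihedralGroup n))
    (h : ∀ i ∈ s, Inv star (f i)) : Inv star (s.biUnion f) := by
  intro u t ht
  rw [Finset.mem_biUnion] at ht ⊢
  obtain ⟨i, hi, hti⟩ := ht
  exact ⟨i, hi, h i hi u t hti⟩

/-- level sets of a `star`-invariant function -/
theorem inv_filter (hax : Ax star) {R : Type*} (ξ : DihedralGroup n → R) (hξ : ∀ u g, ξ (star u g) = ξ g)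
    (P : R → Prop) [DecidablePred P] (hT : Inv star T) : Inv star (T.filter (fun g => P (ξ g))) := by
  intro u t ht
  rw [Finset.mem_filter] at ht ⊢
  exact ⟨hT u t ht.1, by rw [hξ]; exact ht.2⟩

/-- helper19 `eta_pow_inv`, restated -/
theorem coeff_pow_star (hax : Ax star) (hT : Inv star T) (R : Type*) [Semiring R] (j : ℕ) (u : U)
    (g : DihedralGroup n) : ((eta R T) ^ j).coeff (star u g) = ((eta R T) ^ j).coeff g :=
  eta_pow_inv (R := R) hT hax j u g

theorem inv_image_inv (hax : Ax star) (hT : Inv star T) : Inv star (T.image (fun g => g⁻¹)) := by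
  intro u t ht
  rw [Finset.mem_image] at ht ⊢
  obtain ⟨s, hs, rfl⟩ := ht
  refine ⟨(star u s⁻¹)⁻¹, ?_, inv_inv _⟩
  have := (hT.rel hax u s⁻¹ 1).2 (by simpa using hs)
  rwa [hax.one_right, mul_one] at this

theorem prim_closure (hax : Ax star) (hprim : Prim star) (hT : Inv star T) :
    Subgroup.closure (T : Set (DihedralGroup n)) = ⊥ ∨ Subgroup.closure (T : Set (DihedralGroup n)) = ⊤ :=
  hprim _ (fun u x hx => closure_inv hax (T : Set (DihedralGroup n)) (fun u e he => hT u e he) u x hx)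

theorem prim_stab (hax : Ax star) (hprim : Prim star) (hT : Inv star T) : stab T = ⊥ ∨ stab T = ⊤ :=
  hprim _ (fun u x hx => hT.stab_inv hax u x hx)

/-- helper19 has `orb`, `mem_orb`, `orb_inv`, `self_mem_orb`, `one_notMem_orb`. -/
theorem orb_subset (hT : Inv star T) {a : DihedralGroup n} (ha : a ∈ T) : orb star a ⊆ T := by
  intro g hg
  rw [mem_orb] at hg
  obtain ⟨u, rfl⟩ := hg
  exact hT u a ha

/-- rank 2 gives transitivity of `U` on `H ∖ 1` -/
theorem main_of_triv (hax : Ax star)
    (h : ∀ T : Finset (DihedralGroup n), Inv star T → (1 : DihedralGroup n) ∉ T → Triv T) :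
    ∀ a b : DihedralGroup n, a ≠ 1 → b ≠ 1 → ∃ u, star u a = b := by
  intro a b ha hb
  have hO := orb_inv hax a
  have h1 := one_notMem_orb hax ha
  rcases h _ hO h1 with h0 | h0
  · exact absurd (self_mem_orb hax a) (by rw [h0]; exact Finset.notMem_empty a)
  · have : b ∈ orb star a := by
      rw [h0, Finset.mem_erase]
      exact ⟨hb, Finset.mem_univ _⟩
    exact mem_orb.1 this

end Cfsg.Agent.Lib.Helper29.WDLeaf
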