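import Mathlib
import Cfsg.Agent.Lib.Helper7.DHBDefs
import Cfsg.Agent.Lib.Helper20.DHBPAR

/-!
helper29: leaf PINV (`m_eq_k_of_pinv`) of market "DHB" (S3616 algebraic core, planner helper7): if `T` is
`P`-invariant then `m = k`.
-/

set_option autoImplicit false

namespace Cfsg.Agent.Lib.Helper29.DHBPINV

open Finset Cfsg.Agent.Lib.Helper7.DHB

variable {n : ℕ} [NeZero n] {X Y : Finset (ZMod n)} {k l m : ℕ}

/-- a non-zero point of `P = {t | p • t = 0}` when `p ∣ n`, `p` prime. -/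
theorem exists_ne_zero_smul_eq_zero {p : ℕ} (hp : p.Prime) (hpn : p ∣ n) :
    ∃ g : ZMod n, g ≠ 0 ∧ p • g = 0 := by
  have hn0 : n ≠ 0 := NeZero.ne n
  refine ⟨((n / p : ℕ) : ZMod n), ?_, ?_⟩
  · intro h0
    rw [ZMod.natCast_eq_zero_iff] at h0
    have hpos : 0 < n / p := Nat.div_pos (Nat.le_of_dvd (Nat.pos_of_ne_zero hn0) hpn) hp.pos
    have hlt : n / p < n := Nat.div_lt_self (Nat.pos_of_ne_zero hn0) hp.one_lt
    exact absurd (Nat.le_of_dvd hpos h0) (not_le.2 hlt)
  · rw [nsmul_eq_mul, ← Nat.cast_mul, Nat.mul_div_cancel' hpn, ZMod.natCast_self]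

omit [NeZero n] in
/-- `rep X X g = |X|` for symmetric `P`-invariant `X` and `g ∈ P`. -/
theorem rep_self_of_pinv {p : ℕ} (hneg : ∀ i ∈ X, -i ∈ X) (hX : PInv p X) (g : ZMod n) (hg : p • g = 0) :
    rep X X g = X.card := by
  classical
  unfold rep
  refine Finset.card_bij (fun q _ => q.1) ?_ ?_ ?_
  · intro q hq
    exact (Finset.mem_product.mp (Finset.mem_filter.mp hq).1).1
  · intro q hq q' hq' h
    have h1 := (Finset.mem_filter.mp hq).2
    have h2 := (Finset.mem_filter.mp hq').2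
    have h3 : q.2 = q'.2 := by
      have e1 : q.2 = g - q.1 := by rw [← h1]; abel
      have e2 : q'.2 = g - q'.1 := by rw [← h2]; abel
      rw [e1, e2, h]
    exact Prod.ext h h3
  · intro a ha
    refine ⟨(a, g - a), ?_, rfl⟩
    rw [Finset.mem_filter, Finset.mem_product]
    refine ⟨⟨ha, ?_⟩, by simp⟩
    have h1 : a + -g ∈ X := hX a ha (-g) (by rw [smul_neg, hg, neg_zero])
    have h2 := hneg _ h1
    have e : -(a + -g) = g - a := by abel
    rwa [e] at h2

omit [NeZero n] in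
/-- `dif Y Y g = |Y|` for `P`-invariant `Y` and `g ∈ P`. -/
theorem dif_self_of_pinv {p : ℕ} (hY : PInv p Y) (g : ZMod n) (hg : p • g = 0) :
    dif Y Y g = Y.card := by
  classical
  unfold dif
  refine Finset.card_bij (fun q _ => q.1) ?_ ?_ ?_
  · intro q hq
    exact (Finset.mem_product.mp (Finset.mem_filter.mp hq).1).1
  · intro q hq q' hq' h
    have h1 := (Finset.mem_filter.mp hq).2
    have h2 := (Finset.mem_filter.mp hq').2
    have h3 : q.2 = q'.2 := by
      have e1 : q.2 = q.1 + g := by rw [← h1]; abel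
      have e2 : q'.2 = q'.1 + g := by rw [← h2]; abel
      rw [e1, e2, h]
    exact Prod.ext h h3
  · intro a ha
    refine ⟨(a, a + g), ?_, rfl⟩
    rw [Finset.mem_filter, Finset.mem_product]
    exact ⟨⟨ha, hY a ha g hg⟩, by simp⟩

/-- **PINV**: if `T` is `P`-invariant then `m = k`. -/
theorem m_eq_k_of_pinv {p : ℕ} (hp : p.Prime) (hpn : p ∣ n) (h : Hyp n X Y k l m)
    (hX : PInv p X) (hY : PInv p Y) : m = k := by
  classical
  obtain ⟨g, hg0, hg⟩ := exists_ne_zero_smul_eq_zero (n := n) hp hpn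
  have hgX : g ∉ X := by
    intro hgX
    have := hX g hgX (-g) (by rw [smul_neg, hg, neg_zero])
    rw [add_neg_cancel] at this
    exact h.zero_notMem this
  have h1 := h.E1 g
  rw [if_neg hg0, if_neg hgX, rep_self_of_pinv h.neg_mem hX g hg, dif_self_of_pinv hY g hg] at h1
  have h2 := (Cfsg.Agent.Lib.Helper20.DHBPAR.par h).1
  omega

end Cfsg.Agent.Lib.Helper29.DHBPINV
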