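import Mathlib
import Cfsg.Agent.Lib.Helper7.DHBDefs
import Cfsg.Agent.Lib.Helper20.DHBPAR
import Cfsg.Agent.Lib.Helper29.DHBPINV

/-!
helper29: leaf FIN (`fin_contra`, step G) of market "DHB" (S3616 algebraic core, planner helper7): the final
counting contradiction.  With `a = |X|`, `c = |Y|`, `d = a - c`: `d² = k - l`, `∑_{g ∈ P} dif Y Y g = c + (p-1)(l-a)`,
Cauchy–Schwarz over the fibres of `t ↦ p • t` gives `(p-1) d (2c-n) ≥ (p-2) c (n-c) > 0`, hence
`p d (2c-n) ≥ (p-2) n d²`, impossible for `p ∣ d`, `|2c - n| < n`, `p ≥ 3`.  No parity assumption on `n` is needed.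
-/

set_option autoImplicit false

namespace Cfsg.Agent.Lib.Helper29.DHBFIN

open Finset Cfsg.Agent.Lib.Helper7.DHB

variable {n : ℕ} [NeZero n] {X Y : Finset (ZMod n)} {k l m : ℕ}

/-- `|P| = p` for `P = {t | p • t = 0}`, `p ∣ n`. -/
theorem card_P {p : ℕ} (hpn : p ∣ n) : (univ.filter (fun t : ZMod n => p • t = 0)).card = p := by
  classical
  have h := IsAddCyclic.card_nsmulAddMonoidHom_ker (ZMod n) p
  rw [Nat.card_zmod, Nat.gcd_eq_right hpn] at h
  have h2 : Nat.card ↥(nsmulAddMonoidHom p : ZMod n →+ ZMod n).ker =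
      (univ.filter (fun t : ZMod n => p • t = 0)).card :=
    Nat.subtype_card (p := fun t => t ∈ (nsmulAddMonoidHom p : ZMod n →+ ZMod n).ker)
      (univ.filter fun t : ZMod n => p • t = 0)
      (fun t => by rw [AddMonoidHom.mem_ker, nsmulAddMonoidHom_apply]; simp)
  rw [← h2, h]

/-- every non-empty fibre of `t ↦ p • t` has `p` points. -/
theorem card_fibre {p : ℕ} (hpn : p ∣ n) (t0 : ZMod n) :
    (univ.filter (fun t : ZMod n => p • t = p • t0)).card = p := by
  classical
  refine Eq.trans ?_ (card_P (n := n) hpn)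
  refine Finset.card_bij (fun t _ => t - t0) ?_ ?_ ?_
  · intro t ht
    have := (Finset.mem_filter.mp ht).2
    exact Finset.mem_filter.mpr ⟨Finset.mem_univ _, by rw [smul_sub, this, sub_self]⟩
  · intro t _ t' _ h
    exact sub_left_injective h
  · intro s hs
    have := (Finset.mem_filter.mp hs).2
    exact ⟨s + t0, Finset.mem_filter.mpr ⟨Finset.mem_univ _, by rw [smul_add, this, zero_add]⟩, by abel⟩

/-- `|p • ZMod n| · p = n`. -/
theorem card_image_mul {p : ℕ} (hpn : p ∣ n) :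
    (univ.image (fun t : ZMod n => p • t)).card * p = n := by
  classical
  have h1 := Finset.card_eq_sum_card_fiberwise (f := fun t : ZMod n => p • t) (s := univ)
    (t := univ.image (fun t : ZMod n => p • t)) (fun t _ => Finset.mem_image_of_mem _ (Finset.mem_univ t))
  have h2 : ∀ u ∈ univ.image (fun t : ZMod n => p • t),
      (univ.filter (fun t : ZMod n => p • t = u)).card = p := by
    intro u hu
    obtain ⟨t0, -, rfl⟩ := Finset.mem_image.mp hu
    exact card_fibre hpn t0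
  rw [Finset.sum_congr rfl h2, Finset.sum_const, smul_eq_mul, Finset.card_univ, ZMod.card] at h1
  exact h1.symm

/-- pairs of `Y` inside a common `P`-coset, counted by their difference. -/
theorem card_pairs_eq_sum_dif (p : ℕ) (Y : Finset (ZMod n)) :
    ((Y ×ˢ Y).filter (fun q => p • (q.2 - q.1) = 0)).card =
      ∑ g ∈ univ.filter (fun t : ZMod n => p • t = 0), dif Y Y g := by
  classical
  rw [Finset.card_eq_sum_card_fiberwise (f := fun q : ZMod n × ZMod n => q.2 - q.1)
    (t := univ.filter (fun t : ZMod n => p • t = 0))]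
  · refine Finset.sum_congr rfl (fun g hg => ?_)
    unfold dif
    congr 1
    ext q
    simp only [mem_filter, mem_product]
    constructor
    · rintro ⟨⟨hq, _⟩, hqg⟩
      exact ⟨hq, hqg⟩
    · rintro ⟨hq, hqg⟩
      exact ⟨⟨hq, by rw [hqg]; exact (mem_filter.mp hg).2⟩, hqg⟩
  · intro q hq
    exact mem_filter.mpr ⟨mem_univ _, (mem_filter.mp hq).2⟩

/-- pairs of `Y` inside a common `P`-coset, counted by the coset (= fibre of `t ↦ p • t`). -/
theorem card_pairs_eq_sum_sq (p : ℕ) (Y : Finset (ZMod n)) :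
    ((Y ×ˢ Y).filter (fun q => p • (q.2 - q.1) = 0)).card =
      ∑ u ∈ univ.image (fun t : ZMod n => p • t), ((Y.filter (fun y => p • y = u)).card) ^ 2 := by
  classical
  rw [Finset.card_eq_sum_card_fiberwise (f := fun q : ZMod n × ZMod n => p • q.1)
    (t := univ.image (fun t : ZMod n => p • t))]
  · refine Finset.sum_congr rfl (fun u _ => ?_)
    rw [sq, ← Finset.card_product]
    congr 1
    ext q
    simp only [mem_filter, mem_product]
    constructor
    · rintro ⟨⟨⟨h1, h2⟩, h3⟩, h4⟩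
      rw [smul_sub, sub_eq_zero] at h3
      exact ⟨⟨h1, h4⟩, ⟨h2, by rw [h3, h4]⟩⟩
    · rintro ⟨⟨h1, h4⟩, ⟨h2, h5⟩⟩
      exact ⟨⟨⟨h1, h2⟩, by rw [smul_sub, h4, h5, sub_self]⟩, h4⟩
  · intro q _
    exact mem_image_of_mem _ (mem_univ _)

/-- the fibres of `t ↦ p • t` partition `Y`. -/
theorem sum_fibre (p : ℕ) (Y : Finset (ZMod n)) :
    ∑ u ∈ univ.image (fun t : ZMod n => p • t), (Y.filter (fun y => p • y = u)).card = Y.card := by
  classical
  exact (Finset.card_eq_sum_card_fiberwise (f := fun y : ZMod n => p • y) (s := Y)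
    (t := univ.image (fun t : ZMod n => p • t)) (fun y _ => mem_image_of_mem _ (mem_univ _))).symm

/-- Cauchy–Schwarz over the `P`-cosets: `p |Y|² ≤ n ∑_{g ∈ P} dif Y Y g`. -/
theorem cs_cosets {p : ℕ} (hpn : p ∣ n) (Y : Finset (ZMod n)) :
    p * Y.card ^ 2 ≤ n * ∑ g ∈ univ.filter (fun t : ZMod n => p • t = 0), dif Y Y g := by
  classical
  have hcs := sq_sum_le_card_mul_sum_sq (s := univ.image (fun t : ZMod n => p • t))
    (f := fun u => (Y.filter (fun y => p • y = u)).card)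
  rw [sum_fibre, ← card_pairs_eq_sum_sq, card_pairs_eq_sum_dif] at hcs
  have hI := card_image_mul (n := n) hpn
  calc p * Y.card ^ 2 ≤ p * ((univ.image (fun t : ZMod n => p • t)).card *
        ∑ g ∈ univ.filter (fun t : ZMod n => p • t = 0), dif Y Y g) := Nat.mul_le_mul_left _ hcs
    _ = n * ∑ g ∈ univ.filter (fun t : ZMod n => p • t = 0), dif Y Y g := by
      rw [← mul_assoc, mul_comm p, hI]

/-- `∑_{g ∈ P} dif Y Y g = |Y| + (p - 1)(l - |X|)` in additive form. -/
theorem sum_dif_P {p : ℕ} (hpn : p ∣ n) (h : Hyp n X Y k l m) (hlm : l = m) (hXinv : PInv p X) :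
    ∑ g ∈ univ.filter (fun t : ZMod n => p • t = 0), dif Y Y g + (p - 1) * X.card =
      Y.card + (p - 1) * l := by
  classical
  set P := univ.filter (fun t : ZMod n => p • t = 0) with hP
  have h0 : (0 : ZMod n) ∈ P := mem_filter.mpr ⟨mem_univ _, smul_zero _⟩
  have hg : ∀ g ∈ P.erase 0, dif Y Y g + X.card = l := by
    intro g hg
    have hg0 : g ≠ 0 := (mem_erase.mp hg).1
    have hgP : p • g = 0 := (mem_filter.mp (mem_erase.mp hg).2).2
    have h1 := h.E1 g
    rw [if_neg hg0, Cfsg.Agent.Lib.Helper29.DHBPINV.rep_self_of_pinv h.neg_mem hXinv g hgP] at h1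
    split_ifs at h1 <;> omega
  have hcard : (P.erase 0).card = p - 1 := by
    rw [card_erase_of_mem h0, hP, card_P hpn]
  have hsum : ∑ g ∈ P.erase 0, (dif Y Y g + X.card) = (p - 1) * l := by
    rw [Finset.sum_congr rfl hg, Finset.sum_const, smul_eq_mul, hcard]
  rw [Finset.sum_add_distrib, Finset.sum_const, smul_eq_mul, hcard] at hsum
  rw [← Finset.add_sum_erase P _ h0, Cfsg.Agent.Lib.Helper20.DHBPAR.dif_self_zero]
  omega

/-- final integer arithmetic, case `e > 0`. -/
theorem arith_pos (Pp N e w : ℤ) (hP : 3 ≤ Pp) (hN : 0 < N) (hw : w < N) (he : 0 < e)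
    (hkey : (Pp - 2) * N * e ^ 2 ≤ e * w) : False := by
  have he1 : 1 ≤ e := he
  have h1 : 0 ≤ (Pp - 3) * (N * e ^ 2) := mul_nonneg (by linarith) (mul_nonneg hN.le (sq_nonneg e))
  have h2 : 0 ≤ N * (e * (e - 1)) := mul_nonneg hN.le (mul_nonneg he.le (by linarith))
  have h3 : 0 < e * (N - w) := mul_pos he (by linarith)
  nlinarith [h1, h2, h3, hkey]

/-- final integer arithmetic. -/
theorem arith (Pp N e w : ℤ) (hP : 3 ≤ Pp) (hN : 0 < N) (hw : w < N) (hw' : -N < w)
    (hew : 0 < e * w) (hkey : (Pp - 2) * N * e ^ 2 ≤ e * w) : False := by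
  rcases lt_trichotomy e 0 with he | he | he
  · refine arith_pos Pp N (-e) (-w) hP hN (by linarith) (by linarith) ?_
    have e1 : (-e) ^ 2 = e ^ 2 := by ring
    have e2 : -e * -w = e * w := by ring
    rw [e1, e2]
    exact hkey
  · rw [he, zero_mul] at hew
    exact lt_irrefl _ hew
  · exact arith_pos Pp N e w hP hN hw he hkey

/-- **FIN** (step G): the final counting contradiction. -/
theorem fin_contra {p : ℕ} (hp : p.Prime) (hp3 : 3 ≤ p) (hpn : p ∣ n) (h : Hyp n X Y k l m) (hlm : l = m)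
    (hXinv : PInv p X) (hX : X.Nonempty) (hY : Y.Nonempty) (hY' : (Yᶜ).Nonempty)
    (hdiv : (p : ℤ) ∣ (k : ℤ) - l) : False := by
  classical
  obtain ⟨f1, f2, f3⟩ := Cfsg.Agent.Lib.Helper20.DHBPAR.par h
  have hS := sum_dif_P hpn h hlm hXinv
  have hCS := cs_cosets hpn Y
  have ha : 0 < X.card := card_pos.mpr hX
  have hc : 0 < Y.card := card_pos.mpr hY
  have hcn : Y.card < n := by
    have h1 := card_pos.mpr hY'
    rw [card_compl, ZMod.card] at h1
    omega
  subst hlm
  generalize (∑ g ∈ univ.filter (fun t : ZMod n => p • t = 0), dif Y Y g) = S at hS hCS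
  generalize X.card = a at f1 f2 f3 hS ha
  generalize Y.card = c at f1 f2 f3 hS hCS hc hcn
  -- cast everything to `ℤ`
  have f1' : (a : ℤ) + c = k := by exact_mod_cast f1
  have f2' : 2 * (a : ℤ) * c = l * n := by
    have : 2 * a * c = l * n := by
      have := f2
      omega
    exact_mod_cast this
  have f3' : (a : ℤ) ^ 2 + c ^ 2 + l * (a + 1) = k + l * a + l * n := by exact_mod_cast f3
  have hp1 : ((p - 1 : ℕ) : ℤ) = (p : ℤ) - 1 := Nat.cast_pred hp.pos
  have hS' : (S : ℤ) + ((p : ℤ) - 1) * a = c + ((p : ℤ) - 1) * l := by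
    rw [← hp1]
    exact_mod_cast hS
  have hCS' : (p : ℤ) * (c : ℤ) ^ 2 ≤ n * S := by exact_mod_cast hCS
  have hP3 : (3 : ℤ) ≤ p := by exact_mod_cast hp3
  have hN : (0 : ℤ) < n := by
    have : 0 < n := Nat.pos_of_ne_zero (NeZero.ne n)
    exact_mod_cast this
  have hcZ : (0 : ℤ) < c := by exact_mod_cast hc
  have hcnZ : (c : ℤ) < n := by exact_mod_cast hcn
  have haZ : (0 : ℤ) < a := by exact_mod_cast ha
  -- `d² = k - l`, so `p ∣ d`
  have hd2 : ((a : ℤ) - c) ^ 2 = k - l := by linear_combination f3' - f2'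
  have hpd : (p : ℤ) ∣ (a : ℤ) - c := by
    rw [← hd2] at hdiv
    exact Int.Prime.dvd_pow' hp hdiv
  obtain ⟨e, he⟩ := hpd
  set w : ℤ := 2 * c - n with hw
  -- Cauchy–Schwarz rewritten
  have key1 : ((p : ℤ) - 2) * (c * (n - c)) ≤ ((p : ℤ) - 1) * (((a : ℤ) - c) * w) := by
    have e1 : ((p : ℤ) - 1) * (((a : ℤ) - c) * w) - ((p : ℤ) - 2) * (c * (n - c)) =
        n * S - p * c ^ 2 := by
      have hSv : (S : ℤ) = c + ((p : ℤ) - 1) * l - ((p : ℤ) - 1) * a := by linarith
      rw [hSv, hw]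
      linear_combination ((p : ℤ) - 1) * f2'
    linarith
  have key2 : 2 * ((c : ℤ) * (n - c)) = n * ((a : ℤ) - c) ^ 2 + ((a : ℤ) - c) * w := by
    rw [hd2, hw, ← f1']
    linear_combination -f2'
  have hpos : 0 < ((p : ℤ) - 2) * (c * (n - c)) :=
    mul_pos (by linarith) (mul_pos hcZ (by linarith))
  have hdw : 0 < ((a : ℤ) - c) * w := by
    have h1 : 0 < ((p : ℤ) - 1) * (((a : ℤ) - c) * w) := lt_of_lt_of_le hpos key1
    exact pos_of_mul_pos_right h1 (by linarith)
  have key3 : ((p : ℤ) - 2) * n * ((a : ℤ) - c) ^ 2 ≤ p * (((a : ℤ) - c) * w) := by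
    have key2' : ((p : ℤ) - 2) * (2 * ((c : ℤ) * (n - c))) =
        ((p : ℤ) - 2) * (n * ((a : ℤ) - c) ^ 2 + ((a : ℤ) - c) * w) := by rw [key2]
    nlinarith [key1, key2']
  rw [he] at key3 hdw
  have hpZ : (0 : ℤ) < p := by linarith
  have hew : 0 < e * w := by
    have : 0 < (p : ℤ) * (e * w) := by
      have e1 : (p : ℤ) * (e * w) = (p : ℤ) * e * w := by ring
      rw [e1]; exact hdw
    exact pos_of_mul_pos_right this hpZ.le
  have hkey : ((p : ℤ) - 2) * n * e ^ 2 ≤ e * w := by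
    have h1 : (p : ℤ) ^ 2 * (((p : ℤ) - 2) * n * e ^ 2) ≤ (p : ℤ) ^ 2 * (e * w) := by
      have e1 : (p : ℤ) ^ 2 * (((p : ℤ) - 2) * n * e ^ 2) = ((p : ℤ) - 2) * n * ((p : ℤ) * e) ^ 2 := by ring
      have e2 : (p : ℤ) ^ 2 * (e * w) = p * ((p : ℤ) * e * w) := by ring
      rw [e1, e2]
      exact key3
    exact le_of_mul_le_mul_left h1 (by positivity)
  exact arith p n e w hP3 hN (by rw [hw]; linarith) (by rw [hw]; linarith) hew hkey

end Cfsg.Agent.Lib.Helper29.DHBFIN
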