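/-
helper29: S2524-SL2 leaf (S1) - `SL_2(F) ≃* Sp_2(F)` (matrices over `Fin 1 ⊕ Fin 1`), matching the
unitriangular elements and the central involution.
-/
import Mathlib
import Cfsg.Agent.Lib.Helper10.WGDefs
import Cfsg.Agent.Lib.Helper13.SL2SurjDefs
import Cfsg.Agent.Lib.Helper13.SLBridge4
import Cfsg.Agent.Lib.Helper13.PSL2ClassSizeOdd

set_option autoImplicit false

namespace Cfsg.Agent.Lib.Helper29.WGSS1

open Matrix Cfsg Cfsg.Agent.Lib.Helper11.LS Cfsg.Agent.Lib.Helper10.WG Cfsg.Agent.Lib.Helper13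
  Cfsg.Agent.Lib.Helper13.SL2Surj
open scoped ComplexConjugate

universe u

section sl2

variable {F : Type*} [Field F] [Fintype F] [DecidableEq F]

set_option linter.unusedSectionVars false

/-- the `1 × 1` matrix `(a)` -/
def c1 (a : F) : Matrix (Fin 1) (Fin 1) F := Matrix.of fun _ _ => a

@[simp] theorem c1_apply (a : F) (i j : Fin 1) : c1 a i j = a := rfl

theorem c1_mul (a b : F) : c1 a * c1 b = c1 (a * b) := by
  ext i j
  simp [Matrix.mul_apply]

theorem c1_add (a b : F) : c1 a + c1 b = c1 (a + b) := by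
  ext i j
  simp

theorem c1_sub (a b : F) : c1 a - c1 b = c1 (a - b) := by
  ext i j
  simp

theorem c1_transpose (a : F) : (c1 a)ᵀ = c1 a := by
  ext i j
  simp

theorem c1_one : c1 (1 : F) = 1 := by
  ext i j
  obtain rfl := Subsingleton.elim i j
  simp

theorem c1_zero : c1 (0 : F) = 0 := by
  ext i j
  simp

theorem c1_neg_one : c1 (-1 : F) = -1 := by
  ext i j
  obtain rfl := Subsingleton.elim i j
  simp

theorem c1_single (t : F) : c1 t = single (0 : Fin 1) (0 : Fin 1) t := by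
  ext i j
  obtain rfl := Subsingleton.elim i 0
  obtain rfl := Subsingleton.elim j 0
  simp

theorem c1_inj {a b : F} (h : c1 a = c1 b) : a = b := by
  have := congrFun (congrFun h 0) 0
  simpa using this

/-- the `2 × 2` matrix as a block matrix over `Fin 1 ⊕ Fin 1` -/
def toSpMat (A : Matrix (Fin 2) (Fin 2) F) : Matrix (Fin 1 ⊕ Fin 1) (Fin 1 ⊕ Fin 1) F :=
  fromBlocks (c1 (A 0 0)) (c1 (A 0 1)) (c1 (A 1 0)) (c1 (A 1 1))

/-- the block matrix over `Fin 1 ⊕ Fin 1` as a `2 × 2` matrix -/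
def ofSpMat (M : Matrix (Fin 1 ⊕ Fin 1) (Fin 1 ⊕ Fin 1) F) : Matrix (Fin 2) (Fin 2) F :=
  !![M (Sum.inl 0) (Sum.inl 0), M (Sum.inl 0) (Sum.inr 0);
     M (Sum.inr 0) (Sum.inl 0), M (Sum.inr 0) (Sum.inr 0)]

theorem ofSpMat_toSpMat (A : Matrix (Fin 2) (Fin 2) F) : ofSpMat (toSpMat A) = A := by
  ext i j
  fin_cases i <;> fin_cases j <;> rfl

theorem toSpMat_ofSpMat (M : Matrix (Fin 1 ⊕ Fin 1) (Fin 1 ⊕ Fin 1) F) :
    toSpMat (ofSpMat M) = M := by
  ext i j
  rcases i with i | i <;> rcases j with j | j <;>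
    (obtain rfl := Subsingleton.elim i 0; obtain rfl := Subsingleton.elim j 0; rfl)

theorem toSpMat_mul (A B : Matrix (Fin 2) (Fin 2) F) :
    toSpMat (A * B) = toSpMat A * toSpMat B := by
  rw [toSpMat, toSpMat, toSpMat, fromBlocks_multiply]
  simp only [c1_mul, c1_add, Matrix.mul_apply, Fin.sum_univ_two]

theorem toSpMat_one : toSpMat (1 : Matrix (Fin 2) (Fin 2) F) = 1 := by
  rw [toSpMat, ← fromBlocks_one]
  simp [c1_one, c1_zero]

theorem toSpMat_mem {A : Matrix (Fin 2) (Fin 2) F} (hA : A.det = 1) :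
    toSpMat A ∈ Matrix.symplecticGroup (Fin 1) F := by
  rw [toSpMat, SymplecticGroup.fromBlocks_mem_iff]
  rw [Matrix.det_fin_two] at hA
  refine ⟨?_, ?_, ?_⟩
  · rw [c1_transpose, c1_transpose, c1_mul, c1_mul, mul_comm]
  · rw [c1_transpose, c1_transpose, c1_mul, c1_mul, mul_comm]
  · rw [c1_transpose, c1_transpose, c1_mul, c1_mul, c1_sub, ← c1_one, ← hA]
    congr 1
    ring

theorem det_ofSpMat {M : Matrix (Fin 1 ⊕ Fin 1) (Fin 1 ⊕ Fin 1) F}
    (hM : M ∈ Matrix.symplecticGroup (Fin 1) F) : (ofSpMat M).det = 1 := by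
  have h := toSpMat_ofSpMat M
  rw [← h, toSpMat, SymplecticGroup.fromBlocks_mem_iff] at hM
  have h3 := hM.2.2
  rw [c1_transpose, c1_transpose, c1_mul, c1_mul, c1_sub, ← c1_one] at h3
  rw [Matrix.det_fin_two, ← c1_inj h3]
  ring

/-- `SL_2(F) ≃* Sp_2(F)` -/
def sl2EquivSp : SpecialLinearGroup (Fin 2) F ≃* SpG F 1 where
  toFun A := ⟨toSpMat A.1, toSpMat_mem A.2⟩
  invFun M := ⟨ofSpMat M.1, det_ofSpMat M.2⟩
  left_inv A := Subtype.ext (ofSpMat_toSpMat A.1)
  right_inv M := Subtype.ext (toSpMat_ofSpMat M.1)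
  map_mul' A B := Subtype.ext (toSpMat_mul A.1 B.1)

/-- (S1) `SL_2(F) ≃ Sp_2(F)` (`Matrix.symplecticGroup (Fin 1) F`, matrices over `Fin 1 ⊕ Fin 1`; reindex by
`0 ↦ inl 0`, `1 ↦ inr 0`; for a `2 × 2` matrix `A J Aᵀ = det A • J`), matching the unitriangular elements
and the central involution. -/
theorem exists_sl2_equiv_sp :
    ∃ e : SpecialLinearGroup (Fin 2) F ≃* SpG F 1,
      (∀ t : F, e (upSL t) = Xs (single (0 : Fin 1) (0 : Fin 1) t) (by simp)) ∧
      e (zSL F) = LvG (-1 : GL (Fin 1) F) := by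
  refine ⟨sl2EquivSp, fun t => ?_, ?_⟩
  · apply Subtype.ext
    show toSpMat (upSL t).1 = fromBlocks 1 (single (0 : Fin 1) (0 : Fin 1) t) 0 1
    rw [toSpMat, ← c1_single, ← c1_one, ← c1_zero]
    simp [upSL]
  · apply Subtype.ext
    show toSpMat (zSL F).1 = _
    rw [LvG_val, toSpMat]
    have e1 : ((-1 : GL (Fin 1) F) : Matrix (Fin 1) (Fin 1) F) = -1 := by
      rw [Units.val_neg, Units.val_one]
    have e2 : ((-1 : GL (Fin 1) F)⁻¹ : GL (Fin 1) F) = -1 := by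
      rw [inv_neg, inv_one]
    rw [e2, e1, transpose_neg, transpose_one, ← c1_neg_one, ← c1_zero]
    simp [zSL]

end sl2

end Cfsg.Agent.Lib.Helper29.WGSS1
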