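/-
helper29: S4504 step (VI), leaf BRVI-SING (`card_singular`) of `notes/S4504_VI_leaves.lean` (planner helper23).
-/
import Mathlib
import Cfsg.Prelude.Def_BlockRank
import Cfsg.Agent.Lib.Helper6.BRHDefs
import Cfsg.Agent.Lib.Helper23.BRVIDefs

set_option autoImplicit false

namespace Cfsg.Agent.Lib.Helper29.BRVISING

open Cfsg Cfsg.Agent.Lib.Helper8.DOM Cfsg.Agent.Lib.Helper27.DO Cfsg.Agent.CharLib
open Cfsg.Agent.Lib.Helper6.BRH Cfsg.Agent.Lib.Helper23.BRVI
open scoped ComplexConjugate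

universe u

variable {G : Type u} [Group G] [Finite G] {p : ℕ} [Fact p.Prime]

/-- first orthogonality relation against the trivial character -/
theorem sum_irr_apply [Fintype G] (χ : IrrCharacter G) :
    ∑ g : G, (χ : G → ℂ) g = if χ = trivIrr G then (Nat.card G : ℂ) else 0 := by
  have h := classInner_irr' χ (trivIrr G)
  unfold classInner at h
  have h1 : ∀ g : G, (χ : G → ℂ) g * conj ((trivIrr G : G → ℂ) g) = (χ : G → ℂ) g := by
    intro g
    have : (trivIrr G : G → ℂ) g = 1 := rfl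
    rw [this, map_one, mul_one]
  simp only [h1] at h
  have hG0 : (Nat.card G : ℂ) ≠ 0 := Nat.cast_ne_zero.mpr Nat.card_pos.ne'
  have h2 : ∑ g : G, (χ : G → ℂ) g = (Nat.card G : ℂ) * (if χ = trivIrr G then 1 else 0) := by
    rw [← h, ← mul_assoc, mul_inv_cancel₀ hG0, one_mul]
  rw [h2]
  split_ifs <;> simp

/-- a subgroup of order `p` contains a `p`-singular element -/
theorem exists_singular (P : Subgroup G) (hP : Nat.card P = p) : ∃ x ∈ P, p ∣ orderOf x := by
  have hpp : p.Prime := Fact.out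
  obtain ⟨y, hy⟩ := exists_prime_orderOf_dvd_card' (G := P) p (by rw [hP])
  refine ⟨(y : G), y.2, ?_⟩
  rw [Subgroup.orderOf_coe, hy]

/-- SING : the number of `p`-singular elements. -/
theorem card_singular (P : Subgroup G) (hP : Nat.card P = p) (h2f : 2 * (Cz P).relIndex (Nz P) = p - 1)
    (hf2 : 2 ≤ (Cz P).relIndex (Nz P))
    (X Y : Set (IrrCharacter G)) (v : IrrCharacter G → ℤ) (ε : ℤ) (d : B0 p P X Y v ε)
    (hrel : ∀ ξ ∈ Y, ∀ g : G, ¬ p ∣ orderOf g →
      (ε : ℂ) * (ξ : G → ℂ) g = ∑ᶠ χ ∈ X, (v χ : ℂ) * (χ : G → ℂ) g) :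
    p * Nat.card {g : G // p ∣ orderOf g} = 2 * Nat.card G := by
  classical
  letI : Fintype G := Fintype.ofFinite G
  have hpp : p.Prime := Fact.out
  have hp1 : 1 < p := hpp.one_lt
  set f := (Cz P).relIndex (Nz P) with hfdef
  have hX : X.Finite := Set.toFinite X
  have hY : Y.Finite := Set.toFinite Y
  obtain ⟨x, hxP, hxs⟩ := exists_singular P hP
  -- v triv = 1
  have hvt : v (trivIrr G) = 1 := by
    have h := d.valX (trivIrr G) d.trivX x hxs
    have h1 : (trivIrr G : G → ℂ) x = 1 := rfl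
    rw [h1] at h
    exact_mod_cast h.symm
  have hsq : ∀ η ∈ X, (v η : ℂ) * (v η : ℂ) = 1 := by
    intro η hη
    rcases d.sgnX η hη with h | h <;> rw [h] <;> norm_num
  have hεsq : (ε : ℂ) * (ε : ℂ) = 1 := by
    rcases d.sgn with h | h <;> rw [h] <;> norm_num
  have hcardX : hX.toFinset.card = f := by
    have h := d.cardX
    rw [Nat.card_coe_set_eq, Set.ncard_eq_toFinset_card X hX] at h
    exact h
  have hcardY : hY.toFinset.card = 2 := by
    have h := d.cardY
    rw [Nat.card_coe_set_eq, Set.ncard_eq_toFinset_card Y hY, ← h2f] at h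
    rw [h]
    exact Nat.mul_div_cancel _ (by omega)
  -- per ξ
  have hper : ∀ ξ ∈ Y, (Nat.card G : ℂ) =
      ∑ g ∈ Finset.univ.filter (fun g : G => p ∣ orderOf g), ((f : ℂ) - (ε : ℂ) * (ξ : G → ℂ) g) := by
    intro ξ hξ
    have hξt : ξ ≠ trivIrr G := by
      intro h
      exact Set.disjoint_left.mp d.disj d.trivX (h ▸ hξ)
    have hA : ∑ g : G, (∑ χ ∈ hX.toFinset, (v χ : ℂ) * (χ : G → ℂ) g - (ε : ℂ) * (ξ : G → ℂ) g) =
        (Nat.card G : ℂ) := by
      rw [Finset.sum_sub_distrib, Finset.sum_comm, ← Finset.mul_sum, sum_irr_apply ξ, if_neg hξt,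
        mul_zero, sub_zero]
      simp only [← Finset.mul_sum, sum_irr_apply]
      rw [Finset.sum_eq_single (trivIrr G)]
      · rw [if_pos rfl, hvt]; simp
      · intro b _ hb
        rw [if_neg hb, mul_zero]
      · intro h
        exact absurd ((Set.Finite.mem_toFinset hX).mpr d.trivX) h
    rw [← hA, Finset.sum_filter]
    apply Finset.sum_congr rfl
    intro g _
    by_cases hg : p ∣ orderOf g
    · rw [if_pos hg]
      congr 1
      have : ∀ χ ∈ hX.toFinset, (v χ : ℂ) * (χ : G → ℂ) g = 1 := by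
        intro χ hχ
        have hχX := (Set.Finite.mem_toFinset hX).mp hχ
        rw [d.valX χ hχX g hg, hsq χ hχX]
      rw [Finset.sum_congr rfl this, Finset.sum_const, hcardX]
      simp
    · rw [if_neg hg, hrel ξ hξ g hg, finsum_mem_eq_finite_toFinset_sum _ hX, sub_self]
  -- sum over Y
  have hsumY : ∀ g : G, p ∣ orderOf g → ∑ ξ ∈ hY.toFinset, (ξ : G → ℂ) g = -(ε : ℂ) := by
    intro g hg
    rw [← finsum_mem_eq_finite_toFinset_sum _ hY]
    exact d.sumY g hg
  have htot : ∑ ξ ∈ hY.toFinset, (Nat.card G : ℂ) =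
      ∑ ξ ∈ hY.toFinset, ∑ g ∈ Finset.univ.filter (fun g : G => p ∣ orderOf g),
        ((f : ℂ) - (ε : ℂ) * (ξ : G → ℂ) g) :=
    Finset.sum_congr rfl (fun ξ hξ => hper ξ ((Set.Finite.mem_toFinset hY).mp hξ))
  rw [Finset.sum_const, hcardY, Finset.sum_comm] at htot
  have hin : ∀ g ∈ Finset.univ.filter (fun g : G => p ∣ orderOf g),
      ∑ ξ ∈ hY.toFinset, ((f : ℂ) - (ε : ℂ) * (ξ : G → ℂ) g) = (p : ℂ) := by
    intro g hg
    have hg' : p ∣ orderOf g := (Finset.mem_filter.mp hg).2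
    rw [Finset.sum_sub_distrib, Finset.sum_const, hcardY, ← Finset.mul_sum, hsumY g hg']
    have : p = 2 * f + 1 := by omega
    rw [this]
    push_cast
    linear_combination hεsq
  rw [Finset.sum_congr rfl hin, Finset.sum_const] at htot
  have hcard : Nat.card {g : G // p ∣ orderOf g} =
      (Finset.univ.filter (fun g : G => p ∣ orderOf g)).card := by
    rw [Nat.card_eq_fintype_card, Fintype.card_subtype]
  rw [hcard]
  have : ((p * (Finset.univ.filter (fun g : G => p ∣ orderOf g)).card : ℕ) : ℂ) =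
      ((2 * Nat.card G : ℕ) : ℂ) := by
    push_cast
    simp only [nsmul_eq_mul] at htot
    linear_combination -htot
  exact_mod_cast this

end Cfsg.Agent.Lib.Helper29.BRVISING
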