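/-
helper29: S4504 step (VI), leaf BRVI-UVAL (`exc_values`) of `notes/S4504_VI_leaves.lean` (planner helper23).
-/
import Mathlib
import Cfsg.Prelude.Def_BlockRank
import Cfsg.Agent.Lib.Helper6.BRHDefs
import Cfsg.Agent.Lib.Helper23.BRVIDefs

set_option autoImplicit false

namespace Cfsg.Agent.Lib.Helper29.BRVIUVAL

open Cfsg Cfsg.Agent.Lib.Helper8.DOM Cfsg.Agent.Lib.Helper27.DO Cfsg.Agent.CharLib
open Cfsg.Agent.Lib.Helper6.BRH Cfsg.Agent.Lib.Helper23.BRVI
open scoped ComplexConjugate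

universe u

variable {G : Type u} [Group G] [Finite G] {p : ℕ} [Fact p.Prime]

theorem zeta_pow_p (p : ℕ) [hp : Fact p.Prime] : zetaP p ^ p = 1 :=
  (Complex.isPrimitiveRoot_exp p hp.out.ne_zero).pow_eq_one

theorem zeta_pow_mod (p : ℕ) [Fact p.Prime] (k : ℕ) : zetaP p ^ (k % p) = zetaP p ^ k := by
  conv_rhs => rw [← Nat.div_add_mod k p, pow_add, pow_mul, zeta_pow_p, one_pow, one_mul]

/-- the sum over `P` split into the value at `1` and the sum over `P \ 1` -/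
theorem finsum_mem_subgroup_split (P : Subgroup G) (g : G → ℂ) :
    ∑ᶠ a ∈ (P : Set G), g a = g 1 + ∑ᶠ a ∈ {a : G | a ∈ P ∧ a ≠ 1}, g a := by
  have h : (P : Set G) = insert 1 {a : G | a ∈ P ∧ a ≠ 1} := by
    ext a
    simp only [SetLike.mem_coe, Set.mem_insert_iff, Set.mem_ofPred_eq]
    constructor
    · intro ha
      by_cases h1 : a = 1
      · exact Or.inl h1
      · exact Or.inr ⟨ha, h1⟩
    · rintro (rfl | ⟨ha, -⟩)
      · exact P.one_mem
      · exact ha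
  rw [h, finsum_mem_insert _ (by simp) (Set.toFinite _)]

/-- UVAL : the values of `ψ = ψs i` and `ψ' = ψs (i c)` at `x0`, `x0^c`. -/
theorem exc_values (P : Subgroup G) (hP : Nat.card P = p) (x0 : G) (hx0 : P = Subgroup.zpowers x0)
    (F : Subgroup (ZMod p)ˣ) (f : ℕ) (hf : 0 < f) (c : (ZMod p)ˣ) (hcc : c * c ∈ F)
    (hps : ∀ g : G → ℂ, IsClassFunction G g →
      ∑ᶠ a ∈ {a : G | a ∈ P ∧ a ≠ 1}, g a = (f : ℂ) * (g x0 + g (x0 ^ (c : ZMod p).val)))
    (h2f : 2 * f = p - 1)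
    (ψs : (ZMod p)ˣ → IrrCharacter G) (i : (ZMod p)ˣ)
    (hval : ∀ (i' : (ZMod p)ˣ) (j : ℕ), ¬ p ∣ j → (ψs i' : G → ℂ) (x0 ^ j) =
      ∑ᶠ w ∈ (F : Set (ZMod p)ˣ), zetaP p ^ (((w : ZMod p) * (i' : ZMod p)).val * j))
    (horth : ∑ᶠ a ∈ (P : Set G), (ψs i : G → ℂ) a * conj ((ψs (i * c) : G → ℂ) a) = 0)
    (hsum0 : ∑ᶠ a ∈ (P : Set G), (ψs i : G → ℂ) a = 0)
    (hdeg : charDegree (ψs i : G → ℂ) = f) (hdeg' : (ψs (i * c) : G → ℂ) 1 = (ψs i : G → ℂ) 1) :
    (ψs (i * c) : G → ℂ) x0 = (ψs i : G → ℂ) (x0 ^ (c : ZMod p).val) ∧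
    (ψs (i * c) : G → ℂ) (x0 ^ (c : ZMod p).val) = (ψs i : G → ℂ) x0 ∧
    Complex.normSq ((ψs i : G → ℂ) x0 - (ψs i : G → ℂ) (x0 ^ (c : ZMod p).val)) = (p : ℝ) := by
  classical
  have hpp : p.Prime := Fact.out
  have hp1 : 1 < p := hpp.one_lt
  have h1 : ¬ p ∣ 1 := fun h => hp1.ne' (Nat.dvd_one.mp h)
  have hcv : ¬ p ∣ (c : ZMod p).val := by
    intro hdvd
    have h0 : ((c : ZMod p).val : ZMod p) = 0 := (ZMod.natCast_eq_zero_iff _ _).mpr hdvd
    rw [ZMod.natCast_zmod_val] at h0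
    exact c.ne_zero h0
  -- (1)
  have e1 : (ψs (i * c) : G → ℂ) x0 = (ψs i : G → ℂ) (x0 ^ (c : ZMod p).val) := by
    have ha := hval (i * c) 1 h1
    rw [pow_one] at ha
    rw [ha, hval i _ hcv]
    apply finsum_mem_congr rfl
    intro w _
    rw [mul_one, ← zeta_pow_mod p (_ * _), ← ZMod.val_mul]
    congr 2
    push_cast
    ring
  -- (2)
  have e2 : (ψs (i * c) : G → ℂ) (x0 ^ (c : ZMod p).val) = (ψs i : G → ℂ) x0 := by
    have hb := hval i 1 h1
    rw [pow_one] at hb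
    rw [hb, hval (i * c) _ hcv]
    have hbij : Set.BijOn (fun w : (ZMod p)ˣ => w * (c * c)) (F : Set (ZMod p)ˣ) (F : Set (ZMod p)ˣ) := by
      refine ⟨fun w hw => F.mul_mem hw hcc, fun a _ b _ hab => mul_right_cancel hab, ?_⟩
      intro w hw
      refine ⟨w * (c * c)⁻¹, F.mul_mem hw (F.inv_mem hcc), ?_⟩
      exact inv_mul_cancel_right w (c * c)
    rw [← finsum_mem_eq_of_bijOn (fun w : (ZMod p)ˣ => w * (c * c)) hbij
      (g := fun w : (ZMod p)ˣ => zetaP p ^ (((w : ZMod p) * (i : ZMod p)).val * 1))]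
    · intro w _
      rw [mul_one, ← zeta_pow_mod p (_ * _), ← ZMod.val_mul]
      congr 2
      push_cast
      ring
  refine ⟨e1, e2, ?_⟩
  -- (3)
  have hcfψ : IsClassFunction G (ψs i : G → ℂ) :=
    IsCharacter.isClassFunction (IsIrrCharacter.isCharacter (ψs i).2)
  have hcfψ' : IsClassFunction G (ψs (i * c) : G → ℂ) :=
    IsCharacter.isClassFunction (IsIrrCharacter.isCharacter (ψs (i * c)).2)
  have hcfprod : IsClassFunction G (fun a => (ψs i : G → ℂ) a * conj ((ψs (i * c) : G → ℂ) a)) := by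
    intro g h
    simp only
    rw [hcfψ g h, hcfψ' g h]
  have hψ1 : (ψs i : G → ℂ) 1 = (f : ℂ) := by
    rw [Cfsg.Agent.Lib.Helper6.BRH.apply_one_eq, hdeg]
  have hf0 : (f : ℂ) ≠ 0 := Nat.cast_ne_zero.mpr hf.ne'
  set u := (ψs i : G → ℂ) x0 with hu
  set u' := (ψs i : G → ℂ) (x0 ^ (c : ZMod p).val) with hu'
  -- u + u' = -1
  have hs1 : u + u' = -1 := by
    have := hsum0
    rw [finsum_mem_subgroup_split, hps _ hcfψ, hψ1] at this
    have h2 : (f : ℂ) * (1 + (u + u')) = 0 := by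
      rw [← this]; ring
    rcases mul_eq_zero.mp h2 with h | h
    · exact absurd h hf0
    · linear_combination h
  have hs2 : u * conj u' + u' * conj u = -(f : ℂ) := by
    have := horth
    rw [finsum_mem_subgroup_split, hps _ hcfprod, hdeg', hψ1] at this
    simp only [e1, e2, Complex.conj_natCast, ← hu, ← hu'] at this
    have h2 : (f : ℂ) * ((f : ℂ) + (u * conj u' + u' * conj u)) = 0 := by
      rw [← this]; ring
    rcases mul_eq_zero.mp h2 with h | h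
    · exact absurd h hf0
    · linear_combination h
  have hpf : (p : ℂ) = 2 * (f : ℂ) + 1 := by
    have : p = 2 * f + 1 := by omega
    rw [this]; push_cast; ring
  have hC : ((Complex.normSq (u - u') : ℝ) : ℂ) = ((p : ℝ) : ℂ) := by
    rw [← Complex.mul_conj, map_sub]
    have h3 : (u + u') * conj (u + u') = 1 := by
      rw [hs1]; simp
    rw [map_add] at h3
    push_cast
    rw [hpf]
    linear_combination h3 - 2 * hs2
  exact Complex.ofReal_injective hC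

end Cfsg.Agent.Lib.Helper29.BRVIUVAL
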