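import Mathlib
import Cfsg.Prelude.Def_Blocks
import Cfsg.Prelude.Def_Local
import Cfsg.Agent.Lib.Helper6.Clifford
import Cfsg.Agent.Lib.Helper6.LinChar

/-!
# S4885 / S4886 leaf (CH) (helper29): a `q`-group `Q` normalized by the `p`-group `A` centralizes the
abelian normal `p`-subgroup `V` as soon as `Q` fixes every `A`-invariant linear character of `V` that
is trivial on `V ∩ A` (and `V ∩ A` centralizes `Q`).
-/

set_option autoImplicit false

namespace Cfsg.Agent.Lib.Helper29.TP

open Cfsg Cfsg.Agent.CharLib Cfsg.Agent.Lib.Helper6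
open scoped Pointwise

universe u

variable {H : Type u} [Group H]

/-- The part of `V` centralized by `Q`. -/
def centIn (V Q : Subgroup H) : Subgroup V := (Subgroup.centralizer (Q : Set H)).subgroupOf V

theorem mem_centIn {V Q : Subgroup H} (c : V) :
    c ∈ centIn V Q ↔ ∀ y ∈ Q, y * (c : H) = (c : H) * y := by
  unfold centIn
  rw [Subgroup.mem_subgroupOf, Subgroup.mem_centralizer_iff]
  rfl

theorem conjNormal_mem_centIn {V Q : Subgroup H} [V.Normal] {g : H}
    (hg : g ∈ Subgroup.normalizer (Q : Set H)) {c : V} (hc : c ∈ centIn V Q) :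
    MulAut.conjNormal g c ∈ centIn V Q := by
  rw [mem_centIn] at hc ⊢
  intro y hy
  have hy' : g⁻¹ * y * g ∈ Q := by
    have := (Subgroup.mem_normalizer_iff.mp hg (g⁻¹ * y * g))
    rw [this]
    simpa [mul_assoc] using hy
  have h1 := hc _ hy'
  rw [MulAut.conjNormal_apply]
  calc y * (g * (c : H) * g⁻¹) = g * ((g⁻¹ * y * g) * (c : H)) * g⁻¹ := by group
    _ = g * ((c : H) * (g⁻¹ * y * g)) * g⁻¹ := by rw [h1]
    _ = g * (c : H) * g⁻¹ * y := by group

/-- Linear characters of `V` trivial on `C_V(Q)`. -/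
abbrev XSet (V Q : Subgroup H) : Type u := {φ : V →* ℂˣ // centIn V Q ≤ φ.ker}

/-- The action of `A ≤ N(Q)` on the linear characters of `V` trivial on `C_V(Q)`. -/
@[reducible] noncomputable def mulActionX (V A Q : Subgroup H) [V.Normal]
    (hAQ : A ≤ Subgroup.normalizer (Q : Set H)) : MulAction A (XSet V Q) where
  smul a φ := ⟨φ.1.comp ((MulAut.conjNormal ((a : H)⁻¹) : MulAut V) : V ≃* V).toMonoidHom, by
    intro c hc
    rw [MonoidHom.mem_ker]
    have : MulAut.conjNormal ((a : H)⁻¹) c ∈ centIn V Q :=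
      conjNormal_mem_centIn ((Subgroup.normalizer (Q : Set H)).inv_mem (hAQ a.2)) hc
    exact MonoidHom.mem_ker.mp (φ.2 this)⟩
  one_smul φ := by
    apply Subtype.ext
    apply MonoidHom.ext
    intro v
    change φ.1 (MulAut.conjNormal (((1 : A) : H)⁻¹) v) = φ.1 v
    simp
  mul_smul a b φ := by
    apply Subtype.ext
    apply MonoidHom.ext
    intro v
    change φ.1 (MulAut.conjNormal (((a * b : A) : H)⁻¹) v) =
      φ.1 (MulAut.conjNormal ((b : H)⁻¹) (MulAut.conjNormal ((a : H)⁻¹) v))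
    congr 1
    rw [Subgroup.coe_mul, mul_inv_rev, map_mul]
    rfl


theorem smul_val_apply (V A Q : Subgroup H) [V.Normal]
    (hAQ : A ≤ Subgroup.normalizer (Q : Set H)) (a : A) (φ : XSet V Q) (v : V) :
    (letI := mulActionX V A Q hAQ; (a • φ).1 v) = φ.1 (MulAut.conjNormal ((a : H)⁻¹) v) := rfl

variable [Finite H]

/-- the number of linear characters of `V` trivial on `C_V(Q)` -/
theorem card_XSet (V Q : Subgroup H) (hVab : ∀ x ∈ V, ∀ y ∈ V, x * y = y * x) :
    Nat.card (XSet V Q) = (centIn V Q).index := by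
  letI : CommGroup V :=
    { (inferInstance : Group V) with mul_comm := fun a b => Subtype.ext (hVab a a.2 b b.2) }
  haveI : (centIn V Q).Normal := inferInstance
  have e : XSet V Q ≃ ((V ⧸ centIn V Q) →* ℂˣ) :=
    { toFun := fun φ => QuotientGroup.lift (centIn V Q) φ.1 (fun x hx => MonoidHom.mem_ker.mp (φ.2 hx))
      invFun := fun ψ => ⟨ψ.comp (QuotientGroup.mk' (centIn V Q)), by
        intro c hc
        rw [MonoidHom.mem_ker, MonoidHom.comp_apply]
        have : QuotientGroup.mk' (centIn V Q) c = 1 := by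
          rw [QuotientGroup.mk'_apply, QuotientGroup.eq_one_iff]
          exact hc
        rw [this, map_one]⟩
      left_inv := fun φ => by
        apply Subtype.ext
        apply MonoidHom.ext
        intro v
        rfl
      right_inv := fun ψ => by
        apply MonoidHom.ext
        intro x
        induction x using QuotientGroup.induction_on with
        | H v => rfl }
  have hne : NeZero ((Monoid.exponent (V ⧸ centIn V Q) : ℕ) : ℂ) :=
    ⟨by exact_mod_cast Monoid.exponent_ne_zero_of_finite⟩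
  rw [Nat.card_congr e, CommGroup.card_monoidHom_of_hasEnoughRootsOfUnity (V ⧸ centIn V Q) ℂ]
  rfl


/-- the norm `∏_{x ∈ Q} x v x⁻¹` of an element of the abelian normal subgroup `V` is `Q`-central,
and a `Q`-invariant linear character takes the value `φ(v)^{|Q|}` on it. -/
theorem pow_card_eq_one_of_invariant (V Q : Subgroup H) [V.Normal]
    (hVab : ∀ x ∈ V, ∀ y ∈ V, x * y = y * x) (φ : V →* ℂˣ) (hC : centIn V Q ≤ φ.ker)
    (hinv : ∀ x ∈ Q, ∀ v : V, φ (MulAut.conjNormal x v) = φ v) (v : V) :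
    φ v ^ Nat.card Q = 1 := by
  classical
  letI : CommGroup V :=
    { (inferInstance : Group V) with mul_comm := fun a b => Subtype.ext (hVab a a.2 b b.2) }
  haveI : Fintype Q := Fintype.ofFinite Q
  set w : V := ∏ x : Q, MulAut.conjNormal (x : H) v with hw
  have hwC : w ∈ centIn V Q := by
    rw [mem_centIn]
    intro y hy
    have h1 : MulAut.conjNormal y w = w := by
      rw [hw, map_prod]
      have h2 : ∀ x : Q, MulAut.conjNormal y (MulAut.conjNormal (x : H) v) =
          MulAut.conjNormal (((⟨y, hy⟩ : Q) * x : Q) : H) v := by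
        intro x
        rw [Subgroup.coe_mul, map_mul]
        rfl
      simp_rw [h2]
      exact Equiv.prod_comp (Equiv.mulLeft (⟨y, hy⟩ : Q)) (fun x : Q => MulAut.conjNormal (x : H) v)
    have h3 := congrArg (Subtype.val) h1
    rw [MulAut.conjNormal_apply] at h3
    calc y * (w : H) = (y * (w : H) * y⁻¹) * y := by group
      _ = (w : H) * y := by rw [h3]
  have h4 : φ w = 1 := MonoidHom.mem_ker.mp (hC hwC)
  rw [hw, map_prod] at h4
  have h5 : ∀ x : Q, φ (MulAut.conjNormal (x : H) v) = φ v := fun x => hinv x x.2 v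
  simp_rw [h5] at h4
  rw [Finset.prod_const, Finset.card_univ, ← Nat.card_eq_fintype_card] at h4
  exact h4

theorem hom_core (p q : ℕ) [Fact p.Prime] [Fact q.Prime] (hpq : p ≠ q)
    (V A Q : Subgroup H) [V.Normal] (hV : IsPGroup p V) (hVab : ∀ x ∈ V, ∀ y ∈ V, x * y = y * x)
    (hA : IsPGroup p A) (hQ : IsPGroup q Q) (hAQ : A ≤ Subgroup.normalizer (Q : Set H))
    (hVA : V ⊓ A ≤ Subgroup.centralizer (Q : Set H))
    (h : ∀ φ : V →* ℂˣ, (∀ a ∈ A, ∀ v : V, φ (MulAut.conjNormal a v) = φ v) →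
      (∀ v : V, (v : H) ∈ A → φ v = 1) →
      ∀ x ∈ Q, ∀ v : V, φ (MulAut.conjNormal x v) = φ v) :
    Q ≤ Subgroup.centralizer (V : Set H) := by
  classical
  by_contra hnot
  -- `C_V(Q) ≠ V`
  have hCne : centIn V Q ≠ ⊤ := by
    intro htop
    apply hnot
    intro x hx
    rw [Subgroup.mem_centralizer_iff]
    intro v hv
    have : (⟨v, hv⟩ : V) ∈ centIn V Q := htop ▸ Subgroup.mem_top _
    rw [mem_centIn] at this
    exact (this x hx).symm
  -- `p ∣ |X|`
  have hdvd : p ∣ Nat.card (XSet V Q) := by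
    rw [card_XSet V Q hVab]
    obtain ⟨n, hn⟩ := hV.index (centIn V Q)
    rw [hn]
    rcases n with _ | n
    · exfalso
      apply hCne
      rw [pow_zero] at hn
      exact Subgroup.index_eq_one.mp hn
    · exact dvd_pow_self p (Nat.succ_ne_zero n)
  letI := mulActionX V A Q hAQ
  let one' : XSet V Q := ⟨1, fun c _ => MonoidHom.mem_ker.mpr rfl⟩
  have hone : one' ∈ MulAction.fixedPoints A (XSet V Q) := by
    intro a
    apply Subtype.ext
    apply MonoidHom.ext
    intro v
    rfl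
  haveI : Finite (XSet V Q) := by
    apply Nat.finite_of_card_ne_zero
    intro h0
    rw [card_XSet V Q hVab] at h0
    exact Subgroup.index_ne_zero_of_finite h0
  obtain ⟨b, hb, hne⟩ :=
    hA.exists_fixed_point_of_prime_dvd_card_of_fixed_point (XSet V Q) hdvd hone
  -- `b` is `A`-invariant
  have hbA : ∀ a ∈ A, ∀ v : V, b.1 (MulAut.conjNormal a v) = b.1 v := by
    intro a ha v
    have h1 := hb ⟨a⁻¹, A.inv_mem ha⟩
    have h2 := congrArg (fun ψ : XSet V Q => ψ.1 v) h1
    rw [smul_val_apply V A Q hAQ] at h2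
    simpa using h2
  have hbVA : ∀ v : V, (v : H) ∈ A → b.1 v = 1 := by
    intro v hv
    apply MonoidHom.mem_ker.mp
    apply b.2
    unfold centIn
    rw [Subgroup.mem_subgroupOf]
    exact hVA ⟨v.2, hv⟩
  have hbQ := h b.1 hbA hbVA
  apply hne
  apply Subtype.ext
  apply MonoidHom.ext
  intro v
  change (1 : ℂˣ) = b.1 v
  have h1 : b.1 v ^ Nat.card Q = 1 := pow_card_eq_one_of_invariant V Q hVab b.1 b.2 hbQ v
  have h2 : b.1 v ^ Nat.card V = 1 := by
    rw [← map_pow, pow_card_eq_one', map_one]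
  obtain ⟨m, hm⟩ := (IsPGroup.iff_card.mp hV)
  obtain ⟨n, hn⟩ := (IsPGroup.iff_card.mp hQ)
  have hcop : (Nat.card Q).Coprime (Nat.card V) := by
    rw [hm, hn]
    apply Nat.Coprime.pow
    exact (Nat.coprime_primes (Fact.out) (Fact.out)).mpr (Ne.symm hpq)
  have h3 : orderOf (b.1 v) ∣ Nat.gcd (Nat.card Q) (Nat.card V) :=
    Nat.dvd_gcd (orderOf_dvd_of_pow_eq_one h1) (orderOf_dvd_of_pow_eq_one h2)
  rw [hcop.gcd_eq_one, Nat.dvd_one, orderOf_eq_one_iff] at h3
  exact h3.symm


/-- (CH) `Q` centralizes `V`. -/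
theorem le_centralizer_of_forall_invariant (p q : ℕ) [Fact p.Prime] [Fact q.Prime] (hpq : p ≠ q)
    (V A Q : Subgroup H) [V.Normal] (hV : IsPGroup p V) (hVab : ∀ x ∈ V, ∀ y ∈ V, x * y = y * x)
    (hA : IsPGroup p A) (hQ : IsPGroup q Q) (hAQ : A ≤ Subgroup.normalizer (Q : Set H))
    (hVA : V ⊓ A ≤ Subgroup.centralizer (Q : Set H))
    (h : ∀ lam : IrrCharacter V, (∀ a ∈ A, Cfsg.Agent.Lib.Helper6.conjFun V a (lam : V → ℂ) = lam) →
      (∀ v : V, (v : H) ∈ A → (lam : V → ℂ) v = 1) →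
      ∀ x ∈ Q, Cfsg.Agent.Lib.Helper6.conjFun V x (lam : V → ℂ) = lam) :
    Q ≤ Subgroup.centralizer (V : Set H) := by
  apply hom_core p q hpq V A Q hV hVab hA hQ hAQ hVA
  intro φ h1 h2 x hx v
  have h3 := h ⟨fun v => ((φ v : ℂˣ) : ℂ), isIrrCharacter_of_hom φ⟩ ?_ ?_ x hx
  · have h4 := congrFun h3 v
    apply Units.ext
    rw [conjFun_apply] at h4
    have h5 : MulAut.conjNormal x v = ⟨x * (v : H) * x⁻¹, (inferInstance : V.Normal).conj_mem v v.2 x⟩ :=
      Subtype.ext (MulAut.conjNormal_apply x v)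
    rw [h5]
    exact h4
  · intro a ha
    funext v
    rw [conjFun_apply]
    have h5 : MulAut.conjNormal a v = ⟨a * (v : H) * a⁻¹, (inferInstance : V.Normal).conj_mem v v.2 a⟩ :=
      Subtype.ext (MulAut.conjNormal_apply a v)
    change ((φ _ : ℂˣ) : ℂ) = ((φ v : ℂˣ) : ℂ)
    rw [← h5, h1 a ha v]
  · intro v hv
    change ((φ v : ℂˣ) : ℂ) = 1
    rw [h2 v hv]
    rfl

end Cfsg.Agent.Lib.Helper29.TP
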