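import Mathlib
import Cfsg.Agent.Lib.Helper15.AschUCtx
import Cfsg.Agent.Lib.Helper20.AschA89F2J

/-!
S5663 sub-block T2 (sub-planner helper14): cores of the leaves (T2-I) `exit_orth`, (T2-J) `exit_symp`
(the leaves (T2-G) `form_in_Jt`, (T2-H0) `Jt_pairing_mem` as hypotheses).
-/

set_option autoImplicit false
set_option linter.unusedSectionVars false
set_option linter.unusedVariables false

namespace Cfsg.Agent.Lib.Helper29.UALeaf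
open Matrix Cfsg Cfsg.Geo Cfsg.Agent.Lib.Helper20.Asch
open Cfsg.Agent.Lib.Helper15.AschU Cfsg.Agent.Lib.Helper15.AschForm Cfsg.Agent.Lib.Helper18.AschA89

variable {F : Type*} [Field F] [Fintype F] {n q : ℕ} {H : Subgroup (GL (Fin n) F)}

/-- the pairing of two rational vectors, with `σ` removed -/
lemma pairing_rational {σ : F ≃+* F} {t : ℕ} (e : Fin n ≃ (Fin t → Fin 2))
    (F₀ : Subfield F) (hF₀ : ∀ a : F, a ∈ F₀ ↔ σ a = a)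
    (hH0 : ∀ x y : (Fin t → Fin 2) → F, (∀ a, x a ∈ F₀) → (∀ a, y a ∈ F₀) →
      x ⬝ᵥ (Jt t : Matrix (Fin t → Fin 2) (Fin t → Fin 2) F) *ᵥ y ∈ F₀)
    (u v : Fin n → F) (hu : ∀ i, u i ∈ F₀) (hv : ∀ i, v i ∈ F₀) :
    (u ∘ e.symm) ⬝ᵥ (Jt t : Matrix (Fin t → Fin 2) (Fin t → Fin 2) F) *ᵥ (fun b => σ (v (e.symm b))) ∈ F₀ := by
  have hv' : (fun b => σ (v (e.symm b))) = v ∘ e.symm := by
    funext b
    exact (hF₀ _).1 (hv _)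
  rw [hv']
  exact hH0 _ _ (fun a => hu _) (fun a => hv _)

/-- (T2-I) core -/
theorem exit_orth_core (h : UCtx q H) {σ : F ≃+* F} (hσ : IsFrob q σ) (hq : Odd q) {t : ℕ}
    (e : Fin n ≃ (Fin t → Fin 2)) (P : GL (Fin n) F) (c' : F)
    (hG : ∀ u v : Fin n → F,
      hermForm n F q ((P : Matrix (Fin n) (Fin n) F) *ᵥ u) ((P : Matrix (Fin n) (Fin n) F) *ᵥ v) =
      c' * ((u ∘ e.symm) ⬝ᵥ (Jt t : Matrix (Fin t → Fin 2) (Fin t → Fin 2) F) *ᵥ (fun b => σ (v (e.symm b)))))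
    (hsig : σ c' = c') (F₀ : Subfield F) (hF₀ : ∀ a : F, a ∈ F₀ ↔ σ a = a)
    (hH0 : ∀ x y : (Fin t → Fin 2) → F, (∀ a, x a ∈ F₀) → (∀ a, y a ∈ F₀) →
      x ⬝ᵥ (Jt t : Matrix (Fin t → Fin 2) (Fin t → Fin 2) F) *ᵥ y ∈ F₀)
    (hcard : Fintype.card F = Nat.card F₀ ^ 2) (hH : H ≤ subfieldSubgroup F₀ P) : GeoU q H := by
  refine GeoU.of_sub_orth F₀ P hq hcard ?_ (le_inf hH h.le)
  intro u v hu hv
  rw [one_mul, hG]
  exact F₀.mul_mem ((hF₀ c').2 hsig) (pairing_rational e F₀ hF₀ hH0 u v hu hv)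

/-- (T2-J) core -/
theorem exit_symp_core (h : UCtx q H) {σ : F ≃+* F} (hσ : IsFrob q σ) {t : ℕ}
    (e : Fin n ≃ (Fin t → Fin 2)) (P : GL (Fin n) F) (c' : F)
    (hG : ∀ u v : Fin n → F,
      hermForm n F q ((P : Matrix (Fin n) (Fin n) F) *ᵥ u) ((P : Matrix (Fin n) (Fin n) F) *ᵥ v) =
      c' * ((u ∘ e.symm) ⬝ᵥ (Jt t : Matrix (Fin t → Fin 2) (Fin t → Fin 2) F) *ᵥ (fun b => σ (v (e.symm b)))))
    (halt : ∀ w : (Fin t → Fin 2) → F, w ⬝ᵥ (Jt t : Matrix (Fin t → Fin 2) (Fin t → Fin 2) F) *ᵥ w = 0)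
    (hn : Even n) (ζ : F) (hζ0 : ζ ≠ 0) (hζ : ζ + σ ζ = 0)
    (F₀ : Subfield F) (hF₀ : ∀ a : F, a ∈ F₀ ↔ σ a = a) (hζc : σ (ζ * c') = ζ * c')
    (hH0 : ∀ x y : (Fin t → Fin 2) → F, (∀ a, x a ∈ F₀) → (∀ a, y a ∈ F₀) →
      x ⬝ᵥ (Jt t : Matrix (Fin t → Fin 2) (Fin t → Fin 2) F) *ᵥ y ∈ F₀)
    (hcard : Fintype.card F = Nat.card F₀ ^ 2) (hH : H ≤ subfieldSubgroup F₀ P) : GeoU q H := by
  have hζ' : ζ + ζ ^ q = 0 := by rw [← hσ.pow]; exact hζ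
  refine GeoU.of_sub_symp F₀ P ζ hn hcard hζ0 hζ' ?_ ?_ (le_inf hH h.le)
  · intro u v hu hv
    rw [hG, ← mul_assoc]
    exact F₀.mul_mem ((hF₀ _).2 hζc) (pairing_rational e F₀ hF₀ hH0 u v hu hv)
  · intro u hu
    rw [hG]
    have hu' : (fun b => σ (u (e.symm b))) = u ∘ e.symm := by
      funext b
      exact (hF₀ _).1 (hu _)
    rw [hu', halt, mul_zero]

end Cfsg.Agent.Lib.Helper29.UALeaf
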