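import Mathlib
import Cfsg.Agent.Lib.Helper15.AschUCtx
import Cfsg.Agent.Lib.Helper20.AschA89F2J
import Cfsg.Agent.Lib.Helper29.UAT2IJcore
import Cfsg.Agent.Lib.Helper12.UAT2G
import Cfsg.Agent.Lib.Helper12.UAT2H

/-!
S5663 sub-block T2 (sub-planner helper14): leaves (T2-I) `exit_orth`, (T2-J) `exit_symp`, EXACT signatures of
`notes/S5663_T2_leaves.lean` (cores of `Helper29.UAT2IJcore` + helper12's (T2-G) `form_in_Jt`, (T2-H0) `Jt_pairing_mem`).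
-/

set_option autoImplicit false
set_option linter.unusedSectionVars false
set_option linter.unusedVariables false

namespace Cfsg.Agent.Lib.Helper29.UALeaf
open Matrix Cfsg Cfsg.Geo Cfsg.Agent.Lib.Helper20.Asch
open Cfsg.Agent.Lib.Helper15.AschU Cfsg.Agent.Lib.Helper15.AschForm Cfsg.Agent.Lib.Helper18.AschA89

variable {F : Type*} [Field F] [Fintype F] {n q : ℕ} {H : Subgroup (GL (Fin n) F)}

/-- (T2-I) [M] EXIT 1: `q` odd, `t` even. -/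
theorem exit_orth (h : UCtx q H) {σ : F ≃+* F} (hσ : IsFrob q σ) (hq : Odd q) {t : ℕ}
    (e : Fin n ≃ (Fin t → Fin 2)) (P : GL (Fin n) F) (c' : F)
    (hJ : gramIn (σ : F →+* F) 1 e P = c' • (Jt t : Matrix (Fin t → Fin 2) (Fin t → Fin 2) F))
    (hsig : σ c' = c') (F₀ : Subfield F) (hF₀ : ∀ a : F, a ∈ F₀ ↔ σ a = a)
    (hcard : Fintype.card F = Nat.card F₀ ^ 2) (hH : H ≤ subfieldSubgroup F₀ P) : GeoU q H :=
  exit_orth_core h hσ hq e P c'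
    (fun u v => Cfsg.Agent.Lib.Helper12.UALeaf.form_in_Jt hσ e P c' hJ u v) hsig F₀ hF₀
    (fun x y hx hy => Cfsg.Agent.Lib.Helper12.UALeaf.Jt_pairing_mem F₀ x y hx hy) hcard hH

/-- (T2-J) [M] EXITS 2 and 3 (class 5, symplectic kind). -/
theorem exit_symp (h : UCtx q H) {σ : F ≃+* F} (hσ : IsFrob q σ) {t : ℕ}
    (e : Fin n ≃ (Fin t → Fin 2)) (P : GL (Fin n) F) (c' : F)
    (hJ : gramIn (σ : F →+* F) 1 e P = c' • (Jt t : Matrix (Fin t → Fin 2) (Fin t → Fin 2) F))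
    (halt : ∀ w : (Fin t → Fin 2) → F, w ⬝ᵥ (Jt t : Matrix (Fin t → Fin 2) (Fin t → Fin 2) F) *ᵥ w = 0)
    (hn : Even n) (ζ : F) (hζ0 : ζ ≠ 0) (hζ : ζ + σ ζ = 0)
    (F₀ : Subfield F) (hF₀ : ∀ a : F, a ∈ F₀ ↔ σ a = a) (hζc : σ (ζ * c') = ζ * c')
    (hcard : Fintype.card F = Nat.card F₀ ^ 2) (hH : H ≤ subfieldSubgroup F₀ P) : GeoU q H :=
  exit_symp_core h hσ e P c'
    (fun u v => Cfsg.Agent.Lib.Helper12.UALeaf.form_in_Jt hσ e P c' hJ u v) halt hn ζ hζ0 hζ F₀ hF₀ hζc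
    (fun x y hx hy => Cfsg.Agent.Lib.Helper12.UALeaf.Jt_pairing_mem F₀ x y hx hy) hcard hH

end Cfsg.Agent.Lib.Helper29.UALeaf
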