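import Cfsg.Agent.Lib.Helper28.SchurFoxA

set_option autoImplicit false

/-!
# Stem extensions and primes dividing the order exactly once

If `p` divides `|K|` exactly once, a stem extension of `K` has no `p`-torsion in its kernel: the preimage of a
subgroup of order `p` is abelian and of index prime to `p`, so the transfer argument applies.
-/

namespace Cfsg.Agent.Lib.Helper29.SchurCyclicSylow

open Subgroup Cfsg.Agent.Lib.Helper28.SchurFox

theorem ker_eq_bot_of_prime_once {Γ K : Type*} [Group Γ] [Group K] [Finite K] (σ : Γ →* K)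
    (hσ : Cfsg.IsStemExtension σ) (p : ℕ) [hp : Fact p.Prime] (hexp : ∀ a ∈ σ.ker, a ^ p = 1)
    (hdvd : p ∣ Nat.card K) (hcop : Nat.Coprime (Nat.card K / p) p) : σ.ker = ⊥ := by
  obtain ⟨g, hg⟩ := exists_prime_orderOf_dvd_card' p hdvd
  set C : Subgroup K := zpowers g with hC
  have hcardC : Nat.card C = p := by rw [hC, Nat.card_zpowers, hg]
  have hidxC : C.index = Nat.card K / p := by
    have h := C.index_mul_card
    rw [hcardC] at h
    rw [← h, Nat.mul_div_cancel _ hp.out.pos]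
  set V : Subgroup Γ := C.comap σ with hV
  have hidxV : V.index = Nat.card K / p := by
    rw [hV, Subgroup.index_comap_of_surjective C hσ.1, hidxC]
  have hne : Nat.card K / p ≠ 0 := by
    intro h0
    rw [h0] at hcop
    have := Nat.Coprime.eq_one_of_dvd hcop.symm (dvd_zero p)
    exact hp.out.one_lt.ne' this
  have : V.FiniteIndex := ⟨by rw [hidxV]; exact hne⟩
  refine ker_eq_bot_of_transfer σ hσ p hexp V (by rw [hidxV]; exact hcop) ?_
  -- the subgroup `V` is commutative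
  obtain ⟨γ₀, hγ₀⟩ := hσ.1 g
  have hdec : ∀ v ∈ V, ∃ i : ℤ, γ₀ ^ (-i) * v ∈ σ.ker := by
    intro v hv
    obtain ⟨i, hi⟩ := Subgroup.mem_zpowers_iff.mp (show σ v ∈ zpowers g from hv)
    refine ⟨i, ?_⟩
    rw [MonoidHom.mem_ker, map_mul, map_zpow, hγ₀, ← hi, zpow_neg, inv_mul_cancel]
  have hcomm : ∀ u ∈ V, ∀ v ∈ V, u * v = v * u := by
    intro u hu v hv
    obtain ⟨i, hi⟩ := hdec u hu
    obtain ⟨j, hj⟩ := hdec v hv
    have hu' : u = γ₀ ^ i * (γ₀ ^ (-i) * u) := by group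
    have hv' : v = γ₀ ^ j * (γ₀ ^ (-j) * v) := by group
    have ca := mem_center_iff.mp (hσ.2.1 hi)
    have cb := mem_center_iff.mp (hσ.2.1 hj)
    set a := γ₀ ^ (-i) * u with ha
    set b := γ₀ ^ (-j) * v with hb
    have hpow : γ₀ ^ i * γ₀ ^ j = γ₀ ^ j * γ₀ ^ i := by rw [← zpow_add, ← zpow_add, add_comm]
    rw [hu', hv']
    calc γ₀ ^ i * a * (γ₀ ^ j * b) = γ₀ ^ i * (a * γ₀ ^ j) * b := by group
      _ = γ₀ ^ i * (γ₀ ^ j * a) * b := by rw [← ca (γ₀ ^ j)]
      _ = (γ₀ ^ i * γ₀ ^ j) * (a * b) := by group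
      _ = (γ₀ ^ j * γ₀ ^ i) * (b * a) := by rw [hpow, ← ca b]
      _ = γ₀ ^ j * (γ₀ ^ i * b) * a := by group
      _ = γ₀ ^ j * (b * γ₀ ^ i) * a := by rw [cb (γ₀ ^ i)]
      _ = γ₀ ^ j * b * (γ₀ ^ i * a) := by group
  intro a _ hc
  have hbot : ⁅V, V⁆ = ⊥ := by
    rw [Subgroup.commutator_eq_bot_iff_le_centralizer]
    intro u hu
    rw [Subgroup.mem_centralizer_iff]
    intro v hv
    exact hcomm v hv u hu
  rw [hbot, Subgroup.mem_bot] at hc
  exact hc

end Cfsg.Agent.Lib.Helper29.SchurCyclicSylow
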