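import Mathlib
import Cfsg.Prelude.Def_KGroupFacts
import Cfsg.Agent.Lib.Helper10.OutGen

/-!
# S2082 leaf M (helper29): the abstract main theorem `card_out_eq_two_of_data`
-/

set_option autoImplicit false
set_option linter.unusedVariables false

namespace Cfsg.Agent.Lib.Helper29.HnO

open Cfsg

/-- every automorphism is `conj h` or `conj h ∘ σ` -/
theorem exists_conj_cond {G : Type*} [Group G] [Finite G]
    (N : Subgroup G) (a e : G) (σ : MulAut G)
    (p : ℕ) [Fact p.Prime] (hp : ¬ p ^ 2 ∣ Nat.card G) (he : orderOf e = p) (heN : e ∈ N)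
    (ha1 : a ≠ 1) (ha2 : a * a = 1)
    (hNa : ∀ n ∈ N, n * a = a * n)
    (hCe : ∀ g : G, g * e = e * g → g ∈ N)
    (hinv : ∀ g ∈ N, g * g = 1 → g * e = e * g → g = 1 ∨ g = a)
    (hσa : σ a = a)
    (hAutN : ∀ α : MulAut G, α a = a →
      ∃ m ∈ N, ∃ ε : Bool, ∀ n ∈ N, α n = m * (cond ε (σ n) n) * m⁻¹)
    (hRigid : ∀ α : MulAut G, (∀ n ∈ N, α n = n) → α = 1 ∨ α = MulAut.conj a)
    (α : MulAut G) :
    ∃ (h : G) (ε : Bool), ∀ x : G, α x = h * (cond ε (σ x) x) * h⁻¹ := by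
  have hpp : p.Prime := Fact.out
  -- Step 1: move `α e` into `⟨e⟩`
  have hαe : orderOf (α e) = p := by rw [MulEquiv.orderOf_eq, he]
  obtain ⟨g, hg⟩ := Cfsg.Agent.Lib.Helper10.OutG.exists_conj_mem_zpowers p hp e (α e) he hαe
  set α₁ : MulAut G := MulAut.conj g * α with hα₁
  have hα₁x : ∀ x, α₁ x = g * α x * g⁻¹ := fun x => by
    rw [hα₁, MulAut.mul_apply, MulAut.conj_apply]
  have hα₁e : α₁ e ∈ Subgroup.zpowers e := by rw [hα₁x]; exact hg
  have hα₁eo : orderOf (α₁ e) = p := by rw [MulEquiv.orderOf_eq, he]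
  -- `e` is a power of `α₁ e`
  have hzp : Subgroup.zpowers (α₁ e) = Subgroup.zpowers e := by
    apply Subgroup.eq_of_le_of_card_ge
    · rw [Subgroup.zpowers_le]; exact hα₁e
    · rw [Nat.card_zpowers, Nat.card_zpowers, hα₁eo, he]
  have hemem : e ∈ Subgroup.zpowers (α₁ e) := by rw [hzp]; exact Subgroup.mem_zpowers e
  obtain ⟨j, hj⟩ := Subgroup.mem_zpowers_iff.1 hemem
  -- `α₁ a` commutes with `e`
  have hae : Commute a e := (hNa e heN).symm
  have hcomm1 : Commute (α₁ a) (α₁ e) := by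
    show α₁ a * α₁ e = α₁ e * α₁ a
    rw [← map_mul, ← map_mul, hae.eq]
  have hcomm2 : Commute (α₁ a) e := by
    rw [← hj]; exact hcomm1.zpow_right j
  have hα₁aN : α₁ a ∈ N := hCe _ hcomm2.eq
  have hα₁a2 : α₁ a * α₁ a = 1 := by rw [← map_mul, ha2, map_one]
  have hα₁a : α₁ a = a := by
    rcases hinv _ hα₁aN hα₁a2 hcomm2.eq with h | h
    · exfalso
      apply ha1
      have : α₁ a = α₁ 1 := by rw [h, map_one]
      exact α₁.injective this
    · exact h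
  -- Step 2
  obtain ⟨m, hmN, ε, hm⟩ := hAutN α₁ hα₁a
  set β : MulAut G := (cond ε σ⁻¹ 1) * MulAut.conj m⁻¹ * α₁ with hβ
  have hβx : ∀ x, β x = (cond ε σ⁻¹ 1 : MulAut G) (m⁻¹ * α₁ x * m) := fun x => by
    rw [hβ, MulAut.mul_apply, MulAut.mul_apply, MulAut.conj_apply, inv_inv]
  have hβN : ∀ n ∈ N, β n = n := by
    intro n hn
    rw [hβx, hm n hn]
    have e1 : m⁻¹ * (m * (cond ε (σ n) n) * m⁻¹) * m = cond ε (σ n) n := by group
    rw [e1]
    cases ε
    · simp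
    · simp only [cond_true]
      exact σ.symm_apply_apply n
  -- invert: `α₁ x = m * σ^ε (β x) * m⁻¹`
  have hα₁β : ∀ x, α₁ x = m * (cond ε (σ (β x)) (β x)) * m⁻¹ := by
    intro x
    have h1 := hβx x
    have h2 : cond ε (σ (β x)) (β x) = m⁻¹ * α₁ x * m := by
      rw [h1]
      cases ε
      · simp
      · simp only [cond_true]
        exact σ.apply_symm_apply _
    rw [h2]; group
  -- `α x = g⁻¹ * α₁ x * g`
  have hαx : ∀ x, α x = g⁻¹ * α₁ x * g := fun x => by rw [hα₁x]; group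
  rcases hRigid β hβN with hβ1 | hβa
  · refine ⟨g⁻¹ * m, ε, fun x => ?_⟩
    rw [hαx, hα₁β, hβ1, MulAut.one_apply]
    group
  · refine ⟨g⁻¹ * m * a, ε, fun x => ?_⟩
    rw [hαx, hα₁β, hβa, MulAut.conj_apply]
    have e2 : cond ε (σ (a * x * a⁻¹)) (a * x * a⁻¹) = a * (cond ε (σ x) x) * a⁻¹ := by
      cases ε
      · rfl
      · simp only [cond_true, map_mul, map_inv, hσa]
    rw [e2]
    group

/-- **LEAF M** (abstract main theorem).  `p = 11` in the application. -/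
theorem card_out_eq_two_of_data {G : Type*} [Group G] [Finite G]
    (hc : Subgroup.center G = ⊥) (N : Subgroup G) (a e : G) (σ : MulAut G)
    (p : ℕ) [Fact p.Prime] (hp : ¬ p ^ 2 ∣ Nat.card G) (he : orderOf e = p) (heN : e ∈ N)
    (ha1 : a ≠ 1) (ha2 : a * a = 1)
    (hNa : ∀ n ∈ N, n * a = a * n) (hCa : ∀ g : G, g * a = a * g → g ∈ N)
    (hCe : ∀ g : G, g * e = e * g → g ∈ N)
    (hinv : ∀ g ∈ N, g * g = 1 → g * e = e * g → g = 1 ∨ g = a)
    (hσa : σ a = a)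
    (hAutN : ∀ α : MulAut G, α a = a →
      ∃ m ∈ N, ∃ ε : Bool, ∀ n ∈ N, α n = m * (cond ε (σ n) n) * m⁻¹)
    (hRigid : ∀ α : MulAut G, (∀ n ∈ N, α n = n) → α = 1 ∨ α = MulAut.conj a)
    (hσ : σ ∉ Cfsg.Inn G) : Nat.card (Cfsg.Out G) = 2 := by
  apply Cfsg.Agent.Lib.Helper10.OutG.card_out_eq_two hc _ σ hσ
  -- `|Aut G| ≤ 2 |G|` via the surjection `(h, ε) ↦ conj h * σ^ε`
  let Ψ : G × Bool → MulAut G := fun x => MulAut.conj x.1 * (cond x.2 σ 1)
  have hsurj : Function.Surjective Ψ := by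
    intro α
    obtain ⟨h, ε, hh⟩ :=
      exists_conj_cond N a e σ p hp he heN ha1 ha2 hNa hCe hinv hσa hAutN hRigid α
    refine ⟨(h, ε), ?_⟩
    ext x
    show (MulAut.conj h * (cond ε σ 1)) x = α x
    rw [hh x, MulAut.mul_apply, MulAut.conj_apply]
    cases ε <;> rfl
  calc Nat.card (MulAut G) ≤ Nat.card (G × Bool) := Nat.card_le_card_of_surjective Ψ hsurj
    _ = 2 * Nat.card G := by
        rw [Nat.card_prod, Nat.card_eq_fintype_card (α := Bool), Fintype.card_bool, mul_comm]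

end Cfsg.Agent.Lib.Helper29.HnO
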