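import Cfsg.Agent.Lib.Helper28.SchurFoxA

set_option autoImplicit false

/-!
# Pulling back a central extension, and retractions from sections

`σ : Γ → G` a central extension, `π : Y → G` any homomorphism: the pullback `P ≤ Γ × Y` is a central extension of `Y`
with the same kernel.  A homomorphic section of a central extension over a subgroup `H` gives a retraction over `H`.
-/

namespace Cfsg.Agent.Lib.Helper29.PullbackExt

open Subgroup
open Cfsg.Agent.Lib.Helper28.SchurFox (Retraction)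

section Pull
variable {Γ G Y : Type*} [Group Γ] [Group G] [Group Y] (σ : Γ →* G) (π : Y →* G)

/-- the pullback of `σ` and `π` -/
def P : Subgroup (Γ × Y) := (σ.comp (MonoidHom.fst Γ Y)).eqLocus (π.comp (MonoidHom.snd Γ Y))

theorem mem_P (q : Γ × Y) : q ∈ P σ π ↔ σ q.1 = π q.2 := Iff.rfl

/-- the projection to `Y` -/
def σ' : ↥(P σ π) →* Y := (MonoidHom.snd Γ Y).comp (P σ π).subtype

/-- the projection to `Γ` -/
def pr1 : ↥(P σ π) →* Γ := (MonoidHom.fst Γ Y).comp (P σ π).subtype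

theorem σ'_apply (q : ↥(P σ π)) : σ' σ π q = q.1.2 := rfl
theorem pr1_apply (q : ↥(P σ π)) : pr1 σ π q = q.1.1 := rfl

theorem σ'_surjective (hs : Function.Surjective σ) : Function.Surjective (σ' σ π) := by
  intro y
  obtain ⟨g, hg⟩ := hs (π y)
  exact ⟨⟨(g, y), hg⟩, rfl⟩

theorem mem_ker_σ' (q : ↥(P σ π)) : q ∈ (σ' σ π).ker ↔ q.1.2 = 1 := Iff.rfl

theorem pr1_mem_ker {q : ↥(P σ π)} (hq : q ∈ (σ' σ π).ker) : pr1 σ π q ∈ σ.ker := by
  have h1 : q.1.2 = 1 := hq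
  have h2 : σ q.1.1 = π q.1.2 := q.2
  rw [MonoidHom.mem_ker, pr1_apply, h2, h1, map_one]

theorem ext_P {q r : ↥(P σ π)} (h1 : q.1.1 = r.1.1) (h2 : q.1.2 = r.1.2) : q = r :=
  Subtype.ext (Prod.ext h1 h2)

theorem ker_le_center (hc : σ.ker ≤ center Γ) : (σ' σ π).ker ≤ center ↥(P σ π) := by
  intro q hq
  rw [mem_center_iff]
  intro r
  have h1 : q.1.2 = 1 := hq
  have hcen := mem_center_iff.mp (hc (pr1_mem_ker σ π hq)) r.1.1
  apply ext_P
  · show r.1.1 * q.1.1 = q.1.1 * r.1.1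
    exact hcen
  · show r.1.2 * q.1.2 = q.1.2 * r.1.2
    rw [h1, mul_one, one_mul]

theorem ker_pow (p : ℕ) (hexp : ∀ a ∈ σ.ker, a ^ p = 1) : ∀ q ∈ (σ' σ π).ker, q ^ p = 1 := by
  intro q hq
  have h1 : q.1.2 = 1 := hq
  apply ext_P
  · show (q ^ p).1.1 = 1
    have : (q ^ p).1.1 = q.1.1 ^ p := by
      have := map_pow (pr1 σ π) q p
      exact this
    rw [this]
    exact hexp _ (pr1_mem_ker σ π hq)
  · show (q ^ p).1.2 = 1
    have : (q ^ p).1.2 = q.1.2 ^ p := by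
      have := map_pow (σ' σ π) q p
      exact this
    rw [this, h1, one_pow]

theorem eq_one_of_pr1 {q : ↥(P σ π)} (hq : q ∈ (σ' σ π).ker) (h : pr1 σ π q = 1) : q = 1 :=
  ext_P σ π h hq

end Pull

section Retr
variable {Γ G : Type*} [Group Γ] [Group G] (σ : Γ →* G)

/-- a homomorphic section over `H` gives a retraction over `H` -/
theorem retraction_of_section (hc : σ.ker ≤ center Γ) (H : Subgroup G) (τ : ↥H →* Γ)
    (hτ : ∀ h : ↥H, σ (τ h) = h) : Nonempty (Retraction σ (H.comap σ)) := by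
  have hk : ∀ v : ↥(H.comap σ), (v : Γ) * (τ ⟨σ v, v.2⟩)⁻¹ ∈ σ.ker := by
    intro v
    rw [MonoidHom.mem_ker, map_mul, map_inv, hτ]
    exact mul_inv_cancel _
  let f : ↥(H.comap σ) → ↥(center Γ) := fun v => ⟨(v : Γ) * (τ ⟨σ v, v.2⟩)⁻¹, hc (hk v)⟩
  have hmul : ∀ v w, f (v * w) = f v * f w := by
    intro v w
    apply Subtype.ext
    show ((v * w : ↥(H.comap σ)) : Γ) * (τ ⟨σ ((v * w : ↥(H.comap σ)) : Γ), _⟩)⁻¹ =
      ((v : Γ) * (τ ⟨σ v, v.2⟩)⁻¹) * ((w : Γ) * (τ ⟨σ w, w.2⟩)⁻¹)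
    have e : (⟨σ ((v * w : ↥(H.comap σ)) : Γ), (v * w).2⟩ : ↥H) = ⟨σ v, v.2⟩ * ⟨σ w, w.2⟩ := by
      apply Subtype.ext
      show σ ((v : Γ) * (w : Γ)) = σ v * σ w
      exact map_mul _ _ _
    rw [e, map_mul, mul_inv_rev, Subgroup.coe_mul]
    have hcen := mem_center_iff.mp (hc (hk w)) ((τ ⟨σ v, v.2⟩)⁻¹)
    calc (v : Γ) * (w : Γ) * ((τ ⟨σ w, w.2⟩)⁻¹ * (τ ⟨σ v, v.2⟩)⁻¹)
        = (v : Γ) * (((w : Γ) * (τ ⟨σ w, w.2⟩)⁻¹) * (τ ⟨σ v, v.2⟩)⁻¹) := by group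
      _ = (v : Γ) * ((τ ⟨σ v, v.2⟩)⁻¹ * ((w : Γ) * (τ ⟨σ w, w.2⟩)⁻¹)) := by rw [hcen]
      _ = _ := by group
  refine ⟨⟨MonoidHom.mk' f hmul, fun v => hk v, ?_⟩⟩
  intro a ha haV
  show a * (τ ⟨σ a, haV⟩)⁻¹ = a
  have e : (⟨σ a, haV⟩ : ↥H) = 1 := Subtype.ext (MonoidHom.mem_ker.mp ha)
  rw [e, map_one, inv_one, mul_one]

/-- a section over the image of `ι`, from a lift `s` of `ι` that kills the kernel of `ι` -/
theorem exists_section {W : Type*} [Group W] (ι : W →* G) (s : W →* Γ) (hσs : ∀ w, σ (s w) = ι w)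
    (hK : ∀ w, ι w = 1 → s w = 1) : ∃ τ : ↥ι.range →* Γ, ∀ h : ↥ι.range, σ (τ h) = h := by
  have hker : ι.rangeRestrict.ker ≤ s.ker := by
    intro w hw
    rw [MonoidHom.mem_ker] at hw ⊢
    apply hK
    have := congrArg Subtype.val hw
    exact this
  let τ : ↥ι.range →* Γ :=
    ι.rangeRestrict.liftOfRightInverse (Function.surjInv ι.rangeRestrict_surjective)
      (Function.rightInverse_surjInv ι.rangeRestrict_surjective) ⟨s, hker⟩
  refine ⟨τ, fun h => ?_⟩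
  obtain ⟨w, rfl⟩ := ι.rangeRestrict_surjective h
  have : τ (ι.rangeRestrict w) = s w :=
    MonoidHom.liftOfRightInverse_comp_apply _ _ _ ⟨s, hker⟩ w
  rw [this, hσs]
  rfl

end Retr

end Cfsg.Agent.Lib.Helper29.PullbackExt
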