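import Mathlib
import Cfsg.Statements.S2752
import Cfsg.Agent.Lib.Helper16.SFDefs
import Cfsg.Agent.Lib.Helper8.ThTwoA
import Cfsg.Agent.Lib.Helper8.ThTwoE
import Cfsg.Agent.Lib.Helper1.Fitting
import Cfsg.Agent.Lib.Helper12.Cores

/-!
# Market "SF" (S2752, planner helper16), leaf `fitting_odd` (helper29).
-/

set_option autoImplicit false
universe u v
open Cfsg Cfsg.Agent.Lib.Helper16.SF Cfsg.Agent.Lib.Helper8.ThTwo

namespace Cfsg.Agent.Lib.Helper29.SFLeaf

section grp
variable {H : Type u} [Group H] [Finite H]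

/-- a nilpotent normal subgroup of a group with `O₂ = 1` has odd order -/
theorem odd_card_of_nilpotent_normal (ha : Cfsg.pCore 2 H = ⊥) (N : Subgroup H) (hN : N.Normal)
    (hnil : Group.IsNilpotent ↥N) : Odd (Nat.card ↥N) := by
  haveI : Fact (Nat.Prime 2) := ⟨Nat.prime_two⟩
  haveI := hN
  haveI := hnil
  obtain ⟨P⟩ := (inferInstance : Nonempty (Sylow 2 ↥N))
  have hPn : (P : Subgroup ↥N).Normal :=
    Sylow.normal_of_normalizerCondition Group.normalizerCondition_of_isNilpotent P
  haveI hPc : (P : Subgroup ↥N).Characteristic := Sylow.characteristic_of_normal P hPn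
  have hmapn : ((P : Subgroup ↥N).map N.subtype).Normal := inferInstance
  have hmapp : IsPGroup 2 ↥((P : Subgroup ↥N).map N.subtype) := P.isPGroup'.map N.subtype
  have hle : (P : Subgroup ↥N).map N.subtype ≤ Cfsg.pCore 2 H :=
    Cfsg.Agent.Lib.Helper12.le_pCore' 2 _ hmapn hmapp
  rw [ha, le_bot_iff] at hle
  have hPbot : (P : Subgroup ↥N) = ⊥ := by
    rw [eq_bot_iff]
    intro x hx
    have : N.subtype x ∈ (P : Subgroup ↥N).map N.subtype := Subgroup.mem_map_of_mem _ hx
    rw [hle, Subgroup.mem_bot] at this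
    rw [Subgroup.mem_bot]
    exact N.subtype_injective (this.trans (map_one _).symm)
  rw [← Nat.not_even_iff_odd]
  intro hev
  exact P.ne_bot_of_dvd_card hev.two_dvd hPbot

/-- **fitting_odd**: the Sylow `2`-subgroup of the nilpotent normal subgroup `F(H)` is normal in `H`. -/
theorem fitting_odd (ha : Cfsg.pCore 2 H = ⊥) :
    (Cfsg.fittingSubgroup H).Normal ∧ Odd (Nat.card ↥(Cfsg.fittingSubgroup H)) :=
  ⟨Cfsg.Agent.Lib.Helper1.fittingSubgroup_normal H,
    odd_card_of_nilpotent_normal ha _ (Cfsg.Agent.Lib.Helper1.fittingSubgroup_normal H)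
      (Cfsg.Agent.Lib.Helper1.fittingSubgroup_isNilpotent H)⟩

end grp

end Cfsg.Agent.Lib.Helper29.SFLeaf
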