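import Mathlib
import Cfsg.Statements.S2752
import Cfsg.Agent.Lib.Helper16.SFDefs
import Cfsg.Agent.Lib.Helper8.ThTwoA
import Cfsg.Agent.Lib.Helper8.ThTwoE
import Cfsg.Agent.Lib.Helper9.Standard
import Cfsg.Agent.Lib.Helper9.FStar
import Cfsg.Agent.Lib.Helper9.FStar2
import Cfsg.Agent.Lib.Helper29.SFfitting_odd

/-!
# Market "SF" (S2752, planner helper16), leaf `center_odd` (helper29).
-/

set_option autoImplicit false
universe u v
open Cfsg Cfsg.Agent.Lib.Helper16.SF Cfsg.Agent.Lib.Helper8.ThTwo

namespace Cfsg.Agent.Lib.Helper29.SFLeaf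

section grp
variable {H : Type u} [Group H] [Finite H]

/-- **center_odd**: `Z(K) ≤ Z(E(H))`, an abelian normal subgroup of `H`; its Sylow `2`-subgroup is normal in `H`. -/
theorem center_odd (ha : Cfsg.pCore 2 H = ⊥) (K : Subgroup H) (hK : Cfsg.IsComponent K) :
    Odd (Nat.card ↥(Subgroup.center ↥K)) := by
  haveI : (Cfsg.layer H).Normal := Cfsg.Agent.Lib.Helper9.layer_normal
  have hZn : (Cfsg.layer H ⊓ Subgroup.centralizer ((Cfsg.layer H : Subgroup H) : Set H)).Normal :=
    Subgroup.normal_inf_normal _ _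
  have hZnil : Group.IsNilpotent
      ↥(Cfsg.layer H ⊓ Subgroup.centralizer ((Cfsg.layer H : Subgroup H) : Set H)) := by
    apply Cfsg.Agent.Lib.Helper9.isNilpotent_of_le_centralizer
    intro a ha'
    rw [Subgroup.mem_centralizer_iff]
    intro b hb
    exact Subgroup.mem_centralizer_iff.mp (Subgroup.mem_inf.mp ha').2 b (Subgroup.mem_inf.mp hb).1
  have hZodd := odd_card_of_nilpotent_normal ha _ hZn hZnil
  have hle : (Subgroup.center ↥K).map K.subtype ≤
      Cfsg.layer H ⊓ Subgroup.centralizer ((Cfsg.layer H : Subgroup H) : Set H) := by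
    rintro _ ⟨z, hz, rfl⟩
    have hzK : (z : H) ∈ K := z.2
    have hzC : (z : H) ∈ Subgroup.centralizer (K : Set H) := by
      rw [Subgroup.mem_centralizer_iff]
      intro k hk
      have := Subgroup.mem_center_iff.1 hz ⟨k, hk⟩
      exact congrArg Subtype.val this
    refine Subgroup.mem_inf.mpr ⟨Cfsg.Agent.Lib.Helper9.component_le_layer hK hzK, ?_⟩
    have : Subgroup.zpowers (z : H) ≤
        Subgroup.centralizer ((Cfsg.layer H : Subgroup H) : Set H) := by
      rw [Subgroup.le_centralizer_iff]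
      apply Cfsg.Agent.Lib.Helper9.layer_le_of_forall_component_le
      intro L hL
      rw [Subgroup.le_centralizer_iff, Subgroup.zpowers_le]
      by_cases hKL : L = K
      · rw [hKL]; exact hzC
      · have h1 := Cfsg.Agent.Lib.Helper9.components_commute K L hK hL (Ne.symm hKL)
        rw [Subgroup.commutator_eq_bot_iff_le_centralizer] at h1
        exact h1 hzK
    exact this (Subgroup.mem_zpowers (z : H))
  have hcard : Nat.card ↥(Subgroup.center ↥K) = Nat.card ↥((Subgroup.center ↥K).map K.subtype) :=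
    Nat.card_congr (Subgroup.equivMapOfInjective _ _ K.subtype_injective).toEquiv
  rw [hcard]
  exact Odd.of_dvd_nat hZodd (Subgroup.card_dvd_of_le hle)

end grp

end Cfsg.Agent.Lib.Helper29.SFLeaf
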