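import Mathlib
import Cfsg.Statements.S2752
import Cfsg.Agent.Lib.Helper16.SFDefs
import Cfsg.Agent.Lib.Helper8.ThTwoA
import Cfsg.Agent.Lib.Helper8.ThTwoE
import Cfsg.Agent.Lib.Helper16.DihedralInvolved
import Cfsg.Agent.Lib.Helper16.S4Involved

/-!
# Market "SF" (S2752, planner helper16), leaf `s3_of_inverts` (helper29).
-/

set_option autoImplicit false
universe u v
open Cfsg Cfsg.Agent.Lib.Helper16.SF Cfsg.Agent.Lib.Helper8.ThTwo

namespace Cfsg.Agent.Lib.Helper29.SFLeaf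

section grp
variable {H : Type u} [Group H] [Finite H]

/-- **s3_of_inverts**: `⟨u, a⟩ ≅ S₃`. -/
theorem s3_of_inverts (a u : H) (ha : a * a = 1) (hu : orderOf u = 3) (hau : a * u * a⁻¹ = u⁻¹) :
    Cfsg.Involves (Equiv.Perm (Fin 3)) H := by
  haveI : Fact (Nat.Prime 3) := ⟨Nat.prime_three⟩
  have hx : ∃ k : ℕ, orderOf a = 2 ^ k := by
    have h2 : a ^ 2 = 1 := by rw [pow_two]; exact ha
    have hd : orderOf a ∣ 2 := orderOf_dvd_of_pow_eq_one h2
    rcases (Nat.dvd_prime Nat.prime_two).1 hd with h | h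
    · exact ⟨0, by rw [h, pow_zero]⟩
    · exact ⟨1, by rw [h, pow_one]⟩
  have h3 : Cfsg.Involves (DihedralGroup 3) H :=
    Cfsg.Agent.Lib.Helper16.involves_dihedral_of_inverting (p := 3) (by norm_num) a u hx hu hau
  exact Cfsg.Agent.Lib.Helper16.involves_of_mulEquiv Cfsg.Agent.Lib.Helper3.d3Equiv h3

end grp

end Cfsg.Agent.Lib.Helper29.SFLeaf
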