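import Mathlib
import Cfsg.Agent.Lib.Helper1.TraceIdentity
import Cfsg.Agent.Lib.Helper20.Fpf4Quot

/-!
# Elementary abelian groups of order 8 acting on odd `p`-groups (support for S4412)
-/

set_option autoImplicit false
set_option linter.unusedSectionVars false
set_option linter.style.haveILetI false

open Subgroup Cfsg.Agent.Lib.Helper1

namespace Cfsg.Agent.Lib.Helper29.ElemEight


variable {P : Type*} [Group P] [Finite P]

/-- in a `p`-group, `p` odd, `u = u⁻¹` forces `u = 1` -/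
theorem eq_one_of_eq_inv {p : ℕ} (hp : p.Prime) (hp2 : p ≠ 2) (hP : IsPGroup p P) {u : P}
    (h : u = u⁻¹) : u = 1 := by
  have h2 : u ^ 2 = 1 := by
    rw [pow_two]
    have : u * u = u * u⁻¹ := by rw [← h]
    rw [this, mul_inv_cancel]
  obtain ⟨k, hk⟩ := hP u
  have hd1 : orderOf u ∣ 2 := orderOf_dvd_of_pow_eq_one h2
  have hd2 : orderOf u ∣ p ^ k := orderOf_dvd_of_pow_eq_one hk
  have hcop : Nat.Coprime 2 (p ^ k) :=
    Nat.Coprime.pow_right k ((Nat.coprime_primes Nat.prime_two hp).mpr (Ne.symm hp2))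
  have : orderOf u = 1 := Nat.eq_one_of_dvd_coprimes hcop hd1 hd2
  exact orderOf_eq_one_iff.mp this

/-- an automorphism of order at most two mapping `g` into `⟨g⟩` fixes or inverts `g` -/
theorem fix_or_inv {p : ℕ} (hp : p.Prime) (hp2 : p ≠ 2) (hP : IsPGroup p P) (s : MulAut P)
    (hs : ∀ u, s (s u) = u) (g : P) (hg : s g ∈ zpowers g) : s g = g ∨ s g = g⁻¹ := by
  obtain ⟨k, hk⟩ := Subgroup.mem_zpowers_iff.mp hg
  have h1 : g ^ (k * k) = g := by
    have h := hs g
    rw [← hk, map_zpow, ← hk, ← zpow_mul] at h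
    exact h
  have h2 : g ^ (k * k - 1) = 1 := by
    rw [zpow_sub, zpow_one, h1, mul_inv_cancel]
  have hdvd : (orderOf g : ℤ) ∣ k * k - 1 := orderOf_dvd_iff_zpow_eq_one.mpr h2
  obtain ⟨n, hn⟩ := hP g
  obtain ⟨m, -, hm⟩ := (Nat.dvd_prime_pow hp).mp (orderOf_dvd_of_pow_eq_one hn)
  have hfac : k * k - 1 = (k - 1) * (k + 1) := by ring
  rw [hfac, hm] at hdvd
  push_cast at hdvd
  have hpZ : Prime (p : ℤ) := Nat.prime_iff_prime_int.mp hp
  have key : ∀ a b : ℤ, (p : ℤ) ^ m ∣ a * b → ¬ (p : ℤ) ∣ b → (p : ℤ) ^ m ∣ a := by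
    intro a b hab hb
    have hcop : IsCoprime ((p : ℤ) ^ m) b :=
      IsCoprime.pow_left ((Prime.coprime_iff_not_dvd hpZ).mpr hb)
    exact hcop.dvd_of_dvd_mul_right hab
  have hord : ∀ j : ℤ, (p : ℤ) ^ m ∣ j → g ^ j = 1 := by
    intro j hj
    apply orderOf_dvd_iff_zpow_eq_one.mp
    rw [hm]; push_cast; exact hj
  by_cases hdiv : (p : ℤ) ∣ k - 1
  · have hnd : ¬ (p : ℤ) ∣ k + 1 := by
      intro h
      have h2 : (p : ℤ) ∣ 2 := by
        have := dvd_sub h hdiv
        have e : (k + 1) - (k - 1) = 2 := by ring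
        rwa [e] at this
      have h3 : p ∣ 2 := by exact_mod_cast h2
      exact hp2 ((Nat.prime_dvd_prime_iff_eq hp Nat.prime_two).mp h3)
    have h3 := hord _ (key _ _ hdvd hnd)
    left
    rw [← hk]
    have : g ^ k = g ^ (k - 1) * g := by
      rw [← zpow_add_one]; congr 1; ring
    rw [this, h3, one_mul]
  · have h3 := hord _ (key _ _ (by rwa [mul_comm] at hdvd) hdiv)
    right
    rw [← hk]
    have : g ^ k = g ^ (k + 1) * g⁻¹ := by
      rw [zpow_add_one, mul_assoc, mul_inv_cancel, mul_one]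
    rw [this, h3, one_mul]

theorem apply_of_mem_zpowers (s : MulAut P) (g : P) {u : P} (hu : u ∈ zpowers g) :
    (s g = g → s u = u) ∧ (s g = g⁻¹ → s u = u⁻¹) := by
  obtain ⟨j, rfl⟩ := Subgroup.mem_zpowers_iff.mp hu
  constructor
  · intro h; rw [map_zpow, h]
  · intro h; rw [map_zpow, h, inv_zpow]

/-- the key dichotomy on a cyclic fixed-point subgroup -/
theorem mixed {p : ℕ} (hp : p.Prime) (hp2 : p ≠ 2) (hP : IsPGroup p P) (T S : MulAut P)
    (hTS : T * S = S * T) (hS : ∀ u, S (S u) = u) (g : P)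
    (hT : ∀ x, T x = x ↔ x ∈ zpowers g) (u v : P) (hu : T u = u) (hv : T v = v)
    (hSu : S u = u) (hSv : S v = v⁻¹) : u = 1 ∨ v = 1 := by
  have hTg : T g = g := (hT g).mpr (mem_zpowers g)
  have hSg : S g ∈ zpowers g := by
    apply (hT (S g)).mp
    have : T (S g) = (T * S) g := rfl
    rw [this, hTS, MulAut.mul_apply, hTg]
  rcases fix_or_inv hp hp2 hP S hS g hSg with h | h
  · right
    have := (apply_of_mem_zpowers S g ((hT v).mp hv)).1 h
    exact eq_one_of_eq_inv hp hp2 hP (this.symm.trans hSv)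
  · left
    have := (apply_of_mem_zpowers S g ((hT u).mp hu)).2 h
    exact eq_one_of_eq_inv hp hp2 hP (hSu.symm.trans this)




/-- a four-group of automorphisms of a `p`-group, `p` odd: generation by fixed points -/
theorem four_gen {p : ℕ} (hp : p.Prime) (hp2 : p ≠ 2) (hP : IsPGroup p P) (x y : MulAut P)
    (hxy : x * y = y * x) (hx : x * x = 1) (hy : y * y = 1) :
    fixSub x ⊔ fixSub y ⊔ fixSub (x * y) = ⊤ := by
  haveI : Fact p.Prime := ⟨hp⟩
  haveI : Fact (Nat.Prime 2) := ⟨Nat.prime_two⟩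
  have h := iSup_fixSub_eq_top (p := p) (q := 2) hP (Ne.symm hp2) x y hxy
    (by rw [pow_two]; exact hx) (by rw [pow_two]; exact hy)
  rw [eq_top_iff, ← h]
  apply sup_le
  · apply iSup_le
    intro j
    rcases Nat.even_or_odd' j with ⟨m, rfl | rfl⟩
    · have : y ^ (2 * m) = 1 := by rw [pow_mul, pow_two, hy, one_pow]
      rw [this, mul_one]
      exact le_sup_of_le_left le_sup_left
    · have : y ^ (2 * m + 1) = y := by rw [pow_succ, pow_mul, pow_two, hy, one_pow, one_mul]
      rw [this]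
      exact le_sup_right
  · exact le_sup_of_le_left le_sup_right

open Cfsg.Agent.Lib.Helper20.Fpf4 in
/-- an involutory automorphism without nontrivial fixed points on an invariant subgroup inverts it -/
theorem inv_of_fpf (K : Subgroup P) (s : MulAut P) (hK : ∀ u ∈ K, s u ∈ K)
    (hs : ∀ u, s (s u) = u) (hfpf : ∀ u ∈ K, s u = u → u = 1) : ∀ u ∈ K, s u = u⁻¹ := by
  intro u hu
  have hF : Fpf (restrictAut s K hK) := by
    intro m hm
    have h1 : s (m : P) = m := by
      have := congrArg Subtype.val hm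
      rwa [restrictAut_coe] at this
    exact Subtype.ext (hfpf _ m.2 h1)
  have h2 : ∀ x, (restrictAut s K hK) ((restrictAut s K hK) x) = x := by
    intro x
    apply Subtype.ext
    rw [restrictAut_coe, restrictAut_coe]
    exact hs _
  have := hF.inv_of_sq h2 ⟨u, hu⟩
  have := congrArg Subtype.val this
  rwa [restrictAut_coe] at this

theorem comm_of_fpf (K : Subgroup P) (s : MulAut P) (hK : ∀ u ∈ K, s u ∈ K)
    (hs : ∀ u, s (s u) = u) (hfpf : ∀ u ∈ K, s u = u → u = 1) :
    ∀ u ∈ K, ∀ v ∈ K, u * v = v * u := by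
  intro u hu v hv
  have h1 := inv_of_fpf K s hK hs hfpf u hu
  have h2 := inv_of_fpf K s hK hs hfpf v hv
  have h3 := inv_of_fpf K s hK hs hfpf (u * v) (K.mul_mem hu hv)
  rw [map_mul, h1, h2, mul_inv_rev] at h3
  -- u⁻¹ * v⁻¹ = v⁻¹ * u⁻¹
  have := congrArg (fun t => t⁻¹) h3
  simp only [mul_inv_rev, inv_inv] at this
  exact this.symm


section PigeonHole
omit [Finite P]



/-- pigeonhole: an involution of `I` fixing `g₁, g₂` and inverting `g₃` -/
theorem exists_dual (I : Subgroup (MulAut P)) [Finite I] (hI8 : Nat.card I = 8)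
    (hsq : ∀ T ∈ I, T * T = 1) (g₁ g₂ g₃ : P)
    (hpm1 : ∀ S ∈ I, S g₁ = g₁ ∨ S g₁ = g₁⁻¹) (hpm2 : ∀ S ∈ I, S g₂ = g₂ ∨ S g₂ = g₂⁻¹)
    (hpm3 : ∀ S ∈ I, S g₃ = g₃ ∨ S g₃ = g₃⁻¹)
    (hgen : ∀ d : MulAut P, d g₁ = g₁ → d g₂ = g₂ → d g₃ = g₃ → d = 1) :
    ∃ d ∈ I, d g₁ = g₁ ∧ d g₂ = g₂ ∧ d g₃ = g₃⁻¹ ∧ g₃ ≠ 1 := by
  classical
  cases nonempty_fintype I
  have hcard : Fintype.card (Bool × Bool) < Fintype.card I := by
    rw [← Nat.card_eq_fintype_card (α := I), hI8]
    simp
  obtain ⟨S, S', hne, hf⟩ := Fintype.exists_ne_map_eq_of_card_lt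
    (fun S : I => ((decide (S.1 g₁ = g₁), decide (S.1 g₂ = g₂)) : Bool × Bool)) hcard
  have hf1 : (S.1 g₁ = g₁ ↔ S'.1 g₁ = g₁) := by
    have := congrArg Prod.fst hf
    simpa using this
  have hf2 : (S.1 g₂ = g₂ ↔ S'.1 g₂ = g₂) := by
    have := congrArg Prod.snd hf
    simpa using this
  have key : ∀ g : P, (S.1 g = g ∨ S.1 g = g⁻¹) → (S'.1 g = g ∨ S'.1 g = g⁻¹) →
      (S.1 g = g ↔ S'.1 g = g) → (S.1 * S'.1) g = g := by
    intro g h1 h2 h3
    rw [MulAut.mul_apply]
    by_cases h : S'.1 g = g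
    · rw [h, h3.mpr h]
    · have h4 : S'.1 g = g⁻¹ := h2.resolve_left h
      have h5 : S.1 g = g⁻¹ := h1.resolve_left (fun h' => h (h3.mp h'))
      rw [h4, map_inv, h5, inv_inv]
  set d : MulAut P := S.1 * S'.1 with hd
  have hdI : d ∈ I := I.mul_mem S.2 S'.2
  have hd1 : d g₁ = g₁ := key g₁ (hpm1 _ S.2) (hpm1 _ S'.2) hf1
  have hd2 : d g₂ = g₂ := key g₂ (hpm2 _ S.2) (hpm2 _ S'.2) hf2
  have hdne : d ≠ 1 := by
    intro h
    apply hne
    have h1 : S.1 * S'.1 = S.1 * S.1 := by rw [← hd, h, hsq _ S.2]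
    exact Subtype.ext (mul_left_cancel h1).symm
  have hd3 : d g₃ ≠ g₃ := fun h => hdne (hgen d hd1 hd2 h)
  refine ⟨d, hdI, hd1, hd2, (hpm3 d hdI).resolve_left hd3, ?_⟩
  intro h
  apply hd3
  rw [h, map_one]


end PigeonHole


section Abstract
variable {G : Type*} [CommGroup G]

theorem mem_zpowers_invol {a x : G} (ha : a * a = 1) (hx : x ∈ zpowers a) : x = 1 ∨ x = a := by
  obtain ⟨k, rfl⟩ := Subgroup.mem_zpowers_iff.mp hx
  rcases Int.even_or_odd' k with ⟨m, rfl | rfl⟩
  · left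
    rw [zpow_mul, zpow_two, ha, one_zpow]
  · right
    rw [zpow_add_one, zpow_mul, zpow_two, ha, one_zpow, one_mul]

theorem card_chain_step [Finite G] {H K : Subgroup G} (hHK : H < K) (h2 : ∃ n, Nat.card K = 2 ^ n) :
    2 * Nat.card H ≤ Nat.card K := by
  obtain ⟨n, hn⟩ := h2
  have hdvd : Nat.card H ∣ Nat.card K := Subgroup.card_dvd_of_le hHK.le
  rw [hn] at hdvd
  obtain ⟨m, hm, hHm⟩ := (Nat.dvd_prime_pow Nat.prime_two).mp hdvd
  have hlt : Nat.card H < Nat.card K := by
    by_contra hcon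
    push Not at hcon
    exact hHK.ne (Subgroup.eq_of_le_of_card_ge hHK.le hcon)
  rw [hn, hHm] at hlt ⊢
  have hmn : m < n := (Nat.pow_lt_pow_iff_right (by norm_num)).mp hlt
  calc 2 * 2 ^ m = 2 ^ (m + 1) := by ring
    _ ≤ 2 ^ n := Nat.pow_le_pow_right (by norm_num) hmn

/-- enumeration of an elementary abelian group of order 8 from three independent elements -/
theorem enum_eight [Finite G] (hcard : Nat.card G = 8) (hsq : ∀ g : G, g * g = 1) (a b c : G)
    (ha : a ≠ 1) (hb : b ≠ 1) (hba : b ≠ a) (hc1 : c ≠ 1) (hca : c ≠ a) (hcb : c ≠ b)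
    (hcab : c ≠ a * b) (g : G) :
    g = 1 ∨ g = a ∨ g = b ∨ g = c ∨ g = a * b ∨ g = a * c ∨ g = b * c ∨ g = a * b * c := by
  have hpow : ∀ K : Subgroup G, ∃ n, Nat.card K = 2 ^ n := by
    intro K
    have hd : Nat.card K ∣ 2 ^ 3 := by
      have := Subgroup.card_subgroup_dvd_card K
      rw [hcard] at this; exact this
    obtain ⟨m, -, hm⟩ := (Nat.dvd_prime_pow Nat.prime_two).mp hd
    exact ⟨m, hm⟩
  set H1 : Subgroup G := zpowers a with hH1
  set H2 : Subgroup G := H1 ⊔ zpowers b with hH2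
  set H3 : Subgroup G := H2 ⊔ zpowers c with hH3
  have hmem2 : ∀ x ∈ H2, x = 1 ∨ x = a ∨ x = b ∨ x = a * b := by
    intro x hx
    obtain ⟨y, hy, z, hz, rfl⟩ := Subgroup.mem_sup.mp hx
    rcases mem_zpowers_invol (hsq a) hy with rfl | rfl <;>
    rcases mem_zpowers_invol (hsq b) hz with rfl | rfl <;> simp
  have h01 : (⊥ : Subgroup G) < H1 := by
    rw [bot_lt_iff_ne_bot]
    intro h
    have : a ∈ (⊥ : Subgroup G) := by rw [← h]; exact mem_zpowers a
    exact ha (Subgroup.mem_bot.mp this)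
  have h12 : H1 < H2 := by
    apply lt_of_le_of_ne le_sup_left
    intro h
    have : b ∈ H1 := by rw [h]; exact Subgroup.mem_sup_right (mem_zpowers b)
    rcases mem_zpowers_invol (hsq a) this with h | h
    · exact hb h
    · exact hba h
  have h23 : H2 < H3 := by
    apply lt_of_le_of_ne le_sup_left
    intro h
    have : c ∈ H2 := by rw [h]; exact Subgroup.mem_sup_right (mem_zpowers c)
    rcases hmem2 c this with h | h | h | h
    · exact hc1 h
    · exact hca h
    · exact hcb h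
    · exact hcab h
  have c1 := card_chain_step h01 (hpow _)
  have c2 := card_chain_step h12 (hpow _)
  have c3 := card_chain_step h23 (hpow _)
  rw [Subgroup.card_bot] at c1
  have htop : H3 = ⊤ := by
    apply Subgroup.eq_top_of_card_eq
    have := Subgroup.card_le_card_group H3
    omega
  have hg : g ∈ H3 := by rw [htop]; exact Subgroup.mem_top g
  obtain ⟨y, hy, z, hz, rfl⟩ := Subgroup.mem_sup.mp hg
  rcases hmem2 y hy with rfl | rfl | rfl | rfl <;>
  rcases mem_zpowers_invol (hsq c) hz with rfl | rfl <;> simp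


/-- a hyperplane through a subgroup avoiding a given element -/
theorem exists_hyperplane [Finite G] (hcard : Nat.card G = 8) (hsq : ∀ g : G, g * g = 1)
    (J : Subgroup G) (t : G) (ht : t ∉ J) :
    ∃ M : Subgroup G, J ≤ M ∧ t ∉ M ∧ ∃ x ∈ M, ∃ y ∈ M, x ≠ 1 ∧ y ≠ 1 ∧ x ≠ y := by
  classical
  haveI : Nonempty {M : Subgroup G // J ≤ M ∧ t ∉ M} := ⟨⟨J, le_rfl, ht⟩⟩
  obtain ⟨⟨M, hJM, htM⟩, hmax⟩ :=
    Finite.exists_max (fun M : {M : Subgroup G // J ≤ M ∧ t ∉ M} => Nat.card M.1)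
  refine ⟨M, hJM, htM, ?_⟩
  -- every element lies in `M` or `t M`
  have hcover : ∀ x : G, x ∈ M ∨ t * x ∈ M := by
    intro x
    by_contra hcon
    push Not at hcon
    obtain ⟨hx1, hx2⟩ := hcon
    have htM' : t ∉ M ⊔ zpowers x := by
      intro h
      obtain ⟨m, hm, k, hk, hmk⟩ := Subgroup.mem_sup.mp h
      rcases mem_zpowers_invol (hsq x) hk with h | h
      · rw [h, mul_one] at hmk; rw [hmk] at hm; exact htM hm
      · apply hx2
        rw [← hmk, h, mul_assoc, hsq x, mul_one]; exact hm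
    have h1 := hmax ⟨M ⊔ zpowers x, hJM.trans le_sup_left, htM'⟩
    simp only at h1
    have h2 : M = M ⊔ zpowers x := Subgroup.eq_of_le_of_card_ge le_sup_left h1
    apply hx1
    rw [h2]
    exact Subgroup.mem_sup_right (mem_zpowers x)
  -- hence `|M| ≥ 4`
  have hcard4 : 4 ≤ Nat.card M := by
    have hinj : Function.Injective (fun x : G =>
        if h : x ∈ M then ((false, ⟨x, h⟩) : Bool × M)
        else (true, ⟨t * x, (hcover x).resolve_left h⟩)) := by
      intro x y hxy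
      by_cases hx : x ∈ M <;> by_cases hy : y ∈ M
      · simp only [hx, hy, dite_true] at hxy
        have := congrArg (fun q => (q.2 : G)) hxy
        exact this
      · simp only [hx, hy, dite_true, dite_false] at hxy
        have := congrArg (fun q => q.1) hxy
        simp at this
      · simp only [hx, hy, dite_true, dite_false] at hxy
        have := congrArg (fun q => q.1) hxy
        simp at this
      · simp only [hx, hy, dite_false] at hxy
        have := congrArg (fun q => (q.2 : G)) hxy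
        simp only at this
        exact mul_left_cancel this
    have := Nat.card_le_card_of_injective _ hinj
    rw [Nat.card_prod, hcard, Nat.card_eq_fintype_card, Fintype.card_bool] at this
    omega
  -- pick two distinct nonidentity elements
  have hne : M ≠ ⊥ := by
    intro h
    rw [h, Subgroup.card_bot] at hcard4
    omega
  obtain ⟨⟨x, hxM⟩, hx1⟩ := (Subgroup.ne_bot_iff_exists_ne_one.mp hne)
  have hx1' : x ≠ 1 := fun h => hx1 (Subtype.ext h)
  have hlt : zpowers x < M := by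
    apply lt_of_le_of_ne ((Subgroup.zpowers_le).mpr hxM)
    intro h
    have h2 : Nat.card (zpowers x) ≤ 2 := by
      rw [Nat.card_zpowers]
      apply Nat.le_of_dvd (by norm_num)
      apply orderOf_dvd_of_pow_eq_one
      rw [pow_two]; exact hsq x
    rw [h] at h2
    omega
  obtain ⟨y, hyM, hy⟩ := SetLike.exists_of_lt hlt
  refine ⟨x, hxM, y, hyM, hx1', ?_, ?_⟩
  · intro h; exact hy (h ▸ Subgroup.one_mem _)
  · intro h; exact hy (h ▸ mem_zpowers x)



end Abstract


theorem card_chain_step_p {G : Type*} [Group G] [Finite G] {p : ℕ} (hp : p.Prime)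
    {H K : Subgroup G} (hHK : H < K) (h2 : ∃ n, Nat.card K = p ^ n) :
    p * Nat.card H ≤ Nat.card K := by
  obtain ⟨n, hn⟩ := h2
  have hdvd : Nat.card H ∣ Nat.card K := Subgroup.card_dvd_of_le hHK.le
  rw [hn] at hdvd
  obtain ⟨m, hm, hHm⟩ := (Nat.dvd_prime_pow hp).mp hdvd
  have hlt : Nat.card H < Nat.card K := by
    by_contra hcon
    exact hHK.ne (Subgroup.eq_of_le_of_card_ge hHK.le (not_lt.mp hcon))
  rw [hn, hHm] at hlt ⊢
  have hmn : m < n := (Nat.pow_lt_pow_iff_right hp.one_lt).mp hlt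
  calc p * p ^ m = p ^ (m + 1) := by ring
    _ ≤ p ^ n := Nat.pow_le_pow_right hp.pos hmn

open scoped IsMulCommutative in
/-- a group generated by two elements: a normal subgroup containing all `p`-th powers and all
commutators has index at most `p ^ 2` -/
theorem index_le_of_closure_pair {G : Type*} [Group G] [Finite G] (N : Subgroup G) [N.Normal]
    (p : ℕ) (hp : 0 < p) (hpow : ∀ x : G, x ^ p ∈ N) (hcomm : commutator G ≤ N) (a b : G)
    (hab : closure {a, b} = ⊤) : N.index ≤ p ^ 2 := by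
  haveI : IsMulCommutative (G ⧸ N) :=
    Subgroup.Normal.quotient_commutative_iff_commutator_le.mpr hcomm
  set a' : G ⧸ N := QuotientGroup.mk' N a with ha'
  set b' : G ⧸ N := QuotientGroup.mk' N b with hb'
  have hcl : closure {a', b'} = (⊤ : Subgroup (G ⧸ N)) := by
    have h1 := MonoidHom.map_closure (QuotientGroup.mk' N) {a, b}
    rw [hab, Subgroup.map_top_of_surjective _ (QuotientGroup.mk'_surjective N),
      Set.image_pair] at h1
    exact h1.symm
  have hap : ∀ x : G ⧸ N, x ^ p = 1 := by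
    intro x
    obtain ⟨y, rfl⟩ := QuotientGroup.mk'_surjective N x
    rw [← map_pow]
    exact (QuotientGroup.eq_one_iff _).mpr (hpow y)
  have hsurj : Function.Surjective
      (fun ij : Fin p × Fin p => a' ^ (ij.1 : ℕ) * b' ^ (ij.2 : ℕ)) := by
    intro q
    have hq : q ∈ closure {a', b'} := by rw [hcl]; exact Subgroup.mem_top q
    obtain ⟨m, n, rfl⟩ := Subgroup.mem_closure_pair.mp hq
    have hpZ : (0 : ℤ) < p := by exact_mod_cast hp
    have hm0 : 0 ≤ m % (p : ℤ) := Int.emod_nonneg _ hpZ.ne'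
    have hn0 : 0 ≤ n % (p : ℤ) := Int.emod_nonneg _ hpZ.ne'
    have hm1 : m % (p : ℤ) < p := Int.emod_lt_of_pos _ hpZ
    have hn1 : n % (p : ℤ) < p := Int.emod_lt_of_pos _ hpZ
    refine ⟨(⟨(m % (p : ℤ)).toNat, by omega⟩, ⟨(n % (p : ℤ)).toNat, by omega⟩), ?_⟩
    simp only
    rw [zpow_eq_zpow_emod' m (hap a'), zpow_eq_zpow_emod' n (hap b'),
      ← zpow_natCast, ← zpow_natCast, Int.toNat_of_nonneg hm0, Int.toNat_of_nonneg hn0]
  have := Nat.card_le_card_of_surjective _ hsurj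
  rw [Nat.card_prod, Nat.card_fin] at this
  rw [Subgroup.index_eq_card, pow_two]
  exact this

/-- a chain of four subgroups in a `p`-group starting at `Φ` and ending at `⊤` -/
theorem index_ge_of_chain {G : Type*} [Group G] [Finite G] {p : ℕ} (hp : p.Prime)
    (hG : IsPGroup p G) (H0 H1 H2 : Subgroup G) (h01 : H0 < H1) (h12 : H1 < H2) (h23 : H2 < ⊤) :
    p ^ 3 ≤ H0.index := by
  haveI : Fact p.Prime := ⟨hp⟩
  have hpow : ∀ K : Subgroup G, ∃ n, Nat.card K = p ^ n := fun K =>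
    IsPGroup.iff_card.mp (hG.to_subgroup K)
  have c1 := card_chain_step_p hp h01 (hpow _)
  have c2 := card_chain_step_p hp h12 (hpow _)
  have c3 := card_chain_step_p hp h23 (hpow _)
  rw [Subgroup.card_top] at c3
  have h4 := H0.card_mul_index
  have hpos : 0 < Nat.card H0 := Nat.card_pos
  have : p ^ 3 * Nat.card H0 ≤ Nat.card H0 * H0.index := by
    rw [h4]
    calc p ^ 3 * Nat.card H0 = p * (p * (p * Nat.card H0)) := by ring
      _ ≤ p * (p * Nat.card H1) := Nat.mul_le_mul_left _ (Nat.mul_le_mul_left _ c1)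
      _ ≤ p * Nat.card H2 := Nat.mul_le_mul_left _ c2
      _ ≤ Nat.card G := c3
  rw [mul_comm (Nat.card H0)] at this
  exact Nat.le_of_mul_le_mul_right this hpos


end Cfsg.Agent.Lib.Helper29.ElemEight
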