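import Mathlib
import Cfsg.Prelude.Def_Blocks
import Cfsg.Agent.Lib.Helper6.Clifford
import Cfsg.Agent.Lib.Helper5.RODefs
import Cfsg.Agent.Lib.Helper6.LinChar

/-!
# S4581 leaf (SEP) (helper29): linear characters separate the elements of a finite group modulo
its derived subgroup.
-/

set_option autoImplicit false

namespace Cfsg.Agent.Lib.Helper29.RO

open Cfsg Cfsg.Agent.Lib.Helper6 Cfsg.Agent.Lib.Helper5.RO

universe u

/-- (SEP) linear characters separate the elements of a finite group modulo its derived subgroup. -/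
theorem exists_linear_ne_one {H : Type u} [Group H] [Finite H] (x : H) (hx : x ∉ commutator H) :
    ∃ μ : IrrCharacter H, (μ : H → ℂ) 1 = 1 ∧ (μ : H → ℂ) x ≠ 1 := by
  have ha : (Abelianization.of x : Abelianization H) ≠ 1 := by
    intro h
    apply hx
    have h1 : x ∈ (Abelianization.of : H →* Abelianization H).ker := h
    rwa [Abelianization.ker_of] at h1
  obtain ⟨φ, hφ⟩ :=
    CommGroup.exists_apply_ne_one_of_hasEnoughRootsOfUnity (Abelianization H) ℂ ha
  refine ⟨⟨_, isIrrCharacter_of_hom (φ.comp Abelianization.of)⟩, ?_, ?_⟩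
  · simp
  · intro h
    apply hφ
    apply Units.ext
    simpa using h

end Cfsg.Agent.Lib.Helper29.RO
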