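/-
helper29: S5286 leaf (PS).  A pinch `τ_b ι(s_b) τ_a` multiplies out to an element of `ι(S)`
(`t_conj`, `t_inv_conj` of helper21's LSBasic).
-/
import Mathlib
import Cfsg.Agent.Lib.Helper21.LSBasic

set_option autoImplicit false
universe u
open Cfsg
open Cfsg.Agent.Lib.Helper21.LS

namespace Cfsg.Agent.Lib.Helper29.LSPS

variable {Ω : Type u} [Group Ω] {S : Subgroup Ω} (F : FusionSystem S)

/-- (PS) a pinch multiplies out to an element of `ι(S)`. -/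
theorem pinch_prod (hσ : ∀ i : Idx F, SigGood F i (sig F i)) (b a : Step F) (h : Pinch F b a) :
    ∃ s' : ↥S, tau F b.i b.ε * iotaHat F b.s * tau F a.i a.ε = iotaHat F s' := by
  rcases a with ⟨ai, aε, as⟩
  rcases b with ⟨bi, bε, bs⟩
  obtain ⟨h1, h2, h3⟩ := h
  simp only at h1 h2 h3
  subst h1
  subst h2
  show ∃ s' : ↥S, tau F ai bε * iotaHat F bs * tau F ai (!bε) = iotaHat F s'
  cases bε with
  | true =>
    rw [if_pos rfl] at h3
    refine ⟨⟨ai.φ ⟨(bs : Ω), h3⟩, ai.φ_mem ⟨(bs : Ω), h3⟩⟩, ?_⟩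
    exact t_conj F ai (hσ ai) ⟨(bs : Ω), h3⟩
  | false =>
    rw [if_neg (by simp)] at h3
    obtain ⟨u, hu⟩ := h3
    refine ⟨⟨(u : Ω), ai.P_le u.2⟩, ?_⟩
    have hbs : bs = ⟨ai.φ u, ai.φ_mem u⟩ := Subtype.ext hu.symm
    rw [hbs]
    exact t_inv_conj F ai (hσ ai) u

end Cfsg.Agent.Lib.Helper29.LSPS
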