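/-
helper29: S5286 leaf (RED).  Every element of `G F` is the value of a reduced word: induction on the closure
with right multiplication by `ι s`, `t i`, `(t i)⁻¹`.
-/
import Mathlib
import Cfsg.Agent.Lib.Helper21.LSBasic

set_option autoImplicit false
universe u
open Cfsg
open Cfsg.Agent.Lib.Helper21.LS

namespace Cfsg.Agent.Lib.Helper29.LSRED

variable {Ω : Type u} [Group Ω] {S : Subgroup Ω} (F : FusionSystem S)

/-- right multiplication of a reduced word by `ι s` -/
theorem exists_reduced_mul_iota (s0 : ↥S) (l : List (Step F)) (hl : Reduced F l) (s : ↥S) :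
    ∃ (s0' : ↥S) (l' : List (Step F)), Reduced F l' ∧ evalR F s0' l' = evalR F s0 l * iotaHat F s := by
  cases l with
  | nil =>
    refine ⟨s0 * s, [], hl, ?_⟩
    show iotaHat F (s0 * s) = iotaHat F s0 * iotaHat F s
    rw [map_mul]
  | cons a l' =>
    refine ⟨s0, ⟨a.i, a.ε, a.s * s⟩ :: l', ?_, ?_⟩
    · cases l' with
      | nil => exact List.IsChain.singleton _
      | cons b l'' =>
        have h := (List.isChain_cons_cons.mp hl)
        exact List.isChain_cons_cons.mpr ⟨h.1, h.2⟩
    · show evalR F s0 l' * tau F a.i a.ε * iotaHat F (a.s * s) =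
        evalR F s0 l' * tau F a.i a.ε * iotaHat F a.s * iotaHat F s
      rw [map_mul, mul_assoc, mul_assoc, mul_assoc]

/-- right multiplication of a reduced word by `τ(i,ε)` -/
theorem exists_reduced_mul_tau
    (hPS : ∀ b a : Step F, Pinch F b a →
      ∃ s' : ↥S, tau F b.i b.ε * iotaHat F b.s * tau F a.i a.ε = iotaHat F s')
    (s0 : ↥S) (l : List (Step F)) (hl : Reduced F l) (i : Idx F) (ε : Bool) :
    ∃ (s0' : ↥S) (l' : List (Step F)), Reduced F l' ∧ evalR F s0' l' = evalR F s0 l * tau F i ε := by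
  classical
  cases l with
  | nil =>
    refine ⟨s0, [⟨i, ε, 1⟩], List.IsChain.singleton _, ?_⟩
    show evalR F s0 [] * tau F i ε * iotaHat F 1 = evalR F s0 [] * tau F i ε
    rw [map_one, mul_one]
  | cons b l' =>
    by_cases hp : Pinch F b ⟨i, ε, 1⟩
    · obtain ⟨s', hs'⟩ := hPS b ⟨i, ε, 1⟩ hp
      have hl' : Reduced F l' := by
        have := List.IsChain.tail hl
        exact this
      obtain ⟨s0', l'', hred, hev⟩ := exists_reduced_mul_iota F s0 l' hl' s'
      refine ⟨s0', l'', hred, ?_⟩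
      rw [hev, ← hs']
      show evalR F s0 l' * (tau F b.i b.ε * iotaHat F b.s * tau F i ε) =
        evalR F s0 l' * tau F b.i b.ε * iotaHat F b.s * tau F i ε
      simp only [mul_assoc]
    · refine ⟨s0, ⟨i, ε, 1⟩ :: b :: l', List.isChain_cons_cons.mpr ⟨hp, hl⟩, ?_⟩
      show evalR F s0 (b :: l') * tau F i ε * iotaHat F 1 = evalR F s0 (b :: l') * tau F i ε
      rw [map_one, mul_one]

/-- (RED) every element of `G F` is the value of a reduced word. -/
theorem exists_reduced_of
    (hPS : ∀ b a : Step F, Pinch F b a →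
      ∃ s' : ↥S, tau F b.i b.ε * iotaHat F b.s * tau F a.i a.ε = iotaHat F s')
    (g : Ghat F) (hg : g ∈ G F) :
    ∃ (s0 : ↥S) (l : List (Step F)), Reduced F l ∧ evalR F s0 l = g := by
  unfold G at hg
  induction hg using Subgroup.closure_induction_right with
  | one =>
    refine ⟨1, [], List.IsChain.nil, ?_⟩
    show iotaHat F 1 = 1
    rw [map_one]
  | mul_right x hx y hy ih =>
    obtain ⟨s0, l, hl, rfl⟩ := ih
    rcases hy with ⟨s, rfl⟩ | ⟨i, rfl⟩
    · exact exists_reduced_mul_iota F s0 l hl s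
    · exact exists_reduced_mul_tau F hPS s0 l hl i true
  | mul_inv_cancel x hx y hy ih =>
    obtain ⟨s0, l, hl, rfl⟩ := ih
    rcases hy with ⟨s, rfl⟩ | ⟨i, rfl⟩
    · rw [← map_inv]
      exact exists_reduced_mul_iota F s0 l hl s⁻¹
    · exact exists_reduced_mul_tau F hPS s0 l hl i false

end Cfsg.Agent.Lib.Helper29.LSRED
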