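/-
helper29: S4640 leaf (F12).  `N` normal of `p`-power index, `b` a `G`-stable block of `N`, `B` a block of
`G` covering `b` with defect group `P`: then `N P = G` and `P ∩ N` is a defect group of `b`.
(helper6 `Fong.fong`; `B` is the only block covering `b` by helper23 `existsUnique_covering_block`, so the
maximality hypothesis of Fong's theorem is automatic.)
-/
import Mathlib
import Cfsg.Agent.Lib.Helper6.Fong
import Cfsg.Agent.Lib.Helper6.FongGen
import Cfsg.Agent.Lib.Helper6.SubsectionCount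
import Cfsg.Agent.Lib.Helper23.Covering2

set_option autoImplicit false

namespace Cfsg.Agent.Lib.Helper29.PIF12

open Cfsg

universe u

variable {G : Type u} [Group G] [Fintype G] {p : ℕ} [hpp : Fact p.Prime] {M : Ideal AlgInt}
  (N : Subgroup G) [hN : N.Normal] [Fintype N]

omit [Fintype G] [Fintype N] in
/-- `StabilizesBlock` for all elements gives the invariance hypothesis of `Fong.fong`. -/
theorem hinv_of_stab (b : Set (IrrCharacter N)) (hstab : ∀ g : G, StabilizesBlock N b g) :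
    ∀ g : G, ∀ θ ∈ b, ∀ θ' : IrrCharacter N,
      (∀ n : N, (θ' : N → ℂ) n = (θ : N → ℂ) ⟨g * n * g⁻¹, hN.conj_mem n n.2 g⟩) → θ' ∈ b := by
  intro g θ hθ θ' h
  obtain ⟨χ', hχ', hconj⟩ := (hstab g⁻¹).2 θ hθ
  have heq : θ' = χ' := by
    apply Subtype.ext
    funext n
    rw [h n]
    symm
    apply hconj ⟨g * n * g⁻¹, hN.conj_mem n n.2 g⟩ n
    simp [mul_assoc]
  rw [heq]
  exact hχ'

/-- (F12) conjuncts 1 and 2 (Fong). -/
theorem sup_eq_top_and_isDefectGroup (hM : IsPModular p M) (hNi : ∃ k : ℕ, N.index = p ^ k)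
    (b : Set (IrrCharacter N)) (hb : IsPBlock M b) (hstab : ∀ g : G, StabilizesBlock N b g)
    (B : Set (IrrCharacter G)) (hB : IsPBlock M B)
    (hcov : ∃ χ ∈ B, ∃ θ ∈ b, classInner (fun n : N => (χ : G → ℂ) n) (θ : N → ℂ) ≠ 0)
    (P : Subgroup G) (hPD : IsDefectGroup p M B P) :
    N ⊔ P = ⊤ ∧ IsDefectGroup p M b ((P ⊓ N).subgroupOf N) := by
  have hinv := hinv_of_stab N b hstab
  obtain ⟨B₀, _, huniq⟩ :=
    Cfsg.Agent.Lib.Helper23.existsUnique_covering_block N p hM hNi b hb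
  have hmax : ∀ B' : Set (IrrCharacter G), IsPBlock M B' →
      (∃ χ ∈ B', ∃ θ ∈ b, classInner (fun n : N => (χ : G → ℂ) n) (θ : N → ℂ) ≠ 0) →
      blockDefect p B' ≤ blockDefect p B := by
    intro B' hB' hcov'
    rw [huniq B' ⟨hB', hcov'⟩, huniq B ⟨hB, hcov⟩]
  obtain ⟨h1, h2, _⟩ := Cfsg.Agent.Lib.Helper6.Fong.fong N hM b hb hinv B hB hcov hmax P hPD
  refine ⟨?_, h2⟩
  obtain ⟨k, hk⟩ := hNi
  have hdvd : (P ⊔ N).index ∣ p ^ k := by
    rw [← hk]
    exact Subgroup.index_dvd_of_le le_sup_right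
  obtain ⟨j, _, hj⟩ := (Nat.dvd_prime_pow hpp.out).1 hdvd
  have hj0 : j = 0 := by
    by_contra hne
    apply h1
    rw [hj]
    exact dvd_pow_self p hne
  rw [hj0, pow_zero, Subgroup.index_eq_one] at hj
  rw [sup_comm]
  exact hj

end Cfsg.Agent.Lib.Helper29.PIF12
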