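import Mathlib

/-!
# Linear groups over a prime field that are regular on the nonzero vectors
(support for S0685): orbit-submodules of a normal subgroup, counting lemmas,
and cyclicity of normal abelian subgroups.
-/

set_option autoImplicit false
set_option linter.style.haveILetI false

namespace Cfsg.Agent.Lib.Helper29.RegLin

open scoped IsMulCommutative

/-- A finite abelian group acting faithfully and irreducibly on a module over a field is cyclic. -/
theorem isCyclic_of_irreducible_faithful {k W A : Type*} [Field k] [AddCommGroup W] [Module k W]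
    [Nontrivial W] [Group A] [Finite A] (hA : ∀ a b : A, a * b = b * a)
    (ψ : A →* Module.End k W) (hinj : Function.Injective ψ)
    (hirr : ∀ U : Submodule k W, (∀ a : A, ∀ x ∈ U, ψ a x ∈ U) → U = ⊥ ∨ U = ⊤) : IsCyclic A := by
  have hcomm : ∀ x ∈ Set.range ψ, ∀ y ∈ Set.range ψ, x * y = y * x := by
    rintro _ ⟨a, rfl⟩ _ ⟨b, rfl⟩
    rw [← map_mul, ← map_mul, hA]
  haveI : IsMulCommutative (Algebra.adjoin k (Set.range ψ)) := Algebra.isMulCommutative_adjoin k hcomm
  set R := Algebra.adjoin k (Set.range ψ) with hR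
  have hmemR : ∀ a : A, ψ a ∈ R := fun a => Algebra.subset_adjoin ⟨a, rfl⟩
  -- elements of `R` commute with the action
  have hcommR : ∀ (x : R) (a : A) (w : W), (x : Module.End k W) (ψ a w) = ψ a ((x : Module.End k W) w) := by
    intro x a w
    have h1 : x * ⟨ψ a, hmemR a⟩ = ⟨ψ a, hmemR a⟩ * x := mul_comm _ _
    have h2 : (x : Module.End k W) * ψ a = ψ a * (x : Module.End k W) := by
      have := congrArg (Subtype.val) h1
      simpa using this
    have := congrArg (fun f : Module.End k W => f w) h2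
    simpa using this
  haveI : Nontrivial R := by
    refine ⟨⟨0, 1, ?_⟩⟩
    intro h
    have h1 : ((0 : R) : Module.End k W) = ((1 : R) : Module.End k W) := congrArg Subtype.val h
    obtain ⟨w, hw⟩ := exists_ne (0 : W)
    have := congrArg (fun f : Module.End k W => f w) h1
    simp at this
    exact hw this.symm
  haveI : NoZeroDivisors R := by
    refine ⟨fun {x y} hxy => ?_⟩
    by_cases hy : y = 0
    · exact Or.inr hy
    left
    have hU : ∀ a : A, ∀ w ∈ LinearMap.range (y : Module.End k W), ψ a w ∈ LinearMap.range (y : Module.End k W) := by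
      rintro a _ ⟨w, rfl⟩
      exact ⟨ψ a w, hcommR y a w⟩
    rcases hirr _ hU with h | h
    · exfalso
      apply hy
      apply Subtype.ext
      rw [LinearMap.range_eq_bot] at h
      simpa using h
    · apply Subtype.ext
      apply LinearMap.ext
      intro w
      have hw : w ∈ LinearMap.range (y : Module.End k W) := by rw [h]; trivial
      obtain ⟨w', rfl⟩ := hw
      have h1 : ((x * y : R) : Module.End k W) = 0 := by rw [hxy]; rfl
      have := congrArg (fun f : Module.End k W => f w') h1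
      simpa using this
  haveI : IsDomain R := NoZeroDivisors.to_isDomain R
  let f : A →* R :=
    { toFun := fun a => ⟨ψ a, hmemR a⟩
      map_one' := by apply Subtype.ext; simp
      map_mul' := by intro a b; apply Subtype.ext; simp }
  have hf : Function.Injective f := by
    intro a b hab
    apply hinj
    exact congrArg Subtype.val hab
  exact isCyclic_of_injective_ringHom f hf


variable {p : ℕ} [Fact p.Prime] {V : Type*} [AddCommGroup V] [Module (ZMod p) V]
variable {H : Subgroup (V ≃ₗ[ZMod p] V)}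

/-- the `A`-submodule generated by `v` -/
def Wv (A : Subgroup H) (v : V) : Submodule (ZMod p) V :=
  Submodule.span (ZMod p) (Set.range fun a : A => a • v)

theorem mem_Wv_self (A : Subgroup H) (v : V) : v ∈ Wv A v :=
  Submodule.subset_span ⟨1, one_smul _ _⟩

theorem Wv_le (A : Subgroup H) {U : Submodule (ZMod p) V} (hU : ∀ a : A, ∀ x ∈ U, a • x ∈ U)
    {u : V} (hu : u ∈ U) : Wv A u ≤ U := by
  apply Submodule.span_le.2
  rintro _ ⟨a, rfl⟩
  exact hU a u hu

theorem Wv_invariant (A : Subgroup H) (v : V) (a : A) {x : V} (hx : x ∈ Wv A v) :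
    a • x ∈ Wv A v := by
  induction hx using Submodule.span_induction with
  | mem x hx =>
    obtain ⟨b, rfl⟩ := hx
    rw [← mul_smul]
    exact Submodule.subset_span ⟨a * b, rfl⟩
  | zero => rw [smul_zero]; exact zero_mem _
  | add x y _ _ hx hy => rw [smul_add]; exact add_mem hx hy
  | smul c x _ hx => rw [smul_comm]; exact Submodule.smul_mem _ _ hx

theorem map_Wv (A : Subgroup H) [hA : A.Normal] (h : H) (v : V) :
    (Wv A v).map (((h : H) : V ≃ₗ[ZMod p] V) : V →ₗ[ZMod p] V) = Wv A (h • v) := by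
  unfold Wv
  rw [Submodule.map_span]
  congr 1
  ext x
  constructor
  · rintro ⟨_, ⟨a, rfl⟩, rfl⟩
    refine ⟨⟨h * a * h⁻¹, hA.conj_mem a a.2 h⟩, ?_⟩
    show (h * (a : H) * h⁻¹) • h • v = h • (a : H) • v
    rw [smul_smul, inv_mul_cancel_right, mul_smul]
  · rintro ⟨a, rfl⟩
    have hmem : h⁻¹ * a * h ∈ A := by
      have := hA.conj_mem a a.2 h⁻¹
      rwa [inv_inv] at this
    refine ⟨(⟨h⁻¹ * a * h, hmem⟩ : A) • v, ⟨_, rfl⟩, ?_⟩
    show h • (h⁻¹ * (a : H) * h) • v = (a : H) • h • v
    rw [smul_smul, smul_smul, mul_assoc, mul_inv_cancel_left]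

theorem card_map_eq (W : Submodule (ZMod p) V) (h : H) :
    Nat.card ↥(W.map (((h : H) : V ≃ₗ[ZMod p] V) : V →ₗ[ZMod p] V)) = Nat.card ↥W :=
  (Nat.card_congr (Submodule.equivMapOfInjective _ ((h : H) : V ≃ₗ[ZMod p] V).injective W).toEquiv).symm

theorem submodule_eq_of_le_of_card_ge [Finite V] {U W : Submodule (ZMod p) V} (hle : U ≤ W)
    (hc : Nat.card ↥W ≤ Nat.card ↥U) : U = W := by
  apply SetLike.coe_injective
  apply Set.eq_of_subset_of_ncard_le hle _ (Set.toFinite _)
  rwa [← Nat.card_coe_set_eq, ← Nat.card_coe_set_eq]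

section reg

variable [Finite V] (hreg : ∀ v w : V, v ≠ 0 → w ≠ 0 → ∃! h : H, h • v = w)
include hreg

omit [Finite V] in
theorem card_Wv_eq (A : Subgroup H) [A.Normal] {v w : V} (hv : v ≠ 0) (hw : w ≠ 0) :
    Nat.card ↥(Wv A w) = Nat.card ↥(Wv A v) := by
  obtain ⟨h, hh, -⟩ := hreg v w hv hw
  rw [← hh, ← map_Wv, card_map_eq]

theorem Wv_eq_of_mem (A : Subgroup H) [A.Normal] {u v : V} (hv : v ≠ 0) (hu : u ≠ 0)
    (huv : u ∈ Wv A v) : Wv A u = Wv A v :=
  submodule_eq_of_le_of_card_ge (Wv_le A (fun a _ hx => Wv_invariant A v a hx) huv)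
    (card_Wv_eq hreg A hu hv).le

theorem Wv_disjoint (A : Subgroup H) [A.Normal] {v w : V} (hv : v ≠ 0) (hw : w ∉ Wv A v)
    {x : V} (hxv : x ∈ Wv A v) (hxw : x ∈ Wv A w) : x = 0 := by
  by_contra hx
  have hw0 : w ≠ 0 := by
    rintro rfl
    exact hw (zero_mem _)
  have h1 := Wv_eq_of_mem hreg A hv hx hxv
  have h2 := Wv_eq_of_mem hreg A hw0 hx hxw
  apply hw
  rw [← h1, h2]
  exact mem_Wv_self A w

theorem card_sq_le (A : Subgroup H) [A.Normal] {v w : V} (hv : v ≠ 0) (hw : w ∉ Wv A v) :
    Nat.card ↥(Wv A v) * Nat.card ↥(Wv A v) ≤ Nat.card V := by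
  have hw0 : w ≠ 0 := by
    rintro rfl
    exact hw (zero_mem _)
  have hc := card_Wv_eq hreg A hv hw0
  calc Nat.card ↥(Wv A v) * Nat.card ↥(Wv A v)
      = Nat.card (↥(Wv A v) × ↥(Wv A w)) := by rw [Nat.card_prod, hc]
    _ ≤ Nat.card V := by
      apply Nat.card_le_card_of_injective (fun x : ↥(Wv A v) × ↥(Wv A w) => (x.1 : V) + (x.2 : V))
      rintro ⟨⟨x, hx⟩, ⟨y, hy⟩⟩ ⟨⟨x', hx'⟩, ⟨y', hy'⟩⟩ hxy
      simp only at hxy
      have h1 : x - x' = y' - y := by
        rw [sub_eq_sub_iff_add_eq_add, hxy]; abel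
      have h2 : x - x' = 0 :=
        Wv_disjoint hreg A hv hw (sub_mem hx hx') (h1 ▸ sub_mem hy' hy)
      have h3 : y' - y = 0 := by rw [← h1, h2]
      rw [sub_eq_zero] at h2 h3
      subst h2; subst h3; rfl

omit [Finite V] hreg in
theorem smul_ne_zero' {v : V} (hv : v ≠ 0) (h : H) : h • v ≠ 0 := by
  intro h0
  apply hv
  have := congrArg (fun x => h⁻¹ • x) h0
  simpa using this

theorem card_lt_card_Wv (A : Subgroup H) {v : V} (hv : v ≠ 0) :
    Nat.card ↥A + 1 ≤ Nat.card ↥(Wv A v) := by
  haveI : Finite (V ≃ₗ[ZMod p] V) := Finite.of_injective (fun f => (f : V → V)) DFunLike.coe_injective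
  rw [← Finite.card_option]
  apply Nat.card_le_card_of_injective
    (fun o : Option ↥A => (o.elim (0 : ↥(Wv A v)) fun a => ⟨a • v, Wv_invariant A v a (mem_Wv_self A v)⟩))
  have hne : ∀ a : A, a • v ≠ 0 := fun a => smul_ne_zero' hv (a : H)
  have hinj : ∀ a b : A, a • v = b • v → a = b := by
    intro a b hab
    obtain ⟨h, -, huniq⟩ := hreg v (b • v) hv (hne b)
    have h1 : (a : H) = h := huniq _ hab
    have h2 : (b : H) = h := huniq _ rfl
    exact Subtype.ext (h1.trans h2.symm)
  rintro (_ | a) (_ | b) hab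
  · rfl
  · exfalso
    simp only [Option.elim] at hab
    exact hne b (congrArg Subtype.val hab).symm
  · exfalso
    simp only [Option.elim] at hab
    exact hne a (congrArg Subtype.val hab)
  · simp only [Option.elim] at hab
    rw [hinj a b (congrArg Subtype.val hab)]

theorem card_H_add_one {v : V} (hv : v ≠ 0) : Nat.card ↥H + 1 = Nat.card V := by
  classical
  haveI : Finite (V ≃ₗ[ZMod p] V) := Finite.of_injective (fun f => (f : V → V)) DFunLike.coe_injective
  rw [← Nat.card_congr (Equiv.optionSubtypeNe (0 : V)), Finite.card_option]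
  congr 1
  apply Nat.card_congr
  refine Equiv.ofBijective (fun h : H => (⟨h • v, smul_ne_zero' hv h⟩ : {x : V // x ≠ 0})) ⟨?_, ?_⟩
  · intro a b hab
    have hab' : a • v = b • v := congrArg Subtype.val hab
    obtain ⟨h, -, huniq⟩ := hreg v (b • v) hv (smul_ne_zero' hv b)
    exact (huniq _ hab').trans (huniq _ rfl).symm
  · rintro ⟨w, hw⟩
    obtain ⟨h, hh, -⟩ := hreg v w hv hw
    exact ⟨h, Subtype.ext hh⟩

end reg


section more

variable [Finite V] (hreg : ∀ v w : V, v ≠ 0 → w ≠ 0 → ∃! h : H, h • v = w)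
include hreg

omit [Finite V] in
theorem smul_left_inj' {v : V} (hv : v ≠ 0) {a b : H} (hab : a • v = b • v) : a = b := by
  obtain ⟨h, -, huniq⟩ := hreg v (b • v) hv (smul_ne_zero' hv b)
  exact (huniq _ hab).trans (huniq _ rfl).symm

/-- a normal abelian subgroup of a group regular on nonzero vectors is cyclic -/
theorem isCyclic_of_regular (A : Subgroup H) [A.Normal] (hAc : ∀ a b : A, a * b = b * a)
    {v : V} (hv : v ≠ 0) : IsCyclic A := by
  haveI : Finite (V ≃ₗ[ZMod p] V) := Finite.of_injective (fun f => (f : V → V)) DFunLike.coe_injective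
  set W := Wv A v with hW
  have hinv : ∀ a : A, ∀ x ∈ W, (((a : H) : V ≃ₗ[ZMod p] V) : V →ₗ[ZMod p] V) x ∈ W :=
    fun a x hx => Wv_invariant A v a hx
  let ψ : A →* Module.End (ZMod p) ↥W :=
    { toFun := fun a => LinearMap.restrict _ (hinv a)
      map_one' := by
        apply LinearMap.ext
        intro x
        apply Subtype.ext
        rw [LinearMap.coe_restrict_apply]
        exact one_smul A (x : V)
      map_mul' := by
        intro a b
        apply LinearMap.ext
        intro x
        apply Subtype.ext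
        rw [Module.End.mul_apply, LinearMap.coe_restrict_apply, LinearMap.coe_restrict_apply,
          LinearMap.coe_restrict_apply]
        exact mul_smul a b (x : V) }
  have hψ : ∀ (a : A) (x : ↥W), ((ψ a x : ↥W) : V) = a • (x : V) := fun a x => rfl
  haveI : Nontrivial ↥W := ⟨⟨⟨v, mem_Wv_self A v⟩, 0, fun h => hv (congrArg Subtype.val h)⟩⟩
  refine isCyclic_of_irreducible_faithful hAc ψ ?_ ?_
  · intro a b hab
    have h1 := congrArg (fun f : Module.End (ZMod p) ↥W => ((f ⟨v, mem_Wv_self A v⟩ : ↥W) : V)) hab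
    simp only [hψ] at h1
    exact Subtype.ext (smul_left_inj' hreg hv h1)
  · intro U hU
    by_cases hUb : U = ⊥
    · exact Or.inl hUb
    right
    obtain ⟨x, hxU, hx0⟩ := Submodule.exists_mem_ne_zero_of_ne_bot hUb
    have hu0 : (x : V) ≠ 0 := fun h => hx0 (Subtype.ext h)
    have hinv' : ∀ a : A, ∀ y ∈ U.map W.subtype, a • y ∈ U.map W.subtype := by
      rintro a _ ⟨y, hy, rfl⟩
      exact ⟨ψ a y, hU a y hy, rfl⟩
    have h1 : Wv A (x : V) ≤ U.map W.subtype := Wv_le A hinv' ⟨x, hxU, rfl⟩
    have h2 : Wv A (x : V) = W := Wv_eq_of_mem hreg A hv hu0 x.2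
    rw [eq_top_iff]
    intro y _
    have h3 : (y : V) ∈ U.map W.subtype := by
      apply h1
      rw [h2]
      exact y.2
    obtain ⟨y', hy', hyy⟩ := h3
    have : y' = y := Subtype.ext hyy
    rwa [← this]

end more

/-- the `N/C` bound for a self-centralizing cyclic normal subgroup -/
theorem card_le_of_centralizer_eq {G : Type*} [Group G] [Finite G] (A : Subgroup G) [A.Normal]
    [IsCyclic A] (hC : Subgroup.centralizer (A : Set G) = A) :
    Nat.card G ≤ Nat.card A * Nat.card A := by
  let f : G →* MulAut A := MulAut.conjNormal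
  have hker : f.ker = A := by
    apply Eq.trans _ hC
    ext g
    rw [MonoidHom.mem_ker, Subgroup.mem_centralizer_iff]
    constructor
    · intro hg a ha
      have h1 := congrArg (fun φ : MulAut A => ((φ ⟨a, ha⟩ : A) : G)) hg
      simp only [f, MulAut.conjNormal_apply, MulAut.one_apply] at h1
      exact (mul_inv_eq_iff_eq_mul.mp h1).symm
    · intro hg
      apply MulEquiv.ext
      intro a
      apply Subtype.ext
      rw [MulAut.conjNormal_apply, MulAut.one_apply, ← hg a a.2]
      group
  have h1 : Nat.card f.ker * f.ker.index = Nat.card G := Subgroup.card_mul_index _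
  rw [Subgroup.index_ker, hker] at h1
  rw [← h1]
  apply Nat.mul_le_mul_left
  calc Nat.card f.range ≤ Nat.card (MulAut A) := Subgroup.card_le_card_group _
    _ = Nat.totient (Nat.card A) := IsCyclic.card_mulAut _
    _ ≤ Nat.card A := Nat.totient_le _

end Cfsg.Agent.Lib.Helper29.RegLin
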