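import Mathlib
import Cfsg.Agent.Lib.Helper27.GGDefs
import Cfsg.Agent.Lib.Helper6.BNRedB

/-!
S2318 leaf B5 (planner helper27), core part: `‖c‖` is constant on the cells `B n B` and the sum of
`‖c g‖²` over `G` splits along the Bruhat cells.  The statement `sph_H` (leaf B1) enters as a hypothesis.
-/

set_option autoImplicit false

namespace Cfsg.Agent.Lib.Helper29.GG

open Cfsg Cfsg.Agent.Lib.Helper3.BN Cfsg.Agent.Lib.Helper3.WordLen Cfsg.Agent.Lib.Helper6.BNSt
open Cfsg.Agent.Lib.Helper6.CoxRed Cfsg.Agent.Lib.Helper27.GG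
open scoped ComplexConjugate

variable {G : Type*} [Group G] [Finite G] {P : Cfsg.BNPair G} {U : Subgroup G} {q : ℕ}

/-- the conclusion of leaf B1 (`sph_H`) as a predicate -/
def HMult (P : Cfsg.BNPair G) (c : G → ℂ) : Prop :=
  ∀ h ∈ P.B ⊓ P.N, (∀ g, c (h * g) = c h * c g) ∧ (∀ g, c (g * h) = c g * c h) ∧ ‖c h‖ = 1

/-- `c (b n b') = c(h) c(n) c(h')` for `b = u h`, `b' = u' h'` -/
theorem sph_cell_value (R : SplitBN P U q) {c : G → ℂ} (hc : IsSph U c) (hH : HMult P c)
    {n g : G} (hg : g ∈ dc P n) :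
    ∃ h ∈ P.B ⊓ P.N, ∃ h' ∈ P.B ⊓ P.N, c g = c h * c n * c h' := by
  obtain ⟨b, hb, b', hb', rfl⟩ := (mem_dc P).mp hg
  obtain ⟨u, hu, h, hh, rfl⟩ := R.hBUH b hb
  obtain ⟨u', hu', h', hh', rfl⟩ := R.hBUH b' hb'
  refine ⟨h, hh, h', hh', ?_⟩
  have e1 : u * h * n * (u' * h') = u * (h * (n * u' * h')) := by group
  rw [e1, hc.left u hu, (hH h hh).1, (hH h' hh').2.1, hc.right u' hu', mul_assoc]

theorem sph_cell_norm (R : SplitBN P U q) {c : G → ℂ} (hc : IsSph U c) (hH : HMult P c)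
    {n g : G} (hg : g ∈ dc P n) : ‖c g‖ = ‖c n‖ := by
  obtain ⟨h, hh, h', hh', e⟩ := sph_cell_value R hc hH hg
  rw [e, norm_mul, norm_mul, (hH h hh).2.2, (hH h' hh').2.2, one_mul, mul_one]

theorem sph_norm_const_on_cell (R : SplitBN P U q) {c : G → ℂ} (hc : IsSph U c) (hH : HMult P c)
    (w : W P) {g : G} (hg : g ∈ C P w) : ‖c g‖ = ‖c (repW P w)‖ := by
  have hw : C P w = dc P (repW P w) := by
    conv_lhs => rw [← mkW_repW P w]
    exact C_mk P (repW_mem P w)
  rw [hw] at hg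
  exact sph_cell_norm R hc hH hg

theorem sph_sum_cells_core (R : SplitBN P U q) {c : G → ℂ} (hc : IsSph U c) (hH : HMult P c)
    [Fintype (W P)] :
    ∑ᶠ g : G, ‖c g‖ ^ 2 = ∑ w : W P, (Nat.card (C P w) : ℝ) * ‖c (repW P w)‖ ^ 2 := by
  classical
  let _ : Fintype G := Fintype.ofFinite G
  rw [finsum_eq_sum_of_fintype]
  rw [← Finset.sum_fiberwise (Finset.univ : Finset G) (cellOf P) (fun g => ‖c g‖ ^ 2)]
  refine Finset.sum_congr rfl fun w _ => ?_
  have h1 : ∀ g ∈ (Finset.univ : Finset G).filter (fun g => cellOf P g = w),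
      ‖c g‖ ^ 2 = ‖c (repW P w)‖ ^ 2 := by
    intro g hg
    rw [Finset.mem_filter] at hg
    have hgC : g ∈ C P w := by
      have := mem_C_cellOf P g
      rwa [hg.2] at this
    rw [sph_norm_const_on_cell R hc hH w hgC]
  rw [Finset.sum_congr rfl h1, Finset.sum_const, nsmul_eq_mul]
  congr 1
  have h2 : ((Finset.univ : Finset G).filter (fun g => cellOf P g = w)).card = Nat.card (C P w) := by
    have h3 : (Finset.univ : Finset G).filter (fun g => cellOf P g = w)
        = (Finset.univ : Finset G).filter (fun g => g ∈ C P w) := by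
      refine Finset.filter_congr fun g _ => ?_
      constructor
      · intro h
        have := mem_C_cellOf P g
        rwa [h] at this
      · intro h
        exact cellOf_eq P h
    rw [h3, Nat.card_eq_fintype_card, Fintype.card_subtype]
  rw [h2]

end Cfsg.Agent.Lib.Helper29.GG
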