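import Mathlib
import Cfsg.Agent.Lib.Helper27.GGDefs
import Cfsg.Agent.Lib.Helper27.GGRankOne
import Cfsg.Agent.Lib.Helper6.BNRedB
import Cfsg.Agent.Lib.Helper29.GGB5Core

/-!
S2318 leaf **B5** `sph_sum_cells` (planner helper27): exact signature of notes/S2318_leaves.lean.
-/

set_option autoImplicit false

namespace Cfsg.Agent.Lib.Helper29.GG

open Cfsg Cfsg.Agent.Lib.Helper3.BN Cfsg.Agent.Lib.Helper3.WordLen Cfsg.Agent.Lib.Helper6.BNSt
open Cfsg.Agent.Lib.Helper6.CoxRed Cfsg.Agent.Lib.Helper27.GG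
open scoped ComplexConjugate

variable {G : Type*} [Group G] [Finite G] {P : Cfsg.BNPair G} {U : Subgroup G} {q : ℕ}

theorem hMult_of_isSph (R : SplitBN P U q) {c : G → ℂ} (hc : IsSph U c) : HMult P c :=
  Cfsg.Agent.Lib.Helper27.GG.sph_H R hc

/-- **B5**. `‖c‖` is constant on `B n B = U H n H U` (B1), and `G` is the disjoint union of the cells. -/
theorem sph_sum_cells (R : SplitBN P U q) {c : G → ℂ} (hc : IsSph U c) [Fintype (W P)] :
    ∑ᶠ g : G, ‖c g‖ ^ 2 = ∑ w : W P, (Nat.card (C P w) : ℝ) * ‖c (repW P w)‖ ^ 2 :=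
  sph_sum_cells_core R hc (hMult_of_isSph R hc)

end Cfsg.Agent.Lib.Helper29.GG
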