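import Mathlib
import Cfsg.Prelude.Def_GeometricClasses
import Cfsg.Agent.Lib.Helper5.TMCalc
import Cfsg.Agent.Lib.Helper18.C2Defs

/-!
# S5634, case m ≥ 2 (helper18's C2A market), leaves L4c and L4d core (helper29)

Conjugation by an element of `M` permuting the blocks moves `Full`; with block transpositions in
`Hs D` (leaf L4b, here a hypothesis of `full_all_of`) one ordered pair gives all ordered pairs.
-/

set_option autoImplicit false
set_option linter.unusedSectionVars false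
set_option linter.unusedVariables false

namespace Cfsg.Agent.Lib.Helper29.C2Leaf
open Cfsg Matrix Cfsg.Agent.Lib.Helper5.TMCalc Cfsg.Agent.Lib.Helper18.C2

variable {F : Type*} [Field F] {n t m : ℕ} {D : Fin t → Submodule F (Fin n → F)}

/-- L4c: conjugation by an element of `M` permuting the blocks moves `Full`. -/
theorem full_conj (hD : Cfsg.Geo.IsMDecomposition m D) {M : Subgroup (GL (Fin n) F)}
    {g : GL (Fin n) F} (hg : g ∈ M) (σ : Equiv.Perm (Fin t))
    (hσ : ∀ j, ∀ v ∈ D j, (g : Matrix (Fin n) (Fin n) F) *ᵥ v ∈ D (σ j)) {k i : Fin t}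
    (h : Full D M k i) : Full D M (σ k) (σ i) := by
  intro z' hz' φ' hφ'
  have hz : ((g⁻¹ : GL (Fin n) F) : Matrix (Fin n) (Fin n) F) *ᵥ z' ∈ D k :=
    inv_mapsTo_of_mapsTo hD σ g hσ k z' hz'
  have hφ : InBlock D i (φ' ∘ₗ Matrix.toLin' (g : Matrix (Fin n) (Fin n) F)) := by
    intro j hji v hv
    rw [LinearMap.comp_apply, Matrix.toLin'_apply]
    apply hφ' (σ j) (fun e => hji (σ.injective e)) _ (hσ j v hv)
  have h1 := TM_conj hg (h _ hz _ hφ)
  have h2 : (g : Matrix (Fin n) (Fin n) F) *ᵥ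
      (((g⁻¹ : GL (Fin n) F) : Matrix (Fin n) (Fin n) F) *ᵥ z') = z' := by
    rw [Matrix.mulVec_mulVec, ← Units.val_mul, mul_inv_cancel, Units.val_one, Matrix.one_mulVec]
  rw [h2] at h1
  refine TM_of_eq ?_ h1
  intro v
  rw [LinearMap.comp_apply, LinearMap.comp_apply, Matrix.toLin'_apply, Matrix.toLin'_apply,
    Matrix.mulVec_mulVec, ← Units.val_mul, mul_inv_cancel, Units.val_one, Matrix.one_mulVec]

/-- one swap step -/
theorem full_swap (hD : Cfsg.Geo.IsMDecomposition m D) {M : Subgroup (GL (Fin n) F)}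
    (hHM : Hs D ≤ M)
    (hswap : ∀ a b : Fin t, a ≠ b → ∃ w ∈ Hs D, ∀ j, ∀ v ∈ D j,
      (w : Matrix (Fin n) (Fin n) F) *ᵥ v ∈ D (Equiv.swap a b j))
    {k i : Fin t} (h : Full D M k i) (a b : Fin t) (hab : a ≠ b) :
    Full D M (Equiv.swap a b k) (Equiv.swap a b i) := by
  obtain ⟨w, hw, hwσ⟩ := hswap a b hab
  exact full_conj hD (hHM hw) (Equiv.swap a b) hwσ h

/-- L4d with L4b as a hypothesis: one ordered pair gives all ordered pairs. -/
theorem full_all_of (hD : Cfsg.Geo.IsMDecomposition m D) {M : Subgroup (GL (Fin n) F)}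
    (hHM : Hs D ≤ M)
    (hswap : ∀ a b : Fin t, a ≠ b → ∃ w ∈ Hs D, ∀ j, ∀ v ∈ D j,
      (w : Matrix (Fin n) (Fin n) F) *ᵥ v ∈ D (Equiv.swap a b j))
    {k i : Fin t} (hki : k ≠ i) (h : Full D M k i) :
    ∀ k' i' : Fin t, k' ≠ i' → Full D M k' i' := by
  intro k' i' hki'
  -- step 1: move `k` to `k'`
  obtain ⟨i₁, hi₁, h1⟩ : ∃ i₁, k' ≠ i₁ ∧ Full D M k' i₁ := by
    by_cases hkk : k = k'
    · subst hkk
      exact ⟨i, hki, h⟩
    · refine ⟨Equiv.swap k k' i, ?_, ?_⟩
      · intro e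
        apply hki
        have : Equiv.swap k k' k = Equiv.swap k k' i := by
          rw [Equiv.swap_apply_left]; exact e
        exact (Equiv.swap k k').injective this
      · have := full_swap hD hHM hswap h k k' hkk
        rwa [Equiv.swap_apply_left] at this
  -- step 2: move `i₁` to `i'` fixing `k'`
  by_cases hii : i₁ = i'
  · subst hii
    exact h1
  · have := full_swap hD hHM hswap h1 i₁ i' hii
    rwa [Equiv.swap_apply_of_ne_of_ne hi₁ hki', Equiv.swap_apply_left] at this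

end Cfsg.Agent.Lib.Helper29.C2Leaf
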