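import Mathlib
import Cfsg.Agent.Lib.Helper18.GlaubDefs
import Cfsg.Agent.Lib.Helper29.SIMSBase
import Cfsg.Agent.Lib.Helper29.SIMST2C1

/-!
# S4359 (Glauberman) market leaf GLAUB-G5 (helper29): `⟨x_i, …, x_j⟩ = D_(j+1) ⊓ … ⊓ D_(i+t)`,
the prime-`p` analogue of SIMS-T2C1.
-/

set_option autoImplicit false

namespace Cfsg.Agent.Lib.Helper29.GLAUBG5

open Cfsg Cfsg.Agent.Lib.Helper18.Sims3 Cfsg.Agent.Lib.Helper18.Glaub
open Cfsg.Agent.Lib.Helper29.SIMSBase Cfsg.Agent.Lib.Helper29.SIMST2C1

variable {G : Type*} [Group G]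

/-- sandwich by orders, prime index -/
theorem eq_of_sandwich_p [Finite G] {p : ℕ} (hp : p.Prime) {H K T : Subgroup G} (h1 : H ≤ K)
    (h2 : K ≤ T) (hne : H ≠ K) (hcard : Nat.card T = p * Nat.card H) : K = T := by
  have hd1 : Nat.card H ∣ Nat.card K := Subgroup.card_dvd_of_le h1
  have hd2 : Nat.card K ∣ Nat.card T := Subgroup.card_dvd_of_le h2
  obtain ⟨m, hm⟩ := hd1
  have hHpos : 0 < Nat.card H := Nat.card_pos
  have hmp : m ∣ p := by
    rw [hm, hcard, Nat.mul_comm p] at hd2
    exact (Nat.mul_dvd_mul_iff_left hHpos).mp hd2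
  rcases (Nat.dvd_prime hp).1 hmp with rfl | rfl
  · exfalso
    apply hne
    exact Subgroup.eq_of_le_of_card_ge h1 (by rw [hm, mul_one])
  · exact Subgroup.eq_of_le_of_card_ge h2 (by rw [hcard, hm, Nat.mul_comm])

/-- LEAF G5 (interval subgroups of the generator sequence are chain intersections). -/
theorem Hx_xs_eq_Fc_p [Finite G] (γ : G) (D : Subgroup G) (p : ℕ) (hp : p.Prime) (t : ℕ)
    (h1 : 1 ≤ t)
    (hF : ∀ i k, k ≤ t → Nat.card ↥(Fc γ D i k) = p ^ (t - k))
    (x0 : G) (hx0 : x0 ∈ Fc γ D 1 (t - 1)) (hx01 : x0 ≠ 1) :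
    ∀ i j, i ≤ j → j < i + t → Hx (xs γ x0) i j = Fc γ D (j + 1) (t - 1 - (j - i)) := by
  have key : ∀ d i, d < t → Hx (xs γ x0) i (i + d) = Fc γ D (i + d + 1) (t - 1 - d) := by
    intro d
    induction d with
    | zero =>
      intro i _
      -- base
      have hxi : xs γ x0 i ∈ Fc γ D (i + 1) (t - 1) := xs_mem_Fc hx0 i
      have hle : Hx (xs γ x0) i i ≤ Fc γ D (i + 1) (t - 1) := by
        rw [Hx_le_iff]
        intro k hk1 hk2
        have : k = i := by omega
        subst this
        exact hxi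
      have hcard : Nat.card ↥(Fc γ D (i + 1) (t - 1)) = p := by
        rw [hF (i + 1) (t - 1) (by omega)]
        have : t - (t - 1) = 1 := by omega
        rw [this, pow_one]
      have hbot : (⊥ : Subgroup G) ≠ Hx (xs γ x0) i i := by
        intro hb
        have : xs γ x0 i ∈ (⊥ : Subgroup G) := hb ▸ mem_Hx le_rfl le_rfl
        rw [Subgroup.mem_bot] at this
        exact xs_ne_one hx01 i this
      have := eq_of_sandwich_p hp (H := ⊥) bot_le hle hbot (by rw [hcard, Subgroup.card_bot, mul_one])
      simpa using this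
    | succ d ih =>
      intro i hd
      have ihd := ih i (by omega)
      -- notation
      have hT : Nat.card ↥(Fc γ D (i + (d + 1) + 1) (t - 1 - (d + 1))) = p ^ (d + 2) := by
        rw [hF _ _ (by omega)]
        congr 1
        omega
      have hH : Nat.card ↥(Hx (xs γ x0) i (i + d)) = p ^ (d + 1) := by
        rw [ihd, hF _ _ (by omega)]
        congr 1
        omega
      have hsucc : Hx (xs γ x0) i (i + d) ⊔ Subgroup.zpowers (xs γ x0 (i + d + 1)) =
          Hx (xs γ x0) i (i + (d + 1)) := Hx_succ (by omega)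
      have hxm : xs γ x0 (i + d + 1) ∈ Fc γ D (i + d + 1 + 1) (t - 1) := xs_mem_Fc hx0 (i + d + 1)
      -- `H[i,i+d] ≤ T`
      have hle1 : Hx (xs γ x0) i (i + d) ≤ Fc γ D (i + (d + 1) + 1) (t - 1 - (d + 1)) := by
        rw [ihd]
        intro y hy
        rw [mem_Fc] at hy ⊢
        intro l hl
        have := hy (l + 1) (by omega)
        rw [show i + d + 1 + (l + 1) = i + (d + 1) + 1 + l by omega] at this
        exact this
      have hle2 : xs γ x0 (i + d + 1) ∈ Fc γ D (i + (d + 1) + 1) (t - 1 - (d + 1)) := by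
        rw [mem_Fc] at hxm ⊢
        intro l hl
        have := hxm l (by omega)
        rw [show i + d + 1 + 1 + l = i + (d + 1) + 1 + l by omega] at this
        exact this
      have hle : Hx (xs γ x0) i (i + (d + 1)) ≤ Fc γ D (i + (d + 1) + 1) (t - 1 - (d + 1)) := by
        rw [← hsucc]
        refine sup_le hle1 ?_
        rw [Subgroup.zpowers_le]
        exact hle2
      have hne : Hx (xs γ x0) i (i + d) ≠ Hx (xs γ x0) i (i + (d + 1)) := by
        intro he
        have hmem : xs γ x0 (i + d + 1) ∈ Hx (xs γ x0) i (i + d) := by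
          rw [he]
          exact mem_Hx (by omega) (by omega)
        rw [ihd] at hmem
        -- `x_(i+d+1) ∈ Fc (i+d+1) t`, of order 1
        have hall : xs γ x0 (i + d + 1) ∈ Fc γ D (i + d + 1) t := by
          rw [mem_Fc] at hmem hxm ⊢
          intro l hl
          rcases Nat.eq_zero_or_pos l with h0 | h0
          · subst h0
            exact hmem 0 (Nat.zero_le _)
          · have := hxm (l - 1) (by omega)
            rw [show i + d + 1 + 1 + (l - 1) = i + d + 1 + l by omega] at this
            exact this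
        have hc1 : Nat.card ↥(Fc γ D (i + d + 1) t) = 1 := by
          rw [hF _ _ le_rfl, Nat.sub_self, pow_zero]
        have hb := Subgroup.eq_bot_of_card_eq _ hc1
        rw [hb, Subgroup.mem_bot] at hall
        exact xs_ne_one hx01 _ hall
      exact eq_of_sandwich_p hp (Hx_mono le_rfl (by omega)) hle hne
        (by rw [hT, hH, pow_succ, Nat.mul_comm])
  intro i j hij hjn
  have := key (j - i) i (by omega)
  rw [show i + (j - i) = j by omega] at this
  exact this

end Cfsg.Agent.Lib.Helper29.GLAUBG5
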