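import Mathlib

/-!
S4004 leaf `A3_abs` (planner helper18, notes/S4004_leaves.lean): a norm-product argument.
-/

set_option autoImplicit false

namespace Cfsg.Agent.Lib.Helper29.SOT4

open Finset

/-- the norm `∏_{i<n} φ (g^i) a` is fixed by `φ g` when `g ^ n = 1`. -/
theorem norm_range_fixed {H A : Type*} [Group H] [CommGroup A] (φ : H →* MulAut A) (n : ℕ) (g : H)
    (hg : g ^ n = 1) (a : A) :
    φ g (∏ i ∈ range n, φ (g ^ i) a) = ∏ i ∈ range n, φ (g ^ i) a := by
  rw [map_prod]
  have h1 : ∀ i ∈ range n, φ g (φ (g ^ i) a) = φ (g ^ (i + 1)) a := by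
    intro i _
    rw [pow_succ', map_mul, MulAut.mul_apply]
  rw [Finset.prod_congr rfl h1]
  have h2 := Finset.prod_range_succ' (fun i => φ (g ^ i) a) n
  have h3 := Finset.prod_range_succ (fun i => φ (g ^ i) a) n
  simp only [hg, pow_zero] at h2 h3
  rw [h3] at h2
  exact (mul_right_cancel h2).symm

/-- the norm over `zpowers z` is fixed by `φ z`. -/
theorem norm_zpowers_fixed {H A : Type*} [Group H] [Finite H] [CommGroup A] (φ : H →* MulAut A) (z : H)
    [Fintype ↥(Subgroup.zpowers z)] (a : A) :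
    φ z (∏ w : ↥(Subgroup.zpowers z), φ (w : H) a) = ∏ w : ↥(Subgroup.zpowers z), φ (w : H) a := by
  rw [map_prod]
  let z' : ↥(Subgroup.zpowers z) := ⟨z, Subgroup.mem_zpowers z⟩
  refine Fintype.prod_equiv (Equiv.mulLeft z') _ _ fun w => ?_
  simp [z', map_mul, MulAut.mul_apply]

theorem A3_abs {H A : Type*} [Group H] [Finite H] [CommGroup A] (φ : H →* MulAut A) (r' : ℕ) (hr' : r'.Prime) (y z : H)
    (hy : orderOf y = r') (hz : orderOf z = r') (hyz : Commute y z)
    (hfz : ∀ a : A, φ z a = a → a = 1)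
    (hfy : ∀ w ∈ Subgroup.zpowers z, ∀ a : A, φ (y * w) a = a → a = 1) : ∀ a : A, a ^ r' = 1 := by
  classical
  intro a
  let _ : Fintype ↥(Subgroup.zpowers z) := Fintype.ofFinite _
  have hcard : Fintype.card ↥(Subgroup.zpowers z) = r' := by
    rw [← Nat.card_eq_fintype_card, Nat.card_zpowers, hz]
  -- every inner norm is trivial
  have hinner : ∀ w : ↥(Subgroup.zpowers z), ∏ i ∈ range r', φ ((y * (w : H)) ^ i) a = 1 := by
    intro w
    have hcw : Commute y (w : H) := by
      obtain ⟨k, hk⟩ := Subgroup.mem_zpowers_iff.mp w.2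
      rw [← hk]
      exact hyz.zpow_right k
    have hw : (w : H) ^ r' = 1 := by
      have := pow_card_eq_one (x := w)
      rw [hcard] at this
      have h2 := congrArg (Subtype.val) this
      simpa using h2
    have hpow : (y * (w : H)) ^ r' = 1 := by
      rw [hcw.mul_pow, ← hy, pow_orderOf_eq_one, hy, hw, one_mul]
    exact hfy w w.2 _ (norm_range_fixed φ r' _ hpow a)
  have htot : ∏ w : ↥(Subgroup.zpowers z), ∏ i ∈ range r', φ ((y * (w : H)) ^ i) a = 1 :=
    Finset.prod_eq_one fun w _ => hinner w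
  rw [Finset.prod_comm] at htot
  -- the norm over zpowers z is trivial
  have hM : ∀ b : A, ∏ w : ↥(Subgroup.zpowers z), φ (w : H) b = 1 := fun b =>
    hfz _ (norm_zpowers_fixed φ z b)
  -- evaluate each column
  have hcol : ∀ i ∈ range r', ∏ w : ↥(Subgroup.zpowers z), φ ((y * (w : H)) ^ i) a
      = if i = 0 then a ^ r' else 1 := by
    intro i hi
    have hcomm : ∀ w : ↥(Subgroup.zpowers z), φ ((y * (w : H)) ^ i) a = φ (y ^ i) (φ ((w : H) ^ i) a) := by
      intro w
      have hcw : Commute y (w : H) := by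
        obtain ⟨k, hk⟩ := Subgroup.mem_zpowers_iff.mp w.2
        rw [← hk]
        exact hyz.zpow_right k
      rw [hcw.mul_pow, map_mul, MulAut.mul_apply]
    rw [Finset.prod_congr rfl fun w _ => hcomm w, ← map_prod]
    by_cases h0 : i = 0
    · subst h0
      simp [hcard]
    · rw [if_neg h0]
      have hcop : (Nat.card ↥(Subgroup.zpowers z)).Coprime i := by
        rw [Nat.card_eq_fintype_card, hcard]
        refine (Nat.Prime.coprime_iff_not_dvd hr').mpr ?_
        intro hdvd
        have := Nat.le_of_dvd (Nat.pos_of_ne_zero h0) hdvd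
        exact absurd (Finset.mem_range.mp hi) (not_lt.mpr this)
      have h' : ∏ w : ↥(Subgroup.zpowers z), φ ((w : H) ^ i) a = ∏ w : ↥(Subgroup.zpowers z), φ (w : H) a := by
        refine Fintype.prod_equiv (powCoprime hcop) _ _ fun w => ?_
        simp [powCoprime_apply]
      rw [h', hM a, map_one]
  rw [Finset.prod_congr rfl hcol] at htot
  rw [Finset.prod_ite_eq' ] at htot
  have hpos : 0 ∈ range r' := Finset.mem_range.mpr hr'.pos
  simpa [hpos] using htot

end Cfsg.Agent.Lib.Helper29.SOT4
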