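/-
helper29: S3713 super-leaf T2 (sub-planner helper20), leaf T2-MATID (`xS_mul_yS`) of `notes/S3713_T2_leaves.lean`.
-/
import Cfsg.Agent.Lib.Helper11.SL2Hom

set_option autoImplicit false

namespace Cfsg.Agent.Lib.Helper29.SPT2MATID

open Matrix
open Cfsg.Agent.Lib.Helper11.SL2Hom (RankOnePre xS yS hS wS)

/-- **MATID**: the Bruhat identity in `SL₂` -/
theorem xS_mul_yS {K : Type*} [Field K] (γ : K) (hδ : 1 + γ ≠ 0) :
    (xS γ * yS 1 : SpecialLinearGroup (Fin 2) K) = yS (1 + γ)⁻¹ * hS (1 + γ) hδ * xS (γ * (1 + γ)⁻¹) := by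
  apply Subtype.ext
  simp only [Matrix.SpecialLinearGroup.coe_mul, Cfsg.Agent.Lib.Helper11.SL2Hom.coe_xS,
    Cfsg.Agent.Lib.Helper11.SL2Hom.coe_yS, Cfsg.Agent.Lib.Helper11.SL2Hom.coe_hS]
  ext i j
  fin_cases i <;> fin_cases j <;> simp [Matrix.mul_apply, Fin.sum_univ_two] <;> field_simp <;> ring

end Cfsg.Agent.Lib.Helper29.SPT2MATID
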