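/-
helper29: S3713 super-leaf T2 (sub-planner helper20), leaf T2-SWAP (`swapRel`) of `notes/S3713_T2_leaves.lean`.
-/
import Cfsg.Agent.Lib.Helper20.SPT2Calc
import Cfsg.Agent.Lib.Helper20.SPT2Rel
import Cfsg.Agent.Lib.Helper20.SPT2G
import Cfsg.Agent.Lib.Helper5.SPT2ZCONJ

set_option autoImplicit false

namespace Cfsg.Agent.Lib.Helper29.SPT2SWAP

open Matrix Cfsg.Agent.Lib.Helper5 Cfsg.Agent.Lib.Helper14.SpPerfect Cfsg.Agent.Lib.Helper18.SP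
open Cfsg.Agent.Lib.Helper20.SPT2

variable {F : Type*} [Field F] {n : ℕ} {H : Type*} [Group H] {o p : Fin n}

theorem Tr_fV_mem_SS (j : Fin n) (c : F) : Tr (fV n F j) c ∈ SS n F j := by
  have hf : fV n F j ∈ VJ n F {j} := fV_mem_VJ rfl
  exact Tr_mem_GJ hf c

theorem Tr_eV_mem_SS' (j : Fin n) (c : F) : Tr (eV n F j) c ∈ SS n F j := by
  have he : eV n F j ∈ VJ n F {j} := eV_mem_VJ rfl
  exact Tr_mem_GJ he c

/-- conjugating by `a * b` where `b` commutes with `a` and `x` -/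
theorem conj_comm_aux {K : Type*} [Group K] (a b x : K) (hab : Commute a b) (hxb : Commute x b) :
    (a * b)⁻¹ * x * (a * b) = a⁻¹ * x * a := by
  have h1 : Commute b (a⁻¹ * x * a) := ((hab.symm.inv_right).mul_right hxb.symm).mul_right hab.symm
  calc (a * b)⁻¹ * x * (a * b) = b⁻¹ * ((a⁻¹ * x * a) * b) := by group
    _ = a⁻¹ * x * a := by rw [← h1.eq, ← mul_assoc, inv_mul_cancel, one_mul]

/-- `ntp = ψ₁ (nW p)` -/
theorem ntp_eq (A : T2Hyp n F H o p) : A.ntp = A.ψ₁ (nW n F p) :=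
  (A.h1p _ (nW_mem_SS p)).symm

/-- `nto = ψ₂ (nW o)` -/
theorem nto_eq (A : T2Hyp n F H o p) : A.nto = A.ψ₂ (nW n F o) :=
  (A.h2o _ (nW_mem_SS o)).symm

theorem nto_ntp_comm (A : T2Hyp n F H o p) : Commute A.nto A.ntp :=
  A.hD _ (nW_mem_SS o) _ (nW_mem_SS p)

/-- **SWAP**: conjugation by `κ̃ = nto * ntp` exchanges `Xt t` and `Yt (-t)` (two local steps each, through `Zt`:
`ntp = ψ₁ (nW p)`, `nto = ψ₂ (nW o)`, ZCONJ), and `σo (Tr f_o t)` with `σo (Tr e_o t)` -/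
theorem swapRel (A : T2Hyp n F H o p) : SwapRel A := by
  have hop := A.hop
  have hc : A.nto * A.ntp = A.ntp * A.nto := (nto_ntp_comm A).eq
  have hnWp1 : nW n F p ∈ PJ n F {o, p} o := SS_p_le_P1 hop (nW_mem_SS p)
  have hnWo2 : nW n F o ∈ PJ n F {o, p} p := SS_o_le_P2 hop (nW_mem_SS o)
  refine ⟨?_, ?_, ?_, ?_⟩
  · intro t
    -- first `ntp` (in `P1`), then `nto` (in `P2`)
    have e : (A.nto * A.ntp)⁻¹ * A.Xt t * (A.nto * A.ntp) =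
        A.nto⁻¹ * (A.ntp⁻¹ * A.Xt t * A.ntp) * A.nto := by
      rw [hc]; group
    have s1 : A.ntp⁻¹ * A.Xt t * A.ntp = A.ψ₂ (Zg n F o p (-t)) := by
      rw [ntp_eq, T2Hyp.Xt, ← A.hψ₁.map_conj' hnWp1 (Xg_mem_PJ hop t),
        Cfsg.Agent.Lib.Helper5.SPT2ZCONJ.nWp_conj_Xg hop t]
      exact A.h12 _ (Zg_mem_MM hop _)
    rw [e, s1, nto_eq, ← A.hψ₂.map_conj' hnWo2 (MM_le_P2 o p (Zg_mem_MM hop _)),
      Cfsg.Agent.Lib.Helper5.SPT2ZCONJ.nWo_conj_Zg hop]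
    rfl
  · intro t
    have e : (A.nto * A.ntp)⁻¹ * A.Yt t * (A.nto * A.ntp) =
        A.ntp⁻¹ * (A.nto⁻¹ * A.Yt t * A.nto) * A.ntp := by
      group
    have s1 : A.nto⁻¹ * A.Yt t * A.nto = A.ψ₁ (Zg n F o p (-t)) := by
      rw [nto_eq, T2Hyp.Yt, ← A.hψ₂.map_conj' hnWo2 (Yg_mem_PJ hop t),
        Cfsg.Agent.Lib.Helper5.SPT2ZCONJ.nWo_conj_Yg hop t]
      exact (A.h12 _ (Zg_mem_MM hop _)).symm
    rw [e, s1, ntp_eq, ← A.hψ₁.map_conj' hnWp1 (MM_le_P1 o p (Zg_mem_MM hop _)),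
      Cfsg.Agent.Lib.Helper5.SPT2ZCONJ.nWp_conj_Zg hop]
    rfl
  · intro t
    have hcomm : Commute (A.σo (Tr (fV n F o) t)) A.ntp := A.hD _ (Tr_fV_mem_SS o t) _ (nW_mem_SS p)
    have e : (A.nto * A.ntp)⁻¹ * A.σo (Tr (fV n F o) t) * (A.nto * A.ntp) =
        A.nto⁻¹ * A.σo (Tr (fV n F o) t) * A.nto :=
      conj_comm_aux _ _ _ (nto_ntp_comm A) hcomm
    rw [e, T2Hyp.nto, ← A.hσo.map_conj' (nW_mem_SS o) (Tr_fV_mem_SS o t),
      Cfsg.Agent.Lib.Helper5.SPT2ZCONJ.nWo_conj_Tr_fo]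
  · intro t
    have hcomm : Commute A.nto (A.σp (Tr (fV n F p) t)) := A.hD _ (nW_mem_SS o) _ (Tr_fV_mem_SS p t)
    have e : (A.nto * A.ntp)⁻¹ * A.σp (Tr (fV n F p) t) * (A.nto * A.ntp) =
        A.ntp⁻¹ * A.σp (Tr (fV n F p) t) * A.ntp := by
      rw [hc]
      exact conj_comm_aux _ _ _ (nto_ntp_comm A).symm hcomm.symm
    rw [e, T2Hyp.ntp, ← A.hσp.map_conj' (nW_mem_SS p) (Tr_fV_mem_SS p t),
      Cfsg.Agent.Lib.Helper5.SPT2ZCONJ.nWo_conj_Tr_fo]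

end Cfsg.Agent.Lib.Helper29.SPT2SWAP
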