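import Mathlib
import Cfsg.Agent.Lib.Helper18.SimsQ
import Cfsg.Agent.Lib.Helper18.SIMSL1
import Cfsg.Agent.Lib.Helper29.SIMSBase
import Cfsg.Agent.Lib.Helper29.SIMSBase2
import Cfsg.Agent.Lib.Helper23.SIMS2LAM
import Cfsg.Agent.Lib.Helper10.SIMS2NK

/-! S2772 market "SIMS3" (planner helper18): leaf QIDB `q_eq_three` — helper29. -/

set_option autoImplicit false

namespace Cfsg.Agent.Lib.Helper29.SIMS3QIDB

open Cfsg Cfsg.Agent.Lib.Helper29.TWPair Cfsg.Agent.Lib.Helper18.Sims3 Cfsg.Agent.Lib.Helper18.SimsQ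
  MulAction

variable {G : Type*} [Group G]

/-- an element of prime order `q` normalizing a finite subgroup `K`: `|K| ≡ |C_K(ρ)| (mod q)` -/
theorem card_modEq_centralizer [Finite G] {K : Subgroup G} {ρ : G} {q : ℕ} [Fact q.Prime]
    (hρ : orderOf ρ = q) (hn : ρ ∈ Subgroup.normalizer (K : Set G)) :
    Nat.card ↥K ≡ Nat.card ↥(K ⊓ Subgroup.centralizer {ρ}) [MOD q] := by
  set Z := Subgroup.zpowers ρ with hZ
  have hZp : IsPGroup q ↥Z := by
    apply IsPGroup.of_card (n := 1)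
    rw [hZ, Nat.card_zpowers, hρ, pow_one]
  have hZn : ∀ z ∈ Z, ∀ k ∈ K, z * k * z⁻¹ ∈ K := by
    intro z hz k hk
    have hzn : z ∈ Subgroup.normalizer (K : Set G) :=
      (Subgroup.zpowers_le.2 hn) hz
    exact (Subgroup.mem_normalizer_iff.1 hzn k).1 hk
  letI act : MulAction ↥Z ↥K :=
    { smul := fun z k => ⟨z.1 * k.1 * z.1⁻¹, hZn z.1 z.2 k.1 k.2⟩
      one_smul := by
        intro k
        apply Subtype.ext
        show (1 : G) * k.1 * (1 : G)⁻¹ = k.1
        group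
      mul_smul := by
        intro a b k
        apply Subtype.ext
        show (a.1 * b.1) * k.1 * (a.1 * b.1)⁻¹ = a.1 * (b.1 * k.1 * b.1⁻¹) * a.1⁻¹
        group }
  have h1 := hZp.card_modEq_card_fixedPoints ↥K
  have hsmul : ∀ (z : ↥Z) (k : ↥K), ((z • k : ↥K) : G) = z.1 * k.1 * z.1⁻¹ := fun _ _ => rfl
  have e : ↥(fixedPoints ↥Z ↥K) ≃ ↥(K ⊓ Subgroup.centralizer {ρ}) :=
    { toFun := fun k => ⟨k.1.1, Subgroup.mem_inf.2 ⟨k.1.2, by
        rw [Subgroup.mem_centralizer_singleton_iff]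
        have := k.2 ⟨ρ, Subgroup.mem_zpowers ρ⟩
        have h2 := congrArg Subtype.val this
        rw [hsmul] at h2
        -- h2 : ρ * k * ρ⁻¹ = k
        have h3 : ρ * k.1.1 = k.1.1 * ρ := by
          calc ρ * k.1.1 = (ρ * k.1.1 * ρ⁻¹) * ρ := by group
            _ = k.1.1 * ρ := by rw [h2]
        exact h3.symm⟩⟩
      invFun := fun k => ⟨⟨k.1, (Subgroup.mem_inf.1 k.2).1⟩, by
        intro z
        apply Subtype.ext
        rw [hsmul]
        show z.1 * k.1 * z.1⁻¹ = k.1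
        have hk := (Subgroup.mem_inf.1 k.2).2
        -- k centralizes zpowers ρ
        have hc : z.1 ∈ Subgroup.centralizer ({k.1} : Set G) := by
          have hle : Z ≤ Subgroup.centralizer ({k.1} : Set G) := by
            rw [hZ, Subgroup.zpowers_le, Subgroup.mem_centralizer_singleton_iff]
            exact ((Subgroup.mem_centralizer_singleton_iff).1 hk).symm
          exact hle z.2
        rw [Subgroup.mem_centralizer_singleton_iff] at hc
        -- hc : k * z = z * k  (or the reverse)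
        calc z.1 * k.1 * z.1⁻¹ = (k.1 * z.1) * z.1⁻¹ := by rw [hc]
          _ = k.1 := by group⟩
      left_inv := fun k => by
        apply Subtype.ext
        apply Subtype.ext
        rfl
      right_inv := fun k => by
        apply Subtype.ext
        rfl }
  rw [← Nat.card_congr e]
  exact h1


/-- LEAF QIDB (`q = 3`). -/
theorem q_eq_three [Finite G] {g : G} {x : ℕ → G} {n : ℕ} (h : TSData g x n)
    (h3 : 3 ≤ n) (h4 : n ≤ 4) (q : ℕ) (hq : q.Prime) (hq2 : q ≠ 2)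
    (hcard : Nat.card ↥(Hx x 0 n) = 2 ^ n * q)
    (hC : ∀ y ∈ Hx x 0 n, (∀ k ∈ Hx x 1 (n - 1), y * k = k * y) → y ∈ Hx x 1 (n - 1)) :
    q = 3 := by
  haveI : Fact q.Prime := ⟨hq⟩
  have hNK := Cfsg.Agent.Lib.Helper10.SIMS2NK.Hx_le_normalizer h (by omega : 2 ≤ n)
  have hKcard : Nat.card ↥(Hx x 1 (n - 1)) = 2 ^ (n - 1) := by
    rw [Cfsg.Agent.Lib.Helper18.SIMSL1.card_Hx_gen h 1 (n - 1) (by omega) (by omega)]
    have e : n - 1 + 1 - 1 = n - 1 := by omega
    rw [e]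
  -- an element of order `q`
  have hdvd : q ∣ Nat.card ↥(Hx x 0 n) := by rw [hcard]; exact Dvd.intro_left _ rfl
  obtain ⟨ρ', hρ'⟩ := exists_prime_orderOf_dvd_card' q hdvd
  set ρ : G := ρ'.1 with hρdef
  have hρH : ρ ∈ Hx x 0 n := ρ'.2
  have hρ : orderOf ρ = q := by rw [hρdef, Subgroup.orderOf_coe, hρ']
  have hmod := card_modEq_centralizer (K := Hx x 1 (n - 1)) hρ (hNK hρH)
  set C := Hx x 1 (n - 1) ⊓ Subgroup.centralizer {ρ} with hCdef
  have hCle : C ≤ Hx x 1 (n - 1) := inf_le_left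
  -- `C ≠ K`
  have hCne : C ≠ Hx x 1 (n - 1) := by
    intro heq
    have hcent : ∀ k ∈ Hx x 1 (n - 1), ρ * k = k * ρ := by
      intro k hk
      have hk' : k ∈ C := by rw [heq]; exact hk
      have := (Subgroup.mem_inf.1 hk').2
      rw [Subgroup.mem_centralizer_singleton_iff] at this
      exact this.symm
    have hρK := hC ρ hρH hcent
    have hord : orderOf (⟨ρ, hρK⟩ : ↥(Hx x 1 (n - 1))) ∣ Nat.card ↥(Hx x 1 (n - 1)) :=
      orderOf_dvd_natCard _
    rw [Subgroup.orderOf_mk, hρ, hKcard] at hord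
    have := (Nat.prime_dvd_prime_iff_eq hq Nat.prime_two).1 (hq.dvd_of_dvd_pow hord)
    exact hq2 this
  have hClt : Nat.card ↥C < Nat.card ↥(Hx x 1 (n - 1)) := by
    rcases lt_or_eq_of_le (Subgroup.card_le_of_le hCle) with hlt | heq
    · exact hlt
    · exact absurd (Subgroup.eq_of_le_of_card_ge hCle (le_of_eq heq.symm)) hCne
  have hCdvd : Nat.card ↥C ∣ 2 ^ (n - 1) := by
    rw [← hKcard]
    exact Subgroup.card_dvd_of_le hCle
  obtain ⟨j, hj, hCj⟩ := (Nat.dvd_prime_pow Nat.prime_two).1 hCdvd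
  rw [hKcard, hCj] at hmod hClt
  have hjlt : j < n - 1 := (Nat.pow_lt_pow_iff_right (by norm_num)).1 hClt
  -- `q ∣ 2 ^ (n-1) - 2 ^ j`
  have hsub : q ∣ 2 ^ (n - 1) - 2 ^ j := (Nat.modEq_iff_dvd' (le_of_lt hClt)).1 hmod.symm
  have hn : n = 3 ∨ n = 4 := by omega
  rcases hn with rfl | rfl
  · -- `|K| = 4`
    have hj' : j = 0 ∨ j = 1 := by omega
    rcases hj' with rfl | rfl
    · norm_num at hsub
      exact (Nat.prime_dvd_prime_iff_eq hq Nat.prime_three).1 hsub
    · norm_num at hsub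
      exact absurd ((Nat.prime_dvd_prime_iff_eq hq Nat.prime_two).1 hsub) hq2
  · -- `|K| = 8`, `x 2 ∈ C`
    obtain ⟨l, hl, -, -, -, -, hl4⟩ := Cfsg.Agent.Lib.Helper23.SIMS2LAM.lam_eq h (by omega) h4
    have hl3 : l = 3 := hl4 rfl
    subst hl3
    have hx2K : x 2 ∈ Hx x 1 (4 - 1) := Cfsg.Agent.Lib.Helper29.SIMSBase.mem_Hx (by omega) (by omega)
    have hx2c : Hx x 0 4 ≤ Subgroup.centralizer ({x 2} : Set G) := by
      rw [Cfsg.Agent.Lib.Helper29.SIMSBase.Hx_le_iff]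
      intro k _ hk4
      rw [Subgroup.mem_centralizer_singleton_iff]
      exact (Cfsg.Agent.Lib.Helper29.SIMSBase.commLt_comm hl (s := k) (t := 2)
        ⟨by omega, by omega, by omega, by omega⟩)
    have hx2ρ : x 2 ∈ Subgroup.centralizer ({ρ} : Set G) := by
      have := hx2c hρH
      rw [Subgroup.mem_centralizer_singleton_iff] at this ⊢
      exact this.symm
    have hx2C : x 2 ∈ C := Subgroup.mem_inf.2 ⟨hx2K, hx2ρ⟩
    have hx2ne : x 2 ≠ 1 := Cfsg.Agent.Lib.Helper29.SIMSBase.x_ne_one h (by omega) 2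
    have hj0 : j ≠ 0 := by
      intro hj0
      rw [hj0, pow_zero] at hCj
      have hbot := Subgroup.eq_bot_of_card_eq C hCj
      rw [hbot, Subgroup.mem_bot] at hx2C
      exact hx2ne hx2C
    have hj' : j = 1 ∨ j = 2 := by omega
    rcases hj' with rfl | rfl
    · norm_num at hsub
      have h6 : q ∣ 2 * 3 := hsub
      rcases (Nat.Prime.dvd_mul hq).1 h6 with h2 | h3'
      · exact absurd ((Nat.prime_dvd_prime_iff_eq hq Nat.prime_two).1 h2) hq2
      · exact (Nat.prime_dvd_prime_iff_eq hq Nat.prime_three).1 h3'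
    · norm_num at hsub
      have h4' : q ∣ 2 ^ 2 := hsub
      exact absurd ((Nat.prime_dvd_prime_iff_eq hq Nat.prime_two).1 (hq.dvd_of_dvd_pow h4')) hq2

end Cfsg.Agent.Lib.Helper29.SIMS3QIDB
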