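/-
helper29: S2262 leaf (PU-34) `srecip_bound_34` (frozen statement `notes/S2262_leaves.lean`):
`|F| = 4`, `σ` of order two, `P` monic of degree three, `σ`-reciprocal with `P(0) ≠ 0`: `P` divides some
`X^j - c` with `j ≤ 10`.  No identification of `F` or `σ`: `|Fix σ| = 2` (FX1), so `a σ(a) ∈ {0, 1}`;
`P = X³ + a X² + c σ(a) X + c`; `a = 0`: `j = 3`; `a ≠ 0`, `c = 1`: `P (X + a) = X⁴ - a`;
`a ≠ 0`, `c ≠ 1`: `P (X³ + a X² + (c+1) a² X + (c+1)) = X⁶ - 1`.
-/
import Mathlib
import Cfsg.Agent.Lib.Helper19.AutPSLDefs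
import Cfsg.Agent.Lib.Helper29.AutPSLFX1

set_option autoImplicit false

namespace Cfsg.Agent.Lib.Helper29.AutPSLPU34

open Matrix Polynomial Cfsg.Agent.Lib.Helper19.AutPSL

section PU

variable {F : Type*} [Field F] [Fintype F]

set_option linter.unusedSectionVars false in
/-- the coefficient equations of a `σ`-reciprocal cubic -/
theorem coeff_of_isSRecip (σ : F ≃+* F) (P : F[X]) (hP : P.Monic) (hdeg : P.natDegree = 3)
    (h0 : P.coeff 0 ≠ 0) (hrec : IsSRecip σ P) :
    ∃ u : F, σ (P.coeff 0) = u ∧ σ (P.coeff 1) = u * P.coeff 2 := by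
  obtain ⟨u, hu, hmir⟩ := hrec
  have hQdeg : (P.map (σ : F →+* F)).natDegree = 3 := by rw [Polynomial.natDegree_map, hdeg]
  have hQ0 : (P.map (σ : F →+* F)).coeff 0 ≠ 0 := by
    rw [coeff_map]
    intro h
    apply h0
    have h1 : σ (P.coeff 0) = 0 := h
    exact (map_eq_zero_iff σ σ.injective).mp h1
  have hQtr : (P.map (σ : F →+* F)).natTrailingDegree = 0 :=
    Polynomial.natTrailingDegree_eq_zero.mpr (Or.inr hQ0)
  have hcoef : ∀ n ≤ 3, (P.map (σ : F →+* F)).coeff (3 - n) = u * P.coeff n := by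
    intro n hn
    have h1 := congrArg (fun R => R.coeff n) hmir
    simp only [coeff_mirror, coeff_C_mul, hQdeg, hQtr, add_zero] at h1
    rwa [revAt_le hn] at h1
  have h3 := hcoef 3 le_rfl
  have h2 := hcoef 2 (by norm_num)
  have hlead : P.coeff 3 = 1 := by
    have := hP.coeff_natDegree
    rwa [hdeg] at this
  rw [hlead, mul_one] at h3
  refine ⟨u, ?_, ?_⟩
  · have : (P.map (σ : F →+* F)).coeff 0 = σ (P.coeff 0) := by rw [coeff_map]; rfl
    rw [← this]; exact h3
  · have : (P.map (σ : F →+* F)).coeff 1 = σ (P.coeff 1) := by rw [coeff_map]; rfl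
    rw [← this]; exact h2

/-- (PU-34) -/
theorem srecip_bound_34 (σ : F ≃+* F) (hσ : orderOf σ = 2) (P : F[X]) (hP : P.Monic)
    (hdeg : P.natDegree = 3) (h0 : P.coeff 0 ≠ 0) (hrec : IsSRecip σ P)
    (hq : Fintype.card F = 4) :
    ∃ (j : ℕ) (c : F), 1 ≤ j ∧ 2 * ((Fintype.card F - 1) * j) ≤ Fintype.card F ^ 3 - 1 ∧
      P ∣ X ^ j - C c := by
  classical
  -- the field: characteristic two, cubes of units are one
  have h2F : (2 : F) = 0 := by
    have h4 : ((Fintype.card F : ℕ) : F) = 0 := FiniteField.cast_card_eq_zero F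
    rw [hq] at h4
    have h5 : (2 : F) * 2 = 0 := by
      have : ((4 : ℕ) : F) = 2 * 2 := by norm_num
      rw [← this]; exact h4
    exact mul_self_eq_zero.mp h5
  have hcube : ∀ x : F, x ≠ 0 → x ^ 3 = 1 := by
    intro x hx
    have := FiniteField.pow_card_sub_one_eq_one x hx
    rwa [hq] at this
  -- `σ` is an involution with two fixed points
  have hσσ : ∀ x : F, σ (σ x) = x := by
    intro x
    have h1 : σ ^ 2 = 1 := by rw [← hσ]; exact pow_orderOf_eq_one σ
    have h2 : (σ ^ 2) x = x := by rw [h1]; rfl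
    rwa [pow_two] at h2
  have hcardfix : Nat.card (fixF σ) = 2 := by
    have h1 := Cfsg.Agent.Lib.Helper29.AutPSLFX1.card_fixF_pow σ
    rw [hσ, hq] at h1
    have h3 : Nat.card (fixF σ) ≤ 2 := by nlinarith
    interval_cases (Nat.card (fixF σ)) <;> omega
  have hfix : ∀ y : F, σ y = y → y = 0 ∨ y = 1 := by
    intro y hy
    obtain ⟨z, -, huniq⟩ := (Nat.card_eq_two_iff' (0 : fixF σ)).mp hcardfix
    by_cases hy0 : y = 0
    · exact Or.inl hy0
    · right
      have h1 : (⟨y, hy⟩ : fixF σ) = z := huniq _ (fun h => hy0 (congrArg Subtype.val h))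
      have h2 : (1 : fixF σ) = z := huniq _ one_ne_zero
      have h3 : (⟨y, hy⟩ : fixF σ) = 1 := h1.trans h2.symm
      exact congrArg Subtype.val h3
  -- the coefficients
  obtain ⟨u, hu0, hu1⟩ := coeff_of_isSRecip σ P hP hdeg h0 hrec
  have hlead : P.coeff 3 = 1 := by
    have := hP.coeff_natDegree
    rwa [hdeg] at this
  have hb : P.coeff 1 = P.coeff 0 * σ (P.coeff 2) := by
    have h1 : σ (P.coeff 1) = σ (P.coeff 0) * P.coeff 2 := by rw [hu1, hu0]
    have h2 := congrArg σ h1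
    rwa [hσσ, map_mul, hσσ] at h2
  have hPeq : P = X ^ 3 + C (P.coeff 2) * X ^ 2 + C (P.coeff 1) * X + C (P.coeff 0) := by
    have h1 := P.as_sum_range_C_mul_X_pow' (n := 4) (by rw [hdeg]; norm_num)
    rw [Finset.sum_range_succ, Finset.sum_range_succ, Finset.sum_range_succ,
      Finset.sum_range_one, hlead] at h1
    refine h1.trans ?_
    simp only [pow_zero, mul_one, pow_one, C_1, one_mul]
    ring
  have hcard3 : 2 * ((Fintype.card F - 1) * 3) ≤ Fintype.card F ^ 3 - 1 := by rw [hq]; norm_num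
  have hcard4 : 2 * ((Fintype.card F - 1) * 4) ≤ Fintype.card F ^ 3 - 1 := by rw [hq]; norm_num
  have hcard6 : 2 * ((Fintype.card F - 1) * 6) ≤ Fintype.card F ^ 3 - 1 := by rw [hq]; norm_num
  have h2X : (2 : F[X]) = 0 := by
    have : C (2 : F) = 0 := by rw [h2F, C_0]
    rwa [C_ofNat] at this
  set a := P.coeff 2 with ha
  set b := P.coeff 1 with hbdef
  set c := P.coeff 0 with hc
  by_cases ha0 : a = 0
  · -- `P = X³ + c`
    refine ⟨3, -c, by norm_num, hcard3, ?_⟩
    have hb0 : b = 0 := by rw [hb, ha0, map_zero, mul_zero]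
    apply dvd_of_eq
    rw [hPeq, ha0, hb0]
    simp
  · have ha3 : a ^ 3 = 1 := hcube a ha0
    have hN : a * σ a = 1 := by
      have hfixN : σ (a * σ a) = a * σ a := by rw [map_mul, hσσ, mul_comm]
      rcases hfix _ hfixN with h | h
      · exfalso
        rcases mul_eq_zero.mp h with h | h
        · exact ha0 h
        · exact ha0 ((map_eq_zero_iff σ σ.injective).mp h)
      · exact h
    have hsa : σ a = a ^ 2 := by linear_combination (a ^ 2) * hN - (σ a) * ha3
    have hb' : b = c * a ^ 2 := by rw [hb, hsa]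
    have hA3 : (C a) ^ 3 = (1 : F[X]) := by rw [← C_pow, ha3, C_1]
    have hc3 : c ^ 3 = 1 := hcube c h0
    by_cases hc1 : c = 1
    · -- `P (X + a) = X⁴ - a`
      refine ⟨4, a, by norm_num, hcard4, ?_⟩
      refine Dvd.intro (X + C a) ?_
      rw [hPeq, hb', hc1, C_mul, C_pow, C_1]
      linear_combination (C a * X ^ 3 + (C a) ^ 2 * X ^ 2 + C a + X) * h2X + X * hA3
    · -- `c² + c + 1 = 0`, `P Q = X⁶ - 1`
      have hcrel : c ^ 2 + c + 1 = 0 := by
        have h1 : (c - 1) * (c ^ 2 + c + 1) = 0 := by linear_combination hc3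
        rcases mul_eq_zero.mp h1 with h | h
        · exact absurd (sub_eq_zero.mp h) hc1
        · exact h
      have hcX : (C c) ^ 2 + C c + 1 = (0 : F[X]) := by
        rw [← C_pow, ← C_add, ← C_1, ← C_add, hcrel, C_0]
      refine ⟨6, 1, by norm_num, hcard6, ?_⟩
      refine Dvd.intro (X ^ 3 + C a * X ^ 2 + (C c + 1) * (C a) ^ 2 * X + (C c + 1)) ?_
      rw [hPeq, hb', C_mul, C_pow, C_1]
      linear_combination (C a * X ^ 5 + (C a) ^ 2 * (C c + 1) * X ^ 4 + (2 * C c + 1) * X ^ 3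
        + C c * C a * X ^ 2 + C c * (C c + 1) * (C a) ^ 2 * X) * h2X
        + ((2 * C c + 1) * X ^ 3 + C c * (C c + 1) * C a * X ^ 2) * hA3
        + (C a * X ^ 2 + 1) * hcX

end PU

end Cfsg.Agent.Lib.Helper29.AutPSLPU34
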