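/-
helper29: S0997 (Brauer-Tuan), leaf BT-EPSARITH (`mersenne_of_psl`) of `notes/S0997_leaves.lean` (planner helper19).
-/
import Mathlib
import Cfsg.Agent.Lib.Helper13.PSL2

set_option autoImplicit false

namespace Cfsg.Agent.Lib.Helper29.BTEPSARITH

universe u

variable {G : Type u} [Group G] [Finite G] {p : ℕ} [Fact p.Prime]

/-- `|PSL₂(ZMod p)| = p f (p + 1)` for `p = 2 f + 1` -/
theorem card_PSL2_zmod (f : ℕ) (hf : 2 * f + 1 = p) :
    Nat.card (Matrix.ProjectiveSpecialLinearGroup (Fin 2) (ZMod p)) = p * f * (p + 1) := by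
  have h2 : (2 : ZMod p) ≠ 0 := by
    intro h
    have h' : ((2 : ℕ) : ZMod p) = 0 := by exact_mod_cast h
    rw [ZMod.natCast_eq_zero_iff] at h'
    have : p ≤ 2 := Nat.le_of_dvd (by norm_num) h'
    have hp2 : 2 ≤ p := (Fact.out : p.Prime).two_le
    omega
  have h := Cfsg.Agent.Lib.Helper13.card_PSL2_mul_two (F := ZMod p) h2
  rw [ZMod.card] at h
  have h3 : p ^ 2 - 1 = 2 * (2 * f * (f + 1)) := by
    rw [← hf]
    have : (2 * f + 1) ^ 2 = 2 * (2 * f * (f + 1)) + 1 := by ring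
    rw [this]; simp
  rw [h3] at h
  have h4 : Nat.card (Matrix.ProjectiveSpecialLinearGroup (Fin 2) (ZMod p)) * 2 =
      (p * f * (p + 1)) * 2 := by
    rw [h]
    have : p + 1 = 2 * (f + 1) := by omega
    rw [this]; ring
  exact Nat.eq_of_mul_eq_mul_right (by norm_num) h4

/-- BT-EPSARITH  (step 2b). -/
theorem mersenne_of_psl (q b g₀ f : ℕ) (hq : q.Prime) (hcard : Nat.card G = p * q ^ b * g₀) (hg : g₀ < p - 1)
    (hf : 2 * f + 1 = p) (hfg : f ∣ g₀) (e : G ≃* Matrix.ProjectiveSpecialLinearGroup (Fin 2) (ZMod p)) : p = 2 ^ b - 1 := by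
  have hpp : p.Prime := Fact.out
  have hc : Nat.card G = p * f * (p + 1) := by
    rw [Nat.card_congr e.toEquiv]; exact card_PSL2_zmod f hf
  have hGpos : 0 < Nat.card G := Nat.card_pos
  have hg0 : 0 < g₀ := by
    rcases Nat.eq_zero_or_pos g₀ with h | h
    · rw [hcard, h, mul_zero] at hGpos; exact absurd hGpos (lt_irrefl 0)
    · exact h
  -- g₀ = f
  obtain ⟨k, hk⟩ := hfg
  have hk1 : k = 1 := by
    have hkpos : 0 < k := by
      rcases Nat.eq_zero_or_pos k with h | h
      · rw [h, mul_zero] at hk; omega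
      · exact h
    by_contra hne
    have hk2 : 2 ≤ k := by omega
    have : 2 * f ≤ f * k := by nlinarith
    omega
  have hgf : g₀ = f := by rw [hk, hk1, mul_one]
  -- q ^ b = p + 1
  have hqb : q ^ b = p + 1 := by
    have h1 : p * q ^ b * g₀ = p * f * (p + 1) := by rw [← hcard, hc]
    rw [hgf] at h1
    have hf0 : 0 < f := by
      rcases Nat.eq_zero_or_pos f with h | h
      · rw [h] at hgf; omega
      · exact h
    have h2 : (p * f) * q ^ b = (p * f) * (p + 1) := by rw [← h1]; ring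
    exact Nat.eq_of_mul_eq_mul_left (Nat.mul_pos hpp.pos hf0) h2
  have heven : 2 ∣ q ^ b := by
    rw [hqb]; exact ⟨f + 1, by omega⟩
  have hq2 : q = 2 := by
    have := (Nat.Prime.dvd_of_dvd_pow Nat.prime_two heven)
    exact ((Nat.prime_dvd_prime_iff_eq Nat.prime_two hq).mp this).symm
  rw [hq2] at hqb
  omega

end Cfsg.Agent.Lib.Helper29.BTEPSARITH
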