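/-
helper29: S0997 (Brauer-Tuan), leaf BT-EPSPOS (`psl_of_eps_pos`) of `notes/S0997_leaves.lean` (planner helper19).
-/
import Mathlib
import Cfsg.Prelude.Def_BlockRank
import Cfsg.Agent.Lib.Helper6.BRHDefs
import Cfsg.Agent.Lib.Helper24.BRCDefs
import Cfsg.Agent.Lib.Helper25.Gagola
import Cfsg.Agent.Lib.Helper29.BRVISING
import Cfsg.Agent.S4503
import Cfsg.Agent.S4504

set_option autoImplicit false

namespace Cfsg.Agent.Lib.Helper29.BTEPSPOS

open Cfsg Cfsg.Agent.Lib.Helper8.DOM Cfsg.Agent.Lib.Helper27.DO Cfsg.Agent.CharLib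
open Cfsg.Agent.Lib.Helper6.BRH Cfsg.Agent.Lib.Helper24.BRC
open scoped ComplexConjugate

universe u

variable {G : Type u} [Group G] [Finite G] {p : ℕ} [Fact p.Prime]

/-- a non-trivial irreducible character of a simple group is faithful -/
theorem faithful_of_simple' [IsSimpleGroup G] (χ : IrrCharacter G) (hχ : χ ≠ trivIrr G) :
    ∀ g : G, (χ : G → ℂ) g = (χ : G → ℂ) 1 → g = 1 := by
  classical
  letI : Fintype G := Fintype.ofFinite G
  have hK : Cfsg.Agent.Lib.Helper25.irrKer χ ≠ ⊤ := by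
    intro htop
    have h1 : ∀ g : G, (χ : G → ℂ) g = (χ : G → ℂ) 1 := by
      intro g
      rw [← Cfsg.Agent.Lib.Helper25.mem_irrKer, htop]
      exact Subgroup.mem_top g
    have h2 := Cfsg.Agent.Lib.Helper29.BRVISING.sum_irr_apply χ
    rw [if_neg hχ, Finset.sum_congr rfl (fun g _ => h1 g), Finset.sum_const, Finset.card_univ,
      nsmul_eq_mul] at h2
    have hcard : (Fintype.card G : ℂ) ≠ 0 := Nat.cast_ne_zero.mpr Fintype.card_ne_zero
    have hdeg : (χ : G → ℂ) 1 ≠ 0 := by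
      rw [Cfsg.Agent.Lib.Helper6.BRH.apply_one_eq]
      exact Nat.cast_ne_zero.mpr (Cfsg.Agent.Lib.Helper6.BRH.charDegree_pos χ).ne'
    exact (mul_ne_zero hcard hdeg) h2
  have hbot : Cfsg.Agent.Lib.Helper25.irrKer χ = ⊥ :=
    ((Cfsg.Agent.Lib.Helper25.irrKer_normal χ).eq_bot_or_eq_top).resolve_right hK
  intro g hg
  have : g ∈ Cfsg.Agent.Lib.Helper25.irrKer χ := (Cfsg.Agent.Lib.Helper25.mem_irrKer χ g).mpr hg
  rw [hbot] at this
  exact Subgroup.mem_bot.mp this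

/-- BT-EPSPOS  (step 2a). -/
theorem psl_of_eps_pos [IsSimpleGroup G] (hG : ¬ IsCyclic G) (hZ : Subgroup.center G = ⊥) (P : Subgroup G) (hP : Nat.card P = p)
    (hSyl : ¬ p ∣ P.index) (hfdvd : fI P ∣ p - 1) (hflt : fI P < p - 1) (ψ : IrrCharacter G) (hψ : ψ ≠ trivIrr G)
    (hdeg : charDegree (ψ : G → ℂ) = fI P) :
    2 * fI P + 1 = p ∧ Nonempty (G ≃* Matrix.ProjectiveSpecialLinearGroup (Fin 2) (ZMod p)) := by
  have hpp : p.Prime := Fact.out
  have hdiv : p ∣ Nat.card G := by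
    rw [← hP]; exact Subgroup.card_subgroup_dvd_card P
  have hsq : ¬ p ^ 2 ∣ Nat.card G := by
    intro h
    rw [← Subgroup.card_mul_index P, hP, pow_two] at h
    exact hSyl (Nat.dvd_of_mul_dvd_mul_left hpp.pos h)
  have hnn : ∀ H : Subgroup G, H.Normal → Nat.card H ≠ p := by
    intro H hH hc
    rcases hH.eq_bot_or_eq_top with h | h
    · rw [h, Subgroup.card_bot] at hc
      exact hpp.one_lt.ne hc
    · rw [h, Subgroup.card_top] at hc
      exact hG (isCyclic_of_prime_card hc)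
  have hchar : Cfsg.IsCharacter G (ψ : G → ℂ) := IsIrrCharacter.isCharacter ψ.2
  have hfaith := faithful_of_simple' ψ hψ
  have h1 := Cfsg.Agent.S4503.result p hpp hdiv hsq hnn (ψ : G → ℂ) hchar hfaith
  rw [hdeg] at h1
  have h2 : 2 * fI P + 1 ≤ p := by
    obtain ⟨k, hk⟩ := hfdvd
    have hk2 : 2 ≤ k := by
      by_contra hne
      have : k = 0 ∨ k = 1 := by omega
      rcases this with rfl | rfl
      · rw [mul_zero] at hk; omega
      · rw [mul_one] at hk; omega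
    have : 2 * fI P ≤ fI P * k := by nlinarith
    have hp1 : 1 ≤ p := hpp.pos
    omega
  have h3 : 2 * fI P + 1 = p := le_antisymm h2 h1
  refine ⟨h3, ?_⟩
  have hdeg' : 2 * charDegree (ψ : G → ℂ) + 1 = p := by rw [hdeg]; exact h3
  obtain ⟨e⟩ := Cfsg.Agent.S4504.result p hpp hdiv hsq hnn (ψ : G → ℂ) hchar hfaith hdeg'
  exact ⟨(QuotientGroup.quotientBot.symm.trans (QuotientGroup.quotientMulEquivOfEq hZ.symm)).trans e⟩

end Cfsg.Agent.Lib.Helper29.BTEPSPOS
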