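/-
helper29: S0997 (Brauer-Tuan), leaf BT-SUMX (`exists_finset_X`) of `notes/S0997_leaves.lean` (planner helper19).
-/
import Mathlib
import Cfsg.Prelude.Def_BlockRank
import Cfsg.Agent.Lib.Helper6.BRHDefs
import Cfsg.Agent.Lib.Helper24.BRCDefs
import Cfsg.Agent.Lib.Helper29.BRVISING

set_option autoImplicit false

namespace Cfsg.Agent.Lib.Helper29.BTSUMX

open Cfsg Cfsg.Agent.Lib.Helper8.DOM Cfsg.Agent.Lib.Helper27.DO Cfsg.Agent.CharLib
open Cfsg.Agent.Lib.Helper6.BRH Cfsg.Agent.Lib.Helper24.BRC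
open scoped ComplexConjugate

universe u

variable {G : Type u} [Group G] [Finite G] {p : ℕ} [Fact p.Prime]

variable {X Y : Set (IrrCharacter G)} {v : IrrCharacter G → ℤ} {ε : ℤ}

/-- the sign of the trivial character is `+1` -/
theorem v_triv (P : Subgroup G) (hP : Nat.card P = p) (b0 : B0 p P X Y v ε) : v (trivIrr G) = 1 := by
  obtain ⟨x, hxP, hxs⟩ := Cfsg.Agent.Lib.Helper29.BRVISING.exists_singular P hP
  have h := b0.valX (trivIrr G) b0.trivX x hxs
  have h1 : (trivIrr G : G → ℂ) x = 1 := rfl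
  rw [h1] at h
  exact_mod_cast h.symm

/-- BT-SUMX.  The degree equation over the Finset `S = X \ {1_G}`. -/
theorem exists_finset_X (P : Subgroup G) (hP : Nat.card P = p) (b0 : B0 p P X Y v ε) :
    ∃ S : Finset (IrrCharacter G), (∀ η, η ∈ S ↔ η ∈ X ∧ η ≠ trivIrr G) ∧ S.card + 1 = fI P ∧
      ∀ ψ ∈ Y, ε * (charDegree (ψ : G → ℂ) : ℤ) = 1 + ∑ η ∈ S, v η * (charDegree (η : G → ℂ) : ℤ) := by
  classical
  have hX : X.Finite := Set.toFinite X
  have htX : trivIrr G ∈ hX.toFinset := (Set.Finite.mem_toFinset hX).mpr b0.trivX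
  refine ⟨hX.toFinset.erase (trivIrr G), ?_, ?_, ?_⟩
  · intro η
    rw [Finset.mem_erase, Set.Finite.mem_toFinset]
    tauto
  · rw [Finset.card_erase_of_mem htX]
    have hc : hX.toFinset.card = fI P := by
      have h := b0.cardX
      rw [Nat.card_coe_set_eq, Set.ncard_eq_toFinset_card X hX] at h
      exact h
    have hpos : 0 < hX.toFinset.card := Finset.card_pos.mpr ⟨_, htX⟩
    omega
  · intro ψ hψ
    rw [b0.degY ψ hψ, finsum_mem_eq_finite_toFinset_sum _ hX, ← Finset.add_sum_erase _ _ htX,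
      v_triv P hP b0]
    have h1 : charDegree ((trivIrr G : IrrCharacter G) : G → ℂ) = 1 := by
      apply charDegree_eq_of_apply_one
      have : (trivIrr G : G → ℂ) 1 = 1 := rfl
      rw [this]; simp
    rw [h1]
    simp

end Cfsg.Agent.Lib.Helper29.BTSUMX
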