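/-
helper29: S0997 (Brauer-Tuan), leaf BT-STEP1 (`step1`) of `notes/S0997_leaves.lean` (planner helper19) - a twin.
-/
import Mathlib
import Cfsg.Prelude.Def_BlockRank
import Cfsg.Agent.Lib.Helper6.BRHDefs
import Cfsg.Agent.Lib.Helper24.BRCDefs
import Cfsg.Agent.Lib.Helper24.IrrFacts
import Cfsg.Agent.Lib.Helper5.BRWLIN
import Cfsg.Agent.Lib.Helper29.BTSUMX

set_option autoImplicit false

namespace Cfsg.Agent.Lib.Helper29.BTSTEP1

open Cfsg Cfsg.Agent.Lib.Helper8.DOM Cfsg.Agent.Lib.Helper27.DO Cfsg.Agent.CharLib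
open Cfsg.Agent.Lib.Helper6.BRH Cfsg.Agent.Lib.Helper24.BRC
open scoped ComplexConjugate

universe u

variable {G : Type u} [Group G] [Finite G] {p : ℕ} [Fact p.Prime]

variable {X Y : Set (IrrCharacter G)} {v : IrrCharacter G → ℤ} {ε : ℤ}

/-- a number congruent to `±1` modulo `p` is prime to `p` -/
theorem not_dvd_of_modEq_unit (d : ℕ) (s : ℤ) (hs : s = 1 ∨ s = -1) (h : (d : ℤ) ≡ s [ZMOD p]) : ¬ p ∣ d := by
  have hpp : p.Prime := Fact.out
  intro hd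
  have h1 : (p : ℤ) ∣ (d : ℤ) := Int.natCast_dvd_natCast.mpr hd
  have h2 : (p : ℤ) ∣ s - d := Int.ModEq.dvd h
  have h3 : (p : ℤ) ∣ s := by
    have := dvd_add h2 h1
    rwa [sub_add_cancel] at this
  have h4 := Int.natAbs_dvd_natAbs.mpr h3
  rw [Int.natAbs_natCast] at h4
  rcases hs with rfl | rfl
  · exact hpp.one_lt.ne' (Nat.dvd_one.mp (by simpa using h4))
  · exact hpp.one_lt.ne' (Nat.dvd_one.mp (by simpa using h4))

/-- a divisor of `p q^b g₀` prime to `p` and to `q` divides `g₀` -/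
theorem dvd_g0 (d q b g₀ : ℕ) (hq : q.Prime) (hd : d ∣ p * q ^ b * g₀) (hp : ¬ p ∣ d) (hqd : ¬ q ∣ d) : d ∣ g₀ := by
  have hpp : p.Prime := Fact.out
  have c1 : Nat.Coprime d p := ((Nat.Prime.coprime_iff_not_dvd hpp).mpr hp).symm
  have c2 : Nat.Coprime d (q ^ b) := (((Nat.Prime.coprime_iff_not_dvd hq).mpr hqd).symm).pow_right b
  have c3 : Nat.Coprime d (p * q ^ b) := Nat.Coprime.mul_right c1 c2
  exact c3.dvd_of_dvd_mul_left hd

/-- BT-STEP1  (step 1 of the header). -/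
theorem step1 (hperf : commutator G = ⊤) (q b g₀ : ℕ) (hq : q.Prime) (hpq : p ≠ q)
    (hcard : Nat.card G = p * q ^ b * g₀) (hg : g₀ < p - 1)
    (P : Subgroup G) (hP : Nat.card P = p) (hSyl : ¬ p ∣ P.index) (hf2 : 2 ≤ fI P) (b0 : B0 p P X Y v ε)
    (hdX : ∀ η ∈ X, (charDegree (η : G → ℂ) : ℤ) ≡ v η [ZMOD p])
    (hdY : ∀ ξ ∈ Y, (charDegree (ξ : G → ℂ) : ℤ) ≡ ε * ((Cz P).relIndex (Nz P) : ℤ) [ZMOD p]) :
    fI P < p - 1 ∧ (∀ η ∈ X, η ≠ trivIrr G → q ∣ charDegree (η : G → ℂ)) ∧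
      ∀ ψ ∈ Y, charDegree (ψ : G → ℂ) ∣ g₀ ∧
        ((ε = 1 ∧ charDegree (ψ : G → ℂ) = fI P) ∨ (ε = -1 ∧ charDegree (ψ : G → ℂ) + fI P = p)) := by
  classical
  have hpp : p.Prime := Fact.out
  have hfdvd : fI P ∣ p - 1 := b0.dvd
  have hp3 : 3 ≤ p := by
    have h1 : fI P ≤ p - 1 := Nat.le_of_dvd (by have := hpp.two_le; omega) hfdvd
    omega
  have hfle : fI P ≤ p - 1 := Nat.le_of_dvd (by omega) hfdvd
  have hGpos : 0 < Nat.card G := Nat.card_pos
  have hg0 : 0 < g₀ := by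
    rcases Nat.eq_zero_or_pos g₀ with h | h
    · rw [hcard, h, mul_zero] at hGpos; exact absurd hGpos (lt_irrefl 0)
    · exact h
  have hdvdG : ∀ χ : IrrCharacter G, charDegree (χ : G → ℂ) ∣ p * q ^ b * g₀ := by
    intro χ
    rw [← hcard]
    exact Cfsg.Agent.Lib.Helper24.irr_charDegree_dvd_card χ
  -- (B)
  have hB : ∀ η ∈ X, η ≠ trivIrr G → q ∣ charDegree (η : G → ℂ) := by
    intro η hη hne
    by_contra hqd
    have hs := b0.sgnX η hη
    have hnp : ¬ p ∣ charDegree (η : G → ℂ) := not_dvd_of_modEq_unit _ _ hs (hdX η hη)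
    have hd := dvd_g0 _ q b g₀ hq (hdvdG η) hnp hqd
    have hle : charDegree (η : G → ℂ) ≤ g₀ := Nat.le_of_dvd hg0 hd
    have hpos := Cfsg.Agent.Lib.Helper6.BRH.charDegree_pos η
    have hne1 : charDegree (η : G → ℂ) ≠ 1 := fun h1 =>
      hne (Cfsg.Agent.Lib.Helper5.BRWLIN.eq_triv_of_degree_one hperf η h1)
    have hmod := hdX η hη
    rcases hs with h | h
    · rw [h] at hmod
      have h2 : (p : ℤ) ∣ (charDegree (η : G → ℂ) : ℤ) - 1 := (Int.ModEq.dvd hmod.symm)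
      have h3 : (p : ℤ) ≤ (charDegree (η : G → ℂ) : ℤ) - 1 := Int.le_of_dvd (by omega) h2
      omega
    · rw [h] at hmod
      have h2 : (p : ℤ) ∣ (charDegree (η : G → ℂ) : ℤ) - (-1) := (Int.ModEq.dvd hmod.symm)
      have h3 : (p : ℤ) ≤ (charDegree (η : G → ℂ) : ℤ) - (-1) := Int.le_of_dvd (by omega) h2
      omega
  -- (C)
  obtain ⟨S, hS, -, hsum⟩ := Cfsg.Agent.Lib.Helper29.BTSUMX.exists_finset_X P hP b0
  have hC : ∀ ψ ∈ Y, charDegree (ψ : G → ℂ) ∣ g₀ ∧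
      ((ε = 1 ∧ charDegree (ψ : G → ℂ) = fI P) ∨ (ε = -1 ∧ charDegree (ψ : G → ℂ) + fI P = p)) := by
    intro ψ hψ
    have hpos := Cfsg.Agent.Lib.Helper6.BRH.charDegree_pos ψ
    -- q ∤ ψ(1)
    have hqd : ¬ q ∣ charDegree (ψ : G → ℂ) := by
      intro hqd
      have h1 : (q : ℤ) ∣ ε * (charDegree (ψ : G → ℂ) : ℤ) :=
        dvd_mul_of_dvd_right (Int.natCast_dvd_natCast.mpr hqd) _
      have h2 : (q : ℤ) ∣ ∑ η ∈ S, v η * (charDegree (η : G → ℂ) : ℤ) := by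
        apply Finset.dvd_sum
        intro η hη
        have := (hS η).mp hη
        exact dvd_mul_of_dvd_right (Int.natCast_dvd_natCast.mpr (hB η this.1 this.2)) _
      rw [hsum ψ hψ] at h1
      have h3 : (q : ℤ) ∣ 1 := by
        have := dvd_sub h1 h2
        rwa [add_sub_cancel_right] at this
      have h4 := Int.natAbs_dvd_natAbs.mpr h3
      rw [Int.natAbs_natCast] at h4
      exact hq.one_lt.ne' (Nat.dvd_one.mp (by simpa using h4))
    have hmod := hdY ψ hψ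
    have hfcast : (((Cz P).relIndex (Nz P) : ℕ) : ℤ) = (fI P : ℤ) := rfl
    rw [hfcast] at hmod
    -- p ∤ ψ(1)
    have hnp : ¬ p ∣ charDegree (ψ : G → ℂ) := by
      intro hd
      have h1 : (p : ℤ) ∣ (charDegree (ψ : G → ℂ) : ℤ) := Int.natCast_dvd_natCast.mpr hd
      have h2 : (p : ℤ) ∣ ε * (fI P : ℤ) - (charDegree (ψ : G → ℂ) : ℤ) := Int.ModEq.dvd hmod
      have h3 : (p : ℤ) ∣ ε * (fI P : ℤ) := by
        have := dvd_add h2 h1
        rwa [sub_add_cancel] at this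
      have h4 := Int.natAbs_dvd_natAbs.mpr h3
      rw [Int.natAbs_natCast, Int.natAbs_mul, Int.natAbs_natCast] at h4
      have h5 : ε.natAbs = 1 := by
        rcases b0.sgn with h | h <;> rw [h] <;> rfl
      rw [h5, one_mul] at h4
      have := Nat.le_of_dvd (by omega) h4
      omega
    have hd := dvd_g0 _ q b g₀ hq (hdvdG ψ) hnp hqd
    have hle : charDegree (ψ : G → ℂ) ≤ g₀ := Nat.le_of_dvd hg0 hd
    refine ⟨hd, ?_⟩
    rcases b0.sgn with h | h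
    · left
      refine ⟨h, ?_⟩
      rw [h, one_mul] at hmod
      have h2 : (p : ℤ) ∣ (fI P : ℤ) - (charDegree (ψ : G → ℂ) : ℤ) := Int.ModEq.dvd hmod
      by_contra hne
      rcases Nat.lt_or_gt_of_ne hne with hlt | hgt
      · have h3 : (p : ℤ) ≤ (fI P : ℤ) - (charDegree (ψ : G → ℂ) : ℤ) := Int.le_of_dvd (by omega) h2
        omega
      · have h2' : (p : ℤ) ∣ (charDegree (ψ : G → ℂ) : ℤ) - (fI P : ℤ) := by
          have := dvd_neg.mpr h2
          rwa [neg_sub] at this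
        have h3 : (p : ℤ) ≤ (charDegree (ψ : G → ℂ) : ℤ) - (fI P : ℤ) := Int.le_of_dvd (by omega) h2'
        omega
    · right
      refine ⟨h, ?_⟩
      rw [h] at hmod
      have h2 : (p : ℤ) ∣ (-1) * (fI P : ℤ) - (charDegree (ψ : G → ℂ) : ℤ) := Int.ModEq.dvd hmod
      have h2' : (p : ℤ) ∣ ((charDegree (ψ : G → ℂ) + fI P : ℕ) : ℤ) := by
        have := dvd_neg.mpr h2
        have e : -((-1) * (fI P : ℤ) - (charDegree (ψ : G → ℂ) : ℤ)) =
            ((charDegree (ψ : G → ℂ) + fI P : ℕ) : ℤ) := by push_cast; ring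
        rwa [e] at this
      have h3 : p ∣ charDegree (ψ : G → ℂ) + fI P := Int.natCast_dvd_natCast.mp h2'
      exact Nat.eq_of_dvd_of_lt_two_mul (by omega) h3 (by omega)
  refine ⟨?_, hB, hC⟩
  -- (D)
  by_contra hnot
  have hfe : fI P = p - 1 := by omega
  have hcY : Nat.card Y = 1 := by
    have h := b0.cardY
    have hfe' : (Cz P).relIndex (Nz P) = p - 1 := hfe
    rw [hfe', Nat.div_self (by omega)] at h
    exact h
  have hYne : Nonempty Y := (Nat.card_pos_iff.mp (by omega)).1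
  obtain ⟨⟨ψ, hψ⟩⟩ := hYne
  obtain ⟨hd, hcase⟩ := hC ψ hψ
  have hle : charDegree (ψ : G → ℂ) ≤ g₀ := Nat.le_of_dvd hg0 hd
  rcases hcase with ⟨-, h⟩ | ⟨-, h⟩
  · omega
  · have h1 : charDegree (ψ : G → ℂ) = 1 := by omega
    have h2 := Cfsg.Agent.Lib.Helper5.BRWLIN.eq_triv_of_degree_one hperf ψ h1
    exact Set.disjoint_left.mp b0.disj b0.trivX (h2 ▸ hψ)

end Cfsg.Agent.Lib.Helper29.BTSTEP1
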