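/-
helper29: S0998 (corollary of Brauer-Tuan), leaf BT8-ARITHA (`arith_A`) of `notes/S0998_leaves.lean` (planner helper19).
-/
import Mathlib

set_option autoImplicit false

namespace Cfsg.Agent.Lib.Helper29.BT8ARITHA

/-- the odd part and the `2`-part of a number are unique -/
theorem odd_part_unique {r c b m : ℕ} (hr : ¬ 2 ∣ r) (hc : ¬ 2 ∣ c) (h : r * 2 ^ b = 2 ^ m * c) : b = m ∧ r = c := by
  have c1 : Nat.Coprime (2 ^ b) c := ((Nat.Prime.coprime_iff_not_dvd Nat.prime_two).mpr hc).pow_left b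
  have c2 : Nat.Coprime (2 ^ m) r := ((Nat.Prime.coprime_iff_not_dvd Nat.prime_two).mpr hr).pow_left m
  have d1 : 2 ^ b ∣ 2 ^ m := c1.dvd_of_dvd_mul_right ⟨r, by rw [← h]; ring⟩
  have d2 : 2 ^ m ∣ 2 ^ b := c2.dvd_of_dvd_mul_left ⟨c, h⟩
  have e1 : b ≤ m := (Nat.pow_dvd_pow_iff_le_right (by norm_num)).mp d1
  have e2 : m ≤ b := (Nat.pow_dvd_pow_iff_le_right (by norm_num)).mp d2
  have hbm : b = m := le_antisymm e1 e2
  refine ⟨hbm, ?_⟩
  rw [hbm, mul_comm] at h
  exact Nat.eq_of_mul_eq_mul_left (by positivity) h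

theorem two_dvd_cases {q r b : ℕ} (hq : q.Prime) (hr : r.Prime) (h : 2 ∣ r * q ^ b) : r = 2 ∨ q = 2 := by
  rcases (Nat.Prime.dvd_mul Nat.prime_two).mp h with h1 | h1
  · exact Or.inl ((Nat.prime_dvd_prime_iff_eq Nat.prime_two hr).mp h1).symm
  · exact Or.inr ((Nat.prime_dvd_prime_iff_eq Nat.prime_two hq).mp (Nat.Prime.dvd_of_dvd_pow Nat.prime_two h1)).symm

theorem three_dvd_two_pow_add_one {k : ℕ} (hk : Odd k) : 3 ∣ 2 ^ k + 1 := by
  have := Odd.nat_add_dvd_pow_add_pow 2 1 hk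
  simpa using this

theorem three_dvd_two_pow_sub_one {k : ℕ} (hk : Even k) : 3 ∣ 2 ^ k - 1 := by
  obtain ⟨j, rfl⟩ := hk
  have := Nat.sub_one_dvd_pow_sub_one 4 j
  rw [← two_mul, pow_mul]
  simpa using this

theorem two_pow_eq_two {k : ℕ} (h : 2 ^ k = 2) : k = 1 :=
  Nat.pow_right_injective (le_refl 2) (by simpa using h)

theorem two_pow_eq_four {k : ℕ} (h : 2 ^ k = 4) : k = 2 :=
  Nat.pow_right_injective (le_refl 2) (by simpa using h)

/-- BT8-ARITHA. -/
theorem arith_A (p q r b m : ℕ) (hp : p.Prime) (hq : q.Prime) (hr : r.Prime) (hpq : p ≠ q) (hqr : q ≠ r) (hrp : r < p)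
    (hm : p = 2 ^ m + 1 ∨ p = 2 ^ m - 1) (hcard : p * r * q ^ b * 2 = p * (p ^ 2 - 1)) : p = 5 ∨ p = 7 := by
  have hp2 : 2 ≤ p := hp.two_le
  have hsq : 1 ≤ p ^ 2 := Nat.one_le_pow _ _ hp.pos
  -- cancel p
  have h0 : r * q ^ b * 2 + 1 = p ^ 2 := by
    have h1 : p * (r * q ^ b * 2) = p * (p ^ 2 - 1) := by rw [← hcard]; ring
    have h2 := Nat.eq_of_mul_eq_mul_left hp.pos h1
    omega
  have hqodd_of : q ≠ 2 → ¬ 2 ∣ q ^ b := by
    intro hq2 hd
    exact hq2 ((Nat.prime_dvd_prime_iff_eq Nat.prime_two hq).mp (Nat.Prime.dvd_of_dvd_pow Nat.prime_two hd)).symm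
  have hrodd_of : r ≠ 2 → ¬ 2 ∣ r := by
    intro hr2 hd
    exact hr2 ((Nat.prime_dvd_prime_iff_eq Nat.prime_two hr).mp hd).symm
  rcases hm with hm | hm
  · -- p = 2^m + 1
    rcases Nat.eq_zero_or_pos m with hm0 | hmpos
    · rw [hm0] at hm
      have : p = 2 := by simpa using hm
      rw [this] at h0
      omega
    obtain ⟨k, rfl⟩ : ∃ k, m = k + 1 := ⟨m - 1, by omega⟩
    have hA : 1 ≤ 2 ^ k := Nat.one_le_two_pow
    have hN : r * q ^ b = 2 ^ (k + 1) * (2 ^ k + 1) := by
      have e0 : 2 ^ (k + 1) = 2 ^ k * 2 := pow_succ 2 k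
      rw [hm, e0] at h0
      rw [e0]
      set A := 2 ^ k
      have e : (A * 2 + 1) ^ 2 = 1 + A * 4 + A ^ 2 * 4 := by ring
      rw [e] at h0
      have e2 : A * 2 * (A + 1) = A * 2 + A ^ 2 * 2 := by ring
      rw [e2]
      omega
    have h2d : 2 ∣ r * q ^ b := by
      rw [hN, pow_succ]; exact ⟨2 ^ k * (2 ^ k + 1), by ring⟩
    rcases two_dvd_cases hq hr h2d with hr2 | hq2
    · -- r = 2 : q ^ b = 2^k (2^k + 1) is even
      exfalso
      have hq2 : q ≠ 2 := fun h => hqr (h.trans hr2.symm)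
      apply hqodd_of hq2
      have h3 : q ^ b = 2 ^ k * (2 ^ k + 1) := by
        rw [hr2, pow_succ] at hN
        have : 2 * q ^ b = 2 * (2 ^ k * (2 ^ k + 1)) := by rw [hN]; ring
        exact Nat.eq_of_mul_eq_mul_left (by norm_num) this
      rw [h3]
      exact Nat.even_mul_succ_self (2 ^ k) |>.two_dvd
    · -- q = 2
      have hr2 : r ≠ 2 := fun h => hqr (hq2.trans h.symm)
      have hrodd := hrodd_of hr2
      rw [hq2] at hN
      rcases Nat.eq_zero_or_pos k with hk0 | hkpos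
      · exfalso
        rw [hk0] at hN
        norm_num at hN
        -- r * 2^b = 4, r odd prime
        have : r ∣ 4 := ⟨2 ^ b, hN.symm⟩
        have hr4 : r ≤ 4 := Nat.le_of_dvd (by norm_num) this
        have hr3 : 2 ≤ r := hr.two_le
        interval_cases r
        · exact hr2 rfl
        · omega
        · exact hrodd ⟨2, rfl⟩
      have hcodd : ¬ 2 ∣ 2 ^ k + 1 := by
        obtain ⟨j, rfl⟩ : ∃ j, k = j + 1 := ⟨k - 1, by omega⟩
        rw [pow_succ]; omega
      obtain ⟨-, hrc⟩ := odd_part_unique hrodd hcodd hN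
      rcases Nat.even_or_odd k with hke | hko
      · -- k + 1 odd : 3 ∣ p
        exfalso
        have h3 : 3 ∣ p := by rw [hm]; exact three_dvd_two_pow_add_one (Even.add_one hke)
        have hp3 : p = 3 := ((Nat.prime_dvd_prime_iff_eq Nat.prime_three hp).mp h3).symm
        rw [hp3] at hm
        have : 2 ^ (k + 1) = 2 := by omega
        have := two_pow_eq_two this
        omega
      · -- k odd : 3 ∣ r
        have h3 : 3 ∣ r := by rw [hrc]; exact three_dvd_two_pow_add_one hko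
        have hr3 : r = 3 := ((Nat.prime_dvd_prime_iff_eq Nat.prime_three hr).mp h3).symm
        rw [hr3] at hrc
        have : 2 ^ k = 2 := by omega
        have hk1 := two_pow_eq_two this
        left
        rw [hm, hk1]; norm_num
  · -- p = 2^m - 1
    have hm2 : 2 ≤ m := by
      by_contra hlt
      have : m = 0 ∨ m = 1 := by omega
      rcases this with rfl | rfl <;> norm_num at hm <;> omega
    obtain ⟨k, rfl⟩ : ∃ k, m = k + 2 := ⟨m - 2, by omega⟩
    have hA : 1 ≤ 2 ^ k := Nat.one_le_two_pow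
    -- B = 2^(k+1) - 1
    obtain ⟨B, hB⟩ : ∃ B, 2 ^ (k + 1) = B + 1 := ⟨2 ^ (k + 1) - 1, by have := Nat.one_le_two_pow (n := k + 1); omega⟩
    have hpB : p = 2 * B + 1 := by
      rw [hm, pow_succ, hB]; omega
    have hN : r * q ^ b = 2 ^ (k + 2) * B := by
      have e0 : 2 ^ (k + 2) = 2 ^ (k + 1) * 2 := pow_succ 2 (k + 1)
      rw [hpB] at h0
      rw [e0, hB]
      have e : (2 * B + 1) ^ 2 = 1 + B * 4 + B ^ 2 * 4 := by ring
      rw [e] at h0
      have e2 : (B + 1) * 2 * B = B * 2 + B ^ 2 * 2 := by ring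
      rw [e2]
      omega
    have h2d : 2 ∣ r * q ^ b := by
      rw [hN, pow_succ]; exact ⟨2 ^ (k + 1) * B, by ring⟩
    rcases two_dvd_cases hq hr h2d with hr2 | hq2
    · exfalso
      have hq2 : q ≠ 2 := fun h => hqr (h.trans hr2.symm)
      apply hqodd_of hq2
      have h3 : q ^ b = 2 ^ (k + 1) * B := by
        rw [hr2, pow_succ] at hN
        have : 2 * q ^ b = 2 * (2 ^ (k + 1) * B) := by rw [hN]; ring
        exact Nat.eq_of_mul_eq_mul_left (by norm_num) this
      rw [h3, pow_succ]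
      exact ⟨2 ^ k * B, by ring⟩
    · have hr2 : r ≠ 2 := fun h => hqr (hq2.trans h.symm)
      have hrodd := hrodd_of hr2
      rw [hq2] at hN
      have hBodd : ¬ 2 ∣ B := by
        rw [pow_succ] at hB; omega
      obtain ⟨-, hrc⟩ := odd_part_unique hrodd hBodd hN
      -- r = B = 2^(k+1) - 1
      have hrB : r = 2 ^ (k + 1) - 1 := by omega
      rcases Nat.even_or_odd k with hke | hko
      · -- k + 2 even : 3 ∣ p
        exfalso
        have h3 : 3 ∣ p := by rw [hm]; exact three_dvd_two_pow_sub_one (by simpa [Nat.even_add] using hke)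
        have hp3 : p = 3 := ((Nat.prime_dvd_prime_iff_eq Nat.prime_three hp).mp h3).symm
        -- then B = 1 = r, not prime
        have : B = 1 := by omega
        rw [← hrc, ] at this
        exact hr.one_lt.ne' this
      · -- k + 1 even : 3 ∣ r
        have h3 : 3 ∣ r := by rw [hrB]; exact three_dvd_two_pow_sub_one (Odd.add_one hko)
        have hr3 : r = 3 := ((Nat.prime_dvd_prime_iff_eq Nat.prime_three hr).mp h3).symm
        have : 2 ^ (k + 1) = 4 := by omega
        have hk1 := two_pow_eq_four this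
        right
        have hk : k = 1 := by omega
        rw [hm, hk]; norm_num

end Cfsg.Agent.Lib.Helper29.BT8ARITHA
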