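import Mathlib

set_option autoImplicit false

/-!
# Lifting involutions and reversible relators to central extensions by groups of odd exponent

In a central extension `σ : Γ → G` whose kernel has odd exponent `p`, every involution of `G` has an involution lift,
and a relator `w ^ m` lifts exactly as soon as `w` is conjugate to its inverse in `Γ` (for instance a product of two
involutions).  A small word calculus shows that Coxeter elements of trees are conjugate to their inverses.
-/

namespace Cfsg.Agent.Lib.Helper29.OddLift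

open Subgroup

variable {Γ G : Type*} [Group Γ] [Group G]

theorem eq_one_of_sq_of_pow {a : Γ} {p : ℕ} (hp : Odd p) (h2 : a ^ 2 = 1) (hpw : a ^ p = 1) : a = 1 := by
  obtain ⟨k, rfl⟩ := hp
  have : a ^ (2 * k + 1) = a := by rw [pow_succ, pow_mul, h2, one_pow, one_mul]
  rw [← this, hpw]

/-- involutions have involution lifts -/
theorem exists_invol_lift (σ : Γ →* G) (hs : Function.Surjective σ) (hc : σ.ker ≤ center Γ) {p : ℕ} (hp : Odd p)
    (hexp : ∀ a ∈ σ.ker, a ^ p = 1) (x : G) (hx : x ^ 2 = 1) : ∃ g : Γ, σ g = x ∧ g ^ 2 = 1 := by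
  obtain ⟨g0, hg0⟩ := hs x
  obtain ⟨k, rfl⟩ := hp
  have ha : g0 ^ 2 ∈ σ.ker := by rw [MonoidHom.mem_ker, map_pow, hg0, hx]
  have hcen : ∀ y : Γ, y * g0 ^ 2 = g0 ^ 2 * y := fun y => mem_center_iff.mp (hc ha) y
  have hak : (g0 ^ 2) ^ k ∈ σ.ker := pow_mem ha k
  have hcenk : ∀ y : Γ, y * (g0 ^ 2) ^ k = (g0 ^ 2) ^ k * y := fun y => mem_center_iff.mp (hc hak) y
  refine ⟨g0 * (g0 ^ 2) ^ k, ?_, ?_⟩
  · rw [map_mul, hg0, MonoidHom.mem_ker.mp hak, mul_one]
  · have h1 : (g0 * (g0 ^ 2) ^ k) ^ 2 = (g0 ^ 2) ^ (2 * k + 1) := by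
      rw [pow_two, mul_assoc, ← mul_assoc ((g0 ^ 2) ^ k) g0, ← hcenk g0, mul_assoc g0 ((g0 ^ 2) ^ k), ← mul_assoc g0 g0,
        ← pow_two, ← pow_add, ← pow_succ', ← two_mul]
    rw [h1]
    exact hexp _ ha

/-- reversal: a power of an element conjugate to its inverse, if central of odd exponent, is trivial -/
theorem pow_eq_one_of_conj_inv {w u : Γ} {m p : ℕ} (hp : Odd p) (hconj : u * w * u⁻¹ = w⁻¹)
    (hcen : w ^ m ∈ center Γ) (hpw : (w ^ m) ^ p = 1) : w ^ m = 1 := by
  have h1 : u * w ^ m * u⁻¹ = (w ^ m)⁻¹ := by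
    rw [← conj_pow, hconj, inv_pow]
  have h2 : u * w ^ m * u⁻¹ = w ^ m := by
    rw [mem_center_iff.mp hcen u, mul_assoc, mul_inv_cancel, mul_one]
  have h3 : (w ^ m) ^ 2 = 1 := by
    rw [pow_two]
    nth_rewrite 1 [← h2]
    rw [h1, inv_mul_cancel]
  exact eq_one_of_sq_of_pow hp h3 hpw

/-- a product of two involutions is conjugate to its inverse -/
theorem conj_inv_of_invol {a b : Γ} (ha : a ^ 2 = 1) (hb : b ^ 2 = 1) : a * (a * b) * a⁻¹ = (a * b)⁻¹ := by
  have ha' : a⁻¹ = a := by rw [inv_eq_iff_mul_eq_one, ← pow_two, ha]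
  have hb' : b⁻¹ = b := by rw [inv_eq_iff_mul_eq_one, ← pow_two, hb]
  rw [mul_inv_rev, ha', hb', ← mul_assoc, ← pow_two, ha, one_mul]

/-- Coxeter relators between involution lifts hold exactly -/
theorem cox_lift (σ : Γ →* G) (hc : σ.ker ≤ center Γ) {p : ℕ} (hp : Odd p)
    (hexp : ∀ a ∈ σ.ker, a ^ p = 1) {g h : Γ} (hg : g ^ 2 = 1) (hh : h ^ 2 = 1) {m : ℕ}
    (hm : σ ((g * h) ^ m) = 1) : (g * h) ^ m = 1 :=
  pow_eq_one_of_conj_inv hp (conj_inv_of_invol hg hh) (hc (MonoidHom.mem_ker.mpr hm))
    (hexp _ (MonoidHom.mem_ker.mpr hm))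

/-! ### Words -/

section Words
variable {ι : Type*} (g : ι → Γ)

/-- the value of a word -/
def ev (l : List ι) : Γ := (l.map g).prod

theorem ev_nil : ev g [] = 1 := rfl
theorem ev_cons (x : ι) (l : List ι) : ev g (x :: l) = g x * ev g l := by simp [ev]
theorem ev_append (l l' : List ι) : ev g (l ++ l') = ev g l * ev g l' := by simp [ev]

theorem isConj_rot (x : ι) (l : List ι) : IsConj (ev g (x :: l)) (ev g (l ++ [x])) := by
  rw [isConj_iff]
  refine ⟨(g x)⁻¹, ?_⟩
  rw [ev_cons, ev_append, ev_cons, ev_nil, mul_one, inv_inv, ← mul_assoc, inv_mul_cancel, one_mul]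

theorem ev_swap (l1 l2 : List ι) (x y : ι) (h : g x * g y = g y * g x) :
    ev g (l1 ++ x :: y :: l2) = ev g (l1 ++ y :: x :: l2) := by
  rw [ev_append, ev_append, ev_cons, ev_cons, ev_cons, ev_cons, ← mul_assoc (g x), h, mul_assoc]

/-- the moves: rotation of the first letter to the end, exchange of the letters at the places `i`, `i + 1` -/
inductive Move
  | rot
  | swap (i : ℕ)

/-- one move; an exchange is allowed only for letters that commute according to `comm` -/
def applyMove (comm : ι → ι → Bool) : Move → List ι → Option (List ι)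
  | .rot, [] => some []
  | .rot, x :: l => some (l ++ [x])
  | .swap i, l =>
    match l.drop i with
    | x :: y :: rest => if comm x y then some (l.take i ++ y :: x :: rest) else none
    | _ => none

/-- several moves -/
def applyMoves (comm : ι → ι → Bool) : List Move → List ι → Option (List ι)
  | [], l => some l
  | m :: ms, l => (applyMove comm m l).bind (applyMoves comm ms)

theorem isConj_of_move (comm : ι → ι → Bool) (hcomm : ∀ x y, comm x y = true → g x * g y = g y * g x)
    (m : Move) (l l' : List ι) (h : applyMove comm m l = some l') : IsConj (ev g l) (ev g l') := by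
  cases m with
  | rot =>
    cases l with
    | nil =>
      simp only [applyMove, Option.some.injEq] at h
      subst h
      exact IsConj.refl _
    | cons x l =>
      simp only [applyMove, Option.some.injEq] at h
      subst h
      exact isConj_rot g x l
  | swap i =>
    simp only [applyMove] at h
    split at h
    · rename_i x y rest hd
      split at h
      · rename_i hxy
        simp only [Option.some.injEq] at h
        subst h
        have hl : l = l.take i ++ x :: y :: rest := by rw [← hd, List.take_append_drop]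
        have e := ev_swap g (l.take i) rest x y (hcomm x y hxy)
        rw [← hl] at e
        rw [e]
      · exact absurd h (by simp)
    · exact absurd h (by simp)

theorem isConj_of_moves (comm : ι → ι → Bool) (hcomm : ∀ x y, comm x y = true → g x * g y = g y * g x)
    (ms : List Move) (l l' : List ι) (h : applyMoves comm ms l = some l') : IsConj (ev g l) (ev g l') := by
  induction ms generalizing l with
  | nil =>
    simp only [applyMoves, Option.some.injEq] at h
    subst h
    exact IsConj.refl _
  | cons m ms ih =>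
    simp only [applyMoves] at h
    cases hm : applyMove comm m l with
    | none => rw [hm] at h; exact absurd h (by simp)
    | some l1 =>
      rw [hm] at h
      exact (isConj_of_move g comm hcomm m l l1 hm).trans (ih l1 h)

/-- a word of pairwise commuting involutions is an involution -/
theorem ev_sq_eq_one (l : List ι) (hinv : ∀ x ∈ l, g x ^ 2 = 1)
    (hcomm : ∀ x ∈ l, ∀ y ∈ l, g x * g y = g y * g x) : ev g l ^ 2 = 1 := by
  induction l with
  | nil => simp [ev_nil]
  | cons x l ih =>
    have hxl : g x * ev g l = ev g l * g x := by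
      have : ∀ l' : List ι, (∀ y ∈ l', g x * g y = g y * g x) → g x * ev g l' = ev g l' * g x := by
        intro l' hl'
        induction l' with
        | nil => simp [ev_nil]
        | cons y l' ih' =>
          rw [ev_cons, ← mul_assoc, hl' y List.mem_cons_self, mul_assoc,
            ih' (fun z hz => hl' z (List.mem_cons_of_mem _ hz)), mul_assoc]
      exact this l (fun y hy => hcomm x List.mem_cons_self y (List.mem_cons_of_mem _ hy))
    rw [ev_cons, pow_two, mul_assoc, ← mul_assoc (ev g l), ← hxl, mul_assoc, ← mul_assoc (g x) (g x), ← pow_two,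
      hinv x List.mem_cons_self, one_mul, ← pow_two]
    exact ih (fun y hy => hinv y (List.mem_cons_of_mem _ hy))
      (fun y hy z hz => hcomm y (List.mem_cons_of_mem _ hy) z (List.mem_cons_of_mem _ hz))

/-- a word that can be moved to a bipartite word (two blocks of pairwise commuting involutions) is conjugate to its
inverse -/
theorem exists_conj_inv (comm : ι → ι → Bool) (hcomm : ∀ x y, comm x y = true → g x * g y = g y * g x)
    (ms : List Move) (l l1 l2 : List ι) (h : applyMoves comm ms l = some (l1 ++ l2))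
    (hinv : ∀ x ∈ l1 ++ l2, g x ^ 2 = 1)
    (h1 : ∀ x ∈ l1, ∀ y ∈ l1, g x * g y = g y * g x) (h2 : ∀ x ∈ l2, ∀ y ∈ l2, g x * g y = g y * g x) :
    ∃ u : Γ, u * ev g l * u⁻¹ = (ev g l)⁻¹ := by
  have hc := isConj_of_moves g comm hcomm ms l (l1 ++ l2) h
  rw [isConj_iff] at hc
  obtain ⟨v, hv⟩ := hc
  have hA : ev g l1 ^ 2 = 1 :=
    ev_sq_eq_one g l1 (fun x hx => hinv x (List.mem_append_left _ hx)) h1
  have hB : ev g l2 ^ 2 = 1 :=
    ev_sq_eq_one g l2 (fun x hx => hinv x (List.mem_append_right _ hx)) h2
  have hr := conj_inv_of_invol hA hB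
  rw [← ev_append] at hr
  refine ⟨v⁻¹ * ev g l1 * v, ?_⟩
  have hw : ev g l = v⁻¹ * ev g (l1 ++ l2) * v := by rw [← hv]; group
  have e1 : v⁻¹ * ev g l1 * v * ev g l * (v⁻¹ * ev g l1 * v)⁻¹ =
      v⁻¹ * (ev g l1 * (v * ev g l * v⁻¹) * (ev g l1)⁻¹) * v := by group
  rw [e1, hv, hr, hw]
  group

end Words

end Cfsg.Agent.Lib.Helper29.OddLift
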