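import Cfsg.Agent.Lib.Helper28.SchurFoxB

set_option autoImplicit false

/-!
# The 2-part of a multiplier through a subgroup of odd index that is a double cover

Let `σ : Γ → G` be a finite stem extension whose kernel has exponent 2, `H ≤ G` a perfect subgroup of odd index and
`θ : H → F` a surjection with kernel of order 2.  The commutator subgroup `K` of the preimage of `H` is perfect and
`θ ∘ σ : K → F` is a stem extension whose kernel is a 2-group containing `ker σ ∩ K` properly.  If the kernels of the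
finite stem extensions of `F` have order not divisible by 4, then `ker σ ∩ K = 1` and transfer gives `ker σ = 1`.
-/

namespace Cfsg.Agent.Lib.Helper29.SchurTwoStep

open Subgroup
open scoped commutatorElement
open Cfsg.Agent.Lib.Helper28.SchurFox

/-- a normal subgroup of order 2 is central -/
theorem le_center_of_card_two {G : Type*} [Group G] (N : Subgroup G) [N.Normal] (h2 : Nat.card N = 2) :
    N ≤ center G := by
  intro n hn
  rw [mem_center_iff]
  intro g
  obtain ⟨y, -, hy⟩ := (Nat.card_eq_two_iff' (1 : ↥N)).mp h2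
  by_cases h1 : n = 1
  · rw [h1, mul_one, one_mul]
  · have hc : g * n * g⁻¹ ∈ N := ‹N.Normal›.conj_mem n hn g
    have e1 : (⟨n, hn⟩ : ↥N) = y := hy _ (fun h => h1 (congrArg Subtype.val h))
    have e2 : (⟨g * n * g⁻¹, hc⟩ : ↥N) = y := hy _ (fun h => h1 (by
      have h3 : g * n * g⁻¹ = 1 := congrArg Subtype.val h
      have h4 : n = g⁻¹ * (g * n * g⁻¹) * g := by group
      rw [h4, h3, mul_one, inv_mul_cancel]))
    have e3 : g * n * g⁻¹ = n := congrArg Subtype.val (e2.trans e1.symm)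
    calc g * n = (g * n * g⁻¹) * g := by group
      _ = n * g := by rw [e3]

/-- an element that centralises a group modulo its centre centralises the commutator subgroup -/
theorem commute_commutator {Δ : Type*} [Group Δ] (x : Δ) (hx : ∀ y : Δ, ⁅x, y⁆ ∈ center Δ) :
    ∀ k ∈ commutator Δ, x * k = k * x := by
  have hle : commutator Δ ≤ centralizer {x} := by
    rw [commutator_eq_closure, closure_le]
    rintro _ ⟨y1, y2, rfl⟩
    rw [SetLike.mem_coe, mem_centralizer_iff]
    intro x' hx'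
    rw [Set.mem_singleton_iff] at hx'
    subst hx'
    -- `x y x⁻¹ = ⁅x, y⁆ y`
    have hconj : ∀ y : Δ, x' * y * x'⁻¹ = y * ⁅x', y⁆ := by
      intro y
      rw [mem_center_iff.mp (hx y) y, commutatorElement_def]
      group
    have h1 : x' * ⁅y1, y2⁆ * x'⁻¹ = ⁅x' * y1 * x'⁻¹, x' * y2 * x'⁻¹⁆ := by
      rw [commutatorElement_def, commutatorElement_def]
      group
    have h2 : x' * ⁅y1, y2⁆ * x'⁻¹ = ⁅y1, y2⁆ := by
      rw [h1, hconj, hconj, Cfsg.Agent.Lib.Helper3.SchurM.commElt_mul_central_left (hx y1),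
        Cfsg.Agent.Lib.Helper3.SchurM.commElt_mul_central_right (hx y2)]
    calc x' * ⁅y1, y2⁆ = x' * ⁅y1, y2⁆ * x'⁻¹ * x' := by group
      _ = ⁅y1, y2⁆ * x' := by rw [h2]
  intro k hk
  have := mem_centralizer_iff.mp (hle hk) x (Set.mem_singleton x)
  exact this

universe u

/-- the reduction -/
theorem ker_eq_bot_of_double_cover {Γ G F : Type u} [Group Γ] [Finite Γ] [Group G] [Group F]
    (σ : Γ →* G) (hσ : Cfsg.IsStemExtension σ) (hexp : ∀ a ∈ σ.ker, a ^ 2 = 1)
    (H : Subgroup G) [H.FiniteIndex] (hodd : Odd H.index) (hperf : ⁅H, H⁆ = H)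
    (θ : ↥H →* F) (hθs : Function.Surjective θ) (hθ2 : Nat.card θ.ker = 2)
    (hF : ∀ (Δ : Type u) [Group Δ] [Finite Δ] (ρ : Δ →* F), Cfsg.IsStemExtension ρ → ¬ 4 ∣ Nat.card ρ.ker) :
    σ.ker = ⊥ := by
  have hs := hσ.1
  have hc := hσ.2.1
  set V : Subgroup Γ := H.comap σ with hV
  set K : Subgroup Γ := ⁅V, V⁆ with hK
  have hVmap : V.map σ = H := Subgroup.map_comap_eq_self_of_surjective hs H
  have hKmap : K.map σ = H := by
    rw [hK, Subgroup.map_commutator, hVmap, hperf]
  have hVK : V ≤ K ⊔ σ.ker := by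
    intro v hv
    have : σ v ∈ K.map σ := by rw [hKmap]; exact hv
    obtain ⟨k, hk, hkv⟩ := this
    have h1 : k⁻¹ * v ∈ σ.ker := by
      rw [MonoidHom.mem_ker, map_mul, map_inv, hkv, inv_mul_cancel]
    have : v = k * (k⁻¹ * v) := by group
    rw [this]
    exact Subgroup.mul_mem_sup hk h1
  have hKperf : K ≤ ⁅K, K⁆ := by
    have h1 : ⁅V, V⁆ ≤ ⁅K ⊔ σ.ker, K ⊔ σ.ker⁆ := Subgroup.commutator_mono hVK hVK
    exact h1.trans (Cfsg.Agent.Lib.Helper3.SchurM.comm_sup_central_le K σ.ker hc)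
  have hperfK : commutator ↥K = ⊤ := by
    rw [eq_top_iff]
    intro k _
    have h1 : (k : Γ) ∈ ⁅K, K⁆ := hKperf k.2
    rw [← K.map_subtype_commutator] at h1
    obtain ⟨k', hk', hkk⟩ := h1
    have : k' = k := Subtype.ext hkk
    rwa [← this]
  -- the restriction of `σ` to `K`
  let σK : ↥K →* ↥H := (σ.comp K.subtype).codRestrict H (fun k => by
    have : σ (k : Γ) ∈ K.map σ := ⟨k, k.2, rfl⟩
    rw [hKmap] at this
    exact this)
  have hσK : ∀ k : ↥K, ((σK k : ↥H) : G) = σ (k : Γ) := fun k => rfl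
  have hσKs : Function.Surjective σK := by
    intro h
    have : (h : G) ∈ K.map σ := by rw [hKmap]; exact h.2
    obtain ⟨k, hk, hkh⟩ := this
    exact ⟨⟨k, hk⟩, Subtype.ext hkh⟩
  have hσKker : ∀ k : ↥K, σK k = 1 → (k : Γ) ∈ σ.ker := by
    intro k hk
    rw [MonoidHom.mem_ker, ← hσK, hk]
    rfl
  -- the composition
  let ρ : ↥K →* F := θ.comp σK
  have hθc : θ.ker ≤ center ↥H := le_center_of_card_two θ.ker hθ2
  have hstem : Cfsg.IsStemExtension ρ := by
    refine ⟨hθs.comp hσKs, ?_, ?_⟩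
    · intro x hx
      have hx1 : σK x ∈ θ.ker := hx
      have hxc : ∀ y : ↥K, ⁅x, y⁆ ∈ center ↥K := by
        intro y
        have h1 : σK ⁅x, y⁆ = 1 := by
          rw [map_commutatorElement, commutatorElement_def, ← mem_center_iff.mp (hθc hx1) (σK y)]
          group
        have h2 := hc (hσKker _ h1)
        rw [mem_center_iff] at h2 ⊢
        intro g
        exact Subtype.ext (h2 (g : Γ))
      rw [mem_center_iff]
      intro g
      have := commute_commutator x hxc g (by rw [hperfK]; exact mem_top g)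
      exact this.symm
    · rw [hperfK]
      exact le_top
  have h4 := hF ↥K ρ hstem
  -- the kernel of `ρ` is a 2-group
  have hpg : IsPGroup 2 ↥ρ.ker := by
    intro y
    refine ⟨2, ?_⟩
    have hy1 : σK (y : ↥K) ∈ θ.ker := y.2
    have hy2 : (σK (y : ↥K)) ^ 2 = 1 := by
      have := pow_card_eq_one' (G := ↥θ.ker) (x := ⟨_, hy1⟩)
      rw [hθ2] at this
      exact congrArg Subtype.val this
    have hy3 : ((y : ↥K) : Γ) ^ 2 ∈ σ.ker := by
      have : σK ((y : ↥K) ^ 2) = 1 := by rw [map_pow, hy2]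
      exact hσKker _ this
    have hy4 := hexp _ hy3
    apply Subtype.ext
    apply Subtype.ext
    show ((y : ↥K) : Γ) ^ 2 ^ 2 = 1
    rw [pow_two 2, pow_mul]
    exact hy4
  obtain ⟨n, hn⟩ := (IsPGroup.iff_card (p := 2)).mp hpg
  have hn1 : n ≤ 1 := by
    by_contra hcon
    apply h4
    rw [hn]
    have : 2 ≤ n := by omega
    exact dvd_trans (by norm_num : 4 ∣ 2 ^ 2) (pow_dvd_pow 2 this)
  -- a nontrivial element of `ker θ` and its lift
  obtain ⟨h0, hh0, -⟩ := (Nat.card_eq_two_iff' (1 : ↥θ.ker)).mp hθ2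
  obtain ⟨y0, hy0⟩ := hσKs (h0 : ↥H)
  have hy0k : y0 ∈ ρ.ker := by
    rw [MonoidHom.mem_ker]
    show θ (σK y0) = 1
    rw [hy0]
    exact h0.2
  have hy0ne : σK y0 ≠ 1 := by
    rw [hy0]
    intro h
    exact hh0 (Subtype.ext h)
  -- transfer
  have hi : V.index = H.index := Subgroup.index_comap_of_surjective H hs
  have : V.FiniteIndex := ⟨by rw [hi]; exact FiniteIndex.index_ne_zero⟩
  refine ker_eq_bot_of_transfer σ hσ 2 hexp V ?_ ?_
  · rw [hi]
    exact Nat.coprime_two_right.mpr hodd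
  · intro a ha haK
    by_contra hne
    have hak : (⟨a, haK⟩ : ↥K) ∈ ρ.ker := by
      rw [MonoidHom.mem_ker]
      show θ (σK ⟨a, haK⟩) = 1
      have : σK ⟨a, haK⟩ = 1 := Subtype.ext (by rw [hσK]; exact ha)
      rw [this, map_one]
    have hcard2 : Nat.card ↥ρ.ker = 2 := by
      rcases Nat.le_one_iff_eq_zero_or_eq_one.mp hn1 with h | h
      · exfalso
        rw [h, pow_zero] at hn
        have hbot := Subgroup.eq_bot_of_card_eq _ hn
        rw [hbot, Subgroup.mem_bot] at hak
        exact hne (congrArg Subtype.val hak)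
      · rw [hn, h, pow_one]
    obtain ⟨y, -, hy⟩ := (Nat.card_eq_two_iff' (1 : ↥ρ.ker)).mp hcard2
    have e1 : (⟨⟨a, haK⟩, hak⟩ : ↥ρ.ker) = y := hy _ (fun h => hne (congrArg (fun z : ↥ρ.ker => ((z : ↥K) : Γ)) h))
    have e2 : (⟨y0, hy0k⟩ : ↥ρ.ker) = y := hy _ (fun h => hy0ne (by
      have : y0 = 1 := congrArg (fun z : ↥ρ.ker => (z : ↥K)) h
      rw [this, map_one]))
    have e3 : y0 = ⟨a, haK⟩ := congrArg (fun z : ↥ρ.ker => (z : ↥K)) (e2.trans e1.symm)
    apply hy0ne
    rw [e3]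
    exact Subtype.ext (by rw [hσK]; exact ha)

end Cfsg.Agent.Lib.Helper29.SchurTwoStep
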