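import Cfsg.Agent.S1696
import Cfsg.Agent.S1697
import Cfsg.Agent.Lib.Helper29.SchurTwoStep
import Cfsg.Agent.Lib.Helper29.OddLift

set_option autoImplicit false
set_option maxRecDepth 100000

/-!
# Stem extensions of `Fi23` with kernel of exponent 2

The subgroup `H = ⟨a, …, i⟩` of `Fi23` has index 31671 and order `2 |Fi22|`; it is the image of the presented group
`W1 = ⟨a, …, i | Coxeter relators of Y₃₃₂, spider, (abcdefh)^9⟩`, which has at most `|H|` elements (helper28's tower) and
maps onto `Fi22`.  So `H ≅ W1` is a perfect group with a map onto `Fi22` whose kernel has order 2, and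
`SchurTwoStep.ker_eq_bot_of_double_cover` applies once the kernels of the finite stem extensions of `Fi22` are known to
have order not divisible by 4.
-/

namespace Cfsg.Agent.Lib.Helper29.F23TwoPart

open Cfsg Cfsg.Spor Subgroup
open Cfsg.Agent.Lib.Helper28.TC2Tower Cfsg.Agent.Lib.Helper28.TC2Glue Cfsg.Agent.Lib.Helper28.TC2Simple

/-- the generators of `W1` -/
abbrev Gen1 := Cfsg.Agent.Lib.Helper28.TCFi23W1Def.Gen
/-- the relators of `W1` -/
abbrev R1 : Set (FreeGroup Gen1) := Cfsg.Agent.Lib.Helper28.TCFi23W1Link.rels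
/-- the presented group `W1` -/
abbrev W1 : Type := PresentedGroup R1
/-- the relators of `Fi23` -/
abbrev R0 : Set (FreeGroup Fi23.Gen) := Cfsg.Agent.Lib.Helper28.TCFi23W0Link.rels
/-- the relators of `Fi22` -/
abbrev R22 : Set (FreeGroup Fi22.Gen) := Cfsg.Agent.Lib.Helper28.TCFi22W0Link.rels

/-- the generators of `W1` as generators of `Fi22` -/
def to22 : Gen1 → Fi22.Gen
  | .a => .a
  | .b => .b
  | .c => .c
  | .d => .d
  | .e => .e
  | .f => .f
  | .g => .g
  | .h => .h
  | .i => .i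

theorem up22 : ∀ L ∈ Cfsg.Agent.Lib.Helper28.TCFi23W1Link.relWords,
    upWord to22 L ∈ Cfsg.Agent.Lib.Helper28.TCFi22W0Link.relWords := by decide +kernel

theorem lift_eq {α β : Type} (rels : Set (FreeGroup α)) (ι : β → α) :
    FreeGroup.lift (fun b => (PresentedGroup.of (ι b) : PresentedGroup rels)) =
      (PresentedGroup.mk rels).comp (FreeGroup.map ι) := by
  apply FreeGroup.ext_hom
  intro z
  simp [PresentedGroup.of]

theorem hβrel : ∀ r ∈ R1, FreeGroup.lift (fun x => (PresentedGroup.of (to22 x) : Spor.Fi22)) r = 1 := by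
  intro r hr
  have h := hrel_of_words R22 R1 to22 Cfsg.Agent.Lib.Helper28.TCFi22W0Link.relWords
    Cfsg.Agent.Lib.Helper28.TCFi23W1Link.relWords Cfsg.Agent.Lib.Helper28.TCFi22W0Link.link.hrels
    Cfsg.Agent.Lib.Helper28.TCFi23W1Link.link.hrels up22 r hr
  have e := lift_eq R22 to22
  rw [e]
  exact PresentedGroup.one_of_mem h

theorem hνrel : ∀ r ∈ R1, FreeGroup.lift (fun x => (PresentedGroup.of
    (Cfsg.Agent.Lib.Helper28.TCFi23W1Def.up x) : Spor.Fi23)) r = 1 := by
  intro r hr
  have h := hrel_of_words R0 R1 Cfsg.Agent.Lib.Helper28.TCFi23W1Def.up Cfsg.Agent.Lib.Helper28.TCFi23W0Link.relWords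
    Cfsg.Agent.Lib.Helper28.TCFi23W1Link.relWords Cfsg.Agent.Lib.Helper28.TCFi23W0Link.link.hrels
    Cfsg.Agent.Lib.Helper28.TCFi23W1Link.link.hrels Cfsg.Agent.Lib.Helper28.TCFi23Tower.up0 r hr
  have e := lift_eq R0 Cfsg.Agent.Lib.Helper28.TCFi23W1Def.up
  rw [e]
  exact PresentedGroup.one_of_mem h

/-- the map onto `Fi22` -/
noncomputable def β : W1 →* Spor.Fi22 := PresentedGroup.toGroup hβrel
/-- the map into `Fi23` -/
noncomputable def ν : W1 →* Spor.Fi23 := PresentedGroup.toGroup hνrel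

theorem β_of (x : Gen1) : β (PresentedGroup.of x) = PresentedGroup.of (to22 x) := PresentedGroup.toGroup.of hβrel
theorem ν_of (x : Gen1) : ν (PresentedGroup.of x) = PresentedGroup.of (Cfsg.Agent.Lib.Helper28.TCFi23W1Def.up x) :=
  PresentedGroup.toGroup.of hνrel

theorem β_surjective : Function.Surjective β := by
  rw [← MonoidHom.range_eq_top, eq_top_iff, ← PresentedGroup.closure_range_of, closure_le]
  rintro _ ⟨x, rfl⟩
  cases x
  · exact ⟨PresentedGroup.of .a, β_of .a⟩
  · exact ⟨PresentedGroup.of .b, β_of .b⟩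
  · exact ⟨PresentedGroup.of .c, β_of .c⟩
  · exact ⟨PresentedGroup.of .d, β_of .d⟩
  · exact ⟨PresentedGroup.of .e, β_of .e⟩
  · exact ⟨PresentedGroup.of .f, β_of .f⟩
  · exact ⟨PresentedGroup.of .g, β_of .g⟩
  · exact ⟨PresentedGroup.of .h, β_of .h⟩
  · exact ⟨PresentedGroup.of .i, β_of .i⟩

/-- the subgroup `⟨a, …, i⟩` of `Fi23` -/
abbrev H : Subgroup Spor.Fi23 :=
  (Subgroup.closure Cfsg.Agent.Lib.Helper28.TCFi23W0Link.S).map (PresentedGroup.mk R0)

theorem range_ν : ν.range = H := by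
  rw [MonoidHom.range_eq_map, ← PresentedGroup.closure_range_of, MonoidHom.map_closure, ← Set.range_comp]
  show _ = (Subgroup.closure Cfsg.Agent.Lib.Helper28.TCFi23W0Link.S).map _
  rw [MonoidHom.map_closure]
  congr 1
  ext x
  constructor
  · rintro ⟨g, rfl⟩
    cases g
    · exact ⟨FreeGroup.of .a, by simp [Cfsg.Agent.Lib.Helper28.TCFi23W0Link.S], (ν_of .a).symm⟩
    · exact ⟨FreeGroup.of .b, by simp [Cfsg.Agent.Lib.Helper28.TCFi23W0Link.S], (ν_of .b).symm⟩
    · exact ⟨FreeGroup.of .c, by simp [Cfsg.Agent.Lib.Helper28.TCFi23W0Link.S], (ν_of .c).symm⟩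
    · exact ⟨FreeGroup.of .d, by simp [Cfsg.Agent.Lib.Helper28.TCFi23W0Link.S], (ν_of .d).symm⟩
    · exact ⟨FreeGroup.of .e, by simp [Cfsg.Agent.Lib.Helper28.TCFi23W0Link.S], (ν_of .e).symm⟩
    · exact ⟨FreeGroup.of .f, by simp [Cfsg.Agent.Lib.Helper28.TCFi23W0Link.S], (ν_of .f).symm⟩
    · exact ⟨FreeGroup.of .g, by simp [Cfsg.Agent.Lib.Helper28.TCFi23W0Link.S], (ν_of .g).symm⟩
    · exact ⟨FreeGroup.of .h, by simp [Cfsg.Agent.Lib.Helper28.TCFi23W0Link.S], (ν_of .h).symm⟩
    · exact ⟨FreeGroup.of .i, by simp [Cfsg.Agent.Lib.Helper28.TCFi23W0Link.S], (ν_of .i).symm⟩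
  · rintro ⟨y, hy, rfl⟩
    simp only [Cfsg.Agent.Lib.Helper28.TCFi23W0Link.S, Set.mem_insert_iff, Set.mem_singleton_iff] at hy
    rcases hy with rfl | rfl | rfl | rfl | rfl | rfl | rfl | rfl | rfl
    · exact ⟨.a, ν_of .a⟩
    · exact ⟨.b, ν_of .b⟩
    · exact ⟨.c, ν_of .c⟩
    · exact ⟨.d, ν_of .d⟩
    · exact ⟨.e, ν_of .e⟩
    · exact ⟨.f, ν_of .f⟩
    · exact ⟨.g, ν_of .g⟩
    · exact ⟨.h, ν_of .h⟩
    · exact ⟨.i, ν_of .i⟩

theorem card23 : Nat.card Spor.Fi23 = 4089470473293004800 := Cfsg.Agent.S1697.result.2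
theorem card22 : Nat.card Spor.Fi22 = 64561751654400 := Cfsg.Agent.S1696.result.2

theorem finite23 : Finite Spor.Fi23 := Nat.finite_of_card_ne_zero (by rw [card23]; norm_num)

theorem index_H : H.index = 31671 := Cfsg.Agent.Lib.Helper28.TCFi23W0Main.main.1

theorem card_H : Nat.card H = 129123503308800 := by
  have := H.index_mul_card
  rw [index_H, card23] at this
  omega

theorem finite_W1 : Finite W1 := Cfsg.Agent.Lib.Helper28.TCFi23Tower.card1.1

theorem ν_injective : Function.Injective ν := by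
  haveI := finite_W1
  refine (injective_of_card_le ν Cfsg.Agent.Lib.Helper28.TCFi23Tower.card1.2 ?_).1
  rw [range_ν, card_H]

/-- `W1` is perfect: its generators are conjugate and one relator has odd length -/
theorem perfect_W1 : commutator W1 = ⊤ := by
  rw [← Abelianization.ker_of, MonoidHom.ker_eq_top_iff]
  -- the images of the generators
  set q : W1 →* Abelianization W1 := Abelianization.of with hq
  have hsq : ∀ x : Gen1, q (PresentedGroup.of x) ^ 2 = 1 := by
    intro x
    have hmem : (FreeGroup.of x * FreeGroup.of x) ^ coxLabel Cfsg.Agent.Lib.Helper28.TCFi23W1Def.edges x x ∈ R1 :=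
      Or.inl ⟨x, by cases x <;> decide, x, by cases x <;> decide, rfl⟩
    have h := PresentedGroup.one_of_mem hmem
    have hl : coxLabel Cfsg.Agent.Lib.Helper28.TCFi23W1Def.edges x x = 1 := by simp [coxLabel]
    rw [hl, pow_one, map_mul] at h
    have h' : (PresentedGroup.of x : W1) * PresentedGroup.of x = 1 := h
    rw [pow_two, ← map_mul, h', map_one]
  have hedge : ∀ x y : Gen1, coxLabel Cfsg.Agent.Lib.Helper28.TCFi23W1Def.edges x y = 3 →
      q (PresentedGroup.of x) = q (PresentedGroup.of y) := by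
    intro x y hl
    have hmem : (FreeGroup.of x * FreeGroup.of y) ^ coxLabel Cfsg.Agent.Lib.Helper28.TCFi23W1Def.edges x y ∈ R1 :=
      Or.inl ⟨x, by cases x <;> decide, y, by cases y <;> decide, rfl⟩
    have h := PresentedGroup.one_of_mem hmem
    rw [hl, map_pow, map_mul] at h
    have h' : ((PresentedGroup.of x : W1) * PresentedGroup.of y) ^ 3 = 1 := h
    have h3 : (q (PresentedGroup.of x) * q (PresentedGroup.of y)) ^ 3 = 1 := by
      rw [← map_mul, ← map_pow, h', map_one]
    have hx := hsq x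
    have hy := hsq y
    set X := q (PresentedGroup.of x)
    set Y := q (PresentedGroup.of y)
    have h4 : X * Y = 1 := by
      have : (X * Y) ^ 3 = (X ^ 2 * Y ^ 2) * (X * Y) := by
        rw [mul_pow, pow_succ X 2, pow_succ Y 2]
        exact mul_mul_mul_comm _ _ _ _
      rw [this, hx, hy, one_mul, one_mul] at h3
      exact h3
    have h5 : Y⁻¹ = Y := by rw [inv_eq_iff_mul_eq_one, ← pow_two, hy]
    rw [← h5]
    exact eq_inv_of_mul_eq_one_left h4
  set t := q (PresentedGroup.of Cfsg.Agent.Lib.Helper28.TCFi23W1Def.Gen.a) with ht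
  have hab := hedge .a .b (by decide)
  have hbc := hedge .b .c (by decide)
  have hcd := hedge .c .d (by decide)
  have hde := hedge .d .e (by decide)
  have hef := hedge .e .f (by decide)
  have hfg := hedge .f .g (by decide)
  have hdh := hedge .d .h (by decide)
  have hhi := hedge .h .i (by decide)
  have hall : ∀ x : Gen1, q (PresentedGroup.of x) = t := by
    intro x
    cases x
    · rfl
    · rw [← hab]
    · rw [← hbc, ← hab]
    · rw [← hcd, ← hbc, ← hab]
    · rw [← hde, ← hcd, ← hbc, ← hab]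
    · rw [← hef, ← hde, ← hcd, ← hbc, ← hab]
    · rw [← hfg, ← hef, ← hde, ← hcd, ← hbc, ← hab]
    · rw [← hdh, ← hcd, ← hbc, ← hab]
    · rw [← hhi, ← hdh, ← hcd, ← hbc, ← hab]
  have ht2 : t ^ 2 = 1 := hsq .a
  -- a relator of odd length with positive letters
  have hword : ∃ L ∈ Cfsg.Agent.Lib.Helper28.TCFi23W1Link.relWords, L.length % 2 = 1 ∧ ∀ p ∈ L, p.2 = true := by
    decide +kernel
  obtain ⟨L, hL, hodd, hpos⟩ := hword
  have hLmem : FreeGroup.mk L ∈ R1 := (Cfsg.Agent.Lib.Helper28.TCFi23W1Link.link.hrels _).mpr ⟨L, hL, rfl⟩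
  have h1 := PresentedGroup.one_of_mem hLmem
  have hcomp : q.comp (PresentedGroup.mk R1) = FreeGroup.lift (fun _ : Gen1 => t) := by
    apply FreeGroup.ext_hom
    intro x
    rw [FreeGroup.lift_apply_of]
    exact hall x
  have h2 : FreeGroup.lift (fun _ : Gen1 => t) (FreeGroup.mk L) = t ^ L.length := by
    rw [FreeGroup.lift_mk]
    clear hL hodd hLmem h1
    induction L with
    | nil => simp
    | cons p L ih =>
      have hp : p.2 = true := hpos p List.mem_cons_self
      rw [List.map_cons, List.prod_cons, ih (fun p' hp' => hpos p' (List.mem_cons_of_mem _ hp')), hp,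
        List.length_cons, pow_succ']
      rfl
  have h3 : t ^ L.length = 1 := by
    rw [← h2, ← hcomp, MonoidHom.comp_apply, h1, map_one]
  have ht1 : t = 1 :=
    Cfsg.Agent.Lib.Helper29.OddLift.eq_one_of_sq_of_pow (Nat.odd_iff.mpr hodd) ht2 h3
  apply PresentedGroup.ext
  intro x
  rw [hall x, ht1]
  rfl

theorem perfect_range : ⁅ν.range, ν.range⁆ = ν.range := by
  have h1 : ν.range = (⊤ : Subgroup W1).map ν := MonoidHom.range_eq_map ν
  rw [h1, ← Subgroup.map_commutator]
  congr 1
  have := perfect_W1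
  rwa [commutator_def] at this

/-- the isomorphism of `W1` with its image -/
noncomputable def iso : W1 ≃* ↥ν.range := MonoidHom.ofInjective ν_injective

/-- the map from `H` onto `Fi22` -/
noncomputable def θ : ↥ν.range →* Spor.Fi22 := β.comp iso.symm.toMonoidHom

theorem θ_surjective : Function.Surjective θ := β_surjective.comp iso.symm.surjective

theorem card_ker_θ : Nat.card θ.ker = 2 := by
  have h1 : θ.ker.index = Nat.card Spor.Fi22 := by
    rw [Subgroup.index_ker, MonoidHom.range_eq_top.mpr θ_surjective, Subgroup.card_top]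
  have h2 := θ.ker.index_mul_card
  have h3 : Nat.card ↥ν.range = 129123503308800 := by rw [range_ν, card_H]
  rw [h1, card22, h3] at h2
  omega

/-- a stem extension of `Fi23` with kernel of exponent 2 is trivial, if the kernels of the finite stem extensions of
`Fi22` have order not divisible by 4 -/
theorem ker_eq_bot_two
    (hF : ∀ (Δ : Type) [Group Δ] [Finite Δ] (ρ : Δ →* Spor.Fi22), Cfsg.IsStemExtension ρ → ¬ 4 ∣ Nat.card ρ.ker)
    {Γ : Type} [Group Γ] [Finite Γ] (σ : Γ →* Spor.Fi23) (hσ : Cfsg.IsStemExtension σ)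
    (hexp : ∀ a ∈ σ.ker, a ^ 2 = 1) : σ.ker = ⊥ := by
  have hidx : ν.range.index = 31671 := by rw [range_ν]; exact index_H
  haveI : ν.range.FiniteIndex := ⟨by rw [hidx]; norm_num⟩
  exact Cfsg.Agent.Lib.Helper29.SchurTwoStep.ker_eq_bot_of_double_cover σ hσ hexp ν.range
    (by rw [hidx]; decide) perfect_range θ θ_surjective card_ker_θ hF

end Cfsg.Agent.Lib.Helper29.F23TwoPart
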