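import Cfsg.Agent.Lib.Helper29.F23Odd
import Cfsg.Agent.Lib.Helper29.F23TwoPart
import Cfsg.Agent.Lib.Helper29.SchurCyclicSylow

set_option autoImplicit false
set_option maxRecDepth 100000

/-!
# The Schur multiplier of `Fi23` is trivial, given the multiplier of `Fi22`

* `p = 2`: `F23TwoPart.ker_eq_bot_two` (transfer to `2.Fi22`, needs that no finite stem extension of `Fi22` has kernel of
  order divisible by 4);
* `p = 3, 5`: `F23Odd` (involution lifts and one Fox cycle for the spider relator);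
* `p = 7, 11, 13, 17, 23`: the prime divides the order once;
* other primes: transfer to the kernel.
-/

namespace Cfsg.Agent.Lib.Helper29.F23Schur

open Cfsg Cfsg.Spor Subgroup
open Cfsg.Agent.Lib.Helper28.SchurFox
open Cfsg.Agent.Lib.Helper29.F23TwoPart

theorem ker_eq_bot_of_not_dvd {Γ G : Type*} [Group Γ] [Group G] [Finite G] (σ : Γ →* G)
    (hσ : Cfsg.IsStemExtension σ) (p : ℕ) (hp : p.Prime) (hexp : ∀ a ∈ σ.ker, a ^ p = 1)
    (hnd : ¬ p ∣ Nat.card G) : σ.ker = ⊥ := by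
  have hi : σ.ker.index = Nat.card G := by
    rw [Subgroup.index_ker, MonoidHom.range_eq_top.mpr hσ.1, Subgroup.card_top]
  haveI : σ.ker.FiniteIndex := ⟨by rw [hi]; exact Nat.card_pos.ne'⟩
  refine ker_eq_bot_of_transfer σ hσ p hexp σ.ker ?_ ?_
  · rw [hi]
    exact ((Nat.Prime.coprime_iff_not_dvd hp).mpr hnd).symm
  · intro a _ hac
    have hbot : ⁅σ.ker, σ.ker⁆ = ⊥ := by
      rw [Subgroup.commutator_eq_bot_iff_le_centralizer]
      intro x hx
      rw [mem_centralizer_iff]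
      intro y _
      exact mem_center_iff.mp (hσ.2.1 hx) y
    rw [hbot, mem_bot] at hac
    exact hac

theorem prime_dvd_card {p : ℕ} (hp : p.Prime) (h : p ∣ 4089470473293004800) :
    p = 2 ∨ p = 3 ∨ p = 5 ∨ p = 7 ∨ p = 11 ∨ p = 13 ∨ p = 17 ∨ p = 23 := by
  have h' : p ∣ 2 ^ 18 * 3 ^ 13 * 5 ^ 2 * 7 * 11 * 13 * 17 * 23 := by
    have : (4089470473293004800 : ℕ) = 2 ^ 18 * 3 ^ 13 * 5 ^ 2 * 7 * 11 * 13 * 17 * 23 := by norm_num
    rwa [this] at h
  have key : ∀ {q : ℕ}, q.Prime → p ∣ q → p = q := fun hq hd => (Nat.prime_dvd_prime_iff_eq hp hq).mp hd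
  rcases (Nat.Prime.dvd_mul hp).mp h' with h1 | h1
  · rcases (Nat.Prime.dvd_mul hp).mp h1 with h2 | h2
    · rcases (Nat.Prime.dvd_mul hp).mp h2 with h3 | h3
      · rcases (Nat.Prime.dvd_mul hp).mp h3 with h4 | h4
        · rcases (Nat.Prime.dvd_mul hp).mp h4 with h5 | h5
          · rcases (Nat.Prime.dvd_mul hp).mp h5 with h6 | h6
            · rcases (Nat.Prime.dvd_mul hp).mp h6 with h7 | h7
              · exact Or.inl (key Nat.prime_two (hp.dvd_of_dvd_pow h7))
              · exact Or.inr (Or.inl (key Nat.prime_three (hp.dvd_of_dvd_pow h7)))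
            · exact Or.inr (Or.inr (Or.inl (key (by norm_num) (hp.dvd_of_dvd_pow h6))))
          · exact Or.inr (Or.inr (Or.inr (Or.inl (key (by norm_num) h5))))
        · exact Or.inr (Or.inr (Or.inr (Or.inr (Or.inl (key (by norm_num) h4)))))
      · exact Or.inr (Or.inr (Or.inr (Or.inr (Or.inr (Or.inl (key (by norm_num) h3))))))
    · exact Or.inr (Or.inr (Or.inr (Or.inr (Or.inr (Or.inr (Or.inl (key (by norm_num) h2)))))))
  · exact Or.inr (Or.inr (Or.inr (Or.inr (Or.inr (Or.inr (Or.inr (key (by norm_num) h1)))))))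

/-- every finite stem extension of `Fi23` is an isomorphism, if the kernels of the finite stem extensions of `Fi22` have
order not divisible by 4 -/
theorem trivMult
    (hF : ∀ (Δ : Type) [Group Δ] [Finite Δ] (ρ : Δ →* Spor.Fi22), Cfsg.IsStemExtension ρ → ¬ 4 ∣ Nat.card ρ.ker) :
    TrivMult Spor.Fi23 := by
  apply trivMult_of_exp
  intro p hp Γ _ _ σ hσ hexp
  haveI := finite23
  by_cases hdiv : p ∣ 4089470473293004800
  · rcases prime_dvd_card hp hdiv with rfl | rfl | rfl | rfl | rfl | rfl | rfl | rfl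
    · exact ker_eq_bot_two hF σ hσ hexp
    · exact Cfsg.Agent.Lib.Helper29.F23Odd.ker_eq_bot_three σ hσ hexp
    · exact Cfsg.Agent.Lib.Helper29.F23Odd.ker_eq_bot_five σ hσ hexp
    · have : Fact (Nat.Prime 7) := ⟨hp⟩
      exact Cfsg.Agent.Lib.Helper29.SchurCyclicSylow.ker_eq_bot_of_prime_once σ hσ 7 hexp
        (by rw [card23]; norm_num) (by rw [card23]; norm_num)
    · have : Fact (Nat.Prime 11) := ⟨hp⟩
      exact Cfsg.Agent.Lib.Helper29.SchurCyclicSylow.ker_eq_bot_of_prime_once σ hσ 11 hexp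
        (by rw [card23]; norm_num) (by rw [card23]; norm_num)
    · have : Fact (Nat.Prime 13) := ⟨hp⟩
      exact Cfsg.Agent.Lib.Helper29.SchurCyclicSylow.ker_eq_bot_of_prime_once σ hσ 13 hexp
        (by rw [card23]; norm_num) (by rw [card23]; norm_num)
    · have : Fact (Nat.Prime 17) := ⟨hp⟩
      exact Cfsg.Agent.Lib.Helper29.SchurCyclicSylow.ker_eq_bot_of_prime_once σ hσ 17 hexp
        (by rw [card23]; norm_num) (by rw [card23]; norm_num)
    · have : Fact (Nat.Prime 23) := ⟨hp⟩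
      exact Cfsg.Agent.Lib.Helper29.SchurCyclicSylow.ker_eq_bot_of_prime_once σ hσ 23 hexp
        (by rw [card23]; norm_num) (by rw [card23]; norm_num)
  · exact ker_eq_bot_of_not_dvd σ hσ p hp hexp (by rw [card23]; exact hdiv)

/-- the hypothesis on `Fi22` follows from its multiplier being cyclic of order 6 -/
theorem not_four_dvd_of_six (h22 : Cfsg.HasCyclicSchurMultiplier Spor.Fi22 6) :
    ∀ (Δ : Type) [Group Δ] [Finite Δ] (ρ : Δ →* Spor.Fi22), Cfsg.IsStemExtension ρ → ¬ 4 ∣ Nat.card ρ.ker := by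
  intro Δ _ _ ρ hρ h4
  obtain ⟨π, hπ⟩ := h22.2 Δ ρ hρ
  have h1 : Nat.card ↥ρ.ker ∣ Nat.card (Multiplicative (ZMod 6)) := Subgroup.card_dvd_of_surjective π hπ
  have h2 : Nat.card (Multiplicative (ZMod 6)) = 6 := by
    rw [Nat.card_eq_fintype_card]
    rfl
  rw [h2] at h1
  have := dvd_trans h4 h1
  omega

theorem hasCyclic (h22 : Cfsg.HasCyclicSchurMultiplier Spor.Fi22 6) : Cfsg.HasCyclicSchurMultiplier Spor.Fi23 1 := by
  haveI := finite23
  exact hasCyclic_of_trivMult (trivMult (not_four_dvd_of_six h22))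

end Cfsg.Agent.Lib.Helper29.F23Schur
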