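import Mathlib
import Cfsg.Agent.Lib.Helper7.DHBDefs

/-!
helper29: leaf CARD2 (`card_two`) of market "DHB" (S3616 algebraic core, planner helper7): for odd `n` a non-empty
symmetric `X ∌ 0` has at least two points.
-/

set_option autoImplicit false

namespace Cfsg.Agent.Lib.Helper29.DHBCARD2

open Finset Cfsg.Agent.Lib.Helper7.DHB

variable {n : ℕ} [NeZero n] {X Y : Finset (ZMod n)} {k l m : ℕ}

omit [NeZero n] in
/-- in `ZMod n`, `n` odd, `-i = i` forces `i = 0`. -/
theorem eq_zero_of_neg_eq_self (hn : Odd n) {i : ZMod n} (hi : -i = i) : i = 0 := by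
  rcases (ZMod.neg_eq_self_iff i).1 hi with h | h
  · exact h
  · exfalso
    have : Even n := ⟨i.val, by omega⟩
    exact (Nat.not_even_iff_odd.2 hn) this

/-- **CARD2**: for odd `n` a non-empty symmetric `X ∌ 0` has at least two points. -/
theorem card_two (hn : Odd n) (h0 : (0 : ZMod n) ∉ X) (hneg : ∀ i ∈ X, -i ∈ X) (hX : X.Nonempty) :
    2 ≤ X.card := by
  classical
  obtain ⟨i, hi⟩ := hX
  have hi0 : i ≠ 0 := fun h => h0 (h ▸ hi)
  have hne : i ≠ -i := fun h => hi0 (eq_zero_of_neg_eq_self hn h.symm)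
  have hsub : ({i, -i} : Finset (ZMod n)) ⊆ X := by
    intro x hx
    rw [Finset.mem_insert, Finset.mem_singleton] at hx
    rcases hx with rfl | rfl
    · exact hi
    · exact hneg _ hi
  calc 2 = ({i, -i} : Finset (ZMod n)).card := (Finset.card_pair hne).symm
    _ ≤ X.card := Finset.card_le_card hsub

end Cfsg.Agent.Lib.Helper29.DHBCARD2
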