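import Mathlib
import Cfsg.Agent.Lib.Helper7.DHBDefs

/-!
helper29: leaf EQP2 (`l_eq_m_of_pinv`) of market "DHB" (S3616 algebraic core, planner helper7): `X` fully
`P`-invariant and `Y` not `P`-invariant give `l = m`.
-/

set_option autoImplicit false

namespace Cfsg.Agent.Lib.Helper29.DHBEQP2

open Finset Cfsg.Agent.Lib.Helper7.DHB

variable {n : ℕ} [NeZero n] {X Y : Finset (ZMod n)} {k l m : ℕ}

omit [NeZero n] in
/-- `rep X Y (u + t) ≤ rep X Y u`-direction injection: translating the first coordinate by `t ∈ P`. -/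
theorem rep_add_le {p : ℕ} (hX : PInv p X) (u t : ZMod n) (ht : p • t = 0) :
    rep X Y u ≤ rep X Y (u + t) := by
  classical
  unfold rep
  refine Finset.card_le_card_of_injOn (fun q => (q.1 + t, q.2)) ?_ ?_
  · intro q hq
    have hq' := Finset.mem_filter.mp (Finset.mem_coe.mp hq)
    have hq1 := Finset.mem_product.mp hq'.1
    refine Finset.mem_coe.mpr (Finset.mem_filter.mpr ⟨Finset.mem_product.mpr ⟨hX _ hq1.1 t ht, hq1.2⟩, ?_⟩)
    show q.1 + t + q.2 = u + t
    rw [← hq'.2]
    abel
  · intro q _ q' _ h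
    have h1 : q.1 + t = q'.1 + t := (Prod.ext_iff.mp h).1
    have h2 : q.2 = q'.2 := (Prod.ext_iff.mp h).2
    exact Prod.ext (add_right_cancel h1) h2

omit [NeZero n] in
/-- `rep X Y` is constant on `P`-cosets when `X` is `P`-invariant. -/
theorem rep_add_eq {p : ℕ} (hX : PInv p X) (u t : ZMod n) (ht : p • t = 0) :
    rep X Y (u + t) = rep X Y u := by
  apply le_antisymm
  · have h := rep_add_le (Y := Y) hX (u + t) (-t) (by rw [smul_neg, ht, neg_zero])
    rwa [add_neg_cancel_right] at h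
  · exact rep_add_le hX u t ht

/-- **EQP2**: `X` fully `P`-invariant and `Y` not `P`-invariant give `l = m` exactly. -/
theorem l_eq_m_of_pinv {p : ℕ} (h : Hyp n X Y k l m) (hX : PInv p X) (hY : ¬ PInv p Y) : l = m := by
  classical
  unfold PInv at hY
  push Not at hY
  obtain ⟨u, hu, t, ht, hut⟩ := hY
  have h1 := h.E2 u
  have h2 := h.E2 (u + t)
  rw [if_pos hu] at h1
  rw [if_neg hut, rep_add_eq hX u t ht] at h2
  omega

end Cfsg.Agent.Lib.Helper29.DHBEQP2
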