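/-
helper29: S4637 leaf (D2) `blockRank_eq_one_of_card_two` (frozen statement `notes/S4637_leaves.lean`):
a `2`-block with a defect group of order `2` has `2`-regular rank one.
Corollary of the done row S4607 (`k(B) = 2 ↔ |D| = 2`) and helper27's `BlkGlueC1` (`k = 2 → l = 1`).
-/
import Mathlib
import Cfsg.Agent.S4607
import Cfsg.Agent.Lib.Helper27.BlkGlueC1

set_option autoImplicit false

namespace Cfsg.Agent.Lib.Helper29.KleinD2

open Cfsg

universe u

variable {M : Ideal AlgInt}

/-- (D2) a block with a defect group of order `2` has `2`-regular rank one. -/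
theorem blockRank_eq_one_of_card_two {H : Type u} [Group H] [Fintype H] (hM : IsPModular 2 M)
    (b : Set (IrrCharacter H)) (hb : IsPBlock M b) (D : Subgroup H)
    (hD : IsDefectGroup 2 M b D) (hcard : Nat.card D = 2) : blockRank 2 b = 1 :=
  Cfsg.Agent.Lib.Helper27.BlkGlueC1.blockRank_eq_one_of_card_two 2 M hM b hb
    ((Cfsg.Agent.S4607.result 2 M hM b hb D hD).mpr hcard)

end Cfsg.Agent.Lib.Helper29.KleinD2
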