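/-
helper29: S4395 leaf (D1) `exists_data` - the structure `X = P ⋊ ⟨y⟩` of a minimal non-`p`-nilpotent group of
order `p^t q^r`, on top of `Helper29.MinNonPNilpotent`.
-/
import Mathlib
import Cfsg.Prelude.Def_Transfer
import Cfsg.Agent.Lib.Helper21.SchDefs
import Cfsg.Agent.Lib.Helper29.MinNonPNilpotent

set_option autoImplicit false
universe u v
open Cfsg
open Cfsg.Agent.Lib.Helper21.Sch

namespace Cfsg.Agent.Lib.Helper29.SchD1

open Subgroup

/-- `U ⟨g⟩ = U · ⟨g⟩` when `⟨g⟩` normalizes `U` -/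
theorem mem_sup_zpowers_decomp {X : Type*} [Group X] (U : Subgroup X) (g : X)
    (hn : ∀ z ∈ zpowers g, ∀ u ∈ U, z * u * z⁻¹ ∈ U) :
    ∀ x ∈ U ⊔ zpowers g, ∃ u ∈ U, ∃ z ∈ zpowers g, x = u * z := by
  intro x hx
  rw [sup_eq_closure] at hx
  induction hx using closure_induction with
  | mem x hx =>
    rcases hx with h | h
    · exact ⟨x, h, 1, one_mem _, (mul_one x).symm⟩
    · exact ⟨1, one_mem _, x, h, (one_mul x).symm⟩
  | one => exact ⟨1, one_mem _, 1, one_mem _, (mul_one 1).symm⟩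
  | mul a b _ _ ha hb =>
    obtain ⟨u, hu, z, hz, rfl⟩ := ha
    obtain ⟨u', hu', z', hz', rfl⟩ := hb
    exact ⟨u * (z * u' * z⁻¹), U.mul_mem hu (hn z hz u' hu'), z * z', mul_mem hz hz', by group⟩
  | inv a _ ha =>
    obtain ⟨u, hu, z, hz, rfl⟩ := ha
    exact ⟨z⁻¹ * u⁻¹ * z⁻¹⁻¹, hn z⁻¹ (inv_mem hz) u⁻¹ (inv_mem hu), z⁻¹, inv_mem hz, by group⟩

/-- in a finite group, `⟨g⟩` normalizes `U` as soon as `g U g⁻¹ ≤ U` -/
theorem zpowers_conj_mem {X : Type*} [Group X] [Finite X] (U : Subgroup X) (g : X)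
    (hg : ∀ u ∈ U, g * u * g⁻¹ ∈ U) : ∀ z ∈ zpowers g, ∀ u ∈ U, z * u * z⁻¹ ∈ U := by
  intro z hz
  rw [← mem_powers_iff_mem_zpowers] at hz
  obtain ⟨n, rfl⟩ := hz
  induction n with
  | zero =>
    intro u hu
    simpa using hu
  | succ n ih =>
    intro u hu
    have h := hg _ (ih u hu)
    have e : g ^ (n + 1) * u * (g ^ (n + 1))⁻¹ = g * (g ^ n * u * (g ^ n)⁻¹) * g⁻¹ := by
      rw [pow_succ']
      group
    rw [e]
    exact h

/-- **TAG D1** -/
theorem exists_data {X : Type*} [Group X] [Finite X] (p q r t : ℕ) [Fact p.Prime] [Fact q.Prime] (hpq : p ≠ q)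
    (h1 : ¬ Cfsg.HasNormalPComplement p X)
    (h2 : ∀ H : Subgroup X, H ≠ ⊤ → Cfsg.HasNormalPComplement p ↥H)
    (hcard : Nat.card X = p ^ t * q ^ r) :
    ∃ (P : Subgroup X) (y : X), P.Normal ∧ IsPGroup p P ∧ orderOf y = q ^ r ∧
      Subgroup.closure ((P : Set X) ∪ {y}) = ⊤ ∧
      (∀ U : Subgroup X, U < P → (∀ u ∈ U, y * u * y⁻¹ ∈ U) → ∀ u ∈ U, y * u * y⁻¹ = u) ∧
      (∃ x ∈ P, y * x * y⁻¹ ≠ x) ∧ (∀ x ∈ P, y ^ q * x * (y ^ q)⁻¹ = x) := by
  have hp : p.Prime := Fact.out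
  have hq : q.Prime := Fact.out
  have h1' : ¬ FrobCond p X := fun h => h1 (frobCond_iff.mp h)
  have h2' : ∀ H : Subgroup X, H ≠ ⊤ → FrobCond p H := fun H hH => frobCond_iff.mpr (h2 H hH)
  obtain ⟨Q, g, hQn, hQ, hcop, hsup, hgc⟩ := exists_normal_pgroup_sup_zpowers_of_minimal h1' h2'
  obtain ⟨k, hk⟩ := IsPGroup.iff_card.mp hQ
  have hcopcard : (Nat.card Q).Coprime (Nat.card (zpowers g)) := by
    rw [hk, Nat.card_zpowers]
    exact Nat.Coprime.pow_left k hcop.symm
  have hdisj : Q ⊓ zpowers g = ⊥ := disjoint_iff.mp (disjoint_of_coprime_natCard hcopcard)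
  have hcompl : Q.IsComplement' (zpowers g) := by
    apply isComplement'_of_disjoint_and_mul_eq_univ (disjoint_iff.mpr hdisj)
    rw [← normal_mul, hsup]
    rfl
  have hcardX : p ^ k * orderOf g = p ^ t * q ^ r := by
    rw [← hcard, ← hcompl.card_mul_card, hk, Nat.card_zpowers]
  have hpq' : p.Coprime q := (Nat.coprime_primes hp hq).mpr hpq
  have hpk : p ^ k = p ^ t := by
    apply Nat.dvd_antisymm
    · have hd : p ^ k ∣ p ^ t * q ^ r := ⟨orderOf g, hcardX.symm⟩
      exact Nat.Coprime.dvd_of_dvd_mul_right (Nat.Coprime.pow k r hpq') hd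
    · have hd : p ^ t ∣ p ^ k * orderOf g := ⟨q ^ r, hcardX⟩
      exact Nat.Coprime.dvd_of_dvd_mul_right (Nat.Coprime.pow_left t hcop.symm) hd
  have hord : orderOf g = q ^ r := by
    rw [hpk] at hcardX
    exact Nat.eq_of_mul_eq_mul_left (pow_pos hp.pos t) hcardX
  refine ⟨Q, g, hQn, hQ, hord, ?_, ?_, ?_, ?_⟩
  · rw [Subgroup.closure_union, closure_eq, ← zpowers_eq_closure]
    exact hsup
  · intro U hU hUinv u hu
    have hnorm := zpowers_conj_mem U g hUinv
    have hHne : U ⊔ zpowers g ≠ ⊤ := by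
      intro htop
      apply not_le_of_gt hU
      intro x hx
      obtain ⟨u', hu', z, hz, rfl⟩ := mem_sup_zpowers_decomp U g hnorm x (by rw [htop]; trivial)
      have hzQ : z ∈ Q := by
        have e : z = u'⁻¹ * (u' * z) := by group
        rw [e]
        exact Q.mul_mem (Q.inv_mem (hU.le hu')) hx
      have hz1 : z = 1 := by
        have hmem : z ∈ Q ⊓ zpowers g := ⟨hzQ, hz⟩
        rw [hdisj] at hmem
        exact mem_bot.mp hmem
      rw [hz1, mul_one]
      exact hu'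
    have hF : FrobCond p ↥(U ⊔ zpowers g) := h2' _ hHne
    have hUH : U ≤ U ⊔ zpowers g := le_sup_left
    have hgH : g ∈ U ⊔ zpowers g := le_sup_right (α := Subgroup X) (mem_zpowers g)
    have hgn : (⟨g, hgH⟩ : (U ⊔ zpowers g : Subgroup X)) ∈
        normalizer ((U.subgroupOf (U ⊔ zpowers g) : Subgroup _) : Set _) := by
      rw [mem_normalizer_iff]
      intro y
      rw [mem_subgroupOf, mem_subgroupOf]
      constructor
      · intro hy
        exact hUinv _ hy
      · intro hy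
        have h := hnorm g⁻¹ (inv_mem (mem_zpowers g)) _ hy
        simpa [mul_assoc] using h
    have hcen := hF (U.subgroupOf (U ⊔ zpowers g)) (hQ.to_le hU.le).comap_subtype ⟨g, hgH⟩ hgn (by
      rw [← orderOf_coe]
      exact hcop)
    rw [mem_centralizer_iff] at hcen
    have h3 := hcen ⟨u, hUH hu⟩ (by rw [SetLike.mem_coe, mem_subgroupOf]; exact hu)
    have h4 : u * g = g * u := congrArg Subtype.val h3
    rw [← h4]
    group
  · by_contra hall
    push Not at hall
    apply hgc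
    rw [mem_centralizer_iff]
    intro x hx
    have h := hall x hx
    have e : g * x = x * g := by
      calc g * x = (g * x * g⁻¹) * g := by group
        _ = x * g := by rw [h]
    exact e.symm
  · intro x hx
    have hr : r ≠ 0 := by
      rintro rfl
      rw [pow_zero] at hord
      have hg1 : g = 1 := orderOf_eq_one_iff.mp hord
      apply hgc
      rw [hg1]
      exact one_mem _
    have hHne : Q ⊔ zpowers (g ^ q) ≠ ⊤ := by
      intro htop
      have hgH' : g ∈ Q ⊔ zpowers (g ^ q) := by rw [htop]; trivial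
      obtain ⟨x', hx', z, hz, hxz⟩ := mem_sup_of_normal_left.mp hgH'
      have hle : zpowers (g ^ q) ≤ zpowers g := zpowers_le.mpr (pow_mem (mem_zpowers g) q)
      have hx'1 : x' = 1 := by
        have e : x' = g * z⁻¹ := by rw [← hxz]; group
        have hmem : x' ∈ Q ⊓ zpowers g :=
          ⟨hx', by rw [e]; exact (zpowers g).mul_mem (mem_zpowers g) ((zpowers g).inv_mem (hle hz))⟩
        rw [hdisj] at hmem
        exact mem_bot.mp hmem
      rw [hx'1, one_mul] at hxz
      rw [hxz] at hz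
      obtain ⟨j, hj⟩ := mem_zpowers_iff.mp hz
      have e1 : g ^ ((q : ℤ) * j - 1) = 1 := by
        rw [zpow_sub, zpow_mul, zpow_natCast, hj, zpow_one, mul_inv_cancel]
      have e2 : ((orderOf g : ℕ) : ℤ) ∣ (q : ℤ) * j - 1 := orderOf_dvd_iff_zpow_eq_one.mpr e1
      rw [hord] at e2
      have e3 : (q : ℤ) ∣ (q : ℤ) * j - 1 := by
        refine dvd_trans ?_ e2
        push_cast
        exact dvd_pow_self _ hr
      have e4 : (q : ℤ) ∣ 1 := by
        have h := dvd_sub (dvd_mul_right (q : ℤ) j) e3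
        simpa using h
      have e5 : (q : ℤ) = 1 := Int.eq_one_of_dvd_one (by positivity) e4
      exact hq.one_lt.ne' (by exact_mod_cast e5)
    have hF : FrobCond p ↥(Q ⊔ zpowers (g ^ q)) := h2' _ hHne
    have hQH : Q ≤ Q ⊔ zpowers (g ^ q) := le_sup_left
    have hgH : g ^ q ∈ Q ⊔ zpowers (g ^ q) :=
      le_sup_right (α := Subgroup X) (mem_zpowers (g ^ q))
    have hgn : (⟨g ^ q, hgH⟩ : (Q ⊔ zpowers (g ^ q) : Subgroup X)) ∈
        normalizer ((Q.subgroupOf (Q ⊔ zpowers (g ^ q)) : Subgroup _) : Set _) := by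
      rw [mem_normalizer_iff]
      intro y
      rw [mem_subgroupOf, mem_subgroupOf]
      constructor
      · intro hy
        exact hQn.conj_mem _ hy _
      · intro hy
        have h := hQn.conj_mem _ hy (g ^ q)⁻¹
        simpa [mul_assoc] using h
    have hcen := hF (Q.subgroupOf (Q ⊔ zpowers (g ^ q))) hQ.comap_subtype ⟨g ^ q, hgH⟩ hgn (by
      rw [← orderOf_coe]
      exact Nat.Coprime.coprime_dvd_left (orderOf_pow_dvd q) hcop)
    rw [mem_centralizer_iff] at hcen
    have h3 := hcen ⟨x, hQH hx⟩ (by rw [SetLike.mem_coe, mem_subgroupOf]; exact hx)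
    have h4 : x * g ^ q = g ^ q * x := congrArg Subtype.val h3
    rw [← h4]
    group

end Cfsg.Agent.Lib.Helper29.SchD1
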