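/-
helper29: S4395 leaf (D2A) `exists_center_data` - from the landed `Cfsg.Agent.S3736.result` (Hall-Higman reduction for
a minimal non-trivial coprime action) with `B = A = zpowers y`; `Z = Φ(P)`.
-/
import Mathlib
import Cfsg.Prelude.Def_Transfer
import Cfsg.Agent.Lib.Helper21.SchDefs
import Cfsg.Agent.S3736
import Cfsg.Agent.Lib.Helper1.PGroup
import Cfsg.Agent.Lib.Helper23.Class2
import Cfsg.Agent.Lib.Helper29.SchD1

set_option autoImplicit false
universe u v
open Cfsg
open Cfsg.Agent.Lib.Helper21.Sch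

namespace Cfsg.Agent.Lib.Helper29.SchD2A

open Subgroup
open scoped commutatorElement

/-- in a special `p`-group the derived subgroup has exponent `p` -/
theorem pow_eq_one_of_mem_commutator_of_isSpecial {P : Type*} [Group P] [Finite P] (p : ℕ) [Fact p.Prime]
    (hs : Cfsg.IsSpecial p P) (c : P) (hc : c ∈ commutator P) : c ^ p = 1 := by
  obtain ⟨hP, hΦ, hD⟩ := hs
  let S : Subgroup P :=
    { carrier := {c | c ∈ center P ∧ c ^ p = 1}
      one_mem' := ⟨one_mem _, one_pow _⟩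
      mul_mem' := by
        rintro a b ⟨ha, hap⟩ ⟨hb, hbp⟩
        refine ⟨mul_mem ha hb, ?_⟩
        have hcm : Commute a b := (mem_center_iff.mp ha b).symm
        rw [hcm.mul_pow, hap, hbp, one_mul]
      inv_mem' := by
        rintro a ⟨ha, hap⟩
        exact ⟨inv_mem ha, by rw [inv_pow, hap, inv_one]⟩ }
  have hle : commutator P ≤ S := by
    rw [_root_.commutator_def, Subgroup.commutator_le]
    intro a _ b _
    have hab : ⁅a, b⁆ ∈ center P := by
      rw [← hD, _root_.commutator_def]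
      exact commutator_mem_commutator (mem_top a) (mem_top b)
    refine ⟨hab, ?_⟩
    rw [← Cfsg.Agent.Lib.Helper23.commutatorElement_pow_left_of_central a b hab p,
      commutatorElement_eq_one_iff_commute]
    have hap : a ^ p ∈ center P := by
      rw [← hΦ]
      exact Cfsg.Agent.Lib.Helper1.IsPGroup.pow_mem_frattini hP a
    exact (mem_center_iff.mp hap b).symm
  exact (hle hc).2

/-- **TAG D2A** -/
theorem exists_center_data {X : Type*} [Group X] [Finite X] (p : ℕ) [Fact p.Prime] (n : ℕ) (hnp : n.Coprime p)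
    (P : Subgroup X) (y : X) (hPn : P.Normal) (hP : IsPGroup p P) (hyn : y ^ n = 1)
    (hmin : ∀ U : Subgroup X, U < P → (∀ u ∈ U, y * u * y⁻¹ ∈ U) → ∀ u ∈ U, y * u * y⁻¹ = u)
    (hnt : ∃ x ∈ P, y * x * y⁻¹ ≠ x) :
    ∃ Z : Subgroup X, Z < P ∧ (∀ z ∈ Z, ∀ x ∈ P, z * x = x * z) ∧ (∀ z ∈ Z, z ^ p = 1) ∧
      (∀ z ∈ Z, y * z * y⁻¹ = z) ∧ (∀ x ∈ P, ∀ x' ∈ P, x * x' * x⁻¹ * x'⁻¹ ∈ Z) ∧ (∀ x ∈ P, x ^ p ∈ Z) ∧
      (∀ U : Subgroup X, Z ≤ U → U ≤ P → (∀ u ∈ U, y * u * y⁻¹ ∈ U) → U = Z ∨ U = P) ∧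
      ⁅P, Subgroup.zpowers y⁆ = P := by
  have hp : p.Prime := Fact.out
  have hzpow_comm : ∀ u : X, y * u * y⁻¹ = u → ∀ z ∈ zpowers y, z * u = u * z := by
    intro u hu z hz
    obtain ⟨i, rfl⟩ := mem_zpowers_iff.mp hz
    have h0 : Commute y u := by
      show y * u = u * y
      calc y * u = (y * u * y⁻¹) * y := by group
        _ = u * y := by rw [hu]
    exact (h0.zpow_left i).eq
  have hnorm_of_inv : ∀ U : Subgroup X, (∀ u ∈ U, y * u * y⁻¹ ∈ U) →
      zpowers y ≤ normalizer (U : Set X) := by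
    intro U hU z hz
    have hn := SchD1.zpowers_conj_mem U y hU
    rw [mem_normalizer_iff]
    intro h
    constructor
    · intro hh
      exact hn z hz h hh
    · intro hh
      have h' := hn z⁻¹ ((zpowers y).inv_mem hz) _ hh
      simpa [mul_assoc] using h'
  have hinv_of_norm : ∀ U : Subgroup X, zpowers y ≤ normalizer (U : Set X) →
      ∀ u ∈ U, y * u * y⁻¹ ∈ U := by
    intro U hU u hu
    exact (mem_normalizer_iff.mp (hU (mem_zpowers y)) u).mp hu
  have hBP : zpowers y ≤ normalizer (P : Set X) := by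
    rw [normalizer_eq_top_iff.mpr hPn]
    exact le_top
  have hAn : zpowers y ≤ normalizer ((zpowers y : Subgroup X) : Set X) := le_normalizer
  have hAp : (Nat.card (zpowers y)).Coprime p := by
    rw [Nat.card_zpowers]
    exact Nat.Coprime.coprime_dvd_left (orderOf_dvd_of_pow_eq_one hyn) hnp
  have hnt' : ⁅P, zpowers y⁆ ≠ ⊥ := by
    obtain ⟨x, hx, hne⟩ := hnt
    intro hbot
    apply hne
    have hmem : ⁅x, y⁆ ∈ ⁅P, zpowers y⁆ := commutator_mem_commutator hx (mem_zpowers y)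
    rw [hbot, mem_bot, commutatorElement_eq_one_iff_commute] at hmem
    calc y * x * y⁻¹ = x * y * y⁻¹ := by rw [hmem.eq]
      _ = x := by group
  have hmin' : ∀ U : Subgroup X, U < P → zpowers y ≤ normalizer (U : Set X) →
      ⁅U, zpowers y⁆ = ⊥ := by
    intro U hU hUn
    rw [commutator_eq_bot_iff_le_centralizer]
    intro u hu
    rw [mem_centralizer_iff]
    intro z hz
    exact hzpow_comm u (hmin U hU (hinv_of_norm U hUn) u hu) z hz
  obtain ⟨hPA, hstruct, hirr, -⟩ :=
    Cfsg.Agent.S3736.result (zpowers y) (zpowers y) P hP hBP le_rfl hAn hAp hnt' hmin'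
  have hmemZ : ∀ x : ↥P, (x : X) ∈ (frattini ↥P).map P.subtype ↔ x ∈ frattini ↥P := by
    intro x
    rw [mem_map]
    constructor
    · rintro ⟨x', hx', he⟩
      have e : x' = x := Subtype.ext he
      rwa [← e]
    · intro hx
      exact ⟨x, hx, rfl⟩
  have hZP : (frattini ↥P).map P.subtype ≤ P := map_subtype_le _
  have hZne : (frattini ↥P).map P.subtype ≠ P := by
    intro hZeq
    have htop : frattini ↥P = ⊤ := by
      rw [eq_top_iff]
      intro x _
      rw [← hmemZ, hZeq]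
      exact x.2
    have hbot : (⊥ : Subgroup ↥P) = ⊤ := by
      apply frattini_nongenerating
      rw [htop, bot_sup_eq]
    obtain ⟨x, hx, hne⟩ := hnt
    apply hne
    have hx1 : (⟨x, hx⟩ : ↥P) ∈ (⊥ : Subgroup ↥P) := by rw [hbot]; trivial
    have hx1' : x = 1 := by
      have := congrArg Subtype.val (mem_bot.mp hx1)
      simpa using this
    rw [hx1']
    group
  have hZlt : (frattini ↥P).map P.subtype < P := lt_of_le_of_ne hZP hZne
  -- `Z` is `y`-invariant
  have := hPn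
  have hZinv : ∀ u ∈ (frattini ↥P).map P.subtype, y * u * y⁻¹ ∈ (frattini ↥P).map P.subtype := by
    intro u hu
    have huP : u ∈ P := hZP hu
    have hu' : (⟨u, huP⟩ : ↥P) ∈ frattini ↥P := (hmemZ ⟨u, huP⟩).mp hu
    have hfix := (frattini_characteristic (G := ↥P)).fixed (MulAut.conjNormal y)
    have h1 : (⟨u, huP⟩ : ↥P) ∈ (frattini ↥P).comap (MulAut.conjNormal y : ↥P ≃* ↥P).toMonoidHom := by
      rw [hfix]
      exact hu'
    rw [mem_comap] at h1
    have h2 := (hmemZ _).mpr h1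
    simpa [MulAut.conjNormal_apply] using h2
  have hcomm_mem : ∀ x ∈ P, ∀ x' ∈ P, x * x' * x⁻¹ * x'⁻¹ ∈ (frattini ↥P).map P.subtype := by
    intro x hx x' hx'
    have h1 : ⁅(⟨x, hx⟩ : ↥P), ⟨x', hx'⟩⁆ ∈ frattini ↥P := by
      apply Cfsg.Agent.Lib.Helper1.IsPGroup.commutator_le_frattini hP
      rw [_root_.commutator_def]
      exact commutator_mem_commutator (mem_top _) (mem_top _)
    have h2 := (hmemZ _).mpr h1
    simpa [commutatorElement_def] using h2
  have hpow_mem : ∀ x ∈ P, x ^ p ∈ (frattini ↥P).map P.subtype := by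
    intro x hx
    have h1 := Cfsg.Agent.Lib.Helper1.IsPGroup.pow_mem_frattini hP (⟨x, hx⟩ : ↥P)
    have h2 := (hmemZ _).mpr h1
    simpa using h2
  refine ⟨(frattini ↥P).map P.subtype, hZlt, ?_, ?_, ?_, hcomm_mem, hpow_mem, ?_, hPA⟩
  · -- central in `P`
    intro z hz x hx
    rcases hstruct with ⟨hab, -⟩ | ⟨-, hΦ, -⟩
    · have h := hab.is_comm.comm (⟨z, hZP hz⟩ : ↥P) ⟨x, hx⟩
      exact congrArg Subtype.val h
    · have hz' : (⟨z, hZP hz⟩ : ↥P) ∈ center ↥P := by
        rw [← hΦ]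
        exact (hmemZ ⟨z, hZP hz⟩).mp hz
      have h := mem_center_iff.mp hz' ⟨x, hx⟩
      exact (congrArg Subtype.val h).symm
  · -- exponent `p`
    intro z hz
    rcases hstruct with ⟨-, hexp⟩ | hs
    · exact hexp z (hZP hz)
    · have hz' : (⟨z, hZP hz⟩ : ↥P) ∈ commutator ↥P := by
        rw [hs.2.2, ← hs.2.1]
        exact (hmemZ ⟨z, hZP hz⟩).mp hz
      have h := pow_eq_one_of_mem_commutator_of_isSpecial p hs _ hz'
      have h' := congrArg Subtype.val h
      simpa using h'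
  · -- `y` centralizes `Z`
    exact hmin _ hZlt hZinv
  · intro U hZU hUP hUinv
    exact hirr U hZU hUP (hnorm_of_inv U hUinv)

end Cfsg.Agent.Lib.Helper29.SchD2A
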