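/-
helper29: S4395 leaf (MIN2A) `comm_of_sup_eq_top` - a proper subgroup `H` with `H P = X` is abelian.
On top of the landed leaves B5, NORM, CENT (helper22) and the `pv` calculus (helper23).
-/
import Mathlib
import Cfsg.Prelude.Def_Transfer
import Cfsg.Agent.Lib.Helper21.SchDefs
import Cfsg.Agent.Lib.Helper22.SchB5
import Cfsg.Agent.Lib.Helper22.SchNORM
import Cfsg.Agent.Lib.Helper22.SchCENT
import Cfsg.Agent.Lib.Helper23.SchCalc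

set_option autoImplicit false
universe u v
open Cfsg
open Cfsg.Agent.Lib.Helper21.Sch

namespace Cfsg.Agent.Lib.Helper29.SchMIN2A

open Cfsg.Agent.Lib.Helper23.SchCalc

section B
variable {p : ℕ} [Fact p.Prime] {K : Type*} [Field K] {ω : K} {X : Type*} [Group X]

/-- **TAG MIN2A** -/
theorem comm_of_sup_eq_top [Finite X] (𝔣 : Frame p ω X)
    (hirr : ∀ S : AddSubgroup K, (∀ v ∈ S, ω * v ∈ S) → S = ⊥ ∨ S = ⊤)
    (hgen : 𝔣.IsGen) (ht : 𝔣.IsTight) (H : Subgroup X) (hH : H ≠ ⊤) (hHP : H ⊔ 𝔣.P = ⊤) :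
    ∀ h ∈ H, ∀ h' ∈ H, h * h' = h' * h := by
  have hPn : 𝔣.P.Normal := Cfsg.Agent.Lib.Helper22.SchNORM.normal_of_frame 𝔣 hgen
  have hy : 𝔣.y ∈ H ⊔ 𝔣.P := by rw [hHP]; trivial
  obtain ⟨h₀, hh₀, x₁, hx₁, hyeq⟩ := Subgroup.mem_sup_of_normal_right.mp hy
  let S : AddSubgroup K :=
    { carrier := {v | ∃ x, ∃ hx : x ∈ 𝔣.P, x ∈ H ∧ pv 𝔣 x hx = v}
      zero_mem' := ⟨1, 𝔣.P.one_mem, H.one_mem, pv_one 𝔣⟩
      add_mem' := by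
        rintro a b ⟨x, hx, hxH, rfl⟩ ⟨x', hx', hx'H, rfl⟩
        exact ⟨x * x', 𝔣.P.mul_mem hx hx', H.mul_mem hxH hx'H, pv_mul 𝔣 hx hx'⟩
      neg_mem' := by
        rintro a ⟨x, hx, hxH, rfl⟩
        exact ⟨x⁻¹, 𝔣.P.inv_mem hx, H.inv_mem hxH, pv_inv 𝔣 hx⟩ }
  have hSmem : ∀ v : K, v ∈ S ↔ ∃ x, ∃ hx : x ∈ 𝔣.P, x ∈ H ∧ pv 𝔣 x hx = v := fun v => Iff.rfl
  have hSω : ∀ v ∈ S, ω * v ∈ S := by
    rintro v ⟨x, hx, hxH, rfl⟩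
    have hx' : x₁⁻¹ * x * x₁ ∈ 𝔣.P := 𝔣.P.mul_mem (𝔣.P.mul_mem (𝔣.P.inv_mem hx₁) hx) hx₁
    have hpv' : pv 𝔣 (x₁⁻¹ * x * x₁) hx' = pv 𝔣 x hx := by
      rw [pv_mul 𝔣 (𝔣.P.mul_mem (𝔣.P.inv_mem hx₁) hx) hx₁, pv_mul 𝔣 (𝔣.P.inv_mem hx₁) hx,
        pv_inv 𝔣 hx₁]
      ring
    have he : h₀ * x * h₀⁻¹ = 𝔣.y * (x₁⁻¹ * x * x₁) * 𝔣.y⁻¹ := by
      rw [← hyeq]
      group
    have hmem : h₀ * x * h₀⁻¹ ∈ 𝔣.P := by
      rw [he]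
      exact 𝔣.y_norm _ hx'
    refine ⟨h₀ * x * h₀⁻¹, hmem, H.mul_mem (H.mul_mem hh₀ hxH) (H.inv_mem hh₀), ?_⟩
    rw [pv_congr 𝔣 he hmem (𝔣.y_norm _ hx'), pv_conj 𝔣 hx', hpv']
  rcases hirr S hSω with hS | hS
  · -- `H ⊓ P ≤ ker π ≤ Z(X)`
    have hcen : ∀ x ∈ H, x ∈ 𝔣.P → x ∈ Subgroup.center X := by
      intro x hxH hxP
      have h0 : pv 𝔣 x hxP = 0 := by
        have hm : pv 𝔣 x hxP ∈ S := ⟨x, hxP, hxH, rfl⟩
        rw [hS] at hm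
        exact AddSubgroup.mem_bot.mp hm
      exact Cfsg.Agent.Lib.Helper22.SchCENT.ker_le_center 𝔣 hgen ⟨x, hxP⟩
        ((pv_eq_zero_iff 𝔣 hxP).mp h0)
    -- `X = P ⟨h₀⟩`
    have hM : 𝔣.P ⊔ Subgroup.zpowers h₀ = ⊤ := by
      have hg : Subgroup.closure ((𝔣.P : Set X) ∪ {𝔣.y}) = ⊤ := hgen
      rw [eq_top_iff, ← hg, Subgroup.closure_le]
      rintro g (hg' | hg')
      · exact (le_sup_left : 𝔣.P ≤ 𝔣.P ⊔ Subgroup.zpowers h₀) hg'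
      · rw [Set.mem_singleton_iff] at hg'
        rw [hg', ← hyeq]
        exact (𝔣.P ⊔ Subgroup.zpowers h₀).mul_mem
          ((le_sup_right : Subgroup.zpowers h₀ ≤ 𝔣.P ⊔ Subgroup.zpowers h₀) (Subgroup.mem_zpowers h₀))
          ((le_sup_left : 𝔣.P ≤ 𝔣.P ⊔ Subgroup.zpowers h₀) hx₁)
    have hdec : ∀ a ∈ H, ∃ c ∈ Subgroup.center X, ∃ k : ℤ, a = c * h₀ ^ k := by
      intro a ha
      have hmem : a ∈ 𝔣.P ⊔ Subgroup.zpowers h₀ := by rw [hM]; trivial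
      obtain ⟨c, hc, z, hz, rfl⟩ := Subgroup.mem_sup_of_normal_left.mp hmem
      obtain ⟨k, rfl⟩ := Subgroup.mem_zpowers_iff.mp hz
      have hcH : c ∈ H := by
        have e : c = (c * h₀ ^ k) * (h₀ ^ k)⁻¹ := by group
        rw [e]
        exact H.mul_mem ha (H.inv_mem (H.zpow_mem hh₀ k))
      exact ⟨c, hcen c hcH hc, k, rfl⟩
    intro a ha b hb
    obtain ⟨c, hc, k, rfl⟩ := hdec a ha
    obtain ⟨c', hc', l, rfl⟩ := hdec b hb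
    rw [Subgroup.mem_center_iff] at hc hc'
    have hcc : ∀ g : X, Commute c g := fun g => (hc g).symm
    have hcc' : ∀ g : X, Commute c' g := fun g => (hc' g).symm
    have h1 : Commute (h₀ ^ k) (c' * h₀ ^ l) :=
      Commute.mul_right (hcc' (h₀ ^ k)).symm (Commute.zpow_zpow_self h₀ k l)
    exact (Commute.mul_left (hcc (c' * h₀ ^ l)) h1).eq
  · -- `H ⊓ P = P`, so `H = X`
    exfalso
    apply hH
    have hs : ∀ u : K, ∃ x, ∃ hx : x ∈ 𝔣.P, x ∈ H ⊓ 𝔣.P ∧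
        Multiplicative.toAdd (𝔣.π ⟨x, hx⟩) = u := by
      intro u
      have hu : u ∈ S := by rw [hS]; trivial
      obtain ⟨x, hx, hxH, hpv⟩ := hu
      exact ⟨x, hx, ⟨hxH, hx⟩, hpv⟩
    have hPH := Cfsg.Agent.Lib.Helper22.SchB5.eq_of_surj_of_isTight 𝔣 ht (H ⊓ 𝔣.P) inf_le_right hs
    have hle : 𝔣.P ≤ H := by
      rw [← hPH]
      exact inf_le_left
    rw [← hHP]
    exact (sup_eq_left.mpr hle).symm

end B

end Cfsg.Agent.Lib.Helper29.SchMIN2A
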