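/-
helper29: S4395 leaf (MIN2C) `hasNormalPComplement_of_central_product` - every subgroup of `P ⟨c⟩`
(`P` a `p`-group, `c` a `p'`-element centralizing `P`) has a normal `p`-complement.
-/
import Mathlib
import Cfsg.Prelude.Def_Transfer
import Cfsg.Agent.Lib.Helper21.SchDefs
import Cfsg.Agent.Lib.Helper29.MinNonPNilpotent
import Cfsg.Agent.Lib.Helper29.SchD1

set_option autoImplicit false
universe u v
open Cfsg
open Cfsg.Agent.Lib.Helper21.Sch

namespace Cfsg.Agent.Lib.Helper29.SchMIN2C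

section B
variable {p : ℕ} [Fact p.Prime] {K : Type*} [Field K] {ω : K} {X : Type*} [Group X]

/-- an element of `P ⟨c⟩` of order prime to `p` commutes with every element of `P ⟨c⟩` -/
theorem commute_of_coprime {X : Type u} [Group X] [Finite X] (p : ℕ) [Fact p.Prime]
    (P : Subgroup X) (c : X) (hP : IsPGroup p P)
    (hc : (orderOf c).Coprime p) (hcP : ∀ x ∈ P, c * x * c⁻¹ = x)
    (m : X) (hm : m ∈ P ⊔ Subgroup.zpowers c) (hmo : (orderOf m).Coprime p)
    (m' : X) (hm' : m' ∈ P ⊔ Subgroup.zpowers c) : m * m' = m' * m := by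
  have hp : p.Prime := Fact.out
  -- `⟨c⟩` centralizes `P`
  have hcomm : ∀ z ∈ Subgroup.zpowers c, ∀ x ∈ P, Commute z x := by
    intro z hz x hx
    obtain ⟨i, rfl⟩ := Subgroup.mem_zpowers_iff.mp hz
    have h0 : Commute c x := by
      have h := hcP x hx
      show c * x = x * c
      calc c * x = (c * x * c⁻¹) * c := by group
        _ = x * c := by rw [h]
    exact h0.zpow_left i
  have hzz : ∀ z ∈ Subgroup.zpowers c, ∀ z' ∈ Subgroup.zpowers c, Commute z z' := by
    intro z hz z' hz'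
    obtain ⟨i, rfl⟩ := Subgroup.mem_zpowers_iff.mp hz
    obtain ⟨j, rfl⟩ := Subgroup.mem_zpowers_iff.mp hz'
    exact Commute.zpow_zpow_self c i j
  have hn : ∀ z ∈ Subgroup.zpowers c, ∀ u ∈ P, z * u * z⁻¹ ∈ P := by
    intro z hz u hu
    have h := (hcomm z hz u hu).eq
    rw [h, mul_inv_cancel_right]
    exact hu
  have hdec := SchD1.mem_sup_zpowers_decomp P c hn
  -- `P ∩ ⟨c⟩ = 1`
  obtain ⟨k, hk⟩ := IsPGroup.iff_card.mp hP
  have hcopcard : (Nat.card P).Coprime (Nat.card (Subgroup.zpowers c)) := by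
    rw [hk, Nat.card_zpowers]
    exact Nat.Coprime.pow_left k hc.symm
  have hdisj : P ⊓ Subgroup.zpowers c = ⊥ :=
    disjoint_iff.mp (Subgroup.disjoint_of_coprime_natCard hcopcard)
  -- `m ∈ ⟨c⟩`
  obtain ⟨x, hx, z, hz, rfl⟩ := hdec m hm
  have hxz : Commute x z := (hcomm z hz x hx).symm
  have hx1 : x = 1 := by
    have h1 : (x * z) ^ orderOf (x * z) = 1 := pow_orderOf_eq_one _
    rw [hxz.mul_pow] at h1
    have h2 : x ^ orderOf (x * z) = (z ^ orderOf (x * z))⁻¹ := eq_inv_of_mul_eq_one_left h1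
    have h3 : x ^ orderOf (x * z) ∈ P ⊓ Subgroup.zpowers c :=
      ⟨P.pow_mem hx _, by rw [h2]; exact (Subgroup.zpowers c).inv_mem ((Subgroup.zpowers c).pow_mem hz _)⟩
    rw [hdisj, Subgroup.mem_bot] at h3
    have h4 : orderOf x ∣ orderOf (x * z) := orderOf_dvd_of_pow_eq_one h3
    obtain ⟨j, hj⟩ := hP ⟨x, hx⟩
    have h5 : x ^ p ^ j = 1 := by
      have := congrArg Subtype.val hj
      simpa using this
    have h6 : orderOf x ∣ p ^ j := orderOf_dvd_of_pow_eq_one h5
    have h7 : orderOf x ∣ Nat.gcd (orderOf (x * z)) (p ^ j) := Nat.dvd_gcd h4 h6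
    rw [(Nat.Coprime.pow_right j hmo).gcd_eq_one, Nat.dvd_one] at h7
    exact orderOf_eq_one_iff.mp h7
  rw [hx1, one_mul]
  obtain ⟨x', hx', z', hz', rfl⟩ := hdec m' hm'
  have e1 : Commute z x' := hcomm z hz x' hx'
  have e2 : Commute z z' := hzz z hz z' hz'
  exact (e1.mul_right e2).eq

/-- **TAG MIN2C** -/
theorem hasNormalPComplement_of_central_product {X : Type u} [Group X] [Finite X] (p : ℕ) [Fact p.Prime]
    (P : Subgroup X) (c : X) (hP : IsPGroup p P)
    (hc : (orderOf c).Coprime p) (hcP : ∀ x ∈ P, c * x * c⁻¹ = x)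
    (H : Subgroup X) (hH : H ≤ P ⊔ Subgroup.zpowers c) : Cfsg.HasNormalPComplement p ↥H := by
  have hF : FrobCond p ↥H := by
    intro Q _ h _ hcop
    rw [Subgroup.mem_centralizer_iff]
    intro y _
    apply Subtype.ext
    have hcop' : (orderOf (h : X)).Coprime p := by
      rw [Subgroup.orderOf_coe]
      exact hcop
    have := commute_of_coprime p P c hP hc hcP (h : X) (hH h.2) hcop' (y : X) (hH y.2)
    simpa using this.symm
  exact frobCond_iff.mp hF

end B

end Cfsg.Agent.Lib.Helper29.SchMIN2C
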