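import Mathlib
import Cfsg.Agent.Lib.Helper29.QuadPairBorel
import Cfsg.Agent.Lib.Helper29.QuadPairSection
import Cfsg.Agent.Lib.Helper12.HallHigman
import Cfsg.Agent.Lib.Helper24.PSolvable
import Cfsg.Agent.Lib.Helper25.PSolvableSub

/-!
# Quadratic elements in `p`-solvable groups (helper29): K-S 8.6.x / S0596, S0625
-/

set_option autoImplicit false
set_option linter.style.haveILetI false
set_option linter.unusedSectionVars false

namespace Cfsg.Agent.Lib.Helper29.QuadPair

open Subgroup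

section lemmaC

variable {X : Type*} [Group X] [Finite X] {p : ℕ} [hpF : Fact p.Prime]

/-- `N ⊴ X`, `Z ≤ N` central in `X` with `N/Z` a `p`-group and `p ∣ |N|`: then `X` has a
nontrivial normal `p`-subgroup. -/
theorem exists_normal_pSubgroup_of_central_ext (N Z : Subgroup X) [hNn : N.Normal]
    (hZc : Z ≤ center X) (hNZ : ∀ n ∈ N, ∃ k : ℕ, n ^ p ^ k ∈ Z)
    (hpN : p ∣ Nat.card N) :
    ∃ P₀ : Subgroup X, P₀.Normal ∧ IsPGroup p P₀ ∧ P₀ ≠ ⊥ := by
  haveI hZ'n : (Z.subgroupOf N).Normal := by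
    constructor
    intro z hz n
    rw [mem_subgroupOf] at hz ⊢
    have h1 := (mem_center_iff.mp (hZc hz)) (n : X)
    have : ((n * z * n⁻¹ : N) : X) = (z : X) := by
      simp only [Subgroup.coe_mul, InvMemClass.coe_inv]
      rw [h1, mul_inv_cancel_right]
    rw [this]
    exact hz
  have hker : (QuotientGroup.mk' (Z.subgroupOf N)).ker ≤ center N := by
    rw [QuotientGroup.ker_mk']
    intro z hz
    rw [mem_subgroupOf] at hz
    rw [mem_center_iff]
    intro n
    apply Subtype.ext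
    simp only [Subgroup.coe_mul]
    exact (mem_center_iff.mp (hZc hz)) (n : X)
  have hQp : IsPGroup p (N ⧸ Z.subgroupOf N) := by
    intro x
    obtain ⟨n, rfl⟩ := QuotientGroup.mk_surjective x
    obtain ⟨k, hk⟩ := hNZ n n.2
    refine ⟨k, ?_⟩
    rw [← QuotientGroup.mk_pow, QuotientGroup.eq_one_iff, mem_subgroupOf]
    simpa using hk
  haveI hnilQ : Group.IsNilpotent (N ⧸ Z.subgroupOf N) := hQp.isNilpotent
  haveI hnil : Group.IsNilpotent N :=
    Subgroup.isNilpotent_of_ker_le_center (QuotientGroup.mk' (Z.subgroupOf N)) hker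
  obtain ⟨P⟩ : Nonempty (Sylow p N) := inferInstance
  haveI hPn : (P : Subgroup N).Normal := inferInstance
  haveI hPc : (P : Subgroup N).Characteristic := Sylow.characteristic_of_normal P hPn
  refine ⟨(P : Subgroup N).map N.subtype, inferInstance, P.2.map _, ?_⟩
  intro h
  have h1 : (P : Subgroup N) = ⊥ := by
    rw [← Subgroup.map_eq_bot_iff_of_injective _ N.subtype_injective]
    exact h
  exact P.ne_bot_of_dvd_card hpN h1

end lemmaC

section thmD

open Matrix

variable {F : Type} [Field F] [Fintype F] {p : ℕ} [hpF : Fact p.Prime] [CharP F p]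

theorem isPGroup_zpowers_of_pow_eq_one' {Y : Type*} [Group Y] {a : Y} (ha : a ^ p = 1) :
    IsPGroup p (zpowers a) := by
  rintro ⟨x, hx⟩
  obtain ⟨k, rfl⟩ := mem_zpowers_iff.mp hx
  refine ⟨1, Subtype.ext ?_⟩
  simp only [pow_one, SubmonoidClass.mk_pow, OneMemClass.coe_one]
  rw [← zpow_natCast, ← _root_.zpow_mul, mul_comm, _root_.zpow_mul, zpow_natCast, ha, _root_.one_zpow]

set_option maxHeartbeats 800000 in
/-- A `p`-solvable subgroup of `SL₂(F)` (`p` odd) generated by two elements of order `p` that is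
not a `p`-group contains a copy of `SL(2,3)`, and `p = 3`. -/
theorem exists_SL23_subgroup_of_pSolvable (hp : p ≠ 2)
    (X : Subgroup (SpecialLinearGroup (Fin 2) F)) (s₁ s₂ : X)
    (hS : closure ({s₁, s₂} : Set X) = ⊤) (h₁ : s₁ ^ p = 1) (h₂ : s₂ ^ p = 1)
    (hnp : ¬ IsPGroup p X) (hsol : Cfsg.IsPSolvable p X) :
    p = 3 ∧ ∃ M : Subgroup (SpecialLinearGroup (Fin 2) F), M ≤ X ∧
      Nonempty (M ≃* SpecialLinearGroup (Fin 2) (ZMod 3)) := by
  have hSp : ∀ s ∈ ({s₁, s₂} : Set X), ∃ k : ℕ, s ^ p ^ k = 1 := by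
    rintro s (rfl | rfl)
    · exact ⟨1, by rw [pow_one]; exact h₁⟩
    · exact ⟨1, by rw [pow_one]; exact h₂⟩
  -- no nontrivial normal `p`-subgroup
  have hB : ∀ P₀ : Subgroup X, P₀.Normal → IsPGroup p P₀ → P₀ = ⊥ := by
    intro P₀ hn hP
    by_contra hne
    exact hnp (isPGroup_of_normal_pSubgroup X _ hS hSp P₀ hP hne)
  set Z : Subgroup X := center X with hZ
  -- `Z` is a `p'`-group
  have hZcop : (Nat.card Z).Coprime p := by
    rw [Nat.coprime_comm, Nat.Prime.coprime_iff_not_dvd hpF.out]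
    intro hdvd
    obtain ⟨u, hu⟩ := exists_prime_orderOf_dvd_card' (G := Z) p hdvd
    have hun : (zpowers (u : X)).Normal := by
      constructor
      intro y hy g
      obtain ⟨i, rfl⟩ := mem_zpowers_iff.mp hy
      have hc : (u : X) ^ i ∈ center X := zpow_mem u.2 i
      rw [mem_center_iff] at hc
      rw [hc g, mul_inv_cancel_right]
      exact zpow_mem (mem_zpowers _) i
    have hup : (u : X) ^ p = 1 := by
      have := pow_orderOf_eq_one u
      rw [hu] at this
      exact congrArg Subtype.val this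
    have := hB _ hun (isPGroup_zpowers_of_pow_eq_one' hup)
    rw [zpowers_eq_bot] at this
    have hu1 : u = 1 := Subtype.ext this
    rw [hu1, orderOf_one] at hu
    exact hpF.out.one_lt.ne hu
  -- `X / Z` is nontrivial
  have hZtop : Z ≠ ⊤ := by
    intro h
    apply hnp
    refine isPGroup_of_commuting_pair s₁ s₂ ?_ h₁ h₂ hS
    have h1 : s₁ ∈ Z := h ▸ mem_top s₁
    exact ((mem_center_iff.mp h1) s₂).symm
  haveI hnt : Nontrivial (X ⧸ Z) := by
    rw [QuotientGroup.nontrivial_iff]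
    exact hZtop
  have hsolQ : Cfsg.IsPSolvable p (X ⧸ Z) :=
    Cfsg.Agent.Lib.Helper24.isPSolvable_of_surjective p (QuotientGroup.mk' Z)
      (QuotientGroup.mk'_surjective Z) hsol
  obtain ⟨Nb, hNbn, -, hNbne, hcase⟩ :=
    Cfsg.Agent.Lib.Helper12.exists_normal_le_of_isPSolvable p hsolQ ⊤ top_ne_bot
  set N : Subgroup X := Nb.comap (QuotientGroup.mk' Z) with hN
  haveI hNn : N.Normal := hNbn.comap _
  have hZN : Z ≤ N := by
    intro z hz
    rw [hN, mem_comap, QuotientGroup.mk'_apply, (QuotientGroup.eq_one_iff z).mpr hz]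
    exact one_mem _
  have hmapN : N.map (QuotientGroup.mk' Z) = Nb :=
    map_comap_eq_self_of_surjective (QuotientGroup.mk'_surjective Z) Nb
  rcases hcase with hNbp | hNbc
  · -- `N / Z` a nontrivial `p`-group: contradiction
    exfalso
    have hpN : p ∣ Nat.card N := by
      have h1 : p ∣ Nat.card Nb := by
        obtain ⟨k, hk⟩ := IsPGroup.iff_card.mp hNbp
        rcases Nat.eq_zero_or_pos k with rfl | hk0
        · exfalso
          rw [pow_zero] at hk
          exact hNbne (Subgroup.card_eq_one.mp hk)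
        · rw [hk]; exact dvd_pow_self p hk0.ne'
      rw [← hmapN] at h1
      exact h1.trans (card_map_dvd _ _)
    have hNZ : ∀ n ∈ N, ∃ k : ℕ, n ^ p ^ k ∈ Z := by
      intro n hn
      obtain ⟨k, hk⟩ := hNbp ⟨QuotientGroup.mk' Z n, hn⟩
      refine ⟨k, ?_⟩
      have := congrArg Subtype.val hk
      simp only [SubmonoidClass.mk_pow, OneMemClass.coe_one, QuotientGroup.mk'_apply] at this
      rw [← QuotientGroup.mk_pow, QuotientGroup.eq_one_iff] at this
      exact this
    obtain ⟨P₀, hP₀n, hP₀p, hP₀ne⟩ :=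
      exists_normal_pSubgroup_of_central_ext N Z (le_refl _) hNZ hpN
    exact hP₀ne (hB P₀ hP₀n hP₀p)
  · -- `N / Z` a nontrivial `p'`-group
    have hNcop : (Nat.card N).Coprime p := by
      rw [Nat.coprime_comm, Nat.Prime.coprime_iff_not_dvd hpF.out]
      intro hdvd
      obtain ⟨n, hn⟩ := exists_prime_orderOf_dvd_card' (G := N) p hdvd
      have hnp' : n ^ p = 1 := by
        have := pow_orderOf_eq_one n
        rwa [hn] at this
      have hmem : QuotientGroup.mk' Z (n : X) ∈ Nb := n.2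
      have hnb : (⟨QuotientGroup.mk' Z (n : X), hmem⟩ : Nb) = 1 := by
        have e0 : (QuotientGroup.mk' Z (n : X)) ^ p = 1 := by
          rw [← map_pow]
          have : ((n : X)) ^ p = 1 := congrArg Subtype.val hnp'
          rw [this, map_one]
        have e1 : (⟨QuotientGroup.mk' Z (n : X), hmem⟩ : Nb) ^ p = 1 := Subtype.ext e0
        have d1 : orderOf (⟨QuotientGroup.mk' Z (n : X), hmem⟩ : Nb) ∣ p :=
          orderOf_dvd_of_pow_eq_one e1
        have d2 : orderOf (⟨QuotientGroup.mk' Z (n : X), hmem⟩ : Nb) ∣ Nat.card Nb :=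
          orderOf_dvd_natCard _
        have := Nat.Coprime.eq_one_of_dvd (Nat.Coprime.coprime_dvd_left d2 hNbc) d1
        exact orderOf_eq_one_iff.mp this
      have hnZ : (n : X) ∈ Z := by
        have := congrArg Subtype.val hnb
        simp only [OneMemClass.coe_one, QuotientGroup.mk'_apply] at this
        exact (QuotientGroup.eq_one_iff _).mp this
      have d3 : orderOf (⟨(n : X), hnZ⟩ : Z) ∣ Nat.card Z := orderOf_dvd_natCard _
      have d4 : orderOf (⟨(n : X), hnZ⟩ : Z) = p := by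
        rw [Subgroup.orderOf_mk, Subgroup.orderOf_coe, hn]
      rw [d4] at d3
      exact (Nat.Prime.coprime_iff_not_dvd hpF.out).mp hZcop.symm d3
    -- a non-central element of `N`
    obtain ⟨n, hnN, hnZ⟩ : ∃ n ∈ N, n ∉ Z := by
      by_contra hcon
      push Not at hcon
      apply hNbne
      rw [← hmapN, eq_bot_iff]
      rintro _ ⟨n, hn, rfl⟩
      rw [mem_bot, QuotientGroup.mk'_apply, QuotientGroup.eq_one_iff]
      exact hcon n hn
    -- `n` fails to commute with `s₁` or `s₂`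
    obtain ⟨u, hu, hun⟩ : ∃ u : X, u ^ p = 1 ∧ n * u ≠ u * n := by
      by_contra hcon
      push Not at hcon
      apply hnZ
      rw [hZ, mem_center_iff]
      have hle : closure ({s₁, s₂} : Set X) ≤ centralizer ({n} : Set X) := by
        rw [closure_le]
        rintro s (rfl | rfl)
        · rw [SetLike.mem_coe, mem_centralizer_iff]
          intro y hy
          rw [Set.mem_singleton_iff] at hy
          subst hy
          exact hcon _ h₁
        · rw [SetLike.mem_coe, mem_centralizer_iff]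
          intro y hy
          rw [Set.mem_singleton_iff] at hy
          subst hy
          exact hcon _ h₂
      intro g
      have hg : g ∈ centralizer ({n} : Set X) := hle (hS ▸ mem_top g)
      rw [mem_centralizer_iff] at hg
      exact (hg n rfl).symm
    set R : Subgroup (SpecialLinearGroup (Fin 2) F) := N.map X.subtype with hR
    set u' : SpecialLinearGroup (Fin 2) F := (u : SpecialLinearGroup (Fin 2) F) with hu'
    have hu'p : u' ^ p = 1 := by
      have := congrArg Subtype.val hu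
      simpa using this
    have hRcop : (Nat.card R).Coprime p :=
      Nat.Coprime.coprime_dvd_left (card_map_dvd _ _) hNcop
    have huR : u' ∈ normalizer (R : Set (SpecialLinearGroup (Fin 2) F)) := by
      apply le_normalizer_map X.subtype
      refine ⟨u, ?_, rfl⟩
      rw [normalizer_eq_top]
      exact mem_top _
    have hnt : ⁅R, zpowers u'⁆ ≠ ⊥ := by
      intro h
      rw [commutator_eq_bot_iff_le_centralizer] at h
      have h1 : ((n : X) : SpecialLinearGroup (Fin 2) F) ∈ R := ⟨n, hnN, rfl⟩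
      have h2 := h h1
      rw [mem_centralizer_iff] at h2
      have h3 := h2 u' (mem_zpowers u')
      apply hun
      apply Subtype.ext
      simp only [Subgroup.coe_mul]
      exact h3.symm
    obtain ⟨hp3, -, ⟨e⟩⟩ := Cfsg.Agent.S3740.result F hp u'
      (isPGroup_zpowers_of_pow_eq_one' hu'p) R hRcop huR hnt
    refine ⟨hp3, R ⊔ zpowers u', ?_, ⟨e⟩⟩
    apply sup_le
    · rintro _ ⟨y, -, rfl⟩
      exact y.2
    · rw [zpowers_le]
      exact u.2

end thmD

section T596

variable {p : ℕ} [hpF : Fact p.Prime] {H : Type*} [Group H] [Finite H]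
  {V : Type*} [AddCommGroup V] [Module (ZMod p) V] [Finite V]

/-- abstract S0596: a quadratic element outside `O_p(H)`, `H` `p`-solvable acting faithfully,
forces `p = 3` and an `SL(2,3)` section. -/
theorem exists_SL23_of_pSolvable (hp : p ≠ 2) (hsol : Cfsg.IsPSolvable p H)
    (ρ₀ : Representation (ZMod p) H V) (hinj : ∀ g, ρ₀ g = 1 → g = 1) (a : H)
    (ha : IsQuad ρ₀ a) (hna : a ∉ Cfsg.pCore p H) :
    p = 3 ∧ ∃ (K : Subgroup H) (ψ : K →* Matrix.SpecialLinearGroup (Fin 2) (ZMod 3)),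
      Function.Surjective ψ := by
  obtain ⟨g, hg⟩ := exists_conj_not_pgroup ρ₀ hinj a ha hna
  have hap : a ^ p = 1 := pow_prime_eq_one_of_isQuad ρ₀ hinj ha
  set b : H := g * a * g⁻¹ with hb
  have hbp : b ^ p = 1 := pow_prime_eq_one_of_isQuad ρ₀ hinj (ha.conj g)
  set H₁ : Subgroup H := closure ({a, b} : Set H) with hH₁
  have haH : a ∈ H₁ := subset_closure (by simp)
  have hbH : b ∈ H₁ := subset_closure (by simp)
  have hsol₁ : Cfsg.IsPSolvable p H₁ := Cfsg.Agent.Lib.Helper25.isPSolvable_subgroup p hsol H₁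
  have hinj₁ : ∀ y : H₁, (ρ₀.comp H₁.subtype) y = 1 → y = 1 := by
    intro y hy
    exact Subtype.ext (hinj _ hy)
  have hG₁ := closure_pair_eq_top H₁ a b haH hbH hH₁
  obtain ⟨n, φ, hφ⟩ := exists_hom_SL2 (ρ₀.comp H₁.subtype) hinj₁ ⟨a, haH⟩ ⟨b, hbH⟩ hG₁
    (ha.comp_subtype H₁ haH) ((ha.conj g).comp_subtype H₁ hbH) hg
  letI : Fintype (GaloisField p n) := Fintype.ofFinite _
  set f := φ.rangeRestrict with hf
  have hfs : Function.Surjective f := φ.rangeRestrict_surjective
  have hS : closure ({f ⟨a, haH⟩, f ⟨b, hbH⟩} : Set φ.range) = ⊤ := by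
    have h1 : (closure ({⟨a, haH⟩, ⟨b, hbH⟩} : Set H₁)).map f = ⊤ := by
      rw [hG₁, ← MonoidHom.range_eq_map, MonoidHom.range_eq_top.mpr hfs]
    rw [MonoidHom.map_closure, Set.image_pair] at h1
    exact h1
  have h₁ : (f ⟨a, haH⟩) ^ p = 1 := by
    rw [← map_pow]
    have : (⟨a, haH⟩ : H₁) ^ p = 1 := Subtype.ext (by simpa using hap)
    rw [this, map_one]
  have h₂ : (f ⟨b, hbH⟩) ^ p = 1 := by
    rw [← map_pow]
    have : (⟨b, hbH⟩ : H₁) ^ p = 1 := Subtype.ext (by simpa using hbp)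
    rw [this, map_one]
  have hsolX : Cfsg.IsPSolvable p φ.range :=
    Cfsg.Agent.Lib.Helper24.isPSolvable_of_surjective p f hfs hsol₁
  obtain ⟨hp3, M, hMX, ⟨e⟩⟩ :=
    exists_SL23_subgroup_of_pSolvable hp φ.range _ _ hS h₁ h₂ hφ hsolX
  refine ⟨hp3, ?_⟩
  let ψ₁ : M.comap φ →* M := φ.subgroupComap M
  have hψ₁ : Function.Surjective ψ₁ := by
    rintro ⟨y, hy⟩
    obtain ⟨h, rfl⟩ := hMX hy
    exact ⟨⟨h, hy⟩, rfl⟩
  obtain ⟨K, ψ, -, hψ⟩ := exists_surj_of_subgroup H₁ (M.comap φ) (e.toMonoidHom.comp ψ₁)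
    (e.surjective.comp hψ₁)
  exact ⟨K, ψ, hψ⟩

end T596

section S596sub

universe u

variable {p : ℕ} [hpF : Fact p.Prime] {G : Type u} [Group G]

/-- Statement S0596. -/
theorem exists_SL23_section_of_pSolvable_subgroups [Finite G] (hp : p ≠ 2) (V H : Subgroup G)
    (hVc : ∀ x ∈ V, ∀ y ∈ V, x * y = y * x) (hVp : ∀ x ∈ V, x ^ p = 1)
    (hHV : H ≤ normalizer (V : Set G)) (hf : H ⊓ centralizer (V : Set G) = ⊥)
    (hsep : Cfsg.IsPSolvable p H)
    (a : G) (haH : a ∈ H) (hq : ⁅⁅V, zpowers a⁆, zpowers a⁆ = ⊥)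
    (hna : a ∉ (Cfsg.pCore p H).map H.subtype) :
    p = 3 ∧ ∃ (K L : Subgroup G) (hL : (L.subgroupOf K).Normal), K ≤ H ∧
      Nonempty ((K ⧸ L.subgroupOf K) ≃* Matrix.SpecialLinearGroup (Fin 2) (ZMod 3)) := by
  obtain ⟨W, _, _, _, ρ₀, hinj, hquad⟩ := exists_rep_of_subgroups (p := p) V H hVc hVp hHV hf
  obtain ⟨hp3, K₁, ψ₁, hψ₁⟩ := exists_SL23_of_pSolvable hp hsep ρ₀ hinj ⟨a, haH⟩
    (hquad ⟨a, haH⟩ hq) (by
      intro h
      exact hna ⟨⟨a, haH⟩, h, rfl⟩)
  obtain ⟨K, ψ, hKH, hψ⟩ := exists_surj_of_subgroup H K₁ ψ₁ hψ₁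
  obtain ⟨L, hL, hiso⟩ := exists_section_of_surj K ψ hψ
  exact ⟨hp3, K, L, hL, hKH, hiso⟩

end S596sub

end Cfsg.Agent.Lib.Helper29.QuadPair
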