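import Mathlib
import Cfsg.Agent.Lib.Helper29.QuadPairSolv
import Cfsg.Agent.Lib.Helper29.QuadPairPStable

/-!
# `p`-solvable groups are `p`-stable in the action sense for `p ≥ 5` (helper29)
-/

set_option autoImplicit false
set_option linter.style.haveILetI false
set_option linter.unusedSectionVars false

namespace Cfsg.Agent.Lib.Helper29.QuadPair

open Subgroup

universe u

variable {p : ℕ} [hpF : Fact p.Prime]

theorem quadCore_of_isPSolvable (hp : 5 ≤ p) (Γ : Type u) [Group Γ] [Finite Γ]
    (hsol : Cfsg.IsPSolvable p Γ) : QuadCore p Γ := by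
  intro C _ A _ _ hA act hinj a hquad
  obtain ⟨iM, ρ₀, hρ₀⟩ := exists_rep (p := p) hA act
  have hinj' : ∀ g, ρ₀ g = 1 → g = 1 := by
    intro g hg
    apply hinj
    rw [map_one]
    ext x
    have := congrArg (fun f => f (Additive.ofMul x)) hg
    simp only [hρ₀, Module.End.one_apply] at this
    exact Additive.ofMul.injective this
  by_contra hna
  have hsolQ : Cfsg.IsPSolvable p (Γ ⧸ C) :=
    Cfsg.Agent.Lib.Helper24.isPSolvable_of_surjective p (QuotientGroup.mk' C)
      (QuotientGroup.mk'_surjective C) hsol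
  have h3 := (exists_SL23_of_pSolvable (by omega) hsolQ ρ₀ hinj' a
    (isQuad_of_act act ρ₀ hρ₀ a hquad) hna).1
  omega

/-- Statement S0625. -/
theorem isActionPStable_of_isPSolvable {G : Type u} [Group G] [Finite G] (hp : 5 ≤ p)
    (hsep : Cfsg.IsPSolvable p G) : Cfsg.IsActionPStable p G := by
  apply isActionPStable_of_quadCore (quadCore_of_isPSolvable hp G hsep)
  intro S
  exact quadCore_of_isPSolvable hp _ (Cfsg.Agent.Lib.Helper25.isPSolvable_subgroup p hsep _)

end Cfsg.Agent.Lib.Helper29.QuadPair
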