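import Mathlib

/-!
# TI Hall subgroups: general lemmas (helper29)

* `card_conj_union_of_ti`: Frobenius counting: if `k A k⁻¹ ∩ A ≠ 1` forces `k ∈ A`, the nonidentity
  elements of the conjugates of `A` number `|X : A| (|A| - 1)`.
* `not_dvd_index_map_sylow_of_hall`: a Sylow subgroup of a Hall subgroup is Sylow in the group.
* `mem_of_mem_normalizer_of_primes`: a `π(H)`-element normalizing the Hall subgroup `H` lies in `H`.
-/

set_option autoImplicit false

namespace Cfsg.Agent.Lib.Helper29

open Subgroup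

universe u

/-- **Frobenius counting.** -/
theorem card_conj_union_of_ti {X : Type u} [Group X] [Finite X] (A : Subgroup X)
    (hTI : ∀ k : X, (∃ w ∈ A, w ≠ 1 ∧ k * w * k⁻¹ ∈ A) → k ∈ A) :
    Nat.card {y : X // ∃ k : X, ∃ w ∈ A, w ≠ 1 ∧ y = k * w * k⁻¹}
      = A.index * (Nat.card A - 1) := by
  classical
  have hcardA : Nat.card {w : A // w ≠ 1} = Nat.card A - 1 := by
    have : Fintype A := Fintype.ofFinite A
    rw [Nat.card_eq_fintype_card, Nat.card_eq_fintype_card, Fintype.card_subtype,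
      Finset.filter_ne', Finset.card_erase_of_mem (Finset.mem_univ _), Finset.card_univ]
  let f : (X ⧸ A) × {w : A // w ≠ 1} → {y : X // ∃ k : X, ∃ w ∈ A, w ≠ 1 ∧ y = k * w * k⁻¹} :=
    fun cw => ⟨cw.1.out * (cw.2.1 : X) * cw.1.out⁻¹, cw.1.out, (cw.2.1 : X), cw.2.1.2,
      fun h => cw.2.2 (Subtype.ext h), rfl⟩
  have hf : Function.Bijective f := by
    constructor
    · rintro ⟨c, ⟨w, hw⟩⟩ ⟨c', ⟨w', hw'⟩⟩ h
      have h1 : c.out * (w : X) * c.out⁻¹ = c'.out * (w' : X) * c'.out⁻¹ := congrArg Subtype.val h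
      have h2 : (c'.out⁻¹ * c.out) * (w : X) * (c'.out⁻¹ * c.out)⁻¹ = (w' : X) := by
        have : (c'.out⁻¹ * c.out) * (w : X) * (c'.out⁻¹ * c.out)⁻¹
            = c'.out⁻¹ * (c.out * (w : X) * c.out⁻¹) * c'.out := by group
        rw [this, h1]; group
      have h3 : c'.out⁻¹ * c.out ∈ A :=
        hTI _ ⟨(w : X), w.2, fun h => hw (Subtype.ext h), by rw [h2]; exact w'.2⟩
      have h4 : c' = c := by
        rw [← QuotientGroup.out_eq' c', ← QuotientGroup.out_eq' c]
        exact QuotientGroup.eq.mpr h3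
      subst h4
      have h5 : (w : X) = (w' : X) := by
        have := congrArg (fun t => c'.out⁻¹ * t * c'.out) h1
        simpa [mul_assoc] using this
      have h6 : w = w' := Subtype.ext h5
      subst h6
      rfl
    · rintro ⟨y, k, w, hwA, hw1, rfl⟩
      set c : X ⧸ A := (k : X ⧸ A) with hc
      have hα : c.out⁻¹ * k ∈ A := QuotientGroup.eq.mp (QuotientGroup.out_eq' c)
      have hw'' : (c.out⁻¹ * k) * w * (c.out⁻¹ * k)⁻¹ ∈ A :=
        A.mul_mem (A.mul_mem hα hwA) (A.inv_mem hα)
      have hne : (⟨(c.out⁻¹ * k) * w * (c.out⁻¹ * k)⁻¹, hw''⟩ : A) ≠ 1 := by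
        intro h
        have h1 : (c.out⁻¹ * k) * w * (c.out⁻¹ * k)⁻¹ = 1 := congrArg Subtype.val h
        apply hw1
        have := congrArg (fun t => (c.out⁻¹ * k)⁻¹ * t * (c.out⁻¹ * k)) h1
        simpa [mul_assoc] using this
      refine ⟨(c, ⟨⟨_, hw''⟩, hne⟩), ?_⟩
      apply Subtype.ext
      show c.out * ((c.out⁻¹ * k) * w * (c.out⁻¹ * k)⁻¹) * c.out⁻¹ = k * w * k⁻¹
      group
  rw [← Nat.card_congr (Equiv.ofBijective f hf), Nat.card_prod, hcardA, Subgroup.index_eq_card]

/-- A Sylow subgroup of a Hall subgroup is a Sylow subgroup of the whole group. -/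
theorem not_dvd_index_map_sylow_of_hall {G : Type u} [Group G] [Finite G] (H : Subgroup G)
    (hHall : (Nat.card H).Coprime H.index) {q : ℕ} [Fact q.Prime] (hqH : q ∣ Nat.card H)
    (S : Sylow q H) : ¬ q ∣ ((S : Subgroup H).map H.subtype).index := by
  have hq : q.Prime := Fact.out
  have h1 : ((S : Subgroup H).map H.subtype).index = (S : Subgroup H).index * H.index := by
    rw [← Subgroup.relIndex_mul_index (Subgroup.map_subtype_le (S : Subgroup H))]
    congr 1
    rw [Subgroup.relIndex, Subgroup.subgroupOf,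
      Subgroup.comap_map_eq_self_of_injective H.subtype_injective]
  rw [h1]
  intro hd
  rcases hq.dvd_mul.mp hd with h | h
  · exact S.not_dvd_index h
  · exact hq.ne_one (Nat.eq_one_of_dvd_coprimes hHall hqH h)

/-- An element normalizing a Hall subgroup `H`, whose order only involves primes dividing `|H|`,
lies in `H`. -/
theorem mem_of_mem_normalizer_of_primes {G : Type u} [Group G] [Finite G] (H : Subgroup G)
    (hHall : (Nat.card H).Coprime H.index) (y : G) (hy : y ∈ normalizer (H : Set G))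
    (hpi : ∀ q : ℕ, q.Prime → q ∣ orderOf y → q ∣ Nat.card H) : y ∈ H := by
  have hn : (H.subgroupOf (normalizer (H : Set G))).Normal := Subgroup.normal_in_normalizer
  have hcop : (orderOf y).Coprime (H.subgroupOf (normalizer (H : Set G))).index := by
    apply Nat.coprime_of_dvd
    intro r hr hr1 hr2
    have h1 : r ∣ H.index := hr2.trans (Subgroup.relIndex_dvd_index_of_le Subgroup.le_normalizer)
    exact hr.ne_one (Nat.eq_one_of_dvd_coprimes hHall (hpi r hr hr1) h1)
  have h0 : (⟨y, hy⟩ : normalizer (H : Set G)) ∈ H.subgroupOf (normalizer (H : Set G)) := by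
    rw [← QuotientGroup.eq_one_iff]
    have h1 : ((⟨y, hy⟩ : normalizer (H : Set G)) :
        normalizer (H : Set G) ⧸ H.subgroupOf (normalizer (H : Set G))) ^ orderOf y = 1 := by
      rw [← QuotientGroup.mk_pow]
      have : (⟨y, hy⟩ : normalizer (H : Set G)) ^ orderOf y = 1 :=
        Subtype.ext (by simp [pow_orderOf_eq_one])
      rw [this, QuotientGroup.mk_one]
    have h2 : ((⟨y, hy⟩ : normalizer (H : Set G)) :
        normalizer (H : Set G) ⧸ H.subgroupOf (normalizer (H : Set G))) ^
          (H.subgroupOf (normalizer (H : Set G))).index = 1 := by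
      rw [Subgroup.index_eq_card]
      exact pow_card_eq_one'
    have h3 := pow_gcd_eq_one.mpr ⟨h1, h2⟩
    rw [Nat.Coprime.gcd_eq_one hcop, pow_one] at h3
    exact h3
  exact Subgroup.mem_subgroupOf.mp h0

end Cfsg.Agent.Lib.Helper29
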