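/-
helper29: S4481 leaf (DIH) `dih_struct` - the structure of a dihedral group of order `2^n ≥ 8` around an element of
order `2^(n-1)`.
-/
import Mathlib
import Cfsg.Prelude.Def_Blocks
import Cfsg.Agent.Lib.Helper6.DihBlkDefs
import Cfsg.Agent.Lib.Lead.BrLeo12
import Cfsg.Agent.S0514

set_option autoImplicit false

namespace Cfsg.Agent.Lib.Helper29.DIHDIH

open Cfsg Cfsg.Agent.CharLib
open Cfsg.Agent.Lib.Helper6.DihBlk
open scoped ComplexConjugate

section group_part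

set_option linter.unusedSectionVars false

variable {G : Type*} [Group G] [Finite G]

/-- **DIH** the structure of a dihedral group of order `2^n ≥ 8` around an element of order `2^(n-1)`. -/
theorem dih_struct (n : ℕ) (hn : 3 ≤ n) (P : Subgroup G)
    (hP : Nonempty (↥P ≃* DihedralGroup (2 ^ (n - 1)))) (σ : G) (hσ : σ ∈ P)
    (hσo : orderOf σ = 2 ^ (n - 1)) :
    Nat.card P = 2 ^ n ∧ (∀ x ∈ P, x ∉ Subgroup.zpowers σ → x * σ * x⁻¹ = σ⁻¹) ∧
      (∀ x ∈ P, x ∉ Subgroup.zpowers σ → x * x = 1) := by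
  obtain ⟨e⟩ := hP
  have hN4 : 4 ≤ 2 ^ (n - 1) := by
    calc 4 = 2 ^ 2 := by norm_num
      _ ≤ 2 ^ (n - 1) := Nat.pow_le_pow_right (by norm_num) (by omega)
  generalize hN : 2 ^ (n - 1) = N at e hσo hN4
  have : NeZero N := ⟨by omega⟩
  have hcard : Nat.card P = 2 ^ n := by
    rw [Nat.card_congr e.toEquiv, DihedralGroup.nat_card, ← hN, ← pow_succ']
    congr 1
    omega
  have hso : orderOf (e ⟨σ, hσ⟩) = N := by
    rw [MulEquiv.orderOf_eq, Subgroup.orderOf_mk]
    exact hσo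
  obtain ⟨i, hi⟩ : ∃ i, e ⟨σ, hσ⟩ = DihedralGroup.r i := by
    rcases h : e ⟨σ, hσ⟩ with i | i
    · exact ⟨i, rfl⟩
    · exfalso
      rw [h, DihedralGroup.orderOf_sr] at hso
      omega
  have hrot : ∀ j : ZMod N, DihedralGroup.r j ∈ Subgroup.zpowers (DihedralGroup.r i) := by
    have hle : Subgroup.zpowers (DihedralGroup.r i) ≤
        Subgroup.zpowers (DihedralGroup.r (1 : ZMod N)) := by
      rw [Subgroup.zpowers_le, Subgroup.mem_zpowers_iff]
      exact ⟨(i.val : ℤ), by rw [zpow_natCast, DihedralGroup.r_one_pow, ZMod.natCast_zmod_val]⟩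
    have hcard' : Nat.card (Subgroup.zpowers (DihedralGroup.r (1 : ZMod N))) ≤
        Nat.card (Subgroup.zpowers (DihedralGroup.r i)) := by
      rw [Nat.card_zpowers, Nat.card_zpowers, DihedralGroup.orderOf_r_one, ← hi, hso]
    have heq := Subgroup.eq_of_le_of_card_ge hle hcard'
    intro j
    rw [heq, Subgroup.mem_zpowers_iff]
    exact ⟨(j.val : ℤ), by rw [zpow_natCast, DihedralGroup.r_one_pow, ZMod.natCast_zmod_val]⟩
  have hsr : ∀ x (hx : x ∈ P), x ∉ Subgroup.zpowers σ → ∃ j, e ⟨x, hx⟩ = DihedralGroup.sr j := by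
    intro x hx hxn
    rcases h : e ⟨x, hx⟩ with j | j
    · exfalso
      apply hxn
      obtain ⟨k, hk⟩ := Subgroup.mem_zpowers_iff.mp (hrot j)
      have h1 : e ((⟨σ, hσ⟩ : ↥P) ^ k) = e ⟨x, hx⟩ := by rw [map_zpow, hi, hk, h]
      have h2 := e.injective h1
      rw [Subgroup.mem_zpowers_iff]
      refine ⟨k, ?_⟩
      have h3 := congrArg Subtype.val h2
      simpa using h3
    · exact ⟨j, rfl⟩
  refine ⟨hcard, ?_, ?_⟩
  · intro x hx hxn
    obtain ⟨j, hj⟩ := hsr x hx hxn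
    have h1 : e ((⟨x, hx⟩ : ↥P) * ⟨σ, hσ⟩ * (⟨x, hx⟩ : ↥P)⁻¹) = e ((⟨σ, hσ⟩ : ↥P)⁻¹) := by
      rw [map_mul, map_mul, map_inv, map_inv, hj, hi, DihedralGroup.inv_sr, DihedralGroup.sr_mul_r,
        DihedralGroup.sr_mul_sr, DihedralGroup.inv_r]
      congr 1
      ring
    have h2 := congrArg Subtype.val (e.injective h1)
    simpa using h2
  · intro x hx hxn
    obtain ⟨j, hj⟩ := hsr x hx hxn
    have h1 : e ((⟨x, hx⟩ : ↥P) * ⟨x, hx⟩) = e 1 := by
      rw [map_mul, hj, map_one, DihedralGroup.sr_mul_self]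
    have h2 := congrArg Subtype.val (e.injective h1)
    simpa using h2

end group_part

end Cfsg.Agent.Lib.Helper29.DIHDIH
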