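/-
helper29: S4504 step (VI), leaf BRVI-EVAL (`e_eval`) of `notes/S4504_VI_leaves.lean` (planner helper23).
-/
import Mathlib
import Cfsg.Prelude.Def_BlockRank
import Cfsg.Agent.Lib.Helper6.BRHDefs
import Cfsg.Agent.Lib.Helper23.BRVIDefs
import Cfsg.Agent.Lib.Helper29.BRVISING

set_option autoImplicit false

namespace Cfsg.Agent.Lib.Helper29.BRVIEVAL

open Cfsg Cfsg.Agent.Lib.Helper8.DOM Cfsg.Agent.Lib.Helper27.DO Cfsg.Agent.CharLib
open Cfsg.Agent.Lib.Helper6.BRH Cfsg.Agent.Lib.Helper23.BRVI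
open scoped ComplexConjugate

universe u

variable {G : Type u} [Group G] [Finite G] {p : ℕ} [Fact p.Prime]

/-- a sum of `conj χ(y) / χ(1)` over characters of the same degree -/
theorem finsum_conj_div (S : Set (IrrCharacter G)) (y : G) (D : ℂ)
    (hD : ∀ η ∈ S, (η : G → ℂ) 1 = D) :
    ∑ᶠ η ∈ S, conj ((η : G → ℂ) y) / (η : G → ℂ) 1 = conj (∑ᶠ η ∈ S, (η : G → ℂ) y) / D := by
  have hS : S.Finite := Set.toFinite S
  rw [finsum_mem_eq_finite_toFinset_sum _ hS, finsum_mem_eq_finite_toFinset_sum _ hS, map_sum,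
    Finset.sum_div]
  apply Finset.sum_congr rfl
  intro η hη
  rw [hD η ((Set.Finite.mem_toFinset hS).mp hη)]

/-- `X = {1} ⊔ X⁺ ⊔ X⁻` -/
theorem finsum_X_split (P : Subgroup G) (hP : Nat.card P = p)
    (X Y : Set (IrrCharacter G)) (v : IrrCharacter G → ℤ) (ε : ℤ) (d : B0 p P X Y v ε)
    (g : IrrCharacter G → ℂ) :
    ∑ᶠ η ∈ X, g η = g (trivIrr G) + ∑ᶠ η ∈ Xp X v, g η + ∑ᶠ η ∈ Xm X v, g η := by
  classical
  obtain ⟨x, hxP, hxs⟩ := Cfsg.Agent.Lib.Helper29.BRVISING.exists_singular P hP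
  have hvt : v (trivIrr G) = 1 := by
    have h := d.valX (trivIrr G) d.trivX x hxs
    have h1 : (trivIrr G : G → ℂ) x = 1 := rfl
    rw [h1] at h
    exact_mod_cast h.symm
  have hX : X = ({trivIrr G} ∪ Xp X v) ∪ Xm X v := by
    ext η
    simp only [Set.mem_union, Set.mem_singleton_iff, Xp, Xm, Set.mem_ofPred_eq]
    constructor
    · intro hη
      rcases d.sgnX η hη with h | h
      · by_cases ht : η = trivIrr G
        · exact Or.inl (Or.inl ht)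
        · exact Or.inl (Or.inr ⟨hη, h, ht⟩)
      · exact Or.inr ⟨hη, h⟩
    · rintro ((rfl | ⟨h, -, -⟩) | ⟨h, -⟩)
      · exact d.trivX
      · exact h
      · exact h
  have hd1 : Disjoint ({trivIrr G} : Set (IrrCharacter G)) (Xp X v) := by
    rw [Set.disjoint_left]
    intro η hη hη'
    exact hη'.2.2 hη
  have hd2 : Disjoint (({trivIrr G} : Set (IrrCharacter G)) ∪ Xp X v) (Xm X v) := by
    rw [Set.disjoint_left]
    rintro η (hη | hη) hη'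
    · have h1 : η = trivIrr G := hη
      have h2 : v η = -1 := hη'.2
      rw [h1, hvt] at h2
      omega
    · have h1 : v η = 1 := hη.2.1
      have h2 : v η = -1 := hη'.2
      omega
  conv_lhs => rw [hX]
  rw [finsum_mem_union hd2 (Set.toFinite _) (Set.toFinite _),
    finsum_mem_union hd1 (Set.toFinite _) (Set.toFinite _), finsum_mem_singleton]

/-- EVAL : the value of the right side of ESIDE at a `p`-regular element, in both cases. -/
theorem e_eval (P : Subgroup G) (hP : Nat.card P = p) (f : ℕ) (hf : (Cz P).relIndex (Nz P) = f) (hf2 : 2 ≤ f)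
    (h2f : 2 * f = p - 1)
    (ψ ψ' : IrrCharacter G) (hreg : ∀ g : G, ¬ p ∣ orderOf g → (ψ' : G → ℂ) g = (ψ : G → ℂ) g)
    (X Y : Set (IrrCharacter G)) (v : IrrCharacter G → ℤ) (ε : ℤ) (d : B0 p P X Y v ε)
    (hYreg : ∀ ξ ∈ Y, ∀ ξ' ∈ Y, ∀ g : G, ¬ p ∣ orderOf g → (ξ : G → ℂ) g = (ξ' : G → ℂ) g)
    (hdegp : ∀ η ∈ X, v η = 1 → η ≠ trivIrr G → charDegree (η : G → ℂ) = p + 1)
    (hdegm : ∀ η ∈ X, v η = -1 → charDegree (η : G → ℂ) = p - 1)
    (hcase : CaseA f ψ ψ' X Y v ∨ CaseB f ψ ψ' X Y v) (y : G) (hy : ¬ p ∣ orderOf y) :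
    4 * ∑ᶠ η ∈ X, conj ((η : G → ℂ) y) / (η : G → ℂ) 1 + ∑ᶠ ξ ∈ Y, conj ((ξ : G → ℂ) y) / (ξ : G → ℂ) 1 =
      ((2 * (2 * (f : ℝ) + 1) * ((f : ℝ) + Complex.normSq ((ψ : G → ℂ) y)) / ((f : ℝ) * ((f : ℝ) + 1)) : ℝ) : ℂ) := by
  classical
  have hpp : p.Prime := Fact.out
  have hp1 : 1 < p := hpp.one_lt
  have hpf : p = 2 * f + 1 := by omega
  have hY : Y.Finite := Set.toFinite Y
  have hcardY : hY.toFinset.card = 2 := by
    have h := d.cardY
    rw [Nat.card_coe_set_eq, Set.ncard_eq_toFinset_card Y hY, hf, ← h2f] at h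
    rw [h]
    exact Nat.mul_div_cancel _ (by omega)
  have hf0 : (f : ℂ) ≠ 0 := Nat.cast_ne_zero.mpr (by omega)
  have hf1 : (f : ℂ) + 1 ≠ 0 := Nat.cast_add_one_ne_zero f
  -- the three pieces of X
  have hXp : ∑ᶠ η ∈ Xp X v, conj ((η : G → ℂ) y) / (η : G → ℂ) 1 =
      conj (∑ᶠ η ∈ Xp X v, (η : G → ℂ) y) / (2 * ((f : ℂ) + 1)) := by
    apply finsum_conj_div
    intro η hη
    rw [Cfsg.Agent.Lib.Helper6.BRH.apply_one_eq, hdegp η hη.1 hη.2.1 hη.2.2, hpf]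
    push_cast
    ring
  have hXm : ∑ᶠ η ∈ Xm X v, conj ((η : G → ℂ) y) / (η : G → ℂ) 1 =
      conj (∑ᶠ η ∈ Xm X v, (η : G → ℂ) y) / (2 * (f : ℂ)) := by
    apply finsum_conj_div
    intro η hη
    rw [Cfsg.Agent.Lib.Helper6.BRH.apply_one_eq, hdegm η hη.1 hη.2, ← h2f]
    push_cast
    ring
  have htriv : conj ((trivIrr G : G → ℂ) y) / (trivIrr G : G → ℂ) 1 = 1 := by
    have h1 : ∀ g : G, (trivIrr G : G → ℂ) g = 1 := fun _ => rfl
    rw [h1, h1, map_one, div_one]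
  -- the sum over Y
  have hYsum : ∀ ξ0 ∈ Y, ∀ D : ℂ, (∀ ξ ∈ Y, (ξ : G → ℂ) 1 = D) →
      ∑ᶠ ξ ∈ Y, conj ((ξ : G → ℂ) y) / (ξ : G → ℂ) 1 = 2 * conj ((ξ0 : G → ℂ) y) / D := by
    intro ξ0 hξ0 D hD
    rw [finsum_conj_div Y y D hD]
    have : ∑ᶠ ξ ∈ Y, (ξ : G → ℂ) y = 2 * (ξ0 : G → ℂ) y := by
      rw [finsum_mem_eq_finite_toFinset_sum _ hY]
      have h : ∀ ξ ∈ hY.toFinset, (ξ : G → ℂ) y = (ξ0 : G → ℂ) y := fun ξ hξ =>
        hYreg ξ ((Set.Finite.mem_toFinset hY).mp hξ) ξ0 hξ0 y hy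
      rw [Finset.sum_congr rfl h, Finset.sum_const, hcardY]
      simp
    rw [this, map_mul, Complex.conj_ofNat]
  have hR : (ψ : G → ℂ) y * conj ((ψ : G → ℂ) y) = ((Complex.normSq ((ψ : G → ℂ) y) : ℝ) : ℂ) :=
    Complex.mul_conj _
  rw [finsum_X_split P hP X Y v ε d, htriv, hXp, hXm]
  set R : ℝ := Complex.normSq ((ψ : G → ℂ) y) with hRdef
  rcases hcase with ⟨hdY, -, h1, ξ0, hξ0, h2⟩ | ⟨hdY, -, ⟨ξ0, hξ0, h1⟩, h2⟩
  · -- case A
    have hD : ∀ ξ ∈ Y, (ξ : G → ℂ) 1 = (f : ℂ) := by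
      intro ξ hξ
      rw [Cfsg.Agent.Lib.Helper6.BRH.apply_one_eq, hdY ξ hξ]
    have hA : ∑ᶠ η ∈ Xp X v, (η : G → ℂ) y = (R : ℂ) - 1 := by
      have := h1 y
      rw [hR] at this
      linear_combination -this
    have hB : ∑ᶠ η ∈ Xm X v, (η : G → ℂ) y = (R : ℂ) - (ξ0 : G → ℂ) y := by
      have := h2 y
      rw [hreg y hy, hR] at this
      linear_combination -this
    rw [hYsum ξ0 hξ0 _ hD, hA, hB]
    simp only [map_sub, map_one, Complex.conj_ofReal]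
    push_cast
    field_simp
    ring
  · -- case B
    have hD : ∀ ξ ∈ Y, (ξ : G → ℂ) 1 = (f : ℂ) + 1 := by
      intro ξ hξ
      rw [Cfsg.Agent.Lib.Helper6.BRH.apply_one_eq, hdY ξ hξ]
      push_cast
      ring
    have hA : ∑ᶠ η ∈ Xp X v, (η : G → ℂ) y = (R : ℂ) - 1 - (ξ0 : G → ℂ) y := by
      have := h1 y
      rw [hR] at this
      linear_combination -this
    have hB : ∑ᶠ η ∈ Xm X v, (η : G → ℂ) y = (R : ℂ) := by
      have := h2 y
      rw [hreg y hy, hR] at this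
      linear_combination -this
    rw [hYsum ξ0 hξ0 _ hD, hA, hB]
    simp only [map_sub, map_one, Complex.conj_ofReal]
    push_cast
    field_simp
    ring

end Cfsg.Agent.Lib.Helper29.BRVIEVAL
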