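import Mathlib
import Cfsg.Agent.Lib.Helper7.ThetaDefs
import Cfsg.Agent.Lib.Helper7.ThetaDefs2
import Cfsg.Agent.Lib.Helper16.ThetaB3a

/-!
# S1632 leaf C1 (helper29): the `q`-expansion of the theta series of an even positive definite
integral quadratic form: regroup the absolutely summable family by the value of the form.
-/

set_option autoImplicit false

noncomputable section

namespace Cfsg.Agent.Lib.Helper29.ThetaC1

open Complex
open scoped Real
open UpperHalfPlane hiding I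

/-- half the value of the form, as a natural number -/
def halfVal {n : ℕ} (B : Matrix (Fin n) (Fin n) ℤ) (x : Fin n → ℤ) : ℕ :=
  (x ⬝ᵥ (B.mulVec x)).toNat / 2

theorem two_mul_halfVal {n : ℕ} (B : Matrix (Fin n) (Fin n) ℤ)
    (hpos : ∀ x : Fin n → ℤ, x ≠ 0 → 0 < x ⬝ᵥ (B.mulVec x))
    (heven : ∀ x : Fin n → ℤ, (2 : ℤ) ∣ x ⬝ᵥ (B.mulVec x)) (x : Fin n → ℤ) :
    x ⬝ᵥ (B.mulVec x) = 2 * (halfVal B x : ℤ) := by
  have h0 : 0 ≤ x ⬝ᵥ (B.mulVec x) := by
    by_cases hx : x = 0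
    · subst hx
      simp
    · exact le_of_lt (hpos x hx)
  obtain ⟨k, hk⟩ := heven x
  unfold halfVal
  rw [hk] at h0 ⊢
  have hk0 : 0 ≤ k := by omega
  have : (2 * k).toNat / 2 = k.toNat := by
    have h2 : (2 * k).toNat = 2 * k.toNat := by
      have := Int.toNat_of_nonneg hk0
      omega
    rw [h2]
    omega
  rw [this, Int.toNat_of_nonneg hk0]

/-- C1 with the summability of the Gaussian sums as a hypothesis (B3a) and unfolded definitions. -/
theorem hasSum_repCount_of {n : ℕ} (B : Matrix (Fin n) (Fin n) ℤ)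
    (hpos : ∀ x : Fin n → ℤ, x ≠ 0 → 0 < x ⬝ᵥ (B.mulVec x))
    (heven : ∀ x : Fin n → ℤ, (2 : ℤ) ∣ x ⬝ᵥ (B.mulVec x))
    (hsum : ∀ t : ℝ, 0 < t →
      Summable (fun x : Fin n → ℤ => Real.exp (-t * ((x ⬝ᵥ (B.mulVec x) : ℤ) : ℝ))))
    (τ : ℍ) :
    HasSum (fun m : ℕ =>
        (({x : Fin n → ℤ | x ⬝ᵥ (B.mulVec x) = 2 * (m : ℤ)}.ncard : ℕ) : ℂ) •
          Function.Periodic.qParam 1 τ ^ m)
      (∑' x : Fin n → ℤ, cexp (π * I * τ * ((x ⬝ᵥ (B.mulVec x) : ℤ) : ℂ))) := by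
  set f : (Fin n → ℤ) → ℂ := fun x => cexp (π * I * τ * ((x ⬝ᵥ (B.mulVec x) : ℤ) : ℂ)) with hf
  set q : ℂ := Function.Periodic.qParam 1 τ with hq
  have hfq : ∀ x, f x = q ^ halfVal B x := by
    intro x
    rw [hf, hq, Function.Periodic.qParam]
    simp only
    rw [← Complex.exp_nat_mul]
    congr 1
    rw [two_mul_halfVal B hpos heven x]
    push_cast
    ring
  have hnorm : ∀ x, ‖f x‖ = Real.exp (-(π * (τ : ℂ).im) * ((x ⬝ᵥ (B.mulVec x) : ℤ) : ℝ)) := by
    intro x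
    rw [hf]
    simp only
    rw [Complex.norm_exp]
    congr 1
    have : (π * I * (τ : ℂ) * ((x ⬝ᵥ (B.mulVec x) : ℤ) : ℂ)).re =
        -(π * (τ : ℂ).im) * ((x ⬝ᵥ (B.mulVec x) : ℤ) : ℝ) := by
      have h1 : (((x ⬝ᵥ (B.mulVec x) : ℤ) : ℂ)) = (((x ⬝ᵥ (B.mulVec x) : ℤ) : ℝ) : ℂ) := by
        push_cast
        rfl
      rw [h1]
      simp only [Complex.mul_re, Complex.mul_im, Complex.ofReal_re, Complex.ofReal_im,
        Complex.I_re, Complex.I_im]
      ring
    exact this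
  have hsummable : Summable f := by
    apply Summable.of_norm
    have h1 := hsum (π * (τ : ℂ).im) (mul_pos Real.pi_pos τ.im_pos)
    refine h1.congr ?_
    intro x
    rw [hnorm x]
  have h1 := hsummable.hasSum.tsum_fiberwise (halfVal B)
  refine h1.congr_fun ?_  -- pointwise equality of the regrouped terms
  intro m
  have h2 : ∀ b : (halfVal B) ⁻¹' {m}, f b = q ^ m := by
    intro b
    rw [hfq b]
    congr 1
    exact b.2
  simp_rw [h2]
  rw [tsum_const, nsmul_eq_mul, smul_eq_mul]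
  congr 2
  have hset : {x : Fin n → ℤ | x ⬝ᵥ (B.mulVec x) = 2 * (m : ℤ)} = (halfVal B) ⁻¹' {m} := by
    ext x
    simp only [Set.mem_preimage, Set.mem_singleton_iff, Set.mem_ofPred_eq]
    rw [two_mul_halfVal B hpos heven x]
    constructor
    · intro h
      exact_mod_cast (mul_left_cancel₀ (two_ne_zero) h)
    · intro h
      rw [h]
  rw [hset, Nat.card_coe_set_eq]

open Cfsg.Agent.Lib.Helper7.Theta in
/-- LEAF C1: `q`-expansion of the lattice theta series. -/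
theorem hasSum_repCount {n : ℕ} (B : Matrix (Fin n) (Fin n) ℤ) (hsymm : B.IsSymm)
    (hpos : ∀ x : Fin n → ℤ, x ≠ 0 → 0 < x ⬝ᵥ (B.mulVec x))
    (heven : ∀ x : Fin n → ℤ, (2 : ℤ) ∣ x ⬝ᵥ (B.mulVec x)) (τ : ℍ) :
    HasSum (fun m : ℕ => (repCount B m : ℂ) • Function.Periodic.qParam 1 τ ^ m)
      (latticeTheta B τ) :=
  hasSum_repCount_of B hpos heven
    (fun t ht => Cfsg.Agent.Lib.Helper16.ThetaB3a.summable_latticeTheta B hsymm hpos t ht) τ

end Cfsg.Agent.Lib.Helper29.ThetaC1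

end
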