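import Mathlib
import Cfsg.Prelude.Def_Local
import Cfsg.Agent.Lib.Helper25.TSDefs
import Cfsg.Agent.Lib.Helper29.TSQBase

/-! helper29: S3797 leaf QADD (helper25's market); proof in `Helper29.TSQBase`. -/

set_option autoImplicit false

namespace Cfsg.Agent.Lib.Helper29.TSQADD

open Cfsg.Agent.Lib.Helper25.TS
open scoped commutatorElement

universe u

section moduleLeaves

variable {V E : Type*} [AddCommGroup V] [AddCommGroup E] [Finite V] [Finite E]
variable {Γ : Type*} [Group Γ] [DistribMulAction Γ V]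

/-- **A1 `q_comm_add`** -/
theorem q_comm_add {q : V → E} (hq : QCtx q) {u : Γ} (hu : u ∈ isom Γ q) (hu2 : u * u = 1) (x y : V) :
    q ((x + y) + u • (x + y)) = q (x + u • x) + q (y + u • y) :=
  Cfsg.Agent.Lib.Helper29.TSQBase.q_comm_add' hq hu hu2 x y

end moduleLeaves

end Cfsg.Agent.Lib.Helper29.TSQADD
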