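import Mathlib
import Cfsg.Agent.Lib.Helper25.TWDefs
import Cfsg.Agent.Lib.Helper8.PD2T

/-!
# Market "TW" (S3613), leaf TW4T (planner helper25).
`H = G_a ∩ G_b` insoluble and transitive on the `q` other points ⟹ 2-transitive there.
-/

set_option autoImplicit false

namespace Cfsg.Agent.Lib.Helper29.TW4T

open MulAction Cfsg.Agent.Lib.Helper25.TW

/-- **TW4T**.  `H = G_a ∩ G_b` insoluble and transitive on the `q` other points ⟹ 2-transitive there.
(`H` acts faithfully on the subtype `{x // x ≠ a ∧ x ≠ b}` of size `q`, e.g.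
`↥(TW.Off G a b)` restricted to `(stabilizer G a ⊓ stabilizer G b).subgroupOf (TW.Hhat G a b)`, or
`SubMulAction.ofFixingSubgroup`; apply `Helper8.PD2T.PD2T` and `MulAction.is_two_pretransitive_iff`.) -/
theorem TW4T {G Ω : Type*} [Group G] [Finite G] [MulAction G Ω] [FaithfulSMul G Ω] [Finite Ω]
    (q : ℕ) (hq : q.Prime) (hΩ : Nat.card Ω = q + 2) (a b : Ω) (hab : a ≠ b)
    (htr : TransOff2 G a b)
    (hins : ¬ Group.IsSolvable ↥(stabilizer G a ⊓ stabilizer G b)) : TwoTransOff2 G a b := by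
  classical
  haveI : Fact q.Prime := ⟨hq⟩
  -- the action of H on the other points
  let S : SubMulAction ↥(stabilizer G a ⊓ stabilizer G b) Ω :=
    { carrier := {x | x ≠ a ∧ x ≠ b}
      smul_mem' := by
        rintro ⟨g, hg⟩ x ⟨hxa, hxb⟩
        have hga : g • a = a := mem_stabilizer_iff.1 hg.1
        have hgb : g • b = b := mem_stabilizer_iff.1 hg.2
        exact ⟨fun h => hxa (smul_left_cancel g (h.trans hga.symm)),
          fun h => hxb (smul_left_cancel g (h.trans hgb.symm))⟩ }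
  have hSmem : ∀ x : Ω, x ∈ S ↔ x ≠ a ∧ x ≠ b := fun x => Iff.rfl
  haveI : FaithfulSMul ↥(stabilizer G a ⊓ stabilizer G b) ↥S := by
    refine ⟨fun {g₁ g₂} h => ?_⟩
    apply Subtype.ext
    apply FaithfulSMul.eq_of_smul_eq_smul (α := Ω)
    intro x
    have h1a : (g₁ : G) • a = a := mem_stabilizer_iff.1 g₁.2.1
    have h1b : (g₁ : G) • b = b := mem_stabilizer_iff.1 g₁.2.2
    have h2a : (g₂ : G) • a = a := mem_stabilizer_iff.1 g₂.2.1
    have h2b : (g₂ : G) • b = b := mem_stabilizer_iff.1 g₂.2.2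
    by_cases hxa : x = a
    · rw [hxa, h1a, h2a]
    · by_cases hxb : x = b
      · rw [hxb, h1b, h2b]
      · have := congrArg (fun t : ↥S => (t : Ω)) (h ⟨x, ⟨hxa, hxb⟩⟩)
        exact this
  have htrS : MulAction.IsPretransitive ↥(stabilizer G a ⊓ stabilizer G b) ↥S := by
    refine ⟨fun x y => ?_⟩
    obtain ⟨g, hga, hgb, hgxy⟩ := htr x y x.2.1 x.2.2 y.2.1 y.2.2
    refine ⟨⟨g, ⟨mem_stabilizer_iff.2 hga, mem_stabilizer_iff.2 hgb⟩⟩, ?_⟩
    apply Subtype.ext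
    exact hgxy
  have hcardS : Nat.card ↥S = q := by
    have h1 : Nat.card ↥S = ({x | x ≠ a ∧ x ≠ b} : Set Ω).ncard := rfl
    have h2' : ({x | x ≠ a ∧ x ≠ b} : Set Ω) = ({a, b} : Set Ω)ᶜ := by
      ext x; simp [not_or]
    rw [h1, h2', Set.ncard_compl, Set.ncard_pair hab, hΩ]
    omega
  haveI : Finite ↥S := Subtype.finite
  haveI : Fintype ↥S := Fintype.ofFinite _
  have hcardS' : Fintype.card ↥S = q := by rw [← Nat.card_eq_fintype_card, hcardS]
  have h2t : MulAction.IsMultiplyPretransitive ↥(stabilizer G a ⊓ stabilizer G b) ↥S 2 :=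
    Cfsg.Agent.Lib.Helper8.PD2T.PD2T hcardS' htrS hins
  rw [MulAction.is_two_pretransitive_iff] at h2t
  intro c d c' d' hca hcb hda hdb hc'a hc'b hd'a hd'b hcd hc'd'
  have hne : (⟨c, ⟨hca, hcb⟩⟩ : ↥S) ≠ ⟨d, ⟨hda, hdb⟩⟩ := fun h => hcd (congrArg Subtype.val h)
  have hne' : (⟨c', ⟨hc'a, hc'b⟩⟩ : ↥S) ≠ ⟨d', ⟨hd'a, hd'b⟩⟩ :=
    fun h => hc'd' (congrArg Subtype.val h)
  obtain ⟨g, hg1, hg2⟩ := h2t hne hne'
  refine ⟨(g : G), mem_stabilizer_iff.1 g.2.1, mem_stabilizer_iff.1 g.2.2, ?_, ?_⟩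
  · exact congrArg Subtype.val hg1
  · exact congrArg Subtype.val hg2

end Cfsg.Agent.Lib.Helper29.TW4T
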