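import Mathlib
import Cfsg.Agent.Lib.Helper1.PRDefs

/-!
# Market "TW" (S3613), leaf TWCARD (planner helper25).
The order of a 2-transitive group.
-/

set_option autoImplicit false

namespace Cfsg.Agent.Lib.Helper29.TWCARD

open MulAction Cfsg.Agent.Lib.Helper1.PR

/-- **TWCARD**.  The order of a 2-transitive group. -/
theorem TWCARD {G Ω : Type*} [Group G] [Finite G] [MulAction G Ω] [Finite Ω]
    (h2 : TwoTrans G Ω) (a b : Ω) (hab : a ≠ b) :
    Nat.card G = Nat.card Ω * (Nat.card Ω - 1) * Nat.card ↥(stabilizer G a ⊓ stabilizer G b) := by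
  -- step 1: |G| = |Ω| |G_a|
  have horb : orbit G a = Set.univ := by
    ext x
    simp only [Set.mem_univ, iff_true]
    by_cases hxa : x = a
    · rw [hxa]; exact mem_orbit_self a
    · obtain ⟨g, hg, -⟩ := h2 a b x a hab hxa
      exact ⟨g, hg⟩
  have h1 : (stabilizer G a).index = Nat.card Ω := by
    rw [index_stabilizer, horb, Set.ncard_univ]
  have h1' : Nat.card G = Nat.card Ω * Nat.card ↥(stabilizer G a) := by
    rw [← h1, Subgroup.index_mul_card]
  -- step 2: |G_a| = (|Ω| - 1) |G_ab|
  have horb2 : orbit ↥(stabilizer G a) b = {x | x ≠ a} := by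
    ext x
    constructor
    · rintro ⟨⟨g, hg⟩, rfl⟩
      intro h
      have hga : g • a = a := mem_stabilizer_iff.1 hg
      exact hab ((smul_left_cancel g (h.trans hga.symm)).symm)
    · intro hxa
      obtain ⟨g, hga, hgb⟩ := h2 a b a x hab (Ne.symm hxa)
      exact ⟨⟨g, mem_stabilizer_iff.2 hga⟩, hgb⟩
  have h2i : (stabilizer ↥(stabilizer G a) b).index = Nat.card Ω - 1 := by
    rw [index_stabilizer, horb2]
    have : ({x | x ≠ a} : Set Ω) = ({a} : Set Ω)ᶜ := by ext x; simp
    rw [this, Set.ncard_compl, Set.ncard_singleton]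
  have h2' : Nat.card ↥(stabilizer G a) =
      (Nat.card Ω - 1) * Nat.card ↥(stabilizer ↥(stabilizer G a) b) := by
    rw [← h2i, Subgroup.index_mul_card]
  -- step 3: the stabilizer of b in G_a is G_a ⊓ G_b
  have h3 : Nat.card ↥(stabilizer ↥(stabilizer G a) b) =
      Nat.card ↥(stabilizer G a ⊓ stabilizer G b) := by
    refine Nat.card_congr
      { toFun := fun g => ⟨((g : ↥(stabilizer G a)) : G), ⟨(g : ↥(stabilizer G a)).2, ?_⟩⟩
        invFun := fun g => ⟨⟨(g : G), g.2.1⟩, ?_⟩
        left_inv := fun g => rfl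
        right_inv := fun g => rfl }
    · have := g.2
      rw [mem_stabilizer_iff] at this
      exact mem_stabilizer_iff.2 this
    · rw [mem_stabilizer_iff]
      exact mem_stabilizer_iff.1 g.2.2
  rw [h1', h2', h3, mul_assoc]

end Cfsg.Agent.Lib.Helper29.TWCARD
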