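import Mathlib

/-!
# Market "TW" (S3613), leaf TWSYL (planner helper25).
Sylow's congruence for `|G| = p (p-1) m`, `2 |N_G(P)| = p (p-1)`.
-/

set_option autoImplicit false

namespace Cfsg.Agent.Lib.Helper29.TWSYL

/-- **TWSYL**.  Sylow's congruence for `|G| = p (p-1) m`, `2 |N_G(P)| = p (p-1)`:
`|G : N_G(P)| = 2 m ≡ 1 (mod p)`. -/
theorem TWSYL {G : Type*} [Group G] [Finite G] (p : ℕ) [Fact p.Prime] (P : Sylow p G)
    (hN : 2 * Nat.card ↥(Subgroup.normalizer ((P : Subgroup G) : Set G)) = p * (p - 1))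
    (m : ℕ) (hG : Nat.card G = p * (p - 1) * m) : (2 * m) % p = 1 := by
  have hp : p.Prime := Fact.out
  have h1 : Nat.card (Sylow p G) ≡ 1 [MOD p] := card_sylow_modEq_one p G
  have h2 : Nat.card (Sylow p G) = (Subgroup.normalizer ((P : Subgroup G) : Set G)).index :=
    Sylow.card_eq_index_normalizer P
  have h3 : (Subgroup.normalizer ((P : Subgroup G) : Set G)).index *
      Nat.card ↥(Subgroup.normalizer ((P : Subgroup G) : Set G)) = Nat.card G :=
    Subgroup.index_mul_card _
  have hpos : 0 < Nat.card ↥(Subgroup.normalizer ((P : Subgroup G) : Set G)) := Nat.card_pos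
  have h4 : (Subgroup.normalizer ((P : Subgroup G) : Set G)).index = 2 * m := by
    have : (Subgroup.normalizer ((P : Subgroup G) : Set G)).index *
        Nat.card ↥(Subgroup.normalizer ((P : Subgroup G) : Set G)) =
        (2 * m) * Nat.card ↥(Subgroup.normalizer ((P : Subgroup G) : Set G)) := by
      rw [h3, hG, ← hN]; ring
    exact Nat.eq_of_mul_eq_mul_right hpos this
  rw [h2, h4] at h1
  have : (2 * m) % p = 1 % p := h1
  rw [this]
  exact Nat.mod_eq_of_lt hp.one_lt

end Cfsg.Agent.Lib.Helper29.TWSYL
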