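import Mathlib
import Cfsg.Agent.Lib.Helper26.CSDDefs
import Cfsg.Agent.Lib.Helper26.CSDSmall
import Cfsg.Agent.Lib.Helper26.CSDDich

/-!
# S4257 package EXCL (helper29): `Hyp.exists_spec`, `Hyp.excl`

Self-contained: the statements of the packages ORD / SPEC that are needed here are reproved
locally in the namespace `EXCLaux` (so this file only imports helper26's `CSDDefs`, `CSDSmall`,
`CSDDich`).
-/

set_option autoImplicit false

namespace Cfsg.Agent.Lib.Helper29.CSD

open Cfsg.Agent.Lib.Helper17.ClassGraph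
open Cfsg.Agent.Lib.Helper26.CSD
open scoped commutatorElement

variable {G : Type*} [Group G]

namespace EXCLaux

theorem ind_pow_dvd (x : G) (k : ℕ) : ind (x ^ k) ∣ ind x := by
  apply Subgroup.index_dvd_of_le
  intro c hc
  rw [mem_centralizer_singleton] at hc ⊢
  have h : Commute c x := hc
  exact (h.pow_right k)

/-- Bezout: if `g` commutes with `x ^ a` and `x ^ b` with `a`, `b` coprime then it commutes with
`x`. -/
theorem commute_of_coprime_pows {x g : G} {a b : ℕ} (hab : a.Coprime b)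
    (ha : Commute g (x ^ a)) (hb : Commute g (x ^ b)) : Commute g x := by
  have h1 : ((a : ℤ) * Nat.gcdA a b + (b : ℤ) * Nat.gcdB a b) = 1 := by
    have := Nat.gcd_eq_gcd_ab a b
    rw [hab.gcd_eq_one] at this
    exact_mod_cast this.symm
  have h2 : x = (x ^ a) ^ (Nat.gcdA a b) * (x ^ b) ^ (Nat.gcdB a b) := by
    rw [← zpow_natCast x a, ← zpow_natCast x b, ← zpow_mul, ← zpow_mul, ← zpow_add, h1, zpow_one]
  rw [h2]
  exact (ha.zpow_right _).mul_right (hb.zpow_right _)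

theorem exists_ppo_pow_not_commute [Finite G] (x g : G) (h : ¬ Commute g x) :
    ∃ (k u j : ℕ), u.Prime ∧ orderOf (x ^ k) = u ^ j ∧ ¬ Commute g (x ^ k) := by
  induction hn : orderOf x using Nat.strong_induction_on generalizing x with
  | _ n ih =>
    have hn0 : n ≠ 0 := by
      rw [← hn]; exact (orderOf_pos x).ne'
    have hn1 : n ≠ 1 := by
      rintro rfl
      rw [orderOf_eq_one_iff] at hn
      exact h (hn ▸ Commute.one_right g)
    set u := n.minFac with hu_def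
    have hu : u.Prime := Nat.minFac_prime hn1
    obtain ⟨a, m, hum, hnm⟩ := Nat.exists_eq_pow_mul_and_not_dvd hn0 u hu.ne_one
    have ha0 : a ≠ 0 := by
      rintro rfl
      rw [pow_zero, one_mul] at hnm
      exact hum (hnm ▸ Nat.minFac_dvd n)
    have hm0 : m ≠ 0 := by
      rintro rfl
      rw [mul_zero] at hnm
      exact hn0 hnm
    have hua0 : u ^ a ≠ 0 := pow_ne_zero _ hu.ne_zero
    have hcop : (u ^ a).Coprime m :=
      Nat.Coprime.pow_left a ((Nat.Prime.coprime_iff_not_dvd hu).2 hum)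
    -- orders of the two powers
    have ho1 : orderOf (x ^ m) = u ^ a := by
      rw [orderOf_pow_of_dvd hm0 (by rw [hn, hnm]; exact dvd_mul_left _ _), hn, hnm,
        Nat.mul_div_cancel _ (Nat.pos_of_ne_zero hm0)]
    have ho2 : orderOf (x ^ (u ^ a)) = m := by
      rw [orderOf_pow_of_dvd hua0 (by rw [hn, hnm]; exact dvd_mul_right _ _), hn, hnm,
        Nat.mul_div_cancel_left _ (Nat.pos_of_ne_zero hua0)]
    by_cases hc1 : Commute g (x ^ m)
    · -- then `g` does not commute with `x ^ (u^a)`, of smaller order `m`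
      have hc2 : ¬ Commute g (x ^ (u ^ a)) := fun hc2 =>
        h (commute_of_coprime_pows hcop hc2 hc1)
      have hlt : m < n := by
        rw [hnm]
        have : 1 < u ^ a := Nat.one_lt_pow ha0 hu.one_lt
        calc m = 1 * m := (one_mul m).symm
          _ < u ^ a * m := Nat.mul_lt_mul_of_pos_right this (Nat.pos_of_ne_zero hm0)
      obtain ⟨k', u', j', hu', ho', hg'⟩ := ih m hlt (x ^ (u ^ a)) hc2 ho2
      refine ⟨u ^ a * k', u', j', hu', ?_, ?_⟩
      · rw [pow_mul]; exact ho'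
      · rw [pow_mul]; exact hg'
    · exact ⟨m, u, a, hu, ho1, hc1⟩

theorem spec_conj {u : ℕ} {z : G} (h : Spec u z) (c : G) : Spec u (c * z * c⁻¹) := by
  obtain ⟨hu, ⟨j, hj⟩, hc⟩ := h
  refine ⟨hu, ⟨j, ?_⟩, fun g => ?_⟩
  · have hs : SemiconjBy c z (c * z * c⁻¹) := by
      unfold SemiconjBy; group
    rw [← hs.orderOf_eq]; exact hj
  · have h1 := hc (c⁻¹ * g * c)
    have e : g * (c * z * c⁻¹) * g⁻¹ = c * ((c⁻¹ * g * c) * z * (c⁻¹ * g * c)⁻¹) * c⁻¹ := by
      group
    rw [e]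
    have h2 : z * ((c⁻¹ * g * c) * z * (c⁻¹ * g * c)⁻¹) =
        ((c⁻¹ * g * c) * z * (c⁻¹ * g * c)⁻¹) * z := h1
    show (c * z * c⁻¹) * (c * ((c⁻¹ * g * c) * z * (c⁻¹ * g * c)⁻¹) * c⁻¹) =
      (c * ((c⁻¹ * g * c) * z * (c⁻¹ * g * c)⁻¹) * c⁻¹) * (c * z * c⁻¹)
    calc (c * z * c⁻¹) * (c * ((c⁻¹ * g * c) * z * (c⁻¹ * g * c)⁻¹) * c⁻¹)
        = c * (z * ((c⁻¹ * g * c) * z * (c⁻¹ * g * c)⁻¹)) * c⁻¹ := by group
      _ = c * (((c⁻¹ * g * c) * z * (c⁻¹ * g * c)⁻¹) * z) * c⁻¹ := by rw [h2]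
      _ = _ := by group

/-- The normal closure of a special `u`-element is a `u`-group. -/
theorem spec_normalClosure_isPGroup {u : ℕ} {z : G} (h : Spec u z) :
    IsPGroup u (Subgroup.normalClosure ({z} : Set G)) := by
  -- every conjugate of `z` is special
  have hS : ∀ y ∈ Group.conjugatesOfSet ({z} : Set G), Spec u y := by
    intro y hy
    rw [Group.mem_conjugatesOfSet_iff] at hy
    obtain ⟨a, ha, hay⟩ := hy
    rw [Set.mem_singleton_iff] at ha
    rw [ha] at hay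
    rw [isConj_iff] at hay
    obtain ⟨c, rfl⟩ := hay
    exact spec_conj h c
  have hcomm : ∀ y₁ ∈ Group.conjugatesOfSet ({z} : Set G),
      ∀ y₂ ∈ Group.conjugatesOfSet ({z} : Set G), y₁ * y₂ = y₂ * y₁ := by
    intro y₁ hy₁ y₂ hy₂
    have h1 := hS y₁ hy₁
    rw [Group.mem_conjugatesOfSet_iff] at hy₁ hy₂
    obtain ⟨a, ha, hay⟩ := hy₁
    obtain ⟨b, hb, hby⟩ := hy₂
    rw [Set.mem_singleton_iff] at ha hb
    rw [ha] at hay
    rw [hb] at hby
    rw [isConj_iff] at hay hby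
    obtain ⟨c, rfl⟩ := hay
    obtain ⟨d, rfl⟩ := hby
    have h2 := h1.2.2 (d * c⁻¹)
    have e : d * c⁻¹ * (c * z * c⁻¹) * (d * c⁻¹)⁻¹ = d * z * d⁻¹ := by group
    rw [e] at h2
    exact h2
  have hcomm' : ∀ a b : Subgroup.closure (Group.conjugatesOfSet ({z} : Set G)), a * b = b * a :=
    isMulCommutative_iff.1 (Subgroup.isMulCommutative_closure hcomm)
  have key : ∀ y (hy : y ∈ Subgroup.closure (Group.conjugatesOfSet ({z} : Set G))),
      ∃ i : ℕ, y ^ (u ^ i) = 1 := by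
    intro y hy
    induction hy using Subgroup.closure_induction with
    | mem y hy =>
      obtain ⟨_, ⟨j, hj⟩, _⟩ := hS y hy
      exact ⟨j, by rw [← hj, pow_orderOf_eq_one]⟩
    | one => exact ⟨0, one_pow _⟩
    | mul y₁ y₂ hy₁ hy₂ ih₁ ih₂ =>
      obtain ⟨i₁, h₁⟩ := ih₁
      obtain ⟨i₂, h₂⟩ := ih₂
      have hc : Commute y₁ y₂ := by
        have := hcomm' ⟨y₁, hy₁⟩ ⟨y₂, hy₂⟩
        exact congrArg Subtype.val this
      refine ⟨i₁ + i₂, ?_⟩
      rw [hc.mul_pow, pow_add, pow_mul, h₁, one_pow, mul_comm (u ^ i₁), pow_mul, h₂, one_pow,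
        one_mul]
    | inv y hy ih =>
      obtain ⟨i, hi⟩ := ih
      exact ⟨i, by rw [inv_pow, hi, inv_one]⟩
  intro y
  obtain ⟨i, hi⟩ := key y.1 y.2
  exact ⟨i, Subtype.ext (by simpa using hi)⟩

theorem spec_dvd_ind [Finite G] {u : ℕ} {z : G} (h : Spec u z) {w : G} (hw : ¬ Commute w z) :
    u ∣ ind w := by
  by_contra hu
  have : Fact u.Prime := ⟨h.1⟩
  have hP := spec_normalClosure_isPGroup h
  obtain ⟨n, hn⟩ := IsPGroup.iff_card.1 hP
  have hcop : (Nat.card (Subgroup.normalClosure ({z} : Set G))).Coprime (ind w) := by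
    rw [hn]
    exact Nat.Coprime.pow_left n ((Nat.Prime.coprime_iff_not_dvd h.1).2 hu)
  have hle := le_centralizer_of_coprime (Subgroup.normalClosure ({z} : Set G)) w hcop
  have hz : z ∈ Subgroup.centralizer ({w} : Set G) :=
    hle (Subgroup.subset_normalClosure (Set.mem_singleton z))
  rw [mem_centralizer_singleton] at hz
  exact hw hz.symm

/-- A group is not the union of two proper subgroups. -/
theorem exists_not_mem_two (A B : Subgroup G) (hA : A ≠ ⊤) (hB : B ≠ ⊤) :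
    ∃ g : G, g ∉ A ∧ g ∉ B := by
  obtain ⟨a, ha⟩ : ∃ a, a ∉ A := by
    by_contra hcon
    push Not at hcon
    exact hA (eq_top_iff.2 fun a _ => hcon a)
  obtain ⟨b, hb⟩ : ∃ b, b ∉ B := by
    by_contra hcon
    push Not at hcon
    exact hB (eq_top_iff.2 fun b _ => hcon b)
  by_cases haB : a ∈ B
  · by_cases hbA : b ∈ A
    · refine ⟨a * b, fun hab => ha ?_, fun hab => hb ?_⟩
      · have := A.mul_mem hab (A.inv_mem hbA)
        simpa using this
      · have := B.mul_mem (B.inv_mem haB) hab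
        simpa using this
    · exact ⟨b, hbA, hb⟩
  · exact ⟨a, ha, haB⟩

/-- A non-central element: some `g` does not commute with it. -/
theorem exists_not_commute_of_prime_dvd_ind {x : G} {p : ℕ} (hp : p.Prime) (hx : p ∣ ind x) :
    ∃ g : G, ¬ Commute g x := by
  by_contra hcon
  push Not at hcon
  have h1 : ind x = 1 := by
    rw [ind_eq_one_iff, Subgroup.mem_center_iff]
    intro g
    exact hcon g
  rw [h1] at hx
  exact hp.one_lt.ne' (Nat.dvd_one.1 hx)

end EXCLaux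

/-- PD gives `z = x^k` of order `u^j` not commuting with `g`; `Small.pow`, `Small.commute_conj`
(coprimality by `ind_pow_dvd`) give `Spec u z`; `Small.prime_dvd` + `closQ` give `u ∈ Th`. -/
theorem Hyp.exists_spec [Finite G] {Sg Th : Set ℕ} {p q : ℕ} (h : Hyp G Sg Th p q) {x y : G}
    (hx : p ∣ ind x) (hy : q ∣ ind y) (hs : Small x y) {g : G} (hg : ¬ Commute g x) :
    ∃ (k u : ℕ), u ∈ Th ∧ Spec u (x ^ k) ∧ ¬ Commute g (x ^ k) := by
  have hcop := h.coprime hx hy
  obtain ⟨k, u, j, hu, ho, hgk⟩ := EXCLaux.exists_ppo_pow_not_commute x g hg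
  have hsk : Small (x ^ k) y := hs.pow hcop k
  have hcopk : (ind (x ^ k)).Coprime (ind y) :=
    Nat.Coprime.coprime_dvd_left (EXCLaux.ind_pow_dvd x k) hcop
  have hud : u ∣ ind y := hsk.prime_dvd hcopk hu ho hgk
  exact ⟨k, u, h.closQ y u hu hy hud, ⟨hu, ⟨j, ho⟩, fun c => hsk.commute_conj hcopk c⟩, hgk⟩

/-- exclusion: `Small x y` and `Small y' x'` cannot both occur. -/
theorem Hyp.excl [Finite G] {Sg Th : Set ℕ} {p q : ℕ} (h : Hyp G Sg Th p q) {x y x' y' : G}
    (hx : p ∣ ind x) (hy : q ∣ ind y) (hx' : p ∣ ind x') (hy' : q ∣ ind y')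
    (h1 : Small x y) (h2 : Small y' x') : False := by
  obtain ⟨g, hg⟩ := EXCLaux.exists_not_commute_of_prime_dvd_ind h.pprime hx
  obtain ⟨g', hg'⟩ := EXCLaux.exists_not_commute_of_prime_dvd_ind h.qprime hy'
  obtain ⟨k, u, huTh, hz, hgz⟩ := Hyp.exists_spec h hx hy h1 hg
  obtain ⟨k', s, hsSg, hw, hgw⟩ := Hyp.exists_spec h.symm hy' hx' h2 hg'
  -- the centralizers of the classes of `z`, `w` are proper
  have hA : Subgroup.centralizer (cl (x ^ k)) ≠ ⊤ := by
    intro hA
    have : g ∈ Subgroup.centralizer (cl (x ^ k)) := hA ▸ Subgroup.mem_top g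
    rw [Subgroup.mem_centralizer_iff] at this
    exact hgz (this _ (self_mem_cl _)).symm
  have hB : Subgroup.centralizer (cl (y' ^ k')) ≠ ⊤ := by
    intro hB
    have : g' ∈ Subgroup.centralizer (cl (y' ^ k')) := hB ▸ Subgroup.mem_top g'
    rw [Subgroup.mem_centralizer_iff] at this
    exact hgw (this _ (self_mem_cl _)).symm
  obtain ⟨g₀, hg₀A, hg₀B⟩ := EXCLaux.exists_not_mem_two _ _ hA hB
  have hud : u ∣ ind g₀ := by
    rw [Subgroup.mem_centralizer_iff] at hg₀A
    push Not at hg₀A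
    obtain ⟨t, ht, hne⟩ := hg₀A
    obtain ⟨c, rfl⟩ := ht
    exact EXCLaux.spec_dvd_ind (EXCLaux.spec_conj hz c) (fun hc => hne hc.symm)
  have hsd : s ∣ ind g₀ := by
    rw [Subgroup.mem_centralizer_iff] at hg₀B
    push Not at hg₀B
    obtain ⟨t, ht, hne⟩ := hg₀B
    obtain ⟨c, rfl⟩ := ht
    exact EXCLaux.spec_dvd_ind (EXCLaux.spec_conj hw c) (fun hc => hne hc.symm)
  exact h.sep g₀ s u hsSg huTh hw.1 hz.1 hsd hud

end Cfsg.Agent.Lib.Helper29.CSD
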