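/-
helper29: S4017 market (planner helper26), leaf MIX-CARDSUP.
`|A<x>| = |A| s` for `x` of prime order `s ∤ |A|` normalizing `A`.
-/
import Mathlib

set_option autoImplicit false

namespace Cfsg.Agent.Lib.Helper29.MIXCARDSUP

universe u

open scoped Pointwise

variable {G : Type u} [Group G] [Finite G]

/-- CARDSUP : `|A<x>| = |A| s` for `x` of prime order `s ∤ |A|` normalizing `A`. -/
theorem card_sup_zpowers (A : Subgroup G) (x : G) (hx : x ∈ Subgroup.normalizer (A : Set G))
    (s : ℕ) (hs : s.Prime) (hox : orderOf x = s) (hA : ¬ s ∣ Nat.card A) :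
    Nat.card ↥(A ⊔ Subgroup.zpowers x) = Nat.card A * s := by
  have hZ : Nat.card (Subgroup.zpowers x) = s := by rw [Nat.card_zpowers, hox]
  have hle : Subgroup.zpowers x ≤ Subgroup.normalizer (A : Set G) :=
    (Subgroup.zpowers_le).mpr hx
  have hcoe : ((A ⊔ Subgroup.zpowers x : Subgroup G) : Set G) =
      (A : Set G) * (Subgroup.zpowers x : Set G) :=
    Subgroup.coe_mul_of_right_le_normalizer_left A (Subgroup.zpowers x) hle
  have hub : Nat.card ↥(A ⊔ Subgroup.zpowers x) ≤ Nat.card A * s := by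
    have h1 : Nat.card ↥(A ⊔ Subgroup.zpowers x) =
        Nat.card ((A : Set G) * (Subgroup.zpowers x : Set G) : Set G) := by
      rw [← hcoe]; rfl
    rw [h1]
    have h2 := Set.natCard_mul_le (s := (A : Set G)) (t := (Subgroup.zpowers x : Set G))
    have h3 : Nat.card (A : Set G) = Nat.card A := rfl
    have h4 : Nat.card (Subgroup.zpowers x : Set G) = s := hZ
    rw [h3, h4] at h2
    exact h2
  have hd1 : Nat.card A ∣ Nat.card ↥(A ⊔ Subgroup.zpowers x) :=
    Subgroup.card_dvd_of_le le_sup_left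
  have hd2 : s ∣ Nat.card ↥(A ⊔ Subgroup.zpowers x) := by
    have := Subgroup.card_dvd_of_le (le_sup_right : Subgroup.zpowers x ≤ A ⊔ Subgroup.zpowers x)
    rwa [hZ] at this
  have hcop : Nat.Coprime (Nat.card A) s :=
    ((Nat.Prime.coprime_iff_not_dvd hs).mpr hA).symm
  have hd : Nat.card A * s ∣ Nat.card ↥(A ⊔ Subgroup.zpowers x) :=
    hcop.mul_dvd_of_dvd_of_dvd hd1 hd2
  exact le_antisymm hub (Nat.le_of_dvd Nat.card_pos hd)

end Cfsg.Agent.Lib.Helper29.MIXCARDSUP
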