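/-
helper29: S4017 market (planner helper26), leaves MIX-NOPRIME (amended: with `hpq : p ≠ q`; the frozen form
without it is false for `p = q`) and MIX-NOQ.
-/
import Mathlib
import Cfsg.Agent.Lib.Helper26.MixDefs
import Cfsg.Agent.Lib.Helper29.MIXCARDSUP

set_option autoImplicit false

namespace Cfsg.Agent.Lib.Helper29.MIXNOPRIME

open Cfsg Cfsg.Agent.Lib.Helper26.Mix

universe u

variable {G : Type u} [Group G] [Finite G] {p q : ℕ}

/-- the common core of NOPRIME and NOQ: an element of prime order `s` normalizing a nontrivial `t`-group,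
`s ≠ t`, `q ∈ {s, t}`, `p ∉ {s, t}`, contradicts `Viol G p q`. -/
theorem viol_false (hp : p.Prime) (hviol : Viol G p q)
    (t : ℕ) (ht : t.Prime) (T : Subgroup G) (hT : IsPGroup t T) (hne : T ≠ ⊥) (x : G)
    (hx : x ∈ Subgroup.normalizer (T : Set G)) (s : ℕ) (hs : s.Prime) (hst : s ≠ t)
    (hox : orderOf x = s) (hpt : p ≠ t) (hps : p ≠ s) (hq : q = s ∨ q = t) (hqp : q.Prime) : False := by
  have : Fact t.Prime := ⟨ht⟩
  obtain ⟨n, hn⟩ := hT.exists_card_eq
  have hn0 : n ≠ 0 := by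
    rintro rfl
    rw [pow_zero] at hn
    exact hne ((Subgroup.card_eq_one).mp hn)
  have hsT : ¬ s ∣ Nat.card T := by
    rw [hn]
    intro h
    exact hst ((Nat.prime_dvd_prime_iff_eq hs ht).mp (hs.dvd_of_dvd_pow h))
  have hcard := MIXCARDSUP.card_sup_zpowers T x hx s hs hox hsT
  have hqH : q ∣ Nat.card ↥(T ⊔ Subgroup.zpowers x) := by
    rw [hcard, hn]
    rcases hq with rfl | rfl
    · exact dvd_mul_left _ _
    · exact dvd_mul_of_dvd_left (dvd_pow_self _ hn0) _
  have hnq : ¬ IsPGroup q ↥(T ⊔ Subgroup.zpowers x) := by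
    intro h
    have : Fact q.Prime := ⟨hqp⟩
    obtain ⟨m, hm⟩ := h.exists_card_eq
    rw [hcard, hn] at hm
    rcases hq with rfl | rfl
    · -- t ∣ q^m
      have : t ∣ q ^ m := by rw [← hm]; exact dvd_mul_of_dvd_left (dvd_pow_self _ hn0) _
      exact hst ((Nat.prime_dvd_prime_iff_eq ht hs).mp (ht.dvd_of_dvd_pow this)).symm
    · have : s ∣ q ^ m := by rw [← hm]; exact dvd_mul_left _ _
      exact hst ((Nat.prime_dvd_prime_iff_eq hs ht).mp (hs.dvd_of_dvd_pow this))
  have hpH := hviol _ hqH hnq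
  rw [hcard, hn] at hpH
  rcases (Nat.Prime.dvd_mul hp).mp hpH with h | h
  · exact hpt ((Nat.prime_dvd_prime_iff_eq hp ht).mp (hp.dvd_of_dvd_pow h))
  · exact hps ((Nat.prime_dvd_prime_iff_eq hp hs).mp h)

/-- NOPRIME (amended with `hpq`): no element of prime order `s ∉ {p, q}` normalizes a nontrivial
`q`-subgroup. -/
theorem no_prime_normalizer (hp : p.Prime) (hq : q.Prime) (hpq : p ≠ q) (hviol : Viol G p q)
    (Q0 : Subgroup G) (hQ0 : IsPGroup q Q0) (hne : Q0 ≠ ⊥) (x : G)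
    (hx : x ∈ Subgroup.normalizer (Q0 : Set G)) (s : ℕ) (hs : s.Prime) (hsp : s ≠ p) (hsq : s ≠ q)
    (hox : orderOf x = s) : False :=
  viol_false hp hviol q hq Q0 hQ0 hne x hx s hs hsq hox hpq (Ne.symm hsp) (Or.inr rfl) hq

/-- NOQ : no element of order `q` normalizes a nontrivial `r`-subgroup, `r ∉ {p, q}` prime. -/
theorem no_q_normalizer (hp : p.Prime) (hq : q.Prime) (hpq : p ≠ q) (hviol : Viol G p q)
    (r : ℕ) (hr : r.Prime) (hrp : r ≠ p) (hrq : r ≠ q) (R : Subgroup G) (hR : IsPGroup r R)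
    (hne : R ≠ ⊥) (z : G) (hz : z ∈ Subgroup.normalizer (R : Set G)) (hoz : orderOf z = q) :
    False :=
  viol_false hp hviol r hr R hR hne z hz q hq (Ne.symm hrq) hoz (Ne.symm hrp) hpq (Or.inl rfl) hq

end Cfsg.Agent.Lib.Helper29.MIXNOPRIME
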