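/-
helper29: S4017 market (planner helper26), leaf MIX-NONORMAL.
No normal subgroup of order prime to `q` and divisible by a third prime `r` (Frattini + Cauchy + NOQ).
-/
import Mathlib
import Cfsg.Agent.Lib.Helper26.MixDefs
import Cfsg.Agent.Lib.Helper29.MIXNOPRIME

set_option autoImplicit false

namespace Cfsg.Agent.Lib.Helper29.MIXNONORMAL

open Cfsg Cfsg.Agent.Lib.Helper26.Mix

universe u

variable {G : Type u} [Group G] [Finite G] {p q : ℕ}

/-- NONORMAL : no normal subgroup of order prime to `q` and divisible by a third prime `r`.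
(Frattini `Sylow.normalizer_sup_eq_top` for `R ∈ Syl_r(N)`: `q ∣ |N_G(R)|`, Cauchy, NOQ.) -/
theorem no_normal_qprime (hp : p.Prime) (hq : q.Prime) (hpq : p ≠ q) (hviol : Viol G p q)
    (hqG : q ∣ Nat.card G) (r : ℕ) (hr : r.Prime) (hrp : r ≠ p) (hrq : r ≠ q)
    (N : Subgroup G) [N.Normal] (hNq : ¬ q ∣ Nat.card N) (hrN : r ∣ Nat.card N) : False := by
  have : Fact r.Prime := ⟨hr⟩
  have : Fact q.Prime := ⟨hq⟩
  obtain ⟨R, -⟩ := (IsPGroup.of_bot : IsPGroup r (⊥ : Subgroup N)).exists_le_sylow
  set R' : Subgroup G := (R : Subgroup N).map N.subtype with hR'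
  have hR'p : IsPGroup r R' := R.2.map N.subtype
  have hR'ne : R' ≠ ⊥ := by
    intro h
    have h1 : (R : Subgroup N) = ⊥ := by
      rw [hR', Subgroup.map_eq_bot_iff_of_injective _ N.subtype_injective] at h
      exact h
    exact R.ne_bot_of_dvd_card hrN h1
  have hfr : Subgroup.normalizer (R' : Set G) ⊔ N = ⊤ := Sylow.normalizer_sup_eq_top R
  set K : Subgroup G := Subgroup.normalizer (R' : Set G) with hK
  have hidx : N.relIndex K = N.index := by
    rw [← Subgroup.relIndex_sup_right (H := K) (K := N), hfr, Subgroup.relIndex_top_right]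
  have hqidx : q ∣ N.index := by
    have h := Subgroup.card_mul_index N
    rw [← h] at hqG
    rcases (Nat.Prime.dvd_mul hq).mp hqG with h1 | h1
    · exact absurd h1 hNq
    · exact h1
  have hqK : q ∣ Nat.card K := by
    rw [← hidx] at hqidx
    exact hqidx.trans (Subgroup.relIndex_dvd_card N K)
  obtain ⟨z, hz⟩ := exists_prime_orderOf_dvd_card' q hqK
  have hoz : orderOf (z : G) = q := by rw [Subgroup.orderOf_coe]; exact hz
  exact MIXNOPRIME.no_q_normalizer hp hq hpq hviol r hr hrp hrq R' hR'p hR'ne (z : G) z.2 hoz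

end Cfsg.Agent.Lib.Helper29.MIXNONORMAL
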