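/-
helper29: S4017 market (planner helper26), leaf MIX-FROB.
If every `p`-element normalizing a `q`-subgroup centralizes it, there is no third prime
(NOPRIME ⇒ `FrobCond q G`; `FrobCond.exists_normal_complement`; NONORMAL).
-/
import Mathlib
import Cfsg.Agent.Lib.Helper26.MixDefs
import Cfsg.Agent.Lib.Helper29.Frobenius
import Cfsg.Agent.Lib.Helper29.MIXNOPRIME
import Cfsg.Agent.Lib.Helper29.MIXNONORMAL

set_option autoImplicit false

namespace Cfsg.Agent.Lib.Helper29.MIXFROB

open Cfsg Cfsg.Agent.Lib.Helper26.Mix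

universe u

variable {G : Type u} [Group G] [Finite G] {p q : ℕ}

/-- FROB : if every `p`-element normalizing a `q`-subgroup centralizes it, there is no third prime. -/
theorem frob_false (hp : p.Prime) (hq : q.Prime) (hpq : p ≠ q) (hviol : Viol G p q)
    (hqG : q ∣ Nat.card G) (hthird : Third G p q)
    (hcent : ∀ Q0 : Subgroup G, IsPGroup q Q0 → ∀ y ∈ Subgroup.normalizer (Q0 : Set G),
      (∃ k : ℕ, y ^ p ^ k = 1) → y ∈ Subgroup.centralizer (Q0 : Set G)) : False := by
  have : Fact q.Prime := ⟨hq⟩
  have hF : Cfsg.Agent.Lib.Helper29.FrobCond q G := by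
    intro Q0 hQ0 g hg hcop
    by_cases hne : Q0 = ⊥
    · subst hne
      rw [Subgroup.mem_centralizer_iff]
      intro h hh
      have : h = 1 := by simpa using hh
      subst this
      simp
    · apply hcent Q0 hQ0 g hg
      have hpos : orderOf g ≠ 0 := (orderOf_pos g).ne'
      have hall : ∀ {d : ℕ}, Nat.Prime d → d ∣ orderOf g → d = p := by
        intro d hd hdg
        by_contra hdp
        have hdq : d ≠ q := by
          rintro rfl
          have : d ∣ Nat.gcd (orderOf g) d := Nat.dvd_gcd hdg dvd_rfl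
          rw [Nat.Coprime] at hcop
          rw [hcop] at this
          exact hd.one_lt.ne' (Nat.dvd_one.mp this)
        have hox : orderOf (g ^ (orderOf g / d)) = d := orderOf_pow_orderOf_div hpos hdg
        exact MIXNOPRIME.no_prime_normalizer hp hq hpq hviol Q0 hQ0 hne (g ^ (orderOf g / d))
          (Subgroup.pow_mem _ hg _) d hd hdp hdq hox
      refine ⟨(orderOf g).primeFactorsList.length, ?_⟩
      rw [← Nat.eq_prime_pow_of_unique_prime_dvd hpos hall]
      exact pow_orderOf_eq_one g
  obtain ⟨P, -⟩ := (IsPGroup.of_bot : IsPGroup q (⊥ : Subgroup G)).exists_le_sylow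
  obtain ⟨N, hNn, hNc⟩ := hF.exists_normal_complement P
  have hcard : Nat.card N * Nat.card (P : Subgroup G) = Nat.card G := hNc.card_mul_card
  have hidx : Nat.card N = (P : Subgroup G).index := by
    have h2 := Subgroup.card_mul_index (P : Subgroup G)
    have h3 : Nat.card N * Nat.card (P : Subgroup G) =
        (P : Subgroup G).index * Nat.card (P : Subgroup G) := by
      rw [hcard, ← h2, mul_comm]
    exact Nat.eq_of_mul_eq_mul_right Nat.card_pos h3
  have hNq : ¬ q ∣ Nat.card N := by
    rw [hidx]
    exact P.not_dvd_index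
  obtain ⟨r, hr, hrG, hrp, hrq⟩ := hthird
  have hrN : r ∣ Nat.card N := by
    rw [← hcard, P.card_eq_multiplicity] at hrG
    rcases (Nat.Prime.dvd_mul hr).mp hrG with h | h
    · exact h
    · exact absurd ((Nat.prime_dvd_prime_iff_eq hr hq).mp (hr.dvd_of_dvd_pow h)) hrq
  have := hNn
  exact MIXNONORMAL.no_normal_qprime hp hq hpq hviol hqG r hr hrp hrq N hNq hrN

end Cfsg.Agent.Lib.Helper29.MIXFROB
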