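/-
helper29: S4017 market (planner helper26), leaf MIX-NOQ (exact form; proof in `MIXNOPRIME`).
-/
import Mathlib
import Cfsg.Agent.Lib.Helper26.MixDefs
import Cfsg.Agent.Lib.Helper29.MIXNOPRIME

set_option autoImplicit false

namespace Cfsg.Agent.Lib.Helper29.MIXNOQ

open Cfsg Cfsg.Agent.Lib.Helper26.Mix

universe u

variable {G : Type u} [Group G] [Finite G] {p q : ℕ}

/-- NOQ : no element of order `q` normalizes a nontrivial `r`-subgroup, `r ∉ {p, q}` prime. -/
theorem no_q_normalizer (hp : p.Prime) (hq : q.Prime) (hpq : p ≠ q) (hviol : Viol G p q)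
    (r : ℕ) (hr : r.Prime) (hrp : r ≠ p) (hrq : r ≠ q) (R : Subgroup G) (hR : IsPGroup r R)
    (hne : R ≠ ⊥) (z : G) (hz : z ∈ Subgroup.normalizer (R : Set G)) (hoz : orderOf z = q) :
    False :=
  MIXNOPRIME.no_q_normalizer hp hq hpq hviol r hr hrp hrq R hR hne z hz hoz

end Cfsg.Agent.Lib.Helper29.MIXNOQ
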