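/-
helper29: S2344 leaf A1 (planner helper26): an alternating `3 × 3` matrix is a wedge.
-/
import Cfsg.Agent.Lib.Helper26.OOMinDefs

set_option autoImplicit false

namespace Cfsg.Agent.Lib.Helper29.OOMin

open Matrix Module Cfsg.Agent.Lib.Helper27.OPMin Cfsg.Agent.Lib.Helper16.SLMin
  Cfsg.Agent.Lib.Helper26.OOMin

/-- A1: an alternating `3 × 3` matrix is decomposable. -/
theorem exists_wedge_of_isAltM_three {K : Type*} [Field K] (V : Matrix (Fin 3) (Fin 3) K)
    (hV : IsAltM V) : ∃ a b : Fin 3 → K, V = wedge a b := by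
  obtain ⟨hd, hs⟩ := hV
  have h00 := hd 0
  have h11 := hd 1
  have h22 := hd 2
  have h10 := hs 0 1
  have h20 := hs 0 2
  have h21 := hs 1 2
  by_cases hx : V 0 1 = 0
  · refine ⟨![V 0 2, V 1 2, 0], ![0, 0, 1], ?_⟩
    ext i j
    fin_cases i <;> fin_cases j <;> simp [wedge_apply, h00, h11, h22, h10, h20, h21, hx]
  · refine ⟨![1, 0, - V 1 2 / V 0 1], ![0, V 0 1, V 0 2], ?_⟩
    ext i j
    fin_cases i <;> fin_cases j <;>
      simp [wedge_apply, h00, h11, h22, h10, h20, h21] <;> (try field_simp) <;> (try ring)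

end Cfsg.Agent.Lib.Helper29.OOMin
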