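/-
helper29: S2344 leaves AR1–AR5 (planner helper26): arithmetic of the numbers
`bO q n = (q^(2n)-1)/(q^2-1)`, `Nn q n = (q^n-1)/(q-1)`, `R2 q n`, `tgt q n`.
-/
import Cfsg.Agent.Lib.Helper26.OOMinDefs
import Cfsg.Agent.Lib.Helper13.OPMinAR

set_option autoImplicit false

namespace Cfsg.Agent.Lib.Helper29.OOMin

open Matrix Module Cfsg.Agent.Lib.Helper27.OPMin Cfsg.Agent.Lib.Helper16.SLMin
  Cfsg.Agent.Lib.Helper26.OOMin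

/-- exact division for `bO` -/
theorem bO_mul (q n : ℕ) : (q ^ 2 - 1) * bO q n = q ^ (2 * n) - 1 := by
  unfold bO
  exact Nat.mul_div_cancel' (Cfsg.Agent.Lib.Helper13.OPMinArith.sq_sub_one_dvd_even q n)

/-- exact division for `Nn` -/
theorem Nn_mul (q n : ℕ) : (q - 1) * Nn q n = q ^ n - 1 :=
  Cfsg.Agent.Lib.Helper13.OPMinArith.Nn_mul q n

/-- exact division for `R2` -/
theorem R2_mul (q n : ℕ) (hn : 1 ≤ n) :
    (q ^ 2 - 1) * R2 q n = (q ^ n - 1) * (q ^ (n - 1) - 1) :=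
  Cfsg.Agent.Lib.Helper13.OPMinArith.R2_mul q n hn

/-- integer form, `n = k + 2`, `S = q^k`. -/
theorem bO_mulZ (q k : ℕ) (hq : 1 ≤ q) :
    ((q : ℤ) ^ 2 - 1) * (bO q (k + 2) : ℤ) = ((q : ℤ) ^ 2 * (q : ℤ) ^ k) ^ 2 - 1 := by
  have h := bO_mul q (k + 2)
  have h1 : 1 ≤ q ^ 2 := Nat.one_le_pow _ _ hq
  have h2 : 1 ≤ q ^ (2 * (k + 2)) := Nat.one_le_pow _ _ hq
  zify [h1, h2] at h
  rw [h]
  ring

theorem Nn_mulZ (q k : ℕ) (hq : 1 ≤ q) :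
    ((q : ℤ) - 1) * (Nn q (k + 2) : ℤ) = (q : ℤ) ^ 2 * (q : ℤ) ^ k - 1 := by
  have h := Nn_mul q (k + 2)
  have h2 : 1 ≤ q ^ (k + 2) := Nat.one_le_pow _ _ hq
  zify [hq, h2] at h
  rw [h]
  ring

theorem R2_mulZ (q k : ℕ) (hq : 1 ≤ q) :
    ((q : ℤ) ^ 2 - 1) * (R2 q (k + 2) : ℤ) =
      ((q : ℤ) ^ 2 * (q : ℤ) ^ k - 1) * ((q : ℤ) * (q : ℤ) ^ k - 1) := by
  have h := R2_mul q (k + 2) (by omega)
  have h0 : k + 2 - 1 = k + 1 := by omega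
  rw [h0] at h
  have h1 : 1 ≤ q ^ 2 := Nat.one_le_pow _ _ hq
  have h2 : 1 ≤ q ^ (k + 2) := Nat.one_le_pow _ _ hq
  have h3 : 1 ≤ q ^ (k + 1) := Nat.one_le_pow _ _ hq
  zify [h1, h2, h3] at h
  rw [h]
  ring

theorem e_pos (q : ℕ) (hq : 2 ≤ q) : (0 : ℤ) < (q : ℤ) ^ 2 - 1 := by
  have : (2 : ℤ) ≤ q := by exact_mod_cast hq
  nlinarith

/-- AR3: the key identity -/
theorem q_R2_add_Nn (q n : ℕ) (hq : 2 ≤ q) (hn : 3 ≤ n) : q * R2 q n + Nn q n = bO q n := by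
  obtain ⟨k, rfl⟩ : ∃ k, n = k + 2 := ⟨n - 2, by omega⟩
  have hB := bO_mulZ q k (by omega)
  have hN := Nn_mulZ q k (by omega)
  have hR := R2_mulZ q k (by omega)
  have he := e_pos q hq
  have h : ((q : ℤ) ^ 2 - 1) * ((q : ℤ) * (R2 q (k + 2) : ℤ) + (Nn q (k + 2) : ℤ)) =
      ((q : ℤ) ^ 2 - 1) * (bO q (k + 2) : ℤ) := by
    linear_combination (q : ℤ) * hR + ((q : ℤ) + 1) * hN - hB
  have h' := mul_left_cancel₀ (ne_of_gt he) h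
  exact_mod_cast h'

/-- AR4 -/
theorem Nn_eq_tgt_add_one (q n : ℕ) (hq : 2 ≤ q) (hn : 1 ≤ n) : Nn q n = tgt q n + 1 := by
  have h1 := Cfsg.Agent.Lib.Helper13.OPMinArith.tgt_eq q n hq hn
  have h2 := Cfsg.Agent.Lib.Helper13.OPMinArith.Nn_pos q n hq hn
  have h3 : tgt q n = Cfsg.Agent.Lib.Helper13.OPMinArith.Nn q n - 1 := h1
  have h4 : Nn q n = Cfsg.Agent.Lib.Helper13.OPMinArith.Nn q n := rfl
  rw [h3, h4]
  omega

/-- AR5 -/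
theorem bO_le_of_pow (q n : ℕ) (hq : 2 ≤ q) (hn : 3 ≤ n) :
    bO q n ≤ q * R2 q n + (q ^ n - 1) := by
  rw [← q_R2_add_Nn q n hq hn]
  apply Nat.add_le_add_left
  have h := Nn_mul q n
  calc Nn q n = 1 * Nn q n := (one_mul _).symm
    _ ≤ (q - 1) * Nn q n := Nat.mul_le_mul_right _ (by omega)
    _ = q ^ n - 1 := h

/-- AR2 -/
theorem bO_le_two_q_R2 (q n : ℕ) (hq : 2 ≤ q) (hn : 3 ≤ n) : bO q n ≤ 2 * q * R2 q n := by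
  obtain ⟨k, rfl⟩ : ∃ k, n = k + 2 := ⟨n - 2, by omega⟩
  have hB := bO_mulZ q k (by omega)
  have hR := R2_mulZ q k (by omega)
  have he := e_pos q hq
  have hq2 : (2 : ℤ) ≤ q := by exact_mod_cast hq
  have hk : 1 ≤ k := by omega
  -- `S = q^k ≥ q`
  have hS : (q : ℤ) ≤ (q : ℤ) ^ k := by
    have : q ^ 1 ≤ q ^ k := Nat.pow_le_pow_right (by omega) hk
    rw [pow_one] at this
    exact_mod_cast this
  set S : ℤ := (q : ℤ) ^ k with hSdef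
  have h : ((q : ℤ) ^ 2 - 1) * (bO q (k + 2) : ℤ) ≤
      ((q : ℤ) ^ 2 - 1) * (2 * (q : ℤ) * (R2 q (k + 2) : ℤ)) := by
    have e1 : ((q : ℤ) ^ 2 - 1) * (2 * (q : ℤ) * (R2 q (k + 2) : ℤ)) =
        2 * (q : ℤ) * (((q : ℤ) ^ 2 * S - 1) * ((q : ℤ) * S - 1)) := by
      rw [← hR]; ring
    rw [hB, e1]
    -- `(Q-1)(Q+1) ≤ 2q(Q-1)(P-1)` with `Q = q^2 S`, `P = q S`
    have hQ1 : (0 : ℤ) ≤ (q : ℤ) ^ 2 * S - 1 := by nlinarith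
    have hkey : (q : ℤ) ^ 2 * S + 1 ≤ 2 * (q : ℤ) * ((q : ℤ) * S - 1) := by nlinarith
    have := mul_le_mul_of_nonneg_left hkey hQ1
    nlinarith [this]
  have h' := le_of_mul_le_mul_left h he
  exact_mod_cast h'

/-- AR1 -/
theorem bO_le_caseA (q n : ℕ) (hq : 2 ≤ q) (hn : 4 ≤ n) :
    bO q n ≤ (q ^ (n - 1) - 1) * (2 * q ^ (n - 2)) * q := by
  obtain ⟨k, rfl⟩ : ∃ k, n = k + 2 := ⟨n - 2, by omega⟩
  have h0 : k + 2 - 1 = k + 1 := by omega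
  have h0' : k + 2 - 2 = k := by omega
  rw [h0, h0']
  have hB := bO_mulZ q k (by omega)
  have he := e_pos q hq
  have hq2 : (2 : ℤ) ≤ q := by exact_mod_cast hq
  have hk : 2 ≤ k := by omega
  -- `S = q^k ≥ q^2`
  have hS : (q : ℤ) ^ 2 ≤ (q : ℤ) ^ k := by
    have : q ^ 2 ≤ q ^ k := Nat.pow_le_pow_right (by omega) hk
    exact_mod_cast this
  have h3 : 1 ≤ q ^ (k + 1) := Nat.one_le_pow _ _ (by omega)
  have hcast : (((q ^ (k + 1) - 1) * (2 * q ^ k) * q : ℕ) : ℤ) =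
      ((q : ℤ) * (q : ℤ) ^ k - 1) * (2 * (q : ℤ) ^ k) * (q : ℤ) := by
    push_cast [Nat.cast_sub h3]
    ring
  set S : ℤ := (q : ℤ) ^ k with hSdef
  have h : ((q : ℤ) ^ 2 - 1) * (bO q (k + 2) : ℤ) ≤
      ((q : ℤ) ^ 2 - 1) * (((q : ℤ) * S - 1) * (2 * S) * (q : ℤ)) := by
    rw [hB]
    -- with `P = q S ≥ 8`: `q^2 P^2 - 1 ≤ 2 (q^2-1) P (P-1)`
    have hq4 : (4 : ℤ) ≤ (q : ℤ) ^ 2 := by nlinarith
    have hS4 : (4 : ℤ) ≤ S := le_trans hq4 hS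
    set P : ℤ := (q : ℤ) * S with hP
    have hP8 : (8 : ℤ) ≤ P := by nlinarith
    have e1 : ((q : ℤ) ^ 2 * S) ^ 2 = (q : ℤ) ^ 2 * P ^ 2 := by rw [hP]; ring
    have e2 : ((q : ℤ) ^ 2 - 1) * ((P - 1) * (2 * S) * (q : ℤ)) =
        2 * ((q : ℤ) ^ 2 - 1) * (P * (P - 1)) := by rw [hP]; ring
    rw [e1, e2]
    have h1 : (0 : ℤ) ≤ ((q : ℤ) ^ 2 - 4) * (P - 2) :=
      mul_nonneg (by linarith) (by linarith)
    have h2 : (0 : ℤ) ≤ P * ((q : ℤ) ^ 2 * (P - 2) - 2 * P) :=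
      mul_nonneg (by linarith) (by nlinarith)
    nlinarith [h2]
  have h' := le_of_mul_le_mul_left h he
  rw [← hcast] at h'
  exact_mod_cast h'

end Cfsg.Agent.Lib.Helper29.OOMin
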