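import Mathlib
import Cfsg.Prelude.Def_CaseTheorems
import Cfsg.Prelude.Def_OddOrderLocal
import Cfsg.Agent.Lib.Helper26.EssChain
import Cfsg.Agent.Lib.Helper26.R5Defs
import Cfsg.Agent.Lib.Helper26.OrderPCubeA
import Cfsg.Agent.Lib.Helper1.OmegaRankTwo
import Cfsg.Agent.Lib.Helper8.R5C
import Cfsg.Agent.S0120

/-! S5289 second wave, tools for leaf R5J (caseII_false). -/

set_option autoImplicit false
open scoped commutatorElement
open Cfsg.Agent.Lib.Helper26 Cfsg.Agent.Lib.Helper26.R5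

namespace Cfsg.Agent.Lib.Helper29.R5Leaf

/-- powers of an automorphism moving `x` by a fixed element `k`. -/
theorem pow_apply_of_fix {E : Type*} [Group E] (γ : MulAut E) (x k : E) (hk : γ k = k)
    (hx : γ x = x * k) (i : ℕ) : (γ ^ i) x = x * k ^ i := by
  induction i with
  | zero => simp
  | succ i ih =>
    rw [pow_succ', MulAut.mul_apply, ih, map_mul, map_pow, hk, hx, mul_assoc, ← pow_succ']

/-- Tool (T): an automorphism of a `p`-group (`p` odd), trivial on a subgroup `K` of exponent `p` and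
moving every element of order dividing `p` by an element of `K`, is a `p`-element. -/
theorem exists_pow_eq_one_of_stab {E : Type*} [Group E] [Finite E] {p : ℕ} [Fact p.Prime]
    (hp2 : p ≠ 2) (hE : IsPGroup p E) (γ : MulAut E) (K : Subgroup E) (hK : ∀ k ∈ K, k ^ p = 1)
    (hγK : ∀ k ∈ K, γ k = k) (hγ : ∀ x : E, x ^ p = 1 → x⁻¹ * γ x ∈ K) :
    ∃ j : ℕ, γ ^ p ^ j = 1 := by
  have hpp : p.Prime := Fact.out
  have hn0 : orderOf γ ≠ 0 := (orderOf_pos γ).ne'
  obtain ⟨j, m, hm, hn⟩ := Nat.exists_eq_pow_mul_and_not_dvd hn0 p hpp.ne_one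
  refine ⟨j, ?_⟩
  set γ' : MulAut E := γ ^ p ^ j with hγ'
  have hord : orderOf γ' = m := by
    rw [hγ', orderOf_pow' γ (pow_ne_zero j hpp.ne_zero), hn, Nat.gcd_eq_right (Dvd.intro _ rfl)]
    exact Nat.mul_div_cancel_left m (pow_pos hpp.pos j)
  have hcop : Nat.Coprime (orderOf γ') p := by
    rw [hord]
    exact ((Nat.Prime.coprime_iff_not_dvd hpp).2 hm).symm
  apply Cfsg.Agent.S0120.result hp2 hE γ' hcop
  intro x hx
  have hxk := hγ x hx
  set k : E := x⁻¹ * γ x with hkdef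
  have hγx : γ x = x * k := by rw [hkdef, mul_inv_cancel_left]
  have h1 : γ' x = x * k ^ (p ^ j) := pow_apply_of_fix γ x k (hγK k hxk) hγx (p ^ j)
  set k' : E := k ^ (p ^ j) with hk'def
  have hk'K : k' ∈ K := K.pow_mem hxk _
  have hγ'k' : γ' k' = k' := by
    have := pow_apply_of_fix γ k' 1 (map_one γ) (by rw [mul_one]; exact hγK k' hk'K) (p ^ j)
    rw [one_pow, mul_one] at this
    exact this
  have h2 : (γ' ^ m) x = x * k' ^ m := pow_apply_of_fix γ' x k' hγ'k' h1 m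
  have h3 : γ' ^ m = 1 := by rw [← hord]; exact pow_orderOf_eq_one γ'
  rw [h3, MulAut.one_apply] at h2
  have h4 : k' ^ m = 1 := by
    have := mul_left_cancel (a := x) (b := 1) (c := k' ^ m) (by rw [mul_one]; exact h2)
    exact this.symm
  have h5 : k' ^ p = 1 := hK k' hk'K
  have h6 : k' = 1 := by
    have hcop' : Nat.Coprime m p := ((Nat.Prime.coprime_iff_not_dvd hpp).2 hm).symm
    have hdvd1 : orderOf k' ∣ m := orderOf_dvd_of_pow_eq_one h4
    have hdvd2 : orderOf k' ∣ p := orderOf_dvd_of_pow_eq_one h5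
    have : orderOf k' = 1 := Nat.eq_one_of_dvd_coprimes hcop' hdvd1 hdvd2
    exact orderOf_eq_one_iff.1 this
  rw [h1, h6, mul_one]

/-- conjugation by `ι e` induces the inner automorphism `conj e`. -/
theorem c_iota_eq_conj {E 𝕋 : Type*} [Group E] [Group 𝕋] (ι : E →* 𝕋) (hι : Function.Injective ι)
    (c : 𝕋 →* MulAut E) (hc : ∀ t e, ι (c t e) = t * ι e * t⁻¹) (e : E) :
    c (ι e) = MulAut.conj e := by
  ext e'
  apply hι
  rw [hc, MulAut.conj_apply, map_mul, map_mul, map_inv]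

/-- an element of `𝕋` inducing an inner automorphism of `E` lies in `ι(E)`. -/
theorem mem_range_of_c_mem_inn {E 𝕋 : Type*} [Group E] [Group 𝕋] (ι : E →* 𝕋)
    (hι : Function.Injective ι)
    (hcen : ∀ t : 𝕋, (∀ e : E, t * ι e = ι e * t) → t ∈ ι.range)
    (c : 𝕋 →* MulAut E) (hc : ∀ t e, ι (c t e) = t * ι e * t⁻¹) (x : 𝕋)
    (hx : c x ∈ Cfsg.Inn E) : x ∈ ι.range := by
  obtain ⟨e, he⟩ := hx
  have h1 : c (x * (ι e)⁻¹) = 1 := by
    rw [map_mul, map_inv, c_iota_eq_conj ι hι c hc e, ← he, mul_inv_cancel]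
  have h2 : x * (ι e)⁻¹ ∈ ι.range := by
    apply hcen
    intro e'
    have := hc (x * (ι e)⁻¹) e'
    rw [h1, MulAut.one_apply] at this
    have h4 : ι e' * (x * (ι e)⁻¹) = (x * (ι e)⁻¹) * ι e' := by
      conv_lhs => rw [this]
      rw [inv_mul_cancel_right]
    exact h4.symm
  have h3 : x = (x * (ι e)⁻¹) * ι e := by rw [inv_mul_cancel_right]
  rw [h3]
  exact ι.range.mul_mem h2 ⟨e, rfl⟩

end Cfsg.Agent.Lib.Helper29.R5Leaf
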