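import Cfsg.Agent.Lib.Helper29.R5JStruct
import Cfsg.Agent.Lib.Helper24.R5A
import Cfsg.Agent.Lib.Helper20.R5G

/-! S5289 second wave, leaf R5J (caseII_false): `Ω₁(E)` nonabelian is impossible for an essential `E`. -/

set_option autoImplicit false
open scoped commutatorElement
open Cfsg.Agent.Lib.Helper26 Cfsg.Agent.Lib.Helper26.R5

namespace Cfsg.Agent.Lib.Helper29.R5Leaf

/-- a `p`-element `a` of `Aut(W)`, `W ≅ C_p × C_p`, has `a ^ p = 1`. -/
theorem pow_prime_eq_one_of_aut {W : Type*} [Group W] [Finite W] {p : ℕ} [Fact p.Prime]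
    (hcomm : ∀ x y : W, x * y = y * x) (hcard : Nat.card W = p ^ 2) (hexp : ∀ w : W, w ^ p = 1)
    (a : MulAut W) (hap : ∃ j : ℕ, a ^ p ^ j = 1) : a ^ p = 1 := by
  have hpp : p.Prime := Fact.out
  obtain ⟨j, hj⟩ := hap
  by_contra hne1
  have hQ : IsPGroup p (Subgroup.zpowers a) := by
    rintro ⟨g, hg⟩
    obtain ⟨n, rfl⟩ := hg
    refine ⟨j, Subtype.ext ?_⟩
    show (a ^ n) ^ p ^ j = 1
    rw [← zpow_natCast, ← zpow_mul, mul_comm, zpow_mul, zpow_natCast, hj, one_zpow]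
  have hQeq := Cfsg.Agent.Lib.Helper24.R5Leaf.pgroup_eq_zpowers hcomm hcard hexp
    (Subgroup.zpowers a) hQ (a := a ^ p) (Subgroup.pow_mem _ (Subgroup.mem_zpowers a) p) hne1
  have ha_mem : a ∈ Subgroup.zpowers (a ^ p) := by
    rw [← hQeq]; exact Subgroup.mem_zpowers a
  obtain ⟨n, hn⟩ := ha_mem
  have hn' : (a ^ p) ^ n = a := hn
  have h1 : a ^ ((p : ℤ) * n - 1) = 1 := by
    rw [zpow_sub, zpow_mul, zpow_natCast, hn', zpow_one, mul_inv_cancel]
  have h2 : (orderOf a : ℤ) ∣ (p : ℤ) * n - 1 := orderOf_dvd_iff_zpow_eq_one.2 h1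
  have h3 : orderOf a ∣ p ^ j := orderOf_dvd_of_pow_eq_one hj
  obtain ⟨k, _, hok⟩ := (Nat.dvd_prime_pow hpp).1 h3
  cases k with
  | zero =>
    rw [pow_zero, orderOf_eq_one_iff] at hok
    apply hne1
    rw [hok, one_pow]
  | succ k =>
    have hp_dvd : (p : ℤ) ∣ (orderOf a : ℤ) := by
      rw [hok, pow_succ]
      push_cast
      exact Dvd.intro_left _ rfl
    have h4 : (p : ℤ) ∣ (p : ℤ) * n - 1 := hp_dvd.trans h2
    have h5 : (p : ℤ) ∣ 1 := by
      have := Int.dvd_sub (Dvd.intro n rfl : (p : ℤ) ∣ (p : ℤ) * n) h4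
      simpa using this
    have h6 : p ∣ 1 := by exact_mod_cast h5
    exact hpp.one_lt.ne' (Nat.dvd_one.1 h6)

/-- R5J  caseII_false  (Ω₁(E) nonabelian is impossible for an essential E) -/
theorem caseII_false {E 𝕋 : Type*} [Group E] [Group 𝕋] [Finite 𝕋] {p : ℕ} [Fact p.Prime] (hp : 3 < p)
    (h𝕋 : IsPGroup p 𝕋) (hrk : Cfsg.PRankLE p 2 𝕋)
    (ι : E →* 𝕋) (hι : Function.Injective ι)
    (hcen : ∀ t : 𝕋, (∀ e : E, t * ι e = ι e * t) → t ∈ ι.range)
    (hne : ∃ t : 𝕋, t ∉ ι.range)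
    (hnab : ∃ x y : E, x ^ p = 1 ∧ y ^ p = 1 ∧ x * y ≠ y * x)
    (X : Subgroup (MulAut E)) (hd : EssData p E X)
    (c : 𝕋 →* MulAut E) (hc : ∀ t e, ι (c t e) = t * ι e * t⁻¹) (hcX : ∀ t, c t ∈ X)
    (hext : ∀ τ ∈ X, (∀ t, ∃ t', τ * c t * τ⁻¹ = c t') → ∃ τ' : MulAut 𝕋, ∀ e, τ' (ι e) = ι (τ e)) :
    False := by
  have hpp : p.Prime := Fact.out
  have hfinE : Finite E := Finite.of_injective ι hι
  have hEp : IsPGroup p E := h𝕋.of_injective ι hι
  have hrkE : Cfsg.PRankLE p 2 E := by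
    intro A hA hAe
    have h1 := hrk (A.map ι) (by
      constructor
      constructor
      rintro ⟨_, a, ha, rfl⟩ ⟨_, b, hb, rfl⟩
      apply Subtype.ext
      show ι a * ι b = ι b * ι a
      rw [← map_mul, ← map_mul]
      have := hA.is_comm.comm ⟨a, ha⟩ ⟨b, hb⟩
      exact congrArg ι (congrArg Subtype.val this)) (by
      rintro _ ⟨a, ha, rfl⟩
      rw [← map_pow, hAe a ha, map_one])
    rwa [Subgroup.card_map_of_injective hι] at h1
  -- (a) the kernel of `ρ` on `X` lies in `Inn E`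
  have hkerInn : ∀ γ ∈ X, rhoHom p E γ = 1 → γ ∈ Cfsg.Inn E := by
    intro γ hγX hγ
    let N : Subgroup X := ((rhoHom p E).comp X.subtype).ker
    have hNn : N.Normal := MonoidHom.normal_ker _
    have hNp : IsPGroup p N := by
      rintro ⟨g, hg⟩
      have hg1 : rhoHom p E (g : MulAut E) = 1 := hg
      obtain ⟨j, hj⟩ := exists_pow_eq_one_of_rhoHom_eq_one hp hEp hrkE hnab (g : MulAut E) hg1
      refine ⟨j, ?_⟩
      apply Subtype.ext
      apply Subtype.ext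
      simpa using hj
    exact hd.core N hNn hNp ⟨γ, hγX⟩ (show rhoHom p E γ = 1 from hγ)
  have hker : ∀ γ ∈ X, rhoHom p E γ = 1 → ∃ t : 𝕋, γ = c t := by
    intro γ hγX hγ
    obtain ⟨e, he⟩ := hkerInn γ hγX hγ
    exact ⟨ι e, by rw [c_iota_eq_conj ι hι c hc e]; exact he.symm⟩
  -- (b) the element `x`
  obtain ⟨x, hx⟩ := hne
  have hx1 : rhoHom p E (c x) ≠ 1 := fun h =>
    hx (mem_range_of_c_mem_inn ι hι hcen c hc x (hkerInn _ (hcX x) h))
  obtain ⟨jx, hjx⟩ := h𝕋 x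
  have hcxp : (c x) ^ p ^ jx = 1 := by rw [← map_pow, hjx, map_one]
  have ha_p : (rhoHom p E (c x)) ^ p = 1 := by
    apply pow_prime_eq_one_of_aut (W_comm hp hEp hrkE hnab) (W_card hp hEp hrkE hnab)
      (W_exp hp hEp hrkE)
    exact ⟨jx, by rw [← map_pow, hcxp, map_one]⟩
  have hxp : x ^ p ∈ ι.range := by
    apply mem_range_of_c_mem_inn ι hι hcen c hc
    apply hkerInn _ (hcX _)
    rw [map_pow, map_pow]
    exact ha_p
  -- (c) the element `β`
  by_cases hall : ∀ β ∈ X, (∃ j : ℕ, β ^ p ^ j = 1) →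
      rhoHom p E β ∈ Subgroup.zpowers (rhoHom p E (c x))
  · let S : Set X := {γ | ∃ j : ℕ, γ ^ p ^ j = 1}
    let N₀ : Subgroup X := Subgroup.normalClosure S
    have hN₀n : N₀.Normal := Subgroup.normalClosure_normal
    have himg : N₀ ≤ (Subgroup.zpowers (rhoHom p E (c x))).comap ((rhoHom p E).comp X.subtype) := by
      show Subgroup.closure (Group.conjugatesOfSet S) ≤ _
      rw [Subgroup.closure_le]
      intro g hg
      obtain ⟨b, ⟨j, hj⟩, hbg⟩ := Group.mem_conjugatesOfSet_iff.1 hg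
      obtain ⟨u, hu⟩ := isConj_iff.1 hbg
      have hgp : g ^ p ^ j = 1 := by
        rw [← hu, conj_pow, hj, mul_one, mul_inv_cancel]
      show rhoHom p E (g : MulAut E) ∈ Subgroup.zpowers (rhoHom p E (c x))
      apply hall _ g.2
      refine ⟨j, ?_⟩
      have := congrArg Subtype.val hgp
      simpa using this
    have hN₀p : IsPGroup p N₀ := by
      rintro ⟨g, hg⟩
      have h1 : rhoHom p E (g : MulAut E) ∈ Subgroup.zpowers (rhoHom p E (c x)) := himg hg
      obtain ⟨n, hn⟩ := h1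
      have h2 : rhoHom p E ((g : MulAut E) ^ p) = 1 := by
        rw [map_pow, ← hn]
        show ((rhoHom p E (c x)) ^ n) ^ p = 1
        rw [← zpow_natCast, ← zpow_mul, mul_comm, zpow_mul, zpow_natCast, ha_p, one_zpow]
      obtain ⟨j, hj⟩ := exists_pow_eq_one_of_rhoHom_eq_one hp hEp hrkE hnab _ h2
      refine ⟨j + 1, ?_⟩
      apply Subtype.ext
      apply Subtype.ext
      have : (g : MulAut E) ^ p ^ (j + 1) = 1 := by
        rw [pow_succ', pow_mul]; exact hj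
      simpa using this
    have hcx : (⟨c x, hcX x⟩ : X) ∈ N₀ := by
      apply Subgroup.subset_normalClosure
      refine ⟨jx, ?_⟩
      apply Subtype.ext
      simpa using hcxp
    have hInn := hd.core N₀ hN₀n hN₀p ⟨c x, hcX x⟩ hcx
    exact hx (mem_range_of_c_mem_inn ι hι hcen c hc x hInn)
  · push Not at hall
    obtain ⟨β, hβX, hβp, hβ⟩ := hall
    exact Cfsg.Agent.Lib.Helper20.R5Leaf.engine_two hp h𝕋 hrk ι hι hnab X c hc hcX hker x hx1 hxp
      β hβX hβp hβ hext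

end Cfsg.Agent.Lib.Helper29.R5Leaf
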