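import Mathlib

/-!
# A centric characteristic subgroup of a finite `p`-group (helper29)

`kIn T` is built inside an ambient group by iterating `stepIn T`, which adds to a subgroup `W ≤ T`
the largest subgroup `A` with `Z(W) ≤ A ≤ C_T(W)`, normalized by `C_T(W)`, abelian modulo `Z(W)` and
such that every `x ∈ C_T(W)` acting quadratically on `A` modulo `Z(W)` centralizes `A` modulo `Z(W)`.
-/

set_option autoImplicit false
open scoped commutatorElement

namespace Cfsg.Agent.Lib.Helper29.CFun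

variable {G : Type*} [Group G]

/-- elements normalizing `Z` and commuting with every element of `B` modulo `Z` -/
def cm (Z : Subgroup G) (B : Set G) : Subgroup G where
  carrier := {g | g ∈ Subgroup.normalizer (Z : Set G) ∧ ∀ b ∈ B, ⁅g, b⁆ ∈ Z}
  one_mem' := ⟨one_mem _, fun b _ => by rw [commutatorElement_one_left]; exact one_mem _⟩
  mul_mem' := by
    rintro g h ⟨hg, hg'⟩ ⟨hh, hh'⟩
    refine ⟨mul_mem hg hh, fun b hb => ?_⟩
    have e : ⁅g * h, b⁆ = g * ⁅h, b⁆ * g⁻¹ * ⁅g, b⁆ := by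
      simp only [commutatorElement_def]; group
    rw [e]
    exact mul_mem ((Subgroup.mem_normalizer_iff.mp hg _).mp (hh' b hb)) (hg' b hb)
  inv_mem' := by
    rintro g ⟨hg, hg'⟩
    refine ⟨inv_mem hg, fun b hb => ?_⟩
    have e : ⁅g⁻¹, b⁆ = g⁻¹ * (⁅g, b⁆)⁻¹ * g⁻¹⁻¹ := by
      simp only [commutatorElement_def]; group
    rw [e]
    exact (Subgroup.mem_normalizer_iff.mp (inv_mem hg) _).mp (inv_mem (hg' b hb))

theorem mem_cm {Z : Subgroup G} {B : Set G} {g : G} :
    g ∈ cm Z B ↔ g ∈ Subgroup.normalizer (Z : Set G) ∧ ∀ b ∈ B, ⁅g, b⁆ ∈ Z := Iff.rfl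

theorem comm_le_iff {Z A B : Subgroup G} (hA : A ≤ Subgroup.normalizer (Z : Set G)) :
    ⁅A, B⁆ ≤ Z ↔ A ≤ cm Z (B : Set G) := by
  constructor
  · intro h a ha
    exact ⟨hA ha, fun b hb => h (Subgroup.commutator_mem_commutator ha hb)⟩
  · intro h
    exact Subgroup.commutator_le.mpr (fun a ha b hb => (h ha).2 b hb)

theorem cm_symm {Z A B : Subgroup G} (h : A ≤ cm Z (B : Set G))
    (hB : B ≤ Subgroup.normalizer (Z : Set G)) : B ≤ cm Z (A : Set G) := by
  intro b hb
  refine ⟨hB hb, fun a ha => ?_⟩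
  rw [← commutatorElement_inv]
  exact inv_mem ((h ha).2 b hb)

theorem le_normalizer_of_conj_mem (C A : Subgroup G)
    (h : ∀ y ∈ C, ∀ a ∈ A, y * a * y⁻¹ ∈ A) : C ≤ Subgroup.normalizer (A : Set G) := by
  intro y hy
  rw [Subgroup.mem_normalizer_iff]
  intro g
  refine ⟨h y hy g, fun hg => ?_⟩
  have := h y⁻¹ (inv_mem hy) _ hg
  simpa [mul_assoc] using this

theorem commutator_le_right_of_le_normalizer {A B : Subgroup G}
    (h : A ≤ Subgroup.normalizer (B : Set G)) : ⁅A, B⁆ ≤ B := by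
  rw [Subgroup.commutator_le]
  intro a ha b hb
  rw [commutatorElement_def]
  exact mul_mem ((Subgroup.mem_normalizer_iff.mp (h ha) b).mp hb) (inv_mem hb)

theorem commutator_le_left_of_le_normalizer {A B : Subgroup G}
    (h : B ≤ Subgroup.normalizer (A : Set G)) : ⁅A, B⁆ ≤ A := by
  rw [Subgroup.commutator_comm]
  exact commutator_le_right_of_le_normalizer h

/-- the family whose largest member is added in one step -/
structure Fam (C Z A : Subgroup G) : Prop where
  le : Z ≤ A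
  leC : A ≤ C
  norm : C ≤ Subgroup.normalizer (A : Set G)
  ab : ⁅A, A⁆ ≤ Z
  quad : ∀ x ∈ C, ⁅⁅A, Subgroup.zpowers x⁆, Subgroup.zpowers x⁆ ≤ Z → ⁅A, Subgroup.zpowers x⁆ ≤ Z

/-- the join of the family -/
def dRel (C Z : Subgroup G) : Subgroup G := sSup {A | Fam C Z A}

theorem dRel_le (C Z : Subgroup G) : dRel C Z ≤ C := sSup_le (fun _ hA => hA.leC)

theorem Fam.le_dRel {C Z A : Subgroup G} (h : Fam C Z A) : A ≤ dRel C Z := le_sSup h

theorem Fam.mono {C C' Z A : Subgroup G} (h : Fam C Z A) (hC : C' ≤ C) (hA : A ≤ C') :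
    Fam C' Z A :=
  ⟨h.le, hA, hC.trans h.norm, h.ab, fun x hx => h.quad x (hC hx)⟩

theorem fam_self {C Z : Subgroup G} (hZC : Z ≤ C) (hZ : C ≤ Subgroup.normalizer (Z : Set G)) :
    Fam C Z Z := by
  refine ⟨le_rfl, hZC, hZ, ?_, fun x hx _ => ?_⟩
  · rw [Subgroup.commutator_le]
    intro a ha b hb
    rw [commutatorElement_def]
    exact mul_mem (mul_mem (mul_mem ha hb) (inv_mem ha)) (inv_mem hb)
  · exact commutator_le_left_of_le_normalizer ((Subgroup.zpowers_le.mpr hx).trans hZ)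

theorem fam_sup {C Z A₁ A₂ : Subgroup G} (hZ : C ≤ Subgroup.normalizer (Z : Set G))
    (h1 : Fam C Z A₁) (h2 : Fam C Z A₂) : Fam C Z (A₁ ⊔ A₂) := by
  have hN1 : A₁ ≤ Subgroup.normalizer (Z : Set G) := h1.leC.trans hZ
  have hN2 : A₂ ≤ Subgroup.normalizer (Z : Set G) := h2.leC.trans hZ
  have hN : A₁ ⊔ A₂ ≤ Subgroup.normalizer (Z : Set G) := sup_le hN1 hN2
  -- the two members commute modulo `Z`
  have h12 : ⁅A₁, A₂⁆ ≤ Z := by
    rw [Subgroup.commutator_le]
    intro a ha x hx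
    have hz : Subgroup.zpowers x ≤ A₂ := Subgroup.zpowers_le.mpr hx
    have hq : ⁅⁅A₁, Subgroup.zpowers x⁆, Subgroup.zpowers x⁆ ≤ Z := by
      have e1 : ⁅A₁, Subgroup.zpowers x⁆ ≤ A₂ :=
        (Subgroup.commutator_mono le_rfl hz).trans
          (commutator_le_right_of_le_normalizer (h1.leC.trans h2.norm))
      exact (Subgroup.commutator_mono e1 hz).trans h2.ab
    exact h1.quad x (h2.leC hx) hq (Subgroup.commutator_mem_commutator ha (Subgroup.mem_zpowers x))
  have h21 : ⁅A₂, A₁⁆ ≤ Z := by rw [Subgroup.commutator_comm]; exact h12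
  refine ⟨h1.le.trans le_sup_left, sup_le h1.leC h2.leC, ?_, ?_, ?_⟩
  · apply le_normalizer_of_conj_mem
    intro y hy a ha
    have : A₁ ⊔ A₂ ≤ (A₁ ⊔ A₂).comap (MulAut.conj y).toMonoidHom := by
      apply sup_le
      · intro b hb
        rw [Subgroup.mem_comap]
        exact Subgroup.mem_sup_left ((Subgroup.mem_normalizer_iff.mp (h1.norm hy) b).mp hb)
      · intro b hb
        rw [Subgroup.mem_comap]
        exact Subgroup.mem_sup_right ((Subgroup.mem_normalizer_iff.mp (h2.norm hy) b).mp hb)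
    exact this ha
  · rw [comm_le_iff hN]
    apply sup_le
    · apply cm_symm _ hN1
      apply sup_le
      · exact (comm_le_iff hN1).mp h1.ab
      · exact (comm_le_iff hN2).mp h21
    · apply cm_symm _ hN2
      apply sup_le
      · exact (comm_le_iff hN1).mp h12
      · exact (comm_le_iff hN2).mp h2.ab
  · intro x hx hq
    rw [comm_le_iff hN]
    apply sup_le
    · rw [← comm_le_iff hN1]
      apply h1.quad x hx
      exact (Subgroup.commutator_mono (Subgroup.commutator_mono le_sup_left le_rfl) le_rfl).trans hq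
    · rw [← comm_le_iff hN2]
      apply h2.quad x hx
      exact (Subgroup.commutator_mono (Subgroup.commutator_mono le_sup_right le_rfl) le_rfl).trans hq

theorem dRel_mem_fam [Finite G] {C Z : Subgroup G} (hZC : Z ≤ C)
    (hZ : C ≤ Subgroup.normalizer (Z : Set G)) : Fam C Z (dRel C Z) := by
  obtain ⟨A₀, hA₀, hmax⟩ := Set.exists_max_image {A : Subgroup G | Fam C Z A}
    (fun A => Nat.card A) (Set.toFinite _) ⟨Z, fam_self hZC hZ⟩
  have htop : ∀ A, Fam C Z A → A ≤ A₀ := by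
    intro A hA
    have h1 : Fam C Z (A₀ ⊔ A) := fam_sup hZ hA₀ hA
    have h2 := hmax _ h1
    have h3 : A₀ = A₀ ⊔ A := Subgroup.eq_of_le_of_card_ge le_sup_left h2
    rw [h3]
    exact le_sup_right
  have : dRel C Z = A₀ := le_antisymm (sSup_le (fun A hA => htop A hA)) (le_sSup hA₀)
  rw [this]
  exact hA₀

/-- the preimage of the centre of `C / Z` belongs to the family -/
theorem fam_center {C Z : Subgroup G} (hZC : Z ≤ C)
    (hZ : C ≤ Subgroup.normalizer (Z : Set G)) : Fam C Z (cm Z (C : Set G) ⊓ C) := by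
  refine ⟨?_, inf_le_right, ?_, ?_, ?_⟩
  · intro z hz
    refine ⟨⟨hZ (hZC hz), fun b hb => ?_⟩, hZC hz⟩
    rw [commutatorElement_def]
    have := (Subgroup.mem_normalizer_iff.mp (hZ hb) z⁻¹).mp (inv_mem hz)
    have e : z * b * z⁻¹ * b⁻¹ = z * (b * z⁻¹ * b⁻¹) := by group
    rw [e]
    exact mul_mem hz this
  · apply le_normalizer_of_conj_mem
    rintro y hy h ⟨⟨_, hh⟩, hhC⟩
    have hyh : y * h * y⁻¹ ∈ C := mul_mem (mul_mem hy hhC) (inv_mem hy)
    refine ⟨⟨hZ hyh, fun b hb => ?_⟩, hyh⟩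
    have hb' : y⁻¹ * b * y ∈ C := mul_mem (mul_mem (inv_mem hy) hb) hy
    have e : ⁅y * h * y⁻¹, b⁆ = y * ⁅h, y⁻¹ * b * y⁆ * y⁻¹ := by
      simp only [commutatorElement_def]; group
    rw [e]
    exact (Subgroup.mem_normalizer_iff.mp (hZ hy) _).mp (hh _ hb')
  · rw [Subgroup.commutator_le]
    rintro a ⟨⟨_, ha⟩, _⟩ b ⟨_, hb⟩
    exact ha b hb
  · intro x hx _
    rw [Subgroup.commutator_le]
    rintro a ⟨⟨_, ha⟩, _⟩ b hb
    exact ha b ((Subgroup.zpowers_le.mpr hx) hb)

/-- in a finite `p`-group the family has a member strictly above `Z`, unless `Z = C` -/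
theorem exists_mem_dRel_not_mem [Finite G] {p : ℕ} [Fact p.Prime] {C Z : Subgroup G}
    (hC : IsPGroup p C) (hZC : Z ≤ C) (hZ : C ≤ Subgroup.normalizer (Z : Set G)) (hne : Z ≠ C) :
    ∃ c ∈ dRel C Z, c ∉ Z := by
  have hn : (Z.subgroupOf C).Normal := (Subgroup.normal_subgroupOf_iff_le_normalizer hZC).mpr hZ
  have hnt : Nontrivial (↥C ⧸ Z.subgroupOf C) := by
    by_contra hcon
    rw [not_nontrivial_iff_subsingleton] at hcon
    apply hne
    apply le_antisymm hZC
    intro c hc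
    have : ((⟨c, hc⟩ : ↥C) : ↥C ⧸ Z.subgroupOf C) = 1 := Subsingleton.elim _ _
    rw [QuotientGroup.eq_one_iff] at this
    exact this
  have hQ : IsPGroup p (↥C ⧸ Z.subgroupOf C) := hC.to_quotient _
  have hcen := hQ.center_nontrivial
  obtain ⟨⟨cb, hcb⟩, hcb1⟩ := exists_ne (1 : Subgroup.center (↥C ⧸ Z.subgroupOf C))
  obtain ⟨c, rfl⟩ := QuotientGroup.mk_surjective cb
  have hcZ : (c : G) ∉ Z := by
    intro h
    apply hcb1
    apply Subtype.ext
    show (c : ↥C ⧸ Z.subgroupOf C) = 1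
    rw [QuotientGroup.eq_one_iff]
    exact h
  refine ⟨c, (fam_center hZC hZ).le_dRel ⟨⟨hZ c.2, fun b hb => ?_⟩, c.2⟩, hcZ⟩
  have h1 := Subgroup.mem_center_iff.mp hcb ((⟨b, hb⟩ : ↥C) : ↥C ⧸ Z.subgroupOf C)
  have h2 : ((c * ⟨b, hb⟩ * c⁻¹ * (⟨b, hb⟩ : ↥C)⁻¹ : ↥C) : ↥C ⧸ Z.subgroupOf C) = 1 := by
    simp only [QuotientGroup.mk_mul, QuotientGroup.mk_inv]
    rw [← h1]
    group
  rw [QuotientGroup.eq_one_iff] at h2
  exact h2

/-- one step of the construction -/
def stepIn (T W : Subgroup G) : Subgroup G :=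
  W ⊔ dRel (T ⊓ Subgroup.centralizer (W : Set G)) (W ⊓ Subgroup.centralizer (W : Set G))

/-- the characteristic subgroup of `T`, inside the ambient group -/
noncomputable def kIn (T : Subgroup G) : Subgroup G := (stepIn T)^[Nat.card T] ⊥

theorem le_stepIn (T W : Subgroup G) : W ≤ stepIn T W := le_sup_left

theorem stepIn_le {T W : Subgroup G} (h : W ≤ T) : stepIn T W ≤ T :=
  sup_le h ((dRel_le _ _).trans inf_le_left)

theorem iter_le (T : Subgroup G) (n : ℕ) : (stepIn T)^[n] ⊥ ≤ T := by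
  induction n with
  | zero => exact bot_le
  | succ n ih => rw [Function.iterate_succ_apply']; exact stepIn_le ih

theorem kIn_le (T : Subgroup G) : kIn T ≤ T := iter_le T _

theorem zw_le {T W : Subgroup G} (h : W ≤ T) :
    W ⊓ Subgroup.centralizer (W : Set G) ≤ T ⊓ Subgroup.centralizer (W : Set G) :=
  inf_le_inf_right _ h

theorem cw_le_normalizer (T W : Subgroup G) :
    T ⊓ Subgroup.centralizer (W : Set G) ≤
      Subgroup.normalizer ((W ⊓ Subgroup.centralizer (W : Set G) : Subgroup G) : Set G) := by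
  refine le_trans ?_ (Subgroup.centralizer_le_normalizer _)
  exact inf_le_right.trans (Subgroup.centralizer_le inf_le_left)

theorem cen_step {T W : Subgroup G} (h : T ⊓ Subgroup.centralizer (W : Set G) ≤ W) :
    T ⊓ Subgroup.centralizer ((stepIn T W : Subgroup G) : Set G) ≤ stepIn T W :=
  (inf_le_inf_left _ (Subgroup.centralizer_le (le_stepIn T W))).trans (h.trans (le_stepIn T W))

theorem card_lt_step [Finite G] {p : ℕ} [Fact p.Prime] {T W : Subgroup G} (hT : IsPGroup p T)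
    (hW : W ≤ T) (h : ¬ T ⊓ Subgroup.centralizer (W : Set G) ≤ W) :
    Nat.card W < Nat.card (stepIn T W) := by
  have hC : IsPGroup p ↥(T ⊓ Subgroup.centralizer (W : Set G)) := hT.to_le inf_le_left
  have hne : W ⊓ Subgroup.centralizer (W : Set G) ≠ T ⊓ Subgroup.centralizer (W : Set G) := by
    intro he
    apply h
    rw [← he]
    exact inf_le_left
  obtain ⟨c, hc, hcZ⟩ := exists_mem_dRel_not_mem hC (zw_le hW) (cw_le_normalizer T W) hne
  have hcC := dRel_le _ _ hc
  have hcW : c ∉ W := fun hw => hcZ ⟨hw, hcC.2⟩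
  have hle := le_stepIn T W
  refine lt_of_le_of_ne (Subgroup.card_le_of_le hle) (fun he => hcW ?_)
  have := Subgroup.eq_of_le_of_card_ge hle he.ge
  rw [this]
  exact Subgroup.mem_sup_right hc

theorem iter_centric [Finite G] {p : ℕ} [Fact p.Prime] {T : Subgroup G} (hT : IsPGroup p T)
    (n : ℕ) : T ⊓ Subgroup.centralizer (((stepIn T)^[n] ⊥ : Subgroup G) : Set G) ≤ (stepIn T)^[n] ⊥ ∨
      n + 1 ≤ Nat.card ↥((stepIn T)^[n] ⊥) := by
  induction n with
  | zero => right; simp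
  | succ n ih =>
    rw [Function.iterate_succ_apply']
    rcases ih with h | h
    · left; exact cen_step h
    · by_cases hc : T ⊓ Subgroup.centralizer (((stepIn T)^[n] ⊥ : Subgroup G) : Set G) ≤
          (stepIn T)^[n] ⊥
      · left; exact cen_step hc
      · right
        have := card_lt_step hT (iter_le T n) hc
        omega

theorem kIn_centric [Finite G] {p : ℕ} [Fact p.Prime] {T : Subgroup G} (hT : IsPGroup p T) :
    T ⊓ Subgroup.centralizer ((kIn T : Subgroup G) : Set G) ≤ kIn T := by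
  rcases iter_centric hT (Nat.card T) with h | h
  · exact h
  · have := Subgroup.card_le_of_le (iter_le T (Nat.card T))
    omega

end Cfsg.Agent.Lib.Helper29.CFun
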