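import Mathlib
import Cfsg.Prelude.Def_ConjugacyFunctors
import Cfsg.Prelude.Def_Solvable
import Cfsg.Agent.Lib.Helper16.SubnormalClosure
import Cfsg.Agent.Lib.Helper16.WeaklyClosed3
import Cfsg.Agent.Lib.Helper29.CFunA

/-!
# Normality of the K-infinity subgroups in `p`-stable groups: the group theory (helper29)
-/

set_option autoImplicit false
set_option linter.style.haveILetI false
set_option linter.unusedSectionVars false
open scoped commutatorElement

namespace Cfsg.Agent.Lib.Helper29.KInfN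

open Cfsg.Agent.Lib.Helper16 (OpOf)
open Cfsg.Agent.Lib.Helper29.CFun (le_normalizer_of_conj_mem commutator_le_right_of_le_normalizer
  commutator_le_left_of_le_normalizer)

variable {G : Type*} [Group G]

/-- the subgroup generated by the `L`-conjugates of the elements of `𝒜` -/
def nclIn (L : Subgroup G) (𝒜 : Set G) : Subgroup G :=
  Subgroup.closure {x | ∃ l ∈ L, ∃ a ∈ 𝒜, x = l * a * l⁻¹}

theorem subset_nclIn (L : Subgroup G) (𝒜 : Set G) : 𝒜 ⊆ nclIn L 𝒜 := by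
  intro a ha
  exact Subgroup.subset_closure ⟨1, one_mem _, a, ha, by simp⟩

theorem nclIn_le {L M : Subgroup G} {𝒜 : Set G} (h𝒜 : 𝒜 ⊆ M)
    (hL : L ≤ Subgroup.normalizer (M : Set G)) : nclIn L 𝒜 ≤ M := by
  unfold nclIn
  rw [Subgroup.closure_le]
  rintro _ ⟨l, hl, a, ha, rfl⟩
  exact (Subgroup.mem_normalizer_iff.mp (hL hl) a).mp (h𝒜 ha)

theorem le_normalizer_nclIn (L : Subgroup G) (𝒜 : Set G) :
    L ≤ Subgroup.normalizer (nclIn L 𝒜 : Set G) := by
  apply le_normalizer_of_conj_mem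
  intro y hy x hx
  have : (nclIn L 𝒜).map (MulAut.conj y).toMonoidHom ≤ nclIn L 𝒜 := by
    unfold nclIn
    rw [MonoidHom.map_closure, Subgroup.closure_le]
    rintro _ ⟨_, ⟨l, hl, a, ha, rfl⟩, rfl⟩
    apply Subgroup.subset_closure
    refine ⟨y * l, mul_mem hy hl, a, ha, ?_⟩
    simp [MulAut.conj_apply, mul_assoc]
  exact this ⟨x, hx, rfl⟩

/-- The consequence of `p`-stability used below: elements of order prime to `p` in the subgroup
generated by the `L`-conjugates of elements acting quadratically on an `L`-invariant section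
`K/N` (`K` a `p`-group) act trivially on that section. -/
def QStab (p : ℕ) (G : Type*) [Group G] : Prop :=
  ∀ (L K N : Subgroup G), K ≤ L → N ≤ L → L ≤ Subgroup.normalizer (K : Set G) →
    L ≤ Subgroup.normalizer (N : Set G) → IsPGroup p K → ∀ 𝒜 : Set G, 𝒜 ⊆ L →
    (∀ a ∈ 𝒜, ⁅⁅K, Subgroup.zpowers a⁆, Subgroup.zpowers a⁆ ≤ N) →
    ∀ d ∈ nclIn L 𝒜, (orderOf d).Coprime p → ∀ k ∈ K, ⁅k, d⁆ ∈ N

theorem centralizes_of_coprime [Finite G] {p : ℕ} [Fact p.Prime] {K N : Subgroup G}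
    (hK : IsPGroup p K) (hNK : N ≤ K) {d : G} (hd : (orderOf d).Coprime p)
    (h1 : ∀ k ∈ K, ⁅k, d⁆ ∈ N) (h2 : ∀ n ∈ N, ⁅n, d⁆ = 1) : ∀ k ∈ K, ⁅k, d⁆ = 1 := by
  intro k hk
  have hn := h1 k hk
  have hz : d * k * d⁻¹ * k⁻¹ = (⁅k, d⁆)⁻¹ := by simp only [commutatorElement_def]; group
  have hzN : d * k * d⁻¹ * k⁻¹ ∈ N := by rw [hz]; exact inv_mem hn
  have hc : d * (d * k * d⁻¹ * k⁻¹) = (d * k * d⁻¹ * k⁻¹) * d := by
    have := h2 _ hzN
    rw [commutatorElement_eq_one_iff_commute] at this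
    exact this.eq.symm
  have := Cfsg.Agent.Lib.Helper16.coprime_step (p := p) d k hd hc
    (Cfsg.Agent.Lib.Helper16.exists_pow_eq_one_of_isPGroup (hK.to_le hNK) hzN)
  rw [hz, inv_eq_one] at this
  exact this

theorem isPGroup_of_coprime_trivial [Finite G] {p : ℕ} [Fact p.Prime] (N : Subgroup G)
    (h : ∀ d ∈ N, (orderOf d).Coprime p → d = 1) : IsPGroup p N := by
  have hbot : OpOf p N = ⊥ := by
    unfold Cfsg.Agent.Lib.Helper16.OpOf
    rw [Subgroup.closure_eq_bot_iff]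
    rintro x ⟨hx, hc⟩
    exact h x hx hc
  intro g
  obtain ⟨b, hb⟩ := Cfsg.Agent.Lib.Helper16.exists_pow_mem_OpOf (p := p) N g.2
  rw [hbot, Subgroup.mem_bot] at hb
  exact ⟨b, Subtype.ext (by simpa using hb)⟩

theorem eq_one_of_coprime_of_mem [Finite G] {p : ℕ} [Fact p.Prime] {P : Subgroup G}
    (hP : IsPGroup p P) {d : G} (hd : d ∈ P) (hc : (orderOf d).Coprime p) : d = 1 := by
  obtain ⟨k, hk⟩ := Cfsg.Agent.Lib.Helper16.exists_pow_eq_one_of_isPGroup hP hd
  have h1 : orderOf d ∣ p ^ k := orderOf_dvd_of_pow_eq_one hk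
  have h2 : (orderOf d).Coprime (p ^ k) := Nat.Coprime.pow_right k hc
  have h3 : orderOf d = 1 := Nat.Coprime.eq_one_of_dvd h2 h1
  exact orderOf_eq_one_iff.mp h3


/-- the standing configuration: `A` is a normal subgroup of class at most two inside `O_p(G)`,
with `[A, O_p(G)] ≤ Z(A)` and `C_G(A) ≤ O_p(G)` -/
structure Cfg (p : ℕ) (A : Subgroup G) : Prop where
  normal : A.Normal
  le : A ≤ Cfsg.pCore p G
  cls : ⁅A, A⁆ ≤ Subgroup.centralizer (A : Set G)
  comm : ⁅A, Cfsg.pCore p G⁆ ≤ A ⊓ Subgroup.centralizer (A : Set G)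
  cent : Subgroup.centralizer (A : Set G) ≤ Cfsg.pCore p G

section core

variable [Finite G] {p : ℕ} [Fact p.Prime] {A : Subgroup G}

theorem Cfg.isPGroup (hA : Cfg p A) : IsPGroup p A :=
  (Cfsg.Agent.Lib.Helper16.pCore_isPGroup (G := G) (p := p)).to_le hA.le

theorem Cfg.center_normal (hA : Cfg p A) : (A ⊓ Subgroup.centralizer (A : Set G)).Normal := by
  haveI := hA.normal
  infer_instance

/-- an element acting quadratically on `A / Z(A)` and on `Z(A)` lies in `O_p(G)` -/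
theorem mem_pCore_of_quad (hA : Cfg p A) (hQ : QStab p G) (x : G)
    (h1 : ⁅⁅A, Subgroup.zpowers x⁆, Subgroup.zpowers x⁆ ≤ A ⊓ Subgroup.centralizer (A : Set G))
    (h2 : ⁅⁅A ⊓ Subgroup.centralizer (A : Set G), Subgroup.zpowers x⁆, Subgroup.zpowers x⁆ ≤ ⊥) :
    x ∈ Cfsg.pCore p G := by
  haveI := hA.normal
  haveI := hA.center_normal
  have hAp := hA.isPGroup
  have hHp : IsPGroup p (Cfsg.pCore p G) := Cfsg.Agent.Lib.Helper16.pCore_isPGroup
  have hsub : ({x} : Set G) ⊆ ((⊤ : Subgroup G) : Set G) := fun _ _ => Subgroup.mem_top _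
  have key : ∀ d ∈ nclIn ⊤ ({x} : Set G), (orderOf d).Coprime p → d = 1 := by
    intro d hd hc
    have e1 := hQ ⊤ A (A ⊓ Subgroup.centralizer (A : Set G)) le_top le_top
      (by rw [Subgroup.normalizer_eq_top]) (by rw [Subgroup.normalizer_eq_top]) hAp {x} hsub
      (by intro a ha; rw [Set.mem_singleton_iff] at ha; subst ha; exact h1) d hd hc
    have e2 := hQ ⊤ (A ⊓ Subgroup.centralizer (A : Set G)) ⊥ le_top le_top
      (by rw [Subgroup.normalizer_eq_top]) (by rw [Subgroup.normalizer_eq_top])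
      (hAp.to_le inf_le_left) {x} hsub
      (by intro a ha; rw [Set.mem_singleton_iff] at ha; subst ha; exact h2) d hd hc
    have e3 := centralizes_of_coprime hAp inf_le_left hc e1
      (fun n hn => by simpa using e2 n hn)
    have hdc : d ∈ Subgroup.centralizer (A : Set G) := by
      rw [Subgroup.mem_centralizer_iff]
      intro a ha
      have := e3 a ha
      rw [commutatorElement_eq_one_iff_commute] at this
      exact this.eq
    exact eq_one_of_coprime_of_mem hHp (hA.cent hdc) hc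
  have hNp : IsPGroup p (nclIn ⊤ ({x} : Set G)) := isPGroup_of_coprime_trivial _ key
  have hNn : (nclIn ⊤ ({x} : Set G)).Normal := by
    rw [← Subgroup.normalizer_eq_top_iff, eq_top_iff]
    exact le_normalizer_nclIn ⊤ _
  exact Cfsg.Agent.Lib.Helper16.le_pCore hNn hNp (subset_nclIn ⊤ _ rfl)

/-- upper-star members lie in `O_p(G)` when the reference subgroup contains `A` -/
theorem upperStar_le_pCore (hA : Cfg p A) (hQ : QStab p G) {B Q : Subgroup G} (hAQ : A ≤ Q)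
    (hB : ⁅B, Q⁆ ≤ B ⊓ Subgroup.centralizer (B : Set G)) : B ≤ Cfsg.pCore p G := by
  intro b hb
  have hzb : Subgroup.zpowers b ≤ B := by rw [Subgroup.zpowers_le]; exact hb
  have h0 : ⁅⁅A, Subgroup.zpowers b⁆, Subgroup.zpowers b⁆ = ⊥ := by
    rw [eq_bot_iff]
    calc ⁅⁅A, Subgroup.zpowers b⁆, Subgroup.zpowers b⁆ ≤ ⁅⁅Q, B⁆, B⁆ :=
          Subgroup.commutator_mono (Subgroup.commutator_mono hAQ hzb) hzb
      _ ≤ ⁅B ⊓ Subgroup.centralizer (B : Set G), B⁆ := by
          rw [Subgroup.commutator_comm Q B]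
          exact Subgroup.commutator_mono hB le_rfl
      _ ≤ ⊥ := by
          rw [le_bot_iff, Subgroup.commutator_eq_bot_iff_le_centralizer]
          exact inf_le_right
  apply mem_pCore_of_quad hA hQ b
  · rw [h0]; exact bot_le
  · rw [← h0]
    exact Subgroup.commutator_mono (Subgroup.commutator_mono inf_le_left le_rfl) le_rfl

/-- `A` belongs to every lower-star family -/
theorem mem_lowerStar (hA : Cfg p A) (hQ : QStab p G) (Q : Subgroup G) :
    A ∈ Cfsg.kLowerStarFamily Q := by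
  haveI := hA.normal
  refine ⟨hA.cls, by rw [Subgroup.normalizer_eq_top]; exact le_top, ?_⟩
  intro X _ _ hAX h1 h2
  have hXX : ⁅X, X⁆ ≤ Subgroup.centralizer (A : Set G) := by
    rw [Subgroup.commutator_eq_bot_iff_le_centralizer] at h1
    exact Subgroup.le_centralizer_iff.mp h1
  have hXH : X ≤ Cfsg.pCore p G := by
    intro x hx
    have hzx : Subgroup.zpowers x ≤ X := by rw [Subgroup.zpowers_le]; exact hx
    apply mem_pCore_of_quad hA hQ x
    · have hAX' : ⁅A, X⁆ ≤ X := commutator_le_right_of_le_normalizer hAX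
      have hAXA : ⁅A, X⁆ ≤ A := commutator_le_left_of_le_normalizer
        (by rw [Subgroup.normalizer_eq_top]; exact le_top)
      apply le_inf
      · calc ⁅⁅A, Subgroup.zpowers x⁆, Subgroup.zpowers x⁆ ≤ ⁅A, Subgroup.zpowers x⁆ :=
              Subgroup.commutator_mono (Subgroup.commutator_le_left A _) le_rfl
          _ ≤ A := Subgroup.commutator_le_left A _
      · calc ⁅⁅A, Subgroup.zpowers x⁆, Subgroup.zpowers x⁆ ≤ ⁅⁅A, X⁆, X⁆ :=
              Subgroup.commutator_mono (Subgroup.commutator_mono le_rfl hzx) hzx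
          _ ≤ ⁅X, X⁆ := Subgroup.commutator_mono hAX' le_rfl
          _ ≤ Subgroup.centralizer (A : Set G) := hXX
    · rw [← h2]
      exact Subgroup.commutator_mono (Subgroup.commutator_mono le_rfl hzx) hzx
  calc ⁅A, X⁆ ≤ ⁅A, Cfsg.pCore p G⁆ := Subgroup.commutator_mono le_rfl hXH
    _ ≤ _ := hA.comm

end core

section lower

/-- the elements `x ∈ A` all of whose commutators with `A` are central in `A` and centralized
by `B` -/
def flat (A B : Subgroup G) : Subgroup G where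
  carrier := {x | x ∈ A ∧ ∀ a ∈ A, ⁅x, a⁆ ∈ Subgroup.centralizer (A : Set G) ⊓
    Subgroup.centralizer (B : Set G)}
  one_mem' := ⟨one_mem _, fun a _ => by rw [commutatorElement_one_left]; exact one_mem _⟩
  mul_mem' := by
    rintro x y ⟨hx, hx'⟩ ⟨hy, hy'⟩
    refine ⟨mul_mem hx hy, fun a ha => ?_⟩
    have hya : ⁅y, a⁆ ∈ Subgroup.centralizer (A : Set G) := (hy' a ha).1
    have e : ⁅x * y, a⁆ = ⁅y, a⁆ * ⁅x, a⁆ := by
      have h1 : ⁅x * y, a⁆ = x * ⁅y, a⁆ * x⁻¹ * ⁅x, a⁆ := by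
        simp only [commutatorElement_def]; group
      have h2 : x * ⁅y, a⁆ = ⁅y, a⁆ * x := Subgroup.mem_centralizer_iff.mp hya x hx
      rw [h1, h2]; group
    rw [e]; exact mul_mem (hy' a ha) (hx' a ha)
  inv_mem' := by
    rintro x ⟨hx, hx'⟩
    refine ⟨inv_mem hx, fun a ha => ?_⟩
    have hxa : (⁅x, a⁆)⁻¹ ∈ Subgroup.centralizer (A : Set G) := inv_mem (hx' a ha).1
    have e : ⁅x⁻¹, a⁆ = (⁅x, a⁆)⁻¹ := by
      have h1 : ⁅x⁻¹, a⁆ = x⁻¹ * (⁅x, a⁆)⁻¹ * x := by
        simp only [commutatorElement_def]; group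
      have h2 : x⁻¹ * (⁅x, a⁆)⁻¹ = (⁅x, a⁆)⁻¹ * x⁻¹ :=
        Subgroup.mem_centralizer_iff.mp hxa x⁻¹ (inv_mem hx)
      rw [h1, h2]; group
    rw [e]; exact inv_mem (hx' a ha)

theorem mem_flat {A B : Subgroup G} {x : G} : x ∈ flat A B ↔ x ∈ A ∧ ∀ a ∈ A,
    ⁅x, a⁆ ∈ Subgroup.centralizer (A : Set G) ⊓ Subgroup.centralizer (B : Set G) := Iff.rfl

theorem flat_le (A B : Subgroup G) : flat A B ≤ A := fun _ hx => hx.1

/-- conjugation by an element normalizing `A` and commuting with the relevant commutators -/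
theorem conj_mem_flat {A B : Subgroup G} {y x : G} (hy : y ∈ Subgroup.normalizer (A : Set G))
    (hx : x ∈ flat A B)
    (hc : ∀ a ∈ A, y * ⁅x, a⁆ * y⁻¹ = ⁅x, a⁆) : y * x * y⁻¹ ∈ flat A B := by
  refine ⟨(Subgroup.mem_normalizer_iff.mp hy x).mp hx.1, fun a ha => ?_⟩
  have ha' : y⁻¹ * a * y ∈ A := by
    have := (Subgroup.mem_normalizer_iff.mp (inv_mem hy) a).mp ha
    simpa using this
  have e : ⁅y * x * y⁻¹, a⁆ = y * ⁅x, y⁻¹ * a * y⁆ * y⁻¹ := by
    simp only [commutatorElement_def]; group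
  rw [e, hc _ ha']
  exact hx.2 _ ha'

variable [Finite G] {p : ℕ} [Fact p.Prime] {A : Subgroup G}

theorem conj_centralizer_mem {B : Subgroup G} {a x : G}
    (ha : a ∈ Subgroup.normalizer (B : Set G)) (hx : x ∈ Subgroup.centralizer (B : Set G)) :
    a * x * a⁻¹ ∈ Subgroup.centralizer (B : Set G) := by
  rw [Subgroup.mem_centralizer_iff] at hx ⊢
  intro b hb
  have hb' : a⁻¹ * b * a ∈ B := by
    have := (Subgroup.mem_normalizer_iff.mp (inv_mem ha) b).mp hb
    simpa using this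
  have := hx _ hb'
  calc b * (a * x * a⁻¹) = a * ((a⁻¹ * b * a) * x) * a⁻¹ := by group
    _ = a * (x * (a⁻¹ * b * a)) * a⁻¹ := by rw [this]
    _ = a * x * a⁻¹ * b := by group


theorem OpOf_normal (N : Subgroup G) [hN : N.Normal] : (OpOf p N).Normal := by
  rw [← Subgroup.normalizer_eq_top_iff, eq_top_iff]
  rintro y -
  have hy : ∀ z ∈ (⊤ : Subgroup G), ∀ x ∈ OpOf p N, z * x * z⁻¹ ∈ OpOf p N := by
    intro z _ x hx
    have : (OpOf p N).map (MulAut.conj z).toMonoidHom ≤ OpOf p N := by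
      unfold Cfsg.Agent.Lib.Helper16.OpOf
      rw [MonoidHom.map_closure, Subgroup.closure_le]
      rintro _ ⟨g, ⟨hgN, hg⟩, rfl⟩
      apply Subgroup.subset_closure
      simp only [MulEquiv.coe_toMonoidHom, MulAut.conj_apply]
      refine ⟨hN.conj_mem g hgN z, ?_⟩
      have : orderOf (z * g * z⁻¹) = orderOf g := (MulAut.conj z).orderOf_eq g
      rw [this]; exact hg
    exact this ⟨x, hx, rfl⟩
  exact le_normalizer_of_conj_mem ⊤ _ hy (Subgroup.mem_top y)


/-- a subgroup between `O^p(N) H` and `N H` (`N`, `H` normal) is subnormal -/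
theorem isSubnormal_of_between (N H X : Subgroup G) [hNn : N.Normal] [hHn : H.Normal]
    (h1 : OpOf p N ⊔ H ≤ X) (h2 : X ≤ N ⊔ H) : X.IsSubnormal := by
  haveI hMn : (OpOf p N).Normal := OpOf_normal N
  haveI hEn : (OpOf p N ⊔ H).Normal := Subgroup.sup_normal _ _
  haveI hNHn : (N ⊔ H).Normal := Subgroup.sup_normal _ _
  have hP : IsPGroup p (↥(N ⊔ H) ⧸ (OpOf p N ⊔ H).subgroupOf (N ⊔ H)) := by
    intro y
    obtain ⟨⟨g, hg⟩, rfl⟩ := QuotientGroup.mk_surjective y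
    have hg' : g ∈ ((N ⊔ H : Subgroup G) : Set G) := hg
    rw [Subgroup.mul_normal N H] at hg'
    obtain ⟨n, hn, h, hh, rfl⟩ := hg'
    obtain ⟨b, hb⟩ := Cfsg.Agent.Lib.Helper16.exists_pow_mem_OpOf (p := p) N hn
    refine ⟨b, ?_⟩
    have hnNH : n ∈ N ⊔ H := (le_sup_left : N ≤ N ⊔ H) hn
    have e : (QuotientGroup.mk (⟨n * h, hg⟩ : ↥(N ⊔ H)) :
        ↥(N ⊔ H) ⧸ (OpOf p N ⊔ H).subgroupOf (N ⊔ H)) = QuotientGroup.mk ⟨n, hnNH⟩ := by
      rw [QuotientGroup.eq, Subgroup.mem_subgroupOf]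
      have : (((⟨n * h, hg⟩ : ↥(N ⊔ H))⁻¹ * ⟨n, hnNH⟩ : ↥(N ⊔ H)) : G) = h⁻¹ := by
        simp
      rw [this]
      exact (le_sup_right : H ≤ OpOf p N ⊔ H) (inv_mem hh)
    rw [e, ← QuotientGroup.mk_pow, QuotientGroup.eq_one_iff, Subgroup.mem_subgroupOf]
    exact (le_sup_left : OpOf p N ≤ OpOf p N ⊔ H) (by simpa using hb)
  have claim : (X.subgroupOf (N ⊔ H)).IsSubnormal := by
    have sub := Cfsg.Agent.Lib.Helper16.isSubnormal_of_isPGroup hP _
      ((X.subgroupOf (N ⊔ H)).map (QuotientGroup.mk' ((OpOf p N ⊔ H).subgroupOf (N ⊔ H)))) rfl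
    have h3 := sub.comap (QuotientGroup.mk' ((OpOf p N ⊔ H).subgroupOf (N ⊔ H)))
    rwa [Subgroup.comap_map_eq_self (by
      rw [QuotientGroup.ker_mk']
      intro x hx
      rw [Subgroup.mem_subgroupOf] at hx ⊢
      exact h1 hx)] at h3
  exact Subgroup.IsSubnormal.trans h2 claim hNHn.isSubnormal

/-- lower-star members lie in `O_p(G)` when the reference subgroup contains `A` -/
theorem lowerStar_le_pCore (hA : Cfg p A) (hQ : QStab p G) {B Q : Subgroup G} (hAQ : A ≤ Q)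
    (hB : B ∈ Cfsg.kLowerStarFamily Q) : B ≤ Cfsg.pCore p G := by
  classical
  obtain ⟨hB2, hQB, hBt⟩ := hB
  haveI hAn := hA.normal
  haveI hZn := hA.center_normal
  have hHp : IsPGroup p (Cfsg.pCore p G) := Cfsg.Agent.Lib.Helper16.pCore_isPGroup
  have hAp := hA.isPGroup
  have hANB : A ≤ Subgroup.normalizer (B : Set G) := hAQ.trans hQB
  have hBNA : B ≤ Subgroup.normalizer (A : Set G) := by
    rw [Subgroup.normalizer_eq_top]; exact le_top
  -- `Z(B) ≤ O_p(G)`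
  have hANZB : A ≤ Subgroup.normalizer ((B ⊓ Subgroup.centralizer (B : Set G) : Subgroup G) : Set G) := by
    apply le_normalizer_of_conj_mem
    intro a ha x hx
    exact ⟨(Subgroup.mem_normalizer_iff.mp (hANB ha) x).mp hx.1,
      conj_centralizer_mem (hANB ha) hx.2⟩
  have hZBB : ⁅B ⊓ Subgroup.centralizer (B : Set G), B⁆ = ⊥ := by
    rw [Subgroup.commutator_eq_bot_iff_le_centralizer]; exact inf_le_right
  have hZBH : B ⊓ Subgroup.centralizer (B : Set G) ≤ Cfsg.pCore p G := by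
    intro x hx
    have hzx : Subgroup.zpowers x ≤ B ⊓ Subgroup.centralizer (B : Set G) := by
      rw [Subgroup.zpowers_le]; exact hx
    have h0 : ⁅⁅A, Subgroup.zpowers x⁆, Subgroup.zpowers x⁆ = ⊥ := by
      rw [eq_bot_iff]
      calc ⁅⁅A, Subgroup.zpowers x⁆, Subgroup.zpowers x⁆
          ≤ ⁅⁅A, B ⊓ Subgroup.centralizer (B : Set G)⁆, B⁆ :=
            Subgroup.commutator_mono (Subgroup.commutator_mono le_rfl hzx)
              (hzx.trans inf_le_left)
        _ ≤ ⁅B ⊓ Subgroup.centralizer (B : Set G), B⁆ :=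
            Subgroup.commutator_mono (commutator_le_right_of_le_normalizer hANZB) le_rfl
        _ = ⊥ := hZBB
    apply mem_pCore_of_quad hA hQ x
    · rw [h0]; exact bot_le
    · rw [← h0]
      exact Subgroup.commutator_mono (Subgroup.commutator_mono inf_le_left le_rfl) le_rfl
  -- the simplified test
  have hZAA : ⁅A ⊓ Subgroup.centralizer (A : Set G), A⁆ = ⊥ := by
    rw [Subgroup.commutator_eq_bot_iff_le_centralizer]; exact inf_le_right
  have test : ∀ X : Subgroup G, X ≤ A → B ≤ Subgroup.normalizer (X : Set G) →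
      ⁅B, ⁅X, X⁆⁆ = ⊥ → ⁅B, X⁆ ≤ B ⊓ Subgroup.centralizer (B : Set G) := by
    intro X hXA hBX hBXX
    apply hBt X ?_ (hXA.trans hAQ) hBX hBXX ?_
    · show ⁅X, X⁆ ≤ Subgroup.centralizer (X : Set G)
      calc ⁅X, X⁆ ≤ ⁅A, A⁆ := Subgroup.commutator_mono hXA hXA
        _ ≤ Subgroup.centralizer (A : Set G) := hA.cls
        _ ≤ Subgroup.centralizer (X : Set G) := Subgroup.centralizer_le hXA
    · rw [eq_bot_iff]
      calc ⁅⁅B ⊓ Subgroup.centralizer (B : Set G), X⁆, X⁆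
          ≤ ⁅⁅Cfsg.pCore p G, A⁆, A⁆ :=
            Subgroup.commutator_mono (Subgroup.commutator_mono hZBH hXA) hXA
        _ ≤ ⁅A ⊓ Subgroup.centralizer (A : Set G), A⁆ :=
            Subgroup.commutator_mono (by rw [Subgroup.commutator_comm]; exact hA.comm) le_rfl
        _ = ⊥ := hZAA
  -- `B` is quadratic on `Z(A)`
  have hBZA : ⁅B, A ⊓ Subgroup.centralizer (A : Set G)⁆ ≤ B ⊓ Subgroup.centralizer (B : Set G) := by
    apply test _ inf_le_left (by rw [Subgroup.normalizer_eq_top]; exact le_top)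
    have : ⁅A ⊓ Subgroup.centralizer (A : Set G), A ⊓ Subgroup.centralizer (A : Set G)⁆ = ⊥ := by
      rw [Subgroup.commutator_eq_bot_iff_le_centralizer]
      exact inf_le_right.trans (Subgroup.centralizer_le inf_le_left)
    rw [this]
    exact Subgroup.commutator_bot_right B
  have hquadZA : ∀ b ∈ (B : Set G), ⁅⁅A ⊓ Subgroup.centralizer (A : Set G), Subgroup.zpowers b⁆,
      Subgroup.zpowers b⁆ ≤ ⊥ := by
    intro b hb
    have hzb : Subgroup.zpowers b ≤ B := by rw [Subgroup.zpowers_le]; exact hb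
    calc _ ≤ ⁅⁅A ⊓ Subgroup.centralizer (A : Set G), B⁆, B⁆ :=
          Subgroup.commutator_mono (Subgroup.commutator_mono le_rfl hzb) hzb
      _ ≤ ⁅B ⊓ Subgroup.centralizer (B : Set G), B⁆ :=
          Subgroup.commutator_mono (by rw [Subgroup.commutator_comm]; exact hBZA) le_rfl
      _ = ⊥ := hZBB
  have hNn : (nclIn ⊤ (B : Set G)).Normal := by
    rw [← Subgroup.normalizer_eq_top_iff, eq_top_iff]
    exact le_normalizer_nclIn ⊤ _
  have hBN : B ≤ nclIn ⊤ (B : Set G) := subset_nclIn ⊤ _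
  have hNZA : ∀ d ∈ nclIn ⊤ (B : Set G), (orderOf d).Coprime p →
      ∀ z ∈ A ⊓ Subgroup.centralizer (A : Set G), ⁅z, d⁆ = 1 := by
    intro d hd hc z hz
    have := hQ ⊤ (A ⊓ Subgroup.centralizer (A : Set G)) ⊥ le_top le_top
      (by rw [Subgroup.normalizer_eq_top]) (by rw [Subgroup.normalizer_eq_top])
      (hAp.to_le inf_le_left) (B : Set G) (fun _ _ => Subgroup.mem_top _) hquadZA d hd hc z hz
    simpa using this
  -- `M = O^p(⟨B^G⟩)` centralizes `Z(A)`
  have hMN : OpOf p (nclIn ⊤ (B : Set G)) ≤ nclIn ⊤ (B : Set G) :=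
    Cfsg.Agent.Lib.Helper16.OpOf_le _
  haveI hMn : (OpOf p (nclIn ⊤ (B : Set G))).Normal := OpOf_normal _
  have hMZA : OpOf p (nclIn ⊤ (B : Set G)) ≤
      Subgroup.centralizer ((A ⊓ Subgroup.centralizer (A : Set G) : Subgroup G) : Set G) := by
    unfold Cfsg.Agent.Lib.Helper16.OpOf
    rw [Subgroup.closure_le]
    rintro d ⟨hdN, hc⟩
    rw [SetLike.mem_coe, Subgroup.mem_centralizer_iff]
    intro z hz
    have := hNZA d hdN hc z hz
    rw [commutatorElement_eq_one_iff_commute] at this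
    exact this.eq
  -- `R = [A, B, B]`
  have hAB_B : ⁅A, B⁆ ≤ B := commutator_le_right_of_le_normalizer hANB
  have hAB_A : ⁅A, B⁆ ≤ A := Subgroup.commutator_le_left A B
  have hRA : ⁅⁅A, B⁆, B⁆ ≤ A :=
    (Subgroup.commutator_mono hAB_A le_rfl).trans (Subgroup.commutator_le_left A B)
  have hRZB : ⁅⁅A, B⁆, B⁆ ≤ B ⊓ Subgroup.centralizer (B : Set G) := by
    have h1 : ⁅⁅A, B⁆, B⁆ ≤ ⁅B, B⁆ := Subgroup.commutator_mono hAB_B le_rfl
    exact h1.trans (le_inf (commutator_le_right_of_le_normalizer Subgroup.le_normalizer) hB2)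
  have hF3 : ∀ r ∈ ⁅⁅A, B⁆, B⁆, ∀ a ∈ A, ⁅r, a⁆ ∈ Subgroup.centralizer (A : Set G) ⊓
      Subgroup.centralizer (B : Set G) := by
    intro r hr a ha
    have hra : ⁅r, a⁆ ∈ Subgroup.centralizer (A : Set G) :=
      hA.cls (Subgroup.commutator_mem_commutator (hRA hr) ha)
    refine Subgroup.mem_inf.mpr ⟨hra, ?_⟩
    rw [Subgroup.mem_centralizer_iff]
    intro b hb
    have hrZ := hRZB hr
    have hrb : b * r = r * b := Subgroup.mem_centralizer_iff.mp hrZ.2 b hb
    have hc : ⁅b, a⁆ ∈ ⁅A, B⁆ := by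
      rw [Subgroup.commutator_comm]; exact Subgroup.commutator_mem_commutator hb ha
    have hcB : ⁅b, a⁆ ∈ B := hAB_B hc
    have hcA : ⁅b, a⁆ ∈ A := hAB_A hc
    have hrc : ⁅b, a⁆ * r = r * ⁅b, a⁆ := Subgroup.mem_centralizer_iff.mp hrZ.2 _ hcB
    have hcra : ⁅b, a⁆ * ⁅r, a⁆ = ⁅r, a⁆ * ⁅b, a⁆ := Subgroup.mem_centralizer_iff.mp hra _ hcA
    have h1 : b * ⁅r, a⁆ * b⁻¹ = ⁅b * r * b⁻¹, b * a * b⁻¹⁆ := by
      simp only [commutatorElement_def]; group
    have h2 : b * r * b⁻¹ = r := by rw [hrb]; group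
    have h3 : b * a * b⁻¹ = ⁅b, a⁆ * a := by simp only [commutatorElement_def]; group
    have h4 : ∀ c : G, ⁅r, c * a⁆ = ⁅r, c⁆ * (c * ⁅r, a⁆ * c⁻¹) := by
      intro c; simp only [commutatorElement_def]; group
    have h5 : ⁅r, ⁅b, a⁆⁆ = 1 := commutatorElement_eq_one_iff_commute.mpr hrc.symm
    have h6 : ⁅b, a⁆ * ⁅r, a⁆ * (⁅b, a⁆)⁻¹ = ⁅r, a⁆ := by rw [hcra]; group
    have h7 : b * ⁅r, a⁆ * b⁻¹ = ⁅r, a⁆ := by
      rw [h1, h2, h3, h4, h5, h6, one_mul]
    exact mul_inv_eq_iff_eq_mul.mp h7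
  -- the test subgroup `F`
  have hFA : flat A B ≤ A := flat_le A B
  have hZAF : A ⊓ Subgroup.centralizer (A : Set G) ≤ flat A B := by
    intro z hz
    refine ⟨hz.1, fun a ha => ?_⟩
    have : ⁅z, a⁆ = 1 := by
      rw [commutatorElement_eq_one_iff_commute]
      exact (Subgroup.mem_centralizer_iff.mp hz.2 a ha).symm
    rw [this]; exact one_mem _
  have hRF : ⁅⁅A, B⁆, B⁆ ≤ flat A B := fun r hr => ⟨hRA hr, hF3 r hr⟩
  have hBNF : B ≤ Subgroup.normalizer (flat A B : Set G) := by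
    apply le_normalizer_of_conj_mem
    intro b hb x hx
    apply conj_mem_flat (hBNA hb) hx
    intro a ha
    have := Subgroup.mem_centralizer_iff.mp (hx.2 a ha).2 b hb
    rw [this]; group
  have hHNF : Cfsg.pCore p G ≤ Subgroup.normalizer (flat A B : Set G) := by
    apply le_normalizer_of_conj_mem
    intro h hh x hx
    have e : h * x * h⁻¹ = ⁅h, x⁆ * x := by simp only [commutatorElement_def]; group
    rw [e]
    refine mul_mem (hZAF (hA.comm ?_)) hx
    rw [Subgroup.commutator_comm]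
    exact Subgroup.commutator_mem_commutator hh hx.1
  have hMNF : OpOf p (nclIn ⊤ (B : Set G)) ≤ Subgroup.normalizer (flat A B : Set G) := by
    apply le_normalizer_of_conj_mem
    intro m hm x hx
    apply conj_mem_flat (by rw [Subgroup.normalizer_eq_top]; exact Subgroup.mem_top m) hx
    intro a ha
    have hxa : ⁅x, a⁆ ∈ A ⊓ Subgroup.centralizer (A : Set G) :=
      ⟨(Subgroup.commutator_le_left A A) (Subgroup.commutator_mem_commutator hx.1 ha),
        (hx.2 a ha).1⟩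
    have := Subgroup.mem_centralizer_iff.mp (hMZA hm) _ hxa
    rw [← this]; group
  have hFF : ⁅B, ⁅flat A B, flat A B⁆⁆ = ⊥ := by
    rw [Subgroup.commutator_eq_bot_iff_le_centralizer, Subgroup.le_centralizer_iff,
      Subgroup.commutator_le]
    intro x hx y hy
    exact (hx.2 y (hFA hy)).2
  have hBF : ⁅B, flat A B⁆ ≤ B ⊓ Subgroup.centralizer (B : Set G) := test _ hFA hBNF hFF
  have hquadF : ∀ b ∈ (B : Set G), ⁅⁅flat A B, Subgroup.zpowers b⁆, Subgroup.zpowers b⁆ ≤ ⊥ := by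
    intro b hb
    have hzb : Subgroup.zpowers b ≤ B := by rw [Subgroup.zpowers_le]; exact hb
    calc _ ≤ ⁅⁅flat A B, B⁆, B⁆ :=
          Subgroup.commutator_mono (Subgroup.commutator_mono le_rfl hzb) hzb
      _ ≤ ⁅B ⊓ Subgroup.centralizer (B : Set G), B⁆ :=
          Subgroup.commutator_mono (by rw [Subgroup.commutator_comm]; exact hBF) le_rfl
      _ = ⊥ := hZBB
  have hquadA : ∀ b ∈ (B : Set G), ⁅⁅A, Subgroup.zpowers b⁆, Subgroup.zpowers b⁆ ≤ flat A B := by
    intro b hb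
    have hzb : Subgroup.zpowers b ≤ B := by rw [Subgroup.zpowers_le]; exact hb
    exact (Subgroup.commutator_mono (Subgroup.commutator_mono le_rfl hzb) hzb).trans hRF
  -- the subgroup `G₂ = O_p(G) M B`
  have hFG₂ : flat A B ≤ Cfsg.pCore p G ⊔ OpOf p (nclIn ⊤ (B : Set G)) ⊔ B :=
    hFA.trans (hA.le.trans (le_sup_left.trans le_sup_left))
  have hAG₂ : A ≤ Cfsg.pCore p G ⊔ OpOf p (nclIn ⊤ (B : Set G)) ⊔ B :=
    hA.le.trans (le_sup_left.trans le_sup_left)
  have hG₂NF : Cfsg.pCore p G ⊔ OpOf p (nclIn ⊤ (B : Set G)) ⊔ B ≤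
      Subgroup.normalizer (flat A B : Set G) := sup_le (sup_le hHNF hMNF) hBNF
  have hG₂NA : Cfsg.pCore p G ⊔ OpOf p (nclIn ⊤ (B : Set G)) ⊔ B ≤
      Subgroup.normalizer (A : Set G) := by rw [Subgroup.normalizer_eq_top]; exact le_top
  have hBG₂ : (B : Set G) ⊆ ((Cfsg.pCore p G ⊔ OpOf p (nclIn ⊤ (B : Set G)) ⊔ B : Subgroup G) : Set G) :=
    fun _ hb => (le_sup_right : B ≤ _) hb
  have key : ∀ d ∈ nclIn (Cfsg.pCore p G ⊔ OpOf p (nclIn ⊤ (B : Set G)) ⊔ B) (B : Set G),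
      (orderOf d).Coprime p → d = 1 := by
    intro d hd hc
    have e1 := hQ _ A (flat A B) hAG₂ hFG₂ hG₂NA hG₂NF hAp (B : Set G) hBG₂ hquadA d hd hc
    have e2 := hQ _ (flat A B) ⊥ hFG₂ bot_le hG₂NF (by rw [Subgroup.normalizer_eq_top]; exact le_top)
      (hAp.to_le hFA) (B : Set G) hBG₂ hquadF d hd hc
    have e3 := centralizes_of_coprime hAp hFA hc e1 (fun n hn => by simpa using e2 n hn)
    have hdc : d ∈ Subgroup.centralizer (A : Set G) := by
      rw [Subgroup.mem_centralizer_iff]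
      intro a ha
      have := e3 a ha
      rw [commutatorElement_eq_one_iff_commute] at this
      exact this.eq
    exact eq_one_of_coprime_of_mem hHp (hA.cent hdc) hc
  have hN₁p := isPGroup_of_coprime_trivial _ key
  have hN₁G₂ : nclIn (Cfsg.pCore p G ⊔ OpOf p (nclIn ⊤ (B : Set G)) ⊔ B) (B : Set G) ≤
      Cfsg.pCore p G ⊔ OpOf p (nclIn ⊤ (B : Set G)) ⊔ B := nclIn_le hBG₂ Subgroup.le_normalizer
  have hG₂N₁ := le_normalizer_nclIn (Cfsg.pCore p G ⊔ OpOf p (nclIn ⊤ (B : Set G)) ⊔ B) (B : Set G)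
  have hBN₁ : B ≤ nclIn (Cfsg.pCore p G ⊔ OpOf p (nclIn ⊤ (B : Set G)) ⊔ B) (B : Set G) :=
    subset_nclIn _ _
  -- subnormality of `G₂`
  have hG₂NH : Cfsg.pCore p G ⊔ OpOf p (nclIn ⊤ (B : Set G)) ⊔ B ≤
      nclIn ⊤ (B : Set G) ⊔ Cfsg.pCore p G :=
    sup_le (sup_le le_sup_right (hMN.trans le_sup_left)) (hBN.trans le_sup_left)
  have hEG₂ : OpOf p (nclIn ⊤ (B : Set G)) ⊔ Cfsg.pCore p G ≤
      Cfsg.pCore p G ⊔ OpOf p (nclIn ⊤ (B : Set G)) ⊔ B := by
    rw [sup_comm]; exact le_sup_left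
  have hG₂sn : (Cfsg.pCore p G ⊔ OpOf p (nclIn ⊤ (B : Set G)) ⊔ B).IsSubnormal :=
    isSubnormal_of_between (nclIn ⊤ (B : Set G)) (Cfsg.pCore p G) _ hEG₂ hG₂NH
  have hN₁sn : (nclIn (Cfsg.pCore p G ⊔ OpOf p (nclIn ⊤ (B : Set G)) ⊔ B) (B : Set G)).IsSubnormal := by
    refine Subgroup.IsSubnormal.trans hN₁G₂ ?_ hG₂sn
    exact ((Subgroup.normal_subgroupOf_iff_le_normalizer hN₁G₂).mpr hG₂N₁).isSubnormal
  exact hBN₁.trans (Cfsg.Agent.Lib.Helper16.le_pCore_of_subnormal _ hN₁sn hN₁p)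

end lower

end Cfsg.Agent.Lib.Helper29.KInfN
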