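import Mathlib
import Cfsg.Agent.Lib.Helper29.KInfA
import Cfsg.Agent.Lib.Helper29.QdTheoremQ
import Cfsg.Agent.Lib.Helper17.WStable

/-!
# `Qd(p)`-free groups satisfy the stability interface `QStab` (helper29)
-/

set_option autoImplicit false
set_option linter.style.haveILetI false
set_option linter.unusedSectionVars false
open scoped commutatorElement

namespace Cfsg.Agent.Lib.Helper29.KInfN

universe u

variable {G : Type u} [Group G] [Finite G] {p : ℕ} [Fact p.Prime]

theorem sectionKernel_normal' {Y : Type*} [Group Y] (K N : Subgroup Y) [hK : K.Normal] [hN : N.Normal] :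
    (Cfsg.sectionKernel K N).Normal := by
  unfold Cfsg.sectionKernel
  have : (K.map (QuotientGroup.mk' N)).Normal := hK.map _ (QuotientGroup.mk'_surjective N)
  exact Subgroup.Normal.comap inferInstance _

theorem qStab_of_sections
    (h : ∀ (L : Subgroup G) (K N : Subgroup ↥L) [K.Normal] [N.Normal], IsPGroup p K →
      Cfsg.IsPStableOnSection p K N) : QStab p G := by
  intro L K N hKL hNL hLK hLN hKp 𝒜 h𝒜 hquad d hd hc k hk
  haveI hK'n : (K.subgroupOf L).Normal := (Subgroup.normal_subgroupOf_iff_le_normalizer hKL).mpr hLK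
  haveI hN'n : (N.subgroupOf L).Normal := (Subgroup.normal_subgroupOf_iff_le_normalizer hNL).mpr hLN
  have hK'p : IsPGroup p (K.subgroupOf L) := hKp.comap_subtype
  have hsec := h L (K.subgroupOf L) (N.subgroupOf L) hK'p
  haveI hCn : (Cfsg.sectionKernel (K.subgroupOf L) (N.subgroupOf L)).Normal :=
    sectionKernel_normal' _ _
  have hPn : (Cfsg.pCore p (↥L ⧸ Cfsg.sectionKernel (K.subgroupOf L) (N.subgroupOf L))).Normal :=
    inferInstance
  have hDn : ((Cfsg.pCore p (↥L ⧸ Cfsg.sectionKernel (K.subgroupOf L) (N.subgroupOf L))).comap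
      (QuotientGroup.mk' (Cfsg.sectionKernel (K.subgroupOf L) (N.subgroupOf L)))).Normal :=
    hPn.comap _
  have hmem : ∀ a (ha : a ∈ 𝒜), (⟨a, h𝒜 ha⟩ : ↥L) ∈
      (Cfsg.pCore p (↥L ⧸ Cfsg.sectionKernel (K.subgroupOf L) (N.subgroupOf L))).comap
        (QuotientGroup.mk' (Cfsg.sectionKernel (K.subgroupOf L) (N.subgroupOf L))) := by
    intro a ha
    have hq : ⁅⁅K.subgroupOf L, Subgroup.zpowers (⟨a, h𝒜 ha⟩ : ↥L)⁆,
        Subgroup.zpowers (⟨a, h𝒜 ha⟩ : ↥L)⁆ ≤ N.subgroupOf L := by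
      rw [← Subgroup.map_le_map_iff_of_injective L.subtype_injective, Subgroup.map_commutator,
        Subgroup.map_commutator, MonoidHom.map_zpowers, Subgroup.map_subgroupOf_eq_of_le hKL,
        Subgroup.map_subgroupOf_eq_of_le hNL]
      exact hquad a ha
    obtain ⟨D, hDn', hCD, ⟨j, hj⟩, haD⟩ := hsec _ hq
    have hDp : IsPGroup p (D.map (QuotientGroup.mk'
        (Cfsg.sectionKernel (K.subgroupOf L) (N.subgroupOf L)))) := by
      rintro ⟨_, x, hxD, rfl⟩
      refine ⟨j, Subtype.ext ?_⟩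
      have h1 := Subgroup.pow_index_mem
        ((Cfsg.sectionKernel (K.subgroupOf L) (N.subgroupOf L)).subgroupOf D) (⟨x, hxD⟩ : ↥D)
      have h2 : ((Cfsg.sectionKernel (K.subgroupOf L) (N.subgroupOf L)).subgroupOf D).index
          = p ^ j := hj
      rw [h2, Subgroup.mem_subgroupOf] at h1
      simp only [Subgroup.coe_pow, Subgroup.coe_one, QuotientGroup.mk'_apply]
      rw [← QuotientGroup.mk_pow, QuotientGroup.eq_one_iff]
      simpa using h1
    have hle := Cfsg.Agent.Lib.Helper16.le_pCore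
      (hDn'.map _ (QuotientGroup.mk'_surjective _)) hDp
    exact hle (Subgroup.mem_map_of_mem _ haD)
  have hncl : nclIn L 𝒜 ≤ ((Cfsg.pCore p (↥L ⧸ Cfsg.sectionKernel (K.subgroupOf L)
      (N.subgroupOf L))).comap (QuotientGroup.mk'
        (Cfsg.sectionKernel (K.subgroupOf L) (N.subgroupOf L)))).map L.subtype := by
    unfold nclIn
    rw [Subgroup.closure_le]
    rintro _ ⟨l, hl, a, ha, rfl⟩
    exact ⟨⟨l, hl⟩ * ⟨a, h𝒜 ha⟩ * ⟨l, hl⟩⁻¹, hDn.conj_mem _ (hmem a ha) _, rfl⟩
  obtain ⟨d', hd'D, rfl⟩ := hncl hd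
  have hd'c : (orderOf d').Coprime p := by
    have := Subgroup.orderOf_coe d'
    simp only [Subgroup.coe_subtype] at hc
    rwa [this] at hc
  have hmk : (QuotientGroup.mk d' :
      ↥L ⧸ Cfsg.sectionKernel (K.subgroupOf L) (N.subgroupOf L)) = 1 := by
    have h1 : (QuotientGroup.mk d' :
      ↥L ⧸ Cfsg.sectionKernel (K.subgroupOf L) (N.subgroupOf L)) ∈
        Cfsg.pCore p (↥L ⧸ Cfsg.sectionKernel (K.subgroupOf L) (N.subgroupOf L)) := hd'D
    apply eq_one_of_coprime_of_mem Cfsg.Agent.Lib.Helper16.pCore_isPGroup h1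
    exact Nat.Coprime.coprime_dvd_left (orderOf_map_dvd (QuotientGroup.mk'
      (Cfsg.sectionKernel (K.subgroupOf L) (N.subgroupOf L))) d') hd'c
  have hd'Cs : d' ∈ Cfsg.sectionKernel (K.subgroupOf L) (N.subgroupOf L) :=
    (QuotientGroup.eq_one_iff d').mp hmk
  rw [Cfsg.Agent.Lib.Helper17.mem_sectionKernel_iff] at hd'Cs
  have := hd'Cs ⟨k, hKL hk⟩ (Subgroup.mem_subgroupOf.mpr hk)
  exact Subgroup.mem_subgroupOf.mp this

theorem qStab_of_not_involves_qd (hp : p ≠ 2) (hfree : ¬ Cfsg.Involves ↥(Cfsg.qd p) G) :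
    QStab p G := by
  apply qStab_of_sections
  intro L K N hKn hNn hKp
  apply Cfsg.Agent.Lib.Helper29.Qd.isPStableOnSection_of_quotient
  haveI : (K.map (QuotientGroup.mk' N)).Normal := hKn.map _ (QuotientGroup.mk'_surjective N)
  apply Cfsg.Agent.Lib.Helper29.Qd.isPStableOn_of_not_involves_qd_pGroup hp _ _ (hKp.map _)
  intro h
  exact hfree (Cfsg.Agent.Lib.Helper27.involves_of_injective L.subtype L.subtype_injective
    (Cfsg.Agent.Lib.Helper8.ThTwo.involves_of_quotient N h))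

end Cfsg.Agent.Lib.Helper29.KInfN
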