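import Mathlib
import Cfsg.Agent.Lib.Helper29.KInfA
import Cfsg.Agent.Lib.Helper12.KInfSub
import Cfsg.Agent.Lib.Helper12.ThompsonNPC0
import Cfsg.Agent.S1978
import Cfsg.Agent.S1979

/-!
# Normality of the K-infinity subgroups: induction along the K-sequence (helper29)
-/

set_option autoImplicit false
set_option linter.style.haveILetI false
set_option linter.unusedSectionVars false
open scoped commutatorElement

namespace Cfsg.Agent.Lib.Helper29.KInfN

universe u

section iso

variable {Q R : Type*} [Group Q] [Group R] (f : Q →* R) (hf : Function.Injective f)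
  (hs : Function.Surjective f)
include hf hs

theorem map_sSup_lowerStar (X : Subgroup Q) :
    (sSup (Cfsg.kLowerStarFamily X)).map f = sSup (Cfsg.kLowerStarFamily (X.map f)) := by
  apply le_antisymm
  · rw [Subgroup.map_le_iff_le_comap]
    apply sSup_le
    intro B hB
    rw [← Subgroup.map_le_iff_le_comap]
    exact le_sSup ((Cfsg.Agent.Lib.Helper12.lowerStar_map_iff f hf B X).mpr hB)
  · apply sSup_le
    intro C hC
    have hC' : (C.comap f).map f = C := Subgroup.map_comap_eq_self_of_surjective hs C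
    rw [← hC'] at hC ⊢
    exact Subgroup.map_mono (le_sSup ((Cfsg.Agent.Lib.Helper12.lowerStar_map_iff f hf _ X).mp hC))

theorem map_sSup_upperStar (X : Subgroup Q) :
    (sSup (Cfsg.kUpperStarFamily X)).map f = sSup (Cfsg.kUpperStarFamily (X.map f)) := by
  apply le_antisymm
  · rw [Subgroup.map_le_iff_le_comap]
    apply sSup_le
    intro B hB
    rw [← Subgroup.map_le_iff_le_comap]
    exact le_sSup ((Cfsg.Agent.Lib.Helper12.upperStar_map_iff f hf B X).mpr hB)
  · apply sSup_le
    intro C hC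
    have hC' : (C.comap f).map f = C := Subgroup.map_comap_eq_self_of_surjective hs C
    rw [← hC'] at hC ⊢
    exact Subgroup.map_mono (le_sSup ((Cfsg.Agent.Lib.Helper12.upperStar_map_iff f hf _ X).mp hC))

theorem kSeqOdd_map (n : ℕ) : (Cfsg.kSeqOdd Q n).map f = Cfsg.kSeqOdd R n := by
  induction n with
  | zero =>
    show (⊤ : Subgroup Q).map f = ⊤
    exact Subgroup.map_top_of_surjective f hs
  | succ n ih =>
    show (sSup (Cfsg.kUpperStarFamily (sSup (Cfsg.kLowerStarFamily (Cfsg.kSeqOdd Q n))))).map f =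
      sSup (Cfsg.kUpperStarFamily (sSup (Cfsg.kLowerStarFamily (Cfsg.kSeqOdd R n))))
    rw [map_sSup_upperStar f hf hs, map_sSup_lowerStar f hf hs, ih]

theorem kSeqEven_map (n : ℕ) : (Cfsg.kSeqEven Q n).map f = Cfsg.kSeqEven R n := by
  unfold Cfsg.kSeqEven
  rw [map_sSup_lowerStar f hf hs, kSeqOdd_map f hf hs]

end iso

theorem kInfLower_map {Q : Type u} {R : Type*} [Group Q] [Group R] (f : Q →* R) (hf : Function.Injective f)
    (hs : Function.Surjective f) : (Cfsg.kInfLower Q).map f = Cfsg.kInfLower R := by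
  unfold Cfsg.kInfLower
  rw [Subgroup.map_iSup]
  congr 1
  funext n
  exact kSeqEven_map f hf hs n


theorem isCharPFunctor_kInfLower (p : ℕ) [Fact p.Prime] :
    Cfsg.IsCharPFunctor.{u} p Cfsg.kInfLower := by
  refine ⟨?_, ?_⟩
  · intro Q _ _ hQ hnt h
    have h1 := (Cfsg.Agent.S1978.result hQ).1
    rw [h] at h1
    have h2 : (⊤ : Subgroup Q) ≤ ⊥ := by
      refine le_trans ?_ h1
      intro x _
      rw [Subgroup.mem_centralizer_iff]
      intro y hy
      rw [SetLike.mem_coe, Subgroup.mem_bot] at hy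
      rw [hy, one_mul, mul_one]
    obtain ⟨x, hx⟩ := exists_ne (1 : Q)
    exact hx (Subgroup.mem_bot.mp (h2 (Subgroup.mem_top x)))
  · intro Q R _ _ _ _ φ
    exact kInfLower_map φ.toMonoidHom φ.injective φ.surjective


section main

variable {G : Type u} [Group G] [Finite G] {p : ℕ} [Fact p.Prime] {A : Subgroup G}

theorem kSeq_le_pCore (hA : Cfg p A) (hQ : QStab p G) (S : Sylow p G) :
    ∀ n : ℕ, (A ≤ (Cfsg.kSeqOdd ↥(S : Subgroup G) n).map (S : Subgroup G).subtype ∧
      (Cfsg.kSeqEven ↥(S : Subgroup G) n).map (S : Subgroup G).subtype ≤ Cfsg.pCore p G) ∧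
      (Cfsg.kSeqOdd ↥(S : Subgroup G) (n + 1)).map (S : Subgroup G).subtype ≤ Cfsg.pCore p G := by
  have hinj := (S : Subgroup G).subtype_injective
  have hHS : Cfsg.pCore p G ≤ S := Cfsg.Agent.Lib.Helper16.pCore_le_sylow S
  have hAS : A ≤ S := hA.le.trans hHS
  have hAmap : (A.subgroupOf S).map (S : Subgroup G).subtype = A :=
    Subgroup.map_subgroupOf_eq_of_le hAS
  have step1 : ∀ n, A ≤ (Cfsg.kSeqOdd ↥(S : Subgroup G) n).map (S : Subgroup G).subtype →
      (Cfsg.kSeqEven ↥(S : Subgroup G) n).map (S : Subgroup G).subtype ≤ Cfsg.pCore p G := by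
    intro n hAn
    unfold Cfsg.kSeqEven
    rw [Subgroup.map_le_iff_le_comap]
    apply sSup_le
    intro B hB
    rw [← Subgroup.map_le_iff_le_comap]
    exact lowerStar_le_pCore hA hQ hAn
      ((Cfsg.Agent.Lib.Helper12.lowerStar_map_iff _ hinj B _).mpr hB)
  have step2 : ∀ n, (Cfsg.kSeqEven ↥(S : Subgroup G) n).map (S : Subgroup G).subtype ≤
      Cfsg.pCore p G →
      A ≤ (Cfsg.kSeqOdd ↥(S : Subgroup G) (n + 1)).map (S : Subgroup G).subtype := by
    intro n hn
    have hmem : A.subgroupOf S ∈ Cfsg.kUpperStarFamily (Cfsg.kSeqEven ↥(S : Subgroup G) n) := by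
      rw [← Cfsg.Agent.Lib.Helper12.upperStar_map_iff _ hinj, hAmap]
      exact ⟨hA.cls, (Subgroup.commutator_mono le_rfl hn).trans hA.comm⟩
    have h1 : A.subgroupOf S ≤ Cfsg.kSeqOdd ↥(S : Subgroup G) (n + 1) := le_sSup hmem
    rw [← hAmap]
    exact Subgroup.map_mono h1
  have step3 : ∀ n, (Cfsg.kSeqOdd ↥(S : Subgroup G) (n + 1)).map (S : Subgroup G).subtype ≤
      Cfsg.pCore p G := by
    intro n
    have hmem : A.subgroupOf S ∈ Cfsg.kLowerStarFamily (Cfsg.kSeqOdd ↥(S : Subgroup G) n) := by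
      rw [← Cfsg.Agent.Lib.Helper12.lowerStar_map_iff _ hinj, hAmap]
      exact mem_lowerStar hA hQ _
    have hAE : A ≤ (Cfsg.kSeqEven ↥(S : Subgroup G) n).map (S : Subgroup G).subtype := by
      rw [← hAmap]
      exact Subgroup.map_mono (le_sSup hmem)
    show (sSup (Cfsg.kUpperStarFamily (Cfsg.kSeqEven ↥(S : Subgroup G) n))).map
      (S : Subgroup G).subtype ≤ _
    rw [Subgroup.map_le_iff_le_comap]
    apply sSup_le
    intro B hB
    rw [← Subgroup.map_le_iff_le_comap]
    have hB' := (Cfsg.Agent.Lib.Helper12.upperStar_map_iff _ hinj B _).mpr hB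
    exact upperStar_le_pCore hA hQ hAE hB'.2
  intro n
  induction n with
  | zero =>
    have h0 : A ≤ (Cfsg.kSeqOdd ↥(S : Subgroup G) 0).map (S : Subgroup G).subtype := by
      show A ≤ (⊤ : Subgroup ↥(S : Subgroup G)).map (S : Subgroup G).subtype
      rw [← MonoidHom.range_eq_map, Subgroup.range_subtype]
      exact hAS
    exact ⟨⟨h0, step1 0 h0⟩, step3 0⟩
  | succ n ih =>
    have h1 := step2 n ih.1.2
    exact ⟨⟨h1, step1 (n + 1) h1⟩, step3 (n + 1)⟩

/-- **Normality of the lower K-infinity subgroup.** -/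
theorem kInfLower_normal (hA : Cfg p A) (hQ : QStab p G) (S : Sylow p G) :
    (Cfsg.inducedFunctor Cfsg.kInfLower (S : Subgroup G)).Normal := by
  have hHS : Cfsg.pCore p G ≤ S := Cfsg.Agent.Lib.Helper16.pCore_le_sylow S
  have hHp : IsPGroup p (Cfsg.pCore p G) := Cfsg.Agent.Lib.Helper16.pCore_isPGroup
  have hP : IsPGroup p ↥(S : Subgroup G) := S.isPGroup'
  have hseq := kSeq_le_pCore hA hQ S
  have hQ' : ∀ n, Cfsg.kSeqEven ↥(S : Subgroup G) n ≤ (Cfsg.pCore p G).subgroupOf S ∧
      Cfsg.kSeqOdd ↥(S : Subgroup G) (n + 1) ≤ (Cfsg.pCore p G).subgroupOf S := by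
    intro n
    exact ⟨Subgroup.map_le_iff_le_comap.mp (hseq n).1.2,
      Subgroup.map_le_iff_le_comap.mp (hseq n).2⟩
  have h79 := (Cfsg.Agent.S1979.result hP _ hQ').1
  have hW := isCharPFunctor_kInfLower.{u} p
  have he := hW.2 _ _ (hHp.comap_subtype (K := (S : Subgroup G)))
    (Subgroup.subgroupOfEquivOfLe hHS)
  have heq : Cfsg.inducedFunctor Cfsg.kInfLower (S : Subgroup G) =
      Cfsg.inducedFunctor Cfsg.kInfLower (Cfsg.pCore p G) := by
    unfold Cfsg.inducedFunctor
    rw [← h79, ← he, Subgroup.map_map, Subgroup.map_map]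
    congr 1
  rw [heq]
  have h1 := Cfsg.Agent.Lib.Helper12.normalizer_le_normalizer_inducedFunctor Cfsg.kInfLower hW
    (Cfsg.pCore p G) hHp
  rw [← Subgroup.normalizer_eq_top_iff, eq_top_iff]
  refine le_trans ?_ h1
  rw [Subgroup.normalizer_eq_top]

end main

end Cfsg.Agent.Lib.Helper29.KInfN
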