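import Mathlib
import Cfsg.Agent.Lib.Helper29.KInfB
import Cfsg.Agent.Lib.Helper29.KInfC
import Cfsg.Agent.S0093
import Cfsg.Agent.S0121

/-!
# Normality of the lower K-infinity subgroup in `Qd(p)`-free groups with `C(O_p) ≤ O_p` (helper29)
-/

set_option autoImplicit false
set_option linter.style.haveILetI false
set_option linter.unusedSectionVars false
open scoped commutatorElement

namespace Cfsg.Agent.Lib.Helper29.KInfN

universe u

variable {G : Type u} [Group G] [Finite G] {p : ℕ} [Fact p.Prime]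

/-- a critical subgroup of `O_p(G)` gives the standing configuration -/
theorem exists_cfg
    (hc : Subgroup.centralizer ((Cfsg.pCore p G : Subgroup G) : Set G) ≤ Cfsg.pCore p G) :
    ∃ A : Subgroup G, Cfg p A := by
  have hHp : IsPGroup p (Cfsg.pCore p G) := Cfsg.Agent.Lib.Helper16.pCore_isPGroup
  haveI hHn : (Cfsg.pCore p G).Normal := inferInstance
  obtain ⟨C, hCc, h1, h2, h3⟩ := Cfsg.Agent.S0093.result hHp
  have hinj := (Cfsg.pCore p G).subtype_injective
  haveI := hCc
  have hAn : (C.map (Cfsg.pCore p G).subtype).Normal := inferInstance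
  have hcls' : ⁅C, C⁆ ≤ Subgroup.centralizer (C : Set ↥(Cfsg.pCore p G)) :=
    (Subgroup.commutator_mono le_rfl le_top).trans (h2.trans inf_le_right)
  have hcls : ⁅C.map (Cfsg.pCore p G).subtype, C.map (Cfsg.pCore p G).subtype⁆ ≤
      Subgroup.centralizer ((C.map (Cfsg.pCore p G).subtype : Subgroup G) : Set G) := by
    rw [← Subgroup.map_commutator,
      Cfsg.Agent.Lib.Helper12.map_le_centralizer_map_iff _ hinj]
    exact hcls'
  have htop : (⊤ : Subgroup ↥(Cfsg.pCore p G)).map (Cfsg.pCore p G).subtype = Cfsg.pCore p G := by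
    rw [← MonoidHom.range_eq_map, Subgroup.range_subtype]
  refine ⟨C.map (Cfsg.pCore p G).subtype, hAn, Subgroup.map_subtype_le _, hcls, ?_, ?_⟩
  · rw [Cfsg.Agent.Lib.Helper12.map_center_eq _ hinj]
    have e : ⁅C.map (Cfsg.pCore p G).subtype, Cfsg.pCore p G⁆ =
        (⁅C, (⊤ : Subgroup ↥(Cfsg.pCore p G))⁆).map (Cfsg.pCore p G).subtype := by
      rw [Subgroup.map_commutator, htop]
    rw [e]
    exact Subgroup.map_mono h2
  · -- the centralizer of `A` is a normal `p`-subgroup
    haveI hCAn : (Subgroup.centralizer ((C.map (Cfsg.pCore p G).subtype : Subgroup G) : Set G)).Normal :=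
      inferInstance
    apply Cfsg.Agent.Lib.Helper16.le_pCore hCAn
    apply isPGroup_of_coprime_trivial
    intro d hd hdc
    have hα : (orderOf (MulAut.conjNormal (H := Cfsg.pCore p G) d)).Coprime p :=
      Nat.Coprime.coprime_dvd_left (orderOf_map_dvd _ d) hdc
    have hfix : ∀ x ∈ C, (MulAut.conjNormal (H := Cfsg.pCore p G) d) x = x := by
      intro x hx
      apply Subtype.ext
      rw [MulAut.conjNormal_apply]
      have := Subgroup.mem_centralizer_iff.mp hd (x : G) ⟨x, hx, rfl⟩
      rw [← this]; group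
    have h1' := Cfsg.Agent.S0121.result hHp C hCc h1 h2 h3 _ hα hfix
    have hdH : d ∈ Subgroup.centralizer ((Cfsg.pCore p G : Subgroup G) : Set G) := by
      rw [Subgroup.mem_centralizer_iff]
      intro h hh
      have e := congrArg (fun a : MulAut ↥(Cfsg.pCore p G) => ((a ⟨h, hh⟩ : ↥(Cfsg.pCore p G)) : G)) h1'
      simp only [MulAut.conjNormal_apply, MulAut.one_apply] at e
      calc h * d = (d * h * d⁻¹) * d := by rw [e]
        _ = d * h := by group
    exact eq_one_of_coprime_of_mem hHp (hc hdH) hdc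

/-- **The lower K-infinity subgroup of a Sylow `p`-subgroup is normal in a `Qd(p)`-free group `G`
with `C_G(O_p(G)) ≤ O_p(G)`, `p` odd.** -/
theorem kInfLower_normal_of_not_involves_qd (hp : p ≠ 2)
    (hfree : ¬ Cfsg.Involves ↥(Cfsg.qd p) G)
    (hc : Subgroup.centralizer ((Cfsg.pCore p G : Subgroup G) : Set G) ≤ Cfsg.pCore p G)
    (S : Sylow p G) : (Cfsg.inducedFunctor Cfsg.kInfLower (S : Subgroup G)).Normal := by
  obtain ⟨A, hA⟩ := exists_cfg hc
  exact kInfLower_normal hA (qStab_of_not_involves_qd hp hfree) S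

end Cfsg.Agent.Lib.Helper29.KInfN
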