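/-
helper29: S4638 leaf (LPROJ).  A local-integral combination `θ = ∑ a χ • χ` of the irreducible characters
of `G` that vanishes on the `p`-singular elements satisfies `θ(x) / |C_G(x)| ∈ R` (local integers).

Proof.  If `x` is `p`-singular, `θ(x) = 0`.  Otherwise let `Q` be a Sylow `p`-subgroup of `C = C_G(x)`,
`A = ⟨x⟩ ≅ ZMod m`, and `f : Q × ZMod m → G`, `(q, z) ↦ q · x^z` (a homomorphism).  For an additive
character `ψ` of `ZMod m`, `(q, z) ↦ ψ z` is a linear character of `Q × ZMod m`, so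
`[θ ∘ f, ψ] = ∑ a χ [χ ∘ f, ψ] ∈ R`; as `θ (q x^z) = 0` for `q ≠ 1`, this is
`(|Q| m)⁻¹ ∑_z θ(x^z) conj ψ(z)`, and Fourier inversion on `ZMod m` gives `θ(x) / |Q| ∈ R`.
-/
import Mathlib
import Cfsg.Prelude.Def_Blocks
import Cfsg.Agent.Lib.Lead.CharEquiv
import Cfsg.Agent.Lib.Lead.CharDecomp
import Cfsg.Agent.Lib.Helper6.LinChar
import Cfsg.Agent.Lib.Helper24.LocalRing

set_option autoImplicit false
set_option linter.unusedSectionVars false

namespace Cfsg.Agent.Lib.Helper29.KleinPILPROJ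

open Cfsg Cfsg.Agent.CharLib
open scoped ComplexConjugate

universe u

section general

variable {G : Type u} [Group G] [Fintype G] {M : Ideal AlgInt}

/-- the inner product of a local-integral combination of characters, pulled back along a
homomorphism, with a linear character is a local integer -/
theorem memLocalRing_classInner_pullback [hp : M.IsPrime] [Fintype (IrrCharacter G)]
    {P : Type u} [Group P] [Fintype P] (f : P →* G) (μ : P →* ℂˣ)
    (a : IrrCharacter G → ℂ) (ha : ∀ χ, MemLocalRing M (a χ)) :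
    MemLocalRing M (classInner (fun w : P => ∑ χ : IrrCharacter G, a χ * (χ : G → ℂ) (f w))
      (fun w : P => ((μ w : ℂˣ) : ℂ))) := by
  have hμ : IsCharacter P (fun w : P => ((μ w : ℂˣ) : ℂ)) :=
    Cfsg.Agent.Lib.Helper6.isCharacter_of_hom μ
  have key : classInner (fun w : P => ∑ χ : IrrCharacter G, a χ * (χ : G → ℂ) (f w))
      (fun w : P => ((μ w : ℂˣ) : ℂ)) =
      ∑ χ : IrrCharacter G, a χ * classInner ((χ : G → ℂ) ∘ f) (fun w : P => ((μ w : ℂˣ) : ℂ)) := by
    unfold classInner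
    simp only [Finset.sum_mul, Finset.mul_sum, Function.comp]
    rw [Finset.sum_comm]
    apply Finset.sum_congr rfl
    intro χ _
    apply Finset.sum_congr rfl
    intro w _
    ring
  rw [key]
  apply Cfsg.Agent.Lib.Helper24.sum_memLocalRing
  intro χ _
  obtain ⟨N, hN⟩ := IsCharacter.classInner_nat
    (IsCharacter.comp_hom (IsIrrCharacter.isCharacter χ.2) f) hμ
  rw [hN]
  have hN' : MemLocalRing M ((N : ℕ) : ℂ) := by
    have h := Cfsg.Agent.Lib.Helper24.memLocalRing_of_algInt (M := M) (N : AlgInt) hp.one_notMem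
    simpa using h
  exact Cfsg.Agent.Lib.Helper24.memLocalRing_mul (ha χ) hN'

/-- a commuting product of a nontrivial `p`-element and a `p`-regular element is `p`-singular -/
theorem dvd_orderOf_mul_of_commute {p : ℕ} [hpp : Fact p.Prime] {q y : G}
    (hq : ∃ k : ℕ, orderOf q = p ^ k) (hq1 : q ≠ 1) (hc : Commute q y) (hy : ¬ p ∣ orderOf y) :
    p ∣ orderOf (q * y) := by
  obtain ⟨k, hk⟩ := hq
  have hk0 : k ≠ 0 := by
    rintro rfl
    rw [pow_zero, orderOf_eq_one_iff] at hk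
    exact hq1 hk
  have hco : (orderOf q).Coprime (orderOf y) := by
    rw [hk]
    exact Nat.Coprime.pow_left k ((Nat.Prime.coprime_iff_not_dvd hpp.out).2 hy)
  rw [hc.orderOf_mul_eq_mul_orderOf_of_coprime hco, hk]
  exact Dvd.dvd.mul_right (dvd_pow_self p hk0) _

/-- the values of an additive character of `ZMod m` are local integers -/
theorem memLocalRing_addChar [hp : M.IsPrime] {m : ℕ} [NeZero m] (ψ : AddChar (ZMod m) ℂ)
    (j : ZMod m) : MemLocalRing M (ψ j) := by
  have h1 : (ψ j) ^ m = 1 := by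
    rw [← AddChar.map_nsmul_eq_pow]
    have : m • j = 0 := by
      rw [nsmul_eq_mul]
      simp
    rw [this, AddChar.map_zero_eq_one]
  have hint : IsIntegral ℤ (ψ j) := by
    refine ⟨Polynomial.X ^ m - 1, Polynomial.monic_X_pow_sub_C 1 (NeZero.ne m), ?_⟩
    simp [h1]
  exact Cfsg.Agent.Lib.Helper24.memLocalRing_of_algInt (M := M) ⟨ψ j, hint⟩ hp.one_notMem

/-- the core: Fourier inversion on `Q × ZMod m` -/
theorem memLocalRing_div_card_of_data [hp : M.IsPrime] [Fintype (IrrCharacter G)]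
    {p : ℕ} [hpp : Fact p.Prime] (a : IrrCharacter G → ℂ) (ha : ∀ χ, MemLocalRing M (a χ))
    (hvan : ∀ g : G, p ∣ orderOf g → ∑ χ : IrrCharacter G, a χ * (χ : G → ℂ) g = 0)
    (Q : Subgroup G) (hQ : ∀ q ∈ Q, ∃ k : ℕ, orderOf q = p ^ k)
    {m : ℕ} [NeZero m] (f₂ : Multiplicative (ZMod m) →* G)
    (hcomm : ∀ q ∈ Q, ∀ z, Commute q (f₂ z)) (hreg : ∀ z, ¬ p ∣ orderOf (f₂ z))
    (z₀ : Multiplicative (ZMod m)) :
    MemLocalRing M ((∑ χ : IrrCharacter G, a χ * (χ : G → ℂ) (f₂ z₀)) / (Nat.card Q : ℂ)) := by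
  classical
  set θ : G → ℂ := fun g => ∑ χ : IrrCharacter G, a χ * (χ : G → ℂ) g with hθ
  let _ : Fintype Q := Fintype.ofFinite _
  let f : ↥Q × Multiplicative (ZMod m) →* G :=
    MonoidHom.noncommCoprod Q.subtype f₂ (fun q z => hcomm q q.2 z)
  have hf : ∀ (q : Q) (z : Multiplicative (ZMod m)), f (q, z) = (q : G) * f₂ z := fun q z => rfl
  let μ : AddChar (ZMod m) ℂ → (↥Q × Multiplicative (ZMod m) →* ℂˣ) := fun ψ =>
    (MonoidHom.toHomUnits ψ.toMonoidHom).comp (MonoidHom.snd ↥Q (Multiplicative (ZMod m)))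
  have hμ : ∀ (ψ : AddChar (ZMod m) ℂ) (q : Q) (z : Multiplicative (ZMod m)),
      ((μ ψ (q, z) : ℂˣ) : ℂ) = ψ z.toAdd := fun ψ q z => rfl
  have hR : ∀ ψ : AddChar (ZMod m) ℂ, MemLocalRing M
      (classInner (fun w : ↥Q × Multiplicative (ZMod m) => θ (f w))
        (fun w => ((μ ψ w : ℂˣ) : ℂ))) := fun ψ =>
    memLocalRing_classInner_pullback f (μ ψ) a ha
  have hcardP : (Nat.card (↥Q × Multiplicative (ZMod m)) : ℂ) = (Nat.card Q : ℂ) * (m : ℂ) := by
    rw [Nat.card_prod, Nat.cast_mul]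
    congr 2
    rw [Nat.card_eq_fintype_card, Fintype.card_multiplicative, ZMod.card]
  have hval : ∀ ψ : AddChar (ZMod m) ℂ,
      classInner (fun w : ↥Q × Multiplicative (ZMod m) => θ (f w)) (fun w => ((μ ψ w : ℂˣ) : ℂ)) =
      ((Nat.card Q : ℂ) * (m : ℂ))⁻¹ *
        ∑ z : Multiplicative (ZMod m), θ (f₂ z) * conj (ψ z.toAdd) := by
    intro ψ
    unfold classInner
    rw [hcardP]
    congr 1
    rw [Fintype.sum_prod_type, Finset.sum_comm]
    apply Finset.sum_congr rfl
    intro z _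
    rw [Finset.sum_eq_single (1 : Q)]
    · beta_reduce
      rw [hf, hμ, OneMemClass.coe_one, one_mul]
    · intro q _ hq1
      beta_reduce
      rw [hf]
      have hq1' : (q : G) ≠ 1 := fun h => hq1 (Subtype.ext h)
      have h0 : θ ((q : G) * f₂ z) = 0 :=
        hvan _ (dvd_orderOf_mul_of_commute (hQ q q.2) hq1' (hcomm q q.2 z) (hreg z))
      rw [h0, zero_mul]
    · intro h
      exact absurd (Finset.mem_univ _) h
  -- the combination
  have hT : MemLocalRing M (∑ ψ : AddChar (ZMod m) ℂ, ψ z₀.toAdd *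
      classInner (fun w : ↥Q × Multiplicative (ZMod m) => θ (f w))
        (fun w => ((μ ψ w : ℂˣ) : ℂ))) := by
    apply Cfsg.Agent.Lib.Helper24.sum_memLocalRing
    intro ψ _
    exact Cfsg.Agent.Lib.Helper24.memLocalRing_mul (memLocalRing_addChar ψ _) (hR ψ)
  have horth : ∀ z : Multiplicative (ZMod m),
      ∑ ψ : AddChar (ZMod m) ℂ, ψ z₀.toAdd * conj (ψ z.toAdd) =
        if z₀.toAdd - z.toAdd = 0 then (m : ℂ) else 0 := by
    intro z
    have h := AddChar.sum_apply_eq_ite (α := ZMod m) (z₀.toAdd - z.toAdd)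
    rw [ZMod.card] at h
    rw [← h]
    apply Finset.sum_congr rfl
    intro ψ _
    rw [sub_eq_add_neg, AddChar.map_add_eq_mul, AddChar.map_neg_eq_conj]
  have hm0 : (m : ℂ) ≠ 0 := Nat.cast_ne_zero.mpr (NeZero.ne m)
  have hQ0 : (Nat.card Q : ℂ) ≠ 0 := Nat.cast_ne_zero.mpr Nat.card_pos.ne'
  have hTval : ∑ ψ : AddChar (ZMod m) ℂ, ψ z₀.toAdd *
      classInner (fun w : ↥Q × Multiplicative (ZMod m) => θ (f w))
        (fun w => ((μ ψ w : ℂˣ) : ℂ)) = θ (f₂ z₀) / (Nat.card Q : ℂ) := by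
    simp_rw [hval]
    have h1 : ∀ ψ : AddChar (ZMod m) ℂ, ψ z₀.toAdd * (((Nat.card Q : ℂ) * (m : ℂ))⁻¹ *
        ∑ z : Multiplicative (ZMod m), θ (f₂ z) * conj (ψ z.toAdd)) =
        ∑ z : Multiplicative (ZMod m), ((Nat.card Q : ℂ) * (m : ℂ))⁻¹ * θ (f₂ z) *
          (ψ z₀.toAdd * conj (ψ z.toAdd)) := by
      intro ψ
      rw [Finset.mul_sum, Finset.mul_sum]
      apply Finset.sum_congr rfl
      intro z _
      ring
    simp_rw [h1]
    rw [Finset.sum_comm]
    simp_rw [← Finset.mul_sum, horth]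
    rw [Finset.sum_eq_single z₀]
    · rw [if_pos (sub_self _)]
      field_simp
    · intro z _ hz
      rw [if_neg, mul_zero]
      intro h
      apply hz
      have h2 : z.toAdd = z₀.toAdd := (sub_eq_zero.mp h).symm
      exact Multiplicative.toAdd.injective h2
    · intro h
      exact absurd (Finset.mem_univ _) h
  rw [← hTval]
  exact hT

end general

/-- (LPROJ) a local-integral combination of irreducible characters that vanishes on the `p`-singular
elements is divisible by the centralizer orders. -/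
theorem memLocalRing_div_card_centralizer {G : Type u} [Group G] [Fintype G] {M : Ideal AlgInt}
    {p : ℕ} [hpp : Fact p.Prime] (hM : IsPModular p M) (a : IrrCharacter G → ℂ)
    (ha : ∀ χ, MemLocalRing M (a χ))
    (hvan : ∀ x : G, ¬ IsPRegular p x → ∑ᶠ χ : IrrCharacter G, a χ * (χ : G → ℂ) x = 0) (x : G) :
    MemLocalRing M ((∑ᶠ χ : IrrCharacter G, a χ * (χ : G → ℂ) x) /
      (Nat.card (Subgroup.centralizer ({x} : Set G)) : ℂ)) := by
  classical
  have hprime : M.IsPrime := Cfsg.Agent.Lib.Helper24.isPrime_of_isPModular hM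
  let _ : Fintype (IrrCharacter G) := Fintype.ofFinite _
  by_cases hx : IsPRegular p x
  swap
  · rw [hvan x hx, zero_div]
    exact ⟨0, 1, hprime.one_notMem, by simp⟩
  have hfin : ∀ g : G, ∑ᶠ χ : IrrCharacter G, a χ * (χ : G → ℂ) g =
      ∑ χ : IrrCharacter G, a χ * (χ : G → ℂ) g := fun g => finsum_eq_sum_of_fintype _
  have hvan' : ∀ g : G, p ∣ orderOf g → ∑ χ : IrrCharacter G, a χ * (χ : G → ℂ) g = 0 := by
    intro g hg
    rw [← hfin]
    exact hvan g (fun h => h hg)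
  rw [hfin]
  -- the Sylow subgroup of the centralizer
  set C : Subgroup G := Subgroup.centralizer ({x} : Set G) with hC
  obtain ⟨Q⟩ : Nonempty (Sylow p C) := inferInstance
  set Q₀ : Subgroup G := (Q : Subgroup C).map C.subtype with hQ₀
  have hQp : ∀ q ∈ Q₀, ∃ k : ℕ, orderOf q = p ^ k := by
    rintro _ ⟨q', hq', rfl⟩
    obtain ⟨k, hk⟩ := Q.isPGroup' ⟨q', hq'⟩
    have hk' : q' ^ p ^ k = 1 := by
      have := congrArg Subtype.val hk
      simpa using this
    have hdvd : orderOf q' ∣ p ^ k := orderOf_dvd_of_pow_eq_one hk'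
    obtain ⟨j, _, hj⟩ := (Nat.dvd_prime_pow hpp.out).1 hdvd
    exact ⟨j, by rw [Subgroup.coe_subtype, Subgroup.orderOf_coe, hj]⟩
  have hQcard : Nat.card Q₀ = p ^ (Nat.card C).factorization p := by
    rw [hQ₀, Subgroup.card_map_of_injective C.subtype_injective]
    exact Q.card_eq_multiplicity
  have hQC : ∀ q ∈ Q₀, Commute q x := by
    rintro _ ⟨q', _, rfl⟩
    have h : (q' : G) ∈ Subgroup.centralizer ({x} : Set G) := q'.2
    rw [Subgroup.mem_centralizer_singleton_iff] at h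
    exact h
  -- the cyclic group
  set A : Subgroup G := Subgroup.zpowers x with hA
  have : NeZero (Nat.card A) := ⟨Nat.card_pos.ne'⟩
  have hcyc : IsCyclic A := inferInstance
  let e : Multiplicative (ZMod (Nat.card A)) ≃* A := zmodCyclicMulEquiv hcyc
  let f₂ : Multiplicative (ZMod (Nat.card A)) →* G := A.subtype.comp e.toMonoidHom
  have hf₂mem : ∀ z, f₂ z ∈ A := fun z => (e z).2
  have hcomm : ∀ q ∈ Q₀, ∀ z, Commute q (f₂ z) := by
    intro q hq z
    obtain ⟨k, hk⟩ := Subgroup.mem_zpowers_iff.mp (hf₂mem z)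
    rw [← hk]
    exact (hQC q hq).zpow_right k
  have hreg : ∀ z, ¬ p ∣ orderOf (f₂ z) := by
    intro z hz
    exact hx (hz.trans (orderOf_dvd_of_mem_zpowers (hf₂mem z)))
  let z₀ : Multiplicative (ZMod (Nat.card A)) := e.symm ⟨x, Subgroup.mem_zpowers x⟩
  have hz₀ : f₂ z₀ = x := by
    show ((e (e.symm ⟨x, Subgroup.mem_zpowers x⟩) : A) : G) = x
    rw [MulEquiv.apply_symm_apply]
  have hcore := memLocalRing_div_card_of_data (M := M) a ha hvan' Q₀ hQp f₂ hcomm hreg z₀
  rw [hz₀, hQcard] at hcore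
  -- the `p'`-part of the order of the centralizer
  have hCpos : Nat.card C ≠ 0 := Nat.card_pos.ne'
  set r : ℕ := Nat.card C / p ^ (Nat.card C).factorization p with hr
  have hr1 : ¬ p ∣ r := Nat.not_dvd_ordCompl hpp.out hCpos
  have hr2 : p ^ (Nat.card C).factorization p * r = Nat.card C :=
    Nat.ordProj_mul_ordCompl_eq_self (Nat.card C) p
  have hrinv : MemLocalRing M ((r : ℂ)⁻¹) :=
    ⟨1, (r : AlgInt), Cfsg.Agent.Lib.Helper24.natCast_not_mem_of_not_dvd hM hr1, by simp⟩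
  have hr0 : (r : ℂ) ≠ 0 := by
    intro h
    have : r = 0 := by exact_mod_cast h
    rw [this] at hr1
    exact hr1 (dvd_zero p)
  have hp0 : ((p ^ (Nat.card C).factorization p : ℕ) : ℂ) ≠ 0 :=
    Nat.cast_ne_zero.mpr (pow_pos hpp.out.pos _).ne'
  have hfinal : (∑ χ : IrrCharacter G, a χ * (χ : G → ℂ) x) / (Nat.card C : ℂ) =
      (∑ χ : IrrCharacter G, a χ * (χ : G → ℂ) x) /
        ((p ^ (Nat.card C).factorization p : ℕ) : ℂ) * (r : ℂ)⁻¹ := by
    have hcc : (Nat.card C : ℂ) = ((p ^ (Nat.card C).factorization p : ℕ) : ℂ) * (r : ℂ) := by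
      exact_mod_cast hr2.symm
    rw [hcc]
    field_simp
  rw [hfinal]
  exact Cfsg.Agent.Lib.Helper24.memLocalRing_mul hcore hrinv

end Cfsg.Agent.Lib.Helper29.KleinPILPROJ
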