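import Mathlib
import Cfsg.Prelude.Def_OddOrderLocal
import Cfsg.Agent.Lib.Helper9.Stability

/-!
# `p'`-automorphisms of metacyclic `p`-groups (helper29)

* `exists_closure_pair_of_isMetacyclic`: every subgroup of a metacyclic group is generated by two
  elements.
* `mem_centralizer_of_two_gen`: an element of prime power order `r ^ k`, `r ∤ p (p ^ 2 - 1)`,
  normalizing a `p`-subgroup all of whose subgroups are generated by two elements, centralizes it.
-/

set_option autoImplicit false
set_option linter.style.haveILetI false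

namespace Cfsg.Agent.Lib.Helper29

open Subgroup
open scoped commutatorElement

/-- every subgroup of a metacyclic group is generated by two elements -/
theorem exists_closure_pair_of_isMetacyclic {R : Type*} [Group R] (hR : Cfsg.IsMetacyclic R)
    (H : Subgroup R) : ∃ a b : R, H = closure {a, b} := by
  obtain ⟨N, hN, hNc, hQc⟩ := hR
  obtain ⟨⟨c, hcN⟩, hc⟩ := hNc.exists_generator
  have hNz : N = zpowers c := by
    apply le_antisymm
    · intro x hx
      obtain ⟨k, hk⟩ := Subgroup.mem_zpowers_iff.mp (hc ⟨x, hx⟩)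
      exact Subgroup.mem_zpowers_iff.mpr ⟨k, by
        have := congrArg Subtype.val hk
        simpa using this⟩
    · exact zpowers_le_of_mem hcN
  obtain ⟨j, hj⟩ := (Subgroup.le_zpowers_iff c (H ⊓ N)).mp (by rw [← hNz]; exact inf_le_right)
  obtain ⟨q, hq⟩ := hQc.exists_generator
  have hle : H.map (QuotientGroup.mk' N) ≤ zpowers q := fun x _ => hq x
  obtain ⟨i, hi⟩ := (Subgroup.le_zpowers_iff q _).mp hle
  have hqi : q ^ i ∈ H.map (QuotientGroup.mk' N) := by rw [hi]; exact mem_zpowers _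
  obtain ⟨b, hbH, hb⟩ := hqi
  refine ⟨c ^ j, b, ?_⟩
  apply le_antisymm
  · intro x hx
    have hx' : QuotientGroup.mk' N x ∈ zpowers (q ^ i) := by
      rw [← hi]; exact mem_map_of_mem _ hx
    obtain ⟨k, hk⟩ := mem_zpowers_iff.mp hx'
    rw [← hb, ← map_zpow] at hk
    have h1 : (b ^ k)⁻¹ * x ∈ N := QuotientGroup.eq.mp hk
    have h2 : (b ^ k)⁻¹ * x ∈ H ⊓ N := ⟨H.mul_mem (H.inv_mem (H.zpow_mem hbH k)) hx, h1⟩
    rw [hj] at h2
    have h3 : x = b ^ k * ((b ^ k)⁻¹ * x) := by group
    rw [h3]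
    apply mul_mem
    · exact zpow_mem (subset_closure (by simp)) k
    · exact (zpowers_le_of_mem (subset_closure (by simp))) h2
  · rw [closure_le]
    rintro x (rfl | rfl)
    · have : c ^ j ∈ H ⊓ N := by rw [hj]; exact mem_zpowers _
      exact this.1
    · exact hbH

/-- a group generated by two elements has at most `|A| ^ 2` homomorphisms to `A` -/
theorem card_monoidHom_le_of_closure_pair {G A : Type*} [Group G] [Group A] [Finite A]
    (H : Subgroup G) (a b : G) (hH : H = closure {a, b}) :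
    Nat.card (↥H →* A) ≤ Nat.card A ^ 2 := by
  subst hH
  have ha : a ∈ closure ({a, b} : Set G) := subset_closure (by simp)
  have hb : b ∈ closure ({a, b} : Set G) := subset_closure (by simp)
  have hinj : Function.Injective
      (fun φ : ↥(closure ({a, b} : Set G)) →* A => ((φ ⟨a, ha⟩, φ ⟨b, hb⟩) : A × A)) := by
    intro φ ψ h
    have h1 : φ ⟨a, ha⟩ = ψ ⟨a, ha⟩ := congrArg Prod.fst h
    have h2 : φ ⟨b, hb⟩ = ψ ⟨b, hb⟩ := congrArg Prod.snd h
    apply MonoidHom.eq_of_eqOn_dense (Subgroup.closure_closure_coe_preimage (k := ({a, b} : Set G)))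
    rintro ⟨x, hx⟩ hx'
    have hx'' : x = a ∨ x = b := hx'
    rcases hx'' with rfl | rfl
    · exact h1
    · exact h2
  have := Nat.card_le_card_of_injective _ hinj
  rwa [Nat.card_prod, ← pow_two] at this

/-- a permutation of `r`-power order fixing a point of a finite set `X` with `r ∤ |X| - 1` fixes
another point -/
theorem exists_fixed_ne {X : Type*} [Finite X] (σ : Equiv.Perm X) {r k : ℕ} [Fact r.Prime]
    (hσ : σ ^ r ^ k = 1) (x₀ : X) (hx₀ : σ x₀ = x₀) (hcard : ¬ r ∣ Nat.card X - 1) :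
    ∃ x, x ≠ x₀ ∧ σ x = x := by
  classical
  haveI : Fintype X := Fintype.ofFinite X
  have hiff : ∀ x, σ x ≠ x₀ ↔ x ≠ x₀ := by
    intro x
    constructor
    · rintro h rfl
      exact h hx₀
    · intro h h'
      apply h
      apply σ.injective
      rw [h', hx₀]
  set τ : Equiv.Perm {x : X // x ≠ x₀} := σ.subtypePerm hiff with hτ_def
  have hτ : τ ^ r ^ k = 1 := by
    rw [hτ_def, Equiv.Perm.subtypePerm_pow]
    ext ψ
    simp [hσ]
  have hc : ¬ r ∣ Fintype.card {x : X // x ≠ x₀} := by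
    have h1 : Fintype.card {x : X // x ≠ x₀} = Fintype.card X - 1 := Set.card_ne_eq x₀
    rw [h1, ← Nat.card_eq_fintype_card]
    exact hcard
  obtain ⟨⟨x, hx⟩, hfix⟩ := Equiv.Perm.exists_fixed_point_of_prime hc hτ
  refine ⟨x, hx, ?_⟩
  have := congrArg Subtype.val hfix
  simpa [hτ_def] using this

/-- the permutation of `Hom(Q, A)` induced by an automorphism of `Q` -/
def homPerm {Q A : Type*} [Group Q] [Group A] (α : MulAut Q) : Equiv.Perm (Q →* A) where
  toFun φ := φ.comp α.toMonoidHom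
  invFun φ := φ.comp α.symm.toMonoidHom
  left_inv φ := by ext x; simp
  right_inv φ := by ext x; simp

theorem homPerm_apply {Q A : Type*} [Group Q] [Group A] (α : MulAut Q) (φ : Q →* A) (x : Q) :
    homPerm α φ x = φ (α x) := rfl

theorem homPerm_pow {Q A : Type*} [Group Q] [Group A] (α : MulAut Q) (n : ℕ) (φ : Q →* A) (x : Q) :
    ((homPerm α) ^ n) φ x = φ ((α ^ n) x) := by
  induction n generalizing φ with
  | zero => simp
  | succ n ih =>
    rw [pow_succ, Equiv.Perm.mul_apply, ih, homPerm_apply, pow_succ', MulAut.mul_apply]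

theorem zmod_pow_eq_one (p : ℕ) [Fact p.Prime] (a : Multiplicative (ZMod p)) : a ^ p = 1 := by
  have h : Nat.card (Multiplicative (ZMod p)) = p := by
    rw [Nat.card_eq_fintype_card, Fintype.card_multiplicative, ZMod.card]
  have := pow_card_eq_one' (G := Multiplicative (ZMod p)) (x := a)
  rwa [h] at this

/-- a nontrivial finite `p`-group has a nontrivial homomorphism to the group of order `p` -/
theorem exists_hom_ne_one {Q : Type*} [Group Q] [Finite Q] {p : ℕ} [Fact p.Prime]
    (hQ : IsPGroup p Q) (hne : Nontrivial Q) : ∃ φ : Q →* Multiplicative (ZMod p), φ ≠ 1 := by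
  have hp : p.Prime := Fact.out
  obtain ⟨n, hn⟩ := IsPGroup.iff_card.mp hQ
  have hn0 : n ≠ 0 := by
    rintro rfl
    rw [pow_zero] at hn
    have := Finite.one_lt_card_iff_nontrivial.mpr hne
    omega
  obtain ⟨n', rfl⟩ : ∃ n', n = n' + 1 := ⟨n - 1, by omega⟩
  obtain ⟨M, hM⟩ := Sylow.exists_subgroup_card_pow_prime p (G := Q) (n := n')
    (by rw [hn]; exact pow_dvd_pow p (Nat.le_succ n'))
  have hidx : M.index = p := by
    have h1 := M.card_mul_index
    rw [hM, hn, pow_succ] at h1
    exact Nat.eq_of_mul_eq_mul_left (pow_pos hp.pos n') h1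
  haveI : M.Normal := by
    apply Subgroup.normal_of_index_eq_minFac_card
    rw [hidx, hn, Nat.Prime.pow_minFac hp (Nat.succ_ne_zero n')]
  have hcard : Nat.card (Q ⧸ M) = p := by rw [← Subgroup.index_eq_card]; exact hidx
  have hA : Nat.card (Multiplicative (ZMod p)) = p := by
    rw [Nat.card_eq_fintype_card, Fintype.card_multiplicative, ZMod.card]
  let e : Q ⧸ M ≃* Multiplicative (ZMod p) := mulEquivOfPrimeCardEq hcard hA
  refine ⟨e.toMonoidHom.comp (QuotientGroup.mk' M), ?_⟩
  intro h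
  have hsurj : Function.Surjective (e.toMonoidHom.comp (QuotientGroup.mk' M)) :=
    e.surjective.comp (QuotientGroup.mk'_surjective M)
  obtain ⟨x, hx⟩ := hsurj (Multiplicative.ofAdd 1)
  rw [h, MonoidHom.one_apply] at hx
  have h01 : (0 : ZMod p) = 1 := Multiplicative.ofAdd.injective hx
  haveI : Fact (1 < p) := ⟨hp.one_lt⟩
  exact zero_ne_one h01

/-- the number of homomorphisms from a `p`-group to the group of order `p` is a power of `p` -/
theorem card_hom_zmod {Q : Type*} [Group Q] [Finite Q] (p : ℕ) [Fact p.Prime] :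
    ∃ d : ℕ, Nat.card (Q →* Multiplicative (ZMod p)) = p ^ d := by
  haveI : Finite (Q →* Multiplicative (ZMod p)) :=
    Finite.of_injective (fun φ => (φ : Q → Multiplicative (ZMod p))) DFunLike.coe_injective
  apply IsPGroup.iff_card.mp
  intro φ
  refine ⟨1, ?_⟩
  ext x
  rw [pow_one, MonoidHom.pow_apply, MonoidHom.one_apply]
  exact zmod_pow_eq_one p _

/-- An element `g` of order a power of a prime `r ∤ p (p ^ 2 - 1)` normalizing a `p`-subgroup `Q`, all
of whose subgroups are generated by two elements, centralizes `Q`. -/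
theorem mem_centralizer_of_two_gen {G : Type*} [Group G] [Finite G] {p r : ℕ} [Fact p.Prime]
    [Fact r.Prime] (hrp : ¬ r ∣ p ^ 2 - 1) (hrp' : r ≠ p) (g : G) (k : ℕ) (hg : g ^ r ^ k = 1) :
    ∀ (n : ℕ) (Q : Subgroup G), Nat.card Q = n → IsPGroup p Q →
      (∀ H ≤ Q, ∃ a b : G, H = closure {a, b}) → g ∈ normalizer (Q : Set G) →
      g ∈ centralizer (Q : Set G) := by
  have hp : p.Prime := Fact.out
  have hr : r.Prime := Fact.out
  intro n
  induction n using Nat.strong_induction_on with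
  | _ n ih =>
  intro Q hQn hQp h2gen hgN
  by_cases hbot : Q = ⊥
  · rw [hbot, Subgroup.coe_bot, Subgroup.centralizer_eq_top_iff_subset.mpr (by simp)]
    exact Subgroup.mem_top g
  have hne : Nontrivial ↥Q := (Subgroup.nontrivial_iff_ne_bot Q).mpr hbot
  -- the automorphism induced by `g`
  set α : MulAut ↥Q := Q.normalizerMonoidHom ⟨g, hgN⟩ with hα
  have hαx : ∀ x : ↥Q, ((α x : ↥Q) : G) = g * x * g⁻¹ := fun x => rfl
  have hαpow : α ^ r ^ k = 1 := by
    rw [hα, ← map_pow]
    have : (⟨g, hgN⟩ : ↥(normalizer (Q : Set G))) ^ r ^ k = 1 := Subtype.ext (by simpa using hg)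
    rw [this, map_one]
  -- the permutation of the homomorphisms to `Z/p`
  haveI : Finite (↥Q →* Multiplicative (ZMod p)) :=
    Finite.of_injective (fun φ => (φ : ↥Q → Multiplicative (ZMod p))) DFunLike.coe_injective
  set σ : Equiv.Perm (↥Q →* Multiplicative (ZMod p)) := homPerm α with hσ_def
  have hσ : σ ^ r ^ k = 1 := by
    ext φ x
    rw [hσ_def, homPerm_pow, hαpow]
    rfl
  have hσ1 : σ 1 = 1 := by
    ext x
    rw [hσ_def, homPerm_apply]
    rfl
  -- the number of homomorphisms
  obtain ⟨d, hd⟩ := card_hom_zmod (Q := ↥Q) p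
  obtain ⟨φ₀, hφ₀⟩ := exists_hom_ne_one hQp hne
  have hd1 : 1 ≤ d := by
    rcases Nat.eq_zero_or_pos d with rfl | h
    · exfalso
      rw [pow_zero] at hd
      have hsub := (Nat.card_eq_one_iff_unique.mp hd).1
      exact hφ₀ (Subsingleton.elim _ _)
    · exact h
  have hd2 : d ≤ 2 := by
    obtain ⟨a, b, hab⟩ := h2gen Q le_rfl
    have h1 := card_monoidHom_le_of_closure_pair (A := Multiplicative (ZMod p)) Q a b hab
    have hA : Nat.card (Multiplicative (ZMod p)) = p := by
      rw [Nat.card_eq_fintype_card, Fintype.card_multiplicative, ZMod.card]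
    rw [hd, hA] at h1
    exact (Nat.pow_le_pow_iff_right hp.one_lt).mp h1
  have hcard : ¬ r ∣ Nat.card (↥Q →* Multiplicative (ZMod p)) - 1 := by
    rw [hd]
    intro h
    apply hrp
    have hd' : d = 1 ∨ d = 2 := by omega
    rcases hd' with rfl | rfl
    · rw [pow_one] at h
      refine dvd_trans h ?_
      refine ⟨p + 1, ?_⟩
      have h1 : 1 ≤ p := hp.one_lt.le
      zify [h1, Nat.one_le_pow 2 p hp.pos]
      ring
    · exact h
  obtain ⟨φ, hφ1, hφfix⟩ := exists_fixed_ne σ hσ 1 hσ1 hcard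
  have hφα : ∀ x : ↥Q, φ (α x) = φ x := by
    intro x
    have := DFunLike.congr_fun hφfix x
    rwa [hσ_def, homPerm_apply] at this
  -- the kernel
  set M : Subgroup G := φ.ker.map Q.subtype with hM
  have hMQ : M ≤ Q := by
    rw [hM]
    exact Subgroup.map_subtype_le _
  have hmemM : ∀ x : ↥Q, (x : G) ∈ M ↔ φ x = 1 := by
    intro x
    rw [hM, Subgroup.mem_map]
    constructor
    · rintro ⟨y, hy, hyx⟩
      have : y = x := Subtype.ext hyx
      rw [← this]
      exact hy
    · intro h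
      exact ⟨x, h, rfl⟩
  have hMlt : M < Q := by
    refine lt_of_le_of_ne hMQ (fun h => ?_)
    apply hφ1
    ext x
    rw [MonoidHom.one_apply]
    exact (hmemM x).mp (by rw [h]; exact x.2)
  have hMcard : Nat.card M < n := by
    rw [← hQn]
    have hle := Subgroup.card_le_of_le hMQ
    refine lt_of_le_of_ne hle (fun he => ?_)
    exact hMlt.ne (Subgroup.eq_of_le_of_card_ge hMQ he.ge)
  have hgM : g ∈ normalizer (M : Set G) := by
    rw [Subgroup.mem_normalizer_iff]
    intro x
    constructor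
    · intro hx
      have hxQ : x ∈ Q := hMQ hx
      have h1 : ((α ⟨x, hxQ⟩ : ↥Q) : G) ∈ M := by
        rw [hmemM, hφα]
        exact (hmemM ⟨x, hxQ⟩).mp hx
      rwa [hαx] at h1
    · intro hx
      have hxQ' : g * x * g⁻¹ ∈ Q := hMQ hx
      have hxQ : x ∈ Q := (Subgroup.mem_normalizer_iff.mp hgN x).mpr hxQ'
      have h1 : α ⟨x, hxQ⟩ = ⟨g * x * g⁻¹, hxQ'⟩ := Subtype.ext (hαx _)
      have h2 : φ (α ⟨x, hxQ⟩) = 1 := by
        rw [h1]
        exact (hmemM ⟨g * x * g⁻¹, hxQ'⟩).mp hx
      rw [hφα] at h2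
      exact (hmemM ⟨x, hxQ⟩).mpr h2
  have hgCM : g ∈ centralizer (M : Set G) :=
    ih _ hMcard M rfl (hQp.to_le hMQ) (fun H hH => h2gen H (hH.trans hMQ)) hgM
  -- `g` stabilizes the chain `Q ≥ M ≥ 1`
  have hcop : (orderOf g).Coprime (Nat.card Q) := by
    obtain ⟨j, hj⟩ := IsPGroup.iff_card.mp hQp
    rw [hj]
    have h1 : orderOf g ∣ r ^ k := orderOf_dvd_of_pow_eq_one hg
    apply Nat.Coprime.coprime_dvd_left h1
    apply Nat.Coprime.pow
    exact (Nat.coprime_primes hr hp).mpr hrp'
  have hK : ∀ x ∈ M, g * x = x * g := by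
    intro x hx
    exact ((Subgroup.mem_centralizer_iff.mp hgCM) x hx).symm
  have hN : ∀ h ∈ Q, ⁅h, g⁆ ∈ M := by
    intro h hh
    have h1 : ⁅h, g⁆ = ((⟨h, hh⟩ * (α ⟨h, hh⟩)⁻¹ : ↥Q) : G) := by
      rw [commutatorElement_def, Subgroup.coe_mul, Subgroup.coe_inv, hαx]
      group
    rw [h1, hmemM, map_mul, map_inv, hφα, mul_inv_cancel]
  have := Cfsg.Agent.Lib.Helper9.mem_centralizer_of_stabilizes_pair Q M hMQ g hcop hK hN
  rw [Subgroup.mem_centralizer_iff]
  intro x hx
  exact (this x hx).symm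

end Cfsg.Agent.Lib.Helper29
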