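import Mathlib
import Cfsg.Agent.Lib.Helper29.KInfD
import Cfsg.Agent.Lib.Helper12.FusionConvert
import Cfsg.Agent.Lib.Helper12.Sections

/-!
# The lower K-infinity subgroup controls strong fusion in `Qd(p)`-free groups (helper29)
-/

set_option autoImplicit false
set_option linter.style.haveILetI false
set_option linter.unusedSectionVars false
open scoped commutatorElement

namespace Cfsg.Agent.Lib.Helper29.KInfN

universe u

/-- the variant of S1969 for the group itself -/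
theorem controlsStrongFusion_of_local {G : Type u} [Group G] [Finite G] {p : ℕ} [Fact p.Prime]
    (W : ∀ (Q : Type u) [Group Q], Subgroup Q) (hW : Cfsg.IsCharPFunctor.{u} p W)
    (hloc : ∀ (K R : Subgroup G) [hR : (R.subgroupOf K).Normal],
      Subgroup.centralizer ((Cfsg.pCore p (↥K ⧸ R.subgroupOf K) :
        Subgroup (↥K ⧸ R.subgroupOf K)) : Set (↥K ⧸ R.subgroupOf K)) ≤
        Cfsg.pCore p (↥K ⧸ R.subgroupOf K) →
      ∀ T : Sylow p (↥K ⧸ R.subgroupOf K),
        (Cfsg.inducedFunctor (G := (↥K ⧸ R.subgroupOf K)) W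
          ((T : Subgroup (↥K ⧸ R.subgroupOf K)))).Normal)
    (T : Sylow p G) : Cfsg.ControlsStrongFusion p (Cfsg.inducedFunctor W (T : Subgroup G)) := by
  classical
  set 𝓦 : Set (∀ (Q : Type u) [Group Q], Subgroup Q) := {W} with h𝓦def
  have h𝓦 : ∀ W' ∈ 𝓦, Cfsg.IsCharPFunctor.{u} p W' := by
    intro W' hW'
    have : W' = W := hW'
    rw [this]
    exact hW
  have hΦ : ∀ (Q Q' : Type u) [Group Q] [Group Q'], (Q ≃* Q') →
      (Finite Q → Cfsg.Agent.Lib.Helper12.FamFusHyp p 𝓦 Q) →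
      (Finite Q' → Cfsg.Agent.Lib.Helper12.FamFusHyp p 𝓦 Q') := by
    intro Q Q' _ _ e h hfin
    haveI : Finite Q := Finite.of_equiv Q' e.symm.toEquiv
    exact Cfsg.Agent.Lib.Helper12.famFusHyp_of_equiv 𝓦 h𝓦 e (h inferInstance)
  have hgood : Cfsg.Agent.Lib.Helper12.AllSections
      (fun Q _ => Finite Q → Cfsg.Agent.Lib.Helper12.FamFusHyp p 𝓦 Q) G := by
    intro K' R' _ _ hC
    obtain ⟨T'⟩ : Nonempty (Sylow p (↥K' ⧸ R'.subgroupOf K')) := inferInstance
    apply Cfsg.Agent.Lib.Helper12.familyControlsStrongFusionIn_top_of_fctl _ T'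
    intro A x hA hAx
    have hn := hloc K' R' hC T'
    refine Cfsg.Agent.Lib.Helper12.FCtl.single (Cfsg.inducedFunctor W) ⟨W, rfl, rfl⟩
      (Subgroup.mem_inf.mpr ⟨Subgroup.mem_top _, ?_⟩) hA hAx
    rw [Subgroup.normalizer_eq_top_iff.mpr hn]
    trivial
  have hmain := Cfsg.Agent.Lib.Helper12.familyControlsStrongFusionIn_top_of_famFusHyp 𝓦 h𝓦 _
    G rfl hgood
  have hfam := Cfsg.Agent.Lib.Helper12.isConjugacyFunctor_inducedFamily 𝓦 h𝓦 G
  have hidx : ¬ p ∣ (T : Subgroup G).relIndex ⊤ := by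
    rw [Subgroup.relIndex_top_right]; exact T.not_dvd_index
  refine ⟨T, (Cfsg.Agent.Lib.Helper12.isConjugacyFunctor_induced W hW G
    (T : Subgroup G) T.2).1,
    fun A hA => ⟨hA, fun g hg => ?_⟩⟩
  obtain ⟨c, hc, hag⟩ := Cfsg.Agent.Lib.Helper12.familyControlsStrongFusionIn_sylow _ hfam hmain
    le_top T.2 hidx A g (Subgroup.mem_top _) hA hg
  refine ⟨c, hc.mem_of_normalizer_le _ ?_, fun a ha => (hag a ha).symm⟩
  intro W'' hW''
  obtain ⟨W', hW', hWW⟩ := hW''
  have e : W' = W := hW'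
  rw [← hWW, e]
  exact inf_le_right

/-- **The lower K-infinity subgroup controls strong fusion in `Qd(p)`-free groups, `p` odd.** -/
theorem kInfLower_controls {G : Type u} [Group G] [Finite G] {p : ℕ} [Fact p.Prime] (hp : p ≠ 2)
    (hfree : ¬ Cfsg.Involves ↥(Cfsg.qd p) G) (S : Sylow p G) :
    Cfsg.ControlsStrongFusion p (Cfsg.inducedFunctor Cfsg.kInfLower (S : Subgroup G)) := by
  apply controlsStrongFusion_of_local Cfsg.kInfLower (isCharPFunctor_kInfLower.{u} p)
  intro K R hR hC T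
  apply kInfLower_normal_of_not_involves_qd hp _ hC T
  intro h
  apply hfree
  have h1 : Cfsg.Involves ↥(Cfsg.qd p) ↥K :=
    Cfsg.Agent.Lib.Helper8.ThTwo.involves_of_quotient (R.subgroupOf K) h
  exact Cfsg.Agent.Lib.Helper27.involves_of_injective K.subtype K.subtype_injective h1

end Cfsg.Agent.Lib.Helper29.KInfN
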