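import Mathlib
import Cfsg.Agent.Lib.Helper29.KInfE
import Cfsg.Agent.Lib.Helper27.QdFusion

/-!
# Characteristic subgroups of a Sylow `p`-subgroup do not control strong fusion in `Qd(p)` (helper29)
-/

set_option autoImplicit false
set_option linter.style.haveILetI false
set_option linter.unusedSectionVars false

namespace Cfsg.Agent.Lib.Helper29.KInfN

open Matrix Cfsg.Agent.Lib.Helper27.QdNatural Cfsg.Agent.Lib.Helper27.QdFusion

universe u

variable {p : ℕ} [hpF : Fact p.Prime]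

theorem not_controlsStrongFusion_qd_char (T : Sylow p ↥(Cfsg.qd p))
    (C : Subgroup ↥(T : Subgroup ↥(Cfsg.qd p))) (hC : C ≠ ⊥) (hchar : C.Characteristic) :
    ¬ Cfsg.ControlsStrongFusion p (C.map (T : Subgroup ↥(Cfsg.qd p)).subtype) := by
  rintro ⟨T', hUT', hctl⟩
  obtain ⟨hN1, hN2⟩ := Cfsg.Agent.Lib.Helper20.Qd.normalizer_char_sylow p T C hC hchar
  have hVS : ∀ S : Sylow p ↥(Cfsg.qd p), Vt p ≤ (S : Subgroup ↥(Cfsg.qd p)) := fun S =>
    Vt_isPGroup.le_sylow_of_normal S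
  haveI : ((Vt p).subgroupOf (T : Subgroup ↥(Cfsg.qd p))).Normal := inferInstance
  have hne : (Vt p).subgroupOf (T : Subgroup ↥(Cfsg.qd p)) ≠ ⊥ := by
    intro h
    have h1 : transl (Multiplicative.ofAdd (![1, 0] : Fin 2 → ZMod p)) ∈ Vt p := ⟨_, rfl⟩
    have h2 : (⟨_, hVS T h1⟩ : (T : Subgroup ↥(Cfsg.qd p))) ∈
        (Vt p).subgroupOf (T : Subgroup ↥(Cfsg.qd p)) := Subgroup.mem_subgroupOf.mpr h1
    rw [h, Subgroup.mem_bot] at h2
    have h3 : transl (Multiplicative.ofAdd (![1, 0] : Fin 2 → ZMod p)) = 1 :=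
      congrArg Subtype.val h2
    rw [← map_one (transl (p := p))] at h3
    have h4 := Multiplicative.ofAdd.injective (transl_injective h3)
    have h5 := congrFun h4 0
    simp at h5
  obtain ⟨x, hxV, hx1, hxc⟩ := Cfsg.Agent.Lib.Helper12.exists_ne_one_mem_center_of_normal
    T.isPGroup' ((Vt p).subgroupOf (T : Subgroup ↥(Cfsg.qd p))) hne
  set a : ↥(Cfsg.qd p) := (x : ↥(Cfsg.qd p)) with ha
  have haV : a ∈ Vt p := Subgroup.mem_subgroupOf.mp hxV
  have ha1 : a ≠ 1 := fun h => hx1 (Subtype.ext h)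
  -- `a` is central in `T`
  have haZ : a ∈ (T : Subgroup ↥(Cfsg.qd p)) ⊓
      Subgroup.centralizer ((T : Subgroup ↥(Cfsg.qd p)) : Set ↥(Cfsg.qd p)) := by
    refine Subgroup.mem_inf.mpr ⟨x.2, ?_⟩
    rw [Subgroup.mem_centralizer_iff]
    intro t ht
    have := Subgroup.mem_center_iff.mp hxc ⟨t, ht⟩
    exact congrArg Subtype.val this
  -- the normalizer of `T` normalizes `Z(T)`
  have hNZ : Subgroup.normalizer ((T : Subgroup ↥(Cfsg.qd p)) : Set ↥(Cfsg.qd p)) ≤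
      Subgroup.normalizer (((T : Subgroup ↥(Cfsg.qd p)) ⊓
        Subgroup.centralizer ((T : Subgroup ↥(Cfsg.qd p)) : Set ↥(Cfsg.qd p)) :
          Subgroup ↥(Cfsg.qd p)) : Set ↥(Cfsg.qd p)) := by
    apply Cfsg.Agent.Lib.Helper29.CFun.le_normalizer_of_conj_mem
    intro n hn z hz
    exact Subgroup.mem_inf.mpr ⟨(Subgroup.mem_normalizer_iff.mp hn z).mp hz.1,
      conj_centralizer_mem hn hz.2⟩
  -- all conjugates of `a` lie in `Z(T)`
  have hconjZ : ∀ g : ↥(Cfsg.qd p), g * a * g⁻¹ ∈ (T : Subgroup ↥(Cfsg.qd p)) ⊓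
      Subgroup.centralizer ((T : Subgroup ↥(Cfsg.qd p)) : Set ↥(Cfsg.qd p)) := by
    intro g
    have hA : ({a} : Set ↥(Cfsg.qd p)) ⊆ ((T' : Subgroup ↥(Cfsg.qd p)) : Set ↥(Cfsg.qd p)) := by
      rintro _ rfl
      exact hVS T' haV
    obtain ⟨-, hc⟩ := hctl {a} hA
    obtain ⟨n, hn, hna⟩ := hc g (by
      rintro _ ⟨_, rfl, rfl⟩
      exact hVS T' ((Vt_normal (p := p)).conj_mem a haV g))
    rw [hna a rfl]
    rw [hN1] at hn
    exact (Subgroup.mem_normalizer_iff.mp (hNZ hn) a).mp haZ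
  -- hence `V ≤ Z(T)`
  obtain ⟨v, hv⟩ := haV
  have hv1 : Multiplicative.toAdd v ≠ 0 := by
    intro h
    apply ha1
    rw [← hv]
    have : v = 1 := Multiplicative.toAdd.injective h
    rw [this, map_one]
  have hVZ : Vt p ≤ (T : Subgroup ↥(Cfsg.qd p)) ⊓
      Subgroup.centralizer ((T : Subgroup ↥(Cfsg.qd p)) : Set ↥(Cfsg.qd p)) := by
    rintro _ ⟨w, rfl⟩
    by_cases hw : Multiplicative.toAdd w = 0
    · have : w = 1 := Multiplicative.toAdd.injective hw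
      rw [this, map_one]
      exact one_mem _
    · obtain ⟨A, hA⟩ := exists_SL2_mulVec _ _ hv1 hw
      have h1 := hconjZ ⟨affSL A 0, affSL_mem_qd _ _⟩
      rw [← hv, conj_transl _ A 0 rfl v, vecAut_apply, hA, ofAdd_toAdd] at h1
      exact h1
  -- so `T ≤ C(V) ≤ V`
  have hTV : (T : Subgroup ↥(Cfsg.qd p)) ≤ Vt p := by
    intro t ht
    apply centralizer_Vt_le
    rw [Subgroup.mem_centralizer_iff]
    intro u hu
    exact (Subgroup.mem_centralizer_iff.mp (hVZ hu).2 t ht).symm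
  have hTeq : (T : Subgroup ↥(Cfsg.qd p)) = Vt p := le_antisymm hTV (hVS T)
  apply hN2
  rw [hTeq]
  exact Subgroup.normalizer_eq_top_iff.mpr inferInstance

end Cfsg.Agent.Lib.Helper29.KInfN
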