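import Mathlib
import Cfsg.Agent.Lib.Helper29.KInfF
import Cfsg.Agent.Lib.Helper8.ThTwoB
import Cfsg.Agent.Lib.Helper27.Involves

set_option autoImplicit false
set_option linter.style.haveILetI false
set_option linter.unusedSectionVars false

namespace Cfsg.Agent.Lib.Helper29.KInfN

universe u v

open Matrix Cfsg.Agent.Lib.Helper27.QdNatural Cfsg.Agent.Lib.Helper27.QdFusion

variable {p : ℕ} [hpF : Fact p.Prime]

theorem inducedFunctor_kInfLower_map_injective {X : Type u} {Y : Type v} [Group X] [Group Y]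
    (f : X →* Y) (hf : Function.Injective f) (T : Subgroup X) :
    (Cfsg.inducedFunctor Cfsg.kInfLower T).map f =
      Cfsg.inducedFunctor Cfsg.kInfLower (T.map f) := by
  unfold Cfsg.inducedFunctor
  have h : (Cfsg.kInfLower ↥T).map (T.equivMapOfInjective f hf).toMonoidHom =
      Cfsg.kInfLower ↥(T.map f) :=
    kInfLower_map (T.equivMapOfInjective f hf).toMonoidHom (T.equivMapOfInjective f hf).injective
      (T.equivMapOfInjective f hf).surjective
  rw [← h, Subgroup.map_map, Subgroup.map_map]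
  congr 1

theorem inducedFunctor_kInfLower_map_equiv {X : Type u} {Y : Type v} [Group X] [Group Y]
    (e : X ≃* Y) (T : Subgroup X) :
    (Cfsg.inducedFunctor Cfsg.kInfLower T).map e.toMonoidHom =
      Cfsg.inducedFunctor Cfsg.kInfLower (T.map e.toMonoidHom) :=
  inducedFunctor_kInfLower_map_injective e.toMonoidHom e.injective T

theorem kInfLower_characteristic (Q : Type u) [Group Q] : (Cfsg.kInfLower Q).Characteristic :=
  Subgroup.characteristic_iff_map_eq.mpr fun φ =>
    kInfLower_map φ.toMonoidHom φ.injective φ.surjective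

theorem not_involves_of_kInfLower_controls {G : Type u} [Group G] [Finite G]
    (h : ∀ (K R : Subgroup G) [hR : (R.subgroupOf K).Normal], ∀ T : Sylow p (↥K ⧸ R.subgroupOf K),
      Cfsg.ControlsStrongFusion p
        (Cfsg.inducedFunctor (G := (↥K ⧸ R.subgroupOf K)) Cfsg.kInfLower
          (T : Subgroup (↥K ⧸ R.subgroupOf K)))) :
    ¬ Cfsg.Involves ↥(Cfsg.qd p) G := by
  rintro ⟨K, R, hR, ⟨e⟩⟩
  obtain ⟨T⟩ : Nonempty (Sylow p (↥K ⧸ R.subgroupOf K)) := inferInstance
  have h1 := Cfsg.Agent.Lib.Helper27.QdFusion.controlsStrongFusion_map_equiv e _ (h K R T)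
  rw [inducedFunctor_kInfLower_map_equiv] at h1
  have hes : Function.Surjective e.toMonoidHom := e.surjective
  have h2 : ((T.mapSurjective hes : Sylow p ↥(Cfsg.qd p)) : Subgroup ↥(Cfsg.qd p)) =
      (T : Subgroup (↥K ⧸ R.subgroupOf K)).map e.toMonoidHom := Sylow.coe_mapSurjective hes T
  rw [← h2] at h1
  set T' : Sylow p ↥(Cfsg.qd p) := T.mapSurjective hes with hT'
  refine not_controlsStrongFusion_qd_char T' (Cfsg.kInfLower ↥(T' : Subgroup ↥(Cfsg.qd p))) ?_
    (kInfLower_characteristic _) h1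
  have hnt : Nontrivial ↥(T' : Subgroup ↥(Cfsg.qd p)) := by
    have hVT : Vt p ≤ (T' : Subgroup ↥(Cfsg.qd p)) := Vt_isPGroup.le_sylow_of_normal T'
    have h1 : transl (Multiplicative.ofAdd (![1, 0] : Fin 2 → ZMod p)) ∈ Vt p := ⟨_, rfl⟩
    refine ⟨⟨⟨_, hVT h1⟩, 1, ?_⟩⟩
    intro h
    have h3 : transl (Multiplicative.ofAdd (![1, 0] : Fin 2 → ZMod p)) = 1 :=
      congrArg Subtype.val h
    rw [← map_one (transl (p := p))] at h3
    have h4 := Multiplicative.ofAdd.injective (transl_injective h3)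
    have h5 := congrFun h4 0
    simp at h5
  exact (isCharPFunctor_kInfLower p).1 _ T'.isPGroup' hnt

theorem kInfLower_controls_sections {G : Type u} [Group G] [Finite G] (hp : p ≠ 2)
    (hfree : ¬ Cfsg.Involves ↥(Cfsg.qd p) G) (K R : Subgroup G) [hR : (R.subgroupOf K).Normal]
    (T : Sylow p (↥K ⧸ R.subgroupOf K)) :
    Cfsg.ControlsStrongFusion p
      (Cfsg.inducedFunctor (G := (↥K ⧸ R.subgroupOf K)) Cfsg.kInfLower
        (T : Subgroup (↥K ⧸ R.subgroupOf K))) := by
  apply kInfLower_controls hp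
  intro h
  exact hfree (Cfsg.Agent.Lib.Helper27.involves_of_injective K.subtype K.subtype_injective
    (Cfsg.Agent.Lib.Helper8.ThTwo.involves_of_quotient (R.subgroupOf K) h))

end Cfsg.Agent.Lib.Helper29.KInfN
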