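import Mathlib
import Cfsg.Agent.Lib.Helper27.KQ1
import Cfsg.Agent.Lib.Helper29.KInfG

/-!
# Glauberman's Theorem C for the K-infinity subgroups: the cubic element (helper29)

If the lower or the upper K-infinity subgroup of a Sylow `p`-subgroup `S` of `G` is not normal in `G`, and `A` is a
normal subgroup of class at most two inside `O_p(G)` with `[A, O_p(G)] ≤ Z(A)`, then some element `g` of `S` outside
`O_p(G)` satisfies `[A, g, g, g] ≤ Z(A)` and `[Z(A), g, g] = 1`.
(The chain of `KInfA`/`KInfC` and of helper27's `KQ1`, with the cubic hypothesis.)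
-/

set_option autoImplicit false
set_option linter.style.haveILetI false
set_option linter.unusedSectionVars false
set_option linter.unusedVariables false
open scoped commutatorElement

namespace Cfsg.Agent.Lib.Helper29.KInfN

open Cfsg.Agent.Lib.Helper27.KQ (Cfg0)
open Cfsg.Agent.Lib.Helper29.CFun (le_normalizer_of_conj_mem commutator_le_right_of_le_normalizer
  commutator_le_left_of_le_normalizer)

universe u

variable {G : Type u} [Group G]

/-- no element of `S` outside `O_p(G)` acts cubically on `A / Z(A)` and quadratically on `Z(A)` -/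
def NoCub (p : ℕ) (A S : Subgroup G) : Prop :=
  ∀ g ∈ S, ⁅⁅⁅A, Subgroup.zpowers g⁆, Subgroup.zpowers g⁆, Subgroup.zpowers g⁆ ≤
      A ⊓ Subgroup.centralizer (A : Set G) →
    ⁅⁅A ⊓ Subgroup.centralizer (A : Set G), Subgroup.zpowers g⁆, Subgroup.zpowers g⁆ = ⊥ →
    g ∈ Cfsg.pCore p G

variable {p : ℕ} [Fact p.Prime] {A S : Subgroup G} [Finite G]

theorem mem_of_quad (hN : NoCub p A S) {b : G} (hb : b ∈ S)
    (h0 : ⁅⁅A, Subgroup.zpowers b⁆, Subgroup.zpowers b⁆ = ⊥) : b ∈ Cfsg.pCore p G := by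
  apply hN b hb
  · rw [h0, Subgroup.commutator_bot_left]; exact bot_le
  · rw [eq_bot_iff, ← h0]
    exact Subgroup.commutator_mono (Subgroup.commutator_mono inf_le_left le_rfl) le_rfl

theorem upperStar_le_pCore₃ (hA : Cfg0 p A) (hN : NoCub p A S) {B Q : Subgroup G} (hBS : B ≤ S)
    (hAQ : A ≤ Q) (hB : ⁅B, Q⁆ ≤ B ⊓ Subgroup.centralizer (B : Set G)) : B ≤ Cfsg.pCore p G := by
  intro b hb
  have hzb : Subgroup.zpowers b ≤ B := by rw [Subgroup.zpowers_le]; exact hb
  have h0 : ⁅⁅A, Subgroup.zpowers b⁆, Subgroup.zpowers b⁆ = ⊥ := by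
    rw [eq_bot_iff]
    calc ⁅⁅A, Subgroup.zpowers b⁆, Subgroup.zpowers b⁆ ≤ ⁅⁅Q, B⁆, B⁆ :=
          Subgroup.commutator_mono (Subgroup.commutator_mono hAQ hzb) hzb
      _ ≤ ⁅B ⊓ Subgroup.centralizer (B : Set G), B⁆ := by
          rw [Subgroup.commutator_comm Q B]
          exact Subgroup.commutator_mono hB le_rfl
      _ ≤ ⊥ := by
          rw [le_bot_iff, Subgroup.commutator_eq_bot_iff_le_centralizer]
          exact inf_le_right
  exact mem_of_quad hN (hBS hb) h0

theorem mem_lowerStar₃ (hA : Cfg0 p A) (hN : NoCub p A S) (Q : Subgroup G) (hQS : Q ≤ S) :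
    A ∈ Cfsg.kLowerStarFamily Q := by
  haveI := hA.normal
  haveI hZn : (A ⊓ Subgroup.centralizer (A : Set G)).Normal := inferInstance
  refine ⟨hA.cls, by rw [Subgroup.normalizer_eq_top]; exact le_top, ?_⟩
  intro X _ hXQ hAX h1 h2
  have hXX : ⁅X, X⁆ ≤ Subgroup.centralizer (A : Set G) := by
    rw [Subgroup.commutator_eq_bot_iff_le_centralizer] at h1
    exact Subgroup.le_centralizer_iff.mp h1
  have hXH : X ≤ Cfsg.pCore p G := by
    intro x hx
    have hzx : Subgroup.zpowers x ≤ X := by rw [Subgroup.zpowers_le]; exact hx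
    apply hN x (hQS (hXQ hx))
    · have e1 : ⁅⁅A, Subgroup.zpowers x⁆, Subgroup.zpowers x⁆ ≤
          A ⊓ Subgroup.centralizer (A : Set G) := by
        apply le_inf
        · exact (Subgroup.commutator_mono (Subgroup.commutator_le_left A _) le_rfl).trans
            (Subgroup.commutator_le_left A _)
        · calc ⁅⁅A, Subgroup.zpowers x⁆, Subgroup.zpowers x⁆ ≤ ⁅⁅A, X⁆, X⁆ :=
                Subgroup.commutator_mono (Subgroup.commutator_mono le_rfl hzx) hzx
            _ ≤ ⁅X, X⁆ :=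
                Subgroup.commutator_mono (commutator_le_right_of_le_normalizer hAX) le_rfl
            _ ≤ _ := hXX
      exact (Subgroup.commutator_mono e1 le_rfl).trans (Subgroup.commutator_le_left _ _)
    · rw [eq_bot_iff, ← h2]
      exact Subgroup.commutator_mono (Subgroup.commutator_mono le_rfl hzx) hzx
  calc ⁅A, X⁆ ≤ ⁅A, Cfsg.pCore p G⁆ := Subgroup.commutator_mono le_rfl hXH
    _ ≤ _ := hA.comm

theorem lowerStar_le_pCore₃ (hA : Cfg0 p A) (hN : NoCub p A S) {B Q : Subgroup G} (hBS : B ≤ S)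
    (hAQ : A ≤ Q) (hB : B ∈ Cfsg.kLowerStarFamily Q) : B ≤ Cfsg.pCore p G := by
  obtain ⟨hB2, hQB, hBt⟩ := hB
  haveI hAn := hA.normal
  have hANB : A ≤ Subgroup.normalizer (B : Set G) := hAQ.trans hQB
  -- `Z(B) ≤ O_p(G)`
  have hANZB : A ≤ Subgroup.normalizer ((B ⊓ Subgroup.centralizer (B : Set G) : Subgroup G) : Set G) := by
    apply le_normalizer_of_conj_mem
    intro a ha x hx
    exact ⟨(Subgroup.mem_normalizer_iff.mp (hANB ha) x).mp hx.1,
      conj_centralizer_mem (hANB ha) hx.2⟩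
  have hZBB : ⁅B ⊓ Subgroup.centralizer (B : Set G), B⁆ = ⊥ := by
    rw [Subgroup.commutator_eq_bot_iff_le_centralizer]; exact inf_le_right
  have hZBH : B ⊓ Subgroup.centralizer (B : Set G) ≤ Cfsg.pCore p G := by
    intro x hx
    have hzx : Subgroup.zpowers x ≤ B ⊓ Subgroup.centralizer (B : Set G) := by
      rw [Subgroup.zpowers_le]; exact hx
    have h0 : ⁅⁅A, Subgroup.zpowers x⁆, Subgroup.zpowers x⁆ = ⊥ := by
      rw [eq_bot_iff]
      calc ⁅⁅A, Subgroup.zpowers x⁆, Subgroup.zpowers x⁆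
          ≤ ⁅⁅A, B ⊓ Subgroup.centralizer (B : Set G)⁆, B⁆ :=
            Subgroup.commutator_mono (Subgroup.commutator_mono le_rfl hzx)
              (hzx.trans inf_le_left)
        _ ≤ ⁅B ⊓ Subgroup.centralizer (B : Set G), B⁆ :=
            Subgroup.commutator_mono (commutator_le_right_of_le_normalizer hANZB) le_rfl
        _ = ⊥ := hZBB
    exact mem_of_quad hN (hBS hx.1) h0
  -- the test on `Z(A)`
  have hZAA : ⁅A ⊓ Subgroup.centralizer (A : Set G), A⁆ = ⊥ := by
    rw [Subgroup.commutator_eq_bot_iff_le_centralizer]; exact inf_le_right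
  have hBZA : ⁅B, A ⊓ Subgroup.centralizer (A : Set G)⁆ ≤ B ⊓ Subgroup.centralizer (B : Set G) := by
    haveI : (A ⊓ Subgroup.centralizer (A : Set G)).Normal := inferInstance
    apply hBt (A ⊓ Subgroup.centralizer (A : Set G)) ?_ (inf_le_left.trans hAQ)
      (by rw [Subgroup.normalizer_eq_top]; exact le_top) ?_ ?_
    · show ⁅A ⊓ Subgroup.centralizer (A : Set G), A ⊓ Subgroup.centralizer (A : Set G)⁆ ≤
        Subgroup.centralizer ((A ⊓ Subgroup.centralizer (A : Set G) : Subgroup G) : Set G)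
      have : ⁅A ⊓ Subgroup.centralizer (A : Set G), A ⊓ Subgroup.centralizer (A : Set G)⁆ = ⊥ := by
        rw [Subgroup.commutator_eq_bot_iff_le_centralizer]
        exact inf_le_right.trans (Subgroup.centralizer_le inf_le_left)
      rw [this]; exact bot_le
    · have : ⁅A ⊓ Subgroup.centralizer (A : Set G), A ⊓ Subgroup.centralizer (A : Set G)⁆ = ⊥ := by
        rw [Subgroup.commutator_eq_bot_iff_le_centralizer]
        exact inf_le_right.trans (Subgroup.centralizer_le inf_le_left)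
      rw [this]
      exact Subgroup.commutator_bot_right B
    · rw [eq_bot_iff]
      calc ⁅⁅B ⊓ Subgroup.centralizer (B : Set G), A ⊓ Subgroup.centralizer (A : Set G)⁆,
            A ⊓ Subgroup.centralizer (A : Set G)⁆
          ≤ ⁅⁅Cfsg.pCore p G, A⁆, A⁆ :=
            Subgroup.commutator_mono (Subgroup.commutator_mono hZBH inf_le_left) inf_le_left
        _ ≤ ⁅A ⊓ Subgroup.centralizer (A : Set G), A⁆ :=
            Subgroup.commutator_mono (by rw [Subgroup.commutator_comm]; exact hA.comm) le_rfl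
        _ = ⊥ := hZAA
  intro b hb
  have hzb : Subgroup.zpowers b ≤ B := by rw [Subgroup.zpowers_le]; exact hb
  apply hN b (hBS hb)
  · have hBBB : ⁅⁅B, B⁆, B⁆ = ⊥ := by
      rw [Subgroup.commutator_eq_bot_iff_le_centralizer]; exact hB2
    have : ⁅⁅⁅A, Subgroup.zpowers b⁆, Subgroup.zpowers b⁆, Subgroup.zpowers b⁆ ≤ ⊥ := by
      calc ⁅⁅⁅A, Subgroup.zpowers b⁆, Subgroup.zpowers b⁆, Subgroup.zpowers b⁆
          ≤ ⁅⁅⁅A, B⁆, B⁆, B⁆ :=
            Subgroup.commutator_mono (Subgroup.commutator_mono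
              (Subgroup.commutator_mono le_rfl hzb) hzb) hzb
        _ ≤ ⁅⁅B, B⁆, B⁆ :=
            Subgroup.commutator_mono (Subgroup.commutator_mono
              (commutator_le_right_of_le_normalizer hANB) le_rfl) le_rfl
        _ = ⊥ := hBBB
    exact this.trans bot_le
  · rw [eq_bot_iff]
    calc _ ≤ ⁅⁅A ⊓ Subgroup.centralizer (A : Set G), B⁆, B⁆ :=
          Subgroup.commutator_mono (Subgroup.commutator_mono le_rfl hzb) hzb
      _ ≤ ⁅B ⊓ Subgroup.centralizer (B : Set G), B⁆ :=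
          Subgroup.commutator_mono (by rw [Subgroup.commutator_comm]; exact hBZA) le_rfl
      _ = ⊥ := hZBB

section main

theorem kSeq_le_pCore₃ (hA : Cfg0 p A) (S : Sylow p G) (hN : NoCub p A (S : Subgroup G)) :
    ∀ n : ℕ, (A ≤ (Cfsg.kSeqOdd ↥(S : Subgroup G) n).map (S : Subgroup G).subtype ∧
      (Cfsg.kSeqEven ↥(S : Subgroup G) n).map (S : Subgroup G).subtype ≤ Cfsg.pCore p G) ∧
      (Cfsg.kSeqOdd ↥(S : Subgroup G) (n + 1)).map (S : Subgroup G).subtype ≤ Cfsg.pCore p G := by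
  have hinj := (S : Subgroup G).subtype_injective
  have hHS : Cfsg.pCore p G ≤ S := Cfsg.Agent.Lib.Helper16.pCore_le_sylow S
  have hAS : A ≤ S := hA.le.trans hHS
  have hAmap : (A.subgroupOf S).map (S : Subgroup G).subtype = A :=
    Subgroup.map_subgroupOf_eq_of_le hAS
  have hmapS : ∀ X : Subgroup ↥(S : Subgroup G), X.map (S : Subgroup G).subtype ≤ S :=
    fun X => Subgroup.map_subtype_le X
  have step1 : ∀ n, A ≤ (Cfsg.kSeqOdd ↥(S : Subgroup G) n).map (S : Subgroup G).subtype →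
      (Cfsg.kSeqEven ↥(S : Subgroup G) n).map (S : Subgroup G).subtype ≤ Cfsg.pCore p G := by
    intro n hAn
    unfold Cfsg.kSeqEven
    rw [Subgroup.map_le_iff_le_comap]
    apply sSup_le
    intro B hB
    rw [← Subgroup.map_le_iff_le_comap]
    exact lowerStar_le_pCore₃ hA hN (hmapS B) hAn
      ((Cfsg.Agent.Lib.Helper12.lowerStar_map_iff _ hinj B _).mpr hB)
  have step2 : ∀ n, (Cfsg.kSeqEven ↥(S : Subgroup G) n).map (S : Subgroup G).subtype ≤
      Cfsg.pCore p G →
      A ≤ (Cfsg.kSeqOdd ↥(S : Subgroup G) (n + 1)).map (S : Subgroup G).subtype := by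
    intro n hn
    have hmem : A.subgroupOf S ∈ Cfsg.kUpperStarFamily (Cfsg.kSeqEven ↥(S : Subgroup G) n) := by
      rw [← Cfsg.Agent.Lib.Helper12.upperStar_map_iff _ hinj, hAmap]
      exact ⟨hA.cls, (Subgroup.commutator_mono le_rfl hn).trans hA.comm⟩
    have h1 : A.subgroupOf S ≤ Cfsg.kSeqOdd ↥(S : Subgroup G) (n + 1) := le_sSup hmem
    rw [← hAmap]
    exact Subgroup.map_mono h1
  have step3 : ∀ n, (Cfsg.kSeqOdd ↥(S : Subgroup G) (n + 1)).map (S : Subgroup G).subtype ≤
      Cfsg.pCore p G := by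
    intro n
    have hmem : A.subgroupOf S ∈ Cfsg.kLowerStarFamily (Cfsg.kSeqOdd ↥(S : Subgroup G) n) := by
      rw [← Cfsg.Agent.Lib.Helper12.lowerStar_map_iff _ hinj, hAmap]
      exact mem_lowerStar₃ hA hN _ (hmapS _)
    have hAE : A ≤ (Cfsg.kSeqEven ↥(S : Subgroup G) n).map (S : Subgroup G).subtype := by
      rw [← hAmap]
      exact Subgroup.map_mono (le_sSup hmem)
    show (sSup (Cfsg.kUpperStarFamily (Cfsg.kSeqEven ↥(S : Subgroup G) n))).map
      (S : Subgroup G).subtype ≤ _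
    rw [Subgroup.map_le_iff_le_comap]
    apply sSup_le
    intro B hB
    rw [← Subgroup.map_le_iff_le_comap]
    have hB' := (Cfsg.Agent.Lib.Helper12.upperStar_map_iff _ hinj B _).mpr hB
    exact upperStar_le_pCore₃ hA hN (hmapS B) hAE hB'.2
  intro n
  induction n with
  | zero =>
    have h0 : A ≤ (Cfsg.kSeqOdd ↥(S : Subgroup G) 0).map (S : Subgroup G).subtype := by
      show A ≤ (⊤ : Subgroup ↥(S : Subgroup G)).map (S : Subgroup G).subtype
      rw [← MonoidHom.range_eq_map, Subgroup.range_subtype]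
      exact hAS
    exact ⟨⟨h0, step1 0 h0⟩, step3 0⟩
  | succ n ih =>
    have h1 := step2 n ih.1.2
    exact ⟨⟨h1, step1 (n + 1) h1⟩, step3 (n + 1)⟩

theorem kInfUpper_map {Q : Type u} {R : Type*} [Group Q] [Group R] (f : Q →* R)
    (hf : Function.Injective f) (hs : Function.Surjective f) :
    (Cfsg.kInfUpper Q).map f = Cfsg.kInfUpper R := by
  unfold Cfsg.kInfUpper
  rw [Subgroup.map_iInf _ hf]
  congr 1
  funext n
  exact kSeqOdd_map f hf hs n

theorem kInfUpper_characteristic (Q : Type u) [Group Q] : (Cfsg.kInfUpper Q).Characteristic :=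
  Subgroup.characteristic_iff_map_eq.mpr fun φ =>
    kInfUpper_map φ.toMonoidHom φ.injective φ.surjective

/-- Both K-infinity subgroups of `S` coincide with those of `O_p(G)`. -/
theorem kInf_eq_of_noCub (hA : Cfg0 p A) (S : Sylow p G) (hN : NoCub p A (S : Subgroup G)) :
    Cfsg.inducedFunctor Cfsg.kInfLower (S : Subgroup G) =
      Cfsg.inducedFunctor Cfsg.kInfLower (Cfsg.pCore p G) ∧
    Cfsg.inducedFunctor Cfsg.kInfUpper (S : Subgroup G) =
      Cfsg.inducedFunctor Cfsg.kInfUpper (Cfsg.pCore p G) := by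
  have hHS : Cfsg.pCore p G ≤ S := Cfsg.Agent.Lib.Helper16.pCore_le_sylow S
  have hHp : IsPGroup p (Cfsg.pCore p G) := Cfsg.Agent.Lib.Helper16.pCore_isPGroup
  have hP : IsPGroup p ↥(S : Subgroup G) := S.isPGroup'
  have hseq := kSeq_le_pCore₃ hA S hN
  have hQ' : ∀ n, Cfsg.kSeqEven ↥(S : Subgroup G) n ≤ (Cfsg.pCore p G).subgroupOf S ∧
      Cfsg.kSeqOdd ↥(S : Subgroup G) (n + 1) ≤ (Cfsg.pCore p G).subgroupOf S := by
    intro n
    exact ⟨Subgroup.map_le_iff_le_comap.mp (hseq n).1.2,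
      Subgroup.map_le_iff_le_comap.mp (hseq n).2⟩
  have h79 := Cfsg.Agent.S1979.result hP _ hQ'
  let e : ↥((Cfsg.pCore p G).subgroupOf (S : Subgroup G)) ≃* ↥(Cfsg.pCore p G) :=
    Subgroup.subgroupOfEquivOfLe hHS
  have hcomp : (Cfsg.pCore p G).subtype.comp e.toMonoidHom =
      (S : Subgroup G).subtype.comp ((Cfsg.pCore p G).subgroupOf (S : Subgroup G)).subtype := by
    ext x
    rfl
  constructor
  · have he := kInfLower_map e.toMonoidHom e.injective e.surjective
    unfold Cfsg.inducedFunctor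
    rw [← h79.1, ← he, Subgroup.map_map, Subgroup.map_map, hcomp]
  · have he := kInfUpper_map e.toMonoidHom e.injective e.surjective
    unfold Cfsg.inducedFunctor
    rw [← h79.2, ← he, Subgroup.map_map, Subgroup.map_map, hcomp]

/-- **The cubic element.** -/
theorem exists_cubic_of_not_normal (hA : Cfg0 p A) (S : Sylow p G)
    (hK : ¬ (Cfsg.inducedFunctor Cfsg.kInfLower (S : Subgroup G)).Normal ∨
      ¬ (Cfsg.inducedFunctor Cfsg.kInfUpper (S : Subgroup G)).Normal) :
    ∃ g : G, g ∈ (S : Subgroup G) ∧ g ∉ Cfsg.pCore p G ∧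
      ⁅⁅⁅A, Subgroup.zpowers g⁆, Subgroup.zpowers g⁆, Subgroup.zpowers g⁆ ≤
        A ⊓ Subgroup.centralizer (A : Set G) ∧
      ⁅⁅A ⊓ Subgroup.centralizer (A : Set G), Subgroup.zpowers g⁆, Subgroup.zpowers g⁆ = ⊥ := by
  by_contra hcon
  have hN : NoCub p A (S : Subgroup G) := by
    intro g hg h3 h2
    by_contra hgT
    exact hcon ⟨g, hg, hgT, h3, h2⟩
  obtain ⟨h1, h2⟩ := kInf_eq_of_noCub hA S hN
  haveI hTn : (Cfsg.pCore p G).Normal := inferInstance
  rcases hK with hK | hK
  · apply hK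
    rw [h1]
    unfold Cfsg.inducedFunctor
    haveI : (Cfsg.kInfLower ↥(Cfsg.pCore p G)).Characteristic := kInfLower_characteristic _
    exact ConjAct.normal_of_characteristic_of_normal
  · apply hK
    rw [h2]
    unfold Cfsg.inducedFunctor
    haveI : (Cfsg.kInfUpper ↥(Cfsg.pCore p G)).Characteristic := kInfUpper_characteristic _
    exact ConjAct.normal_of_characteristic_of_normal

end main

end Cfsg.Agent.Lib.Helper29.KInfN
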