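import Mathlib
import Cfsg.Agent.Lib.Helper29.KInfE
import Cfsg.Agent.Lib.Helper29.KInfH

/-!
# The upper K-infinity subgroup: functoriality, normality and control of strong fusion (helper29)

The analogues for `Cfsg.kInfUpper` of the results of `KInfC`, `KInfD`, `KInfE` on `Cfsg.kInfLower`.
-/

set_option autoImplicit false
set_option linter.style.haveILetI false
set_option linter.unusedSectionVars false
open scoped commutatorElement

namespace Cfsg.Agent.Lib.Helper29.KInfN

universe u

theorem isCharPFunctor_kInfUpper (p : ℕ) [Fact p.Prime] :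
    Cfsg.IsCharPFunctor.{u} p Cfsg.kInfUpper := by
  refine ⟨?_, ?_⟩
  · intro Q _ _ hQ hnt h
    have h1 := (Cfsg.Agent.S1978.result hQ).2.2.1
    rw [h] at h1
    have h2 : (⊤ : Subgroup Q) ≤ ⊥ := by
      refine le_trans ?_ h1
      intro x _
      rw [Subgroup.mem_centralizer_iff]
      intro y hy
      rw [SetLike.mem_coe, Subgroup.mem_bot] at hy
      rw [hy, one_mul, mul_one]
    obtain ⟨x, hx⟩ := exists_ne (1 : Q)
    exact hx (Subgroup.mem_bot.mp (h2 (Subgroup.mem_top x)))
  · intro Q R _ _ _ _ φ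
    exact kInfUpper_map φ.toMonoidHom φ.injective φ.surjective

section main

variable {G : Type u} [Group G] [Finite G] {p : ℕ} [Fact p.Prime] {A : Subgroup G}

/-- **Normality of the upper K-infinity subgroup.** -/
theorem kInfUpper_normal (hA : Cfg p A) (hQ : QStab p G) (S : Sylow p G) :
    (Cfsg.inducedFunctor Cfsg.kInfUpper (S : Subgroup G)).Normal := by
  have hHS : Cfsg.pCore p G ≤ S := Cfsg.Agent.Lib.Helper16.pCore_le_sylow S
  have hHp : IsPGroup p (Cfsg.pCore p G) := Cfsg.Agent.Lib.Helper16.pCore_isPGroup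
  have hP : IsPGroup p ↥(S : Subgroup G) := S.isPGroup'
  have hseq := kSeq_le_pCore hA hQ S
  have hQ' : ∀ n, Cfsg.kSeqEven ↥(S : Subgroup G) n ≤ (Cfsg.pCore p G).subgroupOf S ∧
      Cfsg.kSeqOdd ↥(S : Subgroup G) (n + 1) ≤ (Cfsg.pCore p G).subgroupOf S := by
    intro n
    exact ⟨Subgroup.map_le_iff_le_comap.mp (hseq n).1.2,
      Subgroup.map_le_iff_le_comap.mp (hseq n).2⟩
  have h79 := (Cfsg.Agent.S1979.result hP _ hQ').2
  have hW := isCharPFunctor_kInfUpper.{u} p
  have he := hW.2 _ _ (hHp.comap_subtype (K := (S : Subgroup G)))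
    (Subgroup.subgroupOfEquivOfLe hHS)
  have heq : Cfsg.inducedFunctor Cfsg.kInfUpper (S : Subgroup G) =
      Cfsg.inducedFunctor Cfsg.kInfUpper (Cfsg.pCore p G) := by
    unfold Cfsg.inducedFunctor
    rw [← h79, ← he, Subgroup.map_map, Subgroup.map_map]
    congr 1
  rw [heq]
  have h1 := Cfsg.Agent.Lib.Helper12.normalizer_le_normalizer_inducedFunctor Cfsg.kInfUpper hW
    (Cfsg.pCore p G) hHp
  rw [← Subgroup.normalizer_eq_top_iff, eq_top_iff]
  refine le_trans ?_ h1
  rw [Subgroup.normalizer_eq_top]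

theorem kInfUpper_normal_of_not_involves_qd (hp : p ≠ 2)
    (hfree : ¬ Cfsg.Involves ↥(Cfsg.qd p) G)
    (hc : Subgroup.centralizer ((Cfsg.pCore p G : Subgroup G) : Set G) ≤ Cfsg.pCore p G)
    (S : Sylow p G) : (Cfsg.inducedFunctor Cfsg.kInfUpper (S : Subgroup G)).Normal := by
  obtain ⟨A, hA⟩ := exists_cfg hc
  exact kInfUpper_normal hA (qStab_of_not_involves_qd hp hfree) S

end main

/-- **The upper K-infinity subgroup controls strong fusion in `Qd(p)`-free groups, `p` odd.** -/
theorem kInfUpper_controls {G : Type u} [Group G] [Finite G] {p : ℕ} [Fact p.Prime] (hp : p ≠ 2)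
    (hfree : ¬ Cfsg.Involves ↥(Cfsg.qd p) G) (S : Sylow p G) :
    Cfsg.ControlsStrongFusion p (Cfsg.inducedFunctor Cfsg.kInfUpper (S : Subgroup G)) := by
  apply controlsStrongFusion_of_local Cfsg.kInfUpper (isCharPFunctor_kInfUpper.{u} p)
  intro K R hR hC T
  apply kInfUpper_normal_of_not_involves_qd hp _ hC T
  intro h
  apply hfree
  have h1 : Cfsg.Involves ↥(Cfsg.qd p) ↥K :=
    Cfsg.Agent.Lib.Helper8.ThTwo.involves_of_quotient (R.subgroupOf K) h
  exact Cfsg.Agent.Lib.Helper27.involves_of_injective K.subtype K.subtype_injective h1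

end Cfsg.Agent.Lib.Helper29.KInfN
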