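import Mathlib
import Cfsg.Agent.Lib.Helper27.SpUDefs

/-!
# S2316 leaf L1 (helper29): `p`-elements through a surjection with `p`-group kernel
-/

set_option autoImplicit false

namespace Cfsg.Agent.Lib.Helper27.SpU

namespace L1aux

theorem isPElt_map_iff {G H : Type*} [Group G] [Group H] [Finite G] (p : ℕ) [Fact p.Prime]
    (π : G →* H) (a : ℕ) (hker : Nat.card π.ker = p ^ a) (g : G) :
    IsPElt p (π g) ↔ IsPElt p g := by
  have hp : p.Prime := Fact.out
  constructor
  · rintro ⟨j, hj⟩
    have h1 : g ^ (p ^ j) ∈ π.ker := by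
      rw [MonoidHom.mem_ker, map_pow, ← hj, pow_orderOf_eq_one]
    have h2 : (g ^ (p ^ j)) ^ (p ^ a) = 1 := by
      have h := pow_card_eq_one' (G := π.ker) (x := ⟨g ^ (p ^ j), h1⟩)
      rw [hker] at h
      have h' := congrArg Subtype.val h
      simpa using h'
    have h3 : g ^ (p ^ (j + a)) = 1 := by
      rw [pow_add, pow_mul]; exact h2
    obtain ⟨i, _, hi⟩ := (Nat.dvd_prime_pow hp).1 (orderOf_dvd_of_pow_eq_one h3)
    exact ⟨i, hi⟩
  · rintro ⟨k, hk⟩
    have h : orderOf (π g) ∣ p ^ k := hk ▸ orderOf_map_dvd π g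
    obtain ⟨i, _, hi⟩ := (Nat.dvd_prime_pow hp).1 h
    exact ⟨i, hi⟩

end L1aux

/-- A surjective hom with kernel of order `p^a`: `p`-elements upstairs = preimage of `p`-elements
downstairs, every fibre has `p^a` elements. -/
theorem card_pElt_of_surj {G H : Type*} [Group G] [Group H] [Finite G] (p : ℕ) [Fact p.Prime]
    (π : G →* H) (hπ : Function.Surjective π) (a : ℕ) (hker : Nat.card π.ker = p ^ a) :
    Nat.card {g : G // IsPElt p g} = p ^ a * Nat.card {h : H // IsPElt p h} := by
  classical
  have hs : ∀ h, π (Function.surjInv hπ h) = h := Function.surjInv_eq hπ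
  let e : {g : G // IsPElt p g} ≃ {h : H // IsPElt p h} × π.ker :=
    { toFun := fun g =>
        (⟨π g.1, (L1aux.isPElt_map_iff p π a hker g.1).2 g.2⟩,
         ⟨(Function.surjInv hπ (π g.1))⁻¹ * g.1, by
            rw [MonoidHom.mem_ker, map_mul, map_inv, hs, inv_mul_cancel]⟩)
      invFun := fun x =>
        ⟨Function.surjInv hπ x.1.1 * x.2.1, by
          rw [← L1aux.isPElt_map_iff p π a hker]
          have h : π (Function.surjInv hπ x.1.1 * x.2.1) = x.1.1 := by
            rw [map_mul, hs, (MonoidHom.mem_ker).1 x.2.2, mul_one]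
          rw [h]; exact x.1.2⟩
      left_inv := fun g => by
        apply Subtype.ext
        simp
      right_inv := fun x => by
        have h : π (Function.surjInv hπ x.1.1 * x.2.1) = x.1.1 := by
          rw [map_mul, hs, (MonoidHom.mem_ker).1 x.2.2, mul_one]
        apply Prod.ext
        · apply Subtype.ext
          exact h
        · apply Subtype.ext
          show (Function.surjInv hπ (π (Function.surjInv hπ x.1.1 * x.2.1)))⁻¹ *
            (Function.surjInv hπ x.1.1 * x.2.1) = x.2.1
          rw [h, inv_mul_cancel_left] }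
  rw [Nat.card_congr e, Nat.card_prod, hker, mul_comm]

end Cfsg.Agent.Lib.Helper27.SpU
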