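import Mathlib

/-!
# Market "AP" (S3614), leaf AP-CL3 (planner helper4).
`|Ω| = 3r+4`, `|supp z| = 3r`, `w z = z w`, `sign w = 1`, `w` a fixed-point-free involution on
`Fix z` ⟹ `w^(3r)` fixes `supp z` pointwise.
-/

set_option autoImplicit false

namespace Cfsg.Agent.Lib.Helper29.APCL3

open Equiv MulAction

variable {Ω : Type*} [Fintype Ω] [DecidableEq Ω]

omit [Fintype Ω] [DecidableEq Ω] in
/-- if `c` commutes with `g` and `c x = g x` then `c ^ n x = g ^ n x` -/
theorem pow_apply_of_commute {c g : Perm Ω} (hcg : Commute c g) {x : Ω} (hx : c x = g x) :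
    ∀ n : ℕ, (c ^ n) x = (g ^ n) x := by
  intro n
  induction n with
  | zero => simp
  | succ n ih =>
    have h1 : (c ^ (n + 1)) x = (c ^ n) (g x) := by
      rw [pow_succ, Perm.mul_apply, hx]
    have h2 : (c ^ n) (g x) = g ((c ^ n) x) := by
      have := congrArg (fun f : Perm Ω => f x) (hcg.pow_left n).eq
      simpa [Perm.mul_apply] using this
    rw [h1, h2, ih, pow_succ', Perm.mul_apply]

/-- the pigeonhole step: for `x ∈ supp z` some `w ^ (d r)`, `d ∈ {1, 2, 3}`, fixes `x` -/
theorem exists_pow_fix (r : ℕ) (hr : r.Prime) {z w : Perm Ω}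
    (hzr : orderOf z = r) (hsupp : z.support.card = 3 * r) (hc : Commute w z)
    (x : Ω) (hx : x ∈ z.support) :
    ∃ d : ℕ, 0 < d ∧ d ≤ 3 ∧ (w ^ (d * r)) x = x := by
  have hrpos : 0 < r := hr.pos
  have hzr1 : z ^ r = 1 := by rw [← hzr]; exact pow_orderOf_eq_one z
  have hcomm : ∀ (n k : ℕ) (y : Ω), (w ^ n) ((z ^ k) y) = (z ^ k) ((w ^ n) y) := by
    intro n k y
    have := congrArg (fun f : Perm Ω => f y) ((hc.pow_left n).pow_right k).eq
    simpa [Perm.mul_apply] using this
  have hsuppw : ∀ (n k : ℕ), (z ^ k) ((w ^ n) x) ∈ z.support := by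
    intro n k
    rw [Perm.mem_support] at hx ⊢
    intro h
    apply hx
    have h1 : z ((z ^ k) ((w ^ n) x)) = (z ^ k) ((w ^ n) (z x)) := by
      rw [← Perm.mul_apply, ← pow_succ', pow_succ, Perm.mul_apply]
      have := hcomm n 1 x
      rw [pow_one] at this
      rw [this]
    rw [h1] at h
    exact (w ^ n).injective ((z ^ k).injective h)
  -- the key extraction
  have hL : ∀ a b k k' : ℕ, a < b → (z ^ k) ((w ^ a) x) = (z ^ k') ((w ^ b) x) →
      (w ^ ((b - a) * r)) x = x := by
    intro a b k k' hab h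
    obtain ⟨d, rfl⟩ : ∃ d, b = a + d := ⟨b - a, by omega⟩
    have hd : a + d - a = d := by omega
    rw [hd]
    have h1 : (w ^ (a + d)) x = (w ^ a) ((w ^ d) x) := by rw [pow_add, Perm.mul_apply]
    rw [h1, ← hcomm, ← hcomm] at h
    have h2 : (z ^ k) x = (z ^ k') ((w ^ d) x) := (w ^ a).injective h
    have h3 : (w ^ d) x = ((z ^ k')⁻¹ * z ^ k) x := by
      rw [Perm.mul_apply, h2]
      simp
    have hcg : Commute (w ^ d) ((z ^ k')⁻¹ * z ^ k) :=
      (((hc.pow_left d).pow_right k').inv_right).mul_right ((hc.pow_left d).pow_right k)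
    have h4 := pow_apply_of_commute hcg h3 r
    have h5 : ((z ^ k')⁻¹ * z ^ k) ^ r = 1 := by
      have hcz : Commute ((z ^ k')⁻¹) (z ^ k) :=
        ((Commute.refl z).pow_left k').inv_left.pow_right k
      rw [hcz.mul_pow, inv_pow, ← pow_mul, ← pow_mul, mul_comm k' r, mul_comm k r, pow_mul,
        pow_mul, hzr1, one_pow, one_pow, inv_one, one_mul]
    rw [pow_mul, h4, h5]
    rfl
  -- pigeonhole
  have hcard : z.support.card < (Finset.univ : Finset (Fin 4 × Fin r)).card := by
    rw [Finset.card_univ, Fintype.card_prod, Fintype.card_fin, Fintype.card_fin, hsupp]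
    omega
  obtain ⟨⟨i, k⟩, -, ⟨i', k'⟩, -, hne, heq⟩ :=
    Finset.exists_ne_map_eq_of_card_lt_of_maps_to hcard
      (f := fun ik : Fin 4 × Fin r => (z ^ (ik.2 : ℕ)) ((w ^ (ik.1 : ℕ)) x))
      (fun ik _ => hsuppw _ _)
  simp only at heq
  rcases lt_trichotomy (i : ℕ) (i' : ℕ) with hlt | heq' | hgt
  · refine ⟨(i' : ℕ) - (i : ℕ), by omega, ?_, hL _ _ _ _ hlt heq⟩
    have := i'.2; omega
  · exfalso
    -- same `i`: then `k ≠ k'`, impossible
    have hii : i = i' := Fin.ext heq'
    subst hii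
    have hkk : (k : ℕ) ≠ (k' : ℕ) := by
      intro h
      apply hne
      rw [Fin.ext h]
    have hy := hsuppw (i : ℕ) 0
    rw [pow_zero, Perm.one_apply] at hy
    have hfix : ∀ m n : ℕ, m < n → n < r → (z ^ m) ((w ^ (i : ℕ)) x) = (z ^ n) ((w ^ (i : ℕ)) x) →
        False := by
      intro m n hmn hnr h
      have h1 : (z ^ n) ((w ^ (i : ℕ)) x) = (z ^ m) ((z ^ (n - m)) ((w ^ (i : ℕ)) x)) := by
        have h0 : z ^ n = z ^ m * z ^ (n - m) := by
          rw [← pow_add]
          congr 1
          omega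
        rw [h0, Perm.mul_apply]
      rw [h1] at h
      have h2 := (z ^ m).injective h
      have hcop : Nat.Coprime (n - m) (orderOf z) := by
        rw [hzr]
        exact (Nat.coprime_of_lt_prime (by omega) (by omega) hr).symm
      have h3 := Perm.support_pow_coprime hcop
      rw [← h3, Perm.mem_support] at hy
      exact hy h2.symm
    rcases lt_or_gt_of_ne hkk with h | h
    · exact hfix _ _ h k'.2 heq
    · exact hfix _ _ h k.2 heq.symm
  · refine ⟨(i : ℕ) - (i' : ℕ), by omega, ?_, hL _ _ _ _ hgt heq.symm⟩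
    have := i.2; omega

/-- **AP-CL3**. -/
theorem APCL3 (r : ℕ) (hr : r.Prime) (hr2 : r ≠ 2) {z w : Perm Ω}
    (hzr : orderOf z = r) (hsupp : z.support.card = 3 * r)
    (hΩ : Fintype.card Ω = 3 * r + 4) (hc : Commute w z) (hsign : Perm.sign w = 1)
    (hwF : ∀ x, z x = x → w x ≠ x ∧ w (w x) = x) :
    ∀ x ∈ z.support, (w ^ (3 * r)) x = x := by
  haveI : Fact r.Prime := ⟨hr⟩
  have hr3 : 3 ≤ r := by have := hr.two_le; omega
  have hrodd : Odd r := hr.odd_of_ne_two hr2
  have hzr1 : z ^ r = 1 := by rw [← hzr]; exact pow_orderOf_eq_one z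
  have hwz : ∀ (n : ℕ) (y : Ω), (w ^ n) (z y) = z ((w ^ n) y) := by
    intro n y
    have := congrArg (fun f : Perm Ω => f y) (hc.pow_left n).eq
    simpa [Perm.mul_apply] using this
  -- on the fixed points of z
  have hfix2 : ∀ (n : ℕ) (y : Ω), z y = y → (w ^ (2 * n)) y = y := by
    intro n
    induction n with
    | zero => intro y _; simp
    | succ n ih =>
      intro y hy
      rw [show 2 * (n + 1) = 2 * n + 2 by ring, pow_add, Perm.mul_apply, pow_two, Perm.mul_apply,
        (hwF y hy).2]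
      exact ih y hy
  have hfixw : ∀ y : Ω, z y = y → z (w y) = w y := by
    intro y hy
    have := hwz 1 y
    rw [pow_one] at this
    rw [← this, hy]
  have hfixodd : ∀ (n : ℕ) (y : Ω), z y = y → (w ^ (2 * n + 1)) y = w y := by
    intro n y hy
    rw [pow_succ, Perm.mul_apply]
    exact hfix2 n (w y) (hfixw y hy)
  -- w^(6r) is trivial
  have h6 : ∀ y : Ω, (w ^ (2 * (3 * r))) y = y := by
    intro y
    by_cases hy : y ∈ z.support
    · obtain ⟨d, hd0, hd3, hd⟩ := exists_pow_fix r hr hzr hsupp hc y hy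
      have hd' : d = 1 ∨ d = 2 ∨ d = 3 := by omega
      rcases hd' with rfl | rfl | rfl
      · rw [show 2 * (3 * r) = (1 * r) * 6 by ring, pow_mul]
        exact Perm.pow_apply_eq_self_of_apply_eq_self hd 6
      · rw [show 2 * (3 * r) = (2 * r) * 3 by ring, pow_mul]
        exact Perm.pow_apply_eq_self_of_apply_eq_self hd 3
      · rw [show 2 * (3 * r) = (3 * r) * 2 by ring, pow_mul]
        exact Perm.pow_apply_eq_self_of_apply_eq_self hd 2
    · rw [Perm.notMem_support] at hy
      exact hfix2 _ y hy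
  -- u = w^(3r)
  obtain ⟨m, hm⟩ : Odd (3 * r) := (by decide : Odd 3).mul hrodd
  have hufix : ∀ y : Ω, z y = y → (w ^ (3 * r)) y = w y := by
    intro y hy
    rw [hm]
    exact hfixodd m y hy
  have hu2 : (w ^ (3 * r)) ^ 2 = 1 := by
    ext y
    rw [← pow_mul, mul_comm, Perm.one_apply]
    exact h6 y
  -- the fixed points of z
  have hFcard : (z.supportᶜ).card = 4 := by
    rw [Finset.card_compl, hΩ, hsupp]; omega
  have hFsub : z.supportᶜ ⊆ (w ^ (3 * r)).support := by
    intro y hy
    rw [Finset.mem_compl, Perm.notMem_support] at hy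
    rw [Perm.mem_support, hufix y hy]
    exact (hwF y hy).1
  have hu1 : w ^ (3 * r) ≠ 1 := by
    intro h
    have hne : (z.supportᶜ).Nonempty := by
      rw [← Finset.card_pos, hFcard]; norm_num
    obtain ⟨y, hy⟩ := hne
    have := hFsub hy
    rw [h, Perm.support_one] at this
    exact absurd this (Finset.notMem_empty y)
  have hord : orderOf (w ^ (3 * r)) = 2 := orderOf_eq_prime hu2 hu1
  obtain ⟨n, hn⟩ := Perm.cycleType_prime_order (σ := w ^ (3 * r)) (by rw [hord]; exact Nat.prime_two)
  rw [hord] at hn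
  have hsuppu : (w ^ (3 * r)).support.card = (n + 1) * 2 := by
    rw [← Perm.sum_cycleType, hn, Multiset.sum_replicate, smul_eq_mul]
  have hsignu : Perm.sign (w ^ (3 * r)) = 1 := by rw [map_pow, hsign, one_pow]
  have heven : Even (n + 1) := by
    rw [Perm.sign_of_cycleType, hn, Multiset.sum_replicate, Multiset.card_replicate,
      smul_eq_mul] at hsignu
    have h1 : Even ((n + 1) * 2 + (n + 1)) :=
      (neg_one_pow_eq_one_iff_even (by decide : (-1 : ℤˣ) ≠ 1)).1 hsignu
    by_contra hodd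
    rw [Nat.not_even_iff_odd] at hodd
    have : Odd ((n + 1) * 2 + (n + 1)) := by
      obtain ⟨t, ht⟩ := hodd
      exact ⟨(n + 1) + t, by omega⟩
    exact (Nat.not_even_iff_odd.2 this) h1
  -- T = supp u ∩ supp z
  have hTcard : ((w ^ (3 * r)).support ∩ z.support).card + 4 = (n + 1) * 2 := by
    rw [← hsuppu, ← Finset.card_inter_add_card_sdiff (w ^ (3 * r)).support z.support]
    congr 1
    rw [← hFcard]
    congr 1
    ext y
    rw [Finset.mem_sdiff, Finset.mem_compl]
    constructor
    · exact fun h => ⟨hFsub (Finset.mem_compl.2 h), h⟩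
    · exact fun h => h.2
  have h4dvd : 4 ∣ ((w ^ (3 * r)).support ∩ z.support).card := by
    obtain ⟨t, ht⟩ := heven
    exact ⟨t - 1, by omega⟩
  -- r divides |T|
  have hTinv : ∀ y : Ω, z y ∈ (w ^ (3 * r)).support ∩ z.support ↔
      y ∈ (w ^ (3 * r)).support ∩ z.support := by
    intro y
    rw [Finset.mem_inter, Finset.mem_inter, Perm.mem_support, Perm.mem_support, Perm.mem_support,
      Perm.mem_support, hwz]
    constructor
    · rintro ⟨h1, h2⟩
      exact ⟨fun h => h1 (congrArg z h), fun h => h2 (congrArg z h)⟩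
    · rintro ⟨h1, h2⟩
      exact ⟨fun h => h1 (z.injective h), fun h => h2 (z.injective h)⟩
  have hrdvd : r ∣ ((w ^ (3 * r)).support ∩ z.support).card := by
    have hσ : (z.subtypePerm hTinv) ^ r ^ 1 = 1 := by
      rw [pow_one, Perm.subtypePerm_pow]
      ext y
      simp only [Perm.subtypePerm_apply, hzr1, Perm.one_apply]
    have hmod := Perm.card_compl_support_modEq hσ
    have hsup : (z.subtypePerm hTinv).supportᶜ = ∅ := by
      rw [Finset.eq_empty_iff_forall_notMem]
      intro y hy
      rw [Finset.mem_compl, Perm.notMem_support] at hy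
      have hy2 := (Finset.mem_inter.1 y.2).2
      rw [Perm.mem_support] at hy2
      apply hy2
      have := congrArg Subtype.val hy
      simpa [Perm.subtypePerm_apply] using this
    rw [hsup, Finset.card_empty, Fintype.card_coe] at hmod
    exact (Nat.modEq_zero_iff_dvd.1 hmod.symm)
  -- conclude
  have hcop : Nat.Coprime 4 r := by
    have : Nat.Coprime 2 r := (Nat.coprime_primes Nat.prime_two hr).2 (Ne.symm hr2)
    exact Nat.Coprime.pow_left 2 this
  have h4r : 4 * r ∣ ((w ^ (3 * r)).support ∩ z.support).card :=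
    Nat.Coprime.mul_dvd_of_dvd_of_dvd hcop h4dvd hrdvd
  have hTle : ((w ^ (3 * r)).support ∩ z.support).card ≤ 3 * r := by
    rw [← hsupp]
    exact Finset.card_le_card Finset.inter_subset_right
  have hT0 : ((w ^ (3 * r)).support ∩ z.support).card = 0 :=
    Nat.eq_zero_of_dvd_of_lt h4r (by omega)
  intro x hx
  by_contra hne
  have : x ∈ (w ^ (3 * r)).support ∩ z.support :=
    Finset.mem_inter.2 ⟨Perm.mem_support.2 hne, hx⟩
  rw [Finset.card_eq_zero] at hT0
  rw [hT0] at this
  exact absurd this (Finset.notMem_empty x)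

end Cfsg.Agent.Lib.Helper29.APCL3
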