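import Mathlib

/-!
# Market "AP" (S3614), leaf AP-END (planner helper4).
`Alt Ω ≤ range(G → Perm Ω)` + `2 |N_G(P)| = p (p-1)` ⟹ `G ≃* alternatingGroup (Fin p)`.
-/

set_option autoImplicit false

namespace Cfsg.Agent.Lib.Helper29.APEND

open Equiv MulAction

/-- **AP-END**. -/
theorem APEND {G Ω : Type*} [Group G] [Finite G] [MulAction G Ω] [FaithfulSMul G Ω] [Fintype Ω]
    [DecidableEq Ω] (p : ℕ) (hp : p.Prime) (hp3 : 3 ≤ p) (hΩ : Fintype.card Ω = p) (P : Sylow p G)
    (hN : 2 * Nat.card ↥(Subgroup.normalizer ((P : Subgroup G) : Set G)) = p * (p - 1))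
    (hAlt : alternatingGroup Ω ≤ (MulAction.toPermHom G Ω).range) :
    Nonempty (G ≃* alternatingGroup (Fin p)) := by
  haveI : Fact p.Prime := ⟨hp⟩
  haveI : Nontrivial Ω := by
    rw [← Fintype.one_lt_card_iff_nontrivial, hΩ]; omega
  have hinj : Function.Injective (MulAction.toPermHom G Ω) := MulAction.toPerm_injective
  -- the range is not everything
  have hnetop : (MulAction.toPermHom G Ω).range ≠ ⊤ := by
    intro hrange
    have hcardG : Nat.card G = p.factorial := by
      have hbij : Function.Bijective (MulAction.toPermHom G Ω) :=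
        ⟨hinj, MonoidHom.range_eq_top.1 hrange⟩
      rw [Nat.card_congr (Equiv.ofBijective _ hbij), Nat.card_eq_fintype_card, Fintype.card_perm,
        hΩ]
    -- Sylow's congruence
    have hmod := card_sylow_modEq_one p G
    rw [Sylow.card_eq_index_normalizer P] at hmod
    have hidx := Subgroup.card_mul_index (Subgroup.normalizer ((P : Subgroup G) : Set G))
    generalize (Subgroup.normalizer ((P : Subgroup G) : Set G)).index = n at hmod hidx
    have hfac : p * (p - 1).factorial = p.factorial := Nat.mul_factorial_pred (by omega)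
    have hkey : (p - 1) * n = 2 * (p - 1).factorial := by
      have h1 : p * ((p - 1) * n) = p * (2 * (p - 1).factorial) := by
        calc p * ((p - 1) * n) = (p * (p - 1)) * n := by ring
          _ = (2 * Nat.card ↥(Subgroup.normalizer ((P : Subgroup G) : Set G))) * n := by rw [hN]
          _ = 2 * (Nat.card ↥(Subgroup.normalizer ((P : Subgroup G) : Set G)) * n) := by ring
          _ = 2 * p.factorial := by rw [hidx, hcardG]
          _ = 2 * (p * (p - 1).factorial) := by rw [hfac]
          _ = p * (2 * (p - 1).factorial) := by ring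
      exact Nat.eq_of_mul_eq_mul_left (by omega) h1
    have hz : ((p - 1 : ℕ) : ZMod p) = -1 := by
      rw [Nat.cast_sub (by omega), ZMod.natCast_self, Nat.cast_one, zero_sub]
    have hw : (((p - 1).factorial : ℕ) : ZMod p) = -1 := ZMod.wilsons_lemma p
    have hn1 : (n : ZMod p) = 1 := by
      have := (ZMod.natCast_eq_natCast_iff n 1 p).2 hmod
      simpa using this
    have hc := congrArg (fun t : ℕ => (t : ZMod p)) hkey
    simp only [Nat.cast_mul, hz, hw, hn1, Nat.cast_ofNat] at hc
    have h10 : (1 : ZMod p) = 0 := by linear_combination hc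
    exact one_ne_zero h10
  -- so the range is the alternating group
  have hrange : (MulAction.toPermHom G Ω).range = alternatingGroup Ω := by
    have hdvd : (MulAction.toPermHom G Ω).range.index ∣ 2 := by
      rw [← alternatingGroup.index_eq_two (α := Ω)]
      exact Subgroup.index_dvd_of_le hAlt
    rcases (Nat.dvd_prime Nat.prime_two).1 hdvd with h1 | h2
    · exact absurd (Subgroup.index_eq_one.1 h1) hnetop
    · exact Equiv.Perm.eq_alternatingGroup_of_index_eq_two h2
  -- assemble the isomorphism
  have e1 : G ≃* (MulAction.toPermHom G Ω).range := MonoidHom.ofInjective hinj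
  have e2 : (MulAction.toPermHom G Ω).range ≃* alternatingGroup Ω := MulEquiv.subgroupCongr hrange
  have e3 : Ω ≃ Fin p := (Fintype.equivFin Ω).trans (finCongr hΩ)
  exact ⟨(e1.trans e2).trans (Equiv.altCongrHom e3)⟩

end Cfsg.Agent.Lib.Helper29.APEND
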