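import Mathlib

/-!
# Market "AP" (S3614), leaf AP-J2 (planner helper4).
Mathlib's Jordan theorem for a 2-transitive pointwise stabilizer.
-/

set_option autoImplicit false

namespace Cfsg.Agent.Lib.Helper29.APJ2

open Equiv MulAction

variable {Ω : Type*} [Fintype Ω] [DecidableEq Ω]

/-- **AP-J2** (Mathlib's Jordan theorem for a 2-transitive pointwise stabilizer). -/
theorem APJ2 (H : Subgroup (Perm Ω)) (hprim : IsPreprimitive ↥H Ω)
    (s : Finset Ω) (n : ℕ) (hs : s.card = n + 1) (hn : n + 4 < Fintype.card Ω)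
    (h2 : ∀ α β γ : Ω, α ∉ s → β ∉ s → γ ∉ s → α ≠ β → α ≠ γ → β ≠ γ →
      ∃ k ∈ H, (∀ x ∈ s, k x = x) ∧ k α = α ∧ k β = γ) :
    IsMultiplyPretransitive ↥H Ω (n + 2) := by
  -- there are at least four points outside `s`
  have hcompl : 4 ≤ (Finset.univ \ s).card := by
    rw [Finset.card_sdiff_of_subset (Finset.subset_univ s), Finset.card_univ, hs]
    omega
  -- a third point outside `s`
  have hthird : ∀ β γ : Ω, ∃ α : Ω, α ∉ s ∧ α ≠ β ∧ α ≠ γ := by
    intro β γ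
    have : 2 < (Finset.univ \ s).card := by omega
    have h3 : (({β, γ} : Finset Ω)).card < (Finset.univ \ s).card :=
      lt_of_le_of_lt (Finset.card_le_two) this
    obtain ⟨α, hα1, hα2⟩ := Finset.exists_mem_notMem_of_card_lt_card h3
    refine ⟨α, ?_, ?_, ?_⟩
    · exact (Finset.mem_sdiff.1 hα1).2
    · intro h; apply hα2; rw [h]; simp
    · intro h; apply hα2; rw [h]; simp
  -- the pointwise stabilizer of `s` is transitive outside `s`
  have htr1 : ∀ β γ : Ω, β ∉ s → γ ∉ s → ∃ k ∈ H, (∀ x ∈ s, k x = x) ∧ k β = γ := by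
    intro β γ hβ hγ
    by_cases hβγ : β = γ
    · exact ⟨1, H.one_mem, fun x _ => rfl, by rw [hβγ]; rfl⟩
    · obtain ⟨α, hα, hαβ, hαγ⟩ := hthird β γ
      obtain ⟨k, hk, hks, -, hkβ⟩ := h2 α β γ hα hβ hγ hαβ hαγ hβγ
      exact ⟨k, hk, hks, hkβ⟩
  -- two-transitivity of the fixing subgroup
  have h2t : IsMultiplyPretransitive (fixingSubgroup ↥H (s : Set Ω))
      (SubMulAction.ofFixingSubgroup ↥H (s : Set Ω)) 2 := by
    rw [is_two_pretransitive_iff]
    intro a b c d hab hcd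
    have ha : (a : Ω) ∉ s := fun h => a.2 (Finset.mem_coe.2 h)
    have hb : (b : Ω) ∉ s := fun h => b.2 (Finset.mem_coe.2 h)
    have hc : (c : Ω) ∉ s := fun h => c.2 (Finset.mem_coe.2 h)
    have hd : (d : Ω) ∉ s := fun h => d.2 (Finset.mem_coe.2 h)
    have hab' : (a : Ω) ≠ b := fun h => hab (Subtype.ext h)
    have hcd' : (c : Ω) ≠ d := fun h => hcd (Subtype.ext h)
    obtain ⟨k₁, hk₁, hk₁s, hk₁a⟩ := htr1 a c ha hc
    -- the image of b under k₁
    have hk₁b : k₁ (b : Ω) ∉ s := by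
      intro h
      have : k₁ (k₁ (b : Ω)) = k₁ (b : Ω) := hk₁s _ h
      exact hb (by rw [← k₁.injective this]; exact h)
    have hk₁bc : (c : Ω) ≠ k₁ (b : Ω) := by
      intro h
      rw [← hk₁a] at h
      exact hab' (k₁.injective h)
    -- second step
    obtain ⟨k₂, hk₂, hk₂s, hk₂c, hk₂b⟩ : ∃ k₂ ∈ H, (∀ x ∈ s, k₂ x = x) ∧ k₂ (c : Ω) = c ∧
        k₂ (k₁ (b : Ω)) = d := by
      by_cases hbd : k₁ (b : Ω) = d
      · exact ⟨1, H.one_mem, fun x _ => rfl, rfl, by rw [hbd]; rfl⟩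
      · exact h2 c (k₁ b) d hc hk₁b hd hk₁bc hcd' hbd
    have hmem : (⟨k₂ * k₁, H.mul_mem hk₂ hk₁⟩ : ↥H) ∈ fixingSubgroup ↥H (s : Set Ω) := by
      rw [mem_fixingSubgroup_iff]
      intro y hy
      have hy' : y ∈ s := Finset.mem_coe.1 hy
      change (k₂ * k₁) y = y
      rw [Perm.mul_apply, hk₁s y hy', hk₂s y hy']
    refine ⟨⟨⟨k₂ * k₁, H.mul_mem hk₂ hk₁⟩, hmem⟩, ?_, ?_⟩
    · apply Subtype.ext
      change (k₂ * k₁) (a : Ω) = c
      rw [Perm.mul_apply, hk₁a, hk₂c]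
    · apply Subtype.ext
      change (k₂ * k₁) (b : Ω) = d
      rw [Perm.mul_apply, hk₂b]
  have hprim2 : IsPreprimitive (fixingSubgroup ↥H (s : Set Ω))
      (SubMulAction.ofFixingSubgroup ↥H (s : Set Ω)) :=
    isPreprimitive_of_is_two_pretransitive h2t
  have hsn : (s : Set Ω).ncard = n + 1 := by rw [Set.ncard_coe_finset, hs]
  have hsn' : n + 2 < Nat.card Ω := by rw [Nat.card_eq_fintype_card]; omega
  have := hprim.isMultiplyPreprimitive hsn hsn' hprim2
  exact this.isMultiplyPretransitive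

end Cfsg.Agent.Lib.Helper29.APJ2
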