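/-
helper29: S4482-LOC sub-leaf (ROT) `rot_conj` - an element of the coset `σ^l N` is conjugate to `σ^l ρ`, `ρ ∈ C(σ^l)` of
odd order (2-part / 2'-part of `g`, and Sylow's theorem in `N ⟨σ^l⟩`).  Mathlib only.
-/
import Mathlib

set_option autoImplicit false

namespace Cfsg.Agent.Lib.Helper29.BOFLROT

universe u

open DihedralGroup
open scoped Pointwise

/-- membership in a conjugate Sylow subgroup -/
theorem mem_smul_sylow_iff' {G : Type u} [Group G] {p : ℕ} (g x : G) (P : Sylow p G) :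
    x ∈ (g • P : Sylow p G) ↔ g⁻¹ * x * g ∈ P := by
  change x ∈ MulAut.conj g • (P : Subgroup G) ↔ _
  rw [Subgroup.mem_pointwise_smul_iff_inv_smul_mem]
  simp [MulAut.smul_def]
  rfl

/-- the `2`-part and the `2'`-part of an element, as commuting powers -/
theorem exists_two_part {X : Type u} [Group X] [Finite X] (g : X) :
    ∃ g₂ g' : X, g = g₂ * g' ∧ Commute g₂ g' ∧ (∃ k : ℕ, g₂ ^ 2 ^ k = 1) ∧ Odd (orderOf g') := by
  have ho : orderOf g ≠ 0 := (orderOf_pos g).ne'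
  obtain ⟨e, r, hr, hor⟩ := Nat.exists_eq_pow_mul_and_not_dvd ho 2 (by norm_num)
  have hcop : Nat.Coprime (2 ^ e) r :=
    Nat.Coprime.pow_left e ((Nat.Prime.coprime_iff_not_dvd Nat.prime_two).mpr hr)
  obtain ⟨s, t, hst⟩ := Nat.isCoprime_iff_coprime.mpr hcop
  refine ⟨g ^ (t * (r : ℤ)), g ^ (s * ((2 ^ e : ℕ) : ℤ)), ?_, Commute.zpow_zpow_self g _ _, ⟨e, ?_⟩, ?_⟩
  · rw [← zpow_add, add_comm, hst, zpow_one]
  · rw [← zpow_natCast, ← zpow_mul, mul_assoc, ← Nat.cast_mul, mul_comm r, ← hor, mul_comm,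
      zpow_mul, zpow_natCast, pow_orderOf_eq_one, one_zpow]
  · have h1 : (g ^ (s * ((2 ^ e : ℕ) : ℤ))) ^ r = 1 := by
      rw [← zpow_natCast, ← zpow_mul, mul_assoc, ← Nat.cast_mul, ← hor, mul_comm,
        zpow_mul, zpow_natCast, pow_orderOf_eq_one, one_zpow]
    have h2 : orderOf (g ^ (s * ((2 ^ e : ℕ) : ℤ))) ∣ r := orderOf_dvd_of_pow_eq_one h1
    have hrodd : Odd r := Nat.odd_iff.mpr (by omega)
    exact Odd.of_dvd_nat hrodd h2

/-- (LOC-ROT) -/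
theorem rot_conj {X : Type u} [Group X] [Finite X] (n : ℕ)
    (N : Subgroup X) [N.Normal] (hNodd : Odd (Nat.card N))
    (σ : X) (hσo : orderOf σ = 2 ^ (n - 1))
    (κ : X →* DihedralGroup (2 ^ (n - 1))) (hker : κ.ker = N) (hκσ : κ σ = r 1)
    (g : X) (l : ℕ) (hg : κ g = r (l : ZMod (2 ^ (n - 1)))) :
    ∃ u ρ : X, Commute (σ ^ l) ρ ∧ Odd (orderOf ρ) ∧ u * g * u⁻¹ = σ ^ l * ρ := by
  have : Fact (Nat.Prime 2) := ⟨Nat.prime_two⟩
  obtain ⟨g₂, g', hgg, hcomm, ⟨k, hk⟩, hodd⟩ := exists_two_part g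
  -- `κ g' = 1`
  have hκg' : κ g' = 1 := by
    have h1 : orderOf (κ g') ∣ orderOf g' := orderOf_map_dvd κ g'
    have h2 : orderOf (κ g') ∣ 2 ^ (n - 1 + 1) := by
      have h3 : orderOf (κ g') ∣ Nat.card (DihedralGroup (2 ^ (n - 1))) := orderOf_dvd_natCard _
      rw [DihedralGroup.nat_card, ← pow_succ'] at h3
      exact h3
    have h4 : Nat.Coprime (orderOf g') (2 ^ (n - 1 + 1)) :=
      Nat.Coprime.pow_right _ (Nat.coprime_two_right.mpr hodd)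
    have h5 : orderOf (κ g') ∣ Nat.gcd (orderOf g') (2 ^ (n - 1 + 1)) := Nat.dvd_gcd h1 h2
    rw [h4.gcd_eq_one, Nat.dvd_one] at h5
    exact orderOf_eq_one_iff.mp h5
  have hκg₂ : κ g₂ = r (l : ZMod (2 ^ (n - 1))) := by
    rw [← hg, hgg, map_mul, hκg', mul_one]
  -- `a = σ^l`
  have hκa : κ (σ ^ l) = r (l : ZMod (2 ^ (n - 1))) := by
    rw [map_pow, hκσ, DihedralGroup.r_one_pow]
  obtain ⟨v, hv⟩ : ∃ v : X, v * g₂ * v⁻¹ = σ ^ l := by
    -- `N ∩ ⟨a⟩ = 1`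
    have hapow : ∃ k' : ℕ, Nat.card (Subgroup.zpowers (σ ^ l)) = 2 ^ k' := by
      rw [Nat.card_zpowers]
      have h1 : orderOf (σ ^ l) ∣ 2 ^ (n - 1) := hσo ▸ orderOf_pow_dvd l
      obtain ⟨k', -, hk'⟩ := (Nat.dvd_prime_pow Nat.prime_two).mp h1
      exact ⟨k', hk'⟩
    obtain ⟨k', hk'⟩ := hapow
    have hcopc : (Nat.card N).Coprime (Nat.card (Subgroup.zpowers (σ ^ l))) := by
      rw [hk']
      exact Nat.Coprime.pow_right k' (Nat.coprime_two_right.mpr hNodd)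
    have hdisj : N ⊓ Subgroup.zpowers (σ ^ l) = ⊥ :=
      disjoint_iff.mp (Subgroup.disjoint_of_coprime_natCard hcopc)
    -- the subgroup `Y = N ⟨a⟩`
    have hNY : N ≤ N ⊔ Subgroup.zpowers (σ ^ l) := le_sup_left
    have hZY : Subgroup.zpowers (σ ^ l) ≤ N ⊔ Subgroup.zpowers (σ ^ l) := le_sup_right
    -- images of `Y` are rotations
    have hrotY : ∀ y ∈ N ⊔ Subgroup.zpowers (σ ^ l), ∃ j : ZMod (2 ^ (n - 1)), κ y = r j := by
      have hle : N ⊔ Subgroup.zpowers (σ ^ l) ≤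
          (Subgroup.zpowers (r (1 : ZMod (2 ^ (n - 1))))).comap κ := by
        refine sup_le ?_ ?_
        · intro x hx
          rw [Subgroup.mem_comap]
          have : κ x = 1 := by
            rw [← MonoidHom.mem_ker, hker]
            exact hx
          rw [this]
          exact one_mem _
        · rw [Subgroup.zpowers_le, Subgroup.mem_comap, hκa]
          exact Subgroup.mem_zpowers_iff.mpr ⟨(l : ℤ), by rw [zpow_natCast, DihedralGroup.r_one_pow]⟩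
      intro y hy
      obtain ⟨j, hj⟩ := Subgroup.mem_zpowers_iff.mp (Subgroup.mem_comap.mp (hle hy))
      exact ⟨(j : ZMod (2 ^ (n - 1))), by rw [← hj, DihedralGroup.r_one_zpow]⟩
    -- `g₂ ∈ Y`
    have hg₂Y : g₂ ∈ N ⊔ Subgroup.zpowers (σ ^ l) := by
      have h1 : g₂ * (σ ^ l)⁻¹ ∈ N := by
        rw [← hker, MonoidHom.mem_ker, map_mul, map_inv, hκg₂, hκa, mul_inv_cancel]
      have e : g₂ = (g₂ * (σ ^ l)⁻¹) * σ ^ l := by group
      rw [e]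
      exact (N ⊔ Subgroup.zpowers (σ ^ l)).mul_mem (hNY h1) (hZY (Subgroup.mem_zpowers _))
    -- `A = ⟨a⟩` is a Sylow `2`-subgroup of `Y`
    have hA : IsPGroup 2 ((Subgroup.zpowers (σ ^ l)).subgroupOf (N ⊔ Subgroup.zpowers (σ ^ l))) := by
      have h0 : IsPGroup 2 (Subgroup.zpowers (σ ^ l)) := IsPGroup.of_card hk'
      exact h0.comap_subtype
    have hcompl : Subgroup.IsComplement' (N.subgroupOf (N ⊔ Subgroup.zpowers (σ ^ l)))
        ((Subgroup.zpowers (σ ^ l)).subgroupOf (N ⊔ Subgroup.zpowers (σ ^ l))) := by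
      apply Subgroup.isComplement'_of_disjoint_and_mul_eq_univ
      · apply Subgroup.disjoint_of_coprime_natCard
        rw [Nat.card_congr (Subgroup.subgroupOfEquivOfLe hNY).toEquiv,
          Nat.card_congr (Subgroup.subgroupOfEquivOfLe hZY).toEquiv]
        exact hcopc
      · rw [← Subgroup.normal_mul, ← Subgroup.subgroupOf_sup hNY hZY, Subgroup.subgroupOf_self]
        rfl
    have hAidx : ¬ 2 ∣ ((Subgroup.zpowers (σ ^ l)).subgroupOf (N ⊔ Subgroup.zpowers (σ ^ l))).index := by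
      rw [hcompl.index_eq_card, Nat.card_congr (Subgroup.subgroupOfEquivOfLe hNY).toEquiv]
      intro h2
      exact (Nat.not_even_iff_odd.mpr hNodd) (even_iff_two_dvd.mpr h2)
    -- Sylow
    have hg₂pg : IsPGroup 2 (Subgroup.zpowers (⟨g₂, hg₂Y⟩ : ↥(N ⊔ Subgroup.zpowers (σ ^ l)))) := by
      have h1 : (⟨g₂, hg₂Y⟩ : ↥(N ⊔ Subgroup.zpowers (σ ^ l))) ^ 2 ^ k = 1 := by
        apply Subtype.ext
        simpa using hk
      have h2 : orderOf (⟨g₂, hg₂Y⟩ : ↥(N ⊔ Subgroup.zpowers (σ ^ l))) ∣ 2 ^ k :=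
        orderOf_dvd_of_pow_eq_one h1
      obtain ⟨k₂, -, hk₂⟩ := (Nat.dvd_prime_pow Nat.prime_two).mp h2
      exact IsPGroup.of_card (n := k₂) (by rw [Nat.card_zpowers, hk₂])
    obtain ⟨Q, hQ⟩ := hg₂pg.exists_le_sylow
    obtain ⟨u, hu⟩ := MulAction.exists_smul_eq (↥(N ⊔ Subgroup.zpowers (σ ^ l))) Q (hA.toSylow hAidx)
    have hmemQ : (⟨g₂, hg₂Y⟩ : ↥(N ⊔ Subgroup.zpowers (σ ^ l))) ∈ Q := hQ (Subgroup.mem_zpowers _)
    have hmemP : u * ⟨g₂, hg₂Y⟩ * u⁻¹ ∈ (u • Q : Sylow 2 ↥(N ⊔ Subgroup.zpowers (σ ^ l))) := by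
      rw [mem_smul_sylow_iff']
      have e : u⁻¹ * (u * ⟨g₂, hg₂Y⟩ * u⁻¹) * u = ⟨g₂, hg₂Y⟩ := by group
      rw [e]
      exact hmemQ
    rw [hu] at hmemP
    have hmemA : ((u : X) * g₂ * (u : X)⁻¹) ∈ Subgroup.zpowers (σ ^ l) := by
      have h1 : u * ⟨g₂, hg₂Y⟩ * u⁻¹ ∈
          (Subgroup.zpowers (σ ^ l)).subgroupOf (N ⊔ Subgroup.zpowers (σ ^ l)) := hmemP
      rw [Subgroup.mem_subgroupOf] at h1
      simpa using h1
    -- `u g₂ u⁻¹ = a`
    obtain ⟨j, hj⟩ := hrotY (u : X) u.2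
    have hκconj : κ ((u : X) * g₂ * (u : X)⁻¹) = r (l : ZMod (2 ^ (n - 1))) := by
      rw [map_mul, map_mul, map_inv, hj, hκg₂, DihedralGroup.inv_r, DihedralGroup.r_mul_r,
        DihedralGroup.r_mul_r]
      congr 1
      ring
    have hconj : (u : X) * g₂ * (u : X)⁻¹ = σ ^ l := by
      have h1 : (u : X) * g₂ * (u : X)⁻¹ * (σ ^ l)⁻¹ ∈ N := by
        have h0 : (u : X) * g₂ * (u : X)⁻¹ * (σ ^ l)⁻¹ ∈ κ.ker := by
          rw [MonoidHom.mem_ker, map_mul, map_inv, hκconj, hκa, mul_inv_cancel]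
        rw [hker] at h0
        exact h0
      have h2 : (u : X) * g₂ * (u : X)⁻¹ * (σ ^ l)⁻¹ ∈ Subgroup.zpowers (σ ^ l) :=
        (Subgroup.zpowers (σ ^ l)).mul_mem hmemA
          ((Subgroup.zpowers (σ ^ l)).inv_mem (Subgroup.mem_zpowers _))
      have h3 : (u : X) * g₂ * (u : X)⁻¹ * (σ ^ l)⁻¹ ∈ N ⊓ Subgroup.zpowers (σ ^ l) := ⟨h1, h2⟩
      rw [hdisj, Subgroup.mem_bot] at h3
      exact mul_inv_eq_one.mp h3
    exact ⟨(u : X), hconj⟩
  refine ⟨v, v * g' * v⁻¹, ?_, ?_, ?_⟩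
  · rw [← hv]
    show v * g₂ * v⁻¹ * (v * g' * v⁻¹) =
      v * g' * v⁻¹ * (v * g₂ * v⁻¹)
    have e1 : v * g₂ * v⁻¹ * (v * g' * v⁻¹) =
        v * (g₂ * g') * v⁻¹ := by group
    have e2 : v * g' * v⁻¹ * (v * g₂ * v⁻¹) =
        v * (g' * g₂) * v⁻¹ := by group
    rw [e1, e2, hcomm.eq]
  · have e : v * g' * v⁻¹ = MulAut.conj v g' := by
      rw [MulAut.conj_apply]
    rw [e, MulEquiv.orderOf_eq]
    exact hodd
  · rw [← hv, hgg]
    group

end Cfsg.Agent.Lib.Helper29.BOFLROT
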