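/-
helper29: S4503 PART E market (planner helper14), leaf BRE-EASYX (twin of helper5's).
A faithful irreducible character of degree `< (p-1)/2` has no constant row.
-/
import Mathlib
import Cfsg.Prelude.Def_BlockRank
import Cfsg.Agent.Lib.Helper27.DODefs
import Cfsg.Agent.Lib.Helper27.BlkAlgDefs2
import Cfsg.Agent.Lib.Helper9.DODEG
import Cfsg.Agent.Lib.Helper9.DOVALX
import Cfsg.Agent.Lib.Helper9.DODEGX
import Cfsg.Agent.Lib.Helper16.DOINERT
import Cfsg.Agent.Lib.Lead.CharBasic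
import Cfsg.Agent.Lib.Lead.BlockBasic

set_option autoImplicit false

namespace Cfsg.Agent.Lib.Helper29.BREEASYX

open Cfsg Cfsg.Agent.Lib.Helper8.DOM Cfsg.Agent.Lib.Helper27.DO Cfsg.Agent.Lib.Helper27.BlkAlg
open scoped ComplexConjugate

universe u

section gen

variable {G : Type u} [Group G] [Finite G]

/-- degree and norm bound of an irreducible character -/
theorem exists_degree (χ : IrrCharacter G) :
    (χ : G → ℂ) 1 = (charDegree (χ : G → ℂ) : ℂ) ∧
      ∀ g : G, ‖(χ : G → ℂ) g‖ ≤ (charDegree (χ : G → ℂ) : ℝ) := by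
  obtain ⟨n, ρ, -, hρ⟩ := χ.2
  have h1 : (χ : G → ℂ) 1 = (n : ℂ) := by
    rw [← hρ, Representation.char_one]
    simp
  have hd : charDegree (χ : G → ℂ) = n := Cfsg.Agent.CharLib.charDegree_eq_of_apply_one h1
  refine ⟨by rw [hd, h1], fun g => ?_⟩
  have := Cfsg.Agent.CharLib.norm_char_le ρ g
  rw [hρ] at this
  rw [hd]
  simpa using this

end gen

section data

variable {G : Type u} [Group G] [Finite G] {p : ℕ} [Fact p.Prime] {M : Ideal AlgInt}
  {P : Subgroup G} {B : Set (IrrCharacter G)} {θ : IrrCharacter (Cz P)} {T : Subgroup G} {x0 : G}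
  {E : Subgroup (ZMod p)ˣ} {μ : IrrCharacter G → ZMod p → ℤ} {D : IrrCharacter G → G → ℂ}

/-- `thetaSum` at `1` -/
theorem thetaSum_one (hT : IsInertia P (θ : Cz P → ℂ) T) :
    thetaSum P (θ : Cz P → ℂ) T 1 =
      ((T.relIndex (Nz P) * charDegree (θ : Cz P → ℂ) : ℕ) : ℂ) := by
  classical
  obtain ⟨hCT, hTN⟩ := Cfsg.Agent.Lib.Helper16.DOINERT.le_of_isInertia P θ T hT
  have hcard : Nat.card (Nz P) = T.relIndex (Nz P) * Nat.card T :=
    Cfsg.Agent.Lib.Helper9.DODEG.card_eq_relIndex_mul hTN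
  have hθ1 := (exists_degree θ).1
  unfold thetaSum
  have hterm : ∀ n : Nz P, extendByZero (Cz P) (θ : Cz P → ℂ) ((n : G) * 1 * (n : G)⁻¹) =
      (charDegree (θ : Cz P → ℂ) : ℂ) := by
    intro n
    have : (n : G) * 1 * (n : G)⁻¹ = 1 := by group
    rw [this, Cfsg.Agent.Lib.Helper9.DODEG.extendByZero_one, hθ1]
  simp only [hterm]
  haveI : Fintype (Nz P) := Fintype.ofFinite _
  rw [finsum_eq_sum_of_fintype (f := fun _ : Nz P => (charDegree (θ : Cz P → ℂ) : ℂ))]
  rw [Finset.sum_const, Finset.card_univ, ← Nat.card_eq_fintype_card, hcard]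
  have hTne : (Nat.card T : ℂ) ≠ 0 := by exact_mod_cast (Nat.card_pos (α := T)).ne'
  push_cast
  rw [nsmul_eq_mul]
  push_cast
  field_simp

/-- EASYX : a faithful irreducible character of degree `< (p-1)/2` has no constant row. -/
theorem false_of_const_row (d : GSData p P B θ T x0 E μ D) (hP : Nat.card P = p)
    (hT : IsInertia P (θ : Cz P → ℂ) T) (χ : IrrCharacter G) (hχ : χ ∈ B) (v : ℤ)
    (hv1 : v = 1 ∨ v = -1) (hv : ∀ k : (ZMod p)ˣ, μ χ k - μ χ 0 = - v)
    (hfaith : ∀ g : G, (χ : G → ℂ) g = (χ : G → ℂ) 1 → g = 1)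
    (hdeg : 2 * charDegree (χ : G → ℂ) + 1 < p) : False := by
  have hp : p.Prime := Fact.out
  obtain ⟨hCT, hTN⟩ := Cfsg.Agent.Lib.Helper16.DOINERT.le_of_isInertia P θ T hT
  set r := T.relIndex (Nz P) with hr
  set c' : ℕ := r * charDegree (θ : Cz P → ℂ) with hc'
  -- x0 ∈ P, x0 ≠ 1
  have hx0P : x0 ∈ P := by rw [d.gen]; exact Subgroup.mem_zpowers x0
  have hx01 : x0 ≠ 1 := by
    rintro rfl
    have : P = ⊥ := by rw [d.gen]; simp
    rw [this, Subgroup.card_bot] at hP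
    exact hp.one_lt.ne hP
  -- the value at x0
  have hval : (χ : G → ℂ) x0 = (v : ℂ) * (c' : ℂ) := by
    have h := Cfsg.Agent.Lib.Helper9.DOVALX.valX_of_data d hP χ hχ v hv x0 hx0P hx01 1
      (Subgroup.one_mem _) (by rw [orderOf_one]; exact hp.one_lt.ne' ∘ Nat.dvd_one.mp)
    rw [mul_one, thetaSum_one hT] at h
    exact h
  obtain ⟨hχ1, hnorm⟩ := exists_degree χ
  -- c' ≤ χ(1)
  have hle : c' ≤ charDegree (χ : G → ℂ) := by
    have h := hnorm x0
    rw [hval, norm_mul] at h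
    have hvn : ‖(v : ℂ)‖ = 1 := by
      rcases hv1 with rfl | rfl <;> simp
    rw [hvn, one_mul, Complex.norm_natCast] at h
    exact_mod_cast h
  -- the congruence
  have hquot : (Cz P).relIndex (Nz P) / (Cz P).relIndex T = r := by
    have hmul : (Cz P).relIndex T * T.relIndex (Nz P) = (Cz P).relIndex (Nz P) :=
      Subgroup.relIndex_mul_relIndex _ _ _ hCT hTN
    rw [← hmul]
    exact Nat.mul_div_cancel_left _
      (Nat.pos_of_ne_zero (Cfsg.Agent.Lib.Helper9.DODEG.relIndex_ne_zero' _ _))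
  have hcong := Cfsg.Agent.Lib.Helper9.DODEGX.degX_of_data d hP hT χ hχ v hv
  rw [hquot] at hcong
  change (charDegree (χ : G → ℂ) : ℤ) ≡ v * ((c' : ℕ) : ℤ) [ZMOD p] at hcong
  rcases hv1 with rfl | rfl
  · -- v = 1 : χ(1) = c', so χ(x0) = χ(1)
    rw [one_mul] at hcong
    have hdvd : (p : ℤ) ∣ (charDegree (χ : G → ℂ) : ℤ) - (c' : ℤ) :=
      (Int.modEq_iff_dvd.mp hcong.symm)
    have heq : charDegree (χ : G → ℂ) = c' := by
      have h1 : ((charDegree (χ : G → ℂ) - c' : ℕ) : ℤ) =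
          (charDegree (χ : G → ℂ) : ℤ) - (c' : ℤ) := by
        rw [Nat.cast_sub hle]
      rw [← h1] at hdvd
      have h2 : p ∣ charDegree (χ : G → ℂ) - c' := by exact_mod_cast hdvd
      have h3 : charDegree (χ : G → ℂ) - c' = 0 := by
        apply Nat.eq_zero_of_dvd_of_lt h2
        omega
      omega
    apply hx01
    apply hfaith
    rw [hval, hχ1, heq]
    simp
  · -- v = -1 : p ∣ χ(1) + c'
    have hdvd : (p : ℤ) ∣ (charDegree (χ : G → ℂ) : ℤ) - (-1 * (c' : ℤ)) :=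
      (Int.modEq_iff_dvd.mp hcong.symm)
    have h1 : ((charDegree (χ : G → ℂ) + c' : ℕ) : ℤ) =
        (charDegree (χ : G → ℂ) : ℤ) - (-1 * (c' : ℤ)) := by
      push_cast; ring
    rw [← h1] at hdvd
    have h2 : p ∣ charDegree (χ : G → ℂ) + c' := by exact_mod_cast hdvd
    have hpos : 0 < charDegree (χ : G → ℂ) := by
      by_contra h0
      have h00 : charDegree (χ : G → ℂ) = 0 := by omega
      -- then χ(1) = 0 and χ(x0) = 0 = χ(1)
      apply hx01
      apply hfaith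
      have hc0 : c' = 0 := by omega
      rw [hval, hχ1, h00, hc0]
      simp
    have h3 : charDegree (χ : G → ℂ) + c' = 0 := by
      apply Nat.eq_zero_of_dvd_of_lt h2
      omega
    omega

end data

end Cfsg.Agent.Lib.Helper29.BREEASYX
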