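import Mathlib
import Cfsg.Prelude.Def_BlockRank
import Cfsg.Prelude.Def_CaseTheorems
import Cfsg.Agent.Lib.Helper24.BRCDefs
import Cfsg.Agent.Lib.Helper5.BRWNPOS
import Cfsg.Agent.Lib.Helper12.Cores

/-!
# S0997 (Brauer-Tuan) market leaf BT-SETUP (helper29, twin)

`G` simple non-cyclic of order `p q^b g₀`, `g₀ < p - 1`: perfect, `O_{p'}(G) = 1`, `Z(G) = 1`,
a Sylow `p`-subgroup has order `p`, `|Syl_p| = |G:N| = 1 + n p`, `n ≥ 1`.
-/

set_option autoImplicit false
set_option linter.unusedSectionVars false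

namespace Cfsg.Agent.Lib.Helper29.BTSETUP

open Cfsg Cfsg.Agent.Lib.Helper8.DOM Cfsg.Agent.Lib.Helper27.DO Cfsg.Agent.CharLib
open Cfsg.Agent.Lib.Helper6.BRH Cfsg.Agent.Lib.Helper24.BRC
open scoped ComplexConjugate commutatorElement

universe u

variable {G : Type u} [Group G] [Finite G] {p : ℕ} [Fact p.Prime]

/-- a commutative simple group is cyclic -/
theorem isCyclic_of_comm_simple [IsSimpleGroup G] (h : ∀ a b : G, a * b = b * a) : IsCyclic G := by
  obtain ⟨g, hg⟩ := exists_ne (1 : G)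
  have hn : (Subgroup.zpowers g).Normal :=
    ⟨fun n hn x => by rw [h x n, mul_inv_cancel_right]; exact hn⟩
  rcases hn.eq_bot_or_eq_top with h1 | h1
  · exact absurd (Subgroup.zpowers_eq_bot.mp h1) hg
  · refine ⟨⟨g, fun x => ?_⟩⟩
    have : x ∈ Subgroup.zpowers g := h1 ▸ Subgroup.mem_top x
    exact this

theorem center_eq_bot_of_simple [IsSimpleGroup G] (hG : ¬ IsCyclic G) : Subgroup.center G = ⊥ := by
  rcases (inferInstance : (Subgroup.center G).Normal).eq_bot_or_eq_top with h1 | h1
  · exact h1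
  · exfalso
    apply hG
    apply isCyclic_of_comm_simple
    intro a b
    have hb : b ∈ Subgroup.center G := h1 ▸ Subgroup.mem_top b
    exact Subgroup.mem_center_iff.mp hb a

theorem commutator_eq_top_of_simple' [IsSimpleGroup G] (hG : ¬ IsCyclic G) : commutator G = ⊤ := by
  have hn : (commutator G).Normal := by unfold commutator; infer_instance
  rcases hn.eq_bot_or_eq_top with h1 | h1
  · exfalso
    apply hG
    apply isCyclic_of_comm_simple
    intro a b
    have h2 : ⁅a, b⁆ ∈ commutator G :=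
      Subgroup.commutator_mem_commutator (Subgroup.mem_top a) (Subgroup.mem_top b)
    rw [h1, Subgroup.mem_bot] at h2
    exact commutatorElement_eq_one_iff_mul_comm.mp h2
  · exact h1

/-- BT-SETUP. -/
theorem setup [IsSimpleGroup G] (hG : ¬ IsCyclic G) (q b g₀ : ℕ) (hq : q.Prime) (hpq : p ≠ q)
    (hcard : Nat.card G = p * q ^ b * g₀) (hg : g₀ < p - 1) :
    commutator G = ⊤ ∧ pPrimeCore p G = ⊥ ∧ Subgroup.center G = ⊥ ∧
      ∃ P : Subgroup G, Nat.card P = p ∧ ¬ p ∣ P.index ∧
        ∃ n : ℕ, 1 ≤ n ∧ Nat.card (Sylow p G) = 1 + n * p ∧ (Nz P).index = 1 + n * p := by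
  classical
  have hp : p.Prime := Fact.out
  have hperf : commutator G = ⊤ := commutator_eq_top_of_simple' hG
  have hpos : 0 < Nat.card G := Nat.card_pos
  have hg0 : 0 < g₀ := by
    rcases Nat.eq_zero_or_pos g₀ with h | h
    · rw [h, Nat.mul_zero] at hcard; omega
    · exact h
  have hpdvd : p ∣ Nat.card G := by
    rw [hcard, Nat.mul_assoc]; exact Dvd.intro _ rfl
  have hp2 : ¬ p ^ 2 ∣ Nat.card G := by
    intro h
    rw [hcard, pow_two, Nat.mul_assoc] at h
    have h1 : p ∣ q ^ b * g₀ := (Nat.mul_dvd_mul_iff_left hp.pos).mp h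
    rcases hp.dvd_mul.mp h1 with h2 | h2
    · have h3 := hp.dvd_of_dvd_pow h2
      exact hpq ((Nat.prime_dvd_prime_iff_eq hp hq).mp h3)
    · have := Nat.le_of_dvd hg0 h2
      omega
  refine ⟨hperf, ?_, center_eq_bot_of_simple hG, ?_⟩
  · have hch := Cfsg.Agent.Lib.Helper12.pPrimeCore_characteristic (G := G) p
    have hn : (pPrimeCore p G).Normal := inferInstance
    rcases hn.eq_bot_or_eq_top with h1 | h1
    · exact h1
    · exfalso
      have hc := Cfsg.Agent.Lib.Helper12.pPrimeCore_coprime (X := G) p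
      rw [h1, Subgroup.card_top] at hc
      exact hp.one_lt.ne' (Nat.eq_one_of_dvd_coprimes hc hpdvd (dvd_refl p))
  · obtain ⟨S⟩ : Nonempty (Sylow p G) := inferInstance
    have hcS : Nat.card S = p ^ (Nat.card G).factorization p := Sylow.card_eq_multiplicity S
    have hk1 : 1 ≤ (Nat.card G).factorization p :=
      hp.factorization_pos_of_dvd hpos.ne' hpdvd
    have hk2 : (Nat.card G).factorization p < 2 := by
      by_contra hge
      have hge : 2 ≤ (Nat.card G).factorization p := by omega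
      exact hp2 ((pow_dvd_pow p hge).trans (Nat.ordProj_dvd _ p))
    have hk : (Nat.card G).factorization p = 1 := by omega
    rw [hk, pow_one] at hcS
    have hSyl : ¬ p ∣ (S : Subgroup G).index := S.not_dvd_index
    have hmod : Nat.card (Sylow p G) ≡ 1 [MOD p] := card_sylow_modEq_one p G
    have hpos' : 1 ≤ Nat.card (Sylow p G) := Nat.card_pos
    obtain ⟨n, hn⟩ : p ∣ Nat.card (Sylow p G) - 1 := (Nat.modEq_iff_dvd' hpos').mp hmod.symm
    have hcn : Nat.card (Sylow p G) = 1 + n * p := by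
      rw [Nat.mul_comm n p]; omega
    have hidx : (Nz (S : Subgroup G)).index = 1 + n * p := by
      rw [← hcn]; exact (Sylow.card_eq_index_normalizer S).symm
    refine ⟨(S : Subgroup G), hcS, hSyl, n, ?_, hcn, hidx⟩
    exact Cfsg.Agent.Lib.Helper5.BRWNPOS.one_le_n hperf (S : Subgroup G) hcS hSyl n hidx

end Cfsg.Agent.Lib.Helper29.BTSETUP
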