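import Mathlib
import Cfsg.Agent.S0026
import Cfsg.Agent.S0028
import Cfsg.Agent.Lib.Helper1.Coprime
import Cfsg.Agent.Lib.Helper1.Fitting
import Cfsg.Agent.Lib.Helper17.Bender
import Cfsg.Agent.Lib.Helper8.HallSCN1

/-!
# Bender's lemma, quotient step (helper29)

An abstract statement on a finite solvable group `Y` with a normal `π'`-subgroup `N` containing
every normal `π'`-subgroup: a `q`-subgroup (`q ∉ π`) normalized by pairwise commuting `t`-subgroups
`A t` (`t ∈ π`, at least two primes) with `C_Q(A t) = 1` lies in `N`, provided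
`[C_Y(A p), A t]` is a `t`-group for `p ≠ t`.
-/

set_option autoImplicit false

namespace Cfsg.Agent.Lib.Helper29.BenderQ

open Subgroup

theorem eq_one_of_pow_eq_one_of_coprime {Y : Type*} [Group Y] {g : Y} {a b : ℕ}
    (hab : Nat.Coprime a b) (ha : g ^ a = 1) (hb : g ^ b = 1) : g = 1 := by
  have h1 : orderOf g ∣ Nat.gcd a b :=
    Nat.dvd_gcd (orderOf_dvd_of_pow_eq_one ha) (orderOf_dvd_of_pow_eq_one hb)
  rw [hab.gcd_eq_one, Nat.dvd_one] at h1
  exact orderOf_eq_one_iff.mp h1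

variable {Y : Type*} [Group Y] [Finite Y]

theorem bender_quotient [Group.IsSolvable Y] (π : Set ℕ) (hπ : ∀ t ∈ π, t.Prime)
    (N : Subgroup Y) [hNn : N.Normal]
    (hNπ : ∀ s ∈ π, ¬ s ∣ Nat.card N)
    (hNmax : ∀ N' : Subgroup Y, N'.Normal → (∀ s ∈ π, ¬ s ∣ Nat.card N') → N' ≤ N)
    (A V : ℕ → Subgroup Y)
    (hV : ∀ t ∈ π, IsPGroup t (V t)) (hAV : ∀ t ∈ π, A t ≤ V t)
    (hcomm : ∀ p ∈ π, ∀ t ∈ π, p ≠ t → A p ≤ centralizer (A t : Set Y))
    (hkey : ∀ p ∈ π, ∀ t ∈ π, p ≠ t → centralizer (A p : Set Y) ≤ normalizer (V t : Set Y))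
    (htwo : ∀ p ∈ π, ∃ t ∈ π, t ≠ p)
    (q : ℕ) [hq : Fact q.Prime] (hqπ : q ∉ π) (Q : Subgroup Y) (hQ : IsPGroup q Q)
    (hQA : ∀ t ∈ π, A t ≤ normalizer (Q : Set Y))
    (hQC : ∀ t ∈ π, Q ⊓ centralizer (A t : Set Y) = ⊥) : Q ≤ N := by
  classical
  set φ : Y →* Y ⧸ N := QuotientGroup.mk' N with hφdef
  have hφ : Function.Surjective φ := QuotientGroup.mk'_surjective N
  have hker : ∀ y : Y, φ y = 1 ↔ y ∈ N := fun y => QuotientGroup.eq_one_iff y
  have : Group.IsSolvable (Y ⧸ N) := Group.isSolvable_of_surjective hφ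
  have hA : ∀ t ∈ π, IsPGroup t (A t) := fun t ht => (hV t ht).to_le (hAV t ht)
  -- Step (i)
  have hcore_bot : ∀ p : ℕ, p.Prime → p ∉ π → Cfsg.pCore p (Y ⧸ N) = ⊥ := by
    intro p hp hpπ
    have : Fact p.Prime := ⟨hp⟩
    have hTn := Cfsg.Agent.Lib.Helper1.pCore_normal p (Y ⧸ N)
    have hTp := Cfsg.Agent.Lib.Helper1.pCore_isPGroup p (Y ⧸ N)
    set N' : Subgroup Y := (Cfsg.pCore p (Y ⧸ N)).comap φ with hN'
    have hN'n : N'.Normal := hTn.comap φ
    have hN'π : ∀ s ∈ π, ¬ s ∣ Nat.card N' := by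
      intro s hs hdvd
      have : Fact s.Prime := ⟨hπ s hs⟩
      obtain ⟨f, hf⟩ := exists_prime_orderOf_dvd_card' s hdvd
      have hfT : φ (f : Y) ∈ Cfsg.pCore p (Y ⧸ N) := f.2
      obtain ⟨k, hk⟩ := hTp ⟨φ (f : Y), hfT⟩
      have hk' : (φ (f : Y)) ^ (p ^ k) = 1 := by simpa using congrArg Subtype.val hk
      have hs' : (φ (f : Y)) ^ s = 1 := by
        rw [← map_pow, ← hf, ← Subgroup.orderOf_coe, pow_orderOf_eq_one, map_one]
      have hsp : s ≠ p := fun h => hpπ (h ▸ hs)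
      have hcop : Nat.Coprime s (p ^ k) :=
        Nat.Coprime.pow_right k ((Nat.coprime_primes (hπ s hs) hp).mpr hsp)
      have h1 : φ (f : Y) = 1 := eq_one_of_pow_eq_one_of_coprime hcop hs' hk'
      have h2 : (f : Y) ∈ N := (hker _).mp h1
      have h3 : orderOf (⟨(f : Y), h2⟩ : N) ∣ Nat.card N := orderOf_dvd_natCard _
      rw [Subgroup.orderOf_mk, Subgroup.orderOf_coe, hf] at h3
      exact hNπ s hs h3
    have hle := hNmax N' hN'n hN'π
    rw [eq_bot_iff]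
    intro x hx
    obtain ⟨y, rfl⟩ := hφ x
    rw [Subgroup.mem_bot, hker]
    exact hle hx
  -- Step (ii)
  have hcent : ∀ p ∈ π, ∀ t ∈ π, p ≠ t →
      (A t).map φ ≤ centralizer (Cfsg.pCore p (Y ⧸ N) : Set (Y ⧸ N)) := by
    intro p hp t ht hpt
    have : Fact p.Prime := ⟨hπ p hp⟩
    have : Fact t.Prime := ⟨hπ t ht⟩
    have hTn := Cfsg.Agent.Lib.Helper1.pCore_normal p (Y ⧸ N)
    have hTp := Cfsg.Agent.Lib.Helper1.pCore_isPGroup p (Y ⧸ N)
    have hPp : IsPGroup p ((A p).map φ) := (hA p hp).map φ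
    have hQt : IsPGroup t ((A t).map φ) := (hA t ht).map φ
    have hQcop : (Nat.card ((A t).map φ)).Coprime p := by
      obtain ⟨k, hk⟩ := IsPGroup.exists_card_eq hQt
      rw [hk]
      exact Nat.Coprime.pow_left k ((Nat.coprime_primes (hπ t ht) (hπ p hp)).mpr (Ne.symm hpt))
    have hnormT : normalizer (Cfsg.pCore p (Y ⧸ N) : Set (Y ⧸ N)) = ⊤ :=
      Subgroup.normalizer_eq_top_iff.mpr hTn
    apply Cfsg.Agent.S0028.result p ((A p).map φ) ((A t).map φ) (Cfsg.pCore p (Y ⧸ N))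
      hPp hQcop hTp
    · -- P̄ ≤ C(Q̄)
      rintro _ ⟨a, ha, rfl⟩
      rw [Subgroup.mem_centralizer_iff]
      rintro _ ⟨b, hb, rfl⟩
      have := Subgroup.mem_centralizer_iff.mp (hcomm p hp t ht hpt ha) b hb
      rw [← map_mul, ← map_mul, this]
    · rw [hnormT]; exact le_top
    · rw [hnormT]; exact le_top
    · -- the key
      rintro xb ⟨hxT, hxC⟩
      obtain ⟨x, rfl⟩ := hφ xb
      have hx : ∀ a ∈ A p, x⁻¹ * a * x * a⁻¹ ∈ N := by
        intro a ha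
        rw [← hker]
        have h1 := Subgroup.mem_centralizer_iff.mp hxC (φ a) ⟨a, ha, rfl⟩
        -- h1 : φ a * φ x = φ x * φ a
        rw [map_mul, map_mul, map_mul, map_inv, map_inv, mul_assoc (φ x)⁻¹, h1]
        group
      have hAN : A p ≤ normalizer (N : Set Y) := by
        rw [Subgroup.normalizer_eq_top_iff.mpr hNn]; exact le_top
      have hcopAN : Nat.Coprime (Nat.card (A p)) (Nat.card N) := by
        obtain ⟨k, hk⟩ := IsPGroup.exists_card_eq (hA p hp)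
        rw [hk]
        exact Nat.Coprime.pow_left k ((Nat.Prime.coprime_iff_not_dvd (hπ p hp)).mpr (hNπ p hp))
      have hNsolv : Group.IsSolvable N := inferInstance
      obtain ⟨n, hn, hd⟩ := Cfsg.Agent.Lib.Helper1.exists_mul_mem_centralizer hAN hcopAN
        (Or.inr hNsolv) x hx
      have hφd : φ (x * n) = φ x := by
        rw [map_mul, (hker n).mpr hn, mul_one]
      have hdV : x * n ∈ normalizer (V t : Set Y) := hkey p hp t ht hpt hd
      rw [Subgroup.mem_centralizer_iff]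
      rintro _ ⟨b, hb, rfl⟩
      set d := x * n with hddef
      have hc1 : d * b * d⁻¹ * b⁻¹ ∈ V t :=
        (V t).mul_mem ((Subgroup.mem_normalizer_iff.mp hdV b).mp (hAV t ht hb))
          ((V t).inv_mem (hAV t ht hb))
      obtain ⟨k, hk⟩ := hV t ht ⟨_, hc1⟩
      have hk' : (d * b * d⁻¹ * b⁻¹) ^ (t ^ k) = 1 := by simpa using congrArg Subtype.val hk
      have hc2 : φ (d * b * d⁻¹ * b⁻¹) ∈ Cfsg.pCore p (Y ⧸ N) := by
        rw [map_mul, map_mul, map_mul, map_inv, map_inv, hφd]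
        have h2 : φ b * (φ x)⁻¹ * (φ b)⁻¹ ∈ Cfsg.pCore p (Y ⧸ N) :=
          hTn.conj_mem _ (inv_mem hxT) _
        have := mul_mem hxT h2
        simpa [mul_assoc] using this
      obtain ⟨j, hj⟩ := hTp ⟨_, hc2⟩
      have hj' : (φ (d * b * d⁻¹ * b⁻¹)) ^ (p ^ j) = 1 := by simpa using congrArg Subtype.val hj
      have hk'' : (φ (d * b * d⁻¹ * b⁻¹)) ^ (t ^ k) = 1 := by
        rw [← map_pow, hk', map_one]
      have hcop : Nat.Coprime (p ^ j) (t ^ k) :=
        Nat.Coprime.pow _ _ ((Nat.coprime_primes (hπ p hp) (hπ t ht)).mpr hpt)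
      have h1 : φ (d * b * d⁻¹ * b⁻¹) = 1 := eq_one_of_pow_eq_one_of_coprime hcop hj' hk''
      rw [map_mul, map_mul, map_mul, map_inv, map_inv, hφd] at h1
      -- φ x * φ b * (φ x)⁻¹ * (φ b)⁻¹ = 1
      have : φ x * φ b = φ b * φ x := by
        have := congrArg (fun z => z * φ b * φ x) h1
        simpa [mul_assoc] using this
      exact this.symm
  -- Step (iii)
  have hQcent : ∀ p ∈ π, Q.map φ ≤ centralizer (Cfsg.pCore p (Y ⧸ N) : Set (Y ⧸ N)) := by
    intro p hp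
    obtain ⟨t, ht, htp⟩ := htwo p hp
    have : Fact t.Prime := ⟨hπ t ht⟩
    have hTn := Cfsg.Agent.Lib.Helper1.pCore_normal p (Y ⧸ N)
    have hcop : (Nat.card (A t)).Coprime (Nat.card Q) := by
      have hqt : t ≠ q := fun h => hqπ (h ▸ ht)
      exact IsPGroup.coprime_card_of_ne t q hqt (A t) Q (hA t ht) hQ
    have hQsolv : Group.IsSolvable Q := inferInstance
    have h26 := Cfsg.Agent.S0026.result (A t) Q (hQA t ht) hcop (Or.inr hQsolv)
    rw [hQC t ht, sup_bot_eq] at h26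
    have hmap : (Q.map φ) = ⁅Q.map φ, (A t).map φ⁆ := by
      rw [← Subgroup.map_commutator, h26]
    have hAT : ⁅(A t).map φ, Cfsg.pCore p (Y ⧸ N)⁆ = ⊥ :=
      Subgroup.commutator_eq_bot_iff_le_centralizer.mpr (hcent p hp t ht (Ne.symm htp))
    have h1 : ⁅⁅(A t).map φ, Cfsg.pCore p (Y ⧸ N)⁆, Q.map φ⁆ = ⊥ := by
      rw [hAT, Subgroup.commutator_bot_left]
    have h2 : ⁅⁅Cfsg.pCore p (Y ⧸ N), Q.map φ⁆, (A t).map φ⁆ = ⊥ := by
      have hle : ⁅Cfsg.pCore p (Y ⧸ N), Q.map φ⁆ ≤ Cfsg.pCore p (Y ⧸ N) :=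
        Subgroup.commutator_le_left _ _
      have := Subgroup.commutator_mono hle (le_refl ((A t).map φ))
      rw [Subgroup.commutator_comm (Cfsg.pCore p (Y ⧸ N)) ((A t).map φ), hAT] at this
      exact le_bot_iff.mp this
    have h3 := Subgroup.commutator_commutator_eq_bot_of_rotate h1 h2
    rw [← hmap] at h3
    exact Subgroup.commutator_eq_bot_iff_le_centralizer.mp h3
  -- Step (iv)
  have hQF : Q.map φ ≤ centralizer (Cfsg.fittingSubgroup (Y ⧸ N) : Set (Y ⧸ N)) := by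
    rw [Subgroup.le_centralizer_iff, Cfsg.Agent.Lib.Helper1.fittingSubgroup_eq_iSup_pCore]
    apply iSup_le
    intro p
    by_cases hp : (p : ℕ) ∈ π
    · exact Subgroup.le_centralizer_iff.mp (hQcent p hp)
    · rw [hcore_bot p p.2 hp]; exact bot_le
  have hQF' : Q.map φ ≤ Cfsg.fittingSubgroup (Y ⧸ N) :=
    hQF.trans Cfsg.Agent.Lib.Helper8.HallSCN.centralizer_fitting_le
  intro x hx
  rw [← hker]
  have hxF : φ x ∈ Cfsg.fittingSubgroup (Y ⧸ N) := hQF' ⟨x, hx, rfl⟩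
  obtain ⟨k, hk⟩ := hQ ⟨x, hx⟩
  have hk' : x ^ (q ^ k) = 1 := by simpa using congrArg Subtype.val hk
  have hk'' : (φ x) ^ (q ^ k) = 1 := by rw [← map_pow, hk', map_one]
  have := Cfsg.Agent.Lib.Helper17.mem_pCore_of_mem_fitting q hxF hk''
  rw [hcore_bot q hq.out hqπ, Subgroup.mem_bot] at this
  exact this

end Cfsg.Agent.Lib.Helper29.BenderQ
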