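import Mathlib
import Cfsg.Prelude.Def_OddOrderLocal
import Cfsg.Prelude.Def_CaseTheorems
import Cfsg.Agent.S0023
import Cfsg.Agent.S0024
import Cfsg.Agent.S0025
import Cfsg.Agent.S0028
import Cfsg.Agent.Lib.Helper29.BenderQuot
import Cfsg.Agent.Lib.Helper17.BGFitA
import Cfsg.Agent.Lib.Helper17.BGTrans3
import Cfsg.Agent.Lib.Helper17.Bender2
import Cfsg.Agent.Lib.Helper17.Bender4
import Cfsg.Agent.Lib.Helper17.PrimeAct4
import Cfsg.Agent.Lib.Helper8.SupNormalizer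
import Cfsg.Agent.Lib.Helper9.TypeP
import Cfsg.Agent.Lib.Helper21.Primary

/-!
# Bender's lemma for a maximal local subgroup whose Fitting subgroup has two primes (helper29)
-/

set_option autoImplicit false

namespace Cfsg.Agent.Lib.Helper29.BenderL

open Subgroup
open Cfsg.Agent.Lib.Helper17 Cfsg.Agent.Lib.Helper17.BGU
open Cfsg.Agent.Lib.Helper27.PuigOdd (zOf normalizer_le_normalizer_zOf)

variable {G : Type*} [Group G] [Finite G] {H M : Subgroup G}

/-- `C_G(M ∩ O_t(H)) ≤ H` for `t ∈ π(F(H))`. -/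
theorem centralizer_Mt_le
    (hmax : ∀ L : Subgroup G, Cfsg.IsLocalSubgroup L → H ≤ L → L = H)
    (hM : M ≤ Cfsg.fittingOf H)
    (hCM : Cfsg.fittingOf H ⊓ centralizer (M : Set G) ≤ M)
    {t : ℕ} [ht : Fact t.Prime] (htF : t ∣ Nat.card (Cfsg.fittingOf H)) :
    centralizer ((M ⊓ Cfsg.pCoreOf t H : Subgroup G) : Set G) ≤ H := by
  have hFt_ne : Cfsg.pCoreOf t H ≠ ⊥ := pCoreOf_ne_bot_of_dvd_card_fittingOf htF
  have hFtp : IsPGroup t (Cfsg.pCoreOf t H) := PrimeAct.pCoreOf_isPGroup t H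
  have hZne : zOf (Cfsg.pCoreOf t H) ≠ ⊥ := zOf_ne_bot hFtp hFt_ne
  have hZp : IsPGroup t (zOf (Cfsg.pCoreOf t H)) := hFtp.to_le (zOf_le _)
  have hHZ : H ≤ normalizer (zOf (Cfsg.pCoreOf t H) : Set G) :=
    (le_normalizer_pCoreOf t H).trans (normalizer_le_normalizer_zOf _)
  have hN : normalizer (zOf (Cfsg.pCoreOf t H) : Set G) = H :=
    hmax _ ⟨t, _, ht.out, hZp, hZne, rfl⟩ hHZ
  have hZF : zOf (Cfsg.pCoreOf t H) ≤ centralizer (Cfsg.fittingOf H : Set G) := by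
    apply le_centralizer_fittingOf_of_forall
    intro q hq
    by_cases hqt : q = t
    · subst hqt; exact zOf_le_centralizer _
    · have : Fact q.Prime := ⟨hq⟩
      intro z hz
      rw [Subgroup.mem_centralizer_iff]
      intro y hy
      exact PrimeAct.pCoreOf_commute H hqt y z hy hz.1
  have hZM : zOf (Cfsg.pCoreOf t H) ≤ M ⊓ Cfsg.pCoreOf t H := by
    intro z hz
    have hz1 : z ∈ Cfsg.pCoreOf t H := (Subgroup.mem_inf.mp hz).1
    refine Subgroup.mem_inf.mpr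
      ⟨hCM (Subgroup.mem_inf.mpr ⟨PrimeAct.pCoreOf_le_fittingOf H t hz1, ?_⟩), hz1⟩
    exact Subgroup.centralizer_le hM (hZF hz)
  calc centralizer ((M ⊓ Cfsg.pCoreOf t H : Subgroup G) : Set G)
      ≤ centralizer (zOf (Cfsg.pCoreOf t H) : Set G) := Subgroup.centralizer_le hZM
    _ ≤ normalizer (zOf (Cfsg.pCoreOf t H) : Set G) := Subgroup.centralizer_le_normalizer _
    _ = H := hN

/-- `C_{O_t(H)}(M ∩ O_t(H)) ≤ M ∩ O_t(H)`. -/
theorem inf_centralizer_Mt_le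
    (hM : M ≤ Cfsg.fittingOf H)
    (hCM : Cfsg.fittingOf H ⊓ centralizer (M : Set G) ≤ M)
    {t : ℕ} [ht : Fact t.Prime] :
    Cfsg.pCoreOf t H ⊓ centralizer ((M ⊓ Cfsg.pCoreOf t H : Subgroup G) : Set G) ≤
      M ⊓ Cfsg.pCoreOf t H := by
  intro x hx
  obtain ⟨hx1, hx2⟩ := Subgroup.mem_inf.mp hx
  refine Subgroup.mem_inf.mpr
    ⟨hCM (Subgroup.mem_inf.mpr ⟨PrimeAct.pCoreOf_le_fittingOf H t hx1, ?_⟩), hx1⟩
  rw [Subgroup.mem_centralizer_iff] at hx2 ⊢
  intro m hm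
  have hmx : m ∈ centralizer ({x} : Set G) := by
    apply Cfsg.Agent.Lib.Helper21.mem_of_primary_parts_mem _ (orderOf m) m rfl (orderOf_pos m).ne'
    intro q hq hqn
    have hqf : Fact q.Prime := ⟨hq⟩
    set g := m ^ (orderOf m / q ^ (orderOf m).factorization q) with hg
    have hgq : g ^ (q ^ (orderOf m).factorization q) = 1 := by
      rw [hg, ← pow_mul, Nat.div_mul_cancel (Nat.ordProj_dvd _ _), pow_orderOf_eq_one]
    have hgM : g ∈ M := Subgroup.pow_mem _ hm _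
    have hgO : g ∈ Cfsg.pCoreOf q H := mem_pCoreOf_of_mem_fittingOf (hM hgM) hgq
    rw [Subgroup.mem_centralizer_singleton_iff]
    by_cases hqt : q = t
    · subst hqt
      exact hx2 g (Subgroup.mem_inf.mpr ⟨hgM, hgO⟩)
    · exact PrimeAct.pCoreOf_commute H hqt g x hgO hx1
  rw [Subgroup.mem_centralizer_singleton_iff] at hmx
  exact hmx

/-- A `t'`-subgroup of `C_G(M ∩ O_t(H))` centralizes `O_t(H)`. -/
theorem le_centralizer_pCoreOf
    (hmax : ∀ L : Subgroup G, Cfsg.IsLocalSubgroup L → H ≤ L → L = H)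
    (hM : M ≤ Cfsg.fittingOf H)
    (hCM : Cfsg.fittingOf H ⊓ centralizer (M : Set G) ≤ M)
    {t : ℕ} [ht : Fact t.Prime] (htF : t ∣ Nat.card (Cfsg.fittingOf H))
    {Y : Subgroup G} (hY : Y ≤ centralizer ((M ⊓ Cfsg.pCoreOf t H : Subgroup G) : Set G))
    (hYt : (Nat.card Y).Coprime t) :
    Y ≤ centralizer (Cfsg.pCoreOf t H : Set G) := by
  have hFtp : IsPGroup t (Cfsg.pCoreOf t H) := PrimeAct.pCoreOf_isPGroup t H
  apply Cfsg.Agent.S0028.result t (M ⊓ Cfsg.pCoreOf t H) Y (Cfsg.pCoreOf t H)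
    (hFtp.to_le inf_le_right) hYt hFtp
  · exact Subgroup.le_centralizer_iff.mp hY
  · exact inf_le_right.trans Subgroup.le_normalizer
  · exact (hY.trans (centralizer_Mt_le hmax hM hCM htF)).trans (le_normalizer_pCoreOf t H)
  · exact (inf_centralizer_Mt_le hM hCM).trans (Subgroup.le_centralizer_iff.mp hY)

theorem pCoreOf_eq_bot_of_not_dvd {t : ℕ} [ht : Fact t.Prime]
    (htF : ¬ t ∣ Nat.card (Cfsg.fittingOf H)) : Cfsg.pCoreOf t H = ⊥ :=
  eq_bot_of_isPGroup_of_le_of_not_dvd (PrimeAct.pCoreOf_le_fittingOf H t)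
    (PrimeAct.pCoreOf_isPGroup t H) htF

/-- Claim A: an `M`-invariant `π(F)'`-subgroup `Y` of `R` has `C_Y(M ∩ O_t(H)) = 1`. -/
theorem inf_centralizer_Mt_eq_bot
    (hmax : ∀ L : Subgroup G, Cfsg.IsLocalSubgroup L → H ≤ L → L = H)
    (hM : M ≤ Cfsg.fittingOf H)
    (hCM : Cfsg.fittingOf H ⊓ centralizer (M : Set G) ≤ M)
    {R : Subgroup G} (hR : Group.IsSolvable R)
    (hXR : H ⊓ centralizer (Cfsg.fittingOf H : Set G) ≤ normalizer (R : Set G))
    {Y : Subgroup G} (hYR : Y ≤ R) (hMY : M ≤ normalizer (Y : Set G))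
    (hYcop : (Nat.card Y).Coprime (Nat.card (Cfsg.fittingOf H)))
    {t : ℕ} [ht : Fact t.Prime] (htF : t ∣ Nat.card (Cfsg.fittingOf H)) :
    Y ⊓ centralizer ((M ⊓ Cfsg.pCoreOf t H : Subgroup G) : Set G) = ⊥ := by
  set D := Y ⊓ centralizer ((M ⊓ Cfsg.pCoreOf t H : Subgroup G) : Set G) with hD
  have hDY : D ≤ Y := inf_le_left
  have hDH : D ≤ H := inf_le_right.trans (centralizer_Mt_le hmax hM hCM htF)
  have hDcop : (Nat.card D).Coprime (Nat.card (Cfsg.fittingOf H)) :=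
    Nat.Coprime.coprime_dvd_left (Subgroup.card_dvd_of_le hDY) hYcop
  -- (i)
  have h1 : ∀ s : ℕ, ∀ _ : Fact s.Prime,
      D ≤ centralizer ((M ⊓ Cfsg.pCoreOf s H : Subgroup G) : Set G) := by
    intro s hs
    by_cases hst : s = t
    · subst hst; exact inf_le_right
    · intro d hd
      rw [Subgroup.mem_centralizer_iff]
      intro m hm
      obtain ⟨hmM, hmF⟩ := Subgroup.mem_inf.mp hm
      have hdY : d ∈ Y := hDY hd
      have hdC := (Subgroup.mem_inf.mp hd).2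
      have hdH : d ∈ H := hDH hd
      have hcF : d * m * d⁻¹ * m⁻¹ ∈ Cfsg.pCoreOf s H :=
        mul_mem ((Subgroup.mem_normalizer_iff.mp (le_normalizer_pCoreOf s H hdH) m).mp hmF)
          (inv_mem hmF)
      have hcD : d * m * d⁻¹ * m⁻¹ ∈ D := by
        have h2 : m * d⁻¹ * m⁻¹ ∈ D := by
          refine Subgroup.mem_inf.mpr
            ⟨(Subgroup.mem_normalizer_iff.mp (hMY hmM) d⁻¹).mp (inv_mem hdY), ?_⟩
          rw [Subgroup.mem_centralizer_iff] at hdC ⊢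
          intro a ha
          have ham : Commute a m :=
            PrimeAct.pCoreOf_commute H (Ne.symm hst) a m (Subgroup.mem_inf.mp ha).2 hmF
          have had : Commute a d := hdC a ha
          exact ((ham.mul_right had.inv_right).mul_right ham.inv_right).eq
        have := mul_mem hd h2
        simpa [mul_assoc] using this
      have hbot : D ⊓ Cfsg.pCoreOf s H = ⊥ :=
        (Subgroup.disjoint_of_coprime_natCard (Nat.Coprime.coprime_dvd_right
          (Subgroup.card_dvd_of_le (PrimeAct.pCoreOf_le_fittingOf H s)) hDcop)).eq_bot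
      have hc1 : d * m * d⁻¹ * m⁻¹ = 1 := by
        have : d * m * d⁻¹ * m⁻¹ ∈ D ⊓ Cfsg.pCoreOf s H := Subgroup.mem_inf.mpr ⟨hcD, hcF⟩
        rwa [hbot, Subgroup.mem_bot] at this
      have h3 : d * m * d⁻¹ = m := mul_inv_eq_one.mp hc1
      have h4 : d * m = m * d := mul_inv_eq_iff_eq_mul.mp h3
      exact h4.symm
  -- (ii)
  have h2 : ∀ s : ℕ, s.Prime → D ≤ centralizer (Cfsg.pCoreOf s H : Set G) := by
    intro s hs
    have hsf : Fact s.Prime := ⟨hs⟩
    by_cases hsF : s ∣ Nat.card (Cfsg.fittingOf H)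
    · apply le_centralizer_pCoreOf hmax hM hCM hsF (h1 s ⟨hs⟩)
      exact Nat.Coprime.coprime_dvd_right hsF hDcop
    · rw [pCoreOf_eq_bot_of_not_dvd hsF]
      intro d _
      rw [Subgroup.mem_centralizer_iff]
      intro y hy
      rw [SetLike.mem_coe, Subgroup.mem_bot] at hy
      subst hy; simp
  -- (iii)
  have h3 : D ≤ centralizer (Cfsg.fittingOf H : Set G) := le_centralizer_fittingOf_of_forall h2
  -- (iv)
  set X := H ⊓ centralizer (Cfsg.fittingOf H : Set G) with hX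
  set W := X ⊓ R with hW
  have hDW : D ≤ W := le_inf (le_inf hDH h3) (hDY.trans hYR)
  have hWsolv : Group.IsSolvable W :=
    Group.isSolvable_of_isSolvable_injective (Subgroup.inclusion_injective (inf_le_right : W ≤ R))
  have hXW : X ≤ normalizer (W : Set G) :=
    (le_inf Subgroup.le_normalizer hXR).trans Subgroup.inf_normalizer_le_normalizer_inf
  have hHX : H ≤ normalizer (X : Set G) := le_normalizer_inf_centralizer (le_normalizer_fittingOf H)
  have hFW : Cfsg.fittingOf W ≤ Cfsg.fittingOf H :=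
    (PrimeAct.fittingOf_le_of_normal W X inf_le_left hXW).trans
      (PrimeAct.fittingOf_le_of_normal X H inf_le_left hHX)
  have hWC : W ≤ centralizer (Cfsg.fittingOf W : Set G) :=
    (inf_le_left.trans inf_le_right : W ≤ centralizer (Cfsg.fittingOf H : Set G)).trans
      (Subgroup.centralizer_le hFW)
  have hWF : W ≤ Cfsg.fittingOf H :=
    (le_inf le_rfl hWC).trans ((inf_centralizer_fittingOf_le hWsolv).trans hFW)
  -- (v)
  have hbot : Y ⊓ Cfsg.fittingOf H = ⊥ := (Subgroup.disjoint_of_coprime_natCard hYcop).eq_bot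
  rw [eq_bot_iff]
  calc D ≤ Y ⊓ Cfsg.fittingOf H := le_inf hDY (hDW.trans hWF)
    _ = ⊥ := hbot

omit [Finite G] in
theorem coe_mem_centralizer_of_subgroupOf {Y₀ S : Subgroup G} (hS : S ≤ Y₀) {d : ↥Y₀}
    (hd : d ∈ centralizer ((S.subgroupOf Y₀ : Subgroup ↥Y₀) : Set ↥Y₀)) :
    (d : G) ∈ centralizer (S : Set G) := by
  rw [Subgroup.mem_centralizer_iff] at hd ⊢
  intro m hm
  have hmY : m ∈ Y₀ := hS hm
  have := hd ⟨m, hmY⟩ (by
    show (⟨m, hmY⟩ : ↥Y₀) ∈ S.subgroupOf Y₀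
    rw [Subgroup.mem_subgroupOf]; exact hm)
  exact congrArg Subtype.val this

/-- Steps 2–3: an `M`-invariant `q`-subgroup of `R` lies in `O_{π(F)'}(R)`. -/
theorem le_piCoreOf_of_inv
    (hmax : ∀ L : Subgroup G, Cfsg.IsLocalSubgroup L → H ≤ L → L = H)
    (hF2 : 2 ≤ (Nat.card (Cfsg.fittingOf H)).primeFactors.card)
    (hM : M ≤ Cfsg.fittingOf H)
    (hCM : Cfsg.fittingOf H ⊓ centralizer (M : Set G) ≤ M)
    {R : Subgroup G} (hR : Group.IsSolvable R) (hMR : M ≤ normalizer (R : Set G))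
    (hXR : H ⊓ centralizer (Cfsg.fittingOf H : Set G) ≤ normalizer (R : Set G))
    {q : ℕ} [hq : Fact q.Prime] (hqF : ¬ q ∣ Nat.card (Cfsg.fittingOf H))
    {Q : Subgroup G} (hQR : Q ≤ R) (hQ : IsPGroup q Q) (hMQ : M ≤ normalizer (Q : Set G)) :
    Q ≤ Cfsg.piCoreOf (Cfsg.primesNotDvd (Nat.card (Cfsg.fittingOf H))) R := by
  classical
  set F := Cfsg.fittingOf H with hFdef
  set K := Cfsg.piCoreOf (Cfsg.primesNotDvd (Nat.card F)) R with hKdef
  set Y₀ : Subgroup G := R ⊔ M with hY₀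
  have hRY : R ≤ Y₀ := le_sup_left
  have hMY : M ≤ Y₀ := le_sup_right
  have hFnil : Group.IsNilpotent F := Cfsg.Agent.Lib.Helper9.fittingOf_isNilpotent H
  have hFsolv : Group.IsSolvable F := inferInstance
  have hMsolv : Group.IsSolvable M :=
    Group.isSolvable_of_isSolvable_injective (Subgroup.inclusion_injective hM)
  have hYsolv : Group.IsSolvable Y₀ :=
    Cfsg.Agent.Lib.Helper8.isSolvable_sup_of_le_normalizer hR hMsolv hMR
  have hKR : K ≤ R := piCoreOf_le R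
  have hKY : K ≤ Y₀ := hKR.trans hRY
  have hYK : Y₀ ≤ normalizer (K : Set G) :=
    sup_le (le_normalizer_piCoreOf R) (hMR.trans (normalizer_le_normalizer_piCoreOf _ R))
  have hNn : (K.subgroupOf Y₀).Normal :=
    (Subgroup.normal_subgroupOf_iff_le_normalizer hKY).mpr hYK
  let π : Set ℕ := {t | t.Prime ∧ t ∣ Nat.card F}
  have hπ : ∀ t ∈ π, t.Prime := fun t ht => ht.1
  have hcardN : Nat.card (K.subgroupOf Y₀) = Nat.card K :=
    Nat.card_congr (Subgroup.subgroupOfEquivOfLe hKY).toEquiv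
  have hNπ : ∀ s ∈ π, ¬ s ∣ Nat.card (K.subgroupOf Y₀) := by
    intro s hs hdvd
    rw [hcardN, card_piCoreOf] at hdvd
    exact (Cfsg.Agent.Lib.Helper12.piCore_mem _ s hs.1 hdvd).2 hs.2
  have hNmax : ∀ N' : Subgroup ↥Y₀, N'.Normal → (∀ s ∈ π, ¬ s ∣ Nat.card N') →
      N' ≤ K.subgroupOf Y₀ := by
    intro N' hN'n hN'π
    set W := N'.map Y₀.subtype with hWdef
    have hcardW : Nat.card W = Nat.card N' := Subgroup.card_map_of_injective Y₀.subtype_injective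
    have hWY : W ≤ Y₀ := Subgroup.map_subtype_le _
    have hYW : Y₀ ≤ normalizer (W : Set G) := le_normalizer_map_subtype Y₀ N'
    have hWcop : (Nat.card W).Coprime (Nat.card M) := by
      apply Nat.coprime_of_dvd
      intro s hs hsW hsM
      rw [hcardW] at hsW
      exact hN'π s ⟨hs, hsM.trans (Subgroup.card_dvd_of_le hM)⟩ hsW
    have hWR : W ≤ R := by
      intro y hy
      obtain ⟨r, hr, m, hm, rfl⟩ := Cfsg.Agent.Lib.Helper8.mem_sup_of_le_normalizer hMR (hWY hy)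
      have hn : m⁻¹ * r * m ∈ R := by
        have := (Subgroup.mem_normalizer_iff.mp (hMR (inv_mem hm)) r).mp hr
        simpa using this
      obtain ⟨n', hn', hpow⟩ := PrimeAct.exists_pow_mul_eq R m (m⁻¹ * r * m) (hMR hm) hn (Nat.card M)
      have hmpow : m ^ Nat.card M = 1 := by
        have h0 : (⟨m, hm⟩ : ↥M) ^ Nat.card ↥M = 1 := pow_card_eq_one'
        have h0' := congrArg Subtype.val h0
        rw [Subgroup.coe_pow, Subgroup.coe_one] at h0'
        exact h0'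
      have hyk : (r * m) ^ Nat.card M ∈ R := by
        have e : r * m = m * (m⁻¹ * r * m) := by group
        rw [e, hpow, hmpow, one_mul]; exact hn'
      have hyo : (orderOf (r * m)).Coprime (Nat.card M) := by
        apply Nat.Coprime.coprime_dvd_left _ hWcop
        have := orderOf_dvd_natCard (⟨r * m, hy⟩ : W)
        rwa [Subgroup.orderOf_mk] at this
      exact Cfsg.Agent.Lib.Helper21.mem_of_pow_mem_of_coprime R (r * m) (Nat.card M)
        (orderOf (r * m)) hyo.symm hyk (by rw [pow_orderOf_eq_one]; exact R.one_mem)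
    have hWK : W ≤ K := by
      apply le_piCoreOf hWR (hRY.trans hYW)
      intro p hp hdvd
      refine ⟨hp, fun hpF => ?_⟩
      rw [hcardW] at hdvd
      exact hN'π p ⟨hp, hpF⟩ hdvd
    intro x hx
    rw [Subgroup.mem_subgroupOf]
    exact hWK ⟨x, hx, rfl⟩
  let A : ℕ → Subgroup ↥Y₀ := fun t => (M ⊓ Cfsg.pCoreOf t H).subgroupOf Y₀
  let V : ℕ → Subgroup ↥Y₀ := fun t => (Cfsg.pCoreOf t H).subgroupOf Y₀
  have hV : ∀ t ∈ π, IsPGroup t (V t) := fun t ht => by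
    have : Fact t.Prime := ⟨ht.1⟩
    exact (PrimeAct.pCoreOf_isPGroup t H).comap_subtype
  have hAV : ∀ t ∈ π, A t ≤ V t := fun t _ x hx => by
    show x ∈ (Cfsg.pCoreOf t H).subgroupOf Y₀
    have hx' : x ∈ (M ⊓ Cfsg.pCoreOf t H).subgroupOf Y₀ := hx
    rw [Subgroup.mem_subgroupOf] at hx' ⊢
    exact (Subgroup.mem_inf.mp hx').2
  have hcomm : ∀ p ∈ π, ∀ t ∈ π, p ≠ t → A p ≤ centralizer (A t : Set ↥Y₀) := by
    intro p hp t ht hpt a ha
    have : Fact p.Prime := ⟨hp.1⟩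
    have : Fact t.Prime := ⟨ht.1⟩
    rw [Subgroup.mem_centralizer_iff]
    intro b hb
    have hb' : b ∈ (M ⊓ Cfsg.pCoreOf t H).subgroupOf Y₀ := hb
    have ha' : a ∈ (M ⊓ Cfsg.pCoreOf p H).subgroupOf Y₀ := ha
    rw [Subgroup.mem_subgroupOf] at ha' hb'
    apply Subtype.ext
    exact PrimeAct.pCoreOf_commute H (Ne.symm hpt) (b : G) (a : G) (Subgroup.mem_inf.mp hb').2
      (Subgroup.mem_inf.mp ha').2
  have hkey : ∀ p ∈ π, ∀ t ∈ π, p ≠ t →
      centralizer (A p : Set ↥Y₀) ≤ normalizer (V t : Set ↥Y₀) := by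
    intro p hp t ht hpt d hd
    have : Fact p.Prime := ⟨hp.1⟩
    have : Fact t.Prime := ⟨ht.1⟩
    have hdC : (d : G) ∈ centralizer ((M ⊓ Cfsg.pCoreOf p H : Subgroup G) : Set G) :=
      coe_mem_centralizer_of_subgroupOf (inf_le_left.trans hMY) hd
    have hdH : (d : G) ∈ H := centralizer_Mt_le hmax hM hCM hp.2 hdC
    have hdN := le_normalizer_pCoreOf t H hdH
    rw [Subgroup.mem_normalizer_iff] at hdN ⊢
    intro y
    show y ∈ (Cfsg.pCoreOf t H).subgroupOf Y₀ ↔ d * y * d⁻¹ ∈ (Cfsg.pCoreOf t H).subgroupOf Y₀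
    rw [Subgroup.mem_subgroupOf, Subgroup.mem_subgroupOf]
    exact hdN (y : G)
  have htwo : ∀ p ∈ π, ∃ t ∈ π, t ≠ p := by
    intro p _
    obtain ⟨t, ht, htp⟩ := Finset.exists_mem_ne
      (by omega : 1 < (Nat.card F).primeFactors.card) p
    exact ⟨t, ⟨Nat.prime_of_mem_primeFactors ht, Nat.dvd_of_mem_primeFactors ht⟩, htp⟩
  have hQ' : IsPGroup q (Q.subgroupOf Y₀) := hQ.comap_subtype
  have hQA : ∀ t ∈ π, A t ≤ normalizer ((Q.subgroupOf Y₀ : Subgroup ↥Y₀) : Set ↥Y₀) := fun t _ =>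
    BGU.subgroupOf_le_normalizer_subgroupOf (inf_le_left.trans hMQ)
  have hQcop : (Nat.card Q).Coprime (Nat.card F) := by
    obtain ⟨k, hk⟩ := IsPGroup.exists_card_eq hQ
    rw [hk]
    exact Nat.Coprime.pow_left k ((Nat.Prime.coprime_iff_not_dvd hq.out).mpr hqF)
  have hQC : ∀ t ∈ π, Q.subgroupOf Y₀ ⊓ centralizer (A t : Set ↥Y₀) = ⊥ := by
    intro t ht
    have : Fact t.Prime := ⟨ht.1⟩
    have hbot := inf_centralizer_Mt_eq_bot hmax hM hCM hR hXR hQR hMQ hQcop ht.2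
    rw [eq_bot_iff]
    intro x hx
    obtain ⟨hx1, hx2⟩ := Subgroup.mem_inf.mp hx
    rw [Subgroup.mem_bot]
    apply Subtype.ext
    have h1 : (x : G) ∈ Q ⊓ centralizer ((M ⊓ Cfsg.pCoreOf t H : Subgroup G) : Set G) :=
      Subgroup.mem_inf.mpr ⟨Subgroup.mem_subgroupOf.mp hx1,
        coe_mem_centralizer_of_subgroupOf (inf_le_left.trans hMY) hx2⟩
    rw [hbot, Subgroup.mem_bot] at h1
    exact h1
  have hmain := Cfsg.Agent.Lib.Helper29.BenderQ.bender_quotient π hπ (K.subgroupOf Y₀) hNπ hNmax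
    A V hV hAV hcomm hkey htwo q (fun h => hqF h.2) (Q.subgroupOf Y₀) hQ' hQA hQC
  intro x hx
  have := hmain (show (⟨x, hRY (hQR hx)⟩ : ↥Y₀) ∈ Q.subgroupOf Y₀ from
    Subgroup.mem_subgroupOf.mpr hx)
  exact Subgroup.mem_subgroupOf.mp this

omit [Finite G] in
theorem isPGroup_of_mem_invSubgroups {R M Q' : Subgroup G} [Finite Q'] {q : ℕ}
    (hQ' : Q' ∈ Cfsg.invSubgroups R M {q}) : IsPGroup q Q' := by
  have hne : Nat.card Q' ≠ 0 := Nat.card_pos.ne'
  have h := Nat.eq_prime_pow_of_unique_prime_dvd (p := q) hne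
    (fun {d} hd hdvd => Set.mem_singleton_iff.mp (hQ'.2.1 d hd hdvd))
  exact IsPGroup.of_card h

/-- **Bender's lemma** (S1481). -/
theorem main (H : Subgroup G)
    (hmax : ∀ L : Subgroup G, Cfsg.IsLocalSubgroup L → H ≤ L → L = H)
    (hF2 : 2 ≤ (Nat.card (Cfsg.fittingOf H)).primeFactors.card)
    (M : Subgroup G) (hM : M ≤ Cfsg.fittingOf H)
    (hCM : Cfsg.fittingOf H ⊓ centralizer (M : Set G) ≤ M)
    (R : Subgroup G) (hR : Group.IsSolvable R) (hMR : M ≤ normalizer (R : Set G))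
    (hXR : H ⊓ centralizer (Cfsg.fittingOf H : Set G) ≤ normalizer (R : Set G))
    (q : ℕ) [hq : Fact q.Prime] (hqF : ¬ q ∣ Nat.card (Cfsg.fittingOf H)) :
    ∃! Q : Subgroup G, Q ∈ Cfsg.maxInvSubgroups R M {q} ∧
      (∀ Q' : Subgroup G, Q' ∈ Cfsg.maxInvSubgroups R M {q} →
        Q' ≤ Cfsg.piCoreOf (Cfsg.primesNotDvd (Nat.card (Cfsg.fittingOf H))) R ∧
        ¬ q ∣ Q'.relIndex (Cfsg.piCoreOf (Cfsg.primesNotDvd (Nat.card (Cfsg.fittingOf H))) R)) := by
  classical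
  set F := Cfsg.fittingOf H with hFdef
  set K := Cfsg.piCoreOf (Cfsg.primesNotDvd (Nat.card F)) R with hKdef
  have hKR : K ≤ R := piCoreOf_le R
  have hMK : M ≤ normalizer (K : Set G) := hMR.trans (normalizer_le_normalizer_piCoreOf _ R)
  have hcopFK : (Nat.card F).Coprime (Nat.card K) := coprime_card_piCoreOf F R
  have hcopMK : (Nat.card M).Coprime (Nat.card K) :=
    Nat.Coprime.coprime_dvd_left (Subgroup.card_dvd_of_le hM) hcopFK
  have hKsolv : Group.IsSolvable K :=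
    Group.isSolvable_of_isSolvable_injective (Subgroup.inclusion_injective hKR)
  obtain ⟨P₀, hP₀⟩ := Cfsg.Agent.S0023.result M K hMK hcopMK (Or.inr hKsolv) q
  set Q₀ : Subgroup G := (P₀ : Subgroup K).map K.subtype with hQ₀def
  have hQ₀K : Q₀ ≤ K := Subgroup.map_subtype_le _
  have hQ₀q : IsPGroup q Q₀ := P₀.isPGroup'.map _
  obtain ⟨t, ht⟩ : ∃ t, t ∈ (Nat.card F).primeFactors :=
    Finset.card_pos.mp (by omega)
  have htp : t.Prime := Nat.prime_of_mem_primeFactors ht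
  have htF : t ∣ Nat.card F := Nat.dvd_of_mem_primeFactors ht
  have htf : Fact t.Prime := ⟨htp⟩
  have hCK : K ⊓ centralizer (M : Set G) = ⊥ := by
    have h1 := inf_centralizer_Mt_eq_bot hmax hM hCM hR hXR hKR hMK hcopFK.symm htF
    rw [eq_bot_iff, ← h1]
    exact inf_le_inf_left K (Subgroup.centralizer_le inf_le_left)
  have key : ∀ Q' ∈ Cfsg.invSubgroups R M {q}, Q' ≤ Q₀ := by
    intro Q' hQ'
    have hQ'p : IsPGroup q Q' := isPGroup_of_mem_invSubgroups hQ'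
    obtain ⟨hQ'R, _, hMQ'⟩ := hQ'
    have hQ'K : Q' ≤ K := le_piCoreOf_of_inv hmax hF2 hM hCM hR hMR hXR hqF hQ'R hQ'p hMQ'
    obtain ⟨P, hQ'P, hMP⟩ :=
      Cfsg.Agent.S0025.result M K hMK hcopMK (Or.inr hKsolv) q Q' hQ'K hQ'p hMQ'
    obtain ⟨c, hcC, hcP⟩ :=
      Cfsg.Agent.S0024.result M K hMK hcopMK (Or.inr hKsolv) q P₀ P hP₀ hMP
    have hc1 : (c : G) = 1 := by
      have : (c : G) ∈ K ⊓ centralizer (M : Set G) := Subgroup.mem_inf.mpr ⟨c.2, hcC⟩
      rwa [hCK, Subgroup.mem_bot] at this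
    have hc1' : c = 1 := Subtype.ext hc1
    rw [hc1', map_one, one_smul] at hcP
    rw [← hcP] at hQ'P
    exact hQ'P
  have hQ₀inv : Q₀ ∈ Cfsg.invSubgroups R M {q} :=
    ⟨hQ₀K.trans hKR, primes_of_isPGroup hq.out hQ₀q, hP₀⟩
  have hQ₀max : Q₀ ∈ Cfsg.maxInvSubgroups R M {q} :=
    ⟨hQ₀inv, fun R' hR' hle => le_antisymm (key R' hR') hle⟩
  have huniq : ∀ Q' ∈ Cfsg.maxInvSubgroups R M {q}, Q' = Q₀ := fun Q' hQ' =>
    (hQ'.2 Q₀ hQ₀inv (key Q' hQ'.1)).symm
  refine ⟨Q₀, ⟨hQ₀max, ?_⟩, fun Q hQ => huniq Q hQ.1⟩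
  intro Q' hQ'
  rw [huniq Q' hQ']
  refine ⟨hQ₀K, ?_⟩
  have h1 : Q₀.subgroupOf K = (P₀ : Subgroup K) := subgroupOf_map_subtype_self K _
  unfold Subgroup.relIndex
  rw [h1]
  exact P₀.not_dvd_index

end Cfsg.Agent.Lib.Helper29.BenderL
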