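import Mathlib
import Cfsg.Prelude.Def_GeometricClasses
import Cfsg.Agent.Lib.Helper5.TMCalc
import Cfsg.Agent.Lib.Helper18.C2Defs
import Cfsg.Agent.Lib.Helper23.C2Swap
import Cfsg.Agent.Lib.Helper29.C2L4cd

/-!
# S5634, case m ≥ 2 (helper18's C2A market), leaf L4d (helper29)

`full_all`: exact signature of the blueprint, from `full_all_of` (helper29) and helper23's
block transposition `exists_swap` (leaf L4b).
-/

set_option autoImplicit false

namespace Cfsg.Agent.Lib.Helper29.C2Leaf
open Cfsg Matrix Cfsg.Agent.Lib.Helper5.TMCalc Cfsg.Agent.Lib.Helper18.C2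

variable {F : Type*} [Field F] {n t m : ℕ} {D : Fin t → Submodule F (Fin n → F)}

/-- L4d: one ordered pair gives all ordered pairs (from L4b + L4c). -/
theorem full_all (hD : Cfsg.Geo.IsMDecomposition m D) {M : Subgroup (GL (Fin n) F)}
    (hHM : Hs D ≤ M) {k i : Fin t} (hki : k ≠ i) (h : Full D M k i) :
    ∀ k' i' : Fin t, k' ≠ i' → Full D M k' i' :=
  full_all_of hD hHM
    (fun a b hab => Cfsg.Agent.Lib.Helper23.C2Leaf.exists_swap hD a b hab) hki h

end Cfsg.Agent.Lib.Helper29.C2Leaf
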