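import Cfsg.Agent.Lib.Helper29.CFunA
import Cfsg.Prelude.Def_ConjugacyFunctors

/-!
# Transport of the centric characteristic subgroup along injective homomorphisms (helper29)
-/

set_option autoImplicit false
open scoped commutatorElement

namespace Cfsg.Agent.Lib.Helper29.CFun

section transport
variable {Q G : Type*} [Group Q] [Group G]

theorem map_le_normalizer_map_iff (f : Q →* G) (hf : Function.Injective f) (C A : Subgroup Q) :
    C.map f ≤ Subgroup.normalizer ((A.map f : Subgroup G) : Set G) ↔
      C ≤ Subgroup.normalizer (A : Set Q) := by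
  constructor
  · intro h c hc
    have h1 := h (Subgroup.mem_map_of_mem f hc)
    rw [Subgroup.mem_normalizer_iff] at h1 ⊢
    intro x
    have h2 := h1 (f x)
    rw [Subgroup.mem_map_iff_mem hf] at h2
    rw [h2]
    have e : f c * f x * (f c)⁻¹ = f (c * x * c⁻¹) := by simp
    rw [e, Subgroup.mem_map_iff_mem hf]
  · intro h
    exact (Subgroup.map_mono h).trans (Subgroup.le_normalizer_map f)

theorem fam_map_iff (f : Q →* G) (hf : Function.Injective f) (C Z A : Subgroup Q) :
    Fam (C.map f) (Z.map f) (A.map f) ↔ Fam C Z A := by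
  have hq : ∀ y : Q,
      (⁅⁅A.map f, Subgroup.zpowers (f y)⁆, Subgroup.zpowers (f y)⁆ ≤ Z.map f ↔
        ⁅⁅A, Subgroup.zpowers y⁆, Subgroup.zpowers y⁆ ≤ Z) ∧
      (⁅A.map f, Subgroup.zpowers (f y)⁆ ≤ Z.map f ↔ ⁅A, Subgroup.zpowers y⁆ ≤ Z) := by
    intro y
    rw [← MonoidHom.map_zpowers, ← Subgroup.map_commutator, ← Subgroup.map_commutator,
      Subgroup.map_le_map_iff_of_injective hf, Subgroup.map_le_map_iff_of_injective hf]
    exact ⟨Iff.rfl, Iff.rfl⟩
  constructor
  · rintro ⟨h1, h2, h3, h4, h5⟩
    refine ⟨(Subgroup.map_le_map_iff_of_injective hf).mp h1,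
      (Subgroup.map_le_map_iff_of_injective hf).mp h2,
      (map_le_normalizer_map_iff f hf C A).mp h3, ?_, ?_⟩
    · rw [← Subgroup.map_commutator, Subgroup.map_le_map_iff_of_injective hf] at h4
      exact h4
    · intro y hy hqy
      exact (hq y).2.mp (h5 (f y) (Subgroup.mem_map_of_mem f hy) ((hq y).1.mpr hqy))
  · rintro ⟨h1, h2, h3, h4, h5⟩
    refine ⟨Subgroup.map_mono h1, Subgroup.map_mono h2,
      (map_le_normalizer_map_iff f hf C A).mpr h3, ?_, ?_⟩
    · rw [← Subgroup.map_commutator]
      exact Subgroup.map_mono h4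
    · rintro _ ⟨y, hy, rfl⟩ hqy
      exact (hq y).2.mpr (h5 y hy ((hq y).1.mp hqy))

theorem dRel_map (f : Q →* G) (hf : Function.Injective f) (C Z : Subgroup Q) :
    (dRel C Z).map f = dRel (C.map f) (Z.map f) := by
  apply le_antisymm
  · unfold dRel
    rw [(Subgroup.gc_map_comap f).l_sSup]
    apply iSup₂_le
    intro A hA
    exact le_sSup ((fam_map_iff f hf C Z A).mpr hA)
  · apply sSup_le
    intro B hB
    have hBr : B ≤ f.range := hB.leC.trans (Subgroup.map_le_range f C)
    have hBe : (B.comap f).map f = B := Subgroup.map_comap_eq_self hBr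
    rw [← hBe] at hB ⊢
    exact Subgroup.map_mono ((fam_map_iff f hf C Z _).mp hB).le_dRel

theorem map_inf_centralizer (f : Q →* G) (hf : Function.Injective f) (T W : Subgroup Q) :
    (T ⊓ Subgroup.centralizer (W : Set Q)).map f =
      T.map f ⊓ Subgroup.centralizer ((W.map f : Subgroup G) : Set G) := by
  ext y
  constructor
  · rintro ⟨t, ⟨ht, hc⟩, rfl⟩
    refine ⟨Subgroup.mem_map_of_mem f ht, Subgroup.mem_centralizer_iff.mpr ?_⟩
    rintro _ ⟨w, hw, rfl⟩
    rw [← map_mul, ← map_mul, Subgroup.mem_centralizer_iff.mp hc w hw]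
  · rintro ⟨⟨t, ht, rfl⟩, hc⟩
    refine ⟨t, ⟨ht, Subgroup.mem_centralizer_iff.mpr ?_⟩, rfl⟩
    intro w hw
    apply hf
    rw [map_mul, map_mul]
    exact Subgroup.mem_centralizer_iff.mp hc _ (Subgroup.mem_map_of_mem f hw)

theorem stepIn_map (f : Q →* G) (hf : Function.Injective f) (T W : Subgroup Q) :
    (stepIn T W).map f = stepIn (T.map f) (W.map f) := by
  unfold stepIn
  rw [Subgroup.map_sup, dRel_map f hf, map_inf_centralizer f hf, map_inf_centralizer f hf]

theorem iter_map (f : Q →* G) (hf : Function.Injective f) (T : Subgroup Q) (n : ℕ) :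
    ((stepIn T)^[n] ⊥).map f = (stepIn (T.map f))^[n] ⊥ := by
  induction n with
  | zero => simp
  | succ n ih =>
    rw [Function.iterate_succ_apply', Function.iterate_succ_apply', stepIn_map f hf, ih]

theorem kIn_map (f : Q →* G) (hf : Function.Injective f) (T : Subgroup Q) :
    (kIn T).map f = kIn (T.map f) := by
  unfold kIn
  rw [iter_map f hf, Subgroup.card_map_of_injective hf]

end transport

section conj
variable {G : Type*} [Group G]

theorem mem_normalizer_of_map_conj (A : Subgroup G) (g : G)
    (h : A.map (MulAut.conj g).toMonoidHom = A) : g ∈ Subgroup.normalizer (A : Set G) := by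
  rw [Subgroup.mem_normalizer_iff]
  intro x
  constructor
  · intro hx
    rw [← h]
    exact ⟨x, hx, by simp⟩
  · intro hx
    rw [← h] at hx
    obtain ⟨y, hy, hyx⟩ := hx
    have : y = x := by
      have : g * y * g⁻¹ = g * x * g⁻¹ := by simpa using hyx
      simpa using this
    rwa [← this]

theorem map_conj_of_mem_normalizer (A : Subgroup G) (g : G)
    (h : g ∈ Subgroup.normalizer (A : Set G)) : A.map (MulAut.conj g).toMonoidHom = A := by
  ext x
  constructor
  · rintro ⟨y, hy, rfl⟩
    exact (Subgroup.mem_normalizer_iff.mp h y).mp hy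
  · intro hx
    refine ⟨g⁻¹ * x * g, ?_, by simp [mul_assoc]⟩
    have := (Subgroup.mem_normalizer_iff.mp (inv_mem h) x).mp hx
    simpa using this

theorem map_conj_of_normal (A : Subgroup G) [hA : A.Normal] (g : G) :
    A.map (MulAut.conj g).toMonoidHom = A :=
  map_conj_of_mem_normalizer A g (by rw [Subgroup.normalizer_eq_top]; exact Subgroup.mem_top g)

theorem mem_normalizer_dRel (C Z : Subgroup G) (g : G)
    (hC : C.map (MulAut.conj g).toMonoidHom = C) (hZ : Z.map (MulAut.conj g).toMonoidHom = Z) :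
    g ∈ Subgroup.normalizer ((dRel C Z : Subgroup G) : Set G) := by
  apply mem_normalizer_of_map_conj
  rw [dRel_map _ (MulAut.conj g).injective, hC, hZ]

theorem map_conj_inf_centralizer (T W : Subgroup G) (g : G)
    (hT : T.map (MulAut.conj g).toMonoidHom = T) (hW : W.map (MulAut.conj g).toMonoidHom = W) :
    (T ⊓ Subgroup.centralizer (W : Set G)).map (MulAut.conj g).toMonoidHom =
      T ⊓ Subgroup.centralizer (W : Set G) := by
  rw [map_inf_centralizer _ (MulAut.conj g).injective, hT, hW]

end conj

section functor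
universe u

/-- the centric characteristic subgroup as a functor on groups -/
noncomputable def kFun (Q : Type u) [Group Q] : Subgroup Q := kIn (⊤ : Subgroup Q)

theorem inducedFunctor_kFun {G : Type u} [Group G] (P : Subgroup G) :
    Cfsg.inducedFunctor kFun P = kIn P := by
  unfold Cfsg.inducedFunctor kFun
  rw [kIn_map _ P.subtype_injective, ← MonoidHom.range_eq_map, Subgroup.range_subtype]

theorem kFun_map_equiv {Q R : Type u} [Group Q] [Group R] (φ : Q ≃* R) :
    (kFun Q).map φ.toMonoidHom = kFun R := by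
  unfold kFun
  rw [kIn_map _ φ.injective, Subgroup.map_top_of_surjective _ φ.surjective]

theorem kFun_characteristic (Q : Type u) [Group Q] : (kFun Q).Characteristic := by
  rw [Subgroup.characteristic_iff_map_eq]
  intro φ
  exact kFun_map_equiv φ

theorem kFun_centric {p : ℕ} [Fact p.Prime] (Q : Type u) [Group Q] [Finite Q] (hQ : IsPGroup p Q) :
    Subgroup.centralizer ((kFun Q : Subgroup Q) : Set Q) ≤ kFun Q := by
  have h := kIn_centric (T := (⊤ : Subgroup Q)) (hQ.to_subgroup _)
  rwa [top_inf_eq] at h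

theorem isCharPFunctor_kFun (p : ℕ) [Fact p.Prime] : Cfsg.IsCharPFunctor.{u} p kFun := by
  refine ⟨?_, ?_⟩
  · intro Q _ _ hQ hnt hbot
    have h := kFun_centric Q hQ
    rw [hbot] at h
    have h2 : Subgroup.centralizer (((⊥ : Subgroup Q) : Subgroup Q) : Set Q) = ⊤ := by
      rw [eq_top_iff]
      intro x _
      rw [Subgroup.mem_centralizer_iff]
      intro y hy
      rw [Subgroup.coe_bot, Set.mem_singleton_iff] at hy
      rw [hy, one_mul, mul_one]
    rw [h2, top_le_iff] at h
    have := hnt
    exact bot_ne_top h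
  · intro Q R _ _ _ _ φ
    exact kFun_map_equiv φ

end functor

end Cfsg.Agent.Lib.Helper29.CFun
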