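import Cfsg.Agent.Lib.Helper29.CFunB
import Cfsg.Agent.Lib.Helper17.WStable4

/-!
# Normality of the centric characteristic subgroup in Thompson's minimal configuration (helper29)
-/

set_option autoImplicit false
open scoped commutatorElement

namespace Cfsg.Agent.Lib.Helper29.CFun

section config
variable {Y : Type*} [Group Y] [Finite Y] {p : ℕ} [Fact p.Prime]

theorem pCore_le_syl (T : Sylow p Y) : Cfsg.pCore p Y ≤ (T : Subgroup Y) := by
  apply sSup_le
  rintro N ⟨hN, hNp⟩
  exact hNp.le_sylow_of_normal T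

theorem dichotomy (T : Sylow p Y) (hT : IsCoatom (T : Subgroup Y)) (N : Subgroup Y) [hN : N.Normal] :
    N ≤ Cfsg.pCore p Y ∨ N ⊔ (T : Subgroup Y) = ⊤ := by
  rcases hT.le_iff.mp (le_sup_right : (T : Subgroup Y) ≤ N ⊔ (T : Subgroup Y)) with h | h
  · exact Or.inr h
  · left
    have hNT : N ≤ (T : Subgroup Y) := by rw [← h]; exact le_sup_left
    exact Cfsg.Agent.Lib.Helper17.le_pCore N hN (T.2.to_le hNT)

theorem eq_one_of_mem_of_coprime {P : Subgroup Y} (hP : IsPGroup p P) {r : Y} (hr : r ∈ P)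
    (hc : (orderOf r).Coprime p) : r = 1 := by
  obtain ⟨k, hk⟩ := hP ⟨r, hr⟩
  have hk' : r ^ p ^ k = 1 := by simpa using congrArg Subtype.val hk
  have h1 : orderOf r ∣ p ^ k := orderOf_dvd_of_pow_eq_one hk'
  have h2 : orderOf r = 1 := Nat.Coprime.eq_one_of_dvd (Nat.Coprime.pow_right k hc) h1
  exact orderOf_eq_one_iff.mp h2

theorem coprime_mem (T : Sylow p Y) (N : Subgroup Y) [hN : N.Normal]
    (h : N ⊔ (T : Subgroup Y) = ⊤) (g : Y) (hg : (orderOf g).Coprime p) : g ∈ N := by
  have hQ : IsPGroup p (Y ⧸ N) := by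
    intro yb
    obtain ⟨y, rfl⟩ := QuotientGroup.mk_surjective yb
    have hy : y ∈ N ⊔ (T : Subgroup Y) := by rw [h]; exact Subgroup.mem_top y
    rw [← SetLike.mem_coe, Subgroup.normal_mul] at hy
    obtain ⟨n, hn, t, ht, rfl⟩ := Set.mem_mul.mp hy
    obtain ⟨k, hk⟩ := T.2 ⟨t, ht⟩
    have hk' : t ^ p ^ k = 1 := by simpa using congrArg Subtype.val hk
    refine ⟨k, ?_⟩
    have e : ((n * t : Y) : Y ⧸ N) = (t : Y ⧸ N) := by
      rw [QuotientGroup.mk_mul, (QuotientGroup.eq_one_iff n).mpr hn, one_mul]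
    rw [e, ← QuotientGroup.mk_pow, hk', QuotientGroup.mk_one]
  obtain ⟨k, hk⟩ := hQ (g : Y ⧸ N)
  have h1 : orderOf (g : Y ⧸ N) ∣ p ^ k := orderOf_dvd_of_pow_eq_one hk
  have h2 : orderOf (g : Y ⧸ N) ∣ orderOf g := orderOf_map_dvd (QuotientGroup.mk' N) g
  have h3 : (orderOf (g : Y ⧸ N)).Coprime (p ^ k) :=
    Nat.Coprime.coprime_dvd_left h2 (Nat.Coprime.pow_right k hg)
  have h4 : orderOf (g : Y ⧸ N) = 1 := Nat.Coprime.eq_one_of_dvd h3 h1
  exact (QuotientGroup.eq_one_iff g).mp (orderOf_eq_one_iff.mp h4)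

theorem exists_coprime_elt (T : Sylow p Y) (hT : (T : Subgroup Y) ≠ ⊤) :
    ∃ r : Y, r ≠ 1 ∧ (orderOf r).Coprime p := by
  have hp : p.Prime := Fact.out
  have hidx : (T : Subgroup Y).index ≠ 1 := fun h => hT (Subgroup.index_eq_one.mp h)
  have hnd : ¬ p ∣ (T : Subgroup Y).index := T.not_dvd_index
  have hqp : (Nat.minFac (T : Subgroup Y).index).Prime := Nat.minFac_prime hidx
  have hqd : Nat.minFac (T : Subgroup Y).index ∣ Nat.card Y :=
    (Nat.minFac_dvd _).trans (Subgroup.index_dvd_card _)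
  have hqne : Nat.minFac (T : Subgroup Y).index ≠ p := by
    intro h
    apply hnd
    have := Nat.minFac_dvd (T : Subgroup Y).index
    rwa [h] at this
  obtain ⟨q, hq⟩ : ∃ q, q = Nat.minFac (T : Subgroup Y).index := ⟨_, rfl⟩
  rw [← hq] at hqp hqd hqne
  have : Fact q.Prime := ⟨hqp⟩
  obtain ⟨r, hr⟩ := exists_prime_orderOf_dvd_card' q hqd
  refine ⟨r, ?_, ?_⟩
  · intro h
    rw [h, orderOf_one] at hr
    exact hqp.one_lt.ne hr
  · rw [hr]
    exact (Nat.coprime_primes hqp hp).mpr hqne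

theorem coprime_centralizes (A Z : Subgroup Y) (hZ : IsPGroup p Z) (r : Y)
    (hr : (orderOf r).Coprime p) (h1 : ∀ u ∈ A, ⁅u, r⁆ ∈ Z) (h2 : ∀ z ∈ Z, z * r = r * z) :
    ∀ u ∈ A, u * r = r * u := by
  intro u hu
  obtain ⟨k, hk⟩ := hZ ⟨⁅u, r⁆, h1 u hu⟩
  have hk' : (u * r * u⁻¹ * r⁻¹) ^ p ^ k = 1 := by
    have := congrArg Subtype.val hk
    simpa [commutatorElement_def] using this
  apply Cfsg.Agent.Lib.Helper12.comm_of_coprime_of_comm_commutator r u (orderOf r) k hr
    (pow_orderOf_eq_one r) hk'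
  have := h2 _ (h1 u hu)
  rw [commutatorElement_def] at this
  exact this.symm

theorem sectionKernel_normal (K N : Subgroup Y) [hK : K.Normal] [hN : N.Normal] :
    (Cfsg.sectionKernel K N).Normal := by
  unfold Cfsg.sectionKernel
  have : (K.map (QuotientGroup.mk' N)).Normal := hK.map _ (QuotientGroup.mk'_surjective N)
  exact Subgroup.Normal.comap inferInstance _

variable {q : ℕ} [Fact q.Prime]

theorem quad_mem_pCore (hp2 : p ≠ 2) (hpq : p ≠ q) (hD : Cfsg.Agent.Lib.Helper12.IsPQAb p q Y)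
    (K N : Subgroup Y) [hK : K.Normal] [hN : N.Normal] (hKp : IsPGroup p K)
    (hk : Cfsg.sectionKernel K N ≤ Cfsg.pCore p Y) (a : Y)
    (hquad : ⁅⁅K, Subgroup.zpowers a⁆, Subgroup.zpowers a⁆ ≤ N) : a ∈ Cfsg.pCore p Y := by
  obtain ⟨D, hDn, hle, ⟨k, hk'⟩, ha⟩ :=
    Cfsg.Agent.Lib.Helper17.isPStableOnSection_of_isPQAb hp2 hpq hD K N hKp a hquad
  have hSp : IsPGroup p ↥(Cfsg.sectionKernel K N) :=
    (Cfsg.Agent.Lib.Helper17.pCore_isPGroup p Y).to_le hk
  have hSp' : IsPGroup p ↥((Cfsg.sectionKernel K N).subgroupOf D) := hSp.comap_subtype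
  obtain ⟨j, hj⟩ := IsPGroup.iff_card.mp hSp'
  have hcard : Nat.card D = p ^ (j + k) := by
    rw [← Subgroup.card_mul_index ((Cfsg.sectionKernel K N).subgroupOf D), hj]
    have : ((Cfsg.sectionKernel K N).subgroupOf D).index = p ^ k := hk'
    rw [this, pow_add]
  have hDp : IsPGroup p D := IsPGroup.of_card hcard
  exact Cfsg.Agent.Lib.Helper17.le_pCore D hDn hDp ha

theorem dRel_normal_of_config (hp2 : p ≠ 2) (hpq : p ≠ q)
    (hD : Cfsg.Agent.Lib.Helper12.IsPQAb p q Y)
    (hc : Subgroup.centralizer ((Cfsg.pCore p Y : Subgroup Y) : Set Y) ≤ Cfsg.pCore p Y)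
    (T : Sylow p Y) (hT : IsCoatom (T : Subgroup Y)) (W : Subgroup Y) [hWn : W.Normal]
    (hWT : W ≤ (T : Subgroup Y)) :
    (dRel ((T : Subgroup Y) ⊓ Subgroup.centralizer (W : Set Y))
      (W ⊓ Subgroup.centralizer (W : Set Y))).Normal := by
  have hHn : (Cfsg.pCore p Y).Normal := Cfsg.Agent.Lib.Helper17.pCore_normal p Y
  have hHp : IsPGroup p ↥(Cfsg.pCore p Y) := Cfsg.Agent.Lib.Helper17.pCore_isPGroup p Y
  have hHT : Cfsg.pCore p Y ≤ (T : Subgroup Y) := pCore_le_syl T
  have hCn : (Subgroup.centralizer (W : Set Y)).Normal := inferInstance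
  have hZn : (W ⊓ Subgroup.centralizer (W : Set Y)).Normal := inferInstance
  have hZCT := zw_le (T := (T : Subgroup Y)) hWT
  have hCTZ := cw_le_normalizer (T : Subgroup Y) W
  have hfam := dRel_mem_fam hZCT hCTZ
  have hWp : IsPGroup p W := T.2.to_le hWT
  have hZp : IsPGroup p ↥(W ⊓ Subgroup.centralizer (W : Set Y)) := hWp.to_le inf_le_left
  have hWH : W ≤ Cfsg.pCore p Y := Cfsg.Agent.Lib.Helper17.le_pCore W hWn hWp
  -- `T` normalizes the subgroup
  have hTN : (T : Subgroup Y) ≤ Subgroup.normalizer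
      ((dRel ((T : Subgroup Y) ⊓ Subgroup.centralizer (W : Set Y))
        (W ⊓ Subgroup.centralizer (W : Set Y)) : Subgroup Y) : Set Y) := by
    intro t ht
    apply mem_normalizer_dRel
    · apply map_conj_inf_centralizer
      · exact map_conj_of_mem_normalizer _ t (Subgroup.le_normalizer ht)
      · exact map_conj_of_normal W t
    · exact map_conj_of_normal _ t
  obtain ⟨r, hr1, hrc⟩ := exists_coprime_elt T hT.1
  have hrT : r ∉ (T : Subgroup Y) := fun h => hr1 (eq_one_of_mem_of_coprime T.2 h hrc)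
  have hcrit : r ∈ Subgroup.normalizer
      ((dRel ((T : Subgroup Y) ⊓ Subgroup.centralizer (W : Set Y))
        (W ⊓ Subgroup.centralizer (W : Set Y)) : Subgroup Y) : Set Y) →
      (dRel ((T : Subgroup Y) ⊓ Subgroup.centralizer (W : Set Y))
        (W ⊓ Subgroup.centralizer (W : Set Y))).Normal := by
    intro hrN
    have h1 : (T : Subgroup Y) < Subgroup.normalizer
      ((dRel ((T : Subgroup Y) ⊓ Subgroup.centralizer (W : Set Y))
        (W ⊓ Subgroup.centralizer (W : Set Y)) : Subgroup Y) : Set Y) := by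
      refine lt_of_le_of_ne hTN (fun he => hrT ?_)
      rw [he]
      exact hrN
    exact Subgroup.normalizer_eq_top_iff.mp (hT.2 _ h1)
  rcases dichotomy T hT (Subgroup.centralizer (W : Set Y)) with hCH | hCtop
  · -- the centralizer of `W` is a normal `p`-subgroup
    have hCTeq : (T : Subgroup Y) ⊓ Subgroup.centralizer (W : Set Y) =
        Subgroup.centralizer (W : Set Y) := inf_eq_right.mpr (hCH.trans hHT)
    constructor
    intro a ha g
    have := mem_normalizer_dRel ((T : Subgroup Y) ⊓ Subgroup.centralizer (W : Set Y))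
      (W ⊓ Subgroup.centralizer (W : Set Y)) g
      (by rw [hCTeq]; exact map_conj_of_normal _ g) (map_conj_of_normal _ g)
    exact (Subgroup.mem_normalizer_iff.mp this a).mp ha
  · have hrC : r ∈ Subgroup.centralizer (W : Set Y) := coprime_mem T _ hCtop r hrc
    have hrZ : ∀ z ∈ W ⊓ Subgroup.centralizer (W : Set Y), z * r = r * z :=
      fun z hz => Subgroup.mem_centralizer_iff.mp hrC z hz.1
    -- the subgroup lies in `O_p`
    have hAsH : dRel ((T : Subgroup Y) ⊓ Subgroup.centralizer (W : Set Y))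
        (W ⊓ Subgroup.centralizer (W : Set Y)) ≤ Cfsg.pCore p Y := by
      intro a ha
      have hza := Subgroup.zpowers_le.mpr ha
      have hquad : ⁅⁅Cfsg.pCore p Y, Subgroup.zpowers a⁆, Subgroup.zpowers a⁆ ≤
          W ⊓ Subgroup.centralizer (W : Set Y) := by
        have e1 : ⁅Cfsg.pCore p Y, Subgroup.zpowers a⁆ ≤
            dRel ((T : Subgroup Y) ⊓ Subgroup.centralizer (W : Set Y))
              (W ⊓ Subgroup.centralizer (W : Set Y)) :=
          (Subgroup.commutator_mono hHT hza).trans (commutator_le_right_of_le_normalizer hTN)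
        exact (Subgroup.commutator_mono e1 hza).trans hfam.ab
      have := sectionKernel_normal (Cfsg.pCore p Y) (W ⊓ Subgroup.centralizer (W : Set Y))
      rcases dichotomy T hT (Cfsg.sectionKernel (Cfsg.pCore p Y)
          (W ⊓ Subgroup.centralizer (W : Set Y))) with hk | hk
      · exact quad_mem_pCore hp2 hpq hD _ _ hHp hk a hquad
      · exfalso
        have hr1' := coprime_mem T _ hk r hrc
        rw [Cfsg.Agent.Lib.Helper17.mem_sectionKernel_iff] at hr1'
        have hcent := coprime_centralizes (Cfsg.pCore p Y) _ hZp r hrc hr1' hrZ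
        have hrH : r ∈ Cfsg.pCore p Y :=
          hc (Subgroup.mem_centralizer_iff.mpr (fun u hu => hcent u hu))
        exact hr1 (eq_one_of_mem_of_coprime hHp hrH hrc)
    -- the analogous subgroup of the normal subgroup `O_p ⊓ C(W)`
    have hHCn : (Cfsg.pCore p Y ⊓ Subgroup.centralizer (W : Set Y)).Normal := inferInstance
    have hZHC : W ⊓ Subgroup.centralizer (W : Set Y) ≤
        Cfsg.pCore p Y ⊓ Subgroup.centralizer (W : Set Y) := inf_le_inf_right _ hWH
    have hHCT : Cfsg.pCore p Y ⊓ Subgroup.centralizer (W : Set Y) ≤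
        (T : Subgroup Y) ⊓ Subgroup.centralizer (W : Set Y) := inf_le_inf_right _ hHT
    have hfam1 := dRel_mem_fam hZHC (hHCT.trans hCTZ)
    have hA1n : (dRel (Cfsg.pCore p Y ⊓ Subgroup.centralizer (W : Set Y))
        (W ⊓ Subgroup.centralizer (W : Set Y))).Normal := by
      constructor
      intro a ha g
      have := mem_normalizer_dRel (Cfsg.pCore p Y ⊓ Subgroup.centralizer (W : Set Y))
        (W ⊓ Subgroup.centralizer (W : Set Y)) g
        (map_conj_of_normal _ g) (map_conj_of_normal _ g)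
      exact (Subgroup.mem_normalizer_iff.mp this a).mp ha
    have hAsA1 : dRel ((T : Subgroup Y) ⊓ Subgroup.centralizer (W : Set Y))
        (W ⊓ Subgroup.centralizer (W : Set Y)) ≤
        dRel (Cfsg.pCore p Y ⊓ Subgroup.centralizer (W : Set Y))
          (W ⊓ Subgroup.centralizer (W : Set Y)) :=
      (hfam.mono hHCT (le_inf hAsH (hfam.leC.trans inf_le_right))).le_dRel
    have hA1p : IsPGroup p ↥(dRel (Cfsg.pCore p Y ⊓ Subgroup.centralizer (W : Set Y))
        (W ⊓ Subgroup.centralizer (W : Set Y))) := hHp.to_le (hfam1.leC.trans inf_le_left)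
    have := sectionKernel_normal (dRel (Cfsg.pCore p Y ⊓ Subgroup.centralizer (W : Set Y))
        (W ⊓ Subgroup.centralizer (W : Set Y))) (W ⊓ Subgroup.centralizer (W : Set Y))
    rcases dichotomy T hT (Cfsg.sectionKernel
        (dRel (Cfsg.pCore p Y ⊓ Subgroup.centralizer (W : Set Y))
          (W ⊓ Subgroup.centralizer (W : Set Y)))
        (W ⊓ Subgroup.centralizer (W : Set Y))) with hk | hk
    · have hfam2 : Fam ((T : Subgroup Y) ⊓ Subgroup.centralizer (W : Set Y))
          (W ⊓ Subgroup.centralizer (W : Set Y))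
          (dRel (Cfsg.pCore p Y ⊓ Subgroup.centralizer (W : Set Y))
            (W ⊓ Subgroup.centralizer (W : Set Y))) := by
        refine ⟨hfam1.le, hfam1.leC.trans hHCT, ?_, hfam1.ab, ?_⟩
        · rw [Subgroup.normalizer_eq_top_iff.mpr hA1n]
          exact le_top
        · intro x hx hq
          have hxH : x ∈ Cfsg.pCore p Y := quad_mem_pCore hp2 hpq hD _ _ hA1p hk x hq
          exact hfam1.quad x ⟨hxH, hx.2⟩ hq
      have he := le_antisymm hAsA1 hfam2.le_dRel
      rw [he]
      exact hA1n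
    · apply hcrit
      have hr2 := coprime_mem T _ hk r hrc
      rw [Cfsg.Agent.Lib.Helper17.mem_sectionKernel_iff] at hr2
      have hcent := coprime_centralizes _ _ hZp r hrc hr2 hrZ
      apply Subgroup.centralizer_le_normalizer
      exact Subgroup.mem_centralizer_iff.mpr (fun u hu => hcent u (hAsA1 hu))

theorem stepIn_normal_of_config (hp2 : p ≠ 2) (hpq : p ≠ q)
    (hD : Cfsg.Agent.Lib.Helper12.IsPQAb p q Y)
    (hc : Subgroup.centralizer ((Cfsg.pCore p Y : Subgroup Y) : Set Y) ≤ Cfsg.pCore p Y)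
    (T : Sylow p Y) (hT : IsCoatom (T : Subgroup Y)) (W : Subgroup Y) [hWn : W.Normal]
    (hWT : W ≤ (T : Subgroup Y)) : (stepIn (T : Subgroup Y) W).Normal := by
  have := dRel_normal_of_config hp2 hpq hD hc T hT W hWT
  unfold stepIn
  exact Subgroup.sup_normal _ _

theorem kIn_normal_of_config (hp2 : p ≠ 2) (hpq : p ≠ q)
    (hD : Cfsg.Agent.Lib.Helper12.IsPQAb p q Y)
    (hc : Subgroup.centralizer ((Cfsg.pCore p Y : Subgroup Y) : Set Y) ≤ Cfsg.pCore p Y)
    (T : Sylow p Y) (hT : IsCoatom (T : Subgroup Y)) : (kIn (T : Subgroup Y)).Normal := by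
  have h : ∀ n : ℕ, ((stepIn (T : Subgroup Y))^[n] ⊥).Normal := by
    intro n
    induction n with
    | zero => exact (inferInstance : (⊥ : Subgroup Y).Normal)
    | succ n ih =>
      rw [Function.iterate_succ_apply']
      have := ih
      exact stepIn_normal_of_config hp2 hpq hD hc T hT _ (iter_le _ n)
  exact h _

end config

section main
universe u

/-- If `N_G(K(P))` has a normal `p`-complement (`p` odd), so does `G`. -/
theorem npc_of_normalizer_kIn {G : Type u} [Group G] [Finite G] {p : ℕ} [Fact p.Prime] (hp : p ≠ 2)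
    (P : Sylow p G)
    (hN : Cfsg.HasNormalPComplement p
      ↥(Subgroup.normalizer ((kIn (P : Subgroup G) : Subgroup G) : Set G))) :
    Cfsg.HasNormalPComplement p G := by
  have hmin : ∀ (Y : Type u) [Group Y] [Finite Y], True →
      Subgroup.centralizer ((Cfsg.pCore p Y : Subgroup Y) : Set Y) ≤ Cfsg.pCore p Y →
      Cfsg.HasNormalPComplement p (Y ⧸ Cfsg.pCore p Y) →
      ∀ T : Sylow p Y, IsCoatom (T : Subgroup Y) →
        (Cfsg.inducedFunctor kFun (T : Subgroup Y)).Normal := by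
    intro Y _ _ _ hc hq T hT
    obtain ⟨q, hq', hpq, hsol, hdiv, hab⟩ :=
      Cfsg.Agent.Lib.Helper12.exists_prime_structure_of_coatom_sylow hq T hT
    have : Fact q.Prime := ⟨hq'⟩
    rw [inducedFunctor_kFun]
    exact kIn_normal_of_config hp hpq ⟨hsol, hdiv, hab⟩ hc T hT
  have := Cfsg.Agent.Lib.Helper12.hasNormalPComplement_of_minimal_sections kFun
    (isCharPFunctor_kFun p) (fun Y _ => True) (fun _ _ _ _ => trivial)
    (fun _ _ _ _ _ => trivial) hmin (Nat.card G) G rfl trivial P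
  apply this
  rw [inducedFunctor_kFun]
  exact hN

end main

end Cfsg.Agent.Lib.Helper29.CFun
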