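import Cfsg.Agent.Lib.Helper11.CTADefs

/-! S3351 CT-A leaf **STAB** (helper29): the stabilizer of `e_o` in `SL(I, F)` is generated by the transvections
`1 + t E_ab` with `b ≠ o`.  Induction on the set of frozen indices (row reduction). -/

set_option autoImplicit false

namespace Cfsg.Agent.Lib.Helper29.CTASTAB

open Matrix Cfsg.Agent.Lib.Helper11.CTA

variable {I : Type*} [Fintype I] [DecidableEq I] {F : Type*} [Field F]

/-- the transvections `tv a b t` with `b` outside the frozen set `O` -/
def genSet (O : Finset I) : Set (Matrix.SpecialLinearGroup I F) :=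
  {g | ∃ a b, a ≠ b ∧ b ∉ O ∧ ∃ t : F, g = tv a b t}

theorem tv_mem_genSet (O : Finset I) {a b : I} (hab : a ≠ b) (hb : b ∉ O) (t : F) :
    tv a b t ∈ Subgroup.closure (genSet (F := F) O) :=
  Subgroup.subset_closure ⟨a, b, hab, hb, t, rfl⟩

theorem coe_mul_mulVec (g h : Matrix.SpecialLinearGroup I F) (v : I → F) :
    ((g * h : Matrix.SpecialLinearGroup I F) : Matrix I I F) *ᵥ v =
      (g : Matrix I I F) *ᵥ ((h : Matrix I I F) *ᵥ v) := by
  rw [Matrix.SpecialLinearGroup.coe_mul, Matrix.mulVec_mulVec]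

/-- clearing the entries off `c` of a vector with `v c = 1` -/
theorem clear_aux (H : Subgroup (Matrix.SpecialLinearGroup I F)) (c : I)
    (hH : ∀ a, a ≠ c → ∀ t : F, tv a c t ∈ H) (T : Finset I) :
    ∀ v : I → F, v c = 1 → (∀ a, a ∉ T → a ≠ c → v a = 0) →
      ∃ h ∈ H, (h : Matrix I I F) *ᵥ v = Pi.single c 1 := by
  induction T using Finset.induction_on with
  | empty =>
    intro v hvc hv
    refine ⟨1, H.one_mem, ?_⟩
    rw [Matrix.SpecialLinearGroup.coe_one, Matrix.one_mulVec]
    funext a
    by_cases hac : a = c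
    · subst hac
      rw [hvc, Pi.single_eq_same]
    · rw [hv a (Finset.notMem_empty a) hac, Pi.single_eq_of_ne hac]
  | insert a T ha ih =>
    intro v hvc hv
    by_cases hac : a = c
    · apply ih v hvc
      intro b hb hbc
      apply hv b _ hbc
      intro hb'
      rcases Finset.mem_insert.mp hb' with h | h
      · exact hbc (h.trans hac)
      · exact hb h
    · have hv' : ((tv a c (-v a) : Matrix.SpecialLinearGroup I F) : Matrix I I F) *ᵥ v =
          v + Pi.single a (-v a * v c) := tv_mulVec hac _ v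
      obtain ⟨h, hh, hhv⟩ := ih (v + Pi.single a (-v a * v c)) (by
          rw [Pi.add_apply, Pi.single_eq_of_ne (Ne.symm hac), add_zero, hvc]) (by
          intro b hb hbc
          by_cases hba : b = a
          · subst hba
            rw [Pi.add_apply, Pi.single_eq_same, hvc]
            ring
          · rw [Pi.add_apply, Pi.single_eq_of_ne hba, add_zero]
            apply hv b _ hbc
            intro hb'
            rcases Finset.mem_insert.mp hb' with h | h
            · exact hba h
            · exact hb h)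
      refine ⟨h * tv a c (-v a), H.mul_mem hh (hH a hac _), ?_⟩
      rw [coe_mul_mulVec, hv', hhv]

/-- a vector with a nonzero entry at `b ≠ c` can be moved to `e_c` -/
theorem reduce_aux (H : Subgroup (Matrix.SpecialLinearGroup I F)) (c b : I) (hbc : b ≠ c)
    (hH : ∀ a, a ≠ c → ∀ t : F, tv a c t ∈ H) (hH2 : ∀ t : F, tv c b t ∈ H)
    (v : I → F) (hvb : v b ≠ 0) :
    ∃ h ∈ H, (h : Matrix I I F) *ᵥ v = Pi.single c 1 := by
  have hv' : ((tv c b ((1 - v c) / v b) : Matrix.SpecialLinearGroup I F) : Matrix I I F) *ᵥ v =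
      v + Pi.single c ((1 - v c) / v b * v b) := tv_mulVec (Ne.symm hbc) _ v
  obtain ⟨h, hh, hhv⟩ := clear_aux H c hH Finset.univ (v + Pi.single c ((1 - v c) / v b * v b)) (by
      rw [Pi.add_apply, Pi.single_eq_same, div_mul_cancel₀ _ hvb]
      ring) (by
      intro a ha
      exact absurd (Finset.mem_univ a) ha)
  refine ⟨h * tv c b ((1 - v c) / v b), H.mul_mem hh (hH2 _), ?_⟩
  rw [coe_mul_mulVec, hv', hhv]

/-- the generators (hence the closure) fix the frozen basis vectors -/
theorem fix_of_mem (O : Finset I) {g : Matrix.SpecialLinearGroup I F}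
    (hg : g ∈ Subgroup.closure (genSet (F := F) O)) :
    ∀ j ∈ O, (g : Matrix I I F) *ᵥ Pi.single j 1 = Pi.single j 1 := by
  induction hg using Subgroup.closure_induction with
  | mem x hx =>
    obtain ⟨a, b, hab, hb, t, rfl⟩ := hx
    intro j hj
    rw [tv_mulVec hab]
    have h0 : (Pi.single j (1 : F) : I → F) b = 0 :=
      Pi.single_eq_of_ne (fun h : b = j => hb (by rw [h]; exact hj)) _
    rw [h0, mul_zero, Pi.single_zero, add_zero]
  | one =>
    intro j _
    rw [Matrix.SpecialLinearGroup.coe_one, Matrix.one_mulVec]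
  | mul x y _ _ hx hy =>
    intro j hj
    rw [coe_mul_mulVec, hy j hj, hx j hj]
  | inv x _ hx =>
    intro j hj
    have h1 := Cfsg.Agent.Lib.Helper8.StSL.sl_inv_mulVec x (Pi.single j (1 : F))
    rw [hx j hj] at h1
    exact h1

theorem entry_of_fix (k : Matrix.SpecialLinearGroup I F) {j : I}
    (hk : (k : Matrix I I F) *ᵥ Pi.single j 1 = Pi.single j 1) (i : I) :
    (k : Matrix I I F) i j = (1 : Matrix I I F) i j := by
  have h1 := congrFun hk i
  rw [Matrix.mulVec_single_one, Pi.single_apply] at h1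
  rw [Matrix.one_apply]
  exact h1

/-- if the column `c` of `k` is supported on `O ∪ {c}`, its `c`-entry is nonzero -/
theorem vc_ne_zero (O : Finset I) (c : I) (hc : c ∉ O) (k : Matrix.SpecialLinearGroup I F)
    (hk : ∀ j ∈ O, (k : Matrix I I F) *ᵥ Pi.single j 1 = Pi.single j 1)
    (v : I → F) (hvdef : (k : Matrix I I F) *ᵥ Pi.single c 1 = v)
    (hv : ∀ b, b ∉ O → b ≠ c → v b = 0) : v c ≠ 0 := by
  intro h0
  have hv0 : ∀ b, b ∉ O → v b = 0 := by
    intro b hb
    by_cases hbc : b = c
    · subst hbc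
      exact h0
    · exact hv b hb hbc
  have hkv : (k : Matrix I I F) *ᵥ v = v := by
    funext i
    have h1 : ∀ j ∈ Finset.univ, (k : Matrix I I F) i j * v j = (1 : Matrix I I F) i j * v j := by
      intro j _
      by_cases hj : j ∈ O
      · rw [entry_of_fix k (hk j hj) i]
      · rw [hv0 j hj, mul_zero, mul_zero]
    have h2 : ((k : Matrix I I F) *ᵥ v) i = ((1 : Matrix I I F) *ᵥ v) i :=
      Finset.sum_congr rfl h1
    rw [h2, Matrix.one_mulVec]
  have hve : v = Pi.single c 1 := by
    have h1 := Cfsg.Agent.Lib.Helper8.StSL.sl_inv_mulVec k v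
    have h2 := Cfsg.Agent.Lib.Helper8.StSL.sl_inv_mulVec k (Pi.single c (1 : F))
    rw [hkv] at h1
    rw [hvdef] at h2
    rw [← h1, h2]
  have h1 : v c = 1 := by rw [hve, Pi.single_eq_same]
  rw [h0] at h1
  exact zero_ne_one h1

/-- one step: fix one more basis vector -/
theorem step_aux (O : Finset I) (c : I) (hc : c ∉ O) (k : Matrix.SpecialLinearGroup I F)
    (hk : ∀ j ∈ O, (k : Matrix I I F) *ᵥ Pi.single j 1 = Pi.single j 1) :
    ∃ h ∈ Subgroup.closure (genSet (F := F) O),
      ((h * k : Matrix.SpecialLinearGroup I F) : Matrix I I F) *ᵥ Pi.single c 1 = Pi.single c 1 := by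
  have hH : ∀ a, a ≠ c → ∀ t : F, tv a c t ∈ Subgroup.closure (genSet (F := F) O) :=
    fun a hac t => tv_mem_genSet O hac hc t
  obtain ⟨v, hvdef⟩ : ∃ v : I → F, (k : Matrix I I F) *ᵥ Pi.single c 1 = v := ⟨_, rfl⟩
  suffices hs : ∃ h ∈ Subgroup.closure (genSet (F := F) O), (h : Matrix I I F) *ᵥ v = Pi.single c 1 by
    obtain ⟨h, hh, hhv⟩ := hs
    exact ⟨h, hh, by rw [coe_mul_mulVec, hvdef, hhv]⟩
  by_cases h1 : ∃ b, b ∉ O ∧ b ≠ c ∧ v b ≠ 0
  · obtain ⟨b, hbO, hbc, hvb⟩ := h1
    exact reduce_aux _ c b hbc hH (fun t => tv_mem_genSet O (Ne.symm hbc) hbO t) v hvb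
  · have h1' : ∀ b, b ∉ O → b ≠ c → v b = 0 := by
      intro b hbO hbc
      by_contra hvb
      exact h1 ⟨b, hbO, hbc, hvb⟩
    have hvc : v c ≠ 0 := vc_ne_zero O c hc k hk v hvdef h1'
    by_cases h2 : ∃ b, b ∉ O ∧ b ≠ c
    · obtain ⟨b, hbO, hbc⟩ := h2
      have hv' : ((tv b c 1 : Matrix.SpecialLinearGroup I F) : Matrix I I F) *ᵥ v =
          v + Pi.single b (1 * v c) := tv_mulVec hbc 1 v
      obtain ⟨h, hh, hhv⟩ := reduce_aux _ c b hbc hH
        (fun t => tv_mem_genSet O (Ne.symm hbc) hbO t) (v + Pi.single b (1 * v c)) (by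
          rw [Pi.add_apply, Pi.single_eq_same, h1' b hbO hbc, zero_add, one_mul]
          exact hvc)
      refine ⟨h * tv b c 1, mul_mem hh (hH b hbc 1), ?_⟩
      rw [coe_mul_mulVec, hv', hhv]
    · have h2' : ∀ b, b ∉ O → b = c := by
        intro b hbO
        by_contra hbc
        exact h2 ⟨b, hbO, hbc⟩
      have hk1 : (k : Matrix I I F) = (1 : Matrix I I F).updateCol c v := by
        ext i j
        rw [Matrix.updateCol_apply]
        by_cases hjc : j = c
        · subst hjc
          rw [if_pos rfl, ← hvdef, Matrix.mulVec_single_one]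
          rfl
        · rw [if_neg hjc]
          have hjO : j ∈ O := by
            by_contra hj
            exact hjc (h2' j hj)
          exact entry_of_fix k (hk j hjO) i
      have hdet : v c = 1 := by
        have h3 := k.2
        rw [hk1, ← Matrix.cramer_apply, Matrix.cramer_one] at h3
        exact h3
      exact clear_aux _ c hH Finset.univ v hdet (fun a ha => absurd (Finset.mem_univ a) ha)

theorem main_aux : ∀ (n : ℕ) (O : Finset I), (Finset.univ \ O).card = n →
    ∀ k : Matrix.SpecialLinearGroup I F,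
      (∀ j ∈ O, (k : Matrix I I F) *ᵥ Pi.single j 1 = Pi.single j 1) →
      k ∈ Subgroup.closure (genSet (F := F) O) := by
  intro n
  induction n with
  | zero =>
    intro O hO k hk
    have hall : ∀ j, j ∈ O := by
      intro j
      by_contra hj
      have h1 : j ∈ Finset.univ \ O := Finset.mem_sdiff.mpr ⟨Finset.mem_univ j, hj⟩
      rw [Finset.card_eq_zero] at hO
      rw [hO] at h1
      exact Finset.notMem_empty j h1
    have h1 : k = 1 := by
      apply Subtype.ext
      ext i j
      rw [Matrix.SpecialLinearGroup.coe_one]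
      exact entry_of_fix k (hk j (hall j)) i
    rw [h1]
    exact one_mem _
  | succ n ih =>
    intro O hO k hk
    have hne : (Finset.univ \ O).Nonempty := by
      rw [← Finset.card_pos, hO]
      exact Nat.succ_pos n
    obtain ⟨c, hc⟩ := hne
    have hcO : c ∉ O := (Finset.mem_sdiff.mp hc).2
    obtain ⟨h, hh, hhk⟩ := step_aux O c hcO k hk
    have hfix : ∀ j ∈ insert c O,
        ((h * k : Matrix.SpecialLinearGroup I F) : Matrix I I F) *ᵥ Pi.single j 1 = Pi.single j 1 := by
      intro j hj
      rcases Finset.mem_insert.mp hj with rfl | hj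
      · exact hhk
      · rw [coe_mul_mulVec, hk j hj, fix_of_mem O hh j hj]
    have hcard : (Finset.univ \ insert c O).card = n := by
      rw [Finset.card_univ_sdiff] at hO ⊢
      rw [Finset.card_insert_of_notMem hcO]
      omega
    have hmem := ih (insert c O) hcard (h * k) hfix
    have hmono : Subgroup.closure (genSet (F := F) (insert c O)) ≤
        Subgroup.closure (genSet (F := F) O) := by
      apply Subgroup.closure_mono
      rintro g ⟨a, b, hab, hb, t, rfl⟩
      exact ⟨a, b, hab, fun hbO => hb (Finset.mem_insert_of_mem hbO), t, rfl⟩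
    have h1 : k = h⁻¹ * (h * k) := by group
    rw [h1]
    exact mul_mem (inv_mem hh) (hmono hmem)

/-- LEAF **STAB**: the stabilizer of `e_o` is generated by the transvections `1 + t E_ab` with `b ≠ o`. -/
theorem stab_le_closure (o : I) (k : Matrix.SpecialLinearGroup I F)
    (hk : (k : Matrix I I F) *ᵥ Pi.single o 1 = Pi.single o 1) :
    k ∈ Subgroup.closure {g : Matrix.SpecialLinearGroup I F | ∃ a b, a ≠ b ∧ b ≠ o ∧ ∃ t : F, g = tv a b t} := by
  have h := main_aux _ ({o} : Finset I) rfl k (by
    intro j hj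
    rw [Finset.mem_singleton.mp hj]
    exact hk)
  refine Subgroup.closure_mono ?_ h
  rintro g ⟨a, b, hab, hb, t, rfl⟩
  exact ⟨a, b, hab, fun hbo => hb (Finset.mem_singleton.mpr hbo), t, rfl⟩

end Cfsg.Agent.Lib.Helper29.CTASTAB
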