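import Mathlib
import Cfsg.Agent.Lib.Helper6.ChevStX1

/-!
helper29, leaf L2 of helper28's S2441 market: for a finite Chevalley group of type
G₂, B₂, D₄, F₄, E₆, E₇, E₈ in characteristic `p`, the subgroup `Uc D F` (positive unipotent subgroup
inside `D.group F`) has order the full `p`-part of the group order, and `p` divides the group order.
Both follow from helper7's `posUnipotent_sylow` (S2326) and helper6's `card_Uc`-free facts.
-/

set_option autoImplicit false

namespace Cfsg.Agent.Lib.Helper29.ChevUSyl

open Cfsg Cfsg.Lie Cfsg.Agent.Lib.Helper7 Cfsg.Agent.Lib.Helper6.ChevStX1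

/-- `hUsyl`: `|U| = p ^ v_p(|G|)`. -/
theorem card_Uc_eq (D : ChevalleyDatum)
    (hD : D ∈ [chevG2, chevB2, chevD4, chevF4, chevE6, chevE7, chevE8])
    (F : Type*) [Field F] [Fintype F] (p : ℕ) [Fact p.Prime] [CharP F p] :
    Nat.card (Uc D F) = p ^ (Nat.card ↥(D.group F)).factorization p := by
  have := Cfsg.Agent.Lib.Helper6.ChevSt.finite_group D F
  obtain ⟨P, hP⟩ := posUnipotent_sylow D hD F p
  have h := P.card_eq_multiplicity
  rw [hP] at h
  exact h

/-- every datum of the seven-list has at least two roots -/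
theorem nroots_half_pos (D : ChevalleyDatum)
    (hD : D ∈ [chevG2, chevB2, chevD4, chevF4, chevE6, chevE7, chevE8]) : 0 < D.nroots / 2 := by
  simp only [List.mem_cons, List.not_mem_nil, or_false] at hD
  rcases hD with rfl | rfl | rfl | rfl | rfl | rfl | rfl <;> decide

/-- `0 < v_p(|G|)`. -/
theorem factorization_pos (D : ChevalleyDatum)
    (hD : D ∈ [chevG2, chevB2, chevD4, chevF4, chevE6, chevE7, chevE8])
    (F : Type*) [Field F] [Fintype F] (p : ℕ) [Fact p.Prime] [CharP F p] :
    0 < (Nat.card ↥(D.group F)).factorization p := by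
  rcases Nat.eq_zero_or_pos ((Nat.card ↥(D.group F)).factorization p) with h0 | h0
  · exfalso
    have h1 := card_Uc_eq D hD F p
    rw [h0, pow_zero, card_Uc D hD F] at h1
    have h2 : 1 < Fintype.card F ^ (D.nroots / 2) :=
      Nat.one_lt_pow (nroots_half_pos D hD).ne' Fintype.one_lt_card
    omega
  · exact h0

end Cfsg.Agent.Lib.Helper29.ChevUSyl
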