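import Cfsg.Agent.Lib.Helper29.Co2Cls
import Cfsg.Agent.Lib.Helper3.Cover.Sp6Main
import Cfsg.Agent.S0270

set_option autoImplicit false

/-!
# The centraliser of a 2A involution of `Co₂`: order, the normal subgroup `Q`, the quotient `Sp₆(2)`

In helper21's permutation group `P ≅ Co₂` on 4600 points: a chain of transversals shows `|C_P(t)| ≥ 743178240`, so the
centraliser has this order.  The kernel `Q` of its action on the 56 fixed points of `t` has order 512, and three elements
`a, b, c` of the centraliser satisfy helper3's presentation of `Sp₆(2)` modulo `Q`.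
-/

namespace Cfsg.Agent.Lib.Helper29.Co2Cent

open Cfsg MulAction
open Cfsg.Agent.Lib.Helper10.SX
open Cfsg.Agent.Lib.Helper4.McL (ChainOK chainSet chainSet_card chain_card_le)
open Cfsg.Agent.Lib.Helper29.Co2M
open Cfsg.Agent.Lib.Helper29.Co2CentData
open Cfsg.Agent.Lib.Helper3.Cover

noncomputable section

/-! ### the chain of the centraliser -/

/-- the first five levels: base points among the fixed points of the involution -/
def lvA : List (ℕ × List (List ℕ)) := [(0, lv1), (38, lv2), (60, lv3), (92, lv4), (126, lv5)]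

/-- the last two levels -/
def lvQ : List (ℕ × List (List ℕ)) := [(1, lv6), (2, lv7)]

/-- all the levels -/
def lvC : List (ℕ × List (List ℕ)) := lvA ++ lvQ

/-- a word fixes the fixed points of the involution -/
def fixB (w : List ℕ) : Bool := fixL.all fun x => evW w x == x

set_option maxRecDepth 1000000 in
theorem chainA : chainB lvA = true := by decide +kernel

set_option maxRecDepth 1000000 in
theorem chainQ : chainB lvQ = true := by decide +kernel

set_option maxRecDepth 1000000 in
theorem chainC : chainB lvC = true := by decide +kernel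

set_option maxRecDepth 1000000 in
theorem commC : (lvC.all fun q => q.2.all commB) = true := by decide +kernel

set_option maxRecDepth 1000000 in
theorem fixQ : (lvQ.all fun q => q.2.all fixB) = true := by decide +kernel

theorem prodC : (lvC.map fun q => q.2.length).prod = 743178240 := by decide +kernel

theorem prodA : (lvA.map fun q => q.2.length).prod = 1451520 := by decide +kernel

theorem prodQ : (lvQ.map fun q => q.2.length).prod = 512 := by decide +kernel

theorem map_length_toLvl (lv : List (ℕ × List (List ℕ))) :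
    ((lv.map toLvl).map fun q => q.2.length) = lv.map fun q => q.2.length := by
  rw [List.map_map]
  apply List.map_congr_left
  intro q _
  show (q.2.map gw).length = q.2.length
  rw [List.length_map]

theorem lv_mem_Ct (lv : List (ℕ × List (List ℕ))) (h : (lv.all fun q => q.2.all commB) = true) :
    ∀ q ∈ lv.map toLvl, ∀ g ∈ q.2, g ∈ Ct := by
  intro q hq g hg
  obtain ⟨q', hq', rfl⟩ := List.mem_map.mp hq
  obtain ⟨w, hw, rfl⟩ := List.mem_map.mp hg
  rw [List.all_eq_true] at h
  have h1 := h q' hq'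
  rw [List.all_eq_true] at h1
  exact mem_Ct_of_commB (h1 w hw)

theorem ncard_coe (K : Subgroup ↥P) : ((K : Subgroup ↥P) : Set ↥P).ncard = Nat.card ↥K := by
  rw [← Nat.card_coe_set_eq]; rfl

theorem card_Ct_ge : 743178240 ≤ Nat.card ↥Ct := by
  have h1 := chainSet_card (⊥ : Subgroup ↥P) (lvC.map toLvl) (chainB_sound lvC chainC)
    (fun q _ s hs => by rw [Subgroup.mem_bot.mp hs, one_smul])
  rw [map_length_toLvl, prodC, Subgroup.card_bot, mul_one] at h1
  have h3 := chainSet_subset' (⊥ : Subgroup ↥P) Ct bot_le (lvC.map toLvl) (lv_mem_Ct lvC commC)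
  have h4 := Set.ncard_le_ncard h3 (Set.toFinite _)
  rw [ncard_coe] at h4
  exact le_trans h1 h4

theorem card_Ct : Nat.card ↥Ct = 743178240 := le_antisymm card_Ct_le card_Ct_ge

/-! ### the kernel on the fixed points -/

theorem fixL_lt : ∀ x ∈ fixL, x < 4600 := by decide

/-- the kernel of the action of the centraliser on the fixed points of the involution -/
def Qp : Subgroup ↥P where
  carrier := {g | g ∈ Ct ∧ ∀ x ∈ fixL, g • fpt x = fpt x}
  one_mem' := ⟨Ct.one_mem, fun x _ => one_smul _ _⟩
  mul_mem' := by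
    rintro g h ⟨hg1, hg2⟩ ⟨hh1, hh2⟩
    exact ⟨Ct.mul_mem hg1 hh1, fun x hx => by rw [mul_smul, hh2 x hx, hg2 x hx]⟩
  inv_mem' := by
    rintro g ⟨hg1, hg2⟩
    exact ⟨Ct.inv_mem hg1, fun x hx => by rw [inv_smul_eq_iff, hg2 x hx]⟩

theorem Qp_le : Qp ≤ Ct := fun _ hg => hg.1

theorem mem_Qp_of {w : List ℕ} (h1 : commB w = true) (h2 : fixB w = true) : gw w ∈ Qp := by
  refine ⟨mem_Ct_of_commB h1, ?_⟩
  intro x hx
  unfold fixB at h2
  rw [List.all_eq_true] at h2
  apply Fin.ext
  rw [gw_smul_val, fpt_val (fixL_lt x hx)]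
  exact beq_iff_eq.mp (h2 x hx)

theorem all_append {α : Type*} (l₁ l₂ : List α) (p : α → Bool) (h : (l₁ ++ l₂).all p = true) :
    l₂.all p = true := by
  rw [List.all_append, Bool.and_eq_true] at h
  exact h.2

theorem lvQ_mem : ∀ q ∈ lvQ.map toLvl, ∀ g ∈ q.2, g ∈ Qp := by
  intro q hq g hg
  obtain ⟨q', hq', rfl⟩ := List.mem_map.mp hq
  obtain ⟨w, hw, rfl⟩ := List.mem_map.mp hg
  have h := all_append lvA lvQ _ commC
  rw [List.all_eq_true] at h
  have h1 := h q' hq'
  rw [List.all_eq_true] at h1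
  have h' := fixQ
  rw [List.all_eq_true] at h'
  have h2 := h' q' hq'
  rw [List.all_eq_true] at h2
  exact mem_Qp_of (h1 w hw) (h2 w hw)

theorem chainSetQ_sub : chainSet (⊥ : Subgroup ↥P) (lvQ.map toLvl) ⊆ (Qp : Set ↥P) :=
  chainSet_subset' (⊥ : Subgroup ↥P) Qp bot_le (lvQ.map toLvl) lvQ_mem

theorem chainSetQ_card : 512 ≤ (chainSet (⊥ : Subgroup ↥P) (lvQ.map toLvl)).ncard := by
  have h1 := chainSet_card (⊥ : Subgroup ↥P) (lvQ.map toLvl) (chainB_sound lvQ chainQ)
    (fun q _ s hs => by rw [Subgroup.mem_bot.mp hs, one_smul])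
  rwa [map_length_toLvl, prodQ, Subgroup.card_bot, mul_one] at h1

theorem card_Qp_ge : 512 ≤ Nat.card ↥Qp := by
  have h4 := Set.ncard_le_ncard chainSetQ_sub (Set.toFinite _)
  rw [ncard_coe] at h4
  exact le_trans chainSetQ_card h4

theorem lvA_fix : ∀ q ∈ lvA.map toLvl, ∀ s ∈ Qp, s • q.1 = q.1 := by
  intro q hq s hs
  obtain ⟨q', hq', rfl⟩ := List.mem_map.mp hq
  have : q'.1 ∈ fixL := by
    unfold lvA at hq'
    simp only [List.mem_cons, List.not_mem_nil, or_false] at hq'
    rcases hq' with rfl | rfl | rfl | rfl | rfl <;> decide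
  exact hs.2 q'.1 this

theorem card_Qp_le : Nat.card ↥Qp ≤ 512 := by
  have h1 := chainSet_card Qp (lvA.map toLvl) (chainB_sound lvA chainA) lvA_fix
  rw [map_length_toLvl, prodA] at h1
  have h3 := chainSet_subset' Qp Ct Qp_le (lvA.map toLvl)
    (lv_mem_Ct lvA (by
      have h := commC
      unfold lvC at h
      rw [List.all_append, Bool.and_eq_true] at h
      exact h.1))
  have h4 := Set.ncard_le_ncard h3 (Set.toFinite _)
  rw [ncard_coe, card_Ct] at h4
  have h5 : 1451520 * Nat.card ↥Qp ≤ 1451520 * 512 := le_trans h1 h4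
  exact Nat.le_of_mul_le_mul_left h5 (by norm_num)

theorem card_Qp : Nat.card ↥Qp = 512 := le_antisymm card_Qp_le card_Qp_ge

/-- every element of the kernel is a product of two words of the last two levels -/
theorem exists_words {g : ↥P} (hg : g ∈ Qp) : ∃ u ∈ lv6, ∃ v ∈ lv7, g = gw (u ++ v) := by
  have heq : chainSet (⊥ : Subgroup ↥P) (lvQ.map toLvl) = (Qp : Set ↥P) := by
    apply Set.eq_of_subset_of_ncard_le chainSetQ_sub _ (Set.toFinite _)
    rw [ncard_coe, card_Qp]
    exact chainSetQ_card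
  have h : g ∈ chainSet (⊥ : Subgroup ↥P) (lvQ.map toLvl) := by rw [heq]; exact hg
  obtain ⟨g1, hg1, m1, ⟨g2, hg2, m2, hm2, rfl⟩, rfl⟩ := h
  have hm2' : m2 = 1 := Subgroup.mem_bot.mp hm2
  obtain ⟨u, hu, rfl⟩ := List.mem_map.mp hg1
  obtain ⟨v, hv, rfl⟩ := List.mem_map.mp hg2
  exact ⟨u, hu, v, hv, by rw [hm2', mul_one, gw_append]⟩

end

end Cfsg.Agent.Lib.Helper29.Co2Cent
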