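import Mathlib.Data.Nat.Notation
set_option autoImplicit false

/-!
# Data for the centraliser of a 2A involution of the Conway group `Co₂` on 4600 points

Words in helper21's 18 letters (head applied last): the involution `t`, three elements `a, b, c` of its centraliser satisfying
helper3's presentation of `Sp₆(2)` modulo the kernel on the fixed points of `t`, the 56 fixed points, a chain of transversals of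
the centraliser with base `0, 38, 60, 92, 126, 1, 2`, and for each product of the last two levels an element of the kernel
and a point showing that the product is not central.
-/

namespace Cfsg.Agent.Lib.Helper29.Co2CentData

/-- the word of the involution -/
def tw : List ℕ := [4, 13, 15, 4, 13, 15, 4, 13, 15]

/-- the word of `a` -/
def wa : List ℕ := [3, 1, 3, 0, 0, 3, 1, 4, 4, 6, 6, 6, 5, 8, 10, 8, 10, 8, 11, 8, 10, 8, 14, 13, 15, 13, 14, 12, 16]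

/-- the word of `b` -/
def wb : List ℕ := [3, 1, 1, 3, 3, 0, 0, 7, 4, 6, 4, 8, 10, 8, 10, 10, 8, 8, 8, 8, 13, 13, 13, 14, 14, 12, 15, 12, 16]

/-- the word of `c` -/
def wc : List ℕ := [2, 2, 0, 0, 3, 1, 1, 2, 7, 7, 5, 5, 6, 4, 4, 8, 10, 8, 11, 9, 11, 11, 15, 12, 14, 14, 12, 15, 12, 14, 12, 16]

/-- the fixed points of the involution -/
def fixL : List ℕ := [0, 38, 60, 92, 126, 158, 193, 225, 259, 291, 324, 356, 390, 422, 457, 489, 523, 555, 1077, 1112, 1145, 1164, 1189, 1194, 1287, 1314, 1339, 1374, 3225, 3260, 3285, 3312, 3405, 3410, 3435, 3454, 3487, 3522, 4044, 4076, 4110, 4142, 4177, 4209, 4243, 4275, 4308, 4340, 4374, 4406, 4441, 4473, 4507, 4539, 4561, 4599]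

/-- level 1 of the chain -/
def lv1 : List (List ℕ) := [[], [1, 2, 0, 0, 0, 5, 6, 6, 5, 7, 5, 6, 8, 11, 8, 10, 8, 11, 9, 12, 15, 12, 12, 15, 12], [1, 2, 2, 1, 1, 2, 5, 7, 4, 4, 6, 4, 4, 8, 8, 8, 10, 10, 8, 8, 8, 15, 13, 14, 14, 13, 13, 14, 12, 14], [1, 2, 1, 3, 3, 0, 2, 0, 6, 6, 5, 6, 5, 6, 5, 9, 9, 10, 8, 8, 10, 10, 14, 12, 12, 14, 13, 14, 12, 12], [3, 1, 3, 3, 1, 3, 3, 3, 5, 5, 5, 7, 4, 7, 7, 8, 8, 10, 8, 8, 8, 10, 8, 13, 14, 14, 12, 12, 14, 12, 16], [3, 0, 3, 3, 0, 3, 0, 0, 5, 7, 7, 7, 5, 7, 5, 8, 10, 8, 10, 10, 8, 8, 8, 8, 14, 14, 12, 12, 14, 13, 16], [3, 1, 1, 3, 3, 0, 0, 5, 5, 7, 5, 5, 6, 5, 9, 10, 8, 8, 10, 8, 8, 14, 14, 12, 14, 14, 12, 12], [0, 0, 2, 1, 2, 0, 0, 0, 2, 6, 6, 5, 6, 5, 5, 8, 8, 11, 8, 8, 8, 12, 14, 13, 13, 14, 14, 12, 16],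 [3, 1, 2, 0, 3, 3, 7, 5, 6, 5, 5, 5, 6, 9, 10, 9, 11, 9, 9, 11, 8, 12, 14, 14, 12, 14, 14, 13], [3, 3, 3, 0, 2, 1, 4, 7, 4, 6, 6, 9, 11, 9, 10, 8, 8, 8, 10, 12, 15, 13, 13, 15, 12, 12, 12], [3, 0, 3, 0, 0, 2, 0, 3, 6, 6, 6, 5, 5, 6, 5, 11, 9, 10, 8, 10, 10, 14, 13, 14, 14, 13], [0, 3, 0, 0, 3, 3, 0, 7, 5, 6, 5, 7, 5, 9, 10, 8, 8, 10, 9, 15, 13, 15, 13, 13, 16], [2, 2, 0, 0, 3, 1, 1, 4, 6, 4, 4, 6, 6, 10, 10, 9, 11, 8, 8, 10, 12, 15, 13, 13, 15, 12, 15, 12, 16], [1, 2, 2, 0, 2, 1, 1, 3, 0, 4, 7, 5, 6, 6, 8, 8, 8, 11, 8, 10, 9, 15, 12, 12, 15, 12, 14], [0, 2, 0, 2, 0, 2, 2, 1, 6, 5, 5, 5, 5, 7, 8, 11, 9, 10, 10, 8, 13, 14, 14, 13, 13, 13, 14], [3, 1, 1, 2, 0, 0, 2, 2, 4, 7, 7, 4, 7, 4, 4, 9, 10, 8, 8, 11, 11, 8, 13, 13, 14, 12, 14, 14, 13, 16],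 [1, 3, 0, 2, 1, 3, 3, 0, 4, 6, 6, 6, 4, 4, 4, 11, 11, 8, 10, 9, 11, 9, 15, 12, 12, 12, 12, 12, 12, 16], [3, 1, 2, 1, 3, 1, 3, 0, 5, 7, 5, 6, 5, 6, 10, 8, 10, 10, 8, 11, 11, 8, 12, 15, 12, 14, 13], [3, 0, 0, 2, 0, 2, 1, 5, 5, 6, 4, 6, 6, 4, 8, 8, 8, 11, 9, 10, 9, 14, 12, 12, 15, 13], [3, 3, 1, 2, 1, 3, 1, 6, 6, 5, 7, 7, 4, 7, 8, 11, 9, 10, 9, 9, 11, 12, 12, 14, 14, 12, 14, 13, 16], [3, 3, 0, 0, 3, 0, 4, 6, 5, 7, 11, 9, 9, 10, 8, 8, 10, 10, 12, 14, 13, 13, 14], [2, 1, 2, 1, 1, 1, 2, 6, 6, 4, 6, 4, 4, 4, 4, 9, 10, 9, 9, 11, 11, 8, 13, 13, 15, 12, 15, 12, 14, 12, 16], [3, 1, 2, 0, 0, 0, 3, 5, 7, 4, 7, 11, 9, 9, 9, 9, 13, 13, 14, 14, 13, 13, 13, 16], [1, 3, 1, 1, 3, 1, 3, 6, 5, 5, 7, 7, 4, 7, 11, 11, 8, 10, 8, 11, 9, 13, 15, 12, 12, 14, 14, 12], [1,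 3, 3, 1, 3, 0, 0, 7, 4, 7, 7, 5, 5, 5, 9, 10, 10, 9, 13, 14, 13, 15, 12, 12, 16], [0, 0, 2, 1, 1, 2, 0, 0, 6, 6, 4, 6, 5, 6, 6, 10, 8, 11, 11, 8, 8, 8, 10, 9, 13, 13, 15, 12], [3, 0, 3, 3, 1, 1, 3, 0, 4, 4, 6, 4, 6, 5, 6, 5, 8, 8, 8, 11, 9, 9, 9, 15, 12, 14, 13, 16], [1, 1, 2, 1, 3, 3, 0, 0, 7, 4, 6, 6, 4, 4, 6, 10, 9, 9, 10, 10, 9, 11, 13, 13, 14, 14, 12, 16], [3, 0, 0, 0, 0, 6, 5, 5, 6, 4, 7, 4, 4, 8, 8, 8, 11, 8, 8, 14, 14, 12, 14, 14, 13, 13], [1, 2, 0, 2, 2, 2, 1, 3, 1, 4, 7, 5, 5, 6, 5, 6, 4, 8, 8, 10, 9, 11, 13, 14, 14, 13, 14, 13, 16], [0, 2, 1, 3, 0, 0, 0, 5, 6, 6, 4, 8, 8, 11, 9, 9, 10, 10, 8, 14, 13, 14, 14, 13, 14, 12, 16], [0, 0, 3, 1, 2, 2, 2, 1, 7, 7, 5, 5, 6, 6, 5, 5, 9, 9, 9, 15, 12, 15, 12, 14, 12], [3, 1, 3, 1, 2, 1, 2, 0, 4,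 7, 5, 7, 4, 7, 11, 8, 8, 10, 10, 9, 11, 14, 12, 12, 14, 14, 13, 14, 12], [3, 0, 0, 3, 3, 3, 1, 1, 5, 7, 5, 7, 5, 6, 8, 8, 11, 8, 14, 14, 12, 14, 13, 14, 16], [0, 0, 3, 3, 3, 1, 2, 1, 6, 6, 5, 5, 5, 5, 10, 10, 9, 11, 11, 13, 15, 12, 12, 12, 12, 12, 16], [2, 2, 2, 0, 3, 4, 4, 6, 5, 5, 5, 10, 8, 11, 8, 8, 10, 8, 8, 12, 12, 14, 14, 12, 14, 14, 12], [1, 2, 2, 0, 0, 0, 7, 4, 6, 5, 7, 4, 10, 8, 8, 11, 9, 11, 11, 8, 12, 15, 12, 12, 12], [0, 3, 3, 4, 7, 5, 5, 6, 5, 6, 4, 11, 11, 9, 9, 11, 8, 8, 13, 15, 13, 13, 16], [0, 2, 1, 3, 3, 0, 5, 5, 5, 6, 6, 4, 4, 9, 9, 9, 10, 9, 11, 15, 12, 15, 13, 15, 12, 16], [3, 3, 0, 0, 3, 1, 1, 6, 5, 6, 5, 5, 5, 6, 6, 8, 10, 10, 8, 8, 11, 9, 15, 12, 12, 12, 15, 12, 14, 16], [0, 2, 2, 2, 2, 6, 6, 5, 6, 4, 6, 6, 10, 9, 9, 10,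 8, 8, 10, 13, 14, 14, 13, 13, 14, 13], [1, 2, 2, 2, 2, 0, 3, 0, 5, 6, 10, 8, 8, 11, 9, 10, 8, 10, 14, 12, 15, 12, 14, 13, 16], [0, 2, 0, 2, 0, 2, 2, 6, 4, 6, 5, 6, 6, 5, 9, 9, 11, 11, 8, 10, 14, 14, 13, 14, 13, 13, 15, 12, 12], [1, 2, 1, 1, 3, 0, 2, 1, 6, 5, 6, 5, 6, 5, 6, 5, 10, 9, 9, 9, 10, 8, 10, 13, 13, 14, 12, 14, 14, 12, 12, 16], [3, 1, 1, 2, 2, 1, 2, 1, 6, 5, 7, 5, 6, 5, 9, 11, 9, 9, 9, 12, 15, 13, 16], [0, 2, 1, 2, 1, 2, 2, 5, 6, 6, 4, 4, 4, 4, 6, 4, 11, 8, 8, 11, 11, 8, 8, 8, 15, 12, 15, 13, 13, 14, 12], [0, 0, 3, 3, 3, 1, 3, 5, 7, 4, 4, 6, 6, 4, 9, 10, 10, 8, 8, 11, 14, 13, 14, 14, 13, 14, 13], [3, 0, 2, 0, 2, 1, 6, 4, 6, 5, 5, 7, 4, 6, 8, 8, 10, 10, 8, 10, 8, 8, 15, 13, 14, 13, 15, 12, 12, 16], [2, 0, 0, 2, 1, 3, 0, 0, 7, 4, 7, 7, 5,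 6, 10, 8, 10, 9, 9, 11, 13, 13, 14, 14, 13, 14, 14, 12, 14, 12], [2, 0, 0, 0, 3, 1, 1, 1, 6, 4, 4, 6, 4, 6, 9, 11, 11, 8, 10, 10, 8, 15, 12, 15, 12, 12, 12, 14], [3, 0, 0, 0, 2, 0, 6, 6, 4, 7, 7, 5, 7, 9, 9, 10, 8, 11, 14, 13, 14, 14, 13, 14, 13], [3, 3, 0, 3, 3, 0, 3, 7, 5, 7, 5, 7, 7, 7, 8, 8, 11, 11, 9, 9, 9, 15, 13, 15, 12, 12, 14, 13, 16], [3, 1, 3, 1, 2, 2, 1, 2, 4, 6, 4, 6, 5, 5, 9, 9, 11, 9, 9, 9, 9, 13, 14, 14, 13, 14, 14, 12], [0, 2, 1, 1, 2, 0, 2, 1, 7, 4, 6, 4, 7, 4, 7, 11, 9, 10, 9, 9, 11, 9, 9, 13, 15, 12, 12, 12, 14, 12], [3, 1, 3, 0, 0, 3, 1, 4, 4, 4, 6, 6, 5, 5, 10, 8, 10, 9, 11, 8, 10, 15, 13, 14, 14, 12, 15, 12], [2, 2, 0, 0, 3, 1, 1, 2, 6, 5, 5, 7, 5, 5, 6, 5, 9, 10, 8, 10, 10, 9, 11, 8, 12, 14, 14, 12, 15, 12, 14, 12, 16]]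

/-- level 2 of the chain -/
def lv2 : List (List ℕ) := [[], [7, 7, 4, 4, 4, 4, 6, 4, 9, 11, 8, 8, 10, 9, 12, 14, 14, 12, 12, 12, 16], [6, 6, 5, 6, 5, 5, 6, 4, 11, 11, 8, 8, 10, 14, 14, 13], [7, 4, 4, 4, 11, 11, 9, 9, 10, 9, 9, 12, 12, 15, 12, 14, 13, 16], [6, 6, 5, 7, 7, 4, 7, 9, 9, 10, 8, 8, 10, 10, 12, 12, 12, 14, 14], [4, 6, 4, 7, 5, 10, 9, 9, 9, 11, 11, 14, 14, 13, 13, 15, 12, 15, 16], [6, 4, 4, 6, 4, 4, 6, 6, 10, 8, 8, 11, 9, 10, 8, 10, 15, 12, 14, 14, 12, 12, 14, 12, 12], [4, 4, 6, 6, 5, 6, 4, 4, 8, 11, 8, 8, 8, 10, 14, 14, 12, 14, 12, 12, 15, 12, 12], [6, 5, 7, 4, 6, 6, 4, 8, 10, 10, 9, 9, 9, 9, 12, 14, 14, 13, 15, 12, 12, 12, 16], [6, 6, 6, 5, 5, 5, 6, 8, 8, 11, 9, 9, 10, 8, 8, 13, 14, 12, 12, 12, 15], [4, 4, 6, 4, 6, 5, 6, 11, 8, 10,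 9, 9, 11, 11, 8, 13, 14, 14, 12, 12, 12], [7, 7, 7, 4, 4, 4, 4, 9, 10, 10, 8, 10, 9, 9, 10, 15, 13, 13, 13, 15, 12, 12, 12, 16], [6, 6, 4, 4, 6, 6, 4, 6, 10, 8, 10, 8, 8, 10, 12, 12, 14, 13, 13, 13, 16], [7, 5, 6, 6, 4, 6, 5, 8, 11, 9, 9, 10, 10, 15, 12, 14, 14, 13, 16], [6, 4, 4, 6, 5, 11, 9, 11, 8, 8, 8, 14, 14, 13, 14, 14, 12, 15, 12, 12], [4, 7, 5, 6, 5, 6, 4, 10, 10, 9, 9, 11, 11, 8, 15, 12, 14, 13, 13, 13], [7, 7, 5, 7, 5, 5, 5, 11, 8, 10, 10, 9, 9, 12, 14, 14, 13, 15, 13], [6, 6, 5, 5, 7, 7, 4, 8, 10, 8, 8, 11, 14, 14, 12, 12, 12, 14, 12, 16], [6, 5, 5, 5, 5, 5, 6, 11, 8, 10, 9, 13, 13, 14, 12, 14, 14, 16], [4, 7, 4, 6, 5, 6, 4, 8, 10, 8, 11, 9, 9, 14, 12, 14, 14, 13, 14, 16], [4, 4, 7, 7, 4, 4, 10, 9, 11, 9, 10, 9, 9, 15, 13, 14, 14, 12,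 12, 14, 13, 16], [6, 4, 6, 5, 5, 6, 6, 6, 9, 10, 8, 10, 8, 11, 12, 14, 14, 13, 13], [6, 5, 5, 6, 5, 7, 5, 10, 8, 10, 9, 9, 10, 13, 14, 13, 15, 12, 12], [4, 6, 4, 7, 5, 5, 10, 8, 8, 8, 8, 8, 13, 15, 12, 15, 13, 16], [7, 5, 7, 7, 5, 5, 7, 9, 10, 9, 9, 10, 8, 11, 14, 14, 12, 15, 12, 14, 12, 12, 12], [5, 7, 7, 4, 4, 7, 8, 10, 8, 11, 11, 9, 14, 12, 14, 14, 12, 12, 12], [5, 7, 4, 7, 7, 8, 8, 10, 8, 10, 10, 8, 15, 12, 12, 12, 15, 13, 16]]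

/-- level 3 of the chain -/
def lv3 : List (List ℕ) := [[], [5, 7, 4, 6, 5, 7, 9, 9, 11, 11, 8, 10, 13, 13, 13, 14, 14, 13, 14, 12, 12, 16], [6, 6, 5, 6, 6, 4, 6, 5, 10, 8, 11, 9, 11, 8, 8, 8, 14, 12, 12, 14, 14, 13], [5, 6, 6, 6, 4, 7, 4, 6, 10, 9, 9, 9, 10, 9, 9, 12, 12, 14, 12, 12], [6, 6, 4, 6, 5, 6, 4, 11, 9, 9, 9, 11, 11, 15, 12, 12, 15, 12, 14, 12, 12, 16], [6, 4, 4, 4, 6, 6, 4, 9, 11, 8, 8, 8, 10, 8, 12, 15, 12, 12, 12, 14, 16], [5, 7, 5, 6, 4, 6, 5, 10, 9, 9, 9, 10, 9, 9, 9, 12, 14, 14, 12, 12, 12, 16], [6, 4, 4, 6, 6, 4, 11, 8, 8, 10, 9, 15, 13, 14, 14, 12], [7, 4, 4, 7, 5, 7, 5, 10, 9, 9, 9, 10, 8, 8, 14, 14, 13, 15, 13, 13, 14, 14, 12], [6, 6, 4, 6, 4, 6, 9, 9, 9, 11, 9, 11, 11, 8, 14, 12, 14, 14, 12, 12, 14, 12, 16], [4, 4, 4, 4,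 4, 8, 8, 11, 8, 10, 8, 12, 12, 14, 13, 14, 14, 13, 16], [5, 7, 4, 7, 7, 4, 4, 7, 4, 11, 9, 10, 8, 8, 10, 8, 11, 12, 14, 12, 12, 14, 12, 16], [6, 6, 4, 4, 6, 4, 6, 6, 4, 11, 11, 9, 11, 9, 10, 9, 12, 12, 15], [7, 7, 4, 6, 5, 6, 5, 6, 9, 9, 9, 9, 10, 8, 15, 13, 14, 14, 13, 15, 12], [7, 5, 6, 6, 5, 5, 7, 10, 9, 9, 10, 12, 15, 12, 14, 12, 12, 16], [6, 5, 7, 5, 6, 5, 9, 11, 11, 9, 9, 11, 8, 8, 14, 14, 13, 15, 13, 14, 12, 16]]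

/-- level 4 of the chain -/
def lv4 : List (List ℕ) := [[], [5, 5, 5, 6, 5, 11, 11, 9, 11, 9, 10, 9, 12, 14, 12, 12, 14, 12], [4, 7, 7, 4, 4, 6, 4, 4, 11, 8, 10, 9, 12, 15, 13, 15, 13, 14, 12], [4, 6, 6, 4, 4, 4, 6, 9, 11, 9, 10, 10, 8, 8, 11, 14, 14, 13, 14, 12, 14], [7, 4, 6, 6, 6, 9, 11, 8, 10, 9, 11, 9, 14, 14, 13, 13, 15, 13, 14, 16], [7, 5, 7, 4, 6, 4, 4, 4, 8, 10, 9, 11, 9, 9, 9, 15, 12, 14, 14, 13, 14, 14, 13], [7, 5, 5, 5, 6, 5, 5, 5, 9, 10, 9, 11, 9, 9, 15, 13, 14, 14, 13, 15, 13, 16], [7, 7, 4, 7, 7, 5, 6, 9, 9, 11, 11, 13, 15, 13, 14, 12, 12, 16], [7, 7, 5, 5, 5, 5, 10, 9, 9, 10, 8, 10, 9, 12, 14, 14, 12, 14, 14, 12, 12, 16], [4, 6, 6, 4, 6, 5, 5, 8, 10, 13, 14, 14, 13, 15]]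

/-- level 5 of the chain -/
def lv5 : List (List ℕ) := [[], [7, 7, 4, 6, 4, 4, 11, 8, 10, 8, 11, 11, 9, 14, 12, 12, 14, 14, 13, 15], [4, 7, 5, 6, 5, 7, 7, 4, 10, 9, 11, 11, 8, 15, 13, 14, 14, 12, 14, 14, 16], [7, 5, 6, 6, 5, 7, 5, 8, 11, 9, 9, 10, 14, 12, 12, 15, 12], [5, 5, 7, 5, 6, 6, 11, 8, 8, 11, 11, 8, 8, 8, 12, 12], [6, 6, 4, 8, 8, 11, 9, 9, 15, 13, 13, 15, 12, 16]]

/-- level 6 of the chain -/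
def lv6 : List (List ℕ) := [[], [5, 5, 6, 6, 4, 4, 8, 11, 11, 9, 9, 10, 8, 8, 15, 13, 14, 12, 14, 13, 13], [7, 4, 7, 4, 7, 4, 7, 11, 9, 9, 11, 9, 10, 13, 15, 13, 14, 14, 16], [5, 5, 6, 6, 4, 4, 9, 9, 10, 8, 8, 10, 8, 15, 12, 14, 14, 12, 12, 14, 12, 16], [6, 5, 6, 4, 4, 4, 4, 9, 10, 9, 11, 9, 11, 14, 12, 12, 12, 12, 12, 16], [6, 5, 5, 5, 6, 6, 5, 11, 9, 10, 9, 11, 9, 14, 14, 12, 14, 13, 13, 15, 12, 16], [7, 4, 7, 5, 7, 4, 7, 4, 8, 11, 8, 8, 8, 10, 12, 14, 14, 13, 15, 13], [4, 6, 4, 7, 5, 5, 6, 11, 11, 9, 9, 10, 10, 8, 8, 13, 14, 14, 13, 15], [5, 7, 7, 7, 4, 4, 4, 8, 11, 9, 9, 10, 10, 8, 12, 15, 12, 14, 12, 12], [5, 7, 5, 7, 4, 4, 4, 9, 9, 9, 10, 8, 8, 10, 12, 15, 12, 14, 12, 12, 16], [7, 4, 7, 7, 7, 5, 10, 8, 8, 10, 8, 11, 9, 9, 12, 15, 13, 13,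 14, 12], [5, 7, 7, 7, 4, 4, 4, 8, 11, 9, 9, 10, 9, 9, 15, 12, 14, 12, 12, 14, 16], [6, 5, 6, 4, 4, 4, 4, 9, 9, 9, 11, 9, 9, 9, 14, 14, 13, 14, 13], [4, 7, 5, 7, 5, 5, 11, 9, 9, 9, 10, 8, 15, 12, 15, 12, 14, 12, 16], [4, 6, 4, 7, 4, 4, 9, 9, 11, 11, 8, 8, 13, 14, 14, 13, 15, 13, 13], [4, 6, 5, 6, 5, 6, 5, 10, 9, 9, 9, 11, 9, 9, 13, 13, 14, 14, 13, 13, 13, 16], [7, 4, 7, 7, 7, 5, 11, 9, 9, 9, 11, 8, 8, 14, 12, 14, 12, 12], [9, 9, 10, 8, 8, 11, 9, 14, 14, 13, 14, 13, 16], [5, 7, 5, 7, 4, 4, 4, 11, 9, 10, 8, 8, 11, 11, 13, 14, 12, 14], [7, 4, 7, 5, 7, 4, 7, 4, 9, 9, 9, 14, 14, 12, 14, 14], [5, 5, 6, 6, 4, 4, 8, 10, 8, 11, 8, 10, 8, 12, 14, 13, 13, 14, 16], [4, 6, 5, 6, 5, 6, 5, 9, 11, 8, 8, 10, 9, 11, 15, 13, 13, 13, 14, 14], [4, 7, 5, 7, 5, 5, 11,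 9, 10, 8, 10, 13, 14, 13, 13, 14, 14, 16], [6, 6, 5, 6, 5, 5, 5, 9, 11, 9, 10, 9, 11, 12, 12, 14, 13, 14, 14, 12, 16], [6, 5, 6, 4, 4, 4, 4, 9, 9, 10, 8, 10, 8, 8, 8, 15, 12, 15, 12, 12, 12, 14, 12, 16], [6, 5, 6, 5, 7, 7, 5, 9, 9, 10, 9, 11, 8, 10, 13, 15, 13, 14, 14, 12, 16], [7, 4, 7, 4, 7, 4, 7, 11, 9, 9, 11, 8, 15, 13, 13, 14, 12, 14, 14, 12, 16], [7, 4, 7, 5, 7, 4, 7, 4, 11, 8, 10, 10, 8, 8, 8, 13, 14, 14, 13, 14, 13, 13, 16], [5, 7, 7, 7, 4, 4, 4, 11, 9, 11, 9, 10, 8, 12, 14, 14, 12, 12, 12, 12, 12, 16], [5, 6, 6, 4, 7, 5, 11, 8, 8, 8, 11, 9, 14, 13, 13, 13, 14, 12, 12, 16], [5, 5, 6, 4, 7, 4, 4, 11, 9, 9, 9, 11, 8, 8, 8, 13, 15, 13, 14, 12, 12, 12], [4, 6, 4, 7, 4, 4, 9, 11, 9, 11, 9, 10, 9, 12, 14, 13, 14, 14, 13, 16]]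

/-- level 7 of the chain -/
def lv7 : List (List ℕ) := [[], [7, 4, 4, 6, 5, 7, 5, 10, 8, 8, 11, 11, 8, 8, 12, 14, 14, 12, 14, 12, 12, 16], [4, 4, 4, 7, 5, 6, 8, 11, 8, 13, 14, 14, 12, 14, 14, 12, 16], [5, 5, 6, 6, 4, 4, 8, 11, 11, 9, 9, 10, 8, 8, 15, 12, 14, 14, 12, 12, 14, 13, 14], [5, 6, 4, 6, 6, 5, 5, 8, 8, 11, 8, 10, 9, 11, 15, 12, 12, 15, 12, 14, 12, 16], [7, 4, 7, 7, 7, 5, 10, 9, 11, 8, 10, 10, 15, 12, 14, 12, 12, 12], [4, 7, 5, 7, 5, 5, 9, 9, 11, 9, 9, 10, 8, 8, 15, 13, 14, 13, 13, 15, 13, 16], [5, 6, 6, 4, 7, 5, 11, 9, 11, 8, 8, 14, 14, 12, 12, 12], [5, 5, 6, 4, 7, 4, 4, 11, 9, 9, 9, 11, 8, 8, 8, 15, 13, 14], [6, 5, 6, 4, 4, 4, 4, 8, 10, 10, 9, 11, 11, 8, 10, 14, 13, 13, 15, 12, 15, 12, 14, 12], [5, 7, 7, 7, 4, 4, 4, 9, 9, 9, 11, 11,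 9, 11, 14, 12, 14, 14, 12, 12, 14, 12, 12], [7, 4, 7, 5, 7, 4, 4, 9, 9, 9, 10, 9, 11, 8, 8, 14, 12, 14, 14], [7, 4, 7, 5, 7, 4, 7, 4, 11, 8, 8, 10, 8, 11, 8, 12, 12, 15, 12, 12, 14, 14, 12, 16], [7, 4, 4, 6, 4, 7, 4, 8, 11, 11, 8, 8, 8, 14, 12, 12, 12, 14, 12, 16], [5, 5, 7, 7, 5, 7, 11, 11, 12, 15, 13, 13, 13, 14, 14], [5, 5, 7, 7, 4, 9, 9, 11, 9, 9, 10, 8, 12, 12, 12, 14, 14, 12, 14]]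

/-- for the product number `16 i + j` of the last two levels: an element of the last two levels and a point -/
def hints : List (ℕ × ℕ) := [(0, 0), (5, 1), (4, 1), (4, 1), (2, 1), (1, 1), (1, 1), (2, 1), (1, 1), (1, 1), (2, 1), (1, 1), (1, 1), (2, 1), (1, 1), (1, 1), (5, 1), (30, 1), (4, 1), (4, 1), (2, 1), (1, 1), (1, 1), (2, 1), (1, 1), (1, 1), (2, 1), (1, 1), (1, 1), (2, 1), (1, 1), (1, 1), (3, 1), (3, 1), (3, 1), (3, 1), (2, 1), (1, 1), (1, 1), (2, 1), (1, 1), (1, 1), (2, 1), (1, 1), (1, 1), (2, 1), (1, 1), (1, 1), (2, 1), (2, 1), (2, 1), (2, 1), (3, 1), (1, 1), (1, 1), (3, 1), (1, 1), (1, 1), (3, 1), (1, 1), (1, 1), (3, 1), (1, 1), (1, 1), (3, 1), (3, 1), (3, 1), (3, 1), (2, 1), (1, 1), (1, 1), (2, 1), (1, 1), (1, 1), (2, 1), (1, 1), (1,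 1), (2, 1), (1, 1), (1, 1), (1, 1), (1, 1), (1, 1), (1, 1), (1, 1), (4, 1), (2, 1), (1, 1), (4, 1), (2, 1), (1, 1), (2, 1), (5, 1), (1, 1), (2, 1), (6, 1), (1, 1), (1, 1), (1, 1), (1, 1), (1, 1), (4, 1), (2, 1), (1, 1), (4, 1), (2, 1), (1, 1), (2, 1), (5, 1), (1, 1), (2, 1), (6, 1), (2, 1), (2, 1), (2, 1), (2, 1), (4, 1), (1, 1), (1, 1), (5, 1), (1, 1), (1, 1), (4, 1), (1, 1), (1, 1), (30, 1), (1, 1), (1, 1), (1, 1), (1, 1), (1, 1), (1, 1), (1, 1), (2, 1), (4, 1), (1, 1), (2, 1), (5, 1), (1, 1), (6, 1), (2, 1), (1, 1), (4, 1), (2, 1), (1, 1), (1, 1), (1, 1), (1, 1), (1, 1), (3, 1), (2, 1), (1, 1), (3, 1), (2, 1), (1, 1), (2, 1), (3, 1), (1, 1), (2, 1), (3, 1), (2, 1), (2, 1), (2, 1), (2, 1), (3, 1), (1, 1), (1, 1), (3, 1), (1, 1), (1, 1), (3,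 1), (1, 1), (1, 1), (3, 1), (1, 1), (1, 1), (1, 1), (1, 1), (1, 1), (1, 1), (1, 1), (3, 1), (2, 1), (1, 1), (3, 1), (2, 1), (1, 1), (2, 1), (3, 1), (1, 1), (2, 1), (3, 1), (1, 1), (1, 1), (1, 1), (1, 1), (1, 1), (3, 1), (2, 1), (1, 1), (3, 1), (2, 1), (1, 1), (2, 1), (3, 1), (1, 1), (2, 1), (3, 1), (2, 1), (2, 1), (2, 1), (2, 1), (4, 1), (1, 1), (1, 1), (34, 1), (1, 1), (1, 1), (4, 1), (1, 1), (1, 1), (5, 1), (1, 1), (1, 1), (1, 1), (1, 1), (1, 1), (1, 1), (1, 1), (2, 1), (3, 1), (1, 1), (2, 1), (3, 1), (1, 1), (3, 1), (2, 1), (1, 1), (3, 1), (2, 1), (1, 1), (1, 1), (1, 1), (1, 1), (1, 1), (4, 1), (2, 1), (1, 1), (4, 1), (2, 1), (1, 1), (2, 1), (6, 1), (1, 1), (2, 1), (5, 1), (1, 1), (1, 1), (1, 1), (1, 1), (1, 1), (4, 1), (2, 1), (1, 1), (4,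 1), (2, 1), (1, 1), (2, 1), (6, 1), (1, 1), (2, 1), (5, 1), (1, 1), (1, 1), (1, 1), (1, 1), (1, 1), (2, 1), (3, 1), (1, 1), (2, 1), (3, 1), (1, 1), (3, 1), (2, 1), (1, 1), (3, 1), (2, 1), (2, 1), (2, 1), (2, 1), (2, 1), (4, 1), (1, 1), (1, 1), (34, 1), (1, 1), (1, 1), (4, 1), (1, 1), (1, 1), (5, 1), (1, 1), (1, 1), (1, 1), (1, 1), (1, 1), (1, 1), (1, 1), (2, 1), (3, 1), (1, 1), (2, 1), (3, 1), (1, 1), (3, 1), (2, 1), (1, 1), (3, 1), (2, 1), (1, 1), (1, 1), (1, 1), (1, 1), (1, 1), (2, 1), (3, 1), (1, 1), (2, 1), (3, 1), (1, 1), (3, 1), (2, 1), (1, 1), (3, 1), (2, 1), (2, 1), (2, 1), (2, 1), (2, 1), (3, 1), (1, 1), (1, 1), (3, 1), (1, 1), (1, 1), (3, 1), (1, 1), (1, 1), (3, 1), (1, 1), (1, 1), (1, 1), (1, 1), (1, 1), (1, 1), (1, 1), (3, 1), (2,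 1), (1, 1), (3, 1), (2, 1), (1, 1), (2, 1), (3, 1), (1, 1), (2, 1), (3, 1), (1, 1), (1, 1), (1, 1), (1, 1), (1, 1), (2, 1), (4, 1), (1, 1), (2, 1), (5, 1), (1, 1), (6, 1), (2, 1), (1, 1), (4, 1), (2, 1), (2, 1), (2, 1), (2, 1), (2, 1), (4, 1), (1, 1), (1, 1), (5, 1), (1, 1), (1, 1), (4, 1), (1, 1), (1, 1), (30, 1), (1, 1), (1, 1), (1, 1), (1, 1), (1, 1), (1, 1), (1, 1), (4, 1), (2, 1), (1, 1), (4, 1), (2, 1), (1, 1), (2, 1), (5, 1), (1, 1), (2, 1), (6, 1), (1, 1), (1, 1), (1, 1), (1, 1), (1, 1), (2, 1), (4, 1), (1, 1), (2, 1), (6, 1), (1, 1), (5, 1), (2, 1), (1, 1), (4, 1), (2, 1), (2, 1), (2, 1), (2, 1), (2, 1), (3, 1), (1, 1), (1, 1), (3, 1), (1, 1), (1, 1), (3, 1), (1, 1), (1, 1), (3, 1), (1, 1), (1, 1), (3, 1), (3, 1), (3, 1), (3, 1), (2,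 1), (1, 1), (1, 1), (2, 1), (1, 1), (1, 1), (2, 1), (1, 1), (1, 1), (2, 1), (1, 1), (1, 1), (3, 1), (3, 1), (3, 1), (3, 1), (2, 1), (1, 1), (1, 1), (2, 1), (1, 1), (1, 1), (2, 1), (1, 1), (1, 1), (2, 1), (1, 1), (1, 1), (1, 1), (1, 1), (1, 1), (1, 1), (1, 1), (4, 1), (2, 1), (1, 1), (4, 1), (2, 1), (1, 1), (2, 1), (30, 1), (1, 1), (2, 1), (5, 1), (0, 0), (5, 1), (4, 1), (4, 1), (2, 1), (1, 1), (1, 1), (2, 1), (1, 1), (1, 1), (2, 1), (1, 1), (1, 1), (2, 1), (1, 1), (1, 1)]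

end Cfsg.Agent.Lib.Helper29.Co2CentData
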