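import Cfsg.Agent.Lib.Helper29.Co2M.Iso
import Cfsg.Agent.Lib.Helper29.Co2CentData

set_option autoImplicit false

/-!
# A 2A involution of the Conway group `Co₂` on 4600 points: basic facts

In helper21's permutation group `P ≅ Co₂`: equality of words by rigidity, the involution `t`, membership in its centraliser.
-/

namespace Cfsg.Agent.Lib.Helper29.Co2Cent

open Cfsg
open Cfsg.Agent.Lib.Helper10.SX
open Cfsg.Agent.Lib.Helper4.McL (ChainOK chainSet chainSet_card chain_card_le)
open Cfsg.Agent.Lib.Helper29.Co2M
open Cfsg.Agent.Lib.Helper29.Co2CentData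

noncomputable section

/-! ### equality of words by rigidity -/

/-- two words agree on the base points -/
def sigEq (w w' : List ℕ) : Bool := bs.all fun b => evW w b == evW w' b

theorem bs_lt : ∀ b ∈ bs, b < 4600 := by decide

theorem gw_eq_of_sigEq {w w' : List ℕ} (h : sigEq w w' = true) : gw w = gw w' := by
  unfold sigEq at h
  rw [List.all_eq_true] at h
  have h1 : (gw w')⁻¹ * gw w = 1 := by
    apply rigid
    intro b hb
    rw [mul_smul, inv_smul_eq_iff]
    apply Fin.ext
    rw [gw_smul_val, gw_smul_val, fpt_val (bs_lt b hb)]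
    exact beq_iff_eq.mp (h b hb)
  exact (inv_mul_eq_one.mp h1).symm

/-! ### the involution -/

/-- the involution -/
def t : ↥P := gw tw

theorem t_def : t = gw tw := rfl

theorem t_sq : t * t = 1 := by
  have h0 : sigEq (tw ++ tw) [] = true := by decide +kernel
  have h := gw_eq_of_sigEq h0
  rwa [gw_append, gw_nil] at h

theorem tw_one : evW tw 1 ≠ 1 := by decide +kernel

theorem t_ne : t ≠ 1 := by
  intro h
  have h1 : (t • fpt 1).val = (fpt 1).val := by rw [h, one_smul]
  rw [t_def, gw_smul_val, fpt_val (by norm_num)] at h1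
  exact tw_one h1

theorem orderOf_t : orderOf t = 2 :=
  orderOf_eq_prime (by rw [pow_two]; exact t_sq) t_ne

/-- the centraliser of the involution -/
abbrev Ct : Subgroup ↥P := Subgroup.centralizer ({t} : Set ↥P)

/-- a word commutes with the involution -/
def commB (w : List ℕ) : Bool := sigEq (w ++ tw) (tw ++ w)

theorem mem_Ct_of_commB {w : List ℕ} (h : commB w = true) : gw w ∈ Ct := by
  unfold commB at h
  apply Subgroup.mem_centralizer_singleton_iff.mpr
  rw [t_def, ← gw_append, ← gw_append]
  exact gw_eq_of_sigEq h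

theorem chainSet_subset' {G α : Type*} [Group G] [MulAction G α] (S K : Subgroup G) (hSK : S ≤ K) :
    ∀ lv : List (α × List G), (∀ q ∈ lv, ∀ g ∈ q.2, g ∈ K) → chainSet S lv ⊆ (K : Set G)
  | [], _ => fun _ hx => hSK hx
  | p :: rest, h => by
    rintro x ⟨g, hg, m, hm, rfl⟩
    exact K.mul_mem (h p List.mem_cons_self g hg)
      (chainSet_subset' S K hSK rest (fun q hq => h q (List.mem_cons_of_mem _ hq)) hm)

end

end Cfsg.Agent.Lib.Helper29.Co2Cent
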