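import Cfsg.Agent.Lib.Helper29.Co2Cent
import Cfsg.Agent.Lib.Helper20.ESCriterion

set_option autoImplicit false

/-!
# The kernel `Q` of the centraliser of a 2A involution of `Co₂` on the fixed points is extraspecial

The 512 elements of the kernel are products of two words; a computation shows that their squares lie in `⟨t⟩` and that only
`1` and `t` are central.
-/

namespace Cfsg.Agent.Lib.Helper29.Co2Cent

open Cfsg MulAction
open scoped commutatorElement
open Cfsg.Agent.Lib.Helper10.SX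
open Cfsg.Agent.Lib.Helper29.Co2M
open Cfsg.Agent.Lib.Helper29.Co2CentData
open Cfsg.Agent.Lib.Helper20.ES

noncomputable section

/-! ### a criterion -/

/-- if all squares lie in a central subgroup then so do all commutators -/
theorem comm_mem_of_sq {E : Type*} [Group E] (Z : Subgroup E) (hZ : Z ≤ Subgroup.center E)
    (hsq : ∀ x : E, x ^ 2 ∈ Z) (x y : E) : ⁅x, y⁆ ∈ Z := by
  have hsq' : ∀ x : E, x * x ∈ Z := fun x => by rw [← pow_two]; exact hsq x
  have h1 : ⁅x, y⁆ = ((x * y) * (x * y)) * (y⁻¹ * (x * x)⁻¹ * y) * (y * y)⁻¹ := by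
    rw [commutatorElement_def]; group
  have h2 : y⁻¹ * (x * x)⁻¹ * y = (x * x)⁻¹ := by
    have hc := hZ (Z.inv_mem (hsq' x))
    rw [Subgroup.mem_center_iff] at hc
    rw [mul_assoc, ← hc y, ← mul_assoc, inv_mul_cancel, one_mul]
  rw [h1, h2]
  exact Z.mul_mem (Z.mul_mem (hsq' _) (Z.inv_mem (hsq' _))) (Z.inv_mem (hsq' _))

/-- two noncommuting elements of a subgroup -/
theorem noncomm_of {G : Type*} [Group G] (K : Subgroup G) {a b : G} (ha : a ∈ K) (hb : b ∈ K)
    (hab : a * b ≠ b * a) : ∃ x y : ↥K, ⁅x, y⁆ ≠ 1 := by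
  refine ⟨⟨a, ha⟩, ⟨b, hb⟩, ?_⟩
  intro h
  rw [commutatorElement_eq_one_iff_mul_comm] at h
  exact hab (congrArg Subtype.val h)

/-! ### the elements of the kernel -/

/-- the product number `(i, j)` of the last two levels -/
def qw (i j : ℕ) : List ℕ := lv6.getD i [] ++ lv7.getD j []

theorem lv6_length : lv6.length = 32 := by decide +kernel

theorem lv7_length : lv7.length = 16 := by decide +kernel

theorem exists_idx {g : ↥P} (hg : g ∈ Qp) : ∃ i < 32, ∃ j < 16, g = gw (qw i j) := by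
  obtain ⟨u, hu, v, hv, rfl⟩ := exists_words hg
  obtain ⟨i, hi, rfl⟩ := List.mem_iff_getElem.mp hu
  obtain ⟨j, hj, rfl⟩ := List.mem_iff_getElem.mp hv
  refine ⟨i, lv6_length ▸ hi, j, lv7_length ▸ hj, ?_⟩
  unfold qw
  rw [List.getD_eq_getElem _ _ hi, List.getD_eq_getElem _ _ hj]

theorem lv67_mem : ∀ w ∈ lv6 ++ lv7, gw w ∈ Qp := by
  intro w hw
  rcases List.mem_append.mp hw with hw | hw
  · exact lvQ_mem (toLvl (1, lv6)) (List.mem_map_of_mem (by simp [lvQ])) (gw w) (List.mem_map_of_mem hw)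
  · exact lvQ_mem (toLvl (2, lv7)) (List.mem_map_of_mem (by simp [lvQ])) (gw w) (List.mem_map_of_mem hw)

theorem gens_mem (k : ℕ) : gw ((lv6 ++ lv7).getD k []) ∈ Qp := by
  by_cases hk : k < (lv6 ++ lv7).length
  · rw [List.getD_eq_getElem _ _ hk]
    exact lv67_mem _ (List.getElem_mem hk)
  · rw [List.getD_eq_default _ _ (not_lt.mp hk), gw_nil]
    exact Qp.one_mem

/-! ### the computations -/

/-- the square of a product is `1` or `t` -/
def sqB (i j : ℕ) : Bool := sigEq (qw i j ++ qw i j) [] || sigEq (qw i j ++ qw i j) tw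

/-- a product does not commute with the element of its hint, or is `1` or `t` -/
def centB (i j : ℕ) : Bool :=
  (evW (qw i j ++ (lv6 ++ lv7).getD (hints.getD (16 * i + j) (0, 0)).1 []) 1 !=
    evW ((lv6 ++ lv7).getD (hints.getD (16 * i + j) (0, 0)).1 [] ++ qw i j) 1) ||
  (sigEq (qw i j) [] || sigEq (qw i j) tw)

set_option maxRecDepth 1000000 in
theorem sq_ok : ∀ i < 32, ∀ j < 16, sqB i j = true := by decide +kernel

set_option maxRecDepth 1000000 in
theorem cent_ok : ∀ i < 32, ∀ j < 16, centB i j = true := by decide +kernel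

theorem fixB_tw : fixB tw = true := by decide +kernel

theorem commB_tw : commB tw = true := by decide +kernel

theorem t_mem_Qp : t ∈ Qp := mem_Qp_of commB_tw fixB_tw

/-- the involution as an element of the kernel -/
def zQ : ↥Qp := ⟨t, t_mem_Qp⟩

theorem sq_mem (x : ↥Qp) : x ^ 2 ∈ Subgroup.zpowers zQ := by
  obtain ⟨i, hi, j, hj, hx⟩ := exists_idx x.2
  have h := sq_ok i hi j hj
  unfold sqB at h
  rw [Bool.or_eq_true] at h
  rcases h with h | h
  · have h1 : gw (qw i j ++ qw i j) = gw [] := gw_eq_of_sigEq h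
    rw [gw_append, gw_nil, ← hx] at h1
    have h2 : x ^ 2 = 1 := Subtype.ext (by rw [pow_two]; exact h1)
    rw [h2]
    exact Subgroup.one_mem _
  · have h1 : gw (qw i j ++ qw i j) = gw tw := gw_eq_of_sigEq h
    rw [gw_append, ← hx, ← t_def] at h1
    have h2 : x ^ 2 = zQ := Subtype.ext (by rw [pow_two]; exact h1)
    rw [h2]
    exact Subgroup.mem_zpowers _

theorem zQ_central : zQ ∈ Subgroup.center ↥Qp := by
  rw [Subgroup.mem_center_iff]
  intro g
  apply Subtype.ext
  exact Subgroup.mem_centralizer_singleton_iff.mp g.2.1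

theorem center_le' (x : ↥Qp) (hx : x ∈ Subgroup.center ↥Qp) : x ∈ Subgroup.zpowers zQ := by
  obtain ⟨i, hi, j, hj, hxe⟩ := exists_idx x.2
  have h := cent_ok i hi j hj
  unfold centB at h
  rw [Bool.or_eq_true, Bool.or_eq_true] at h
  rcases h with h | h | h
  · exfalso
    have hg : gw ((lv6 ++ lv7).getD (hints.getD (16 * i + j) (0, 0)).1 []) ∈ Qp := gens_mem _
    have hc := (Subgroup.mem_center_iff.mp hx) ⟨_, hg⟩
    have hc' : gw ((lv6 ++ lv7).getD (hints.getD (16 * i + j) (0, 0)).1 []) * (x : ↥P) =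
        (x : ↥P) * gw ((lv6 ++ lv7).getD (hints.getD (16 * i + j) (0, 0)).1 []) := congrArg Subtype.val hc
    rw [hxe, ← gw_append, ← gw_append] at hc'
    have h2 : (gw ((lv6 ++ lv7).getD (hints.getD (16 * i + j) (0, 0)).1 [] ++ qw i j) • fpt 1).val =
        (gw (qw i j ++ (lv6 ++ lv7).getD (hints.getD (16 * i + j) (0, 0)).1 []) • fpt 1).val := by rw [hc']
    rw [gw_smul_val, gw_smul_val, fpt_val (by norm_num)] at h2
    rw [bne_iff_ne] at h
    exact h h2.symm
  · have h1 : gw (qw i j) = gw [] := gw_eq_of_sigEq h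
    rw [gw_nil, ← hxe] at h1
    have h2 : x = 1 := Subtype.ext h1
    rw [h2]
    exact Subgroup.one_mem _
  · have h1 : gw (qw i j) = gw tw := gw_eq_of_sigEq h
    rw [← hxe, ← t_def] at h1
    have h2 : x = zQ := Subtype.ext h1
    rw [h2]
    exact Subgroup.mem_zpowers _

theorem zQ_val : (zQ : ↥P) = t := rfl

theorem zQ_ne : zQ ≠ 1 := by
  intro h
  have h1 : ((zQ : ↥Qp) : ↥P) = ((1 : ↥Qp) : ↥P) := congrArg Subtype.val h
  rw [Subgroup.coe_one, zQ_val] at h1
  exact t_ne h1

theorem zQ_pow : zQ ^ 2 = 1 := by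
  apply Subtype.ext
  rw [pow_two, Subgroup.coe_mul, Subgroup.coe_one, zQ_val]
  exact t_sq

theorem esData_Qp : ESData 2 ↥Qp zQ where
  z_ne := zQ_ne
  z_pow := zQ_pow
  z_central := zQ_central
  center_le := center_le'
  comm_mem := comm_mem_of_sq _ (by rw [Subgroup.zpowers_le]; exact zQ_central) sq_mem
  pow_mem := sq_mem

set_option maxRecDepth 100000 in
theorem noncomm : evW (lv6.getD 1 [] ++ lv6.getD 5 []) 1 ≠ evW (lv6.getD 5 [] ++ lv6.getD 1 []) 1 := by
  decide +kernel

theorem noncomm' {u v : List ℕ} (h : evW (u ++ v) 1 ≠ evW (v ++ u) 1) : gw u * gw v ≠ gw v * gw u := by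
  intro h'
  rw [← gw_append, ← gw_append] at h'
  have h2 : (gw (u ++ v) • fpt 1).val = (gw (v ++ u) • fpt 1).val := by rw [h']
  rw [gw_smul_val, gw_smul_val, fpt_val (by norm_num)] at h2
  exact h h2

theorem mem_lv6_1 : lv6.getD 1 [] ∈ lv6 := by decide +kernel

theorem mem_lv6_5 : lv6.getD 5 [] ∈ lv6 := by decide +kernel

theorem isExtraspecial_Qp : IsExtraspecial 2 ↥Qp := by
  have : Fact (Nat.Prime 2) := ⟨Nat.prime_two⟩
  have : Finite ↥P := finite_P
  exact esData_Qp.isExtraspecial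
    (noncomm_of Qp (lv67_mem _ (List.mem_append_left _ mem_lv6_1)) (lv67_mem _ (List.mem_append_left _ mem_lv6_5))
      (noncomm' noncomm))

end

end Cfsg.Agent.Lib.Helper29.Co2Cent
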