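import Cfsg.Agent.Lib.Helper29.Co2CentES
import Cfsg.Agent.Lib.Helper16.AGLT
import Cfsg.Agent.Lib.Helper12.Cores

set_option autoImplicit false

/-!
# The centraliser of a 2A involution of `Co₂` is `2^{1+8} Sp₆(2)`

In helper21's permutation group `P ≅ Co₂` on 4600 points: the kernel `Q` of the centraliser `C` of the involution `t` on
the 56 fixed points of `t` is normal and extraspecial of order `2^9`, the quotient `C / Q` is `Sp₆(2)` (three elements of
`C` satisfy helper3's presentation modulo `Q`; the presented group is simple, and the orders agree), and `Q = O₂(C)`.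
The last statement transports all this along an isomorphism of groups.
-/

namespace Cfsg.Agent.Lib.Helper29.Co2Cent

open Cfsg MulAction
open Cfsg.Agent.Lib.Helper10.SX
open Cfsg.Agent.Lib.Helper29.Co2M
open Cfsg.Agent.Lib.Helper29.Co2CentData
open Cfsg.Agent.Lib.Helper3.Cover

noncomputable section

/-! ### the centraliser permutes the fixed points -/

theorem t_fix : ∀ x ∈ fixL, t • fpt x = fpt x := t_mem_Qp.2

theorem Ct_fix {c : ↥P} (hc : c ∈ Ct) {x : ℕ} (hx : x ∈ fixL) : ∃ y ∈ fixL, c • fpt x = fpt y := by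
  have hc' : c * t = t * c := Subgroup.mem_centralizer_singleton_iff.mp hc
  have h1 : t • (c • fpt x) = c • fpt x := by rw [← mul_smul, ← hc', mul_smul, t_fix x hx]
  have h2 : evW tw (c • fpt x).val = (c • fpt x).val := by rw [← gw_smul_val, ← t_def, h1]
  refine ⟨_, fix_all _ (c • fpt x).isLt h2, ?_⟩
  apply Fin.ext
  rw [fpt_val (c • fpt x).isLt]

/-- the kernel as a subgroup of the centraliser -/
def Q : Subgroup ↥Ct := Qp.subgroupOf Ct

theorem mem_Q {g : ↥Ct} : g ∈ Q ↔ (g : ↥P) ∈ Qp := Subgroup.mem_subgroupOf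

instance Q_normal : Q.Normal := by
  constructor
  intro n hn g
  rw [mem_Q] at hn ⊢
  rw [Subgroup.coe_mul, Subgroup.coe_mul, Subgroup.coe_inv]
  refine ⟨Ct.mul_mem (Ct.mul_mem g.2 n.2) (Ct.inv_mem g.2), ?_⟩
  intro x hx
  obtain ⟨y, hy, hxy⟩ := Ct_fix (Ct.inv_mem g.2) hx
  rw [mul_smul, mul_smul, hxy, hn.2 y hy, ← hxy, smul_inv_smul]

theorem card_Q : Nat.card ↥Q = 512 := by
  rw [Q, Nat.card_congr (Subgroup.subgroupOfEquivOfLe Qp_le).toEquiv, card_Qp]

theorem card_quot : Nat.card (↥Ct ⧸ Q) = 1451520 := by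
  have h := Subgroup.card_eq_card_quotient_mul_card_subgroup Q
  rw [card_Ct, card_Q] at h
  omega

/-! ### the three generators -/

/-- the words of the generators -/
def wgen : ES6Def.Gen → List ℕ
  | .a => wa
  | .b => wb
  | .c => wc

theorem comm_gen : ∀ x, commB (wgen x) = true := by
  intro x
  cases x
  · show commB wa = true
    decide +kernel
  · show commB wb = true
    decide +kernel
  · show commB wc = true
    decide +kernel

/-- the images of the generators -/
def genC (x : ES6Def.Gen) : ↥Ct := ⟨gw (wgen x), mem_Ct_of_commB (comm_gen x)⟩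

theorem genC_val (x : ES6Def.Gen) : ((genC x : ↥Ct) : ↥P) = gw (wgen x) := rfl

/-- the word in the 18 letters of a word in `a`, `b`, `c` -/
def wordOf : List (ES6Def.Gen × Bool) → List ℕ
  | [] => []
  | (x, true) :: L => wgen x ++ wordOf L
  | (x, false) :: L => winv (wgen x) ++ wordOf L

theorem lift_coe (L : List (ES6Def.Gen × Bool)) :
    ((FreeGroup.lift genC (FreeGroup.mk L) : ↥Ct) : ↥P) = gw (wordOf L) := by
  rw [FreeGroup.lift_mk]
  induction L with
  | nil =>
    rw [List.map_nil, List.prod_nil, Subgroup.coe_one]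
    exact gw_nil.symm
  | cons p L ih =>
    obtain ⟨x, b⟩ := p
    rw [List.map_cons, List.prod_cons, Subgroup.coe_mul, ih]
    cases b
    · show (((genC x)⁻¹ : ↥Ct) : ↥P) * _ = gw (winv (wgen x) ++ wordOf L)
      rw [gw_append, gw_winv, Subgroup.coe_inv, genC_val]
    · show ((genC x : ↥Ct) : ↥P) * _ = gw (wgen x ++ wordOf L)
      rw [gw_append, genC_val]

set_option maxRecDepth 1000000 in
theorem rel_ok : ∀ L ∈ ES6Def.R, fixB (wordOf L) = true := by decide +kernel

theorem mem_Qp_of' {w : List ℕ} (h1 : gw w ∈ Ct) (h2 : fixB w = true) : gw w ∈ Qp := by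
  refine ⟨h1, ?_⟩
  intro x hx
  unfold fixB at h2
  rw [List.all_eq_true] at h2
  apply Fin.ext
  rw [gw_smul_val, fpt_val (fixL_lt x hx)]
  exact beq_iff_eq.mp (h2 x hx)

theorem lift_comp (r : FreeGroup ES6Def.Gen) :
    FreeGroup.lift (fun x => QuotientGroup.mk' Q (genC x)) r = QuotientGroup.mk' Q (FreeGroup.lift genC r) := by
  have h := FreeGroup.lift_unique ((QuotientGroup.mk' Q).comp (FreeGroup.lift genC))
    (f := fun x => QuotientGroup.mk' Q (genC x)) (fun x => by
      rw [MonoidHom.comp_apply, FreeGroup.lift_apply_of]) (x := r)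
  rw [← h, MonoidHom.comp_apply]

theorem hrel : ∀ r ∈ relSet ES6Def.cover.R,
    FreeGroup.lift (fun x => QuotientGroup.mk' Q (genC x)) r = 1 := by
  rintro r ⟨L, hL, rfl⟩
  rw [lift_comp, QuotientGroup.mk'_apply, QuotientGroup.eq_one_iff, mem_Q, lift_coe]
  apply mem_Qp_of' _ (rel_ok L hL)
  rw [← lift_coe]
  exact (FreeGroup.lift genC (FreeGroup.mk L)).2

/-- the homomorphism from the presented group -/
def psiC : Sp6Iso.DS.P →* ↥Ct ⧸ Q := PresentedGroup.toGroup hrel

theorem psiC_of (x : ES6Def.Gen) : psiC (PresentedGroup.of x) = QuotientGroup.mk' Q (genC x) :=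
  PresentedGroup.toGroup.of hrel

/-! ### the quotient -/

theorem simple_PS : IsSimpleGroup Sp6Iso.DS.P := by
  have : Fact (Nat.Prime 2) := ⟨Nat.prime_two⟩
  obtain ⟨e1⟩ := Sp6Iso.iso_Sp6
  obtain ⟨e2⟩ := Sp6Main.iso_PSp (F := ZMod 2) (ZMod.card 2)
  have h : IsSimpleGroup (PSp 3 (ZMod 2)) := Cfsg.Agent.S0270.result (F := ZMod 2) 3 (by norm_num) (by norm_num)
  exact MulEquiv.isSimpleGroup (e1.trans e2)

theorem wa_zero : evW wa 0 ≠ 0 := by decide +kernel

theorem zero_mem_fixL : 0 ∈ fixL := by decide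

theorem psiC_injective : Function.Injective psiC := by
  have := simple_PS
  rw [← MonoidHom.ker_eq_bot_iff]
  rcases (MonoidHom.normal_ker psiC).eq_bot_or_eq_top with h | h
  · exact h
  · exfalso
    have h1 : (PresentedGroup.of ES6Def.Gen.a : Sp6Iso.DS.P) ∈ psiC.ker := by rw [h]; exact Subgroup.mem_top _
    rw [MonoidHom.mem_ker, psiC_of, QuotientGroup.mk'_apply, QuotientGroup.eq_one_iff, mem_Q, genC_val] at h1
    have h1' : gw wa ∈ Qp := h1
    have h2 : (gw wa • fpt 0).val = (fpt 0).val := by rw [h1'.2 0 zero_mem_fixL]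
    rw [gw_smul_val, fpt_val (by norm_num)] at h2
    exact wa_zero h2

theorem psiC_bijective : Function.Bijective psiC := by
  have : Finite ↥P := finite_P
  apply psiC_injective.bijective_of_nat_card_le
  rw [card_quot, Sp6Iso.cardPS6_eq]

/-- the quotient is the presented group -/
def quotIso : Sp6Iso.DS.P ≃* ↥Ct ⧸ Q := MulEquiv.ofBijective psiC psiC_bijective

theorem simple_quot : IsSimpleGroup (↥Ct ⧸ Q) := by
  have := simple_PS
  exact MulEquiv.isSimpleGroup quotIso.symm

/-! ### the largest normal 2-subgroup -/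

theorem pCore_eq : pCore 2 ↥Ct = Q := by
  have : Fact (Nat.Prime 2) := ⟨Nat.prime_two⟩
  have : Finite ↥P := finite_P
  apply le_antisymm
  · apply sSup_le
    rintro N ⟨hN, hp⟩
    have := simple_quot
    have hn : (N.map (QuotientGroup.mk' Q)).Normal := Subgroup.Normal.map hN _ (QuotientGroup.mk'_surjective Q)
    rcases hn.eq_bot_or_eq_top with h | h
    · have h1 := (Subgroup.map_eq_bot_iff N).mp h
      rwa [QuotientGroup.ker_mk'] at h1
    · exfalso
      have h1 : IsPGroup 2 ↥(N.map (QuotientGroup.mk' Q)) := hp.map _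
      obtain ⟨n, hn⟩ := IsPGroup.iff_card.mp h1
      rw [h, Subgroup.card_top, card_quot] at hn
      have h3 : 3 ∣ 2 ^ n := by rw [← hn]; norm_num
      have h4 := Nat.Prime.dvd_of_dvd_pow Nat.prime_three h3
      omega
  · exact Cfsg.Agent.Lib.Helper12.le_pCore' 2 Q inferInstance (IsPGroup.of_card (n := 9) (by rw [card_Q]; norm_num))

/-- the centraliser of the involution in the permutation group -/
theorem main_P : orderOf t = 2 ∧ IsExtraspecial 2 ↥(pCore 2 ↥Ct) ∧ Nat.card ↥(pCore 2 ↥Ct) = 2 ^ 9 ∧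
    Nonempty (↥Ct ⧸ pCore 2 ↥Ct ≃* Matrix.symplecticGroup (Fin 3) (ZMod 2)) := by
  have : Finite ↥P := finite_P
  refine ⟨orderOf_t, ?_, ?_, ?_⟩
  · have e : ↥Qp ≃* ↥(pCore 2 ↥Ct) :=
      (Subgroup.subgroupOfEquivOfLe Qp_le).symm.trans (MulEquiv.subgroupCongr pCore_eq.symm)
    exact Cfsg.Agent.Lib.Helper16.AGL.isExtraspecial_of_mulEquiv e isExtraspecial_Qp
  · rw [pCore_eq, card_Q]
    norm_num
  · obtain ⟨e1⟩ := Sp6Iso.iso_Sp6
    exact ⟨((QuotientGroup.quotientMulEquivOfEq pCore_eq).trans quotIso.symm).trans e1⟩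

/-! ### transport along an isomorphism -/

theorem centralizer_map {G H : Type*} [Group G] [Group H] (e : G ≃* H) (x : H) :
    (Subgroup.centralizer ({e.symm x} : Set G)).map e.toMonoidHom = Subgroup.centralizer ({x} : Set H) := by
  ext y
  rw [Subgroup.mem_map_equiv, Subgroup.mem_centralizer_singleton_iff, Subgroup.mem_centralizer_singleton_iff]
  constructor
  · intro h
    have h1 := congrArg e h
    rw [map_mul, map_mul, e.apply_symm_apply, e.apply_symm_apply] at h1
    exact h1
  · intro h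
    apply e.injective
    rw [map_mul, map_mul, e.apply_symm_apply, e.apply_symm_apply]
    exact h

/-- the structure of the centraliser of an involution goes along an isomorphism -/
theorem transport {G H S : Type*} [Group G] [Group H] [Group S] [Finite G] [Finite H] (e : G ≃* H) (x : H)
    (h : orderOf x = 2 ∧ IsExtraspecial 2 ↥(pCore 2 ↥(Subgroup.centralizer ({x} : Set H))) ∧
      Nat.card ↥(pCore 2 ↥(Subgroup.centralizer ({x} : Set H))) = 2 ^ 9 ∧
      Nonempty (↥(Subgroup.centralizer ({x} : Set H)) ⧸ pCore 2 ↥(Subgroup.centralizer ({x} : Set H)) ≃* S)) :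
    ∃ y : G, orderOf y = 2 ∧ IsExtraspecial 2 ↥(pCore 2 ↥(Subgroup.centralizer ({y} : Set G))) ∧
      Nat.card ↥(pCore 2 ↥(Subgroup.centralizer ({y} : Set G))) = 2 ^ 9 ∧
      Nonempty (↥(Subgroup.centralizer ({y} : Set G)) ⧸ pCore 2 ↥(Subgroup.centralizer ({y} : Set G)) ≃* S) := by
  obtain ⟨h1, h2, h3, ⟨e4⟩⟩ := h
  let f : ↥(Subgroup.centralizer ({e.symm x} : Set G)) ≃* ↥(Subgroup.centralizer ({x} : Set H)) :=
    (e.subgroupMap _).trans (MulEquiv.subgroupCongr (centralizer_map e x))
  have hp : (pCore 2 ↥(Subgroup.centralizer ({e.symm x} : Set G))).map f.toMonoidHom =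
      pCore 2 ↥(Subgroup.centralizer ({x} : Set H)) := Cfsg.Agent.Lib.Helper12.pCore_map_equiv' 2 f
  let g : ↥(pCore 2 ↥(Subgroup.centralizer ({e.symm x} : Set G))) ≃*
      ↥(pCore 2 ↥(Subgroup.centralizer ({x} : Set H))) :=
    (f.subgroupMap _).trans (MulEquiv.subgroupCongr hp)
  refine ⟨e.symm x, ?_, ?_, ?_, ?_⟩
  · rw [MulEquiv.orderOf_eq]
    exact h1
  · exact Cfsg.Agent.Lib.Helper16.AGL.isExtraspecial_of_mulEquiv g.symm h2
  · rw [Nat.card_congr g.toEquiv]
    exact h3
  · exact ⟨(QuotientGroup.congr _ _ f hp).trans e4⟩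

end

end Cfsg.Agent.Lib.Helper29.Co2Cent
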