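import Cfsg.Agent.Lib.Helper29.Co2CentBasic
import Cfsg.Agent.Lib.Helper29.Co2ClsData

set_option autoImplicit false

/-!
# The centraliser of a 2A involution of `Co₂` has order at most `743178240`

`P` is transitive on the 4600 points, so the stabiliser `H` of the point `0` has order `|P| / 4600`.  The involution `t`
fixes `0` and has 693 distinct conjugates under `H`, so `C_P(t) ∩ H` has order at most `|H| / 693`; the orbit of `0` under
`C_P(t)` lies in the set of the 56 fixed points of `t`.
-/

namespace Cfsg.Agent.Lib.Helper29.Co2Cent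

open Cfsg MulAction
open Cfsg.Agent.Lib.Helper10.SX
open Cfsg.Agent.Lib.Helper4.McL (ChainOK chainSet chainSet_card chain_card_le)
open Cfsg.Agent.Lib.Helper29.Co2M
open Cfsg.Agent.Lib.Helper29.Co2CentData

noncomputable section

/-! ### transitivity -/

set_option maxRecDepth 100000 in
theorem exists_smul (i : Fin 4600) : ∃ g : ↥P, g • fpt 0 = i := by
  have h0 : ChainOK ((toLvl (0, lvW1)) :: ([(556, lvW2), (561, lvW3), (614, lvW4), (1, lvW5)].map toLvl)) :=
    chainB_sound lvls chain_ok
  have h : ((lvW1.map gw).map fun g => g • fpt 0).Nodup := h0.1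
  have hlen : ((lvW1.map gw).map fun g => g • fpt 0).length = 4600 := by
    rw [List.length_map, List.length_map]
    exact length_wordsOf _ _ _
  have hc : ((lvW1.map gw).map fun g => g • fpt 0).toFinset.card = 4600 := by
    rw [List.toFinset_card_of_nodup h, hlen]
  have hu : ((lvW1.map gw).map fun g => g • fpt 0).toFinset = Finset.univ :=
    Finset.eq_univ_of_card _ (by rw [hc, Fintype.card_fin])
  have hi : i ∈ ((lvW1.map gw).map fun g => g • fpt 0).toFinset := by rw [hu]; exact Finset.mem_univ _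
  rw [List.mem_toFinset] at hi
  obtain ⟨g, -, hg⟩ := List.mem_map.mp hi
  exact ⟨g, hg⟩

instance pretransitive_P : IsPretransitive ↥P (Fin 4600) := by
  constructor
  intro x y
  obtain ⟨g, hg⟩ := exists_smul x
  obtain ⟨h, hh⟩ := exists_smul y
  refine ⟨h * g⁻¹, ?_⟩
  rw [mul_smul, ← hg, inv_smul_smul, hh]

/-- the stabiliser of the point `0` -/
abbrev H0 : Subgroup ↥P := stabilizer ↥P (fpt 0)

theorem card_H0 : Nat.card ↥H0 = 9196830720 := by
  have h1 : H0.index = 4600 := by
    rw [index_stabilizer_of_transitive, Nat.card_eq_fintype_card, Fintype.card_fin]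
  have h2 := Subgroup.card_mul_index H0
  rw [h1, card_P] at h2
  have h3 : Nat.card ↥H0 * 4600 = 9196830720 * 4600 := h2
  exact Nat.eq_of_mul_eq_mul_right (by norm_num) h3

/-! ### the 693 conjugates -/

/-- the key of a word: the images of the base points -/
def keyW (w : List ℕ) : ℕ := bs.foldr (fun b acc => acc * 4600 + evW w b) 0

/-- the key of an element -/
def keyG (g : ↥P) : ℕ := bs.foldr (fun b acc => acc * 4600 + (g • fpt b).val) 0

theorem keyG_gw (w : List ℕ) : keyG (gw w) = keyW w := by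
  unfold keyG keyW bs
  simp only [List.foldr_cons, List.foldr_nil, gw_smul_val]
  rw [fpt_val (show 0 < 4600 by norm_num), fpt_val (show 556 < 4600 by norm_num),
    fpt_val (show 561 < 4600 by norm_num), fpt_val (show 614 < 4600 by norm_num),
    fpt_val (show 1 < 4600 by norm_num)]

/-- the word of a conjugate of the involution -/
def cjw (w : List ℕ) : List ℕ := w ++ (tw ++ winv w)

theorem gw_cjw (w : List ℕ) : gw (cjw w) = gw w * t * (gw w)⁻¹ := by
  unfold cjw
  rw [gw_append, gw_append, gw_winv, mul_assoc, t_def]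

/-- a strictly increasing list above a bound -/
def incFrom : ℕ → List ℕ → Bool
  | _, [] => true
  | lo, a :: l => decide (lo < a) && incFrom a l

theorem incFrom_sound : ∀ (l : List ℕ) (lo : ℕ), incFrom lo l = true → (∀ x ∈ l, lo < x) ∧ l.Nodup
  | [], _, _ => ⟨fun _ hx => absurd hx List.not_mem_nil, List.nodup_nil⟩
  | a :: l, lo, h => by
    unfold incFrom at h
    rw [Bool.and_eq_true, decide_eq_true_eq] at h
    obtain ⟨h1, h2⟩ := incFrom_sound l a h.2
    refine ⟨?_, List.nodup_cons.mpr ⟨fun ha => lt_irrefl a (h1 a ha), h2⟩⟩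
    intro x hx
    rcases List.mem_cons.mp hx with rfl | hx
    · exact h.1
    · exact lt_trans h.1 (h1 x hx)

set_option maxRecDepth 1000000 in
theorem hs_keys : incFrom 0 (hs.map fun w => keyW (cjw w)) = true := by decide +kernel

set_option maxRecDepth 1000000 in
theorem hs_fix : (hs.all fun w => evW w 0 == 0) = true := by decide +kernel

theorem hs_length : hs.length = 693 := by decide +kernel

/-- the conjugating elements -/
def hsG : List ↥P := hs.map gw

theorem hsG_nodup : (hsG.map fun h => h * t * h⁻¹).Nodup := by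
  apply List.Nodup.of_map keyG
  have h1 := (incFrom_sound _ _ hs_keys).2
  have h2 : ((hsG.map fun h => h * t * h⁻¹).map keyG) = hs.map fun w => keyW (cjw w) := by
    unfold hsG
    rw [List.map_map, List.map_map]
    apply List.map_congr_left
    intro w _
    show keyG (gw w * t * (gw w)⁻¹) = keyW (cjw w)
    rw [← gw_cjw, keyG_gw]
  rw [h2]
  exact h1

theorem hsG_mem : ∀ h ∈ hsG, h ∈ H0 := by
  intro h hh
  obtain ⟨w, hw, rfl⟩ := List.mem_map.mp hh
  have h1 := hs_fix
  rw [List.all_eq_true] at h1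
  have h2 := beq_iff_eq.mp (h1 w hw)
  rw [mem_stabilizer_iff]
  apply Fin.ext
  rw [gw_smul_val, fpt_val (by norm_num), h2]

theorem hsG_length : hsG.length = 693 := by
  unfold hsG
  rw [List.length_map, hs_length]

/-! ### the upper bound -/

/-- the centraliser of the involution in the stabiliser of the point `0` -/
abbrev D0 : Subgroup ↥P := Ct ⊓ H0

theorem card_D0_le : 693 * Nat.card ↥D0 ≤ 9196830720 := by
  classical
  have hLnd : hsG.Nodup := List.Nodup.of_map _ hsG_nodup
  have hinj : Set.InjOn (fun z : ↥P × ↥P => z.1 * z.2) ((↑hsG.toFinset : Set ↥P) ×ˢ (D0 : Set ↥P)) := by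
    rintro ⟨g, m⟩ ⟨hg, hm⟩ ⟨g', m'⟩ ⟨hg', hm'⟩ he
    have he' : g * m = g' * m' := he
    have hmC : m * t = t * m := Subgroup.mem_centralizer_singleton_iff.mp hm.1
    have hmC' : m' * t = t * m' := Subgroup.mem_centralizer_singleton_iff.mp hm'.1
    have h1 : g * t * g⁻¹ = g' * t * g'⁻¹ := by
      have e1 : g * t * g⁻¹ = (g * m) * t * (g * m)⁻¹ := by
        rw [mul_inv_rev, mul_assoc g m t, hmC]
        group
      have e2 : g' * t * g'⁻¹ = (g' * m') * t * (g' * m')⁻¹ := by
        rw [mul_inv_rev, mul_assoc g' m' t, hmC']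
        group
      rw [e1, e2, he']
    have hgg : g = g' := by
      have hg1 : g ∈ hsG := by simpa using hg
      have hg2 : g' ∈ hsG := by simpa using hg'
      exact List.inj_on_of_nodup_map hsG_nodup hg1 hg2 h1
    subst hgg
    have : m = m' := mul_left_cancel he'
    rw [this]
  have hsub : (fun z : ↥P × ↥P => z.1 * z.2) '' ((↑hsG.toFinset : Set ↥P) ×ˢ (D0 : Set ↥P)) ⊆ (H0 : Set ↥P) := by
    rintro _ ⟨⟨g, m⟩, ⟨hg, hm⟩, rfl⟩
    have hg1 : g ∈ hsG := by simpa using hg
    exact H0.mul_mem (hsG_mem g hg1) hm.2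
  have h1 := Set.ncard_le_ncard hsub (Set.toFinite _)
  rw [Set.InjOn.ncard_image hinj, Set.ncard_prod, Set.ncard_coe_finset,
    List.toFinset_card_of_nodup hLnd, hsG_length] at h1
  have h2 : ((D0 : Subgroup ↥P) : Set ↥P).ncard = Nat.card ↥D0 := by
    rw [← Nat.card_coe_set_eq]; rfl
  have h3 : ((H0 : Subgroup ↥P) : Set ↥P).ncard = Nat.card ↥H0 := by
    rw [← Nat.card_coe_set_eq]; rfl
  rw [h2, h3, card_H0] at h1
  exact h1

/-! ### the fixed points of the involution -/

set_option maxRecDepth 1000000 in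
theorem fix_all : ∀ i < 4600, evW tw i = i → i ∈ fixL := by decide +kernel

theorem fixL_length : fixL.length = 56 := by decide

theorem tw_zero : evW tw 0 = 0 := by decide +kernel

theorem orbit_le : (orbit ↥Ct (fpt 0)).ncard ≤ 56 := by
  classical
  have hsub : orbit ↥Ct (fpt 0) ⊆ ((fixL.map fpt).toFinset : Set (Fin 4600)) := by
    rintro _ ⟨c, rfl⟩
    have hc : (c : ↥P) * t = t * (c : ↥P) := Subgroup.mem_centralizer_singleton_iff.mp c.2
    have h0 : t • fpt 0 = fpt 0 := by
      apply Fin.ext
      rw [t_def, gw_smul_val, fpt_val (by norm_num)]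
      exact tw_zero
    have h1 : t • ((c : ↥P) • fpt 0) = (c : ↥P) • fpt 0 := by
      rw [← mul_smul, ← hc, mul_smul, h0]
    have h2 : evW tw ((c : ↥P) • fpt 0).val = ((c : ↥P) • fpt 0).val := by
      rw [← gw_smul_val, ← t_def, h1]
    have h3 := fix_all _ ((c : ↥P) • fpt 0).isLt h2
    rw [Finset.mem_coe, List.mem_toFinset]
    refine List.mem_map.mpr ⟨_, h3, ?_⟩
    apply Fin.ext
    rw [fpt_val ((c : ↥P) • fpt 0).isLt]
    rfl
  have h1 := Set.ncard_le_ncard hsub (Set.toFinite _)
  rw [Set.ncard_coe_finset] at h1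
  refine le_trans h1 (le_trans (List.toFinset_card_le _) ?_)
  rw [List.length_map, fixL_length]

/-- the stabiliser of the point `0` in the centraliser is the intersection -/
def stabEquiv : ↥(stabilizer ↥Ct (fpt 0)) ≃ ↥D0 where
  toFun x := ⟨(x.1 : ↥P), ⟨x.1.2, x.2⟩⟩
  invFun y := ⟨⟨y.1, y.2.1⟩, y.2.2⟩
  left_inv _ := rfl
  right_inv _ := rfl

theorem card_Ct_le : Nat.card ↥Ct ≤ 743178240 := by
  have h1 := index_stabilizer ↥Ct (fpt 0)
  have h2 := Subgroup.index_mul_card (stabilizer ↥Ct (fpt 0))
  rw [h1, Nat.card_congr stabEquiv] at h2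
  have h3 := orbit_le
  have h4 := card_D0_le
  have h5 : Nat.card ↥D0 ≤ 13271040 := by omega
  calc Nat.card ↥Ct = (orbit ↥Ct (fpt 0)).ncard * Nat.card ↥D0 := h2.symm
    _ ≤ 56 * 13271040 := Nat.mul_le_mul h3 h5
    _ = 743178240 := by norm_num

end

end Cfsg.Agent.Lib.Helper29.Co2Cent
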