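import Cfsg.Agent.Lib.Helper29.Co2Cls
import Cfsg.Agent.Lib.Helper3.Cover.U62Iso
import Cfsg.Agent.Lib.Helper5.PSUSimple

set_option autoImplicit false

/-!
# The point stabiliser of the Conway group `Co₂` on 4600 points is `PSU₆(2)`

In helper21's permutation group `P ≅ Co₂` on 4600 points, five explicit words `a, b, c, t, d` fix the point `0` and satisfy
helper3's presentation of `PSU₆(2)`.  The presented group is simple and `a` is not trivial, so the resulting homomorphism
to `P` is injective; the group `P` is transitive on the 4600 points, so the stabiliser has order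
`42305421312000 / 4600 = 9196830720`, the order of the presented group.
-/

namespace Cfsg.Agent.Lib.Helper29.Co2Stab

open Cfsg
open Cfsg.Agent.Lib.Helper10.SX
open Cfsg.Agent.Lib.Helper29.Co2M
open Cfsg.Agent.Lib.Helper3.Cover
open Cfsg.Agent.Lib.Helper29.Co2Cent (sigEq gw_eq_of_sigEq H0 card_H0)

noncomputable section

/-! ### the five generators (words in helper21's 18 letters, head applied last) -/

/-- the word of `a` -/
def wa : List ℕ := [10, 10, 9, 9, 10, 14, 12, 14, 14, 13, 14, 12, 12, 12, 16]

/-- the word of `b` -/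
def wb : List ℕ := [9, 11, 9, 9, 11, 8, 8, 15, 13, 14, 12, 12, 12, 12, 16]

/-- the word of `c` -/
def wc : List ℕ := [11, 11, 9, 11, 9, 10, 8, 15, 12, 14, 14, 13, 15, 13, 16]

/-- the word of `t` -/
def wt : List ℕ := [7, 7, 5, 6, 6, 4, 4, 4, 9, 9, 10, 8, 8, 8, 11, 13, 13, 13, 14, 14, 12, 14, 16]

/-- the word of `d` -/
def wd : List ℕ := [6, 4, 6, 5, 6, 4, 11, 9, 11, 9, 9, 11, 14, 13, 14, 14, 12, 14, 12]

/-- the words of the generators -/
def wgen : EU6Def.Gen → List ℕ
  | .a => wa
  | .b => wb
  | .c => wc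
  | .t => wt
  | .d => wd

/-- the images of the generators -/
def genP (x : EU6Def.Gen) : ↥P := gw (wgen x)

/-- the word in the 18 letters of a word in the five generators -/
def wordOf : List (EU6Def.Gen × Bool) → List ℕ
  | [] => []
  | (x, true) :: L => wgen x ++ wordOf L
  | (x, false) :: L => winv (wgen x) ++ wordOf L

theorem lift_mk (L : List (EU6Def.Gen × Bool)) :
    FreeGroup.lift genP (FreeGroup.mk L) = gw (wordOf L) := by
  rw [FreeGroup.lift_mk]
  induction L with
  | nil => exact gw_nil.symm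
  | cons p L ih =>
    obtain ⟨x, b⟩ := p
    rw [List.map_cons, List.prod_cons, ih]
    cases b
    · show (genP x)⁻¹ * _ = gw (winv (wgen x) ++ wordOf L)
      rw [gw_append, gw_winv]
      rfl
    · show genP x * _ = gw (wgen x ++ wordOf L)
      rw [gw_append]
      rfl

set_option maxRecDepth 1000000 in
theorem rel_ok : ∀ L ∈ EU6Def.R, sigEq (wordOf L) [] = true := by decide +kernel

theorem hrel : ∀ r ∈ relSet EU6Def.cover.R, FreeGroup.lift genP r = 1 := by
  rintro r ⟨L, hL, rfl⟩
  rw [lift_mk]
  have h : gw (wordOf L) = gw [] := gw_eq_of_sigEq (rel_ok L hL)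
  rw [h, gw_nil]

/-- the homomorphism from the presented group -/
def psiP : U62Iso.DU6.P →* ↥P := PresentedGroup.toGroup hrel

theorem psiP_of (x : EU6Def.Gen) : psiP (PresentedGroup.of x) = genP x :=
  PresentedGroup.toGroup.of hrel

/-! ### injectivity -/

theorem simple_PU : IsSimpleGroup U62Iso.DU6.P := by
  obtain ⟨e⟩ := U62Iso.iso_PSU
  have h : IsSimpleGroup (PSU 6 Cfsg.Agent.Lib.Helper28.U6F4.F4 2) :=
    Cfsg.Agent.Lib.Helper5.PSUSimple.isSimpleGroup_PSU (by rw [Cfsg.Agent.Lib.Helper28.U6F4.card_F4]; norm_num)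
      (by norm_num) (by norm_num)
  exact MulEquiv.isSimpleGroup e

theorem wa_one : evW wa 1 ≠ 1 := by decide +kernel

theorem psiP_injective : Function.Injective psiP := by
  have := simple_PU
  rw [← MonoidHom.ker_eq_bot_iff]
  rcases (MonoidHom.normal_ker psiP).eq_bot_or_eq_top with h | h
  · exact h
  · exfalso
    have h1 : (PresentedGroup.of EU6Def.Gen.a : U62Iso.DU6.P) ∈ psiP.ker := by rw [h]; exact Subgroup.mem_top _
    rw [MonoidHom.mem_ker, psiP_of] at h1
    have h1' : gw wa = 1 := h1
    have h2 : (gw wa • fpt 1).val = (fpt 1).val := by rw [h1', one_smul]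
    rw [gw_smul_val, fpt_val (by norm_num)] at h2
    exact wa_one h2

/-! ### the image is the stabiliser -/

theorem fix_gen : ∀ x, evW (wgen x) 0 = 0 := by
  intro x
  cases x
  · show evW wa 0 = 0
    decide +kernel
  · show evW wb 0 = 0
    decide +kernel
  · show evW wc 0 = 0
    decide +kernel
  · show evW wt 0 = 0
    decide +kernel
  · show evW wd 0 = 0
    decide +kernel

theorem genP_mem (x : EU6Def.Gen) : genP x ∈ H0 := by
  rw [MulAction.mem_stabilizer_iff]
  apply Fin.ext
  show (gw (wgen x) • fpt 0).val = _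
  rw [gw_smul_val, fpt_val (by norm_num)]
  exact fix_gen x

theorem range_le : psiP.range ≤ H0 := by
  rw [MonoidHom.range_eq_map, ← PresentedGroup.closure_range_of, MonoidHom.map_closure, Subgroup.closure_le]
  rintro _ ⟨_, ⟨x, rfl⟩, rfl⟩
  rw [psiP_of]
  exact genP_mem x

theorem range_eq : psiP.range = H0 := by
  have : Finite ↥P := finite_P
  apply Subgroup.eq_of_le_of_card_ge range_le
  rw [card_H0, ← Nat.card_congr (MonoidHom.ofInjective psiP_injective).toEquiv, U62Iso.cardPU6.2]

/-- the presented group is the stabiliser -/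
def stIso : U62Iso.DU6.P ≃* ↥H0 :=
  (MonoidHom.ofInjective psiP_injective).trans (MulEquiv.subgroupCongr range_eq)

/-- the stabiliser of a point of the Conway group `Co₂` on 4600 points is `PSU₆(2)` -/
theorem H0_iso_PSU : Nonempty (↥H0 ≃* PSU 6 Cfsg.Agent.Lib.Helper28.U6F4.F4 2) := by
  obtain ⟨e⟩ := U62Iso.iso_PSU
  exact ⟨stIso.symm.trans e⟩

end

end Cfsg.Agent.Lib.Helper29.Co2Stab
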