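import Cfsg.Agent.Lib.Helper29.Co2Stab
import Cfsg.Agent.Lib.Helper19.SUCongr
import Cfsg.Agent.Lib.Helper14.LeechOrbit

set_option autoImplicit false

/-!
# The stabiliser of two minimal Leech vectors of inner product `-16` is `PSU₆(2)`

For minimal lattice vectors `v`, `w` with `v·w = -16` the joint stabiliser in `Co0` is conjugate to that of the standard pair
(`Co0` is transitive on minimal vectors, and the stabiliser of the standard vector is transitive on the 4600 vectors), which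
helper21's isomorphism of `Co₂` with a permutation group on 4600 points maps onto a point stabiliser, isomorphic to `PSU₆(2)`.
-/

namespace Cfsg.Agent.Lib.Helper29.Co2StabLeech

open Cfsg MulAction
open Cfsg.Agent.Lib.Helper10.SX
open Cfsg.Agent.Lib.Helper29.Co2M
open Cfsg.Agent.Lib.Helper29.Co2Cent (H0 pretransitive_P)
open Cfsg.Agent.Lib.Helper29.Co2Stab
open Cfsg.Agent.Lib.Helper14.LeechMono (smul_coe dot_pres)

noncomputable section

/-- the standard point -/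
def x0 : ↥leechLattice := ((eXS (fpt 0) : ↥XS) : ↥leechLattice)

theorem x0_mem : x0 ∈ X := (eXS (fpt 0)).2

/-- the stabiliser of the standard pair -/
abbrev G0 : Subgroup ↥Co0 := stabilizer ↥Co0 Spor.leechU ⊓ stabilizer ↥Co0 x0

theorem co2Iso_smul (m : ↥Spor.Co2) (i : Fin 4600) : co2Iso m • i = psi m i := by
  show ((co2Iso m : ↥P) : Equiv.Perm (Fin 4600)) i = _
  rw [co2Iso_apply]

theorem co2Iso_mem_H0 (m : ↥Spor.Co2) :
    co2Iso m ∈ H0 ↔ (m : Equiv.Perm ↥leechLattice) x0 = x0 := by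
  rw [mem_stabilizer_iff, co2Iso_smul, ← eXS.apply_eq_iff_eq, psi_apply]
  constructor
  · intro h
    have h2 := congrArg (fun y : ↥XS => (y : ↥leechLattice)) h
    exact h2
  · intro h
    apply Subtype.ext
    exact h

theorem mem1 (g : ↥G0) : (g.1 : Equiv.Perm ↥leechLattice) ∈ Spor.Co2 :=
  (mem_Co2_iff _).mpr ⟨g.1.2, g.2.1⟩

theorem mem2 (g : ↥G0) : co2Iso ⟨(g.1 : Equiv.Perm ↥leechLattice), mem1 g⟩ ∈ H0 :=
  (co2Iso_mem_H0 _).mpr g.2.2

theorem mem3 (s : ↥H0) : ((co2Iso.symm s.1 : ↥Spor.Co2) : Equiv.Perm ↥leechLattice) ∈ Co0 :=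
  ((mem_Co2_iff _).mp (co2Iso.symm s.1).2).1

theorem mem4 (s : ↥H0) : (⟨((co2Iso.symm s.1 : ↥Spor.Co2) : Equiv.Perm ↥leechLattice), mem3 s⟩ : ↥Co0) ∈ G0 := by
  obtain ⟨-, h1⟩ := (mem_Co2_iff _).mp (co2Iso.symm s.1).2
  refine ⟨h1, ?_⟩
  show ((co2Iso.symm s.1 : ↥Spor.Co2) : Equiv.Perm ↥leechLattice) x0 = x0
  rw [← co2Iso_mem_H0, MulEquiv.apply_symm_apply]
  exact s.2

/-- the stabiliser of the standard pair is the point stabiliser in the group on 4600 points -/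
def theta : ↥G0 ≃* ↥H0 where
  toFun g := ⟨co2Iso ⟨(g.1 : Equiv.Perm ↥leechLattice), mem1 g⟩, mem2 g⟩
  invFun s := ⟨⟨((co2Iso.symm s.1 : ↥Spor.Co2) : Equiv.Perm ↥leechLattice), mem3 s⟩, mem4 s⟩
  left_inv g := by
    apply Subtype.ext
    apply Subtype.ext
    show ((co2Iso.symm (co2Iso ⟨(g.1 : Equiv.Perm ↥leechLattice), mem1 g⟩) : ↥Spor.Co2) :
      Equiv.Perm ↥leechLattice) = g.1
    rw [MulEquiv.symm_apply_apply]
  right_inv s := by
    apply Subtype.ext
    exact co2Iso.apply_symm_apply s.1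
  map_mul' g h := by
    apply Subtype.ext
    show co2Iso ⟨((g * h).1 : Equiv.Perm ↥leechLattice), mem1 (g * h)⟩ =
      co2Iso ⟨(g.1 : Equiv.Perm ↥leechLattice), mem1 g⟩ * co2Iso ⟨(h.1 : Equiv.Perm ↥leechLattice), mem1 h⟩
    rw [← map_mul]
    rfl

/-! ### conjugation -/

theorem stab2_conj {G α : Type*} [Group G] [MulAction G α] (g : G) (a b : α) :
    stabilizer G (g • a) ⊓ stabilizer G (g • b) =
      (stabilizer G a ⊓ stabilizer G b).map (MulAut.conj g).toMonoidHom := by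
  rw [Subgroup.map_inf _ _ _ (MulAut.conj g).injective, stabilizer_smul_eq_stabilizer_map_conj,
    stabilizer_smul_eq_stabilizer_map_conj]

/-- the stabilisers of conjugate pairs are isomorphic -/
def stab2Equiv {G α : Type*} [Group G] [MulAction G α] (g : G) (a b : α) :
    ↥(stabilizer G (g • a) ⊓ stabilizer G (g • b)) ≃* ↥(stabilizer G a ⊓ stabilizer G b) :=
  (MulEquiv.subgroupCongr (stab2_conj g a b)).trans
    ((MulAut.conj g).subgroupMap (stabilizer G a ⊓ stabilizer G b)).symm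

/-- every pair is conjugate to the standard one -/
theorem exists_conj (v w : ↥leechLattice) (hv : sqNorm (v : GolayPt → ℤ) = 32)
    (hw : sqNorm (w : GolayPt → ℤ) = 32)
    (hd : dotInt (v : GolayPt → ℤ) (w : GolayPt → ℤ) = -16) :
    ∃ g : ↥Co0, g • Spor.leechU = v ∧ g • x0 = w := by
  obtain ⟨g1, hg1⟩ := Cfsg.Agent.Lib.Helper14.LeechOrbit.co0_trans32 v Spor.leechU hv normU
  have hw1 : g1 • w ∈ X := by
    refine ⟨?_, ?_⟩
    · rw [smul_coe, g1.2.2, hw]
    · have h := dot_pres g1.1 g1.2 v w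
      rw [← smul_coe, ← smul_coe, hg1, hd] at h
      exact h
  have hi : ((eXS (eXS.symm ⟨g1 • w, hw1⟩) : ↥XS) : ↥leechLattice) = g1 • w := by
    rw [Equiv.apply_symm_apply]
  obtain ⟨m, hm⟩ := MulAction.exists_smul_eq ↥P (eXS.symm ⟨g1 • w, hw1⟩) (fpt 0)
  have h1 : psi (co2Iso.symm m) (eXS.symm ⟨g1 • w, hw1⟩) = fpt 0 := by
    rw [← co2Iso_smul, MulEquiv.apply_symm_apply]
    exact hm
  have h2 := psi_apply (co2Iso.symm m) (eXS.symm ⟨g1 • w, hw1⟩)
  rw [h1] at h2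
  have h3 : x0 = ((co2Iso.symm m : ↥Spor.Co2) : Equiv.Perm ↥leechLattice) (g1 • w) := by
    have h4 := congrArg (fun y : ↥XS => (y : ↥leechLattice)) h2
    simp only [XS_smul_val] at h4
    rw [hi] at h4
    exact h4
  obtain ⟨hn0, hnU⟩ := (mem_Co2_iff (co2Iso.symm m).1).mp (co2Iso.symm m).2
  refine ⟨((⟨(co2Iso.symm m).1, hn0⟩ : ↥Co0) * g1)⁻¹, ?_, ?_⟩
  · rw [inv_smul_eq_iff, mul_smul, hg1]
    exact hnU.symm
  · rw [inv_smul_eq_iff, mul_smul]
    exact h3

/-- the stabiliser of a pair is `PSU₆(2)` -/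
theorem pair_stab (v w : ↥leechLattice) (hv : sqNorm (v : GolayPt → ℤ) = 32)
    (hw : sqNorm (w : GolayPt → ℤ) = 32)
    (hd : dotInt (v : GolayPt → ℤ) (w : GolayPt → ℤ) = -16)
    (F : Type) [Field F] [Fintype F] (hF : Fintype.card F = 4) :
    Nonempty (↥(stabilizer ↥Co0 v ⊓ stabilizer ↥Co0 w) ≃* PSU 6 F 2) := by
  obtain ⟨g, rfl, rfl⟩ := exists_conj v w hv hw hd
  obtain ⟨e⟩ := H0_iso_PSU
  have φ : Cfsg.Agent.Lib.Helper28.U6F4.F4 ≃+* F :=
    FiniteField.ringEquivOfCardEq (by rw [Cfsg.Agent.Lib.Helper28.U6F4.card_F4, hF])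
  exact ⟨(((stab2Equiv g Spor.leechU x0).trans theta).trans e).trans
    (Cfsg.Agent.Lib.Helper19.SUCongr.psuCongr φ)⟩

end

end Cfsg.Agent.Lib.Helper29.Co2StabLeech
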