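/-
helper29: S4645 leaf (R1) `blockRank_eq_one_of_cyclic_inertial_one` (frozen statement
`notes/S4645_leaves.lean`): a block `f` with a CYCLIC defect group `D` whose inertial group centralizes `D`
has `l(f) = 1` and `k(f) = |D|`.  With `R = D` the subsection count `hSC` gives
`k(f) = l(f) + ∑_{u ∈ D \ 1} l(f_u) ≥ l(f) + |D| - 1`; for a generator `z` of `D` the defect group of `f_z`
is central in `C_H(z)`, so `l(f_z) = 1` (helper23) and S4539 gives `k(f) ≤ p^d = |D|`.
-/
import Mathlib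
import Cfsg.Agent.S4539
import Cfsg.Agent.Lib.Helper23.RankQuotApp
import Cfsg.Agent.Lib.Helper27.BlkGlueC4

set_option autoImplicit false

namespace Cfsg.Agent.Lib.Helper29.CycR1

open Cfsg Cfsg.Agent.CharLib Cfsg.Agent.Lib.Helper24 Cfsg.Agent.Lib.Helper6
open scoped ComplexConjugate

universe u

set_option linter.unusedVariables false in
/-- (R1) a block with a cyclic defect group and inertial index one has `l = 1`, `k = |D|`.
`hSC` = helper24's `card_block_eq_sum_orbits` (S4637 leaf SC) for this block. -/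
theorem blockRank_eq_one_of_cyclic_inertial_one {H : Type u} [Group H] [Fintype H] [DecidableEq H]
    {M : Ideal AlgInt} {p : ℕ} [hpp : Fact p.Prime] (hM : IsPModular p M)
    (f : Set (IrrCharacter H)) (hf : IsPBlock M f) (D : Subgroup H)
    (hD : IsDefectGroup p M f D) (hcyc : IsCyclic D)
    (c : Set (IrrCharacter (Subgroup.centralizer (D : Set H))))
    (hc : IsInducedBlock M (Subgroup.centralizer (D : Set H)) c f) (TH : Subgroup H)
    (hTH : ∀ g : H, g ∈ TH ↔ (g ∈ Subgroup.normalizer (D : Set H) ∧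
      StabilizesBlock (Subgroup.centralizer (D : Set H)) c g))
    (hcent : ∀ t ∈ TH, ∀ u ∈ D, t * u * t⁻¹ = u)
    (hSC : ∀ R : Finset H, (∀ u ∈ R, u ∈ D) →
      (∀ v ∈ D, ∃! u, u ∈ R ∧ ∃ t ∈ TH, t * u * t⁻¹ = v) →
      ∃ fu : ∀ u : H, Set (IrrCharacter (Subgroup.centralizer ({u} : Set H))),
        (∀ u ∈ R, IsInducedBlock M (Subgroup.centralizer ({u} : Set H)) (fu u) f ∧
          IsDefectGroup p M (fu u) (D.subgroupOf (Subgroup.centralizer ({u} : Set H)))) ∧
        Nat.card f = blockRank p f + ∑ u ∈ R.erase 1, blockRank p (fu u)) :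
    blockRank p f = 1 ∧ Nat.card f = Nat.card D := by
  classical
  have hprime : M.IsPrime := isPrime_of_isPModular hM
  -- a generator of `D`
  have := hcyc
  obtain ⟨g, hg⟩ := IsCyclic.exists_generator (α := D)
  obtain ⟨z, hz⟩ : ∃ z : H, z = (g : H) := ⟨_, rfl⟩
  have hzD : z ∈ D := by rw [hz]; exact g.2
  have hpow : ∀ u ∈ D, ∃ k : ℤ, z ^ k = u := by
    intro u hu
    obtain ⟨k, hk⟩ := Subgroup.mem_zpowers_iff.mp (hg ⟨u, hu⟩)
    refine ⟨k, ?_⟩
    have h1 := congrArg Subtype.val hk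
    rw [hz]
    simpa using h1
  -- `R` = the elements of `D`
  obtain ⟨R, hRdef⟩ : ∃ R : Finset H, R = Finset.univ.filter (fun x => x ∈ D) := ⟨_, rfl⟩
  have hRD : ∀ u ∈ R, u ∈ D := fun u hu => by
    rw [hRdef] at hu; exact (Finset.mem_filter.mp hu).2
  have hmemR : ∀ u, u ∈ D → u ∈ R := fun u hu => by
    rw [hRdef]; exact Finset.mem_filter.mpr ⟨Finset.mem_univ _, hu⟩
  have hRrep : ∀ v ∈ D, ∃! u, u ∈ R ∧ ∃ t ∈ TH, t * u * t⁻¹ = v := by
    intro v hv
    refine ⟨v, ⟨hmemR v hv, 1, TH.one_mem, by simp⟩, ?_⟩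
    rintro u ⟨huR, t, ht, htu⟩
    rw [← htu, hcent t ht u (hRD u huR)]
  obtain ⟨fu, hfu, hcount⟩ := hSC R hRD hRrep
  -- every rank is positive
  have hpos : ∀ u ∈ R, 1 ≤ blockRank p (fu u) := by
    intro u hu
    obtain ⟨ψ, hψ⟩ := (hfu u hu).1.1
    have hne : (fu u).Nonempty := ⟨ψ, by rw [hψ]; exact mem_blockOf_self ψ⟩
    let _ : Fintype (Subgroup.centralizer ({u} : Set H)) := Fintype.ofFinite _
    exact Cfsg.Agent.Lib.Helper27.BlkGlueC4.blockRank_pos p (fu u) hne
  have hfpos : 1 ≤ blockRank p f := by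
    obtain ⟨ψ, hψ⟩ := hf
    have hne : f.Nonempty := ⟨ψ, by rw [hψ]; exact mem_blockOf_self ψ⟩
    exact Cfsg.Agent.Lib.Helper27.BlkGlueC4.blockRank_pos p f hne
  have hsum : (R.erase 1).card ≤ ∑ u ∈ R.erase 1, blockRank p (fu u) := by
    calc (R.erase 1).card = ∑ u ∈ R.erase 1, 1 := by simp
      _ ≤ _ := Finset.sum_le_sum fun u hu => hpos u (Finset.mem_of_mem_erase hu)
  have hRcard : R.card = Nat.card D := by
    rw [Nat.card_eq_fintype_card, Fintype.card_subtype, hRdef]
  have herase : (R.erase 1).card = Nat.card D - 1 := by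
    rw [Finset.card_erase_of_mem (hmemR 1 D.one_mem), hRcard]
  -- the upper bound from the major subsection `(z, f_z)`
  obtain ⟨hind, hdef⟩ := hfu z (hmemR z hzD)
  have hzc : ∀ d ∈ D, d * z = z * d := by
    intro d hd
    obtain ⟨k, rfl⟩ := hpow d hd
    exact ((Commute.refl z).zpow_left k).eq
  have hcentral : D.subgroupOf (Subgroup.centralizer ({z} : Set H)) ≤
      Subgroup.center (Subgroup.centralizer ({z} : Set H)) := by
    intro x hx
    rw [Subgroup.mem_center_iff]
    intro y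
    have hxD : (x : H) ∈ D := Subgroup.mem_subgroupOf.mp hx
    obtain ⟨k, hk⟩ := hpow _ hxD
    have hyz : Commute (y : H) z :=
      (Subgroup.mem_centralizer_iff.mp y.2 z (Set.mem_singleton z)).symm
    apply Subtype.ext
    show (y : H) * (x : H) = (x : H) * (y : H)
    rw [← hk]
    exact (hyz.zpow_right k).eq
  let _ : Fintype (Subgroup.centralizer ({z} : Set H)) := Fintype.ofFinite _
  have hl1 : blockRank p (fu z) = 1 :=
    Cfsg.Agent.Lib.Helper23.blockRank_eq_one_of_central p hM (fu z) hind.1 _ hdef hcentral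
  have hk : Nat.card f ≤ p ^ blockDefect p f :=
    Cfsg.Agent.S4539.result p M hM f hf D hD z hzD hzc (fu z) hind hdef (by rw [hl1]; norm_num)
  have hDcard : Nat.card D = p ^ blockDefect p f := card_defectGroup_eq hM f hf D hD
  have hDpos : 0 < Nat.card D := Nat.card_pos
  rw [← hDcard] at hk
  constructor <;> omega

end Cfsg.Agent.Lib.Helper29.CycR1
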