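/-
helper29: S4481 leaf (LAT2) `lattice_core` - the lattice lemma, full form.  `lattice_core_of` is the `_of` form over
(LAT1) (the star `g j = δ₁ e_c - δ₁ e_{a j}` is a hypothesis `hstar`); `lattice_core` = the exact leaf, over helper2's
landed `Helper2.DIHLAT1.lattice_star`.
-/
import Mathlib
import Cfsg.Prelude.Def_Blocks
import Cfsg.Agent.Lib.Helper6.DihBlkDefs
import Cfsg.Agent.Lib.Lead.BrLeo12
import Cfsg.Agent.S0514
import Cfsg.Agent.Lib.Helper2.DIHLAT1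

set_option autoImplicit false

namespace Cfsg.Agent.Lib.Helper29.DIHLAT2

open Cfsg Cfsg.Agent.CharLib
open Cfsg.Agent.Lib.Helper6.DihBlk
open scoped ComplexConjugate

section abstract_part

variable {B : Type*} [Fintype B] [DecidableEq B] {h : ℕ} {ζ : ℂ}

/-- a vector of norm three with three known non-zero coordinates vanishes elsewhere -/
theorem zero_off_three (γ : B → ℤ) (x0 x1 x2 : B) (h01 : x0 ≠ x1) (h02 : x0 ≠ x2) (h12 : x1 ≠ x2)
    (hn : ∑ χ, γ χ ^ 2 = 3) (h0 : γ x0 ^ 2 = 1) (h1 : γ x1 ^ 2 = 1) (h2 : γ x2 ^ 2 = 1) :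
    ∀ χ, χ ≠ x0 → χ ≠ x1 → χ ≠ x2 → γ χ = 0 := by
  have hsum : ∑ χ ∈ ({x0, x1, x2} : Finset B), γ χ ^ 2 = 3 := by
    rw [Finset.sum_insert (by simp [h01, h02]), Finset.sum_pair h12, h0, h1, h2]
    norm_num
  have hcompl : ∑ χ ∈ ({x0, x1, x2} : Finset B)ᶜ, γ χ ^ 2 = 0 := by
    have h := Finset.sum_add_sum_compl ({x0, x1, x2} : Finset B) (fun χ => γ χ ^ 2)
    rw [hsum, hn] at h
    linarith
  intro χ hx0 hx1 hx2
  have hmem : χ ∈ ({x0, x1, x2} : Finset B)ᶜ := by simp [hx0, hx1, hx2]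
  have h := (Finset.sum_eq_zero_iff_of_nonneg (fun i _ => sq_nonneg (γ i))).mp hcompl χ hmem
  exact pow_eq_zero_iff (two_ne_zero) |>.mp h

/-- the inner product with a vector supported on three points -/
theorem sum_three (γ f : B → ℤ) (x0 x1 x2 : B) (h01 : x0 ≠ x1) (h02 : x0 ≠ x2) (h12 : x1 ≠ x2)
    (hz : ∀ χ, χ ≠ x0 → χ ≠ x1 → χ ≠ x2 → γ χ = 0) :
    ∑ χ, γ χ * f χ = γ x0 * f x0 + γ x1 * f x1 + γ x2 * f x2 := by
  have hcompl : ∑ χ ∈ ({x0, x1, x2} : Finset B)ᶜ, γ χ * f χ = 0 := by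
    apply Finset.sum_eq_zero
    intro χ hχ
    have hχ' : χ ≠ x0 ∧ χ ≠ x1 ∧ χ ≠ x2 := by simpa using hχ
    rw [hz χ hχ'.1 hχ'.2.1 hχ'.2.2, zero_mul]
  rw [← Finset.sum_add_sum_compl ({x0, x1, x2} : Finset B), hcompl, add_zero,
    Finset.sum_insert (by simp [h01, h02]), Finset.sum_pair h12]
  ring

/-- **LAT2** in `_of` form over (LAT1). -/
theorem lattice_core_of (q : ℕ) (hq : 1 ≤ q) (hq2 : q ≠ 2) (m0 me : B → ℤ) (mj : Fin q → B → ℤ) (b₀ : B) (t : ℤ)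
    (f : B → ℤ)
    (hf : ∀ χ, 0 < f χ) (hf0 : f b₀ = 1)
    (h00 : ∑ χ, m0 χ * m0 χ = t + 2) (hee : ∑ χ, me χ * me χ = t + 2)
    (h0e : ∑ χ, m0 χ * me χ = t)
    (h0j : ∀ j, ∑ χ, m0 χ * mj j χ = t) (hej : ∀ j, ∑ χ, me χ * mj j χ = t)
    (hb0 : m0 b₀ = 1) (hbe : me b₀ = 0) (hbj : ∀ j, mj j b₀ = 0)
    (hfe : ∑ χ, (m0 χ - me χ) * f χ = 0)
    (hstar : ∃ (δ₁ : ℤ) (c : B) (a : Fin q → B), (δ₁ = 1 ∨ δ₁ = -1) ∧ Function.Injective a ∧ c ≠ b₀ ∧
      (∀ j, a j ≠ b₀ ∧ a j ≠ c) ∧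
      (∀ j χ, mj j χ = m0 χ - (if χ = b₀ then 1 else 0) - (if χ = c then δ₁ else 0) +
        (if χ = a j then δ₁ else 0))) :
    ∃ (δ₁ δ₂ δ₃ : ℤ) (c b b' : B) (a : Fin q → B),
      (δ₁ = 1 ∨ δ₁ = -1) ∧ (δ₂ = 1 ∨ δ₂ = -1) ∧ (δ₃ = 1 ∨ δ₃ = -1) ∧
      Function.Injective a ∧ c ≠ b₀ ∧ b ≠ b₀ ∧ b' ≠ b₀ ∧ c ≠ b ∧ c ≠ b' ∧ b ≠ b' ∧
      (∀ j, a j ≠ b₀ ∧ a j ≠ c ∧ a j ≠ b ∧ a j ≠ b') ∧
      (∀ χ, me χ = m0 χ - (if χ = b₀ then 1 else 0) - (if χ = c then δ₁ else 0) -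
        (if χ = b then δ₂ else 0) - (if χ = b' then δ₃ else 0)) ∧
      (∀ j χ, mj j χ = m0 χ - (if χ = b₀ then 1 else 0) - (if χ = c then δ₁ else 0) +
        (if χ = a j then δ₁ else 0)) := by
  -- the vector `γ = m0 - me - e_{b₀}`
  obtain ⟨γ, hγ⟩ : ∃ γ : B → ℤ, ∀ χ, γ χ = m0 χ - me χ - (if χ = b₀ then 1 else 0) :=
    ⟨_, fun _ => rfl⟩
  obtain ⟨E, hEdef⟩ : ∃ E : B → ℤ, ∀ χ, E χ = if χ = b₀ then 1 else 0 := ⟨_, fun _ => rfl⟩
  have hE : ∀ v : B → ℤ, ∑ χ, E χ * v χ = v b₀ := by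
    intro v
    simp [hEdef]
  have hEE : ∑ χ, E χ * E χ = 1 := by
    rw [hE E, hEdef]
    simp
  have hγE : ∀ χ, γ χ = m0 χ - me χ - E χ := fun χ => by rw [hγ, hEdef]
  -- (G1) norm three
  have hG1 : ∑ χ, γ χ ^ 2 = 3 := by
    have key : ∀ χ, γ χ ^ 2 = m0 χ * m0 χ - 2 * (m0 χ * me χ) + me χ * me χ - 2 * (E χ * m0 χ) +
        2 * (E χ * me χ) + E χ * E χ := by
      intro χ
      rw [hγE]
      ring
    rw [Finset.sum_congr rfl (fun χ _ => key χ)]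
    simp only [Finset.sum_add_distrib, Finset.sum_sub_distrib, ← Finset.mul_sum]
    rw [h00, h0e, hee, hE m0, hE me, hEE, hb0, hbe]
    ring
  -- (G2)
  have hG2 : γ b₀ = 0 := by
    rw [hγ, hb0, hbe]
    simp
  -- (G4)
  have hG4 : ∑ χ, γ χ * f χ = -1 := by
    have key : ∀ χ, γ χ * f χ = (m0 χ - me χ) * f χ - E χ * f χ := by
      intro χ
      rw [hγE]
      ring
    rw [Finset.sum_congr rfl (fun χ _ => key χ), Finset.sum_sub_distrib, hfe, hE f, hf0]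
    ring
  -- values of `γ`
  have hbd : ∀ χ, -1 ≤ γ χ ∧ γ χ ≤ 1 := by
    intro χ
    have h1 : γ χ ^ 2 ≤ ∑ χ : B, γ χ ^ 2 :=
      Finset.single_le_sum (f := fun χ => γ χ ^ 2) (fun i _ => sq_nonneg (γ i)) (Finset.mem_univ χ)
    rw [hG1] at h1
    constructor <;> nlinarith
  have hsq : ∀ χ, γ χ ≠ 0 → γ χ ^ 2 = 1 := by
    intro χ hne
    obtain ⟨h1, h2⟩ := hbd χ
    have h3 : γ χ = 1 ∨ γ χ = -1 := by omega
    rcases h3 with h3 | h3 <;> rw [h3] <;> norm_num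
  -- (G3) for star data
  have hG3 : ∀ (δ₁ : ℤ) (c : B) (a : Fin q → B),
      (∀ j χ, mj j χ = m0 χ - (if χ = b₀ then 1 else 0) - (if χ = c then δ₁ else 0) +
        (if χ = a j then δ₁ else 0)) → ∀ j, δ₁ * γ c - δ₁ * γ (a j) = 1 := by
    intro δ₁ c a hmj j
    have h1 : ∑ χ, (m0 χ - mj j χ - E χ) * γ χ = 1 := by
      have key : ∀ χ, (m0 χ - mj j χ - E χ) * γ χ = m0 χ * m0 χ - m0 χ * me χ - E χ * m0 χ -
          m0 χ * mj j χ + me χ * mj j χ + E χ * mj j χ - E χ * m0 χ + E χ * me χ + E χ * E χ := by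
        intro χ
        rw [hγE]
        ring
      rw [Finset.sum_congr rfl (fun χ _ => key χ)]
      simp only [Finset.sum_add_distrib, Finset.sum_sub_distrib]
      rw [h00, h0e, h0j j, hej j, hE m0, hE me, hE (mj j), hEE, hb0, hbe, hbj j]
      ring
    have h2 : ∀ χ, m0 χ - mj j χ - E χ = (if χ = c then δ₁ else 0) - (if χ = a j then δ₁ else 0) := by
      intro χ
      rw [hmj j χ, hEdef]
      ring
    rw [Finset.sum_congr rfl (fun χ _ => by rw [h2 χ])] at h1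
    simpa [sub_mul, Finset.sum_sub_distrib, ite_mul] using h1
  -- normalize the star: `γ c = δ₁`, `γ (a j) = 0`
  have hnorm : ∃ (δ₁ : ℤ) (c : B) (a : Fin q → B), (δ₁ = 1 ∨ δ₁ = -1) ∧ Function.Injective a ∧ c ≠ b₀ ∧
      (∀ j, a j ≠ b₀ ∧ a j ≠ c) ∧
      (∀ j χ, mj j χ = m0 χ - (if χ = b₀ then 1 else 0) - (if χ = c then δ₁ else 0) +
        (if χ = a j then δ₁ else 0)) ∧ γ c = δ₁ ∧ ∀ j, γ (a j) = 0 := by
    obtain ⟨δ₁, c, a, hδ, hainj, hcb, hab, hmj⟩ := hstar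
    have hrel := hG3 δ₁ c a hmj
    have hcbd := hbd c
    by_cases hcase : γ c = δ₁
    · refine ⟨δ₁, c, a, hδ, hainj, hcb, hab, hmj, hcase, ?_⟩
      intro j
      have h1 := hrel j
      have h2 := hbd (a j)
      rw [hcase] at h1
      rcases hδ with rfl | rfl <;> omega
    · -- `γ c = 0`, `γ (a j) = -δ₁` for all `j`
      have hc0 : γ c = 0 := by
        have h1 := hrel ⟨0, hq⟩
        have h2 := hbd (a ⟨0, hq⟩)
        rcases hδ with rfl | rfl <;> omega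
      have haj : ∀ j, γ (a j) = -δ₁ := by
        intro j
        have h1 := hrel j
        rw [hc0] at h1
        rcases hδ with rfl | rfl <;> omega
      have hajsq : ∀ j, γ (a j) ^ 2 = 1 := by
        intro j
        rw [haj j]
        rcases hδ with rfl | rfl <;> norm_num
      rcases Nat.lt_or_ge q 3 with hq3 | hq3
      · -- `q = 1`: swap `c` and `a 0`
        have hq1 : q = 1 := by omega
        subst hq1
        refine ⟨-δ₁, a 0, fun _ => c, ?_, ?_, (hab 0).1, ?_, ?_, haj 0, fun _ => hc0⟩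
        · rcases hδ with rfl | rfl
          · right; rfl
          · left; norm_num
        · intro i j _
          exact Subsingleton.elim i j
        · intro j
          exact ⟨hcb, fun h => (hab 0).2 h.symm⟩
        · intro j χ
          have hj : j = 0 := Subsingleton.elim j 0
          subst hj
          rw [hmj 0 χ]
          by_cases h1 : χ = c
          · have h2 : ¬ χ = a 0 := fun h => (hab 0).2 (h.symm.trans h1)
            simp only [if_pos h1, if_neg h2]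
            ring
          · by_cases h2 : χ = a 0
            · simp only [if_neg h1, if_pos h2]
              ring
            · simp only [if_neg h1, if_neg h2]
      · -- `q ≥ 3`: impossible
        exfalso
        have hinj01 : a ⟨0, by omega⟩ ≠ a ⟨1, by omega⟩ := fun h => by
          have := hainj h
          simp [Fin.ext_iff] at this
        have hinj02 : a ⟨0, by omega⟩ ≠ a ⟨2, by omega⟩ := fun h => by
          have := hainj h
          simp [Fin.ext_iff] at this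
        have hinj12 : a ⟨1, by omega⟩ ≠ a ⟨2, by omega⟩ := fun h => by
          have := hainj h
          simp [Fin.ext_iff] at this
        have hz := zero_off_three γ _ _ _ hinj01 hinj02 hinj12 hG1 (hajsq _) (hajsq _) (hajsq _)
        have hs := sum_three γ f _ _ _ hinj01 hinj02 hinj12 hz
        rw [hG4, haj, haj, haj] at hs
        have f0 := hf (a ⟨0, by omega⟩)
        have f1 := hf (a ⟨1, by omega⟩)
        have f2 := hf (a ⟨2, by omega⟩)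
        rcases hδ with rfl | rfl <;> nlinarith
  obtain ⟨δ₁, c, a, hδ, hainj, hcb, hab, hmj, hγc, hγa⟩ := hnorm
  have hcsq : γ c ^ 2 = 1 := by
    rw [hγc]
    rcases hδ with rfl | rfl <;> norm_num
  -- the second support point
  have hs1 : ∑ χ ∈ Finset.univ.erase c, γ χ ^ 2 = 2 := by
    have h := Finset.add_sum_erase Finset.univ (fun χ => γ χ ^ 2) (Finset.mem_univ c)
    rw [hG1] at h
    have h' : γ c ^ 2 + ∑ χ ∈ Finset.univ.erase c, γ χ ^ 2 = 3 := h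
    rw [hcsq] at h'
    linarith
  obtain ⟨b, hb, hbne⟩ := Finset.exists_ne_zero_of_sum_ne_zero (by rw [hs1]; norm_num :
    ∑ χ ∈ Finset.univ.erase c, γ χ ^ 2 ≠ 0)
  have hbc : b ≠ c := (Finset.mem_erase.mp hb).1
  have hbne' : γ b ≠ 0 := fun h0 => hbne (by rw [h0]; norm_num)
  have hbsq : γ b ^ 2 = 1 := hsq b hbne'
  have hs2 : ∑ χ ∈ (Finset.univ.erase c).erase b, γ χ ^ 2 = 1 := by
    have h := Finset.add_sum_erase (Finset.univ.erase c) (fun χ => γ χ ^ 2) hb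
    rw [hs1] at h
    have h' : γ b ^ 2 + ∑ χ ∈ (Finset.univ.erase c).erase b, γ χ ^ 2 = 2 := h
    rw [hbsq] at h'
    linarith
  obtain ⟨b', hb', hb'ne⟩ := Finset.exists_ne_zero_of_sum_ne_zero (by rw [hs2]; norm_num :
    ∑ χ ∈ (Finset.univ.erase c).erase b, γ χ ^ 2 ≠ 0)
  have hb'b : b' ≠ b := (Finset.mem_erase.mp hb').1
  have hb'c : b' ≠ c := (Finset.mem_erase.mp (Finset.mem_erase.mp hb').2).1
  have hb'ne' : γ b' ≠ 0 := fun h0 => hb'ne (by rw [h0]; norm_num)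
  have hb'sq : γ b' ^ 2 = 1 := hsq b' hb'ne'
  have hz := zero_off_three γ c b b' hbc.symm hb'c.symm hb'b.symm hG1 hcsq hbsq hb'sq
  have hδ₂ : γ b = 1 ∨ γ b = -1 := by
    obtain ⟨h1, h2⟩ := hbd b
    omega
  have hδ₃ : γ b' = 1 ∨ γ b' = -1 := by
    obtain ⟨h1, h2⟩ := hbd b'
    omega
  refine ⟨δ₁, γ b, γ b', c, b, b', a, hδ, hδ₂, hδ₃, hainj, hcb, ?_, ?_, hbc.symm, hb'c.symm,
    hb'b.symm, ?_, ?_, hmj⟩
  · intro h0
    exact hbne' (by rw [h0, hG2])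
  · intro h0
    exact hb'ne' (by rw [h0, hG2])
  · intro j
    refine ⟨(hab j).1, (hab j).2, ?_, ?_⟩
    · intro h0
      exact hbne' (by rw [← h0, hγa j])
    · intro h0
      exact hb'ne' (by rw [← h0, hγa j])
  · intro χ
    have hχ := hγ χ
    by_cases h1 : χ = c
    · subst h1
      simp only [if_true, if_neg hbc.symm, if_neg hb'c.symm]
      rw [hγc] at hχ
      linarith
    · by_cases h2 : χ = b
      · subst h2
        simp only [if_neg h1, if_true, if_neg hb'b.symm]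
        linarith
      · by_cases h3 : χ = b'
        · subst h3
          simp only [if_neg h1, if_neg h2, if_true]
          linarith
        · simp only [if_neg h1, if_neg h2, if_neg h3]
          rw [hz χ h1 h2 h3] at hχ
          linarith

/-- **LAT2** the lattice lemma, full form. -/
theorem lattice_core (q : ℕ) (hq : 1 ≤ q) (hq2 : q ≠ 2) (m0 me : B → ℤ) (mj : Fin q → B → ℤ) (b₀ : B) (t : ℤ) (f : B → ℤ)
    (hf : ∀ χ, 0 < f χ) (hf0 : f b₀ = 1)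
    (h00 : ∑ χ, m0 χ * m0 χ = t + 2) (hee : ∑ χ, me χ * me χ = t + 2)
    (h0e : ∑ χ, m0 χ * me χ = t)
    (h0j : ∀ j, ∑ χ, m0 χ * mj j χ = t) (hej : ∀ j, ∑ χ, me χ * mj j χ = t)
    (hjj : ∀ i j, ∑ χ, mj i χ * mj j χ = t + if i = j then 1 else 0)
    (hb0 : m0 b₀ = 1) (hbe : me b₀ = 0) (hbj : ∀ j, mj j b₀ = 0)
    (hfe : ∑ χ, (m0 χ - me χ) * f χ = 0) (hfj : ∀ j, ∑ χ, (m0 χ - mj j χ) * f χ = 0) :
    ∃ (δ₁ δ₂ δ₃ : ℤ) (c b b' : B) (a : Fin q → B),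
      (δ₁ = 1 ∨ δ₁ = -1) ∧ (δ₂ = 1 ∨ δ₂ = -1) ∧ (δ₃ = 1 ∨ δ₃ = -1) ∧
      Function.Injective a ∧ c ≠ b₀ ∧ b ≠ b₀ ∧ b' ≠ b₀ ∧ c ≠ b ∧ c ≠ b' ∧ b ≠ b' ∧
      (∀ j, a j ≠ b₀ ∧ a j ≠ c ∧ a j ≠ b ∧ a j ≠ b') ∧
      (∀ χ, me χ = m0 χ - (if χ = b₀ then 1 else 0) - (if χ = c then δ₁ else 0) -
        (if χ = b then δ₂ else 0) - (if χ = b' then δ₃ else 0)) ∧
      (∀ j χ, mj j χ = m0 χ - (if χ = b₀ then 1 else 0) - (if χ = c then δ₁ else 0) +
        (if χ = a j then δ₁ else 0)) :=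
  lattice_core_of q hq hq2 m0 me mj b₀ t f hf hf0 h00 hee h0e h0j hej hb0 hbe hbj hfe
    (Cfsg.Agent.Lib.Helper2.DIHLAT1.lattice_star q hq m0 mj b₀ t f hf hf0 h00 h0j hjj hb0 hbj hfj)

end abstract_part

end Cfsg.Agent.Lib.Helper29.DIHLAT2
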