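import Mathlib

/-!
# Elementary facts on `DihedralGroup m` with `m` even (helper29)

* `dihHom hm α β`: the homomorphisms `DihedralGroup m →* Multiplicative (ZMod 2)` (`m` even),
  `r i ↦ α * (i mod 2)`, `sr i ↦ α * (i mod 2) + β`.
* classification of involutions, conjugacy of reflections, the central involution.
-/

set_option autoImplicit false

namespace Cfsg.Agent.Lib.Helper29

open DihedralGroup
open scoped commutatorElement

variable {m : ℕ}

/-- the homomorphisms of a dihedral group of even degree onto groups of order at most 2 -/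
def dihHom (hm : 2 ∣ m) (α β : ZMod 2) : DihedralGroup m →* Multiplicative (ZMod 2) :=
  MonoidHom.mk' (fun d => match d with
    | r i => Multiplicative.ofAdd (α * ZMod.castHom hm (ZMod 2) i)
    | sr i => Multiplicative.ofAdd (α * ZMod.castHom hm (ZMod 2) i + β)) (by
    have h2 : ∀ x : ZMod 2, -x = x := fun x => ZMod.neg_eq_self_mod_two x
    have h3 : ∀ x : ZMod 2, x + x = 0 := by decide
    rintro (a | a) (b | b)
    · simp only [r_mul_r, map_add, ← ofAdd_add]
      congr 1; ring
    · simp only [r_mul_sr, map_sub, ← ofAdd_add]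
      congr 1
      rw [sub_eq_add_neg, h2]; ring
    · simp only [sr_mul_r, map_add, ← ofAdd_add]
      congr 1; ring
    · simp only [sr_mul_sr, map_sub, ← ofAdd_add]
      congr 1
      rw [sub_eq_add_neg, h2]
      have := h3 β
      linear_combination (-1 : ZMod 2) * this)

@[simp] theorem dihHom_r (hm : 2 ∣ m) (α β : ZMod 2) (i : ZMod m) :
    dihHom hm α β (r i) = Multiplicative.ofAdd (α * ZMod.castHom hm (ZMod 2) i) := rfl

@[simp] theorem dihHom_sr (hm : 2 ∣ m) (α β : ZMod 2) (i : ZMod m) :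
    dihHom hm α β (sr i) = Multiplicative.ofAdd (α * ZMod.castHom hm (ZMod 2) i + β) := rfl

/-- the central rotation by a half turn -/
def dihZ (m : ℕ) : DihedralGroup m := r ((m / 2 : ℕ) : ZMod m)

theorem dihZ_mul_self (hm : 2 ∣ m) : dihZ m * dihZ m = 1 := by
  unfold dihZ
  rw [r_mul_r, ← Nat.cast_add, ← two_mul, Nat.mul_div_cancel' hm, ZMod.natCast_self, r_zero]

theorem dihZ_ne_one [NeZero m] (hm : 2 ∣ m) : dihZ m ≠ 1 := by
  unfold dihZ
  rw [one_def]
  intro h
  have h1 : ((m / 2 : ℕ) : ZMod m) = 0 := r.inj h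
  rw [ZMod.natCast_eq_zero_iff] at h1
  have hm0 : 0 < m := Nat.pos_of_ne_zero (NeZero.ne m)
  obtain ⟨k, hk⟩ := hm
  have hk0 : 0 < k := by omega
  have h2 : m / 2 = k := by omega
  rw [h2] at h1
  have := Nat.le_of_dvd hk0 h1
  omega

theorem orderOf_dihZ [NeZero m] (hm : 2 ∣ m) : orderOf (dihZ m) = 2 := by
  apply orderOf_eq_prime
  · rw [pow_two]; exact dihZ_mul_self hm
  · exact dihZ_ne_one hm

theorem dihZ_central (hm : 2 ∣ m) (d : DihedralGroup m) : d * dihZ m = dihZ m * d := by
  have h0 : ((m / 2 : ℕ) : ZMod m) + ((m / 2 : ℕ) : ZMod m) = 0 := by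
    rw [← Nat.cast_add, ← two_mul, Nat.mul_div_cancel' hm, ZMod.natCast_self]
  unfold dihZ
  cases d with
  | r i => simp [add_comm]
  | sr i =>
    simp only [sr_mul_r, r_mul_sr, sr.injEq]
    linear_combination h0

/-- the involutions of a dihedral group of even degree -/
theorem dih_involution [NeZero m] (hm : 2 ∣ m) (d : DihedralGroup m) (h2 : d * d = 1)
    (h1 : d ≠ 1) : d = dihZ m ∨ ∃ i, d = sr i := by
  cases d with
  | sr i => exact Or.inr ⟨i, rfl⟩
  | r i =>
    left
    unfold dihZ
    congr 1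
    rw [r_mul_r, one_def] at h2
    have h3 : i + i = 0 := r.inj h2
    have hi0 : i ≠ 0 := by
      rintro rfl
      exact h1 rfl
    have hm0 : 0 < m := Nat.pos_of_ne_zero (NeZero.ne m)
    have h4 : (i.val + i.val) % m = 0 := by
      rw [← ZMod.val_add, h3, ZMod.val_zero]
    have h5 : i.val < m := ZMod.val_lt i
    have h6 : 0 < i.val := by
      rcases Nat.eq_zero_or_pos i.val with h | h
      · exact absurd ((ZMod.val_eq_zero i).mp h) hi0
      · exact h
    have h7 : i.val + i.val = m := by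
      obtain ⟨t, ht⟩ := Nat.dvd_of_mod_eq_zero h4
      have : t = 1 := by
        rcases t with _ | _ | t
        · omega
        · rfl
        · nlinarith
      rw [ht, this, mul_one]
    have h8 : i.val = m / 2 := by omega
    rw [← h8, ZMod.natCast_zmod_val]

/-- every reflection is conjugate to `sr 0` or to `sr 1` -/
theorem dih_conj_sr [NeZero m] (i : ZMod m) :
    ∃ x : DihedralGroup m, x * sr i * x⁻¹ = sr 0 ∨ x * sr i * x⁻¹ = sr 1 := by
  obtain ⟨b, k, hb, hi⟩ : ∃ b k : ℕ, b < 2 ∧ i = (b : ZMod m) + 2 * (k : ZMod m) := by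
    refine ⟨i.val % 2, i.val / 2, Nat.mod_lt _ (by norm_num), ?_⟩
    have := Nat.mod_add_div i.val 2
    calc i = ((i.val : ℕ) : ZMod m) := (ZMod.natCast_zmod_val i).symm
      _ = ((i.val % 2 + 2 * (i.val / 2) : ℕ) : ZMod m) := by rw [this]
      _ = _ := by push_cast; ring
  subst hi
  refine ⟨r (k : ZMod m), ?_⟩
  have hconj : r (k : ZMod m) * sr ((b : ZMod m) + 2 * (k : ZMod m)) * (r (k : ZMod m))⁻¹ =
      sr (b : ZMod m) := by
    simp only [r_mul_sr, inv_r, sr_mul_r, sr.injEq]
    ring
  rw [hconj]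
  interval_cases b
  · left; rw [Nat.cast_zero]
  · right; rw [Nat.cast_one]

theorem r_two_eq_commutator :
    (r 2 : DihedralGroup m) = ⁅(sr 0 : DihedralGroup m), (r (-1) : DihedralGroup m)⁆ := by
  rw [commutatorElement_def]
  simp only [sr_mul_r, inv_sr, sr_mul_sr, inv_r, r_mul_r, r.injEq]
  ring

theorem dihZ_mem_commutator (hm : 4 ∣ m) : dihZ m ∈ commutator (DihedralGroup m) := by
  have h1 : (r 2 : DihedralGroup m) ∈ commutator (DihedralGroup m) := by
    rw [r_two_eq_commutator]
    exact Subgroup.commutator_mem_commutator (Subgroup.mem_top (sr 0 : DihedralGroup m))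
      (Subgroup.mem_top (r (-1) : DihedralGroup m))
  have h2 : dihZ m = (r 2 : DihedralGroup m) ^ (m / 4) := by
    unfold dihZ
    rw [r_pow]
    congr 1
    obtain ⟨k, rfl⟩ := hm
    have e1 : 4 * k / 2 = 2 * k := by omega
    have e2 : 4 * k / 4 = k := by omega
    rw [e1, e2]
    push_cast
    ring
  rw [h2]
  exact Subgroup.pow_mem _ h1 _

/-- the kernel of `dihHom hm 1 0` is generated by `r 2` and `sr 0` -/
theorem ker_dihHom_one_zero_le [NeZero m] (hm : 2 ∣ m) (K : Subgroup (DihedralGroup m))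
    (h2 : r 2 ∈ K) (hs : sr 0 ∈ K) : (dihHom hm 1 0).ker ≤ K := by
  have hr : ∀ i : ZMod m, ZMod.castHom hm (ZMod 2) i = 0 → r i ∈ K := by
    intro i hi
    have h3 : ((i.val : ℕ) : ZMod 2) = 0 := by
      have := hi
      rwa [← ZMod.natCast_zmod_val i, map_natCast] at this
    rw [ZMod.natCast_eq_zero_iff] at h3
    obtain ⟨t, ht⟩ := h3
    have : r i = (r 2 : DihedralGroup m) ^ t := by
      rw [r_pow]
      congr 1
      rw [← ZMod.natCast_zmod_val i, ht]
      push_cast
      ring
    rw [this]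
    exact K.pow_mem h2 t
  intro d hd
  rw [MonoidHom.mem_ker] at hd
  cases d with
  | r i =>
    apply hr
    rw [dihHom_r] at hd
    have h5 : (1 : ZMod 2) * ZMod.castHom hm (ZMod 2) i = 0 := Multiplicative.ofAdd.injective hd
    rwa [one_mul] at h5
  | sr i =>
    have h4 : ZMod.castHom hm (ZMod 2) i = 0 := by
      rw [dihHom_sr] at hd
      have h5 : (1 : ZMod 2) * ZMod.castHom hm (ZMod 2) i + 0 = 0 :=
        Multiplicative.ofAdd.injective hd
      rwa [one_mul, add_zero] at h5
    have : sr i = sr 0 * r i := by simp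
    rw [this]
    exact K.mul_mem hs (hr i h4)

/-- the kernel of `dihHom hm 1 1` is generated by `r 2` and `sr 1` -/
theorem ker_dihHom_one_one_le [NeZero m] (hm : 2 ∣ m) (K : Subgroup (DihedralGroup m))
    (h2 : r 2 ∈ K) (hs : sr 1 ∈ K) : (dihHom hm 1 1).ker ≤ K := by
  have hr : ∀ i : ZMod m, ZMod.castHom hm (ZMod 2) i = 0 → r i ∈ K := by
    intro i hi
    have h3 : ((i.val : ℕ) : ZMod 2) = 0 := by
      have := hi
      rwa [← ZMod.natCast_zmod_val i, map_natCast] at this
    rw [ZMod.natCast_eq_zero_iff] at h3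
    obtain ⟨t, ht⟩ := h3
    have : r i = (r 2 : DihedralGroup m) ^ t := by
      rw [r_pow]
      congr 1
      rw [← ZMod.natCast_zmod_val i, ht]
      push_cast
      ring
    rw [this]
    exact K.pow_mem h2 t
  intro d hd
  rw [MonoidHom.mem_ker] at hd
  cases d with
  | r i =>
    apply hr
    rw [dihHom_r] at hd
    have h5 : (1 : ZMod 2) * ZMod.castHom hm (ZMod 2) i = 0 := Multiplicative.ofAdd.injective hd
    rwa [one_mul] at h5
  | sr i =>
    have h4 : ZMod.castHom hm (ZMod 2) (i - 1) = 0 := by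
      rw [dihHom_sr] at hd
      have h5 : (1 : ZMod 2) * ZMod.castHom hm (ZMod 2) i + 1 = 0 :=
        Multiplicative.ofAdd.injective hd
      rw [one_mul] at h5
      rw [map_sub, map_one]
      have h6 : ∀ x : ZMod 2, x + 1 = 0 → x - 1 = 0 := by decide
      exact h6 _ h5
    have : sr i = sr 1 * r (i - 1) := by simp
    rw [this]
    exact K.mul_mem hs (hr _ h4)

/-- a subgroup containing `sr 0` and `sr 1` is the whole dihedral group -/
theorem dih_eq_top_of_sr [NeZero m] (K : Subgroup (DihedralGroup m)) (h0 : sr 0 ∈ K)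
    (h1 : sr 1 ∈ K) : K = ⊤ := by
  have hr1 : (r 1 : DihedralGroup m) ∈ K := by
    have : (r 1 : DihedralGroup m) = sr 0 * sr 1 := by simp
    rw [this]; exact K.mul_mem h0 h1
  have hr : ∀ i : ZMod m, r i ∈ K := by
    intro i
    rw [← ZMod.natCast_zmod_val i, ← r_one_pow]
    exact K.pow_mem hr1 _
  rw [eq_top_iff]
  intro d _
  cases d with
  | r i => exact hr i
  | sr i =>
    have : sr i = sr 0 * r i := by simp
    rw [this]
    exact K.mul_mem h0 (hr i)

/-- the automorphism of the dihedral group exchanging `sr 0` and `sr 1` -/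
def dihSwap (m : ℕ) : DihedralGroup m ≃* DihedralGroup m where
  toFun d := match d with
    | r i => r (-i)
    | sr i => sr (1 - i)
  invFun d := match d with
    | r i => r (-i)
    | sr i => sr (1 - i)
  left_inv := by rintro (i | i) <;> simp
  right_inv := by rintro (i | i) <;> simp
  map_mul' := by
    rintro (a | a) (b | b) <;> simp only [r_mul_r, r_mul_sr, sr_mul_r, sr_mul_sr] <;>
      congr 1 <;> ring

@[simp] theorem dihSwap_r (i : ZMod m) : dihSwap m (r i) = r (-i) := rfl

@[simp] theorem dihSwap_sr (i : ZMod m) : dihSwap m (sr i) = sr (1 - i) := rfl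

theorem dihSwap_symm_sr (i : ZMod m) : (dihSwap m).symm (sr i) = sr (1 - i) := rfl

theorem dihSwap_symm_r (i : ZMod m) : (dihSwap m).symm (r i) = r (-i) := rfl

theorem dihSwap_symm_dihZ (hm : 2 ∣ m) : (dihSwap m).symm (dihZ m) = dihZ m := by
  have h0 : ((m / 2 : ℕ) : ZMod m) + ((m / 2 : ℕ) : ZMod m) = 0 := by
    rw [← Nat.cast_add, ← two_mul, Nat.mul_div_cancel' hm, ZMod.natCast_self]
  unfold dihZ
  rw [dihSwap_symm_r]
  congr 1
  linear_combination (-1 : ZMod m) * h0

/-- a subgroup of exponent 2 with two independent involutions contains the central involution -/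
theorem dihZ_mem_of_forall_mul_self [NeZero m] (hm : 2 ∣ m) (U : Subgroup (DihedralGroup m))
    (hexp : ∀ x ∈ U, x * x = 1) (a b : DihedralGroup m) (ha : a ∈ U) (hb : b ∈ U)
    (ha1 : a ≠ 1) (hb1 : b ≠ 1) (hab : a * b ≠ 1) : dihZ m ∈ U := by
  rcases dih_involution hm a (hexp a ha) ha1 with h | ⟨i, rfl⟩
  · rw [← h]; exact ha
  rcases dih_involution hm b (hexp b hb) hb1 with h | ⟨j, rfl⟩
  · rw [← h]; exact hb
  have habU : sr i * sr j ∈ U := U.mul_mem ha hb
  rcases dih_involution hm _ (hexp _ habU) hab with h | ⟨k, hk⟩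
  · rw [← h]; exact habU
  · rw [sr_mul_sr] at hk
    exact absurd hk (by simp)

/-- every Klein four-subgroup of a dihedral group of even degree contains the central involution -/
theorem dihZ_mem_of_isKleinFour [NeZero m] (hm : 2 ∣ m) (U : Subgroup (DihedralGroup m))
    (hU : IsKleinFour U) : dihZ m ∈ U := by
  have hexp : ∀ x ∈ U, x * x = 1 := by
    intro x hx
    have h1 : (⟨x, hx⟩ : U) ^ 2 = 1 := by
      rw [← hU.exponent_two]; exact Monoid.pow_exponent_eq_one _
    have h2 := congrArg Subtype.val h1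
    simpa [pow_two] using h2
  have hcard : Nat.card U = 4 := hU.card_four
  haveI : Nontrivial U := by
    rw [← Finite.one_lt_card_iff_nontrivial, hcard]; norm_num
  obtain ⟨⟨a, ha⟩, ha1⟩ := exists_ne (1 : U)
  have ha1' : a ≠ 1 := fun h => ha1 (Subtype.ext h)
  have hoa : orderOf a = 2 := orderOf_eq_prime (by rw [pow_two]; exact hexp a ha) ha1'
  have hlt : Subgroup.zpowers a < U := by
    refine lt_of_le_of_ne (Subgroup.zpowers_le_of_mem ha) (fun h => ?_)
    have := Nat.card_zpowers a
    rw [h, hcard, hoa] at this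
    norm_num at this
  obtain ⟨b, hb, hbn⟩ := SetLike.exists_of_lt hlt
  have hb1 : b ≠ 1 := by
    rintro rfl
    exact hbn (Subgroup.one_mem _)
  have hab : a * b ≠ 1 := by
    intro h
    apply hbn
    have : b = a⁻¹ := (inv_eq_of_mul_eq_one_right h).symm
    rw [this]
    exact Subgroup.inv_mem _ (Subgroup.mem_zpowers a)
  exact dihZ_mem_of_forall_mul_self hm U hexp a b ha hb ha1' hb1 hab

/-- an involution other than the central one is conjugate to `sr 0` or to `sr 1` -/
theorem dih_involution_conj [NeZero m] (hm : 2 ∣ m) (d : DihedralGroup m) (h2 : d * d = 1)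
    (h1 : d ≠ 1) (hz : d ≠ dihZ m) :
    ∃ x : DihedralGroup m, x * d * x⁻¹ = sr 0 ∨ x * d * x⁻¹ = sr 1 := by
  rcases dih_involution hm d h2 h1 with h | ⟨i, rfl⟩
  · exact absurd h hz
  · exact dih_conj_sr i

end Cfsg.Agent.Lib.Helper29
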