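import Cfsg.Agent.Lib.Helper29.TCF23E8Main
import Cfsg.Agent.Lib.Helper29.TCF23E7Main
import Cfsg.Agent.Lib.Helper28.TCFi23W4Main
import Cfsg.Agent.Lib.Helper28.TC2Tower

set_option autoImplicit false
set_option maxRecDepth 100000

/-!
# The presented Coxeter group of type E8 has at most 696729600 elements

Tower `E8 > E7 > E6 > 1` with indices 240, 56, 51840 (the last enumeration is helper28's level 4 of the Fi23 tower).
-/

namespace Cfsg.Agent.Lib.Helper29.F23E8Card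
open Cfsg.Agent.Lib.Helper28.TC2Tower Cfsg.Agent.Lib.Helper28.TC2Glue

/-- relators of the presented Coxeter group of type E6 (helper28) -/
abbrev R6 := Cfsg.Agent.Lib.Helper28.TCFi23W4Link.rels
/-- relators of the presented Coxeter group of type E7 -/
abbrev R7 := Cfsg.Agent.Lib.Helper29.TCF23E7Link.rels
/-- relators of the presented Coxeter group of type E8 -/
abbrev R8 := Cfsg.Agent.Lib.Helper29.TCF23E8Link.rels

theorem card6 : Finite (PresentedGroup R6) ∧ Nat.card (PresentedGroup R6) = 51840 := by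
  have h : ((Subgroup.closure Cfsg.Agent.Lib.Helper28.TCFi23W4Link.S).map
      (PresentedGroup.mk Cfsg.Agent.Lib.Helper28.TCFi23W4Link.rels)).index = 51840 :=
    Cfsg.Agent.Lib.Helper28.TCFi23W4Main.main.1
  have e : (Subgroup.closure Cfsg.Agent.Lib.Helper28.TCFi23W4Link.S).map
      (PresentedGroup.mk Cfsg.Agent.Lib.Helper28.TCFi23W4Link.rels) = ⊥ := by
    show (Subgroup.closure {1}).map _ = ⊥
    rw [Subgroup.closure_singleton_one, Subgroup.map_bot]
  rw [e] at h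
  exact card_of_index_bot (by norm_num) h

/-- the generators of E6 inside E7 -/
def up6 : Cfsg.Agent.Lib.Helper28.TCFi23W4Def.Gen → Cfsg.Agent.Lib.Helper29.F23E7Def.Gen
  | .b => .b
  | .c => .c
  | .d => .d
  | .e => .e
  | .f => .f
  | .h => .h

theorem up6_rel : ∀ L ∈ Cfsg.Agent.Lib.Helper28.TCFi23W4Link.relWords,
    upWord up6 L ∈ Cfsg.Agent.Lib.Helper29.TCF23E7Link.relWords := by decide +kernel

theorem card7 : Finite (PresentedGroup R7) ∧ Nat.card (PresentedGroup R7) ≤ 2903040 := by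
  haveI := card6.1
  have hrel := hrel_of_words R7 R6 up6 Cfsg.Agent.Lib.Helper29.TCF23E7Link.relWords
    Cfsg.Agent.Lib.Helper28.TCFi23W4Link.relWords
    Cfsg.Agent.Lib.Helper29.TCF23E7Link.link.hrels Cfsg.Agent.Lib.Helper28.TCFi23W4Link.link.hrels up6_rel
  have hS : ∀ s ∈ Cfsg.Agent.Lib.Helper29.TCF23E7Link.S, ∃ b, s = FreeGroup.of (up6 b) := by
    intro s hs
    simp only [Cfsg.Agent.Lib.Helper29.TCF23E7Link.S, Set.mem_insert_iff, Set.mem_singleton_iff] at hs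
    rcases hs with rfl | rfl | rfl | rfl | rfl | rfl
    exacts [⟨.b, rfl⟩, ⟨.c, rfl⟩, ⟨.d, rfl⟩, ⟨.e, rfl⟩, ⟨.f, rfl⟩, ⟨.h, rfl⟩]
  obtain ⟨hfin, hle⟩ := card_le_of_subpres R7 R6 up6 hrel Cfsg.Agent.Lib.Helper29.TCF23E7Link.S hS
  have hidx : ((Subgroup.closure Cfsg.Agent.Lib.Helper29.TCF23E7Link.S).map (PresentedGroup.mk R7)).index = 56 :=
    Cfsg.Agent.Lib.Helper29.TCF23E7Main.main.1
  haveI := hfin
  refine ⟨finite_of_index _ (by rw [hidx]; norm_num), ?_⟩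
  exact card_le_of_index _ hidx (le_trans hle (le_of_eq card6.2))

theorem up7_rel : ∀ L ∈ Cfsg.Agent.Lib.Helper29.TCF23E7Link.relWords,
    upWord Cfsg.Agent.Lib.Helper29.F23E7Def.up L ∈ Cfsg.Agent.Lib.Helper29.TCF23E8Link.relWords := by
  decide +kernel

theorem card8 : Finite (PresentedGroup R8) ∧ Nat.card (PresentedGroup R8) ≤ 696729600 := by
  haveI := card7.1
  have hrel := hrel_of_words R8 R7 Cfsg.Agent.Lib.Helper29.F23E7Def.up
    Cfsg.Agent.Lib.Helper29.TCF23E8Link.relWords Cfsg.Agent.Lib.Helper29.TCF23E7Link.relWords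
    Cfsg.Agent.Lib.Helper29.TCF23E8Link.link.hrels Cfsg.Agent.Lib.Helper29.TCF23E7Link.link.hrels up7_rel
  have hS : ∀ s ∈ Cfsg.Agent.Lib.Helper29.TCF23E8Link.S,
      ∃ b, s = FreeGroup.of (Cfsg.Agent.Lib.Helper29.F23E7Def.up b) := by
    intro s hs
    simp only [Cfsg.Agent.Lib.Helper29.TCF23E8Link.S, Set.mem_insert_iff, Set.mem_singleton_iff] at hs
    rcases hs with rfl | rfl | rfl | rfl | rfl | rfl | rfl
    exacts [⟨.b, rfl⟩, ⟨.c, rfl⟩, ⟨.d, rfl⟩, ⟨.e, rfl⟩, ⟨.f, rfl⟩, ⟨.g, rfl⟩, ⟨.h, rfl⟩]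
  obtain ⟨hfin, hle⟩ := card_le_of_subpres R8 R7 Cfsg.Agent.Lib.Helper29.F23E7Def.up hrel
    Cfsg.Agent.Lib.Helper29.TCF23E8Link.S hS
  have hidx : ((Subgroup.closure Cfsg.Agent.Lib.Helper29.TCF23E8Link.S).map (PresentedGroup.mk R8)).index = 240 :=
    Cfsg.Agent.Lib.Helper29.TCF23E8Main.main.1
  haveI := hfin
  refine ⟨finite_of_index _ (by rw [hidx]; norm_num), ?_⟩
  exact card_le_of_index _ hidx (le_trans hle card7.2)

end Cfsg.Agent.Lib.Helper29.F23E8Card
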