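import Cfsg.Agent.Lib.Helper29.F23YDef
import Mathlib
set_option autoImplicit false
set_option maxRecDepth 100000

namespace Cfsg.Agent.Lib.Helper29.F23E8Def

/-- the generators -/
inductive Gen
  | b
  | c
  | d
  | e
  | f
  | g
  | j
  | h
  deriving DecidableEq

/-- the generators as generators of the larger presentation -/
def up : Gen → Cfsg.Agent.Lib.Helper29.F23YDef.Gen
  | .b => .b
  | .c => .c
  | .d => .d
  | .e => .e
  | .f => .f
  | .g => .g
  | .j => .j
  | .h => .h

/-- the relators -/
def relWords : List (List (Gen × Bool)) := [
  [(.b, true), (.b, true)],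
  [(.b, true), (.c, true), (.b, true), (.c, true), (.b, true), (.c, true)],
  [(.b, true), (.d, true), (.b, true), (.d, true)],
  [(.b, true), (.e, true), (.b, true), (.e, true)],
  [(.b, true), (.f, true), (.b, true), (.f, true)],
  [(.b, true), (.g, true), (.b, true), (.g, true)],
  [(.b, true), (.j, true), (.b, true), (.j, true)],
  [(.b, true), (.h, true), (.b, true), (.h, true)],
  [(.c, true), (.b, true), (.c, true), (.b, true), (.c, true), (.b, true)],
  [(.c, true), (.c, true)],
  [(.c, true), (.d, true), (.c, true), (.d, true), (.c, true), (.d, true)],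
  [(.c, true), (.e, true), (.c, true), (.e, true)],
  [(.c, true), (.f, true), (.c, true), (.f, true)],
  [(.c, true), (.g, true), (.c, true), (.g, true)],
  [(.c, true), (.j, true), (.c, true), (.j, true)],
  [(.c, true), (.h, true), (.c, true), (.h, true)],
  [(.d, true), (.b, true), (.d, true), (.b, true)],
  [(.d, true), (.c, true), (.d, true), (.c, true), (.d, true), (.c, true)],
  [(.d, true), (.d, true)],
  [(.d, true), (.e, true), (.d, true), (.e, true), (.d, true), (.e, true)],
  [(.d, true), (.f, true), (.d, true), (.f, true)],
  [(.d, true), (.g, true), (.d, true), (.g, true)],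
  [(.d, true), (.j, true), (.d, true), (.j, true)],
  [(.d, true), (.h, true), (.d, true), (.h, true), (.d, true), (.h, true)],
  [(.e, true), (.b, true), (.e, true), (.b, true)],
  [(.e, true), (.c, true), (.e, true), (.c, true)],
  [(.e, true), (.d, true), (.e, true), (.d, true), (.e, true), (.d, true)],
  [(.e, true), (.e, true)],
  [(.e, true), (.f, true), (.e, true), (.f, true), (.e, true), (.f, true)],
  [(.e, true), (.g, true), (.e, true), (.g, true)],
  [(.e, true), (.j, true), (.e, true), (.j, true)],
  [(.e, true), (.h, true), (.e, true), (.h, true)],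
  [(.f, true), (.b, true), (.f, true), (.b, true)],
  [(.f, true), (.c, true), (.f, true), (.c, true)],
  [(.f, true), (.d, true), (.f, true), (.d, true)],
  [(.f, true), (.e, true), (.f, true), (.e, true), (.f, true), (.e, true)],
  [(.f, true), (.f, true)],
  [(.f, true), (.g, true), (.f, true), (.g, true), (.f, true), (.g, true)],
  [(.f, true), (.j, true), (.f, true), (.j, true)],
  [(.f, true), (.h, true), (.f, true), (.h, true)],
  [(.g, true), (.b, true), (.g, true), (.b, true)],
  [(.g, true), (.c, true), (.g, true), (.c, true)],
  [(.g, true), (.d, true), (.g, true), (.d, true)],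
  [(.g, true), (.e, true), (.g, true), (.e, true)],
  [(.g, true), (.f, true), (.g, true), (.f, true), (.g, true), (.f, true)],
  [(.g, true), (.g, true)],
  [(.g, true), (.j, true), (.g, true), (.j, true), (.g, true), (.j, true)],
  [(.g, true), (.h, true), (.g, true), (.h, true)],
  [(.j, true), (.b, true), (.j, true), (.b, true)],
  [(.j, true), (.c, true), (.j, true), (.c, true)],
  [(.j, true), (.d, true), (.j, true), (.d, true)],
  [(.j, true), (.e, true), (.j, true), (.e, true)],
  [(.j, true), (.f, true), (.j, true), (.f, true)],
  [(.j, true), (.g, true), (.j, true), (.g, true), (.j, true), (.g, true)],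
  [(.j, true), (.j, true)],
  [(.j, true), (.h, true), (.j, true), (.h, true)],
  [(.h, true), (.b, true), (.h, true), (.b, true)],
  [(.h, true), (.c, true), (.h, true), (.c, true)],
  [(.h, true), (.d, true), (.h, true), (.d, true), (.h, true), (.d, true)],
  [(.h, true), (.e, true), (.h, true), (.e, true)],
  [(.h, true), (.f, true), (.h, true), (.f, true)],
  [(.h, true), (.g, true), (.h, true), (.g, true)],
  [(.h, true), (.j, true), (.h, true), (.j, true)],
  [(.h, true), (.h, true)] ]

end Cfsg.Agent.Lib.Helper29.F23E8Def
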