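import Cfsg.Agent.Lib.Helper29.SchurFoxOne

set_option autoImplicit false

/-!
# The final check of a Fox cycle by halving

The check `cycleOKS` reads the digits of the accumulator one by one, each time shifting the whole accumulator; the
kernel keeps all these shifted copies.  Here the accumulator is split in two halves recursively, so that the total
size of the numbers met is the size of the accumulator times the depth.  The new check implies the old one as a
proposition, so nothing else changes.
-/

namespace Cfsg.Agent.Lib.Helper29.SchurFoxHalf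

open Cfsg.Agent.Lib.Helper28.TC2Upper (force force_eq allLoop allLoop_eq_true slot)
open Cfsg.Agent.Lib.Helper28.SchurFox
open Cfsg.Agent.Lib.Helper29.SchurFoxSparse

/-- all the `2 ^ depth` lowest digits of `acc`, of `w` bits each, vanish modulo `p` -/
noncomputable def chkH (p w : ℕ) : ℕ → ℕ → Bool :=
  @Nat.rec (fun _ => ℕ → Bool) (fun acc => Nat.beq (Nat.mod (Nat.mod acc (Nat.pow 2 w)) p) 0)
    (fun d ih acc => force (Nat.pow 2 (Nat.mul w (Nat.pow 2 d))) (fun m =>
      force (Nat.mod acc m) (fun lo => force (Nat.div acc m) (fun hi => and (ih lo) (ih hi)))))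

theorem chkH_zero (p w acc : ℕ) : chkH p w 0 acc = Nat.beq (acc % 2 ^ w % p) 0 := rfl

theorem chkH_succ (p w d acc : ℕ) :
    chkH p w (d + 1) acc =
      (chkH p w d (acc % 2 ^ (w * 2 ^ d)) && chkH p w d (acc / 2 ^ (w * 2 ^ d))) := by
  show force (Nat.pow 2 (Nat.mul w (Nat.pow 2 d))) (fun m =>
      force (Nat.mod acc m) (fun lo => force (Nat.div acc m) (fun hi =>
        and (chkH p w d lo) (chkH p w d hi)))) = _
  rw [force_eq, force_eq, force_eq]
  rfl

theorem chkH_sound (p w : ℕ) : ∀ (d acc : ℕ), chkH p w d acc = true →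
    ∀ s < 2 ^ d, acc / 2 ^ (w * s) % 2 ^ w % p = 0 := by
  intro d
  induction d with
  | zero =>
    intro acc h s hs
    rw [chkH_zero, Cfsg.Agent.Lib.Helper28.TC2Upper.Data.nbeq_iff] at h
    have : s = 0 := by simpa using hs
    subst this
    simpa using h
  | succ d ih =>
    intro acc h s hs
    rw [chkH_succ, Bool.and_eq_true] at h
    obtain ⟨h1, h2⟩ := h
    by_cases hlt : s < 2 ^ d
    · have := ih _ h1 s hlt
      -- `(acc % m) / 2 ^ (w s) % 2 ^ w = acc / 2 ^ (w s) % 2 ^ w`
      have hm : 2 ^ (w * 2 ^ d) = 2 ^ (w * s) * (2 ^ w * 2 ^ (w * (2 ^ d - s - 1))) := by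
        rw [← pow_add, ← pow_add]
        congr 1
        have : 2 ^ d = s + 1 + (2 ^ d - s - 1) := by omega
        calc w * 2 ^ d = w * (s + 1 + (2 ^ d - s - 1)) := by rw [← this]
          _ = _ := by ring
      rw [hm, Nat.mod_mul_right_div_self, Nat.mod_mul_right_mod] at this
      exact this
    · have hs' : s - 2 ^ d < 2 ^ d := by
        rw [pow_succ] at hs
        omega
      have := ih _ h2 (s - 2 ^ d) hs'
      rw [Nat.div_div_eq_div_mul, ← pow_add, ← Nat.mul_add] at this
      rwa [show 2 ^ d + (s - 2 ^ d) = s by omega] at this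

section Checker
variable (D : FoxData) (nxt : ℕ → ℕ → ℕ)

/-- the check of the cycle number `k`, given by its cells, with the final check by halving -/
noncomputable def cycleOKH (k : ℕ) (rows : List (List (ℕ × ℕ))) (depth : ℕ) : Bool :=
  and (and (and (cellsOK D rows)
    (allLoop (fun j => Nat.beq (augS (rows.getD j [])) (entry D.Lam k j)) D.paths.length))
    (Nat.blt (sumN (fun j => Nat.mul (entry D.Lam k j) (D.wt (D.paths.getD j []))) D.paths.length) D.mw))
    (force (cycAccS D nxt rows) (fun acc =>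
      and (Nat.ble (Nat.mul D.n D.d) (Nat.pow 2 depth)) (chkH D.p D.w depth acc)))

theorem cycleOKS_of_cycleOKH (hmw : D.mw = 2 ^ D.w) (k : ℕ) (rows : List (List (ℕ × ℕ))) (depth : ℕ)
    (h : cycleOKH D nxt k rows depth = true) : cycleOKS D nxt k rows = true := by
  unfold cycleOKH at h
  unfold cycleOKS
  simp only [Bool.and_eq_true] at h ⊢
  obtain ⟨h123, h4⟩ := h
  refine ⟨h123, ?_⟩
  rw [force_eq] at h4 ⊢
  rw [Bool.and_eq_true] at h4
  obtain ⟨h5, h6⟩ := h4
  have h5' : D.n * D.d ≤ 2 ^ depth := by simpa using h5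
  rw [allLoop_eq_true]
  intro s hs
  rw [Cfsg.Agent.Lib.Helper28.TC2Upper.Data.nbeq_iff]
  have := chkH_sound D.p D.w depth _ h6 s (lt_of_lt_of_le hs h5')
  show (cycAccS D nxt rows >>> (D.w * s)) % D.mw % D.p = 0
  rw [Nat.shiftRight_eq_div_pow, hmw]
  exact this

end Checker

end Cfsg.Agent.Lib.Helper29.SchurFoxHalf
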