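import Cfsg.Agent.Lib.Helper29.FoxF23YP5
import Cfsg.Agent.Lib.Helper29.SchurFoxHalf
import Cfsg.Agent.Lib.Helper29.TCF23YTable
import Cfsg.Agent.Lib.Helper29.FoxF23YP3Chk
set_option autoImplicit false
set_option maxRecDepth 100000
set_option maxHeartbeats 0

namespace Cfsg.Agent.Lib.Helper29.FoxF23YP5Chk
open Cfsg.Agent.Lib.Helper28.SchurFox Cfsg.Agent.Lib.Helper29.SchurFoxSparse Cfsg.Agent.Lib.Helper29.SchurFoxOne Cfsg.Agent.Lib.Helper29.SchurFoxHalf Cfsg.Agent.Lib.Helper29.FoxF23YP5 Cfsg.Agent.Lib.Helper29.TCF23YTable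

theorem hstatic : static1OK data table.tau = true := by decide +kernel

theorem hcycH : cycleOKH data table.tau 0 rows 18 = true := by decide +kernel

theorem hcyc : cycleOKS data table.tau 0 rows = true :=
  cycleOKS_of_cycleOKH data table.tau (static1_of_check data table.tau hstatic).hmw 0 rows 18 hcycH

end Cfsg.Agent.Lib.Helper29.FoxF23YP5Chk
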