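import Cfsg.Agent.Lib.Helper29.F23OddSpider
import Cfsg.Agent.Lib.Helper29.FoxF23YP3Chk
import Cfsg.Agent.Lib.Helper29.FoxF23YP5Chk

set_option autoImplicit false
set_option maxRecDepth 100000

/-!
# Stem extensions of `Fi23` with kernel of exponent 3 or 5 are trivial
-/

namespace Cfsg.Agent.Lib.Helper29.F23Odd

open Cfsg Cfsg.Spor Subgroup
open Cfsg.Agent.Lib.Helper28.SchurFox
open Cfsg.Agent.Lib.Helper28.TC2Glue
open Cfsg.Agent.Lib.Helper29.OddLift Cfsg.Agent.Lib.Helper29.F23OddCox Cfsg.Agent.Lib.Helper29.F23OddSpider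
open Cfsg.Agent.Lib.Helper29.SchurFoxSparse Cfsg.Agent.Lib.Helper29.SchurFoxOne
open Cfsg.Agent.Lib.Helper29.TCF23YLink Cfsg.Agent.Lib.Helper29.TCF23YTable

/-- a stem extension with kernel of odd exponent `p` is trivial, given one Fox cycle modulo `p` -/
theorem ker_eq_bot_of_data {Γ : Type*} [Group Γ] (σ : Γ →* Spor.Fi23) (hσ : Cfsg.IsStemExtension σ) {p : ℕ}
    (hp : Odd p) (hexp : ∀ a ∈ σ.ker, a ^ p = 1)
    (D : FoxData) (hDn : D.n = table.n) (hDd : D.d = 9) (hDp : D.p = p)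
    (hpaths : D.paths = relWords.map (pathOf lw))
    (hOK : static1OK D table.tau = true) (rows : List (List (ℕ × ℕ)))
    (hcyc : cycleOKS D table.tau 0 rows = true) (hlam : entry D.Lam 0 81 = 1) : σ.ker = ⊥ := by
  have hlift : ∀ x : Fi23.Gen, ∃ g : Γ, σ g = PresentedGroup.of x ∧ g ^ 2 = 1 :=
    fun x => exists_invol_lift σ hσ.1 hσ.2.1 hp hexp _ (of_sq x)
  choose γ hγ hγ2 using hlift
  exact ker_eq_bot_of_spider σ hσ.2.1 hp hexp γ hγ hγ2 hσ
    (spider_exact σ hσ.1 hσ.2.1 hp hexp γ hγ hγ2 D hDn hDd hDp hpaths hOK rows hcyc hlam)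

theorem hpaths3 : FoxF23YP3.data.paths = relWords.map (pathOf lw) := by decide +kernel
theorem hpaths5 : FoxF23YP5.data.paths = relWords.map (pathOf lw) := by decide +kernel
theorem hlam3 : entry FoxF23YP3.data.Lam 0 81 = 1 := by decide +kernel
theorem hlam5 : entry FoxF23YP5.data.Lam 0 81 = 1 := by decide +kernel

theorem ker_eq_bot_three {Γ : Type*} [Group Γ] (σ : Γ →* Spor.Fi23) (hσ : Cfsg.IsStemExtension σ)
    (hexp : ∀ a ∈ σ.ker, a ^ 3 = 1) : σ.ker = ⊥ :=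
  ker_eq_bot_of_data σ hσ (by decide) hexp FoxF23YP3.data rfl rfl rfl hpaths3 FoxF23YP3Chk.hstatic
    FoxF23YP3.rows FoxF23YP3Chk.hcyc hlam3

theorem ker_eq_bot_five {Γ : Type*} [Group Γ] (σ : Γ →* Spor.Fi23) (hσ : Cfsg.IsStemExtension σ)
    (hexp : ∀ a ∈ σ.ker, a ^ 5 = 1) : σ.ker = ⊥ :=
  ker_eq_bot_of_data σ hσ (by decide) hexp FoxF23YP5.data rfl rfl rfl hpaths5 FoxF23YP5Chk.hstatic
    FoxF23YP5.rows FoxF23YP5Chk.hcyc hlam5

end Cfsg.Agent.Lib.Helper29.F23Odd
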