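import Cfsg.Prelude.Def_Spor_Fi23
import Cfsg.Agent.Lib.Helper29.OddLift
import Cfsg.Agent.Lib.Helper28.SchurFoxC

set_option autoImplicit false
set_option maxRecDepth 100000

/-!
# Central extensions of `Fi23` with kernel of odd exponent

In a central extension `σ : Γ → Fi23` whose kernel has odd exponent `p`, the generators have involution lifts, and these
satisfy the Coxeter relators and the E7 relator `(abcdefh)^9` exactly.  Hence the kernel is trivial as soon as the
spider relator holds for the lifts.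
-/

namespace Cfsg.Agent.Lib.Helper29.F23OddCox

open Cfsg Cfsg.Spor Subgroup
open Cfsg.Agent.Lib.Helper29.OddLift

/-- the relators of `Fi23` -/
abbrev R23 : Set (FreeGroup Fi23.Gen) := coxRelators Fi23.edges ∪ {r | r ∈ Fi23.extra}

theorem mem_nodes (x : Fi23.Gen) : x ∈ coxNodes Fi23.edges := by cases x <;> decide

theorem cox_mem (x y : Fi23.Gen) :
    (FreeGroup.of x * FreeGroup.of y) ^ coxLabel Fi23.edges x y ∈ R23 :=
  Or.inl ⟨x, mem_nodes x, y, mem_nodes y, rfl⟩

theorem of_sq (x : Fi23.Gen) : (PresentedGroup.of x : Spor.Fi23) ^ 2 = 1 := by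
  have h := PresentedGroup.one_of_mem (cox_mem x x)
  have hl : coxLabel Fi23.edges x x = 1 := by simp [coxLabel]
  rw [hl, pow_one, map_mul] at h
  rw [pow_two]
  exact h

/-- non-adjacent nodes -/
def comm (x y : Fi23.Gen) : Bool := decide (coxLabel Fi23.edges x y = 2)

section Lifts
variable {Γ : Type*} [Group Γ] (σ : Γ →* Spor.Fi23) (hc : σ.ker ≤ center Γ) {p : ℕ} (hp : Odd p)
  (hexp : ∀ a ∈ σ.ker, a ^ p = 1) (γ : Fi23.Gen → Γ) (hγ : ∀ x, σ (γ x) = PresentedGroup.of x)
  (hγ2 : ∀ x, γ x ^ 2 = 1)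

include hc hp hexp hγ hγ2

theorem cox_exact (x y : Fi23.Gen) : (γ x * γ y) ^ coxLabel Fi23.edges x y = 1 := by
  apply cox_lift σ hc hp hexp (hγ2 x) (hγ2 y)
  rw [map_pow, map_mul, hγ, hγ]
  have h := PresentedGroup.one_of_mem (cox_mem x y)
  rw [map_pow, map_mul] at h
  exact h

theorem comm_exact (x y : Fi23.Gen) (h : x = y ∨ comm x y = true) : γ x * γ y = γ y * γ x := by
  rcases h with rfl | h
  · rfl
  · have h2 : coxLabel Fi23.edges x y = 2 := by simpa [comm] using h
    have h1 := cox_exact σ hc hp hexp γ hγ hγ2 x y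
    rw [h2] at h1
    have hx : (γ x)⁻¹ = γ x := by rw [inv_eq_iff_mul_eq_one, ← pow_two, hγ2]
    have hy : (γ y)⁻¹ = γ y := by rw [inv_eq_iff_mul_eq_one, ← pow_two, hγ2]
    have h3 : γ x * γ y = (γ x * γ y)⁻¹ := by
      rw [eq_inv_iff_mul_eq_one, ← pow_two, h1]
    rw [h3, mul_inv_rev, hx, hy]

/-- the moves that take the Coxeter word of E7 to a product of two words of commuting letters -/
def e7moves : List Move :=
  [.rot, .rot, .rot, .rot, .swap 1, .swap 2, .swap 1, .swap 0, .rot, .swap 2, .swap 1, .swap 0, .rot, .swap 2,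
    .swap 4, .swap 3]

theorem e7_exact : (γ .a * γ .b * γ .c * γ .d * γ .e * γ .f * γ .h) ^ 9 = 1 := by
  have hw : ev γ [.a, .b, .c, .d, .e, .f, .h] = γ .a * γ .b * γ .c * γ .d * γ .e * γ .f * γ .h := by
    simp [ev, mul_assoc]
  have hcomm := comm_exact σ hc hp hexp γ hγ hγ2
  obtain ⟨u, hu⟩ := exists_conj_inv γ comm (fun x y h => hcomm x y (Or.inr h)) e7moves
    [.a, .b, .c, .d, .e, .f, .h] [.e, .h, .c, .a] [.f, .d, .b] (by decide) (fun x _ => hγ2 x)
    (fun x hx y hy => hcomm x y (by revert x y; decide)) (fun x hx y hy => hcomm x y (by revert x y; decide))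
  rw [hw] at hu
  have hmem : (FreeGroup.of Fi23.Gen.a * FreeGroup.of .b * FreeGroup.of .c * FreeGroup.of .d * FreeGroup.of .e *
      FreeGroup.of .f * FreeGroup.of .h) ^ 9 ∈ R23 := Or.inr (by simp [Fi23.extra])
  have h1 := PresentedGroup.one_of_mem hmem
  simp only [map_pow, map_mul] at h1
  have hker : (γ .a * γ .b * γ .c * γ .d * γ .e * γ .f * γ .h) ^ 9 ∈ σ.ker := by
    rw [MonoidHom.mem_ker]
    simp only [map_pow, map_mul, hγ]
    exact h1
  exact pow_eq_one_of_conj_inv hp hu (hc hker) (hexp _ hker)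

/-- the kernel is trivial as soon as the spider relator holds for the lifts -/
theorem ker_eq_bot_of_spider (hσ : Cfsg.IsStemExtension σ)
    (hsp : (γ .d * γ .c * γ .b * γ .d * γ .e * γ .f * γ .d * γ .h * γ .i) ^ 10 = 1) : σ.ker = ⊥ := by
  refine Cfsg.Agent.Lib.Helper28.SchurFox.ker_eq_bot_of_lifts R23 σ hσ γ hγ ?_
  intro r hr
  rcases hr with ⟨x, _, y, _, rfl⟩ | hr
  · rw [map_pow, map_mul, FreeGroup.lift_apply_of, FreeGroup.lift_apply_of]
    exact cox_exact σ hc hp hexp γ hγ hγ2 x y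
  · have hr' : r ∈ Fi23.extra := hr
    simp only [Fi23.extra, List.mem_cons, List.not_mem_nil, or_false] at hr'
    rcases hr' with rfl | rfl
    · simp only [map_pow, map_mul, FreeGroup.lift_apply_of]
      exact hsp
    · simp only [map_pow, map_mul, FreeGroup.lift_apply_of]
      exact e7_exact σ hc hp hexp γ hγ hγ2

end Lifts

end Cfsg.Agent.Lib.Helper29.F23OddCox
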