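import Cfsg.Agent.Lib.Helper29.TCF23YBTable
import Cfsg.Agent.Lib.Helper29.TCF23YTable
set_option autoImplicit false
set_option maxRecDepth 100000
set_option maxHeartbeats 0

namespace Cfsg.Agent.Lib.Helper29.TCF23YBChk1
open Cfsg.Agent.Lib.Helper28.TC2Upper Cfsg.Agent.Lib.Helper28.TC2Lower Cfsg.Agent.Lib.Helper28.TC2Orbit Cfsg.Agent.Lib.Helper28.TC2Range Cfsg.Agent.Lib.Helper28.TC2Bsgs Cfsg.Agent.Lib.Helper29.TCF23YBTable

theorem prm5 : Table.permRange btable 17360 3472 = true := by decide +kernel
theorem prm6 : Table.permRange btable 20832 3472 = true := by decide +kernel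
theorem prm7 : Table.permRange btable 24304 3472 = true := by decide +kernel
theorem prm8 : Table.permRange btable 27776 655 = true := by decide +kernel
theorem agr0 : agreeRange Cfsg.Agent.Lib.Helper29.TCF23YTable.table btable 16 0 7812 = true := by decide +kernel

end Cfsg.Agent.Lib.Helper29.TCF23YBChk1
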