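import Cfsg.Agent.Lib.Helper29.TCF23YBTable
import Cfsg.Agent.Lib.Helper29.TCF23YTable
import Cfsg.Agent.Lib.Helper29.TCF23YBChk1
set_option autoImplicit false
set_option maxRecDepth 100000
set_option maxHeartbeats 0

namespace Cfsg.Agent.Lib.Helper29.TCF23YBChk4
open Cfsg.Agent.Lib.Helper28.TC2Upper Cfsg.Agent.Lib.Helper28.TC2Lower Cfsg.Agent.Lib.Helper28.TC2Orbit Cfsg.Agent.Lib.Helper28.TC2Range Cfsg.Agent.Lib.Helper28.TC2Bsgs Cfsg.Agent.Lib.Helper29.TCF23YBTable

theorem def19_0 : defRange btable defs 19 0 10416 = true := by decide +kernel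
theorem def19_1 : defRange btable defs 19 10416 10416 = true := by decide +kernel
theorem def19_2 : defRange btable defs 19 20832 7599 = true := by decide +kernel
theorem def20_0 : defRange btable defs 20 0 11363 = true := by decide +kernel
theorem def20_1 : defRange btable defs 20 11363 11363 = true := by decide +kernel

end Cfsg.Agent.Lib.Helper29.TCF23YBChk4
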