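import Cfsg.Agent.Lib.Helper29.TCF23YBTable
import Cfsg.Agent.Lib.Helper29.TCF23YTable
import Cfsg.Agent.Lib.Helper29.TCF23YBChk7
set_option autoImplicit false
set_option maxRecDepth 100000
set_option maxHeartbeats 0

namespace Cfsg.Agent.Lib.Helper29.TCF23YBChk10
open Cfsg.Agent.Lib.Helper28.TC2Upper Cfsg.Agent.Lib.Helper28.TC2Lower Cfsg.Agent.Lib.Helper28.TC2Orbit Cfsg.Agent.Lib.Helper28.TC2Range Cfsg.Agent.Lib.Helper28.TC2Bsgs Cfsg.Agent.Lib.Helper29.TCF23YBTable

theorem def28_3 : defRange btable defs 28 25860 2571 = true := by decide +kernel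
theorem def29_0 : defRange btable defs 29 0 8620 = true := by decide +kernel
theorem def29_1 : defRange btable defs 29 8620 8620 = true := by decide +kernel
theorem def29_2 : defRange btable defs 29 17240 8620 = true := by decide +kernel
theorem def29_3 : defRange btable defs 29 25860 2571 = true := by decide +kernel

end Cfsg.Agent.Lib.Helper29.TCF23YBChk10
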