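import Cfsg.Agent.Lib.Helper29.TCF23YBTable
import Cfsg.Agent.Lib.Helper29.TCF23YTable
import Cfsg.Agent.Lib.Helper29.TCF23YBChk0
set_option autoImplicit false
set_option maxRecDepth 100000
set_option maxHeartbeats 0

namespace Cfsg.Agent.Lib.Helper29.TCF23YBChk3
open Cfsg.Agent.Lib.Helper28.TC2Upper Cfsg.Agent.Lib.Helper28.TC2Lower Cfsg.Agent.Lib.Helper28.TC2Orbit Cfsg.Agent.Lib.Helper28.TC2Range Cfsg.Agent.Lib.Helper28.TC2Bsgs Cfsg.Agent.Lib.Helper29.TCF23YBTable

theorem def17_0 : defRange btable defs 17 0 17857 = true := by decide +kernel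
theorem def17_1 : defRange btable defs 17 17857 10574 = true := by decide +kernel
theorem def18_0 : defRange btable defs 18 0 10416 = true := by decide +kernel
theorem def18_1 : defRange btable defs 18 10416 10416 = true := by decide +kernel
theorem def18_2 : defRange btable defs 18 20832 7599 = true := by decide +kernel

end Cfsg.Agent.Lib.Helper29.TCF23YBChk3
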