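import Cfsg.Agent.Lib.Helper29.TCF23YBTable
import Cfsg.Agent.Lib.Helper29.TCF23YTable
import Cfsg.Agent.Lib.Helper29.TCF23YBChk2
set_option autoImplicit false
set_option maxRecDepth 100000
set_option maxHeartbeats 0

namespace Cfsg.Agent.Lib.Helper29.TCF23YBChk5
open Cfsg.Agent.Lib.Helper28.TC2Upper Cfsg.Agent.Lib.Helper28.TC2Lower Cfsg.Agent.Lib.Helper28.TC2Orbit Cfsg.Agent.Lib.Helper28.TC2Range Cfsg.Agent.Lib.Helper28.TC2Bsgs Cfsg.Agent.Lib.Helper29.TCF23YBTable

theorem def20_2 : defRange btable defs 20 22726 5705 = true := by decide +kernel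
theorem def21_0 : defRange btable defs 21 0 11363 = true := by decide +kernel
theorem def21_1 : defRange btable defs 21 11363 11363 = true := by decide +kernel
theorem def21_2 : defRange btable defs 21 22726 5705 = true := by decide +kernel
theorem def22_0 : defRange btable defs 22 0 9259 = true := by decide +kernel

end Cfsg.Agent.Lib.Helper29.TCF23YBChk5
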