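import Cfsg.Agent.Lib.Helper29.TCF23YBTable
import Cfsg.Agent.Lib.Helper29.TCF23YTable
import Cfsg.Agent.Lib.Helper29.TCF23YBChk5
set_option autoImplicit false
set_option maxRecDepth 100000
set_option maxHeartbeats 0

namespace Cfsg.Agent.Lib.Helper29.TCF23YBChk8
open Cfsg.Agent.Lib.Helper28.TC2Upper Cfsg.Agent.Lib.Helper28.TC2Lower Cfsg.Agent.Lib.Helper28.TC2Orbit Cfsg.Agent.Lib.Helper28.TC2Range Cfsg.Agent.Lib.Helper28.TC2Bsgs Cfsg.Agent.Lib.Helper29.TCF23YBTable

theorem def25_1 : defRange btable defs 25 20833 7598 = true := by decide +kernel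
theorem def26_0 : defRange btable defs 26 0 10869 = true := by decide +kernel
theorem def26_1 : defRange btable defs 26 10869 10869 = true := by decide +kernel
theorem def26_2 : defRange btable defs 26 21738 6693 = true := by decide +kernel
theorem def27_0 : defRange btable defs 27 0 10869 = true := by decide +kernel

end Cfsg.Agent.Lib.Helper29.TCF23YBChk8
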