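import Cfsg.Agent.Lib.Helper29.TCF23YBTable
import Cfsg.Agent.Lib.Helper29.TCF23YTable
import Cfsg.Agent.Lib.Helper29.TCF23YBChk11
set_option autoImplicit false
set_option maxRecDepth 100000
set_option maxHeartbeats 0

namespace Cfsg.Agent.Lib.Helper29.TCF23YBChk14
open Cfsg.Agent.Lib.Helper28.TC2Upper Cfsg.Agent.Lib.Helper28.TC2Lower Cfsg.Agent.Lib.Helper28.TC2Orbit Cfsg.Agent.Lib.Helper28.TC2Range Cfsg.Agent.Lib.Helper28.TC2Bsgs Cfsg.Agent.Lib.Helper29.TCF23YBTable

theorem def33_3 : defRange btable defs 33 22056 6375 = true := by decide +kernel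
theorem def34_0 : defRange btable defs 34 0 6410 = true := by decide +kernel
theorem def34_1 : defRange btable defs 34 6410 6410 = true := by decide +kernel
theorem def34_2 : defRange btable defs 34 12820 6410 = true := by decide +kernel
theorem def34_3 : defRange btable defs 34 19230 6410 = true := by decide +kernel

end Cfsg.Agent.Lib.Helper29.TCF23YBChk14
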