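import Cfsg.Agent.Lib.Helper29.TCF23YBTable
import Cfsg.Agent.Lib.Helper29.TCF23YTable
import Cfsg.Agent.Lib.Helper29.TCF23YBChk17
set_option autoImplicit false
set_option maxRecDepth 100000
set_option maxHeartbeats 0

namespace Cfsg.Agent.Lib.Helper29.TCF23YBChk20
open Cfsg.Agent.Lib.Helper28.TC2Upper Cfsg.Agent.Lib.Helper28.TC2Lower Cfsg.Agent.Lib.Helper28.TC2Orbit Cfsg.Agent.Lib.Helper28.TC2Range Cfsg.Agent.Lib.Helper28.TC2Bsgs Cfsg.Agent.Lib.Helper29.TCF23YBTable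

theorem hA4 : ∀ l ∈ A4, l < btable.k ∧ ∀ q ∈ ([8, 3, 2, 1] : List ℕ), btable.tau l q = q := by decide +kernel
theorem conn5_0 : OrbData.connOKc orb5 btable 1 0 28431 = true := by decide +kernel
theorem cnt5 : orb5.count 28431 1 = 2 := by decide +kernel
theorem hgens5 : BT.all (fun s => decide (s ∈ A5.map fun l => [l])) orb5.gens = true := by decide +kernel
theorem hA5 : ∀ l ∈ A5, l < btable.k ∧ ∀ q ∈ ([5, 8, 3, 2, 1] : List ℕ), btable.tau l q = q := by decide +kernel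

end Cfsg.Agent.Lib.Helper29.TCF23YBChk20
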