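import Cfsg.Agent.Lib.Helper29.TCF23YBChk0
import Cfsg.Agent.Lib.Helper29.TCF23YBChk1
import Cfsg.Agent.Lib.Helper29.TCF23YBChk2
import Cfsg.Agent.Lib.Helper29.TCF23YBChk3
import Cfsg.Agent.Lib.Helper29.TCF23YBChk4
import Cfsg.Agent.Lib.Helper29.TCF23YBChk5
import Cfsg.Agent.Lib.Helper29.TCF23YBChk6
import Cfsg.Agent.Lib.Helper29.TCF23YBChk7
import Cfsg.Agent.Lib.Helper29.TCF23YBChk8
import Cfsg.Agent.Lib.Helper29.TCF23YBChk9
import Cfsg.Agent.Lib.Helper29.TCF23YBChk10
import Cfsg.Agent.Lib.Helper29.TCF23YBChk11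
import Cfsg.Agent.Lib.Helper29.TCF23YBChk12
import Cfsg.Agent.Lib.Helper29.TCF23YBChk13
import Cfsg.Agent.Lib.Helper29.TCF23YBChk14
import Cfsg.Agent.Lib.Helper29.TCF23YBChk15
import Cfsg.Agent.Lib.Helper29.TCF23YBChk16
import Cfsg.Agent.Lib.Helper29.TCF23YBChk17
import Cfsg.Agent.Lib.Helper29.TCF23YBChk18
import Cfsg.Agent.Lib.Helper29.TCF23YBChk19
import Cfsg.Agent.Lib.Helper29.TCF23YBChk20
import Cfsg.Agent.Lib.Helper29.TCF23YBChk21
import Cfsg.Agent.Lib.Helper29.TCF23YBChk22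

set_option autoImplicit false
set_option maxRecDepth 100000

namespace Cfsg.Agent.Lib.Helper29.TCF23YBMain
open Cfsg.Agent.Lib.Helper28.TC2Upper Cfsg.Agent.Lib.Helper28.TC2Lower Cfsg.Agent.Lib.Helper28.TC2Orbit Cfsg.Agent.Lib.Helper28.TC2Range Cfsg.Agent.Lib.Helper28.TC2Bsgs Cfsg.Agent.Lib.Helper29.TCF23YBTable

theorem hpermAll : ∀ p, p < btable.n → Table.permRow btable p = true := by
  intro p hp
  have hp' : p < 28431 := hp
  rcases Nat.lt_or_ge p 3472 with h0 | h0
  · exact (Table.permRange_iff btable 0 3472).mp Cfsg.Agent.Lib.Helper29.TCF23YBChk0.prm0 p (by omega) (by omega)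
  rcases Nat.lt_or_ge p 6944 with h1 | h1
  · exact (Table.permRange_iff btable 3472 3472).mp Cfsg.Agent.Lib.Helper29.TCF23YBChk0.prm1 p (by omega) (by omega)
  rcases Nat.lt_or_ge p 10416 with h2 | h2
  · exact (Table.permRange_iff btable 6944 3472).mp Cfsg.Agent.Lib.Helper29.TCF23YBChk0.prm2 p (by omega) (by omega)
  rcases Nat.lt_or_ge p 13888 with h3 | h3
  · exact (Table.permRange_iff btable 10416 3472).mp Cfsg.Agent.Lib.Helper29.TCF23YBChk0.prm3 p (by omega) (by omega)
  rcases Nat.lt_or_ge p 17360 with h4 | h4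
  · exact (Table.permRange_iff btable 13888 3472).mp Cfsg.Agent.Lib.Helper29.TCF23YBChk0.prm4 p (by omega) (by omega)
  rcases Nat.lt_or_ge p 20832 with h5 | h5
  · exact (Table.permRange_iff btable 17360 3472).mp Cfsg.Agent.Lib.Helper29.TCF23YBChk1.prm5 p (by omega) (by omega)
  rcases Nat.lt_or_ge p 24304 with h6 | h6
  · exact (Table.permRange_iff btable 20832 3472).mp Cfsg.Agent.Lib.Helper29.TCF23YBChk1.prm6 p (by omega) (by omega)
  rcases Nat.lt_or_ge p 27776 with h7 | h7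
  · exact (Table.permRange_iff btable 24304 3472).mp Cfsg.Agent.Lib.Helper29.TCF23YBChk1.prm7 p (by omega) (by omega)
  exact (Table.permRange_iff btable 27776 655).mp Cfsg.Agent.Lib.Helper29.TCF23YBChk1.prm8 p (by omega) (by omega)

theorem hTB : btable.OK := Table.ok_of_rows btable Cfsg.Agent.Lib.Helper29.TCF23YBChk22.hinvOK hpermAll

theorem hagree : ∀ p, p < Cfsg.Agent.Lib.Helper29.TCF23YTable.table.n → ∀ l, l < 16 →
    btable.tau l p = Cfsg.Agent.Lib.Helper29.TCF23YTable.table.tau l p := by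
  intro p hp
  have hp' : p < 28431 := hp
  rcases Nat.lt_or_ge p 7812 with h0 | h0
  · exact (agreeRange_iff _ btable 16 0 7812).mp Cfsg.Agent.Lib.Helper29.TCF23YBChk1.agr0 p (by omega) (by omega)
  rcases Nat.lt_or_ge p 15624 with h1 | h1
  · exact (agreeRange_iff _ btable 16 7812 7812).mp Cfsg.Agent.Lib.Helper29.TCF23YBChk2.agr1 p (by omega) (by omega)
  rcases Nat.lt_or_ge p 23436 with h2 | h2
  · exact (agreeRange_iff _ btable 16 15624 7812).mp Cfsg.Agent.Lib.Helper29.TCF23YBChk2.agr2 p (by omega) (by omega)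
  exact (agreeRange_iff _ btable 16 23436 4995).mp Cfsg.Agent.Lib.Helper29.TCF23YBChk2.agr3 p (by omega) (by omega)

theorem hdef16 : ∀ p, p < btable.n → btable.walkT (defs.look 16) p = btable.tau 16 p := by
  intro p hp
  have hp' : p < 28431 := hp
  rcases Nat.lt_or_ge p 17857 with h0 | h0
  · exact (defRange_iff defs 16 0 17857).mp Cfsg.Agent.Lib.Helper29.TCF23YBChk2.def16_0 p (by omega) (by omega)
  exact (defRange_iff defs 16 17857 10574).mp Cfsg.Agent.Lib.Helper29.TCF23YBChk2.def16_1 p (by omega) (by omega)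

theorem hdef17 : ∀ p, p < btable.n → btable.walkT (defs.look 17) p = btable.tau 17 p := by
  intro p hp
  have hp' : p < 28431 := hp
  rcases Nat.lt_or_ge p 17857 with h0 | h0
  · exact (defRange_iff defs 17 0 17857).mp Cfsg.Agent.Lib.Helper29.TCF23YBChk3.def17_0 p (by omega) (by omega)
  exact (defRange_iff defs 17 17857 10574).mp Cfsg.Agent.Lib.Helper29.TCF23YBChk3.def17_1 p (by omega) (by omega)

theorem hdef18 : ∀ p, p < btable.n → btable.walkT (defs.look 18) p = btable.tau 18 p := by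
  intro p hp
  have hp' : p < 28431 := hp
  rcases Nat.lt_or_ge p 10416 with h0 | h0
  · exact (defRange_iff defs 18 0 10416).mp Cfsg.Agent.Lib.Helper29.TCF23YBChk3.def18_0 p (by omega) (by omega)
  rcases Nat.lt_or_ge p 20832 with h1 | h1
  · exact (defRange_iff defs 18 10416 10416).mp Cfsg.Agent.Lib.Helper29.TCF23YBChk3.def18_1 p (by omega) (by omega)
  exact (defRange_iff defs 18 20832 7599).mp Cfsg.Agent.Lib.Helper29.TCF23YBChk3.def18_2 p (by omega) (by omega)

theorem hdef19 : ∀ p, p < btable.n → btable.walkT (defs.look 19) p = btable.tau 19 p := by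
  intro p hp
  have hp' : p < 28431 := hp
  rcases Nat.lt_or_ge p 10416 with h0 | h0
  · exact (defRange_iff defs 19 0 10416).mp Cfsg.Agent.Lib.Helper29.TCF23YBChk4.def19_0 p (by omega) (by omega)
  rcases Nat.lt_or_ge p 20832 with h1 | h1
  · exact (defRange_iff defs 19 10416 10416).mp Cfsg.Agent.Lib.Helper29.TCF23YBChk4.def19_1 p (by omega) (by omega)
  exact (defRange_iff defs 19 20832 7599).mp Cfsg.Agent.Lib.Helper29.TCF23YBChk4.def19_2 p (by omega) (by omega)

theorem hdef20 : ∀ p, p < btable.n → btable.walkT (defs.look 20) p = btable.tau 20 p := by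
  intro p hp
  have hp' : p < 28431 := hp
  rcases Nat.lt_or_ge p 11363 with h0 | h0
  · exact (defRange_iff defs 20 0 11363).mp Cfsg.Agent.Lib.Helper29.TCF23YBChk4.def20_0 p (by omega) (by omega)
  rcases Nat.lt_or_ge p 22726 with h1 | h1
  · exact (defRange_iff defs 20 11363 11363).mp Cfsg.Agent.Lib.Helper29.TCF23YBChk4.def20_1 p (by omega) (by omega)
  exact (defRange_iff defs 20 22726 5705).mp Cfsg.Agent.Lib.Helper29.TCF23YBChk5.def20_2 p (by omega) (by omega)

theorem hdef21 : ∀ p, p < btable.n → btable.walkT (defs.look 21) p = btable.tau 21 p := by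
  intro p hp
  have hp' : p < 28431 := hp
  rcases Nat.lt_or_ge p 11363 with h0 | h0
  · exact (defRange_iff defs 21 0 11363).mp Cfsg.Agent.Lib.Helper29.TCF23YBChk5.def21_0 p (by omega) (by omega)
  rcases Nat.lt_or_ge p 22726 with h1 | h1
  · exact (defRange_iff defs 21 11363 11363).mp Cfsg.Agent.Lib.Helper29.TCF23YBChk5.def21_1 p (by omega) (by omega)
  exact (defRange_iff defs 21 22726 5705).mp Cfsg.Agent.Lib.Helper29.TCF23YBChk5.def21_2 p (by omega) (by omega)

theorem hdef22 : ∀ p, p < btable.n → btable.walkT (defs.look 22) p = btable.tau 22 p := by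
  intro p hp
  have hp' : p < 28431 := hp
  rcases Nat.lt_or_ge p 9259 with h0 | h0
  · exact (defRange_iff defs 22 0 9259).mp Cfsg.Agent.Lib.Helper29.TCF23YBChk5.def22_0 p (by omega) (by omega)
  rcases Nat.lt_or_ge p 18518 with h1 | h1
  · exact (defRange_iff defs 22 9259 9259).mp Cfsg.Agent.Lib.Helper29.TCF23YBChk6.def22_1 p (by omega) (by omega)
  rcases Nat.lt_or_ge p 27777 with h2 | h2
  · exact (defRange_iff defs 22 18518 9259).mp Cfsg.Agent.Lib.Helper29.TCF23YBChk6.def22_2 p (by omega) (by omega)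
  exact (defRange_iff defs 22 27777 654).mp Cfsg.Agent.Lib.Helper29.TCF23YBChk6.def22_3 p (by omega) (by omega)

theorem hdef23 : ∀ p, p < btable.n → btable.walkT (defs.look 23) p = btable.tau 23 p := by
  intro p hp
  have hp' : p < 28431 := hp
  rcases Nat.lt_or_ge p 9259 with h0 | h0
  · exact (defRange_iff defs 23 0 9259).mp Cfsg.Agent.Lib.Helper29.TCF23YBChk6.def23_0 p (by omega) (by omega)
  rcases Nat.lt_or_ge p 18518 with h1 | h1
  · exact (defRange_iff defs 23 9259 9259).mp Cfsg.Agent.Lib.Helper29.TCF23YBChk6.def23_1 p (by omega) (by omega)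
  rcases Nat.lt_or_ge p 27777 with h2 | h2
  · exact (defRange_iff defs 23 18518 9259).mp Cfsg.Agent.Lib.Helper29.TCF23YBChk7.def23_2 p (by omega) (by omega)
  exact (defRange_iff defs 23 27777 654).mp Cfsg.Agent.Lib.Helper29.TCF23YBChk7.def23_3 p (by omega) (by omega)

theorem hdef24 : ∀ p, p < btable.n → btable.walkT (defs.look 24) p = btable.tau 24 p := by
  intro p hp
  have hp' : p < 28431 := hp
  rcases Nat.lt_or_ge p 20833 with h0 | h0
  · exact (defRange_iff defs 24 0 20833).mp Cfsg.Agent.Lib.Helper29.TCF23YBChk7.def24_0 p (by omega) (by omega)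
  exact (defRange_iff defs 24 20833 7598).mp Cfsg.Agent.Lib.Helper29.TCF23YBChk7.def24_1 p (by omega) (by omega)

theorem hdef25 : ∀ p, p < btable.n → btable.walkT (defs.look 25) p = btable.tau 25 p := by
  intro p hp
  have hp' : p < 28431 := hp
  rcases Nat.lt_or_ge p 20833 with h0 | h0
  · exact (defRange_iff defs 25 0 20833).mp Cfsg.Agent.Lib.Helper29.TCF23YBChk7.def25_0 p (by omega) (by omega)
  exact (defRange_iff defs 25 20833 7598).mp Cfsg.Agent.Lib.Helper29.TCF23YBChk8.def25_1 p (by omega) (by omega)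

theorem hdef26 : ∀ p, p < btable.n → btable.walkT (defs.look 26) p = btable.tau 26 p := by
  intro p hp
  have hp' : p < 28431 := hp
  rcases Nat.lt_or_ge p 10869 with h0 | h0
  · exact (defRange_iff defs 26 0 10869).mp Cfsg.Agent.Lib.Helper29.TCF23YBChk8.def26_0 p (by omega) (by omega)
  rcases Nat.lt_or_ge p 21738 with h1 | h1
  · exact (defRange_iff defs 26 10869 10869).mp Cfsg.Agent.Lib.Helper29.TCF23YBChk8.def26_1 p (by omega) (by omega)
  exact (defRange_iff defs 26 21738 6693).mp Cfsg.Agent.Lib.Helper29.TCF23YBChk8.def26_2 p (by omega) (by omega)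

theorem hdef27 : ∀ p, p < btable.n → btable.walkT (defs.look 27) p = btable.tau 27 p := by
  intro p hp
  have hp' : p < 28431 := hp
  rcases Nat.lt_or_ge p 10869 with h0 | h0
  · exact (defRange_iff defs 27 0 10869).mp Cfsg.Agent.Lib.Helper29.TCF23YBChk8.def27_0 p (by omega) (by omega)
  rcases Nat.lt_or_ge p 21738 with h1 | h1
  · exact (defRange_iff defs 27 10869 10869).mp Cfsg.Agent.Lib.Helper29.TCF23YBChk9.def27_1 p (by omega) (by omega)
  exact (defRange_iff defs 27 21738 6693).mp Cfsg.Agent.Lib.Helper29.TCF23YBChk9.def27_2 p (by omega) (by omega)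

theorem hdef28 : ∀ p, p < btable.n → btable.walkT (defs.look 28) p = btable.tau 28 p := by
  intro p hp
  have hp' : p < 28431 := hp
  rcases Nat.lt_or_ge p 8620 with h0 | h0
  · exact (defRange_iff defs 28 0 8620).mp Cfsg.Agent.Lib.Helper29.TCF23YBChk9.def28_0 p (by omega) (by omega)
  rcases Nat.lt_or_ge p 17240 with h1 | h1
  · exact (defRange_iff defs 28 8620 8620).mp Cfsg.Agent.Lib.Helper29.TCF23YBChk9.def28_1 p (by omega) (by omega)
  rcases Nat.lt_or_ge p 25860 with h2 | h2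
  · exact (defRange_iff defs 28 17240 8620).mp Cfsg.Agent.Lib.Helper29.TCF23YBChk9.def28_2 p (by omega) (by omega)
  exact (defRange_iff defs 28 25860 2571).mp Cfsg.Agent.Lib.Helper29.TCF23YBChk10.def28_3 p (by omega) (by omega)

theorem hdef29 : ∀ p, p < btable.n → btable.walkT (defs.look 29) p = btable.tau 29 p := by
  intro p hp
  have hp' : p < 28431 := hp
  rcases Nat.lt_or_ge p 8620 with h0 | h0
  · exact (defRange_iff defs 29 0 8620).mp Cfsg.Agent.Lib.Helper29.TCF23YBChk10.def29_0 p (by omega) (by omega)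
  rcases Nat.lt_or_ge p 17240 with h1 | h1
  · exact (defRange_iff defs 29 8620 8620).mp Cfsg.Agent.Lib.Helper29.TCF23YBChk10.def29_1 p (by omega) (by omega)
  rcases Nat.lt_or_ge p 25860 with h2 | h2
  · exact (defRange_iff defs 29 17240 8620).mp Cfsg.Agent.Lib.Helper29.TCF23YBChk10.def29_2 p (by omega) (by omega)
  exact (defRange_iff defs 29 25860 2571).mp Cfsg.Agent.Lib.Helper29.TCF23YBChk10.def29_3 p (by omega) (by omega)

theorem hdef30 : ∀ p, p < btable.n → btable.walkT (defs.look 30) p = btable.tau 30 p := by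
  intro p hp
  have hp' : p < 28431 := hp
  rcases Nat.lt_or_ge p 7575 with h0 | h0
  · exact (defRange_iff defs 30 0 7575).mp Cfsg.Agent.Lib.Helper29.TCF23YBChk11.def30_0 p (by omega) (by omega)
  rcases Nat.lt_or_ge p 15150 with h1 | h1
  · exact (defRange_iff defs 30 7575 7575).mp Cfsg.Agent.Lib.Helper29.TCF23YBChk11.def30_1 p (by omega) (by omega)
  rcases Nat.lt_or_ge p 22725 with h2 | h2
  · exact (defRange_iff defs 30 15150 7575).mp Cfsg.Agent.Lib.Helper29.TCF23YBChk11.def30_2 p (by omega) (by omega)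
  exact (defRange_iff defs 30 22725 5706).mp Cfsg.Agent.Lib.Helper29.TCF23YBChk11.def30_3 p (by omega) (by omega)

theorem hdef31 : ∀ p, p < btable.n → btable.walkT (defs.look 31) p = btable.tau 31 p := by
  intro p hp
  have hp' : p < 28431 := hp
  rcases Nat.lt_or_ge p 7575 with h0 | h0
  · exact (defRange_iff defs 31 0 7575).mp Cfsg.Agent.Lib.Helper29.TCF23YBChk11.def31_0 p (by omega) (by omega)
  rcases Nat.lt_or_ge p 15150 with h1 | h1
  · exact (defRange_iff defs 31 7575 7575).mp Cfsg.Agent.Lib.Helper29.TCF23YBChk12.def31_1 p (by omega) (by omega)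
  rcases Nat.lt_or_ge p 22725 with h2 | h2
  · exact (defRange_iff defs 31 15150 7575).mp Cfsg.Agent.Lib.Helper29.TCF23YBChk12.def31_2 p (by omega) (by omega)
  exact (defRange_iff defs 31 22725 5706).mp Cfsg.Agent.Lib.Helper29.TCF23YBChk12.def31_3 p (by omega) (by omega)

theorem hdef32 : ∀ p, p < btable.n → btable.walkT (defs.look 32) p = btable.tau 32 p := by
  intro p hp
  have hp' : p < 28431 := hp
  rcases Nat.lt_or_ge p 7352 with h0 | h0
  · exact (defRange_iff defs 32 0 7352).mp Cfsg.Agent.Lib.Helper29.TCF23YBChk12.def32_0 p (by omega) (by omega)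
  rcases Nat.lt_or_ge p 14704 with h1 | h1
  · exact (defRange_iff defs 32 7352 7352).mp Cfsg.Agent.Lib.Helper29.TCF23YBChk12.def32_1 p (by omega) (by omega)
  rcases Nat.lt_or_ge p 22056 with h2 | h2
  · exact (defRange_iff defs 32 14704 7352).mp Cfsg.Agent.Lib.Helper29.TCF23YBChk13.def32_2 p (by omega) (by omega)
  exact (defRange_iff defs 32 22056 6375).mp Cfsg.Agent.Lib.Helper29.TCF23YBChk13.def32_3 p (by omega) (by omega)

theorem hdef33 : ∀ p, p < btable.n → btable.walkT (defs.look 33) p = btable.tau 33 p := by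
  intro p hp
  have hp' : p < 28431 := hp
  rcases Nat.lt_or_ge p 7352 with h0 | h0
  · exact (defRange_iff defs 33 0 7352).mp Cfsg.Agent.Lib.Helper29.TCF23YBChk13.def33_0 p (by omega) (by omega)
  rcases Nat.lt_or_ge p 14704 with h1 | h1
  · exact (defRange_iff defs 33 7352 7352).mp Cfsg.Agent.Lib.Helper29.TCF23YBChk13.def33_1 p (by omega) (by omega)
  rcases Nat.lt_or_ge p 22056 with h2 | h2
  · exact (defRange_iff defs 33 14704 7352).mp Cfsg.Agent.Lib.Helper29.TCF23YBChk13.def33_2 p (by omega) (by omega)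
  exact (defRange_iff defs 33 22056 6375).mp Cfsg.Agent.Lib.Helper29.TCF23YBChk14.def33_3 p (by omega) (by omega)

theorem hdef34 : ∀ p, p < btable.n → btable.walkT (defs.look 34) p = btable.tau 34 p := by
  intro p hp
  have hp' : p < 28431 := hp
  rcases Nat.lt_or_ge p 6410 with h0 | h0
  · exact (defRange_iff defs 34 0 6410).mp Cfsg.Agent.Lib.Helper29.TCF23YBChk14.def34_0 p (by omega) (by omega)
  rcases Nat.lt_or_ge p 12820 with h1 | h1
  · exact (defRange_iff defs 34 6410 6410).mp Cfsg.Agent.Lib.Helper29.TCF23YBChk14.def34_1 p (by omega) (by omega)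
  rcases Nat.lt_or_ge p 19230 with h2 | h2
  · exact (defRange_iff defs 34 12820 6410).mp Cfsg.Agent.Lib.Helper29.TCF23YBChk14.def34_2 p (by omega) (by omega)
  rcases Nat.lt_or_ge p 25640 with h3 | h3
  · exact (defRange_iff defs 34 19230 6410).mp Cfsg.Agent.Lib.Helper29.TCF23YBChk14.def34_3 p (by omega) (by omega)
  exact (defRange_iff defs 34 25640 2791).mp Cfsg.Agent.Lib.Helper29.TCF23YBChk15.def34_4 p (by omega) (by omega)

theorem hdef35 : ∀ p, p < btable.n → btable.walkT (defs.look 35) p = btable.tau 35 p := by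
  intro p hp
  have hp' : p < 28431 := hp
  rcases Nat.lt_or_ge p 6410 with h0 | h0
  · exact (defRange_iff defs 35 0 6410).mp Cfsg.Agent.Lib.Helper29.TCF23YBChk15.def35_0 p (by omega) (by omega)
  rcases Nat.lt_or_ge p 12820 with h1 | h1
  · exact (defRange_iff defs 35 6410 6410).mp Cfsg.Agent.Lib.Helper29.TCF23YBChk15.def35_1 p (by omega) (by omega)
  rcases Nat.lt_or_ge p 19230 with h2 | h2
  · exact (defRange_iff defs 35 12820 6410).mp Cfsg.Agent.Lib.Helper29.TCF23YBChk15.def35_2 p (by omega) (by omega)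
  rcases Nat.lt_or_ge p 25640 with h3 | h3
  · exact (defRange_iff defs 35 19230 6410).mp Cfsg.Agent.Lib.Helper29.TCF23YBChk15.def35_3 p (by omega) (by omega)
  exact (defRange_iff defs 35 25640 2791).mp Cfsg.Agent.Lib.Helper29.TCF23YBChk16.def35_4 p (by omega) (by omega)

theorem hdef : ∀ e, 16 ≤ e → e < btable.k → ∀ p, p < btable.n → btable.walkT (defs.look e) p = btable.tau e p := by
  intro e h1 h2 p hp
  have h2' : e < 36 := h2
  interval_cases e
  · exact hdef16 p hp
  · exact hdef17 p hp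
  · exact hdef18 p hp
  · exact hdef19 p hp
  · exact hdef20 p hp
  · exact hdef21 p hp
  · exact hdef22 p hp
  · exact hdef23 p hp
  · exact hdef24 p hp
  · exact hdef25 p hp
  · exact hdef26 p hp
  · exact hdef27 p hp
  · exact hdef28 p hp
  · exact hdef29 p hp
  · exact hdef30 p hp
  · exact hdef31 p hp
  · exact hdef32 p hp
  · exact hdef33 p hp
  · exact hdef34 p hp
  · exact hdef35 p hp

theorem hΓ : ∀ l, l < btable.k → Table.sigma hTB l ∈ baseGroup hTB 16 :=
  sigma_mem_baseGroup hTB 16 defs Cfsg.Agent.Lib.Helper29.TCF23YBChk22.dlt hdef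

theorem hconn0 : ∀ p, p < btable.n → orb0.oid p = 1 →
    (orb0.depth p = 0 ∧ orb0.roots.look 1 = p) ∨
    (orb0.depth p ≠ 0 ∧ orb0.parent p < btable.n ∧ orb0.oid (orb0.parent p) = 1 ∧
      orb0.depth (orb0.parent p) + 1 = orb0.depth p ∧
      btable.walkT (orb0.gens.look (orb0.gen p)) (orb0.parent p) = p) := by
  intro p hp
  have hp' : p < 28431 := hp
  exact (OrbData.connOKc_iff orb0 btable 1 0 28431).mp Cfsg.Agent.Lib.Helper29.TCF23YBChk16.conn0_0 p (by omega) (by omega)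

theorem lev0 : 960 * Nat.card (pstab (baseGroup hTB 16) (toFin btable.n [1])) ≤
    Nat.card (pstab (baseGroup hTB 16) (toFin btable.n [])) :=
  level_boundN hTB _ [] A0 orb0 1 1 960 rfl (by decide) Cfsg.Agent.Lib.Helper29.TCF23YBChk16.cnt0 hΓ Cfsg.Agent.Lib.Helper29.TCF23YBChk16.hA0
    (BT.All_of_all (fun _ h => of_decide_eq_true h) _ Cfsg.Agent.Lib.Helper29.TCF23YBChk16.hgens0) hconn0

theorem hconn1 : ∀ p, p < btable.n → orb1.oid p = 1 →
    (orb1.depth p = 0 ∧ orb1.roots.look 1 = p) ∨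
    (orb1.depth p ≠ 0 ∧ orb1.parent p < btable.n ∧ orb1.oid (orb1.parent p) = 1 ∧
      orb1.depth (orb1.parent p) + 1 = orb1.depth p ∧
      btable.walkT (orb1.gens.look (orb1.gen p)) (orb1.parent p) = p) := by
  intro p hp
  have hp' : p < 28431 := hp
  exact (OrbData.connOKc_iff orb1 btable 1 0 28431).mp Cfsg.Agent.Lib.Helper29.TCF23YBChk17.conn1_0 p (by omega) (by omega)

theorem lev1 : 84 * Nat.card (pstab (baseGroup hTB 16) (toFin btable.n [2, 1])) ≤
    Nat.card (pstab (baseGroup hTB 16) (toFin btable.n [1])) :=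
  level_boundN hTB _ [1] A1 orb1 1 2 84 rfl (by decide) Cfsg.Agent.Lib.Helper29.TCF23YBChk17.cnt1 hΓ Cfsg.Agent.Lib.Helper29.TCF23YBChk17.hA1
    (BT.All_of_all (fun _ h => of_decide_eq_true h) _ Cfsg.Agent.Lib.Helper29.TCF23YBChk17.hgens1) hconn1

theorem hconn2 : ∀ p, p < btable.n → orb2.oid p = 1 →
    (orb2.depth p = 0 ∧ orb2.roots.look 1 = p) ∨
    (orb2.depth p ≠ 0 ∧ orb2.parent p < btable.n ∧ orb2.oid (orb2.parent p) = 1 ∧
      orb2.depth (orb2.parent p) + 1 = orb2.depth p ∧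
      btable.walkT (orb2.gens.look (orb2.gen p)) (orb2.parent p) = p) := by
  intro p hp
  have hp' : p < 28431 := hp
  exact (OrbData.connOKc_iff orb2 btable 1 0 28431).mp Cfsg.Agent.Lib.Helper29.TCF23YBChk17.conn2_0 p (by omega) (by omega)

theorem lev2 : 18 * Nat.card (pstab (baseGroup hTB 16) (toFin btable.n [3, 2, 1])) ≤
    Nat.card (pstab (baseGroup hTB 16) (toFin btable.n [2, 1])) :=
  level_boundN hTB _ [2, 1] A2 orb2 1 3 18 rfl (by decide) Cfsg.Agent.Lib.Helper29.TCF23YBChk18.cnt2 hΓ Cfsg.Agent.Lib.Helper29.TCF23YBChk18.hA2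
    (BT.All_of_all (fun _ h => of_decide_eq_true h) _ Cfsg.Agent.Lib.Helper29.TCF23YBChk18.hgens2) hconn2

theorem hconn3 : ∀ p, p < btable.n → orb3.oid p = 1 →
    (orb3.depth p = 0 ∧ orb3.roots.look 1 = p) ∨
    (orb3.depth p ≠ 0 ∧ orb3.parent p < btable.n ∧ orb3.oid (orb3.parent p) = 1 ∧
      orb3.depth (orb3.parent p) + 1 = orb3.depth p ∧
      btable.walkT (orb3.gens.look (orb3.gen p)) (orb3.parent p) = p) := by
  intro p hp
  have hp' : p < 28431 := hp
  exact (OrbData.connOKc_iff orb3 btable 1 0 28431).mp Cfsg.Agent.Lib.Helper29.TCF23YBChk18.conn3_0 p (by omega) (by omega)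

theorem lev3 : 5 * Nat.card (pstab (baseGroup hTB 16) (toFin btable.n [8, 3, 2, 1])) ≤
    Nat.card (pstab (baseGroup hTB 16) (toFin btable.n [3, 2, 1])) :=
  level_boundN hTB _ [3, 2, 1] A3 orb3 1 8 5 rfl (by decide) Cfsg.Agent.Lib.Helper29.TCF23YBChk18.cnt3 hΓ Cfsg.Agent.Lib.Helper29.TCF23YBChk19.hA3
    (BT.All_of_all (fun _ h => of_decide_eq_true h) _ Cfsg.Agent.Lib.Helper29.TCF23YBChk19.hgens3) hconn3

theorem hconn4 : ∀ p, p < btable.n → orb4.oid p = 1 →
    (orb4.depth p = 0 ∧ orb4.roots.look 1 = p) ∨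
    (orb4.depth p ≠ 0 ∧ orb4.parent p < btable.n ∧ orb4.oid (orb4.parent p) = 1 ∧
      orb4.depth (orb4.parent p) + 1 = orb4.depth p ∧
      btable.walkT (orb4.gens.look (orb4.gen p)) (orb4.parent p) = p) := by
  intro p hp
  have hp' : p < 28431 := hp
  exact (OrbData.connOKc_iff orb4 btable 1 0 28431).mp Cfsg.Agent.Lib.Helper29.TCF23YBChk19.conn4_0 p (by omega) (by omega)

theorem lev4 : 4 * Nat.card (pstab (baseGroup hTB 16) (toFin btable.n [5, 8, 3, 2, 1])) ≤
    Nat.card (pstab (baseGroup hTB 16) (toFin btable.n [8, 3, 2, 1])) :=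
  level_boundN hTB _ [8, 3, 2, 1] A4 orb4 1 5 4 rfl (by decide) Cfsg.Agent.Lib.Helper29.TCF23YBChk19.cnt4 hΓ Cfsg.Agent.Lib.Helper29.TCF23YBChk20.hA4
    (BT.All_of_all (fun _ h => of_decide_eq_true h) _ Cfsg.Agent.Lib.Helper29.TCF23YBChk19.hgens4) hconn4

theorem hconn5 : ∀ p, p < btable.n → orb5.oid p = 1 →
    (orb5.depth p = 0 ∧ orb5.roots.look 1 = p) ∨
    (orb5.depth p ≠ 0 ∧ orb5.parent p < btable.n ∧ orb5.oid (orb5.parent p) = 1 ∧
      orb5.depth (orb5.parent p) + 1 = orb5.depth p ∧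
      btable.walkT (orb5.gens.look (orb5.gen p)) (orb5.parent p) = p) := by
  intro p hp
  have hp' : p < 28431 := hp
  exact (OrbData.connOKc_iff orb5 btable 1 0 28431).mp Cfsg.Agent.Lib.Helper29.TCF23YBChk20.conn5_0 p (by omega) (by omega)

theorem lev5 : 2 * Nat.card (pstab (baseGroup hTB 16) (toFin btable.n [4, 5, 8, 3, 2, 1])) ≤
    Nat.card (pstab (baseGroup hTB 16) (toFin btable.n [5, 8, 3, 2, 1])) :=
  level_boundN hTB _ [5, 8, 3, 2, 1] A5 orb5 1 4 2 rfl (by decide) Cfsg.Agent.Lib.Helper29.TCF23YBChk20.cnt5 hΓ Cfsg.Agent.Lib.Helper29.TCF23YBChk20.hA5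
    (BT.All_of_all (fun _ h => of_decide_eq_true h) _ Cfsg.Agent.Lib.Helper29.TCF23YBChk20.hgens5) hconn5

theorem hconn6 : ∀ p, p < btable.n → orb6.oid p = 1 →
    (orb6.depth p = 0 ∧ orb6.roots.look 1 = p) ∨
    (orb6.depth p ≠ 0 ∧ orb6.parent p < btable.n ∧ orb6.oid (orb6.parent p) = 1 ∧
      orb6.depth (orb6.parent p) + 1 = orb6.depth p ∧
      btable.walkT (orb6.gens.look (orb6.gen p)) (orb6.parent p) = p) := by
  intro p hp
  have hp' : p < 28431 := hp
  exact (OrbData.connOKc_iff orb6 btable 1 0 28431).mp Cfsg.Agent.Lib.Helper29.TCF23YBChk21.conn6_0 p (by omega) (by omega)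

theorem lev6 : 3 * Nat.card (pstab (baseGroup hTB 16) (toFin btable.n [12, 4, 5, 8, 3, 2, 1])) ≤
    Nat.card (pstab (baseGroup hTB 16) (toFin btable.n [4, 5, 8, 3, 2, 1])) :=
  level_boundN hTB _ [4, 5, 8, 3, 2, 1] A6 orb6 1 12 3 rfl (by decide) Cfsg.Agent.Lib.Helper29.TCF23YBChk21.cnt6 hΓ Cfsg.Agent.Lib.Helper29.TCF23YBChk21.hA6
    (BT.All_of_all (fun _ h => of_decide_eq_true h) _ Cfsg.Agent.Lib.Helper29.TCF23YBChk21.hgens6) hconn6

theorem hconn7 : ∀ p, p < btable.n → orb7.oid p = 1 →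
    (orb7.depth p = 0 ∧ orb7.roots.look 1 = p) ∨
    (orb7.depth p ≠ 0 ∧ orb7.parent p < btable.n ∧ orb7.oid (orb7.parent p) = 1 ∧
      orb7.depth (orb7.parent p) + 1 = orb7.depth p ∧
      btable.walkT (orb7.gens.look (orb7.gen p)) (orb7.parent p) = p) := by
  intro p hp
  have hp' : p < 28431 := hp
  exact (OrbData.connOKc_iff orb7 btable 1 0 28431).mp Cfsg.Agent.Lib.Helper29.TCF23YBChk21.conn7_0 p (by omega) (by omega)

theorem lev7 : 2 * Nat.card (pstab (baseGroup hTB 16) (toFin btable.n [18, 12, 4, 5, 8, 3, 2, 1])) ≤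
    Nat.card (pstab (baseGroup hTB 16) (toFin btable.n [12, 4, 5, 8, 3, 2, 1])) :=
  level_boundN hTB _ [12, 4, 5, 8, 3, 2, 1] A7 orb7 1 18 2 rfl (by decide) Cfsg.Agent.Lib.Helper29.TCF23YBChk22.cnt7 hΓ Cfsg.Agent.Lib.Helper29.TCF23YBChk22.hA7
    (BT.All_of_all (fun _ h => of_decide_eq_true h) _ Cfsg.Agent.Lib.Helper29.TCF23YBChk22.hgens7) hconn7

/-- the order of the group generated by the letters of the coset table -/
theorem card_base : 348364800 ≤ Nat.card (baseGroup hTB 16) := by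
  have h : 960 * (84 * (18 * (5 * (4 * (2 * (3 * (2 * 1))))))) ≤ Nat.card (pstab (baseGroup hTB 16) (toFin btable.n [])) :=
    chain_stepN lev0 (chain_stepN lev1 (chain_stepN lev2 (chain_stepN lev3 (chain_stepN lev4 (chain_stepN lev5 (chain_stepN lev6 (chain_stepN lev7 (one_le_card _ _))))))))
  have e : (348364800 : ℕ) = 960 * (84 * (18 * (5 * (4 * (2 * (3 * (2 * 1))))))) := by norm_num
  rw [e]
  exact h

end Cfsg.Agent.Lib.Helper29.TCF23YBMain
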