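import Cfsg.Agent.Lib.Helper29.TCF23YTable
import Cfsg.Agent.Lib.Helper29.TCF23YL1
set_option autoImplicit false
set_option maxRecDepth 100000
set_option maxHeartbeats 0

namespace Cfsg.Agent.Lib.Helper29.TCF23YL2
open Cfsg.Agent.Lib.Helper28.TC2Upper Cfsg.Agent.Lib.Helper28.TC2Lower Cfsg.Agent.Lib.Helper29.TCF23YTable

theorem rel12 : table.relOK chkPaths 11184 932 = true := by decide +kernel
theorem rel13 : table.relOK chkPaths 12116 932 = true := by decide +kernel
theorem rel14 : table.relOK chkPaths 13048 932 = true := by decide +kernel
theorem rel15 : table.relOK chkPaths 13980 932 = true := by decide +kernel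
theorem rel16 : table.relOK chkPaths 14912 932 = true := by decide +kernel
theorem rel17 : table.relOK chkPaths 15844 932 = true := by decide +kernel

end Cfsg.Agent.Lib.Helper29.TCF23YL2
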