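import Mathlib
set_option autoImplicit false
set_option maxRecDepth 100000

namespace Cfsg.Agent.Lib.Helper29.F23YDef

/-- the generators -/
inductive Gen
  | b
  | c
  | d
  | e
  | f
  | g
  | j
  | h
  | i
  deriving DecidableEq

/-- the relators -/
def relWords : List (List (Gen × Bool)) := [
  [(.b, true), (.b, true)],
  [(.b, true), (.c, true), (.b, true), (.c, true), (.b, true), (.c, true)],
  [(.b, true), (.d, true), (.b, true), (.d, true)],
  [(.b, true), (.e, true), (.b, true), (.e, true)],
  [(.b, true), (.f, true), (.b, true), (.f, true)],
  [(.b, true), (.g, true), (.b, true), (.g, true)],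
  [(.b, true), (.j, true), (.b, true), (.j, true)],
  [(.b, true), (.h, true), (.b, true), (.h, true)],
  [(.b, true), (.i, true), (.b, true), (.i, true)],
  [(.c, true), (.b, true), (.c, true), (.b, true), (.c, true), (.b, true)],
  [(.c, true), (.c, true)],
  [(.c, true), (.d, true), (.c, true), (.d, true), (.c, true), (.d, true)],
  [(.c, true), (.e, true), (.c, true), (.e, true)],
  [(.c, true), (.f, true), (.c, true), (.f, true)],
  [(.c, true), (.g, true), (.c, true), (.g, true)],
  [(.c, true), (.j, true), (.c, true), (.j, true)],
  [(.c, true), (.h, true), (.c, true), (.h, true)],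
  [(.c, true), (.i, true), (.c, true), (.i, true)],
  [(.d, true), (.b, true), (.d, true), (.b, true)],
  [(.d, true), (.c, true), (.d, true), (.c, true), (.d, true), (.c, true)],
  [(.d, true), (.d, true)],
  [(.d, true), (.e, true), (.d, true), (.e, true), (.d, true), (.e, true)],
  [(.d, true), (.f, true), (.d, true), (.f, true)],
  [(.d, true), (.g, true), (.d, true), (.g, true)],
  [(.d, true), (.j, true), (.d, true), (.j, true)],
  [(.d, true), (.h, true), (.d, true), (.h, true), (.d, true), (.h, true)],
  [(.d, true), (.i, true), (.d, true), (.i, true)],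
  [(.e, true), (.b, true), (.e, true), (.b, true)],
  [(.e, true), (.c, true), (.e, true), (.c, true)],
  [(.e, true), (.d, true), (.e, true), (.d, true), (.e, true), (.d, true)],
  [(.e, true), (.e, true)],
  [(.e, true), (.f, true), (.e, true), (.f, true), (.e, true), (.f, true)],
  [(.e, true), (.g, true), (.e, true), (.g, true)],
  [(.e, true), (.j, true), (.e, true), (.j, true)],
  [(.e, true), (.h, true), (.e, true), (.h, true)],
  [(.e, true), (.i, true), (.e, true), (.i, true)],
  [(.f, true), (.b, true), (.f, true), (.b, true)],
  [(.f, true), (.c, true), (.f, true), (.c, true)],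
  [(.f, true), (.d, true), (.f, true), (.d, true)],
  [(.f, true), (.e, true), (.f, true), (.e, true), (.f, true), (.e, true)],
  [(.f, true), (.f, true)],
  [(.f, true), (.g, true), (.f, true), (.g, true), (.f, true), (.g, true)],
  [(.f, true), (.j, true), (.f, true), (.j, true)],
  [(.f, true), (.h, true), (.f, true), (.h, true)],
  [(.f, true), (.i, true), (.f, true), (.i, true)],
  [(.g, true), (.b, true), (.g, true), (.b, true)],
  [(.g, true), (.c, true), (.g, true), (.c, true)],
  [(.g, true), (.d, true), (.g, true), (.d, true)],
  [(.g, true), (.e, true), (.g, true), (.e, true)],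
  [(.g, true), (.f, true), (.g, true), (.f, true), (.g, true), (.f, true)],
  [(.g, true), (.g, true)],
  [(.g, true), (.j, true), (.g, true), (.j, true), (.g, true), (.j, true)],
  [(.g, true), (.h, true), (.g, true), (.h, true)],
  [(.g, true), (.i, true), (.g, true), (.i, true)],
  [(.j, true), (.b, true), (.j, true), (.b, true)],
  [(.j, true), (.c, true), (.j, true), (.c, true)],
  [(.j, true), (.d, true), (.j, true), (.d, true)],
  [(.j, true), (.e, true), (.j, true), (.e, true)],
  [(.j, true), (.f, true), (.j, true), (.f, true)],
  [(.j, true), (.g, true), (.j, true), (.g, true), (.j, true), (.g, true)],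
  [(.j, true), (.j, true)],
  [(.j, true), (.h, true), (.j, true), (.h, true)],
  [(.j, true), (.i, true), (.j, true), (.i, true)],
  [(.h, true), (.b, true), (.h, true), (.b, true)],
  [(.h, true), (.c, true), (.h, true), (.c, true)],
  [(.h, true), (.d, true), (.h, true), (.d, true), (.h, true), (.d, true)],
  [(.h, true), (.e, true), (.h, true), (.e, true)],
  [(.h, true), (.f, true), (.h, true), (.f, true)],
  [(.h, true), (.g, true), (.h, true), (.g, true)],
  [(.h, true), (.j, true), (.h, true), (.j, true)],
  [(.h, true), (.h, true)],
  [(.h, true), (.i, true), (.h, true), (.i, true), (.h, true), (.i, true)],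
  [(.i, true), (.b, true), (.i, true), (.b, true)],
  [(.i, true), (.c, true), (.i, true), (.c, true)],
  [(.i, true), (.d, true), (.i, true), (.d, true)],
  [(.i, true), (.e, true), (.i, true), (.e, true)],
  [(.i, true), (.f, true), (.i, true), (.f, true)],
  [(.i, true), (.g, true), (.i, true), (.g, true)],
  [(.i, true), (.j, true), (.i, true), (.j, true)],
  [(.i, true), (.h, true), (.i, true), (.h, true), (.i, true), (.h, true)],
  [(.i, true), (.i, true)],
  [(.d, true), (.c, true), (.b, true), (.d, true), (.e, true), (.f, true), (.d, true), (.h, true), (.i, true), (.d, true), (.c, true), (.b, true), (.d, true), (.e, true), (.f, true), (.d, true), (.h, true), (.i, true), (.d, true), (.c, true), (.b, true), (.d, true), (.e, true), (.f, true), (.d, true), (.h, true), (.i, true), (.d, true), (.c, true), (.b, true), (.d, true), (.e, true), (.f, true), (.d, true), (.h, true), (.i, true), (.d, true), (.c, true), (.b, true), (.d, true), (.e, true), (.f, true), (.d, true), (.h, true), (.i, true), (.d, true), (.c, true), (.b, true), (.d, true), (.e, true), (.f, true), (.d, true), (.h, true), (.i, true), (.d, true),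 (.c, true), (.b, true), (.d, true), (.e, true), (.f, true), (.d, true), (.h, true), (.i, true), (.d, true), (.c, true), (.b, true), (.d, true), (.e, true), (.f, true), (.d, true), (.h, true), (.i, true), (.d, true), (.c, true), (.b, true), (.d, true), (.e, true), (.f, true), (.d, true), (.h, true), (.i, true), (.d, true), (.c, true), (.b, true), (.d, true), (.e, true), (.f, true), (.d, true), (.h, true), (.i, true)] ]

end Cfsg.Agent.Lib.Helper29.F23YDef
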