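import Cfsg.Agent.Lib.Helper28.TC2Upper
import Cfsg.Agent.Lib.Helper29.TCF23YDataC0
import Cfsg.Agent.Lib.Helper29.TCF23YDataC1
import Cfsg.Agent.Lib.Helper29.TCF23YDataC2
import Cfsg.Agent.Lib.Helper29.TCF23YDataC3
import Cfsg.Agent.Lib.Helper29.TCF23YDataC4
import Cfsg.Agent.Lib.Helper29.TCF23YDataC5
set_option autoImplicit false
set_option maxRecDepth 100000

namespace Cfsg.Agent.Lib.Helper29.TCF23YData
open Cfsg.Agent.Lib.Helper28.TC2Upper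

/-- relators -/
def relT : BT (ℕ × List ℕ × List ℕ) := (BT.node 40 (BT.node 20 (BT.node 10 (BT.node 5 (BT.node 2 (BT.node 1 (BT.node 0 (BT.leaf (2, [0, 0], [1, 1])) (BT.leaf (6, [2, 0, 2, 0, 2, 0], [1, 3, 1, 3, 1, 3]))) (BT.leaf (4, [4, 0, 4, 0], [1, 5, 1, 5]))) (BT.node 4 (BT.node 3 (BT.leaf (4, [6, 0, 6, 0], [1, 7, 1, 7])) (BT.leaf (4, [8, 0, 8, 0], [1, 9, 1, 9]))) (BT.leaf (4, [10, 0, 10, 0], [1, 11, 1, 11])))) (BT.node 8 (BT.node 7 (BT.node 6 (BT.leaf (4, [12, 0, 12, 0], [1, 13, 1, 13])) (BT.leaf (4, [14, 0, 14, 0], [1, 15, 1, 15]))) (BT.leaf (4, [16, 0, 16, 0], [1, 17, 1, 17]))) (BT.node 9 (BT.leaf (6, [0, 2, 0, 2, 0, 2], [3, 1, 3, 1, 3, 1])) (BT.leaf (2, [2, 2], [3, 3]))))) (BT.node 15 (BT.node 13 (BT.node 12 (BT.node 11 (BT.leaf (6, [4, 2, 4, 2, 4, 2], [3, 5, 3, 5, 3, 5])) (BT.leaf (4, [6, 2, 6, 2], [3, 7, 3, 7]))) (BT.leaf (4, [8, 2, 8, 2], [3,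 9, 3, 9]))) (BT.node 14 (BT.leaf (4, [10, 2, 10, 2], [3, 11, 3, 11])) (BT.leaf (4, [12, 2, 12, 2], [3, 13, 3, 13])))) (BT.node 18 (BT.node 17 (BT.node 16 (BT.leaf (4, [14, 2, 14, 2], [3, 15, 3, 15])) (BT.leaf (4, [16, 2, 16, 2], [3, 17, 3, 17]))) (BT.leaf (4, [0, 4, 0, 4], [5, 1, 5, 1]))) (BT.node 19 (BT.leaf (6, [2, 4, 2, 4, 2, 4], [5, 3, 5, 3, 5, 3])) (BT.leaf (2, [4, 4], [5, 5])))))) (BT.node 30 (BT.node 25 (BT.node 23 (BT.node 22 (BT.node 21 (BT.leaf (6, [6, 4, 6, 4, 6, 4], [5, 7, 5, 7, 5, 7])) (BT.leaf (4, [8, 4, 8, 4], [5, 9, 5, 9]))) (BT.leaf (4, [10, 4, 10, 4], [5, 11, 5, 11]))) (BT.node 24 (BT.leaf (4, [12, 4, 12, 4], [5, 13, 5, 13])) (BT.leaf (6, [14, 4, 14, 4, 14, 4], [5, 15, 5, 15, 5, 15])))) (BT.node 28 (BT.node 27 (BT.node 26 (BT.leaf (4, [16, 4, 16, 4], [5, 17, 5, 17])) (BT.leaf (4, [0, 6, 0, 6], [7, 1, 7, 1]))) (BT.leaf (4, [2, 6, 2, 6],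 [7, 3, 7, 3]))) (BT.node 29 (BT.leaf (6, [4, 6, 4, 6, 4, 6], [7, 5, 7, 5, 7, 5])) (BT.leaf (2, [6, 6], [7, 7]))))) (BT.node 35 (BT.node 33 (BT.node 32 (BT.node 31 (BT.leaf (6, [8, 6, 8, 6, 8, 6], [7, 9, 7, 9, 7, 9])) (BT.leaf (4, [10, 6, 10, 6], [7, 11, 7, 11]))) (BT.leaf (4, [12, 6, 12, 6], [7, 13, 7, 13]))) (BT.node 34 (BT.leaf (4, [14, 6, 14, 6], [7, 15, 7, 15])) (BT.leaf (4, [16, 6, 16, 6], [7, 17, 7, 17])))) (BT.node 38 (BT.node 37 (BT.node 36 (BT.leaf (4, [0, 8, 0, 8], [9, 1, 9, 1])) (BT.leaf (4, [2, 8, 2, 8], [9, 3, 9, 3]))) (BT.leaf (4, [4, 8, 4, 8], [9, 5, 9, 5]))) (BT.node 39 (BT.leaf (6, [6, 8, 6, 8, 6, 8], [9, 7, 9, 7, 9, 7])) (BT.leaf (2, [8, 8], [9, 9]))))))) (BT.node 61 (BT.node 51 (BT.node 46 (BT.node 43 (BT.node 42 (BT.node 41 (BT.leaf (6, [10, 8, 10, 8, 10, 8], [9, 11, 9, 11, 9, 11])) (BT.leaf (4, [12, 8, 12, 8], [9, 13, 9, 13]))) (BT.leaf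 (4, [14, 8, 14, 8], [9, 15, 9, 15]))) (BT.node 45 (BT.node 44 (BT.leaf (4, [16, 8, 16, 8], [9, 17, 9, 17])) (BT.leaf (4, [0, 10, 0, 10], [11, 1, 11, 1]))) (BT.leaf (4, [2, 10, 2, 10], [11, 3, 11, 3])))) (BT.node 49 (BT.node 48 (BT.node 47 (BT.leaf (4, [4, 10, 4, 10], [11, 5, 11, 5])) (BT.leaf (4, [6, 10, 6, 10], [11, 7, 11, 7]))) (BT.leaf (6, [8, 10, 8, 10, 8, 10], [11, 9, 11, 9, 11, 9]))) (BT.node 50 (BT.leaf (2, [10, 10], [11, 11])) (BT.leaf (6, [12, 10, 12, 10, 12, 10], [11, 13, 11, 13, 11, 13]))))) (BT.node 56 (BT.node 54 (BT.node 53 (BT.node 52 (BT.leaf (4, [14, 10, 14, 10], [11, 15, 11, 15])) (BT.leaf (4, [16, 10, 16, 10], [11, 17, 11, 17]))) (BT.leaf (4, [0, 12, 0, 12], [13, 1, 13, 1]))) (BT.node 55 (BT.leaf (4, [2, 12, 2, 12], [13, 3, 13, 3])) (BT.leaf (4, [4, 12, 4, 12], [13, 5, 13, 5])))) (BT.node 59 (BT.node 58 (BT.node 57 (BT.leaf (4, [6, 12,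 6, 12], [13, 7, 13, 7])) (BT.leaf (4, [8, 12, 8, 12], [13, 9, 13, 9]))) (BT.leaf (6, [10, 12, 10, 12, 10, 12], [13, 11, 13, 11, 13, 11]))) (BT.node 60 (BT.leaf (2, [12, 12], [13, 13])) (BT.leaf (4, [14, 12, 14, 12], [13, 15, 13, 15])))))) (BT.node 71 (BT.node 66 (BT.node 64 (BT.node 63 (BT.node 62 (BT.leaf (4, [16, 12, 16, 12], [13, 17, 13, 17])) (BT.leaf (4, [0, 14, 0, 14], [15, 1, 15, 1]))) (BT.leaf (4, [2, 14, 2, 14], [15, 3, 15, 3]))) (BT.node 65 (BT.leaf (6, [4, 14, 4, 14, 4, 14], [15, 5, 15, 5, 15, 5])) (BT.leaf (4, [6, 14, 6, 14], [15, 7, 15, 7])))) (BT.node 69 (BT.node 68 (BT.node 67 (BT.leaf (4, [8, 14, 8, 14], [15, 9, 15, 9])) (BT.leaf (4, [10, 14, 10, 14], [15, 11, 15, 11]))) (BT.leaf (4, [12, 14, 12, 14], [15, 13, 15, 13]))) (BT.node 70 (BT.leaf (2, [14, 14], [15, 15])) (BT.leaf (6, [16, 14, 16, 14, 16, 14], [15, 17, 15, 17, 15, 17]))))) (BT.node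 76 (BT.node 74 (BT.node 73 (BT.node 72 (BT.leaf (4, [0, 16, 0, 16], [17, 1, 17, 1])) (BT.leaf (4, [2, 16, 2, 16], [17, 3, 17, 3]))) (BT.leaf (4, [4, 16, 4, 16], [17, 5, 17, 5]))) (BT.node 75 (BT.leaf (4, [6, 16, 6, 16], [17, 7, 17, 7])) (BT.leaf (4, [8, 16, 8, 16], [17, 9, 17, 9])))) (BT.node 79 (BT.node 78 (BT.node 77 (BT.leaf (4, [10, 16, 10, 16], [17, 11, 17, 11])) (BT.leaf (4, [12, 16, 12, 16], [17, 13, 17, 13]))) (BT.leaf (6, [14, 16, 14, 16, 14, 16], [17, 15, 17, 15, 17, 15]))) (BT.node 80 (BT.leaf (2, [16, 16], [17, 17])) (BT.leaf (90, [16, 14, 4, 8, 6, 4, 0, 2, 4, 16, 14, 4, 8, 6, 4, 0, 2, 4, 16, 14, 4, 8, 6, 4, 0, 2, 4, 16, 14, 4, 8, 6, 4, 0, 2, 4, 16, 14, 4, 8, 6, 4, 0, 2, 4, 16, 14, 4, 8, 6, 4, 0, 2, 4, 16, 14, 4, 8, 6, 4, 0, 2, 4, 16, 14, 4, 8, 6, 4, 0, 2, 4, 16, 14, 4, 8, 6, 4, 0, 2, 4, 16, 14, 4, 8, 6, 4, 0, 2, 4], [5, 3, 1, 5, 7, 9, 5, 15,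 17, 5, 3, 1, 5, 7, 9, 5, 15, 17, 5, 3, 1, 5, 7, 9, 5, 15, 17, 5, 3, 1, 5, 7, 9, 5, 15, 17, 5, 3, 1, 5, 7, 9, 5, 15, 17, 5, 3, 1, 5, 7, 9, 5, 15, 17, 5, 3, 1, 5, 7, 9, 5, 15, 17, 5, 3, 1, 5, 7, 9, 5, 15, 17, 5, 3, 1, 5, 7, 9, 5, 15, 17, 5, 3, 1, 5, 7, 9, 5, 15, 17]))))))))
/-- subgroup generators -/
def subT : BT (ℕ × List ℕ × List ℕ) := (BT.node 3 (BT.node 1 (BT.node 0 (BT.leaf (1, [0], [1])) (BT.leaf (1, [2], [3]))) (BT.node 2 (BT.leaf (1, [4], [5])) (BT.leaf (1, [6], [7])))) (BT.node 5 (BT.node 4 (BT.leaf (1, [8], [9])) (BT.leaf (1, [10], [11]))) (BT.node 6 (BT.leaf (1, [12], [13])) (BT.leaf (1, [14], [15])))))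
/-- fact chunks -/
def colET : BT ℕ := (BT.node 1500 (BT.node 750 (BT.node 375 (BT.node 187 (BT.node 93 (BT.node 46 (BT.node 23 (BT.node 11 (BT.node 5 (BT.node 2 (BT.node 1 (BT.node 0 (BT.leaf cE0) (BT.leaf cE1)) (BT.leaf cE2)) (BT.node 4 (BT.node 3 (BT.leaf cE3) (BT.leaf cE4)) (BT.leaf cE5))) (BT.node 8 (BT.node 7 (BT.node 6 (BT.leaf cE6) (BT.leaf cE7)) (BT.leaf cE8)) (BT.node 10 (BT.node 9 (BT.leaf cE9) (BT.leaf cE10)) (BT.leaf cE11)))) (BT.node 17 (BT.node 14 (BT.node 13 (BT.node 12 (BT.leaf cE12) (BT.leaf cE13)) (BT.leaf cE14)) (BT.node 16 (BT.node 15 (BT.leaf cE15) (BT.leaf cE16)) (BT.leaf cE17))) (BT.node 20 (BT.node 19 (BT.node 18 (BT.leaf cE18) (BT.leaf cE19)) (BT.leaf cE20)) (BT.node 22 (BT.node 21 (BT.leaf cE21) (BT.leaf cE22)) (BT.leaf cE23))))) (BT.node 35 (BT.node 29 (BT.node 26 (BT.node 25 (BT.node 24 (BT.leaf cE24) (BT.leaf cE25)) (BT.leaf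 cE26)) (BT.node 28 (BT.node 27 (BT.leaf cE27) (BT.leaf cE28)) (BT.leaf cE29))) (BT.node 32 (BT.node 31 (BT.node 30 (BT.leaf cE30) (BT.leaf cE31)) (BT.leaf cE32)) (BT.node 34 (BT.node 33 (BT.leaf cE33) (BT.leaf cE34)) (BT.leaf cE35)))) (BT.node 41 (BT.node 38 (BT.node 37 (BT.node 36 (BT.leaf cE36) (BT.leaf cE37)) (BT.leaf cE38)) (BT.node 40 (BT.node 39 (BT.leaf cE39) (BT.leaf cE40)) (BT.leaf cE41))) (BT.node 44 (BT.node 43 (BT.node 42 (BT.leaf cE42) (BT.leaf cE43)) (BT.leaf cE44)) (BT.node 45 (BT.leaf cE45) (BT.leaf cE46)))))) (BT.node 70 (BT.node 58 (BT.node 52 (BT.node 49 (BT.node 48 (BT.node 47 (BT.leaf cE47) (BT.leaf cE48)) (BT.leaf cE49)) (BT.node 51 (BT.node 50 (BT.leaf cE50) (BT.leaf cE51)) (BT.leaf cE52))) (BT.node 55 (BT.node 54 (BT.node 53 (BT.leaf cE53) (BT.leaf cE54)) (BT.leaf cE55)) (BT.node 57 (BT.node 56 (BT.leaf cE56) (BT.leaf cE57)) (BT.leaf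 cE58)))) (BT.node 64 (BT.node 61 (BT.node 60 (BT.node 59 (BT.leaf cE59) (BT.leaf cE60)) (BT.leaf cE61)) (BT.node 63 (BT.node 62 (BT.leaf cE62) (BT.leaf cE63)) (BT.leaf cE64))) (BT.node 67 (BT.node 66 (BT.node 65 (BT.leaf cE65) (BT.leaf cE66)) (BT.leaf cE67)) (BT.node 69 (BT.node 68 (BT.leaf cE68) (BT.leaf cE69)) (BT.leaf cE70))))) (BT.node 82 (BT.node 76 (BT.node 73 (BT.node 72 (BT.node 71 (BT.leaf cE71) (BT.leaf cE72)) (BT.leaf cE73)) (BT.node 75 (BT.node 74 (BT.leaf cE74) (BT.leaf cE75)) (BT.leaf cE76))) (BT.node 79 (BT.node 78 (BT.node 77 (BT.leaf cE77) (BT.leaf cE78)) (BT.leaf cE79)) (BT.node 81 (BT.node 80 (BT.leaf cE80) (BT.leaf cE81)) (BT.leaf cE82)))) (BT.node 88 (BT.node 85 (BT.node 84 (BT.node 83 (BT.leaf cE83) (BT.leaf cE84)) (BT.leaf cE85)) (BT.node 87 (BT.node 86 (BT.leaf cE86) (BT.leaf cE87)) (BT.leaf cE88))) (BT.node 91 (BT.node 90 (BT.node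 89 (BT.leaf cE89) (BT.leaf cE90)) (BT.leaf cE91)) (BT.node 92 (BT.leaf cE92) (BT.leaf cE93))))))) (BT.node 140 (BT.node 117 (BT.node 105 (BT.node 99 (BT.node 96 (BT.node 95 (BT.node 94 (BT.leaf cE94) (BT.leaf cE95)) (BT.leaf cE96)) (BT.node 98 (BT.node 97 (BT.leaf cE97) (BT.leaf cE98)) (BT.leaf cE99))) (BT.node 102 (BT.node 101 (BT.node 100 (BT.leaf cE100) (BT.leaf cE101)) (BT.leaf cE102)) (BT.node 104 (BT.node 103 (BT.leaf cE103) (BT.leaf cE104)) (BT.leaf cE105)))) (BT.node 111 (BT.node 108 (BT.node 107 (BT.node 106 (BT.leaf cE106) (BT.leaf cE107)) (BT.leaf cE108)) (BT.node 110 (BT.node 109 (BT.leaf cE109) (BT.leaf cE110)) (BT.leaf cE111))) (BT.node 114 (BT.node 113 (BT.node 112 (BT.leaf cE112) (BT.leaf cE113)) (BT.leaf cE114)) (BT.node 116 (BT.node 115 (BT.leaf cE115) (BT.leaf cE116)) (BT.leaf cE117))))) (BT.node 129 (BT.node 123 (BT.node 120 (BT.node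 119 (BT.node 118 (BT.leaf cE118) (BT.leaf cE119)) (BT.leaf cE120)) (BT.node 122 (BT.node 121 (BT.leaf cE121) (BT.leaf cE122)) (BT.leaf cE123))) (BT.node 126 (BT.node 125 (BT.node 124 (BT.leaf cE124) (BT.leaf cE125)) (BT.leaf cE126)) (BT.node 128 (BT.node 127 (BT.leaf cE127) (BT.leaf cE128)) (BT.leaf cE129)))) (BT.node 135 (BT.node 132 (BT.node 131 (BT.node 130 (BT.leaf cE130) (BT.leaf cE131)) (BT.leaf cE132)) (BT.node 134 (BT.node 133 (BT.leaf cE133) (BT.leaf cE134)) (BT.leaf cE135))) (BT.node 138 (BT.node 137 (BT.node 136 (BT.leaf cE136) (BT.leaf cE137)) (BT.leaf cE138)) (BT.node 139 (BT.leaf cE139) (BT.leaf cE140)))))) (BT.node 164 (BT.node 152 (BT.node 146 (BT.node 143 (BT.node 142 (BT.node 141 (BT.leaf cE141) (BT.leaf cE142)) (BT.leaf cE143)) (BT.node 145 (BT.node 144 (BT.leaf cE144) (BT.leaf cE145)) (BT.leaf cE146))) (BT.node 149 (BT.node 148 (BT.node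 147 (BT.leaf cE147) (BT.leaf cE148)) (BT.leaf cE149)) (BT.node 151 (BT.node 150 (BT.leaf cE150) (BT.leaf cE151)) (BT.leaf cE152)))) (BT.node 158 (BT.node 155 (BT.node 154 (BT.node 153 (BT.leaf cE153) (BT.leaf cE154)) (BT.leaf cE155)) (BT.node 157 (BT.node 156 (BT.leaf cE156) (BT.leaf cE157)) (BT.leaf cE158))) (BT.node 161 (BT.node 160 (BT.node 159 (BT.leaf cE159) (BT.leaf cE160)) (BT.leaf cE161)) (BT.node 163 (BT.node 162 (BT.leaf cE162) (BT.leaf cE163)) (BT.leaf cE164))))) (BT.node 176 (BT.node 170 (BT.node 167 (BT.node 166 (BT.node 165 (BT.leaf cE165) (BT.leaf cE166)) (BT.leaf cE167)) (BT.node 169 (BT.node 168 (BT.leaf cE168) (BT.leaf cE169)) (BT.leaf cE170))) (BT.node 173 (BT.node 172 (BT.node 171 (BT.leaf cE171) (BT.leaf cE172)) (BT.leaf cE173)) (BT.node 175 (BT.node 174 (BT.leaf cE174) (BT.leaf cE175)) (BT.leaf cE176)))) (BT.node 182 (BT.node 179 (BT.node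 178 (BT.node 177 (BT.leaf cE177) (BT.leaf cE178)) (BT.leaf cE179)) (BT.node 181 (BT.node 180 (BT.leaf cE180) (BT.leaf cE181)) (BT.leaf cE182))) (BT.node 185 (BT.node 184 (BT.node 183 (BT.leaf cE183) (BT.leaf cE184)) (BT.leaf cE185)) (BT.node 186 (BT.leaf cE186) (BT.leaf cE187)))))))) (BT.node 281 (BT.node 234 (BT.node 211 (BT.node 199 (BT.node 193 (BT.node 190 (BT.node 189 (BT.node 188 (BT.leaf cE188) (BT.leaf cE189)) (BT.leaf cE190)) (BT.node 192 (BT.node 191 (BT.leaf cE191) (BT.leaf cE192)) (BT.leaf cE193))) (BT.node 196 (BT.node 195 (BT.node 194 (BT.leaf cE194) (BT.leaf cE195)) (BT.leaf cE196)) (BT.node 198 (BT.node 197 (BT.leaf cE197) (BT.leaf cE198)) (BT.leaf cE199)))) (BT.node 205 (BT.node 202 (BT.node 201 (BT.node 200 (BT.leaf cE200) (BT.leaf cE201)) (BT.leaf cE202)) (BT.node 204 (BT.node 203 (BT.leaf cE203) (BT.leaf cE204)) (BT.leaf cE205))) (BT.node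 208 (BT.node 207 (BT.node 206 (BT.leaf cE206) (BT.leaf cE207)) (BT.leaf cE208)) (BT.node 210 (BT.node 209 (BT.leaf cE209) (BT.leaf cE210)) (BT.leaf cE211))))) (BT.node 223 (BT.node 217 (BT.node 214 (BT.node 213 (BT.node 212 (BT.leaf cE212) (BT.leaf cE213)) (BT.leaf cE214)) (BT.node 216 (BT.node 215 (BT.leaf cE215) (BT.leaf cE216)) (BT.leaf cE217))) (BT.node 220 (BT.node 219 (BT.node 218 (BT.leaf cE218) (BT.leaf cE219)) (BT.leaf cE220)) (BT.node 222 (BT.node 221 (BT.leaf cE221) (BT.leaf cE222)) (BT.leaf cE223)))) (BT.node 229 (BT.node 226 (BT.node 225 (BT.node 224 (BT.leaf cE224) (BT.leaf cE225)) (BT.leaf cE226)) (BT.node 228 (BT.node 227 (BT.leaf cE227) (BT.leaf cE228)) (BT.leaf cE229))) (BT.node 232 (BT.node 231 (BT.node 230 (BT.leaf cE230) (BT.leaf cE231)) (BT.leaf cE232)) (BT.node 233 (BT.leaf cE233) (BT.leaf cE234)))))) (BT.node 258 (BT.node 246 (BT.node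 240 (BT.node 237 (BT.node 236 (BT.node 235 (BT.leaf cE235) (BT.leaf cE236)) (BT.leaf cE237)) (BT.node 239 (BT.node 238 (BT.leaf cE238) (BT.leaf cE239)) (BT.leaf cE240))) (BT.node 243 (BT.node 242 (BT.node 241 (BT.leaf cE241) (BT.leaf cE242)) (BT.leaf cE243)) (BT.node 245 (BT.node 244 (BT.leaf cE244) (BT.leaf cE245)) (BT.leaf cE246)))) (BT.node 252 (BT.node 249 (BT.node 248 (BT.node 247 (BT.leaf cE247) (BT.leaf cE248)) (BT.leaf cE249)) (BT.node 251 (BT.node 250 (BT.leaf cE250) (BT.leaf cE251)) (BT.leaf cE252))) (BT.node 255 (BT.node 254 (BT.node 253 (BT.leaf cE253) (BT.leaf cE254)) (BT.leaf cE255)) (BT.node 257 (BT.node 256 (BT.leaf cE256) (BT.leaf cE257)) (BT.leaf cE258))))) (BT.node 270 (BT.node 264 (BT.node 261 (BT.node 260 (BT.node 259 (BT.leaf cE259) (BT.leaf cE260)) (BT.leaf cE261)) (BT.node 263 (BT.node 262 (BT.leaf cE262) (BT.leaf cE263)) (BT.leaf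 cE264))) (BT.node 267 (BT.node 266 (BT.node 265 (BT.leaf cE265) (BT.leaf cE266)) (BT.leaf cE267)) (BT.node 269 (BT.node 268 (BT.leaf cE268) (BT.leaf cE269)) (BT.leaf cE270)))) (BT.node 276 (BT.node 273 (BT.node 272 (BT.node 271 (BT.leaf cE271) (BT.leaf cE272)) (BT.leaf cE273)) (BT.node 275 (BT.node 274 (BT.leaf cE274) (BT.leaf cE275)) (BT.leaf cE276))) (BT.node 279 (BT.node 278 (BT.node 277 (BT.leaf cE277) (BT.leaf cE278)) (BT.leaf cE279)) (BT.node 280 (BT.leaf cE280) (BT.leaf cE281))))))) (BT.node 328 (BT.node 305 (BT.node 293 (BT.node 287 (BT.node 284 (BT.node 283 (BT.node 282 (BT.leaf cE282) (BT.leaf cE283)) (BT.leaf cE284)) (BT.node 286 (BT.node 285 (BT.leaf cE285) (BT.leaf cE286)) (BT.leaf cE287))) (BT.node 290 (BT.node 289 (BT.node 288 (BT.leaf cE288) (BT.leaf cE289)) (BT.leaf cE290)) (BT.node 292 (BT.node 291 (BT.leaf cE291) (BT.leaf cE292)) (BT.leaf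 cE293)))) (BT.node 299 (BT.node 296 (BT.node 295 (BT.node 294 (BT.leaf cE294) (BT.leaf cE295)) (BT.leaf cE296)) (BT.node 298 (BT.node 297 (BT.leaf cE297) (BT.leaf cE298)) (BT.leaf cE299))) (BT.node 302 (BT.node 301 (BT.node 300 (BT.leaf cE300) (BT.leaf cE301)) (BT.leaf cE302)) (BT.node 304 (BT.node 303 (BT.leaf cE303) (BT.leaf cE304)) (BT.leaf cE305))))) (BT.node 317 (BT.node 311 (BT.node 308 (BT.node 307 (BT.node 306 (BT.leaf cE306) (BT.leaf cE307)) (BT.leaf cE308)) (BT.node 310 (BT.node 309 (BT.leaf cE309) (BT.leaf cE310)) (BT.leaf cE311))) (BT.node 314 (BT.node 313 (BT.node 312 (BT.leaf cE312) (BT.leaf cE313)) (BT.leaf cE314)) (BT.node 316 (BT.node 315 (BT.leaf cE315) (BT.leaf cE316)) (BT.leaf cE317)))) (BT.node 323 (BT.node 320 (BT.node 319 (BT.node 318 (BT.leaf cE318) (BT.leaf cE319)) (BT.leaf cE320)) (BT.node 322 (BT.node 321 (BT.leaf cE321) (BT.leaf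 cE322)) (BT.leaf cE323))) (BT.node 326 (BT.node 325 (BT.node 324 (BT.leaf cE324) (BT.leaf cE325)) (BT.leaf cE326)) (BT.node 327 (BT.leaf cE327) (BT.leaf cE328)))))) (BT.node 352 (BT.node 340 (BT.node 334 (BT.node 331 (BT.node 330 (BT.node 329 (BT.leaf cE329) (BT.leaf cE330)) (BT.leaf cE331)) (BT.node 333 (BT.node 332 (BT.leaf cE332) (BT.leaf cE333)) (BT.leaf cE334))) (BT.node 337 (BT.node 336 (BT.node 335 (BT.leaf cE335) (BT.leaf cE336)) (BT.leaf cE337)) (BT.node 339 (BT.node 338 (BT.leaf cE338) (BT.leaf cE339)) (BT.leaf cE340)))) (BT.node 346 (BT.node 343 (BT.node 342 (BT.node 341 (BT.leaf cE341) (BT.leaf cE342)) (BT.leaf cE343)) (BT.node 345 (BT.node 344 (BT.leaf cE344) (BT.leaf cE345)) (BT.leaf cE346))) (BT.node 349 (BT.node 348 (BT.node 347 (BT.leaf cE347) (BT.leaf cE348)) (BT.leaf cE349)) (BT.node 351 (BT.node 350 (BT.leaf cE350) (BT.leaf cE351)) (BT.leaf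 cE352))))) (BT.node 364 (BT.node 358 (BT.node 355 (BT.node 354 (BT.node 353 (BT.leaf cE353) (BT.leaf cE354)) (BT.leaf cE355)) (BT.node 357 (BT.node 356 (BT.leaf cE356) (BT.leaf cE357)) (BT.leaf cE358))) (BT.node 361 (BT.node 360 (BT.node 359 (BT.leaf cE359) (BT.leaf cE360)) (BT.leaf cE361)) (BT.node 363 (BT.node 362 (BT.leaf cE362) (BT.leaf cE363)) (BT.leaf cE364)))) (BT.node 370 (BT.node 367 (BT.node 366 (BT.node 365 (BT.leaf cE365) (BT.leaf cE366)) (BT.leaf cE367)) (BT.node 369 (BT.node 368 (BT.leaf cE368) (BT.leaf cE369)) (BT.leaf cE370))) (BT.node 373 (BT.node 372 (BT.node 371 (BT.leaf cE371) (BT.leaf cE372)) (BT.leaf cE373)) (BT.node 374 (BT.leaf cE374) (BT.leaf cE375))))))))) (BT.node 563 (BT.node 469 (BT.node 422 (BT.node 399 (BT.node 387 (BT.node 381 (BT.node 378 (BT.node 377 (BT.node 376 (BT.leaf cE376) (BT.leaf cE377)) (BT.leaf cE378)) (BT.node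 380 (BT.node 379 (BT.leaf cE379) (BT.leaf cE380)) (BT.leaf cE381))) (BT.node 384 (BT.node 383 (BT.node 382 (BT.leaf cE382) (BT.leaf cE383)) (BT.leaf cE384)) (BT.node 386 (BT.node 385 (BT.leaf cE385) (BT.leaf cE386)) (BT.leaf cE387)))) (BT.node 393 (BT.node 390 (BT.node 389 (BT.node 388 (BT.leaf cE388) (BT.leaf cE389)) (BT.leaf cE390)) (BT.node 392 (BT.node 391 (BT.leaf cE391) (BT.leaf cE392)) (BT.leaf cE393))) (BT.node 396 (BT.node 395 (BT.node 394 (BT.leaf cE394) (BT.leaf cE395)) (BT.leaf cE396)) (BT.node 398 (BT.node 397 (BT.leaf cE397) (BT.leaf cE398)) (BT.leaf cE399))))) (BT.node 411 (BT.node 405 (BT.node 402 (BT.node 401 (BT.node 400 (BT.leaf cE400) (BT.leaf cE401)) (BT.leaf cE402)) (BT.node 404 (BT.node 403 (BT.leaf cE403) (BT.leaf cE404)) (BT.leaf cE405))) (BT.node 408 (BT.node 407 (BT.node 406 (BT.leaf cE406) (BT.leaf cE407)) (BT.leaf cE408)) (BT.node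 410 (BT.node 409 (BT.leaf cE409) (BT.leaf cE410)) (BT.leaf cE411)))) (BT.node 417 (BT.node 414 (BT.node 413 (BT.node 412 (BT.leaf cE412) (BT.leaf cE413)) (BT.leaf cE414)) (BT.node 416 (BT.node 415 (BT.leaf cE415) (BT.leaf cE416)) (BT.leaf cE417))) (BT.node 420 (BT.node 419 (BT.node 418 (BT.leaf cE418) (BT.leaf cE419)) (BT.leaf cE420)) (BT.node 421 (BT.leaf cE421) (BT.leaf cE422)))))) (BT.node 446 (BT.node 434 (BT.node 428 (BT.node 425 (BT.node 424 (BT.node 423 (BT.leaf cE423) (BT.leaf cE424)) (BT.leaf cE425)) (BT.node 427 (BT.node 426 (BT.leaf cE426) (BT.leaf cE427)) (BT.leaf cE428))) (BT.node 431 (BT.node 430 (BT.node 429 (BT.leaf cE429) (BT.leaf cE430)) (BT.leaf cE431)) (BT.node 433 (BT.node 432 (BT.leaf cE432) (BT.leaf cE433)) (BT.leaf cE434)))) (BT.node 440 (BT.node 437 (BT.node 436 (BT.node 435 (BT.leaf cE435) (BT.leaf cE436)) (BT.leaf cE437)) (BT.node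 439 (BT.node 438 (BT.leaf cE438) (BT.leaf cE439)) (BT.leaf cE440))) (BT.node 443 (BT.node 442 (BT.node 441 (BT.leaf cE441) (BT.leaf cE442)) (BT.leaf cE443)) (BT.node 445 (BT.node 444 (BT.leaf cE444) (BT.leaf cE445)) (BT.leaf cE446))))) (BT.node 458 (BT.node 452 (BT.node 449 (BT.node 448 (BT.node 447 (BT.leaf cE447) (BT.leaf cE448)) (BT.leaf cE449)) (BT.node 451 (BT.node 450 (BT.leaf cE450) (BT.leaf cE451)) (BT.leaf cE452))) (BT.node 455 (BT.node 454 (BT.node 453 (BT.leaf cE453) (BT.leaf cE454)) (BT.leaf cE455)) (BT.node 457 (BT.node 456 (BT.leaf cE456) (BT.leaf cE457)) (BT.leaf cE458)))) (BT.node 464 (BT.node 461 (BT.node 460 (BT.node 459 (BT.leaf cE459) (BT.leaf cE460)) (BT.leaf cE461)) (BT.node 463 (BT.node 462 (BT.leaf cE462) (BT.leaf cE463)) (BT.leaf cE464))) (BT.node 467 (BT.node 466 (BT.node 465 (BT.leaf cE465) (BT.leaf cE466)) (BT.leaf cE467)) (BT.node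 468 (BT.leaf cE468) (BT.leaf cE469))))))) (BT.node 516 (BT.node 493 (BT.node 481 (BT.node 475 (BT.node 472 (BT.node 471 (BT.node 470 (BT.leaf cE470) (BT.leaf cE471)) (BT.leaf cE472)) (BT.node 474 (BT.node 473 (BT.leaf cE473) (BT.leaf cE474)) (BT.leaf cE475))) (BT.node 478 (BT.node 477 (BT.node 476 (BT.leaf cE476) (BT.leaf cE477)) (BT.leaf cE478)) (BT.node 480 (BT.node 479 (BT.leaf cE479) (BT.leaf cE480)) (BT.leaf cE481)))) (BT.node 487 (BT.node 484 (BT.node 483 (BT.node 482 (BT.leaf cE482) (BT.leaf cE483)) (BT.leaf cE484)) (BT.node 486 (BT.node 485 (BT.leaf cE485) (BT.leaf cE486)) (BT.leaf cE487))) (BT.node 490 (BT.node 489 (BT.node 488 (BT.leaf cE488) (BT.leaf cE489)) (BT.leaf cE490)) (BT.node 492 (BT.node 491 (BT.leaf cE491) (BT.leaf cE492)) (BT.leaf cE493))))) (BT.node 505 (BT.node 499 (BT.node 496 (BT.node 495 (BT.node 494 (BT.leaf cE494) (BT.leaf cE495))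 (BT.leaf cE496)) (BT.node 498 (BT.node 497 (BT.leaf cE497) (BT.leaf cE498)) (BT.leaf cE499))) (BT.node 502 (BT.node 501 (BT.node 500 (BT.leaf cE500) (BT.leaf cE501)) (BT.leaf cE502)) (BT.node 504 (BT.node 503 (BT.leaf cE503) (BT.leaf cE504)) (BT.leaf cE505)))) (BT.node 511 (BT.node 508 (BT.node 507 (BT.node 506 (BT.leaf cE506) (BT.leaf cE507)) (BT.leaf cE508)) (BT.node 510 (BT.node 509 (BT.leaf cE509) (BT.leaf cE510)) (BT.leaf cE511))) (BT.node 514 (BT.node 513 (BT.node 512 (BT.leaf cE512) (BT.leaf cE513)) (BT.leaf cE514)) (BT.node 515 (BT.leaf cE515) (BT.leaf cE516)))))) (BT.node 540 (BT.node 528 (BT.node 522 (BT.node 519 (BT.node 518 (BT.node 517 (BT.leaf cE517) (BT.leaf cE518)) (BT.leaf cE519)) (BT.node 521 (BT.node 520 (BT.leaf cE520) (BT.leaf cE521)) (BT.leaf cE522))) (BT.node 525 (BT.node 524 (BT.node 523 (BT.leaf cE523) (BT.leaf cE524)) (BT.leaf cE525))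 (BT.node 527 (BT.node 526 (BT.leaf cE526) (BT.leaf cE527)) (BT.leaf cE528)))) (BT.node 534 (BT.node 531 (BT.node 530 (BT.node 529 (BT.leaf cE529) (BT.leaf cE530)) (BT.leaf cE531)) (BT.node 533 (BT.node 532 (BT.leaf cE532) (BT.leaf cE533)) (BT.leaf cE534))) (BT.node 537 (BT.node 536 (BT.node 535 (BT.leaf cE535) (BT.leaf cE536)) (BT.leaf cE537)) (BT.node 539 (BT.node 538 (BT.leaf cE538) (BT.leaf cE539)) (BT.leaf cE540))))) (BT.node 552 (BT.node 546 (BT.node 543 (BT.node 542 (BT.node 541 (BT.leaf cE541) (BT.leaf cE542)) (BT.leaf cE543)) (BT.node 545 (BT.node 544 (BT.leaf cE544) (BT.leaf cE545)) (BT.leaf cE546))) (BT.node 549 (BT.node 548 (BT.node 547 (BT.leaf cE547) (BT.leaf cE548)) (BT.leaf cE549)) (BT.node 551 (BT.node 550 (BT.leaf cE550) (BT.leaf cE551)) (BT.leaf cE552)))) (BT.node 558 (BT.node 555 (BT.node 554 (BT.node 553 (BT.leaf cE553) (BT.leaf cE554))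 (BT.leaf cE555)) (BT.node 557 (BT.node 556 (BT.leaf cE556) (BT.leaf cE557)) (BT.leaf cE558))) (BT.node 561 (BT.node 560 (BT.node 559 (BT.leaf cE559) (BT.leaf cE560)) (BT.leaf cE561)) (BT.node 562 (BT.leaf cE562) (BT.leaf cE563)))))))) (BT.node 657 (BT.node 610 (BT.node 587 (BT.node 575 (BT.node 569 (BT.node 566 (BT.node 565 (BT.node 564 (BT.leaf cE564) (BT.leaf cE565)) (BT.leaf cE566)) (BT.node 568 (BT.node 567 (BT.leaf cE567) (BT.leaf cE568)) (BT.leaf cE569))) (BT.node 572 (BT.node 571 (BT.node 570 (BT.leaf cE570) (BT.leaf cE571)) (BT.leaf cE572)) (BT.node 574 (BT.node 573 (BT.leaf cE573) (BT.leaf cE574)) (BT.leaf cE575)))) (BT.node 581 (BT.node 578 (BT.node 577 (BT.node 576 (BT.leaf cE576) (BT.leaf cE577)) (BT.leaf cE578)) (BT.node 580 (BT.node 579 (BT.leaf cE579) (BT.leaf cE580)) (BT.leaf cE581))) (BT.node 584 (BT.node 583 (BT.node 582 (BT.leaf cE582)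 (BT.leaf cE583)) (BT.leaf cE584)) (BT.node 586 (BT.node 585 (BT.leaf cE585) (BT.leaf cE586)) (BT.leaf cE587))))) (BT.node 599 (BT.node 593 (BT.node 590 (BT.node 589 (BT.node 588 (BT.leaf cE588) (BT.leaf cE589)) (BT.leaf cE590)) (BT.node 592 (BT.node 591 (BT.leaf cE591) (BT.leaf cE592)) (BT.leaf cE593))) (BT.node 596 (BT.node 595 (BT.node 594 (BT.leaf cE594) (BT.leaf cE595)) (BT.leaf cE596)) (BT.node 598 (BT.node 597 (BT.leaf cE597) (BT.leaf cE598)) (BT.leaf cE599)))) (BT.node 605 (BT.node 602 (BT.node 601 (BT.node 600 (BT.leaf cE600) (BT.leaf cE601)) (BT.leaf cE602)) (BT.node 604 (BT.node 603 (BT.leaf cE603) (BT.leaf cE604)) (BT.leaf cE605))) (BT.node 608 (BT.node 607 (BT.node 606 (BT.leaf cE606) (BT.leaf cE607)) (BT.leaf cE608)) (BT.node 609 (BT.leaf cE609) (BT.leaf cE610)))))) (BT.node 634 (BT.node 622 (BT.node 616 (BT.node 613 (BT.node 612 (BT.node 611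 (BT.leaf cE611) (BT.leaf cE612)) (BT.leaf cE613)) (BT.node 615 (BT.node 614 (BT.leaf cE614) (BT.leaf cE615)) (BT.leaf cE616))) (BT.node 619 (BT.node 618 (BT.node 617 (BT.leaf cE617) (BT.leaf cE618)) (BT.leaf cE619)) (BT.node 621 (BT.node 620 (BT.leaf cE620) (BT.leaf cE621)) (BT.leaf cE622)))) (BT.node 628 (BT.node 625 (BT.node 624 (BT.node 623 (BT.leaf cE623) (BT.leaf cE624)) (BT.leaf cE625)) (BT.node 627 (BT.node 626 (BT.leaf cE626) (BT.leaf cE627)) (BT.leaf cE628))) (BT.node 631 (BT.node 630 (BT.node 629 (BT.leaf cE629) (BT.leaf cE630)) (BT.leaf cE631)) (BT.node 633 (BT.node 632 (BT.leaf cE632) (BT.leaf cE633)) (BT.leaf cE634))))) (BT.node 646 (BT.node 640 (BT.node 637 (BT.node 636 (BT.node 635 (BT.leaf cE635) (BT.leaf cE636)) (BT.leaf cE637)) (BT.node 639 (BT.node 638 (BT.leaf cE638) (BT.leaf cE639)) (BT.leaf cE640))) (BT.node 643 (BT.node 642 (BT.node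 641 (BT.leaf cE641) (BT.leaf cE642)) (BT.leaf cE643)) (BT.node 645 (BT.node 644 (BT.leaf cE644) (BT.leaf cE645)) (BT.leaf cE646)))) (BT.node 652 (BT.node 649 (BT.node 648 (BT.node 647 (BT.leaf cE647) (BT.leaf cE648)) (BT.leaf cE649)) (BT.node 651 (BT.node 650 (BT.leaf cE650) (BT.leaf cE651)) (BT.leaf cE652))) (BT.node 655 (BT.node 654 (BT.node 653 (BT.leaf cE653) (BT.leaf cE654)) (BT.leaf cE655)) (BT.node 656 (BT.leaf cE656) (BT.leaf cE657))))))) (BT.node 704 (BT.node 681 (BT.node 669 (BT.node 663 (BT.node 660 (BT.node 659 (BT.node 658 (BT.leaf cE658) (BT.leaf cE659)) (BT.leaf cE660)) (BT.node 662 (BT.node 661 (BT.leaf cE661) (BT.leaf cE662)) (BT.leaf cE663))) (BT.node 666 (BT.node 665 (BT.node 664 (BT.leaf cE664) (BT.leaf cE665)) (BT.leaf cE666)) (BT.node 668 (BT.node 667 (BT.leaf cE667) (BT.leaf cE668)) (BT.leaf cE669)))) (BT.node 675 (BT.node 672 (BT.node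 671 (BT.node 670 (BT.leaf cE670) (BT.leaf cE671)) (BT.leaf cE672)) (BT.node 674 (BT.node 673 (BT.leaf cE673) (BT.leaf cE674)) (BT.leaf cE675))) (BT.node 678 (BT.node 677 (BT.node 676 (BT.leaf cE676) (BT.leaf cE677)) (BT.leaf cE678)) (BT.node 680 (BT.node 679 (BT.leaf cE679) (BT.leaf cE680)) (BT.leaf cE681))))) (BT.node 693 (BT.node 687 (BT.node 684 (BT.node 683 (BT.node 682 (BT.leaf cE682) (BT.leaf cE683)) (BT.leaf cE684)) (BT.node 686 (BT.node 685 (BT.leaf cE685) (BT.leaf cE686)) (BT.leaf cE687))) (BT.node 690 (BT.node 689 (BT.node 688 (BT.leaf cE688) (BT.leaf cE689)) (BT.leaf cE690)) (BT.node 692 (BT.node 691 (BT.leaf cE691) (BT.leaf cE692)) (BT.leaf cE693)))) (BT.node 699 (BT.node 696 (BT.node 695 (BT.node 694 (BT.leaf cE694) (BT.leaf cE695)) (BT.leaf cE696)) (BT.node 698 (BT.node 697 (BT.leaf cE697) (BT.leaf cE698)) (BT.leaf cE699))) (BT.node 702 (BT.node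 701 (BT.node 700 (BT.leaf cE700) (BT.leaf cE701)) (BT.leaf cE702)) (BT.node 703 (BT.leaf cE703) (BT.leaf cE704)))))) (BT.node 727 (BT.node 716 (BT.node 710 (BT.node 707 (BT.node 706 (BT.node 705 (BT.leaf cE705) (BT.leaf cE706)) (BT.leaf cE707)) (BT.node 709 (BT.node 708 (BT.leaf cE708) (BT.leaf cE709)) (BT.leaf cE710))) (BT.node 713 (BT.node 712 (BT.node 711 (BT.leaf cE711) (BT.leaf cE712)) (BT.leaf cE713)) (BT.node 715 (BT.node 714 (BT.leaf cE714) (BT.leaf cE715)) (BT.leaf cE716)))) (BT.node 722 (BT.node 719 (BT.node 718 (BT.node 717 (BT.leaf cE717) (BT.leaf cE718)) (BT.leaf cE719)) (BT.node 721 (BT.node 720 (BT.leaf cE720) (BT.leaf cE721)) (BT.leaf cE722))) (BT.node 725 (BT.node 724 (BT.node 723 (BT.leaf cE723) (BT.leaf cE724)) (BT.leaf cE725)) (BT.node 726 (BT.leaf cE726) (BT.leaf cE727))))) (BT.node 739 (BT.node 733 (BT.node 730 (BT.node 729 (BT.node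 728 (BT.leaf cE728) (BT.leaf cE729)) (BT.leaf cE730)) (BT.node 732 (BT.node 731 (BT.leaf cE731) (BT.leaf cE732)) (BT.leaf cE733))) (BT.node 736 (BT.node 735 (BT.node 734 (BT.leaf cE734) (BT.leaf cE735)) (BT.leaf cE736)) (BT.node 738 (BT.node 737 (BT.leaf cE737) (BT.leaf cE738)) (BT.leaf cE739)))) (BT.node 745 (BT.node 742 (BT.node 741 (BT.node 740 (BT.leaf cE740) (BT.leaf cE741)) (BT.leaf cE742)) (BT.node 744 (BT.node 743 (BT.leaf cE743) (BT.leaf cE744)) (BT.leaf cE745))) (BT.node 748 (BT.node 747 (BT.node 746 (BT.leaf cE746) (BT.leaf cE747)) (BT.leaf cE748)) (BT.node 749 (BT.leaf cE749) (BT.leaf cE750)))))))))) (BT.node 1125 (BT.node 938 (BT.node 844 (BT.node 797 (BT.node 774 (BT.node 762 (BT.node 756 (BT.node 753 (BT.node 752 (BT.node 751 (BT.leaf cE751) (BT.leaf cE752)) (BT.leaf cE753)) (BT.node 755 (BT.node 754 (BT.leaf cE754) (BT.leaf cE755)) (BT.leaf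 cE756))) (BT.node 759 (BT.node 758 (BT.node 757 (BT.leaf cE757) (BT.leaf cE758)) (BT.leaf cE759)) (BT.node 761 (BT.node 760 (BT.leaf cE760) (BT.leaf cE761)) (BT.leaf cE762)))) (BT.node 768 (BT.node 765 (BT.node 764 (BT.node 763 (BT.leaf cE763) (BT.leaf cE764)) (BT.leaf cE765)) (BT.node 767 (BT.node 766 (BT.leaf cE766) (BT.leaf cE767)) (BT.leaf cE768))) (BT.node 771 (BT.node 770 (BT.node 769 (BT.leaf cE769) (BT.leaf cE770)) (BT.leaf cE771)) (BT.node 773 (BT.node 772 (BT.leaf cE772) (BT.leaf cE773)) (BT.leaf cE774))))) (BT.node 786 (BT.node 780 (BT.node 777 (BT.node 776 (BT.node 775 (BT.leaf cE775) (BT.leaf cE776)) (BT.leaf cE777)) (BT.node 779 (BT.node 778 (BT.leaf cE778) (BT.leaf cE779)) (BT.leaf cE780))) (BT.node 783 (BT.node 782 (BT.node 781 (BT.leaf cE781) (BT.leaf cE782)) (BT.leaf cE783)) (BT.node 785 (BT.node 784 (BT.leaf cE784) (BT.leaf cE785)) (BT.leaf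 cE786)))) (BT.node 792 (BT.node 789 (BT.node 788 (BT.node 787 (BT.leaf cE787) (BT.leaf cE788)) (BT.leaf cE789)) (BT.node 791 (BT.node 790 (BT.leaf cE790) (BT.leaf cE791)) (BT.leaf cE792))) (BT.node 795 (BT.node 794 (BT.node 793 (BT.leaf cE793) (BT.leaf cE794)) (BT.leaf cE795)) (BT.node 796 (BT.leaf cE796) (BT.leaf cE797)))))) (BT.node 821 (BT.node 809 (BT.node 803 (BT.node 800 (BT.node 799 (BT.node 798 (BT.leaf cE798) (BT.leaf cE799)) (BT.leaf cE800)) (BT.node 802 (BT.node 801 (BT.leaf cE801) (BT.leaf cE802)) (BT.leaf cE803))) (BT.node 806 (BT.node 805 (BT.node 804 (BT.leaf cE804) (BT.leaf cE805)) (BT.leaf cE806)) (BT.node 808 (BT.node 807 (BT.leaf cE807) (BT.leaf cE808)) (BT.leaf cE809)))) (BT.node 815 (BT.node 812 (BT.node 811 (BT.node 810 (BT.leaf cE810) (BT.leaf cE811)) (BT.leaf cE812)) (BT.node 814 (BT.node 813 (BT.leaf cE813) (BT.leaf cE814)) (BT.leaf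 cE815))) (BT.node 818 (BT.node 817 (BT.node 816 (BT.leaf cE816) (BT.leaf cE817)) (BT.leaf cE818)) (BT.node 820 (BT.node 819 (BT.leaf cE819) (BT.leaf cE820)) (BT.leaf cE821))))) (BT.node 833 (BT.node 827 (BT.node 824 (BT.node 823 (BT.node 822 (BT.leaf cE822) (BT.leaf cE823)) (BT.leaf cE824)) (BT.node 826 (BT.node 825 (BT.leaf cE825) (BT.leaf cE826)) (BT.leaf cE827))) (BT.node 830 (BT.node 829 (BT.node 828 (BT.leaf cE828) (BT.leaf cE829)) (BT.leaf cE830)) (BT.node 832 (BT.node 831 (BT.leaf cE831) (BT.leaf cE832)) (BT.leaf cE833)))) (BT.node 839 (BT.node 836 (BT.node 835 (BT.node 834 (BT.leaf cE834) (BT.leaf cE835)) (BT.leaf cE836)) (BT.node 838 (BT.node 837 (BT.leaf cE837) (BT.leaf cE838)) (BT.leaf cE839))) (BT.node 842 (BT.node 841 (BT.node 840 (BT.leaf cE840) (BT.leaf cE841)) (BT.leaf cE842)) (BT.node 843 (BT.leaf cE843) (BT.leaf cE844))))))) (BT.node 891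 (BT.node 868 (BT.node 856 (BT.node 850 (BT.node 847 (BT.node 846 (BT.node 845 (BT.leaf cE845) (BT.leaf cE846)) (BT.leaf cE847)) (BT.node 849 (BT.node 848 (BT.leaf cE848) (BT.leaf cE849)) (BT.leaf cE850))) (BT.node 853 (BT.node 852 (BT.node 851 (BT.leaf cE851) (BT.leaf cE852)) (BT.leaf cE853)) (BT.node 855 (BT.node 854 (BT.leaf cE854) (BT.leaf cE855)) (BT.leaf cE856)))) (BT.node 862 (BT.node 859 (BT.node 858 (BT.node 857 (BT.leaf cE857) (BT.leaf cE858)) (BT.leaf cE859)) (BT.node 861 (BT.node 860 (BT.leaf cE860) (BT.leaf cE861)) (BT.leaf cE862))) (BT.node 865 (BT.node 864 (BT.node 863 (BT.leaf cE863) (BT.leaf cE864)) (BT.leaf cE865)) (BT.node 867 (BT.node 866 (BT.leaf cE866) (BT.leaf cE867)) (BT.leaf cE868))))) (BT.node 880 (BT.node 874 (BT.node 871 (BT.node 870 (BT.node 869 (BT.leaf cE869) (BT.leaf cE870)) (BT.leaf cE871)) (BT.node 873 (BT.node 872 (BT.leaf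 cE872) (BT.leaf cE873)) (BT.leaf cE874))) (BT.node 877 (BT.node 876 (BT.node 875 (BT.leaf cE875) (BT.leaf cE876)) (BT.leaf cE877)) (BT.node 879 (BT.node 878 (BT.leaf cE878) (BT.leaf cE879)) (BT.leaf cE880)))) (BT.node 886 (BT.node 883 (BT.node 882 (BT.node 881 (BT.leaf cE881) (BT.leaf cE882)) (BT.leaf cE883)) (BT.node 885 (BT.node 884 (BT.leaf cE884) (BT.leaf cE885)) (BT.leaf cE886))) (BT.node 889 (BT.node 888 (BT.node 887 (BT.leaf cE887) (BT.leaf cE888)) (BT.leaf cE889)) (BT.node 890 (BT.leaf cE890) (BT.leaf cE891)))))) (BT.node 915 (BT.node 903 (BT.node 897 (BT.node 894 (BT.node 893 (BT.node 892 (BT.leaf cE892) (BT.leaf cE893)) (BT.leaf cE894)) (BT.node 896 (BT.node 895 (BT.leaf cE895) (BT.leaf cE896)) (BT.leaf cE897))) (BT.node 900 (BT.node 899 (BT.node 898 (BT.leaf cE898) (BT.leaf cE899)) (BT.leaf cE900)) (BT.node 902 (BT.node 901 (BT.leaf cE901) (BT.leaf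 cE902)) (BT.leaf cE903)))) (BT.node 909 (BT.node 906 (BT.node 905 (BT.node 904 (BT.leaf cE904) (BT.leaf cE905)) (BT.leaf cE906)) (BT.node 908 (BT.node 907 (BT.leaf cE907) (BT.leaf cE908)) (BT.leaf cE909))) (BT.node 912 (BT.node 911 (BT.node 910 (BT.leaf cE910) (BT.leaf cE911)) (BT.leaf cE912)) (BT.node 914 (BT.node 913 (BT.leaf cE913) (BT.leaf cE914)) (BT.leaf cE915))))) (BT.node 927 (BT.node 921 (BT.node 918 (BT.node 917 (BT.node 916 (BT.leaf cE916) (BT.leaf cE917)) (BT.leaf cE918)) (BT.node 920 (BT.node 919 (BT.leaf cE919) (BT.leaf cE920)) (BT.leaf cE921))) (BT.node 924 (BT.node 923 (BT.node 922 (BT.leaf cE922) (BT.leaf cE923)) (BT.leaf cE924)) (BT.node 926 (BT.node 925 (BT.leaf cE925) (BT.leaf cE926)) (BT.leaf cE927)))) (BT.node 933 (BT.node 930 (BT.node 929 (BT.node 928 (BT.leaf cE928) (BT.leaf cE929)) (BT.leaf cE930)) (BT.node 932 (BT.node 931 (BT.leaf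 cE931) (BT.leaf cE932)) (BT.leaf cE933))) (BT.node 936 (BT.node 935 (BT.node 934 (BT.leaf cE934) (BT.leaf cE935)) (BT.leaf cE936)) (BT.node 937 (BT.leaf cE937) (BT.leaf cE938)))))))) (BT.node 1032 (BT.node 985 (BT.node 962 (BT.node 950 (BT.node 944 (BT.node 941 (BT.node 940 (BT.node 939 (BT.leaf cE939) (BT.leaf cE940)) (BT.leaf cE941)) (BT.node 943 (BT.node 942 (BT.leaf cE942) (BT.leaf cE943)) (BT.leaf cE944))) (BT.node 947 (BT.node 946 (BT.node 945 (BT.leaf cE945) (BT.leaf cE946)) (BT.leaf cE947)) (BT.node 949 (BT.node 948 (BT.leaf cE948) (BT.leaf cE949)) (BT.leaf cE950)))) (BT.node 956 (BT.node 953 (BT.node 952 (BT.node 951 (BT.leaf cE951) (BT.leaf cE952)) (BT.leaf cE953)) (BT.node 955 (BT.node 954 (BT.leaf cE954) (BT.leaf cE955)) (BT.leaf cE956))) (BT.node 959 (BT.node 958 (BT.node 957 (BT.leaf cE957) (BT.leaf cE958)) (BT.leaf cE959)) (BT.node 961 (BT.node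 960 (BT.leaf cE960) (BT.leaf cE961)) (BT.leaf cE962))))) (BT.node 974 (BT.node 968 (BT.node 965 (BT.node 964 (BT.node 963 (BT.leaf cE963) (BT.leaf cE964)) (BT.leaf cE965)) (BT.node 967 (BT.node 966 (BT.leaf cE966) (BT.leaf cE967)) (BT.leaf cE968))) (BT.node 971 (BT.node 970 (BT.node 969 (BT.leaf cE969) (BT.leaf cE970)) (BT.leaf cE971)) (BT.node 973 (BT.node 972 (BT.leaf cE972) (BT.leaf cE973)) (BT.leaf cE974)))) (BT.node 980 (BT.node 977 (BT.node 976 (BT.node 975 (BT.leaf cE975) (BT.leaf cE976)) (BT.leaf cE977)) (BT.node 979 (BT.node 978 (BT.leaf cE978) (BT.leaf cE979)) (BT.leaf cE980))) (BT.node 983 (BT.node 982 (BT.node 981 (BT.leaf cE981) (BT.leaf cE982)) (BT.leaf cE983)) (BT.node 984 (BT.leaf cE984) (BT.leaf cE985)))))) (BT.node 1009 (BT.node 997 (BT.node 991 (BT.node 988 (BT.node 987 (BT.node 986 (BT.leaf cE986) (BT.leaf cE987)) (BT.leaf cE988)) (BT.node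 990 (BT.node 989 (BT.leaf cE989) (BT.leaf cE990)) (BT.leaf cE991))) (BT.node 994 (BT.node 993 (BT.node 992 (BT.leaf cE992) (BT.leaf cE993)) (BT.leaf cE994)) (BT.node 996 (BT.node 995 (BT.leaf cE995) (BT.leaf cE996)) (BT.leaf cE997)))) (BT.node 1003 (BT.node 1000 (BT.node 999 (BT.node 998 (BT.leaf cE998) (BT.leaf cE999)) (BT.leaf cE1000)) (BT.node 1002 (BT.node 1001 (BT.leaf cE1001) (BT.leaf cE1002)) (BT.leaf cE1003))) (BT.node 1006 (BT.node 1005 (BT.node 1004 (BT.leaf cE1004) (BT.leaf cE1005)) (BT.leaf cE1006)) (BT.node 1008 (BT.node 1007 (BT.leaf cE1007) (BT.leaf cE1008)) (BT.leaf cE1009))))) (BT.node 1021 (BT.node 1015 (BT.node 1012 (BT.node 1011 (BT.node 1010 (BT.leaf cE1010) (BT.leaf cE1011)) (BT.leaf cE1012)) (BT.node 1014 (BT.node 1013 (BT.leaf cE1013) (BT.leaf cE1014)) (BT.leaf cE1015))) (BT.node 1018 (BT.node 1017 (BT.node 1016 (BT.leaf cE1016) (BT.leaf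 cE1017)) (BT.leaf cE1018)) (BT.node 1020 (BT.node 1019 (BT.leaf cE1019) (BT.leaf cE1020)) (BT.leaf cE1021)))) (BT.node 1027 (BT.node 1024 (BT.node 1023 (BT.node 1022 (BT.leaf cE1022) (BT.leaf cE1023)) (BT.leaf cE1024)) (BT.node 1026 (BT.node 1025 (BT.leaf cE1025) (BT.leaf cE1026)) (BT.leaf cE1027))) (BT.node 1030 (BT.node 1029 (BT.node 1028 (BT.leaf cE1028) (BT.leaf cE1029)) (BT.leaf cE1030)) (BT.node 1031 (BT.leaf cE1031) (BT.leaf cE1032))))))) (BT.node 1079 (BT.node 1056 (BT.node 1044 (BT.node 1038 (BT.node 1035 (BT.node 1034 (BT.node 1033 (BT.leaf cE1033) (BT.leaf cE1034)) (BT.leaf cE1035)) (BT.node 1037 (BT.node 1036 (BT.leaf cE1036) (BT.leaf cE1037)) (BT.leaf cE1038))) (BT.node 1041 (BT.node 1040 (BT.node 1039 (BT.leaf cE1039) (BT.leaf cE1040)) (BT.leaf cE1041)) (BT.node 1043 (BT.node 1042 (BT.leaf cE1042) (BT.leaf cE1043)) (BT.leaf cE1044)))) (BT.node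 1050 (BT.node 1047 (BT.node 1046 (BT.node 1045 (BT.leaf cE1045) (BT.leaf cE1046)) (BT.leaf cE1047)) (BT.node 1049 (BT.node 1048 (BT.leaf cE1048) (BT.leaf cE1049)) (BT.leaf cE1050))) (BT.node 1053 (BT.node 1052 (BT.node 1051 (BT.leaf cE1051) (BT.leaf cE1052)) (BT.leaf cE1053)) (BT.node 1055 (BT.node 1054 (BT.leaf cE1054) (BT.leaf cE1055)) (BT.leaf cE1056))))) (BT.node 1068 (BT.node 1062 (BT.node 1059 (BT.node 1058 (BT.node 1057 (BT.leaf cE1057) (BT.leaf cE1058)) (BT.leaf cE1059)) (BT.node 1061 (BT.node 1060 (BT.leaf cE1060) (BT.leaf cE1061)) (BT.leaf cE1062))) (BT.node 1065 (BT.node 1064 (BT.node 1063 (BT.leaf cE1063) (BT.leaf cE1064)) (BT.leaf cE1065)) (BT.node 1067 (BT.node 1066 (BT.leaf cE1066) (BT.leaf cE1067)) (BT.leaf cE1068)))) (BT.node 1074 (BT.node 1071 (BT.node 1070 (BT.node 1069 (BT.leaf cE1069) (BT.leaf cE1070)) (BT.leaf cE1071)) (BT.node 1073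 (BT.node 1072 (BT.leaf cE1072) (BT.leaf cE1073)) (BT.leaf cE1074))) (BT.node 1077 (BT.node 1076 (BT.node 1075 (BT.leaf cE1075) (BT.leaf cE1076)) (BT.leaf cE1077)) (BT.node 1078 (BT.leaf cE1078) (BT.leaf cE1079)))))) (BT.node 1102 (BT.node 1091 (BT.node 1085 (BT.node 1082 (BT.node 1081 (BT.node 1080 (BT.leaf cE1080) (BT.leaf cE1081)) (BT.leaf cE1082)) (BT.node 1084 (BT.node 1083 (BT.leaf cE1083) (BT.leaf cE1084)) (BT.leaf cE1085))) (BT.node 1088 (BT.node 1087 (BT.node 1086 (BT.leaf cE1086) (BT.leaf cE1087)) (BT.leaf cE1088)) (BT.node 1090 (BT.node 1089 (BT.leaf cE1089) (BT.leaf cE1090)) (BT.leaf cE1091)))) (BT.node 1097 (BT.node 1094 (BT.node 1093 (BT.node 1092 (BT.leaf cE1092) (BT.leaf cE1093)) (BT.leaf cE1094)) (BT.node 1096 (BT.node 1095 (BT.leaf cE1095) (BT.leaf cE1096)) (BT.leaf cE1097))) (BT.node 1100 (BT.node 1099 (BT.node 1098 (BT.leaf cE1098) (BT.leaf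 cE1099)) (BT.leaf cE1100)) (BT.node 1101 (BT.leaf cE1101) (BT.leaf cE1102))))) (BT.node 1114 (BT.node 1108 (BT.node 1105 (BT.node 1104 (BT.node 1103 (BT.leaf cE1103) (BT.leaf cE1104)) (BT.leaf cE1105)) (BT.node 1107 (BT.node 1106 (BT.leaf cE1106) (BT.leaf cE1107)) (BT.leaf cE1108))) (BT.node 1111 (BT.node 1110 (BT.node 1109 (BT.leaf cE1109) (BT.leaf cE1110)) (BT.leaf cE1111)) (BT.node 1113 (BT.node 1112 (BT.leaf cE1112) (BT.leaf cE1113)) (BT.leaf cE1114)))) (BT.node 1120 (BT.node 1117 (BT.node 1116 (BT.node 1115 (BT.leaf cE1115) (BT.leaf cE1116)) (BT.leaf cE1117)) (BT.node 1119 (BT.node 1118 (BT.leaf cE1118) (BT.leaf cE1119)) (BT.leaf cE1120))) (BT.node 1123 (BT.node 1122 (BT.node 1121 (BT.leaf cE1121) (BT.leaf cE1122)) (BT.leaf cE1123)) (BT.node 1124 (BT.leaf cE1124) (BT.leaf cE1125))))))))) (BT.node 1313 (BT.node 1219 (BT.node 1172 (BT.node 1149 (BT.node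 1137 (BT.node 1131 (BT.node 1128 (BT.node 1127 (BT.node 1126 (BT.leaf cE1126) (BT.leaf cE1127)) (BT.leaf cE1128)) (BT.node 1130 (BT.node 1129 (BT.leaf cE1129) (BT.leaf cE1130)) (BT.leaf cE1131))) (BT.node 1134 (BT.node 1133 (BT.node 1132 (BT.leaf cE1132) (BT.leaf cE1133)) (BT.leaf cE1134)) (BT.node 1136 (BT.node 1135 (BT.leaf cE1135) (BT.leaf cE1136)) (BT.leaf cE1137)))) (BT.node 1143 (BT.node 1140 (BT.node 1139 (BT.node 1138 (BT.leaf cE1138) (BT.leaf cE1139)) (BT.leaf cE1140)) (BT.node 1142 (BT.node 1141 (BT.leaf cE1141) (BT.leaf cE1142)) (BT.leaf cE1143))) (BT.node 1146 (BT.node 1145 (BT.node 1144 (BT.leaf cE1144) (BT.leaf cE1145)) (BT.leaf cE1146)) (BT.node 1148 (BT.node 1147 (BT.leaf cE1147) (BT.leaf cE1148)) (BT.leaf cE1149))))) (BT.node 1161 (BT.node 1155 (BT.node 1152 (BT.node 1151 (BT.node 1150 (BT.leaf cE1150) (BT.leaf cE1151)) (BT.leaf cE1152))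 (BT.node 1154 (BT.node 1153 (BT.leaf cE1153) (BT.leaf cE1154)) (BT.leaf cE1155))) (BT.node 1158 (BT.node 1157 (BT.node 1156 (BT.leaf cE1156) (BT.leaf cE1157)) (BT.leaf cE1158)) (BT.node 1160 (BT.node 1159 (BT.leaf cE1159) (BT.leaf cE1160)) (BT.leaf cE1161)))) (BT.node 1167 (BT.node 1164 (BT.node 1163 (BT.node 1162 (BT.leaf cE1162) (BT.leaf cE1163)) (BT.leaf cE1164)) (BT.node 1166 (BT.node 1165 (BT.leaf cE1165) (BT.leaf cE1166)) (BT.leaf cE1167))) (BT.node 1170 (BT.node 1169 (BT.node 1168 (BT.leaf cE1168) (BT.leaf cE1169)) (BT.leaf cE1170)) (BT.node 1171 (BT.leaf cE1171) (BT.leaf cE1172)))))) (BT.node 1196 (BT.node 1184 (BT.node 1178 (BT.node 1175 (BT.node 1174 (BT.node 1173 (BT.leaf cE1173) (BT.leaf cE1174)) (BT.leaf cE1175)) (BT.node 1177 (BT.node 1176 (BT.leaf cE1176) (BT.leaf cE1177)) (BT.leaf cE1178))) (BT.node 1181 (BT.node 1180 (BT.node 1179 (BT.leaf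 cE1179) (BT.leaf cE1180)) (BT.leaf cE1181)) (BT.node 1183 (BT.node 1182 (BT.leaf cE1182) (BT.leaf cE1183)) (BT.leaf cE1184)))) (BT.node 1190 (BT.node 1187 (BT.node 1186 (BT.node 1185 (BT.leaf cE1185) (BT.leaf cE1186)) (BT.leaf cE1187)) (BT.node 1189 (BT.node 1188 (BT.leaf cE1188) (BT.leaf cE1189)) (BT.leaf cE1190))) (BT.node 1193 (BT.node 1192 (BT.node 1191 (BT.leaf cE1191) (BT.leaf cE1192)) (BT.leaf cE1193)) (BT.node 1195 (BT.node 1194 (BT.leaf cE1194) (BT.leaf cE1195)) (BT.leaf cE1196))))) (BT.node 1208 (BT.node 1202 (BT.node 1199 (BT.node 1198 (BT.node 1197 (BT.leaf cE1197) (BT.leaf cE1198)) (BT.leaf cE1199)) (BT.node 1201 (BT.node 1200 (BT.leaf cE1200) (BT.leaf cE1201)) (BT.leaf cE1202))) (BT.node 1205 (BT.node 1204 (BT.node 1203 (BT.leaf cE1203) (BT.leaf cE1204)) (BT.leaf cE1205)) (BT.node 1207 (BT.node 1206 (BT.leaf cE1206) (BT.leaf cE1207)) (BT.leaf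 cE1208)))) (BT.node 1214 (BT.node 1211 (BT.node 1210 (BT.node 1209 (BT.leaf cE1209) (BT.leaf cE1210)) (BT.leaf cE1211)) (BT.node 1213 (BT.node 1212 (BT.leaf cE1212) (BT.leaf cE1213)) (BT.leaf cE1214))) (BT.node 1217 (BT.node 1216 (BT.node 1215 (BT.leaf cE1215) (BT.leaf cE1216)) (BT.leaf cE1217)) (BT.node 1218 (BT.leaf cE1218) (BT.leaf cE1219))))))) (BT.node 1266 (BT.node 1243 (BT.node 1231 (BT.node 1225 (BT.node 1222 (BT.node 1221 (BT.node 1220 (BT.leaf cE1220) (BT.leaf cE1221)) (BT.leaf cE1222)) (BT.node 1224 (BT.node 1223 (BT.leaf cE1223) (BT.leaf cE1224)) (BT.leaf cE1225))) (BT.node 1228 (BT.node 1227 (BT.node 1226 (BT.leaf cE1226) (BT.leaf cE1227)) (BT.leaf cE1228)) (BT.node 1230 (BT.node 1229 (BT.leaf cE1229) (BT.leaf cE1230)) (BT.leaf cE1231)))) (BT.node 1237 (BT.node 1234 (BT.node 1233 (BT.node 1232 (BT.leaf cE1232) (BT.leaf cE1233)) (BT.leaf cE1234))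 (BT.node 1236 (BT.node 1235 (BT.leaf cE1235) (BT.leaf cE1236)) (BT.leaf cE1237))) (BT.node 1240 (BT.node 1239 (BT.node 1238 (BT.leaf cE1238) (BT.leaf cE1239)) (BT.leaf cE1240)) (BT.node 1242 (BT.node 1241 (BT.leaf cE1241) (BT.leaf cE1242)) (BT.leaf cE1243))))) (BT.node 1255 (BT.node 1249 (BT.node 1246 (BT.node 1245 (BT.node 1244 (BT.leaf cE1244) (BT.leaf cE1245)) (BT.leaf cE1246)) (BT.node 1248 (BT.node 1247 (BT.leaf cE1247) (BT.leaf cE1248)) (BT.leaf cE1249))) (BT.node 1252 (BT.node 1251 (BT.node 1250 (BT.leaf cE1250) (BT.leaf cE1251)) (BT.leaf cE1252)) (BT.node 1254 (BT.node 1253 (BT.leaf cE1253) (BT.leaf cE1254)) (BT.leaf cE1255)))) (BT.node 1261 (BT.node 1258 (BT.node 1257 (BT.node 1256 (BT.leaf cE1256) (BT.leaf cE1257)) (BT.leaf cE1258)) (BT.node 1260 (BT.node 1259 (BT.leaf cE1259) (BT.leaf cE1260)) (BT.leaf cE1261))) (BT.node 1264 (BT.node 1263 (BT.node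 1262 (BT.leaf cE1262) (BT.leaf cE1263)) (BT.leaf cE1264)) (BT.node 1265 (BT.leaf cE1265) (BT.leaf cE1266)))))) (BT.node 1290 (BT.node 1278 (BT.node 1272 (BT.node 1269 (BT.node 1268 (BT.node 1267 (BT.leaf cE1267) (BT.leaf cE1268)) (BT.leaf cE1269)) (BT.node 1271 (BT.node 1270 (BT.leaf cE1270) (BT.leaf cE1271)) (BT.leaf cE1272))) (BT.node 1275 (BT.node 1274 (BT.node 1273 (BT.leaf cE1273) (BT.leaf cE1274)) (BT.leaf cE1275)) (BT.node 1277 (BT.node 1276 (BT.leaf cE1276) (BT.leaf cE1277)) (BT.leaf cE1278)))) (BT.node 1284 (BT.node 1281 (BT.node 1280 (BT.node 1279 (BT.leaf cE1279) (BT.leaf cE1280)) (BT.leaf cE1281)) (BT.node 1283 (BT.node 1282 (BT.leaf cE1282) (BT.leaf cE1283)) (BT.leaf cE1284))) (BT.node 1287 (BT.node 1286 (BT.node 1285 (BT.leaf cE1285) (BT.leaf cE1286)) (BT.leaf cE1287)) (BT.node 1289 (BT.node 1288 (BT.leaf cE1288) (BT.leaf cE1289)) (BT.leaf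 cE1290))))) (BT.node 1302 (BT.node 1296 (BT.node 1293 (BT.node 1292 (BT.node 1291 (BT.leaf cE1291) (BT.leaf cE1292)) (BT.leaf cE1293)) (BT.node 1295 (BT.node 1294 (BT.leaf cE1294) (BT.leaf cE1295)) (BT.leaf cE1296))) (BT.node 1299 (BT.node 1298 (BT.node 1297 (BT.leaf cE1297) (BT.leaf cE1298)) (BT.leaf cE1299)) (BT.node 1301 (BT.node 1300 (BT.leaf cE1300) (BT.leaf cE1301)) (BT.leaf cE1302)))) (BT.node 1308 (BT.node 1305 (BT.node 1304 (BT.node 1303 (BT.leaf cE1303) (BT.leaf cE1304)) (BT.leaf cE1305)) (BT.node 1307 (BT.node 1306 (BT.leaf cE1306) (BT.leaf cE1307)) (BT.leaf cE1308))) (BT.node 1311 (BT.node 1310 (BT.node 1309 (BT.leaf cE1309) (BT.leaf cE1310)) (BT.leaf cE1311)) (BT.node 1312 (BT.leaf cE1312) (BT.leaf cE1313)))))))) (BT.node 1407 (BT.node 1360 (BT.node 1337 (BT.node 1325 (BT.node 1319 (BT.node 1316 (BT.node 1315 (BT.node 1314 (BT.leaf cE1314) (BT.leaf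 cE1315)) (BT.leaf cE1316)) (BT.node 1318 (BT.node 1317 (BT.leaf cE1317) (BT.leaf cE1318)) (BT.leaf cE1319))) (BT.node 1322 (BT.node 1321 (BT.node 1320 (BT.leaf cE1320) (BT.leaf cE1321)) (BT.leaf cE1322)) (BT.node 1324 (BT.node 1323 (BT.leaf cE1323) (BT.leaf cE1324)) (BT.leaf cE1325)))) (BT.node 1331 (BT.node 1328 (BT.node 1327 (BT.node 1326 (BT.leaf cE1326) (BT.leaf cE1327)) (BT.leaf cE1328)) (BT.node 1330 (BT.node 1329 (BT.leaf cE1329) (BT.leaf cE1330)) (BT.leaf cE1331))) (BT.node 1334 (BT.node 1333 (BT.node 1332 (BT.leaf cE1332) (BT.leaf cE1333)) (BT.leaf cE1334)) (BT.node 1336 (BT.node 1335 (BT.leaf cE1335) (BT.leaf cE1336)) (BT.leaf cE1337))))) (BT.node 1349 (BT.node 1343 (BT.node 1340 (BT.node 1339 (BT.node 1338 (BT.leaf cE1338) (BT.leaf cE1339)) (BT.leaf cE1340)) (BT.node 1342 (BT.node 1341 (BT.leaf cE1341) (BT.leaf cE1342)) (BT.leaf cE1343))) (BT.node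 1346 (BT.node 1345 (BT.node 1344 (BT.leaf cE1344) (BT.leaf cE1345)) (BT.leaf cE1346)) (BT.node 1348 (BT.node 1347 (BT.leaf cE1347) (BT.leaf cE1348)) (BT.leaf cE1349)))) (BT.node 1355 (BT.node 1352 (BT.node 1351 (BT.node 1350 (BT.leaf cE1350) (BT.leaf cE1351)) (BT.leaf cE1352)) (BT.node 1354 (BT.node 1353 (BT.leaf cE1353) (BT.leaf cE1354)) (BT.leaf cE1355))) (BT.node 1358 (BT.node 1357 (BT.node 1356 (BT.leaf cE1356) (BT.leaf cE1357)) (BT.leaf cE1358)) (BT.node 1359 (BT.leaf cE1359) (BT.leaf cE1360)))))) (BT.node 1384 (BT.node 1372 (BT.node 1366 (BT.node 1363 (BT.node 1362 (BT.node 1361 (BT.leaf cE1361) (BT.leaf cE1362)) (BT.leaf cE1363)) (BT.node 1365 (BT.node 1364 (BT.leaf cE1364) (BT.leaf cE1365)) (BT.leaf cE1366))) (BT.node 1369 (BT.node 1368 (BT.node 1367 (BT.leaf cE1367) (BT.leaf cE1368)) (BT.leaf cE1369)) (BT.node 1371 (BT.node 1370 (BT.leaf cE1370)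 (BT.leaf cE1371)) (BT.leaf cE1372)))) (BT.node 1378 (BT.node 1375 (BT.node 1374 (BT.node 1373 (BT.leaf cE1373) (BT.leaf cE1374)) (BT.leaf cE1375)) (BT.node 1377 (BT.node 1376 (BT.leaf cE1376) (BT.leaf cE1377)) (BT.leaf cE1378))) (BT.node 1381 (BT.node 1380 (BT.node 1379 (BT.leaf cE1379) (BT.leaf cE1380)) (BT.leaf cE1381)) (BT.node 1383 (BT.node 1382 (BT.leaf cE1382) (BT.leaf cE1383)) (BT.leaf cE1384))))) (BT.node 1396 (BT.node 1390 (BT.node 1387 (BT.node 1386 (BT.node 1385 (BT.leaf cE1385) (BT.leaf cE1386)) (BT.leaf cE1387)) (BT.node 1389 (BT.node 1388 (BT.leaf cE1388) (BT.leaf cE1389)) (BT.leaf cE1390))) (BT.node 1393 (BT.node 1392 (BT.node 1391 (BT.leaf cE1391) (BT.leaf cE1392)) (BT.leaf cE1393)) (BT.node 1395 (BT.node 1394 (BT.leaf cE1394) (BT.leaf cE1395)) (BT.leaf cE1396)))) (BT.node 1402 (BT.node 1399 (BT.node 1398 (BT.node 1397 (BT.leaf cE1397) (BT.leaf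 cE1398)) (BT.leaf cE1399)) (BT.node 1401 (BT.node 1400 (BT.leaf cE1400) (BT.leaf cE1401)) (BT.leaf cE1402))) (BT.node 1405 (BT.node 1404 (BT.node 1403 (BT.leaf cE1403) (BT.leaf cE1404)) (BT.leaf cE1405)) (BT.node 1406 (BT.leaf cE1406) (BT.leaf cE1407))))))) (BT.node 1454 (BT.node 1431 (BT.node 1419 (BT.node 1413 (BT.node 1410 (BT.node 1409 (BT.node 1408 (BT.leaf cE1408) (BT.leaf cE1409)) (BT.leaf cE1410)) (BT.node 1412 (BT.node 1411 (BT.leaf cE1411) (BT.leaf cE1412)) (BT.leaf cE1413))) (BT.node 1416 (BT.node 1415 (BT.node 1414 (BT.leaf cE1414) (BT.leaf cE1415)) (BT.leaf cE1416)) (BT.node 1418 (BT.node 1417 (BT.leaf cE1417) (BT.leaf cE1418)) (BT.leaf cE1419)))) (BT.node 1425 (BT.node 1422 (BT.node 1421 (BT.node 1420 (BT.leaf cE1420) (BT.leaf cE1421)) (BT.leaf cE1422)) (BT.node 1424 (BT.node 1423 (BT.leaf cE1423) (BT.leaf cE1424)) (BT.leaf cE1425))) (BT.node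 1428 (BT.node 1427 (BT.node 1426 (BT.leaf cE1426) (BT.leaf cE1427)) (BT.leaf cE1428)) (BT.node 1430 (BT.node 1429 (BT.leaf cE1429) (BT.leaf cE1430)) (BT.leaf cE1431))))) (BT.node 1443 (BT.node 1437 (BT.node 1434 (BT.node 1433 (BT.node 1432 (BT.leaf cE1432) (BT.leaf cE1433)) (BT.leaf cE1434)) (BT.node 1436 (BT.node 1435 (BT.leaf cE1435) (BT.leaf cE1436)) (BT.leaf cE1437))) (BT.node 1440 (BT.node 1439 (BT.node 1438 (BT.leaf cE1438) (BT.leaf cE1439)) (BT.leaf cE1440)) (BT.node 1442 (BT.node 1441 (BT.leaf cE1441) (BT.leaf cE1442)) (BT.leaf cE1443)))) (BT.node 1449 (BT.node 1446 (BT.node 1445 (BT.node 1444 (BT.leaf cE1444) (BT.leaf cE1445)) (BT.leaf cE1446)) (BT.node 1448 (BT.node 1447 (BT.leaf cE1447) (BT.leaf cE1448)) (BT.leaf cE1449))) (BT.node 1452 (BT.node 1451 (BT.node 1450 (BT.leaf cE1450) (BT.leaf cE1451)) (BT.leaf cE1452)) (BT.node 1453 (BT.leaf cE1453)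 (BT.leaf cE1454)))))) (BT.node 1477 (BT.node 1466 (BT.node 1460 (BT.node 1457 (BT.node 1456 (BT.node 1455 (BT.leaf cE1455) (BT.leaf cE1456)) (BT.leaf cE1457)) (BT.node 1459 (BT.node 1458 (BT.leaf cE1458) (BT.leaf cE1459)) (BT.leaf cE1460))) (BT.node 1463 (BT.node 1462 (BT.node 1461 (BT.leaf cE1461) (BT.leaf cE1462)) (BT.leaf cE1463)) (BT.node 1465 (BT.node 1464 (BT.leaf cE1464) (BT.leaf cE1465)) (BT.leaf cE1466)))) (BT.node 1472 (BT.node 1469 (BT.node 1468 (BT.node 1467 (BT.leaf cE1467) (BT.leaf cE1468)) (BT.leaf cE1469)) (BT.node 1471 (BT.node 1470 (BT.leaf cE1470) (BT.leaf cE1471)) (BT.leaf cE1472))) (BT.node 1475 (BT.node 1474 (BT.node 1473 (BT.leaf cE1473) (BT.leaf cE1474)) (BT.leaf cE1475)) (BT.node 1476 (BT.leaf cE1476) (BT.leaf cE1477))))) (BT.node 1489 (BT.node 1483 (BT.node 1480 (BT.node 1479 (BT.node 1478 (BT.leaf cE1478) (BT.leaf cE1479)) (BT.leaf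 cE1480)) (BT.node 1482 (BT.node 1481 (BT.leaf cE1481) (BT.leaf cE1482)) (BT.leaf cE1483))) (BT.node 1486 (BT.node 1485 (BT.node 1484 (BT.leaf cE1484) (BT.leaf cE1485)) (BT.leaf cE1486)) (BT.node 1488 (BT.node 1487 (BT.leaf cE1487) (BT.leaf cE1488)) (BT.leaf cE1489)))) (BT.node 1495 (BT.node 1492 (BT.node 1491 (BT.node 1490 (BT.leaf cE1490) (BT.leaf cE1491)) (BT.leaf cE1492)) (BT.node 1494 (BT.node 1493 (BT.leaf cE1493) (BT.leaf cE1494)) (BT.leaf cE1495))) (BT.node 1498 (BT.node 1497 (BT.node 1496 (BT.leaf cE1496) (BT.leaf cE1497)) (BT.leaf cE1498)) (BT.node 1499 (BT.leaf cE1499) (BT.leaf cE1500))))))))))) (BT.node 2251 (BT.node 1876 (BT.node 1688 (BT.node 1594 (BT.node 1547 (BT.node 1524 (BT.node 1512 (BT.node 1506 (BT.node 1503 (BT.node 1502 (BT.node 1501 (BT.leaf cE1501) (BT.leaf cE1502)) (BT.leaf cE1503)) (BT.node 1505 (BT.node 1504 (BT.leaf cE1504) (BT.leaf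 cE1505)) (BT.leaf cE1506))) (BT.node 1509 (BT.node 1508 (BT.node 1507 (BT.leaf cE1507) (BT.leaf cE1508)) (BT.leaf cE1509)) (BT.node 1511 (BT.node 1510 (BT.leaf cE1510) (BT.leaf cE1511)) (BT.leaf cE1512)))) (BT.node 1518 (BT.node 1515 (BT.node 1514 (BT.node 1513 (BT.leaf cE1513) (BT.leaf cE1514)) (BT.leaf cE1515)) (BT.node 1517 (BT.node 1516 (BT.leaf cE1516) (BT.leaf cE1517)) (BT.leaf cE1518))) (BT.node 1521 (BT.node 1520 (BT.node 1519 (BT.leaf cE1519) (BT.leaf cE1520)) (BT.leaf cE1521)) (BT.node 1523 (BT.node 1522 (BT.leaf cE1522) (BT.leaf cE1523)) (BT.leaf cE1524))))) (BT.node 1536 (BT.node 1530 (BT.node 1527 (BT.node 1526 (BT.node 1525 (BT.leaf cE1525) (BT.leaf cE1526)) (BT.leaf cE1527)) (BT.node 1529 (BT.node 1528 (BT.leaf cE1528) (BT.leaf cE1529)) (BT.leaf cE1530))) (BT.node 1533 (BT.node 1532 (BT.node 1531 (BT.leaf cE1531) (BT.leaf cE1532)) (BT.leaf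 cE1533)) (BT.node 1535 (BT.node 1534 (BT.leaf cE1534) (BT.leaf cE1535)) (BT.leaf cE1536)))) (BT.node 1542 (BT.node 1539 (BT.node 1538 (BT.node 1537 (BT.leaf cE1537) (BT.leaf cE1538)) (BT.leaf cE1539)) (BT.node 1541 (BT.node 1540 (BT.leaf cE1540) (BT.leaf cE1541)) (BT.leaf cE1542))) (BT.node 1545 (BT.node 1544 (BT.node 1543 (BT.leaf cE1543) (BT.leaf cE1544)) (BT.leaf cE1545)) (BT.node 1546 (BT.leaf cE1546) (BT.leaf cE1547)))))) (BT.node 1571 (BT.node 1559 (BT.node 1553 (BT.node 1550 (BT.node 1549 (BT.node 1548 (BT.leaf cE1548) (BT.leaf cE1549)) (BT.leaf cE1550)) (BT.node 1552 (BT.node 1551 (BT.leaf cE1551) (BT.leaf cE1552)) (BT.leaf cE1553))) (BT.node 1556 (BT.node 1555 (BT.node 1554 (BT.leaf cE1554) (BT.leaf cE1555)) (BT.leaf cE1556)) (BT.node 1558 (BT.node 1557 (BT.leaf cE1557) (BT.leaf cE1558)) (BT.leaf cE1559)))) (BT.node 1565 (BT.node 1562 (BT.node 1561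 (BT.node 1560 (BT.leaf cE1560) (BT.leaf cE1561)) (BT.leaf cE1562)) (BT.node 1564 (BT.node 1563 (BT.leaf cE1563) (BT.leaf cE1564)) (BT.leaf cE1565))) (BT.node 1568 (BT.node 1567 (BT.node 1566 (BT.leaf cE1566) (BT.leaf cE1567)) (BT.leaf cE1568)) (BT.node 1570 (BT.node 1569 (BT.leaf cE1569) (BT.leaf cE1570)) (BT.leaf cE1571))))) (BT.node 1583 (BT.node 1577 (BT.node 1574 (BT.node 1573 (BT.node 1572 (BT.leaf cE1572) (BT.leaf cE1573)) (BT.leaf cE1574)) (BT.node 1576 (BT.node 1575 (BT.leaf cE1575) (BT.leaf cE1576)) (BT.leaf cE1577))) (BT.node 1580 (BT.node 1579 (BT.node 1578 (BT.leaf cE1578) (BT.leaf cE1579)) (BT.leaf cE1580)) (BT.node 1582 (BT.node 1581 (BT.leaf cE1581) (BT.leaf cE1582)) (BT.leaf cE1583)))) (BT.node 1589 (BT.node 1586 (BT.node 1585 (BT.node 1584 (BT.leaf cE1584) (BT.leaf cE1585)) (BT.leaf cE1586)) (BT.node 1588 (BT.node 1587 (BT.leaf cE1587) (BT.leaf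 cE1588)) (BT.leaf cE1589))) (BT.node 1592 (BT.node 1591 (BT.node 1590 (BT.leaf cE1590) (BT.leaf cE1591)) (BT.leaf cE1592)) (BT.node 1593 (BT.leaf cE1593) (BT.leaf cE1594))))))) (BT.node 1641 (BT.node 1618 (BT.node 1606 (BT.node 1600 (BT.node 1597 (BT.node 1596 (BT.node 1595 (BT.leaf cE1595) (BT.leaf cE1596)) (BT.leaf cE1597)) (BT.node 1599 (BT.node 1598 (BT.leaf cE1598) (BT.leaf cE1599)) (BT.leaf cE1600))) (BT.node 1603 (BT.node 1602 (BT.node 1601 (BT.leaf cE1601) (BT.leaf cE1602)) (BT.leaf cE1603)) (BT.node 1605 (BT.node 1604 (BT.leaf cE1604) (BT.leaf cE1605)) (BT.leaf cE1606)))) (BT.node 1612 (BT.node 1609 (BT.node 1608 (BT.node 1607 (BT.leaf cE1607) (BT.leaf cE1608)) (BT.leaf cE1609)) (BT.node 1611 (BT.node 1610 (BT.leaf cE1610) (BT.leaf cE1611)) (BT.leaf cE1612))) (BT.node 1615 (BT.node 1614 (BT.node 1613 (BT.leaf cE1613) (BT.leaf cE1614)) (BT.leaf cE1615))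 (BT.node 1617 (BT.node 1616 (BT.leaf cE1616) (BT.leaf cE1617)) (BT.leaf cE1618))))) (BT.node 1630 (BT.node 1624 (BT.node 1621 (BT.node 1620 (BT.node 1619 (BT.leaf cE1619) (BT.leaf cE1620)) (BT.leaf cE1621)) (BT.node 1623 (BT.node 1622 (BT.leaf cE1622) (BT.leaf cE1623)) (BT.leaf cE1624))) (BT.node 1627 (BT.node 1626 (BT.node 1625 (BT.leaf cE1625) (BT.leaf cE1626)) (BT.leaf cE1627)) (BT.node 1629 (BT.node 1628 (BT.leaf cE1628) (BT.leaf cE1629)) (BT.leaf cE1630)))) (BT.node 1636 (BT.node 1633 (BT.node 1632 (BT.node 1631 (BT.leaf cE1631) (BT.leaf cE1632)) (BT.leaf cE1633)) (BT.node 1635 (BT.node 1634 (BT.leaf cE1634) (BT.leaf cE1635)) (BT.leaf cE1636))) (BT.node 1639 (BT.node 1638 (BT.node 1637 (BT.leaf cE1637) (BT.leaf cE1638)) (BT.leaf cE1639)) (BT.node 1640 (BT.leaf cE1640) (BT.leaf cE1641)))))) (BT.node 1665 (BT.node 1653 (BT.node 1647 (BT.node 1644 (BT.node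 1643 (BT.node 1642 (BT.leaf cE1642) (BT.leaf cE1643)) (BT.leaf cE1644)) (BT.node 1646 (BT.node 1645 (BT.leaf cE1645) (BT.leaf cE1646)) (BT.leaf cE1647))) (BT.node 1650 (BT.node 1649 (BT.node 1648 (BT.leaf cE1648) (BT.leaf cE1649)) (BT.leaf cE1650)) (BT.node 1652 (BT.node 1651 (BT.leaf cE1651) (BT.leaf cE1652)) (BT.leaf cE1653)))) (BT.node 1659 (BT.node 1656 (BT.node 1655 (BT.node 1654 (BT.leaf cE1654) (BT.leaf cE1655)) (BT.leaf cE1656)) (BT.node 1658 (BT.node 1657 (BT.leaf cE1657) (BT.leaf cE1658)) (BT.leaf cE1659))) (BT.node 1662 (BT.node 1661 (BT.node 1660 (BT.leaf cE1660) (BT.leaf cE1661)) (BT.leaf cE1662)) (BT.node 1664 (BT.node 1663 (BT.leaf cE1663) (BT.leaf cE1664)) (BT.leaf cE1665))))) (BT.node 1677 (BT.node 1671 (BT.node 1668 (BT.node 1667 (BT.node 1666 (BT.leaf cE1666) (BT.leaf cE1667)) (BT.leaf cE1668)) (BT.node 1670 (BT.node 1669 (BT.leaf cE1669)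 (BT.leaf cE1670)) (BT.leaf cE1671))) (BT.node 1674 (BT.node 1673 (BT.node 1672 (BT.leaf cE1672) (BT.leaf cE1673)) (BT.leaf cE1674)) (BT.node 1676 (BT.node 1675 (BT.leaf cE1675) (BT.leaf cE1676)) (BT.leaf cE1677)))) (BT.node 1683 (BT.node 1680 (BT.node 1679 (BT.node 1678 (BT.leaf cE1678) (BT.leaf cE1679)) (BT.leaf cE1680)) (BT.node 1682 (BT.node 1681 (BT.leaf cE1681) (BT.leaf cE1682)) (BT.leaf cE1683))) (BT.node 1686 (BT.node 1685 (BT.node 1684 (BT.leaf cE1684) (BT.leaf cE1685)) (BT.leaf cE1686)) (BT.node 1687 (BT.leaf cE1687) (BT.leaf cE1688)))))))) (BT.node 1782 (BT.node 1735 (BT.node 1712 (BT.node 1700 (BT.node 1694 (BT.node 1691 (BT.node 1690 (BT.node 1689 (BT.leaf cE1689) (BT.leaf cE1690)) (BT.leaf cE1691)) (BT.node 1693 (BT.node 1692 (BT.leaf cE1692) (BT.leaf cE1693)) (BT.leaf cE1694))) (BT.node 1697 (BT.node 1696 (BT.node 1695 (BT.leaf cE1695) (BT.leaf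 cE1696)) (BT.leaf cE1697)) (BT.node 1699 (BT.node 1698 (BT.leaf cE1698) (BT.leaf cE1699)) (BT.leaf cE1700)))) (BT.node 1706 (BT.node 1703 (BT.node 1702 (BT.node 1701 (BT.leaf cE1701) (BT.leaf cE1702)) (BT.leaf cE1703)) (BT.node 1705 (BT.node 1704 (BT.leaf cE1704) (BT.leaf cE1705)) (BT.leaf cE1706))) (BT.node 1709 (BT.node 1708 (BT.node 1707 (BT.leaf cE1707) (BT.leaf cE1708)) (BT.leaf cE1709)) (BT.node 1711 (BT.node 1710 (BT.leaf cE1710) (BT.leaf cE1711)) (BT.leaf cE1712))))) (BT.node 1724 (BT.node 1718 (BT.node 1715 (BT.node 1714 (BT.node 1713 (BT.leaf cE1713) (BT.leaf cE1714)) (BT.leaf cE1715)) (BT.node 1717 (BT.node 1716 (BT.leaf cE1716) (BT.leaf cE1717)) (BT.leaf cE1718))) (BT.node 1721 (BT.node 1720 (BT.node 1719 (BT.leaf cE1719) (BT.leaf cE1720)) (BT.leaf cE1721)) (BT.node 1723 (BT.node 1722 (BT.leaf cE1722) (BT.leaf cE1723)) (BT.leaf cE1724)))) (BT.node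 1730 (BT.node 1727 (BT.node 1726 (BT.node 1725 (BT.leaf cE1725) (BT.leaf cE1726)) (BT.leaf cE1727)) (BT.node 1729 (BT.node 1728 (BT.leaf cE1728) (BT.leaf cE1729)) (BT.leaf cE1730))) (BT.node 1733 (BT.node 1732 (BT.node 1731 (BT.leaf cE1731) (BT.leaf cE1732)) (BT.leaf cE1733)) (BT.node 1734 (BT.leaf cE1734) (BT.leaf cE1735)))))) (BT.node 1759 (BT.node 1747 (BT.node 1741 (BT.node 1738 (BT.node 1737 (BT.node 1736 (BT.leaf cE1736) (BT.leaf cE1737)) (BT.leaf cE1738)) (BT.node 1740 (BT.node 1739 (BT.leaf cE1739) (BT.leaf cE1740)) (BT.leaf cE1741))) (BT.node 1744 (BT.node 1743 (BT.node 1742 (BT.leaf cE1742) (BT.leaf cE1743)) (BT.leaf cE1744)) (BT.node 1746 (BT.node 1745 (BT.leaf cE1745) (BT.leaf cE1746)) (BT.leaf cE1747)))) (BT.node 1753 (BT.node 1750 (BT.node 1749 (BT.node 1748 (BT.leaf cE1748) (BT.leaf cE1749)) (BT.leaf cE1750)) (BT.node 1752 (BT.node 1751 (BT.leaf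 cE1751) (BT.leaf cE1752)) (BT.leaf cE1753))) (BT.node 1756 (BT.node 1755 (BT.node 1754 (BT.leaf cE1754) (BT.leaf cE1755)) (BT.leaf cE1756)) (BT.node 1758 (BT.node 1757 (BT.leaf cE1757) (BT.leaf cE1758)) (BT.leaf cE1759))))) (BT.node 1771 (BT.node 1765 (BT.node 1762 (BT.node 1761 (BT.node 1760 (BT.leaf cE1760) (BT.leaf cE1761)) (BT.leaf cE1762)) (BT.node 1764 (BT.node 1763 (BT.leaf cE1763) (BT.leaf cE1764)) (BT.leaf cE1765))) (BT.node 1768 (BT.node 1767 (BT.node 1766 (BT.leaf cE1766) (BT.leaf cE1767)) (BT.leaf cE1768)) (BT.node 1770 (BT.node 1769 (BT.leaf cE1769) (BT.leaf cE1770)) (BT.leaf cE1771)))) (BT.node 1777 (BT.node 1774 (BT.node 1773 (BT.node 1772 (BT.leaf cE1772) (BT.leaf cE1773)) (BT.leaf cE1774)) (BT.node 1776 (BT.node 1775 (BT.leaf cE1775) (BT.leaf cE1776)) (BT.leaf cE1777))) (BT.node 1780 (BT.node 1779 (BT.node 1778 (BT.leaf cE1778) (BT.leaf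 cE1779)) (BT.leaf cE1780)) (BT.node 1781 (BT.leaf cE1781) (BT.leaf cE1782))))))) (BT.node 1829 (BT.node 1806 (BT.node 1794 (BT.node 1788 (BT.node 1785 (BT.node 1784 (BT.node 1783 (BT.leaf cE1783) (BT.leaf cE1784)) (BT.leaf cE1785)) (BT.node 1787 (BT.node 1786 (BT.leaf cE1786) (BT.leaf cE1787)) (BT.leaf cE1788))) (BT.node 1791 (BT.node 1790 (BT.node 1789 (BT.leaf cE1789) (BT.leaf cE1790)) (BT.leaf cE1791)) (BT.node 1793 (BT.node 1792 (BT.leaf cE1792) (BT.leaf cE1793)) (BT.leaf cE1794)))) (BT.node 1800 (BT.node 1797 (BT.node 1796 (BT.node 1795 (BT.leaf cE1795) (BT.leaf cE1796)) (BT.leaf cE1797)) (BT.node 1799 (BT.node 1798 (BT.leaf cE1798) (BT.leaf cE1799)) (BT.leaf cE1800))) (BT.node 1803 (BT.node 1802 (BT.node 1801 (BT.leaf cE1801) (BT.leaf cE1802)) (BT.leaf cE1803)) (BT.node 1805 (BT.node 1804 (BT.leaf cE1804) (BT.leaf cE1805)) (BT.leaf cE1806))))) (BT.node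 1818 (BT.node 1812 (BT.node 1809 (BT.node 1808 (BT.node 1807 (BT.leaf cE1807) (BT.leaf cE1808)) (BT.leaf cE1809)) (BT.node 1811 (BT.node 1810 (BT.leaf cE1810) (BT.leaf cE1811)) (BT.leaf cE1812))) (BT.node 1815 (BT.node 1814 (BT.node 1813 (BT.leaf cE1813) (BT.leaf cE1814)) (BT.leaf cE1815)) (BT.node 1817 (BT.node 1816 (BT.leaf cE1816) (BT.leaf cE1817)) (BT.leaf cE1818)))) (BT.node 1824 (BT.node 1821 (BT.node 1820 (BT.node 1819 (BT.leaf cE1819) (BT.leaf cE1820)) (BT.leaf cE1821)) (BT.node 1823 (BT.node 1822 (BT.leaf cE1822) (BT.leaf cE1823)) (BT.leaf cE1824))) (BT.node 1827 (BT.node 1826 (BT.node 1825 (BT.leaf cE1825) (BT.leaf cE1826)) (BT.leaf cE1827)) (BT.node 1828 (BT.leaf cE1828) (BT.leaf cE1829)))))) (BT.node 1853 (BT.node 1841 (BT.node 1835 (BT.node 1832 (BT.node 1831 (BT.node 1830 (BT.leaf cE1830) (BT.leaf cE1831)) (BT.leaf cE1832)) (BT.node 1834 (BT.node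 1833 (BT.leaf cE1833) (BT.leaf cE1834)) (BT.leaf cE1835))) (BT.node 1838 (BT.node 1837 (BT.node 1836 (BT.leaf cE1836) (BT.leaf cE1837)) (BT.leaf cE1838)) (BT.node 1840 (BT.node 1839 (BT.leaf cE1839) (BT.leaf cE1840)) (BT.leaf cE1841)))) (BT.node 1847 (BT.node 1844 (BT.node 1843 (BT.node 1842 (BT.leaf cE1842) (BT.leaf cE1843)) (BT.leaf cE1844)) (BT.node 1846 (BT.node 1845 (BT.leaf cE1845) (BT.leaf cE1846)) (BT.leaf cE1847))) (BT.node 1850 (BT.node 1849 (BT.node 1848 (BT.leaf cE1848) (BT.leaf cE1849)) (BT.leaf cE1850)) (BT.node 1852 (BT.node 1851 (BT.leaf cE1851) (BT.leaf cE1852)) (BT.leaf cE1853))))) (BT.node 1865 (BT.node 1859 (BT.node 1856 (BT.node 1855 (BT.node 1854 (BT.leaf cE1854) (BT.leaf cE1855)) (BT.leaf cE1856)) (BT.node 1858 (BT.node 1857 (BT.leaf cE1857) (BT.leaf cE1858)) (BT.leaf cE1859))) (BT.node 1862 (BT.node 1861 (BT.node 1860 (BT.leaf cE1860)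 (BT.leaf cE1861)) (BT.leaf cE1862)) (BT.node 1864 (BT.node 1863 (BT.leaf cE1863) (BT.leaf cE1864)) (BT.leaf cE1865)))) (BT.node 1871 (BT.node 1868 (BT.node 1867 (BT.node 1866 (BT.leaf cE1866) (BT.leaf cE1867)) (BT.leaf cE1868)) (BT.node 1870 (BT.node 1869 (BT.leaf cE1869) (BT.leaf cE1870)) (BT.leaf cE1871))) (BT.node 1874 (BT.node 1873 (BT.node 1872 (BT.leaf cE1872) (BT.leaf cE1873)) (BT.leaf cE1874)) (BT.node 1875 (BT.leaf cE1875) (BT.leaf cE1876))))))))) (BT.node 2064 (BT.node 1970 (BT.node 1923 (BT.node 1900 (BT.node 1888 (BT.node 1882 (BT.node 1879 (BT.node 1878 (BT.node 1877 (BT.leaf cE1877) (BT.leaf cE1878)) (BT.leaf cE1879)) (BT.node 1881 (BT.node 1880 (BT.leaf cE1880) (BT.leaf cE1881)) (BT.leaf cE1882))) (BT.node 1885 (BT.node 1884 (BT.node 1883 (BT.leaf cE1883) (BT.leaf cE1884)) (BT.leaf cE1885)) (BT.node 1887 (BT.node 1886 (BT.leaf cE1886) (BT.leaf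 cE1887)) (BT.leaf cE1888)))) (BT.node 1894 (BT.node 1891 (BT.node 1890 (BT.node 1889 (BT.leaf cE1889) (BT.leaf cE1890)) (BT.leaf cE1891)) (BT.node 1893 (BT.node 1892 (BT.leaf cE1892) (BT.leaf cE1893)) (BT.leaf cE1894))) (BT.node 1897 (BT.node 1896 (BT.node 1895 (BT.leaf cE1895) (BT.leaf cE1896)) (BT.leaf cE1897)) (BT.node 1899 (BT.node 1898 (BT.leaf cE1898) (BT.leaf cE1899)) (BT.leaf cE1900))))) (BT.node 1912 (BT.node 1906 (BT.node 1903 (BT.node 1902 (BT.node 1901 (BT.leaf cE1901) (BT.leaf cE1902)) (BT.leaf cE1903)) (BT.node 1905 (BT.node 1904 (BT.leaf cE1904) (BT.leaf cE1905)) (BT.leaf cE1906))) (BT.node 1909 (BT.node 1908 (BT.node 1907 (BT.leaf cE1907) (BT.leaf cE1908)) (BT.leaf cE1909)) (BT.node 1911 (BT.node 1910 (BT.leaf cE1910) (BT.leaf cE1911)) (BT.leaf cE1912)))) (BT.node 1918 (BT.node 1915 (BT.node 1914 (BT.node 1913 (BT.leaf cE1913) (BT.leaf cE1914))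 (BT.leaf cE1915)) (BT.node 1917 (BT.node 1916 (BT.leaf cE1916) (BT.leaf cE1917)) (BT.leaf cE1918))) (BT.node 1921 (BT.node 1920 (BT.node 1919 (BT.leaf cE1919) (BT.leaf cE1920)) (BT.leaf cE1921)) (BT.node 1922 (BT.leaf cE1922) (BT.leaf cE1923)))))) (BT.node 1947 (BT.node 1935 (BT.node 1929 (BT.node 1926 (BT.node 1925 (BT.node 1924 (BT.leaf cE1924) (BT.leaf cE1925)) (BT.leaf cE1926)) (BT.node 1928 (BT.node 1927 (BT.leaf cE1927) (BT.leaf cE1928)) (BT.leaf cE1929))) (BT.node 1932 (BT.node 1931 (BT.node 1930 (BT.leaf cE1930) (BT.leaf cE1931)) (BT.leaf cE1932)) (BT.node 1934 (BT.node 1933 (BT.leaf cE1933) (BT.leaf cE1934)) (BT.leaf cE1935)))) (BT.node 1941 (BT.node 1938 (BT.node 1937 (BT.node 1936 (BT.leaf cE1936) (BT.leaf cE1937)) (BT.leaf cE1938)) (BT.node 1940 (BT.node 1939 (BT.leaf cE1939) (BT.leaf cE1940)) (BT.leaf cE1941))) (BT.node 1944 (BT.node 1943 (BT.node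 1942 (BT.leaf cE1942) (BT.leaf cE1943)) (BT.leaf cE1944)) (BT.node 1946 (BT.node 1945 (BT.leaf cE1945) (BT.leaf cE1946)) (BT.leaf cE1947))))) (BT.node 1959 (BT.node 1953 (BT.node 1950 (BT.node 1949 (BT.node 1948 (BT.leaf cE1948) (BT.leaf cE1949)) (BT.leaf cE1950)) (BT.node 1952 (BT.node 1951 (BT.leaf cE1951) (BT.leaf cE1952)) (BT.leaf cE1953))) (BT.node 1956 (BT.node 1955 (BT.node 1954 (BT.leaf cE1954) (BT.leaf cE1955)) (BT.leaf cE1956)) (BT.node 1958 (BT.node 1957 (BT.leaf cE1957) (BT.leaf cE1958)) (BT.leaf cE1959)))) (BT.node 1965 (BT.node 1962 (BT.node 1961 (BT.node 1960 (BT.leaf cE1960) (BT.leaf cE1961)) (BT.leaf cE1962)) (BT.node 1964 (BT.node 1963 (BT.leaf cE1963) (BT.leaf cE1964)) (BT.leaf cE1965))) (BT.node 1968 (BT.node 1967 (BT.node 1966 (BT.leaf cE1966) (BT.leaf cE1967)) (BT.leaf cE1968)) (BT.node 1969 (BT.leaf cE1969) (BT.leaf cE1970))))))) (BT.node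 2017 (BT.node 1994 (BT.node 1982 (BT.node 1976 (BT.node 1973 (BT.node 1972 (BT.node 1971 (BT.leaf cE1971) (BT.leaf cE1972)) (BT.leaf cE1973)) (BT.node 1975 (BT.node 1974 (BT.leaf cE1974) (BT.leaf cE1975)) (BT.leaf cE1976))) (BT.node 1979 (BT.node 1978 (BT.node 1977 (BT.leaf cE1977) (BT.leaf cE1978)) (BT.leaf cE1979)) (BT.node 1981 (BT.node 1980 (BT.leaf cE1980) (BT.leaf cE1981)) (BT.leaf cE1982)))) (BT.node 1988 (BT.node 1985 (BT.node 1984 (BT.node 1983 (BT.leaf cE1983) (BT.leaf cE1984)) (BT.leaf cE1985)) (BT.node 1987 (BT.node 1986 (BT.leaf cE1986) (BT.leaf cE1987)) (BT.leaf cE1988))) (BT.node 1991 (BT.node 1990 (BT.node 1989 (BT.leaf cE1989) (BT.leaf cE1990)) (BT.leaf cE1991)) (BT.node 1993 (BT.node 1992 (BT.leaf cE1992) (BT.leaf cE1993)) (BT.leaf cE1994))))) (BT.node 2006 (BT.node 2000 (BT.node 1997 (BT.node 1996 (BT.node 1995 (BT.leaf cE1995) (BT.leaf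 cE1996)) (BT.leaf cE1997)) (BT.node 1999 (BT.node 1998 (BT.leaf cE1998) (BT.leaf cE1999)) (BT.leaf cE2000))) (BT.node 2003 (BT.node 2002 (BT.node 2001 (BT.leaf cE2001) (BT.leaf cE2002)) (BT.leaf cE2003)) (BT.node 2005 (BT.node 2004 (BT.leaf cE2004) (BT.leaf cE2005)) (BT.leaf cE2006)))) (BT.node 2012 (BT.node 2009 (BT.node 2008 (BT.node 2007 (BT.leaf cE2007) (BT.leaf cE2008)) (BT.leaf cE2009)) (BT.node 2011 (BT.node 2010 (BT.leaf cE2010) (BT.leaf cE2011)) (BT.leaf cE2012))) (BT.node 2015 (BT.node 2014 (BT.node 2013 (BT.leaf cE2013) (BT.leaf cE2014)) (BT.leaf cE2015)) (BT.node 2016 (BT.leaf cE2016) (BT.leaf cE2017)))))) (BT.node 2041 (BT.node 2029 (BT.node 2023 (BT.node 2020 (BT.node 2019 (BT.node 2018 (BT.leaf cE2018) (BT.leaf cE2019)) (BT.leaf cE2020)) (BT.node 2022 (BT.node 2021 (BT.leaf cE2021) (BT.leaf cE2022)) (BT.leaf cE2023))) (BT.node 2026 (BT.node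 2025 (BT.node 2024 (BT.leaf cE2024) (BT.leaf cE2025)) (BT.leaf cE2026)) (BT.node 2028 (BT.node 2027 (BT.leaf cE2027) (BT.leaf cE2028)) (BT.leaf cE2029)))) (BT.node 2035 (BT.node 2032 (BT.node 2031 (BT.node 2030 (BT.leaf cE2030) (BT.leaf cE2031)) (BT.leaf cE2032)) (BT.node 2034 (BT.node 2033 (BT.leaf cE2033) (BT.leaf cE2034)) (BT.leaf cE2035))) (BT.node 2038 (BT.node 2037 (BT.node 2036 (BT.leaf cE2036) (BT.leaf cE2037)) (BT.leaf cE2038)) (BT.node 2040 (BT.node 2039 (BT.leaf cE2039) (BT.leaf cE2040)) (BT.leaf cE2041))))) (BT.node 2053 (BT.node 2047 (BT.node 2044 (BT.node 2043 (BT.node 2042 (BT.leaf cE2042) (BT.leaf cE2043)) (BT.leaf cE2044)) (BT.node 2046 (BT.node 2045 (BT.leaf cE2045) (BT.leaf cE2046)) (BT.leaf cE2047))) (BT.node 2050 (BT.node 2049 (BT.node 2048 (BT.leaf cE2048) (BT.leaf cE2049)) (BT.leaf cE2050)) (BT.node 2052 (BT.node 2051 (BT.leaf cE2051)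 (BT.leaf cE2052)) (BT.leaf cE2053)))) (BT.node 2059 (BT.node 2056 (BT.node 2055 (BT.node 2054 (BT.leaf cE2054) (BT.leaf cE2055)) (BT.leaf cE2056)) (BT.node 2058 (BT.node 2057 (BT.leaf cE2057) (BT.leaf cE2058)) (BT.leaf cE2059))) (BT.node 2062 (BT.node 2061 (BT.node 2060 (BT.leaf cE2060) (BT.leaf cE2061)) (BT.leaf cE2062)) (BT.node 2063 (BT.leaf cE2063) (BT.leaf cE2064)))))))) (BT.node 2158 (BT.node 2111 (BT.node 2088 (BT.node 2076 (BT.node 2070 (BT.node 2067 (BT.node 2066 (BT.node 2065 (BT.leaf cE2065) (BT.leaf cE2066)) (BT.leaf cE2067)) (BT.node 2069 (BT.node 2068 (BT.leaf cE2068) (BT.leaf cE2069)) (BT.leaf cE2070))) (BT.node 2073 (BT.node 2072 (BT.node 2071 (BT.leaf cE2071) (BT.leaf cE2072)) (BT.leaf cE2073)) (BT.node 2075 (BT.node 2074 (BT.leaf cE2074) (BT.leaf cE2075)) (BT.leaf cE2076)))) (BT.node 2082 (BT.node 2079 (BT.node 2078 (BT.node 2077 (BT.leaf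 cE2077) (BT.leaf cE2078)) (BT.leaf cE2079)) (BT.node 2081 (BT.node 2080 (BT.leaf cE2080) (BT.leaf cE2081)) (BT.leaf cE2082))) (BT.node 2085 (BT.node 2084 (BT.node 2083 (BT.leaf cE2083) (BT.leaf cE2084)) (BT.leaf cE2085)) (BT.node 2087 (BT.node 2086 (BT.leaf cE2086) (BT.leaf cE2087)) (BT.leaf cE2088))))) (BT.node 2100 (BT.node 2094 (BT.node 2091 (BT.node 2090 (BT.node 2089 (BT.leaf cE2089) (BT.leaf cE2090)) (BT.leaf cE2091)) (BT.node 2093 (BT.node 2092 (BT.leaf cE2092) (BT.leaf cE2093)) (BT.leaf cE2094))) (BT.node 2097 (BT.node 2096 (BT.node 2095 (BT.leaf cE2095) (BT.leaf cE2096)) (BT.leaf cE2097)) (BT.node 2099 (BT.node 2098 (BT.leaf cE2098) (BT.leaf cE2099)) (BT.leaf cE2100)))) (BT.node 2106 (BT.node 2103 (BT.node 2102 (BT.node 2101 (BT.leaf cE2101) (BT.leaf cE2102)) (BT.leaf cE2103)) (BT.node 2105 (BT.node 2104 (BT.leaf cE2104) (BT.leaf cE2105)) (BT.leaf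 cE2106))) (BT.node 2109 (BT.node 2108 (BT.node 2107 (BT.leaf cE2107) (BT.leaf cE2108)) (BT.leaf cE2109)) (BT.node 2110 (BT.leaf cE2110) (BT.leaf cE2111)))))) (BT.node 2135 (BT.node 2123 (BT.node 2117 (BT.node 2114 (BT.node 2113 (BT.node 2112 (BT.leaf cE2112) (BT.leaf cE2113)) (BT.leaf cE2114)) (BT.node 2116 (BT.node 2115 (BT.leaf cE2115) (BT.leaf cE2116)) (BT.leaf cE2117))) (BT.node 2120 (BT.node 2119 (BT.node 2118 (BT.leaf cE2118) (BT.leaf cE2119)) (BT.leaf cE2120)) (BT.node 2122 (BT.node 2121 (BT.leaf cE2121) (BT.leaf cE2122)) (BT.leaf cE2123)))) (BT.node 2129 (BT.node 2126 (BT.node 2125 (BT.node 2124 (BT.leaf cE2124) (BT.leaf cE2125)) (BT.leaf cE2126)) (BT.node 2128 (BT.node 2127 (BT.leaf cE2127) (BT.leaf cE2128)) (BT.leaf cE2129))) (BT.node 2132 (BT.node 2131 (BT.node 2130 (BT.leaf cE2130) (BT.leaf cE2131)) (BT.leaf cE2132)) (BT.node 2134 (BT.node 2133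 (BT.leaf cE2133) (BT.leaf cE2134)) (BT.leaf cE2135))))) (BT.node 2147 (BT.node 2141 (BT.node 2138 (BT.node 2137 (BT.node 2136 (BT.leaf cE2136) (BT.leaf cE2137)) (BT.leaf cE2138)) (BT.node 2140 (BT.node 2139 (BT.leaf cE2139) (BT.leaf cE2140)) (BT.leaf cE2141))) (BT.node 2144 (BT.node 2143 (BT.node 2142 (BT.leaf cE2142) (BT.leaf cE2143)) (BT.leaf cE2144)) (BT.node 2146 (BT.node 2145 (BT.leaf cE2145) (BT.leaf cE2146)) (BT.leaf cE2147)))) (BT.node 2153 (BT.node 2150 (BT.node 2149 (BT.node 2148 (BT.leaf cE2148) (BT.leaf cE2149)) (BT.leaf cE2150)) (BT.node 2152 (BT.node 2151 (BT.leaf cE2151) (BT.leaf cE2152)) (BT.leaf cE2153))) (BT.node 2156 (BT.node 2155 (BT.node 2154 (BT.leaf cE2154) (BT.leaf cE2155)) (BT.leaf cE2156)) (BT.node 2157 (BT.leaf cE2157) (BT.leaf cE2158))))))) (BT.node 2205 (BT.node 2182 (BT.node 2170 (BT.node 2164 (BT.node 2161 (BT.node 2160 (BT.node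 2159 (BT.leaf cE2159) (BT.leaf cE2160)) (BT.leaf cE2161)) (BT.node 2163 (BT.node 2162 (BT.leaf cE2162) (BT.leaf cE2163)) (BT.leaf cE2164))) (BT.node 2167 (BT.node 2166 (BT.node 2165 (BT.leaf cE2165) (BT.leaf cE2166)) (BT.leaf cE2167)) (BT.node 2169 (BT.node 2168 (BT.leaf cE2168) (BT.leaf cE2169)) (BT.leaf cE2170)))) (BT.node 2176 (BT.node 2173 (BT.node 2172 (BT.node 2171 (BT.leaf cE2171) (BT.leaf cE2172)) (BT.leaf cE2173)) (BT.node 2175 (BT.node 2174 (BT.leaf cE2174) (BT.leaf cE2175)) (BT.leaf cE2176))) (BT.node 2179 (BT.node 2178 (BT.node 2177 (BT.leaf cE2177) (BT.leaf cE2178)) (BT.leaf cE2179)) (BT.node 2181 (BT.node 2180 (BT.leaf cE2180) (BT.leaf cE2181)) (BT.leaf cE2182))))) (BT.node 2194 (BT.node 2188 (BT.node 2185 (BT.node 2184 (BT.node 2183 (BT.leaf cE2183) (BT.leaf cE2184)) (BT.leaf cE2185)) (BT.node 2187 (BT.node 2186 (BT.leaf cE2186) (BT.leaf cE2187))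 (BT.leaf cE2188))) (BT.node 2191 (BT.node 2190 (BT.node 2189 (BT.leaf cE2189) (BT.leaf cE2190)) (BT.leaf cE2191)) (BT.node 2193 (BT.node 2192 (BT.leaf cE2192) (BT.leaf cE2193)) (BT.leaf cE2194)))) (BT.node 2200 (BT.node 2197 (BT.node 2196 (BT.node 2195 (BT.leaf cE2195) (BT.leaf cE2196)) (BT.leaf cE2197)) (BT.node 2199 (BT.node 2198 (BT.leaf cE2198) (BT.leaf cE2199)) (BT.leaf cE2200))) (BT.node 2203 (BT.node 2202 (BT.node 2201 (BT.leaf cE2201) (BT.leaf cE2202)) (BT.leaf cE2203)) (BT.node 2204 (BT.leaf cE2204) (BT.leaf cE2205)))))) (BT.node 2228 (BT.node 2217 (BT.node 2211 (BT.node 2208 (BT.node 2207 (BT.node 2206 (BT.leaf cE2206) (BT.leaf cE2207)) (BT.leaf cE2208)) (BT.node 2210 (BT.node 2209 (BT.leaf cE2209) (BT.leaf cE2210)) (BT.leaf cE2211))) (BT.node 2214 (BT.node 2213 (BT.node 2212 (BT.leaf cE2212) (BT.leaf cE2213)) (BT.leaf cE2214)) (BT.node 2216 (BT.node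 2215 (BT.leaf cE2215) (BT.leaf cE2216)) (BT.leaf cE2217)))) (BT.node 2223 (BT.node 2220 (BT.node 2219 (BT.node 2218 (BT.leaf cE2218) (BT.leaf cE2219)) (BT.leaf cE2220)) (BT.node 2222 (BT.node 2221 (BT.leaf cE2221) (BT.leaf cE2222)) (BT.leaf cE2223))) (BT.node 2226 (BT.node 2225 (BT.node 2224 (BT.leaf cE2224) (BT.leaf cE2225)) (BT.leaf cE2226)) (BT.node 2227 (BT.leaf cE2227) (BT.leaf cE2228))))) (BT.node 2240 (BT.node 2234 (BT.node 2231 (BT.node 2230 (BT.node 2229 (BT.leaf cE2229) (BT.leaf cE2230)) (BT.leaf cE2231)) (BT.node 2233 (BT.node 2232 (BT.leaf cE2232) (BT.leaf cE2233)) (BT.leaf cE2234))) (BT.node 2237 (BT.node 2236 (BT.node 2235 (BT.leaf cE2235) (BT.leaf cE2236)) (BT.leaf cE2237)) (BT.node 2239 (BT.node 2238 (BT.leaf cE2238) (BT.leaf cE2239)) (BT.leaf cE2240)))) (BT.node 2246 (BT.node 2243 (BT.node 2242 (BT.node 2241 (BT.leaf cE2241) (BT.leaf cE2242))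 (BT.leaf cE2243)) (BT.node 2245 (BT.node 2244 (BT.leaf cE2244) (BT.leaf cE2245)) (BT.leaf cE2246))) (BT.node 2249 (BT.node 2248 (BT.node 2247 (BT.leaf cE2247) (BT.leaf cE2248)) (BT.leaf cE2249)) (BT.node 2250 (BT.leaf cE2250) (BT.leaf cE2251)))))))))) (BT.node 2626 (BT.node 2439 (BT.node 2345 (BT.node 2298 (BT.node 2275 (BT.node 2263 (BT.node 2257 (BT.node 2254 (BT.node 2253 (BT.node 2252 (BT.leaf cE2252) (BT.leaf cE2253)) (BT.leaf cE2254)) (BT.node 2256 (BT.node 2255 (BT.leaf cE2255) (BT.leaf cE2256)) (BT.leaf cE2257))) (BT.node 2260 (BT.node 2259 (BT.node 2258 (BT.leaf cE2258) (BT.leaf cE2259)) (BT.leaf cE2260)) (BT.node 2262 (BT.node 2261 (BT.leaf cE2261) (BT.leaf cE2262)) (BT.leaf cE2263)))) (BT.node 2269 (BT.node 2266 (BT.node 2265 (BT.node 2264 (BT.leaf cE2264) (BT.leaf cE2265)) (BT.leaf cE2266)) (BT.node 2268 (BT.node 2267 (BT.leaf cE2267) (BT.leaf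 cE2268)) (BT.leaf cE2269))) (BT.node 2272 (BT.node 2271 (BT.node 2270 (BT.leaf cE2270) (BT.leaf cE2271)) (BT.leaf cE2272)) (BT.node 2274 (BT.node 2273 (BT.leaf cE2273) (BT.leaf cE2274)) (BT.leaf cE2275))))) (BT.node 2287 (BT.node 2281 (BT.node 2278 (BT.node 2277 (BT.node 2276 (BT.leaf cE2276) (BT.leaf cE2277)) (BT.leaf cE2278)) (BT.node 2280 (BT.node 2279 (BT.leaf cE2279) (BT.leaf cE2280)) (BT.leaf cE2281))) (BT.node 2284 (BT.node 2283 (BT.node 2282 (BT.leaf cE2282) (BT.leaf cE2283)) (BT.leaf cE2284)) (BT.node 2286 (BT.node 2285 (BT.leaf cE2285) (BT.leaf cE2286)) (BT.leaf cE2287)))) (BT.node 2293 (BT.node 2290 (BT.node 2289 (BT.node 2288 (BT.leaf cE2288) (BT.leaf cE2289)) (BT.leaf cE2290)) (BT.node 2292 (BT.node 2291 (BT.leaf cE2291) (BT.leaf cE2292)) (BT.leaf cE2293))) (BT.node 2296 (BT.node 2295 (BT.node 2294 (BT.leaf cE2294) (BT.leaf cE2295)) (BT.leaf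 cE2296)) (BT.node 2297 (BT.leaf cE2297) (BT.leaf cE2298)))))) (BT.node 2322 (BT.node 2310 (BT.node 2304 (BT.node 2301 (BT.node 2300 (BT.node 2299 (BT.leaf cE2299) (BT.leaf cE2300)) (BT.leaf cE2301)) (BT.node 2303 (BT.node 2302 (BT.leaf cE2302) (BT.leaf cE2303)) (BT.leaf cE2304))) (BT.node 2307 (BT.node 2306 (BT.node 2305 (BT.leaf cE2305) (BT.leaf cE2306)) (BT.leaf cE2307)) (BT.node 2309 (BT.node 2308 (BT.leaf cE2308) (BT.leaf cE2309)) (BT.leaf cE2310)))) (BT.node 2316 (BT.node 2313 (BT.node 2312 (BT.node 2311 (BT.leaf cE2311) (BT.leaf cE2312)) (BT.leaf cE2313)) (BT.node 2315 (BT.node 2314 (BT.leaf cE2314) (BT.leaf cE2315)) (BT.leaf cE2316))) (BT.node 2319 (BT.node 2318 (BT.node 2317 (BT.leaf cE2317) (BT.leaf cE2318)) (BT.leaf cE2319)) (BT.node 2321 (BT.node 2320 (BT.leaf cE2320) (BT.leaf cE2321)) (BT.leaf cE2322))))) (BT.node 2334 (BT.node 2328 (BT.node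 2325 (BT.node 2324 (BT.node 2323 (BT.leaf cE2323) (BT.leaf cE2324)) (BT.leaf cE2325)) (BT.node 2327 (BT.node 2326 (BT.leaf cE2326) (BT.leaf cE2327)) (BT.leaf cE2328))) (BT.node 2331 (BT.node 2330 (BT.node 2329 (BT.leaf cE2329) (BT.leaf cE2330)) (BT.leaf cE2331)) (BT.node 2333 (BT.node 2332 (BT.leaf cE2332) (BT.leaf cE2333)) (BT.leaf cE2334)))) (BT.node 2340 (BT.node 2337 (BT.node 2336 (BT.node 2335 (BT.leaf cE2335) (BT.leaf cE2336)) (BT.leaf cE2337)) (BT.node 2339 (BT.node 2338 (BT.leaf cE2338) (BT.leaf cE2339)) (BT.leaf cE2340))) (BT.node 2343 (BT.node 2342 (BT.node 2341 (BT.leaf cE2341) (BT.leaf cE2342)) (BT.leaf cE2343)) (BT.node 2344 (BT.leaf cE2344) (BT.leaf cE2345))))))) (BT.node 2392 (BT.node 2369 (BT.node 2357 (BT.node 2351 (BT.node 2348 (BT.node 2347 (BT.node 2346 (BT.leaf cE2346) (BT.leaf cE2347)) (BT.leaf cE2348)) (BT.node 2350 (BT.node 2349 (BT.leaf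 cE2349) (BT.leaf cE2350)) (BT.leaf cE2351))) (BT.node 2354 (BT.node 2353 (BT.node 2352 (BT.leaf cE2352) (BT.leaf cE2353)) (BT.leaf cE2354)) (BT.node 2356 (BT.node 2355 (BT.leaf cE2355) (BT.leaf cE2356)) (BT.leaf cE2357)))) (BT.node 2363 (BT.node 2360 (BT.node 2359 (BT.node 2358 (BT.leaf cE2358) (BT.leaf cE2359)) (BT.leaf cE2360)) (BT.node 2362 (BT.node 2361 (BT.leaf cE2361) (BT.leaf cE2362)) (BT.leaf cE2363))) (BT.node 2366 (BT.node 2365 (BT.node 2364 (BT.leaf cE2364) (BT.leaf cE2365)) (BT.leaf cE2366)) (BT.node 2368 (BT.node 2367 (BT.leaf cE2367) (BT.leaf cE2368)) (BT.leaf cE2369))))) (BT.node 2381 (BT.node 2375 (BT.node 2372 (BT.node 2371 (BT.node 2370 (BT.leaf cE2370) (BT.leaf cE2371)) (BT.leaf cE2372)) (BT.node 2374 (BT.node 2373 (BT.leaf cE2373) (BT.leaf cE2374)) (BT.leaf cE2375))) (BT.node 2378 (BT.node 2377 (BT.node 2376 (BT.leaf cE2376) (BT.leaf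 cE2377)) (BT.leaf cE2378)) (BT.node 2380 (BT.node 2379 (BT.leaf cE2379) (BT.leaf cE2380)) (BT.leaf cE2381)))) (BT.node 2387 (BT.node 2384 (BT.node 2383 (BT.node 2382 (BT.leaf cE2382) (BT.leaf cE2383)) (BT.leaf cE2384)) (BT.node 2386 (BT.node 2385 (BT.leaf cE2385) (BT.leaf cE2386)) (BT.leaf cE2387))) (BT.node 2390 (BT.node 2389 (BT.node 2388 (BT.leaf cE2388) (BT.leaf cE2389)) (BT.leaf cE2390)) (BT.node 2391 (BT.leaf cE2391) (BT.leaf cE2392)))))) (BT.node 2416 (BT.node 2404 (BT.node 2398 (BT.node 2395 (BT.node 2394 (BT.node 2393 (BT.leaf cE2393) (BT.leaf cE2394)) (BT.leaf cE2395)) (BT.node 2397 (BT.node 2396 (BT.leaf cE2396) (BT.leaf cE2397)) (BT.leaf cE2398))) (BT.node 2401 (BT.node 2400 (BT.node 2399 (BT.leaf cE2399) (BT.leaf cE2400)) (BT.leaf cE2401)) (BT.node 2403 (BT.node 2402 (BT.leaf cE2402) (BT.leaf cE2403)) (BT.leaf cE2404)))) (BT.node 2410 (BT.node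 2407 (BT.node 2406 (BT.node 2405 (BT.leaf cE2405) (BT.leaf cE2406)) (BT.leaf cE2407)) (BT.node 2409 (BT.node 2408 (BT.leaf cE2408) (BT.leaf cE2409)) (BT.leaf cE2410))) (BT.node 2413 (BT.node 2412 (BT.node 2411 (BT.leaf cE2411) (BT.leaf cE2412)) (BT.leaf cE2413)) (BT.node 2415 (BT.node 2414 (BT.leaf cE2414) (BT.leaf cE2415)) (BT.leaf cE2416))))) (BT.node 2428 (BT.node 2422 (BT.node 2419 (BT.node 2418 (BT.node 2417 (BT.leaf cE2417) (BT.leaf cE2418)) (BT.leaf cE2419)) (BT.node 2421 (BT.node 2420 (BT.leaf cE2420) (BT.leaf cE2421)) (BT.leaf cE2422))) (BT.node 2425 (BT.node 2424 (BT.node 2423 (BT.leaf cE2423) (BT.leaf cE2424)) (BT.leaf cE2425)) (BT.node 2427 (BT.node 2426 (BT.leaf cE2426) (BT.leaf cE2427)) (BT.leaf cE2428)))) (BT.node 2434 (BT.node 2431 (BT.node 2430 (BT.node 2429 (BT.leaf cE2429) (BT.leaf cE2430)) (BT.leaf cE2431)) (BT.node 2433 (BT.node 2432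 (BT.leaf cE2432) (BT.leaf cE2433)) (BT.leaf cE2434))) (BT.node 2437 (BT.node 2436 (BT.node 2435 (BT.leaf cE2435) (BT.leaf cE2436)) (BT.leaf cE2437)) (BT.node 2438 (BT.leaf cE2438) (BT.leaf cE2439)))))))) (BT.node 2533 (BT.node 2486 (BT.node 2463 (BT.node 2451 (BT.node 2445 (BT.node 2442 (BT.node 2441 (BT.node 2440 (BT.leaf cE2440) (BT.leaf cE2441)) (BT.leaf cE2442)) (BT.node 2444 (BT.node 2443 (BT.leaf cE2443) (BT.leaf cE2444)) (BT.leaf cE2445))) (BT.node 2448 (BT.node 2447 (BT.node 2446 (BT.leaf cE2446) (BT.leaf cE2447)) (BT.leaf cE2448)) (BT.node 2450 (BT.node 2449 (BT.leaf cE2449) (BT.leaf cE2450)) (BT.leaf cE2451)))) (BT.node 2457 (BT.node 2454 (BT.node 2453 (BT.node 2452 (BT.leaf cE2452) (BT.leaf cE2453)) (BT.leaf cE2454)) (BT.node 2456 (BT.node 2455 (BT.leaf cE2455) (BT.leaf cE2456)) (BT.leaf cE2457))) (BT.node 2460 (BT.node 2459 (BT.node 2458 (BT.leaf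 cE2458) (BT.leaf cE2459)) (BT.leaf cE2460)) (BT.node 2462 (BT.node 2461 (BT.leaf cE2461) (BT.leaf cE2462)) (BT.leaf cE2463))))) (BT.node 2475 (BT.node 2469 (BT.node 2466 (BT.node 2465 (BT.node 2464 (BT.leaf cE2464) (BT.leaf cE2465)) (BT.leaf cE2466)) (BT.node 2468 (BT.node 2467 (BT.leaf cE2467) (BT.leaf cE2468)) (BT.leaf cE2469))) (BT.node 2472 (BT.node 2471 (BT.node 2470 (BT.leaf cE2470) (BT.leaf cE2471)) (BT.leaf cE2472)) (BT.node 2474 (BT.node 2473 (BT.leaf cE2473) (BT.leaf cE2474)) (BT.leaf cE2475)))) (BT.node 2481 (BT.node 2478 (BT.node 2477 (BT.node 2476 (BT.leaf cE2476) (BT.leaf cE2477)) (BT.leaf cE2478)) (BT.node 2480 (BT.node 2479 (BT.leaf cE2479) (BT.leaf cE2480)) (BT.leaf cE2481))) (BT.node 2484 (BT.node 2483 (BT.node 2482 (BT.leaf cE2482) (BT.leaf cE2483)) (BT.leaf cE2484)) (BT.node 2485 (BT.leaf cE2485) (BT.leaf cE2486)))))) (BT.node 2510 (BT.node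 2498 (BT.node 2492 (BT.node 2489 (BT.node 2488 (BT.node 2487 (BT.leaf cE2487) (BT.leaf cE2488)) (BT.leaf cE2489)) (BT.node 2491 (BT.node 2490 (BT.leaf cE2490) (BT.leaf cE2491)) (BT.leaf cE2492))) (BT.node 2495 (BT.node 2494 (BT.node 2493 (BT.leaf cE2493) (BT.leaf cE2494)) (BT.leaf cE2495)) (BT.node 2497 (BT.node 2496 (BT.leaf cE2496) (BT.leaf cE2497)) (BT.leaf cE2498)))) (BT.node 2504 (BT.node 2501 (BT.node 2500 (BT.node 2499 (BT.leaf cE2499) (BT.leaf cE2500)) (BT.leaf cE2501)) (BT.node 2503 (BT.node 2502 (BT.leaf cE2502) (BT.leaf cE2503)) (BT.leaf cE2504))) (BT.node 2507 (BT.node 2506 (BT.node 2505 (BT.leaf cE2505) (BT.leaf cE2506)) (BT.leaf cE2507)) (BT.node 2509 (BT.node 2508 (BT.leaf cE2508) (BT.leaf cE2509)) (BT.leaf cE2510))))) (BT.node 2522 (BT.node 2516 (BT.node 2513 (BT.node 2512 (BT.node 2511 (BT.leaf cE2511) (BT.leaf cE2512)) (BT.leaf cE2513))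 (BT.node 2515 (BT.node 2514 (BT.leaf cE2514) (BT.leaf cE2515)) (BT.leaf cE2516))) (BT.node 2519 (BT.node 2518 (BT.node 2517 (BT.leaf cE2517) (BT.leaf cE2518)) (BT.leaf cE2519)) (BT.node 2521 (BT.node 2520 (BT.leaf cE2520) (BT.leaf cE2521)) (BT.leaf cE2522)))) (BT.node 2528 (BT.node 2525 (BT.node 2524 (BT.node 2523 (BT.leaf cE2523) (BT.leaf cE2524)) (BT.leaf cE2525)) (BT.node 2527 (BT.node 2526 (BT.leaf cE2526) (BT.leaf cE2527)) (BT.leaf cE2528))) (BT.node 2531 (BT.node 2530 (BT.node 2529 (BT.leaf cE2529) (BT.leaf cE2530)) (BT.leaf cE2531)) (BT.node 2532 (BT.leaf cE2532) (BT.leaf cE2533))))))) (BT.node 2580 (BT.node 2557 (BT.node 2545 (BT.node 2539 (BT.node 2536 (BT.node 2535 (BT.node 2534 (BT.leaf cE2534) (BT.leaf cE2535)) (BT.leaf cE2536)) (BT.node 2538 (BT.node 2537 (BT.leaf cE2537) (BT.leaf cE2538)) (BT.leaf cE2539))) (BT.node 2542 (BT.node 2541 (BT.node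 2540 (BT.leaf cE2540) (BT.leaf cE2541)) (BT.leaf cE2542)) (BT.node 2544 (BT.node 2543 (BT.leaf cE2543) (BT.leaf cE2544)) (BT.leaf cE2545)))) (BT.node 2551 (BT.node 2548 (BT.node 2547 (BT.node 2546 (BT.leaf cE2546) (BT.leaf cE2547)) (BT.leaf cE2548)) (BT.node 2550 (BT.node 2549 (BT.leaf cE2549) (BT.leaf cE2550)) (BT.leaf cE2551))) (BT.node 2554 (BT.node 2553 (BT.node 2552 (BT.leaf cE2552) (BT.leaf cE2553)) (BT.leaf cE2554)) (BT.node 2556 (BT.node 2555 (BT.leaf cE2555) (BT.leaf cE2556)) (BT.leaf cE2557))))) (BT.node 2569 (BT.node 2563 (BT.node 2560 (BT.node 2559 (BT.node 2558 (BT.leaf cE2558) (BT.leaf cE2559)) (BT.leaf cE2560)) (BT.node 2562 (BT.node 2561 (BT.leaf cE2561) (BT.leaf cE2562)) (BT.leaf cE2563))) (BT.node 2566 (BT.node 2565 (BT.node 2564 (BT.leaf cE2564) (BT.leaf cE2565)) (BT.leaf cE2566)) (BT.node 2568 (BT.node 2567 (BT.leaf cE2567) (BT.leaf cE2568))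 (BT.leaf cE2569)))) (BT.node 2575 (BT.node 2572 (BT.node 2571 (BT.node 2570 (BT.leaf cE2570) (BT.leaf cE2571)) (BT.leaf cE2572)) (BT.node 2574 (BT.node 2573 (BT.leaf cE2573) (BT.leaf cE2574)) (BT.leaf cE2575))) (BT.node 2578 (BT.node 2577 (BT.node 2576 (BT.leaf cE2576) (BT.leaf cE2577)) (BT.leaf cE2578)) (BT.node 2579 (BT.leaf cE2579) (BT.leaf cE2580)))))) (BT.node 2603 (BT.node 2592 (BT.node 2586 (BT.node 2583 (BT.node 2582 (BT.node 2581 (BT.leaf cE2581) (BT.leaf cE2582)) (BT.leaf cE2583)) (BT.node 2585 (BT.node 2584 (BT.leaf cE2584) (BT.leaf cE2585)) (BT.leaf cE2586))) (BT.node 2589 (BT.node 2588 (BT.node 2587 (BT.leaf cE2587) (BT.leaf cE2588)) (BT.leaf cE2589)) (BT.node 2591 (BT.node 2590 (BT.leaf cE2590) (BT.leaf cE2591)) (BT.leaf cE2592)))) (BT.node 2598 (BT.node 2595 (BT.node 2594 (BT.node 2593 (BT.leaf cE2593) (BT.leaf cE2594)) (BT.leaf cE2595)) (BT.node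 2597 (BT.node 2596 (BT.leaf cE2596) (BT.leaf cE2597)) (BT.leaf cE2598))) (BT.node 2601 (BT.node 2600 (BT.node 2599 (BT.leaf cE2599) (BT.leaf cE2600)) (BT.leaf cE2601)) (BT.node 2602 (BT.leaf cE2602) (BT.leaf cE2603))))) (BT.node 2615 (BT.node 2609 (BT.node 2606 (BT.node 2605 (BT.node 2604 (BT.leaf cE2604) (BT.leaf cE2605)) (BT.leaf cE2606)) (BT.node 2608 (BT.node 2607 (BT.leaf cE2607) (BT.leaf cE2608)) (BT.leaf cE2609))) (BT.node 2612 (BT.node 2611 (BT.node 2610 (BT.leaf cE2610) (BT.leaf cE2611)) (BT.leaf cE2612)) (BT.node 2614 (BT.node 2613 (BT.leaf cE2613) (BT.leaf cE2614)) (BT.leaf cE2615)))) (BT.node 2621 (BT.node 2618 (BT.node 2617 (BT.node 2616 (BT.leaf cE2616) (BT.leaf cE2617)) (BT.leaf cE2618)) (BT.node 2620 (BT.node 2619 (BT.leaf cE2619) (BT.leaf cE2620)) (BT.leaf cE2621))) (BT.node 2624 (BT.node 2623 (BT.node 2622 (BT.leaf cE2622) (BT.leaf cE2623))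 (BT.leaf cE2624)) (BT.node 2625 (BT.leaf cE2625) (BT.leaf cE2626))))))))) (BT.node 2814 (BT.node 2720 (BT.node 2673 (BT.node 2650 (BT.node 2638 (BT.node 2632 (BT.node 2629 (BT.node 2628 (BT.node 2627 (BT.leaf cE2627) (BT.leaf cE2628)) (BT.leaf cE2629)) (BT.node 2631 (BT.node 2630 (BT.leaf cE2630) (BT.leaf cE2631)) (BT.leaf cE2632))) (BT.node 2635 (BT.node 2634 (BT.node 2633 (BT.leaf cE2633) (BT.leaf cE2634)) (BT.leaf cE2635)) (BT.node 2637 (BT.node 2636 (BT.leaf cE2636) (BT.leaf cE2637)) (BT.leaf cE2638)))) (BT.node 2644 (BT.node 2641 (BT.node 2640 (BT.node 2639 (BT.leaf cE2639) (BT.leaf cE2640)) (BT.leaf cE2641)) (BT.node 2643 (BT.node 2642 (BT.leaf cE2642) (BT.leaf cE2643)) (BT.leaf cE2644))) (BT.node 2647 (BT.node 2646 (BT.node 2645 (BT.leaf cE2645) (BT.leaf cE2646)) (BT.leaf cE2647)) (BT.node 2649 (BT.node 2648 (BT.leaf cE2648) (BT.leaf cE2649)) (BT.leaf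 cE2650))))) (BT.node 2662 (BT.node 2656 (BT.node 2653 (BT.node 2652 (BT.node 2651 (BT.leaf cE2651) (BT.leaf cE2652)) (BT.leaf cE2653)) (BT.node 2655 (BT.node 2654 (BT.leaf cE2654) (BT.leaf cE2655)) (BT.leaf cE2656))) (BT.node 2659 (BT.node 2658 (BT.node 2657 (BT.leaf cE2657) (BT.leaf cE2658)) (BT.leaf cE2659)) (BT.node 2661 (BT.node 2660 (BT.leaf cE2660) (BT.leaf cE2661)) (BT.leaf cE2662)))) (BT.node 2668 (BT.node 2665 (BT.node 2664 (BT.node 2663 (BT.leaf cE2663) (BT.leaf cE2664)) (BT.leaf cE2665)) (BT.node 2667 (BT.node 2666 (BT.leaf cE2666) (BT.leaf cE2667)) (BT.leaf cE2668))) (BT.node 2671 (BT.node 2670 (BT.node 2669 (BT.leaf cE2669) (BT.leaf cE2670)) (BT.leaf cE2671)) (BT.node 2672 (BT.leaf cE2672) (BT.leaf cE2673)))))) (BT.node 2697 (BT.node 2685 (BT.node 2679 (BT.node 2676 (BT.node 2675 (BT.node 2674 (BT.leaf cE2674) (BT.leaf cE2675)) (BT.leaf cE2676))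 (BT.node 2678 (BT.node 2677 (BT.leaf cE2677) (BT.leaf cE2678)) (BT.leaf cE2679))) (BT.node 2682 (BT.node 2681 (BT.node 2680 (BT.leaf cE2680) (BT.leaf cE2681)) (BT.leaf cE2682)) (BT.node 2684 (BT.node 2683 (BT.leaf cE2683) (BT.leaf cE2684)) (BT.leaf cE2685)))) (BT.node 2691 (BT.node 2688 (BT.node 2687 (BT.node 2686 (BT.leaf cE2686) (BT.leaf cE2687)) (BT.leaf cE2688)) (BT.node 2690 (BT.node 2689 (BT.leaf cE2689) (BT.leaf cE2690)) (BT.leaf cE2691))) (BT.node 2694 (BT.node 2693 (BT.node 2692 (BT.leaf cE2692) (BT.leaf cE2693)) (BT.leaf cE2694)) (BT.node 2696 (BT.node 2695 (BT.leaf cE2695) (BT.leaf cE2696)) (BT.leaf cE2697))))) (BT.node 2709 (BT.node 2703 (BT.node 2700 (BT.node 2699 (BT.node 2698 (BT.leaf cE2698) (BT.leaf cE2699)) (BT.leaf cE2700)) (BT.node 2702 (BT.node 2701 (BT.leaf cE2701) (BT.leaf cE2702)) (BT.leaf cE2703))) (BT.node 2706 (BT.node 2705 (BT.node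 2704 (BT.leaf cE2704) (BT.leaf cE2705)) (BT.leaf cE2706)) (BT.node 2708 (BT.node 2707 (BT.leaf cE2707) (BT.leaf cE2708)) (BT.leaf cE2709)))) (BT.node 2715 (BT.node 2712 (BT.node 2711 (BT.node 2710 (BT.leaf cE2710) (BT.leaf cE2711)) (BT.leaf cE2712)) (BT.node 2714 (BT.node 2713 (BT.leaf cE2713) (BT.leaf cE2714)) (BT.leaf cE2715))) (BT.node 2718 (BT.node 2717 (BT.node 2716 (BT.leaf cE2716) (BT.leaf cE2717)) (BT.leaf cE2718)) (BT.node 2719 (BT.leaf cE2719) (BT.leaf cE2720))))))) (BT.node 2767 (BT.node 2744 (BT.node 2732 (BT.node 2726 (BT.node 2723 (BT.node 2722 (BT.node 2721 (BT.leaf cE2721) (BT.leaf cE2722)) (BT.leaf cE2723)) (BT.node 2725 (BT.node 2724 (BT.leaf cE2724) (BT.leaf cE2725)) (BT.leaf cE2726))) (BT.node 2729 (BT.node 2728 (BT.node 2727 (BT.leaf cE2727) (BT.leaf cE2728)) (BT.leaf cE2729)) (BT.node 2731 (BT.node 2730 (BT.leaf cE2730) (BT.leaf cE2731))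 (BT.leaf cE2732)))) (BT.node 2738 (BT.node 2735 (BT.node 2734 (BT.node 2733 (BT.leaf cE2733) (BT.leaf cE2734)) (BT.leaf cE2735)) (BT.node 2737 (BT.node 2736 (BT.leaf cE2736) (BT.leaf cE2737)) (BT.leaf cE2738))) (BT.node 2741 (BT.node 2740 (BT.node 2739 (BT.leaf cE2739) (BT.leaf cE2740)) (BT.leaf cE2741)) (BT.node 2743 (BT.node 2742 (BT.leaf cE2742) (BT.leaf cE2743)) (BT.leaf cE2744))))) (BT.node 2756 (BT.node 2750 (BT.node 2747 (BT.node 2746 (BT.node 2745 (BT.leaf cE2745) (BT.leaf cE2746)) (BT.leaf cE2747)) (BT.node 2749 (BT.node 2748 (BT.leaf cE2748) (BT.leaf cE2749)) (BT.leaf cE2750))) (BT.node 2753 (BT.node 2752 (BT.node 2751 (BT.leaf cE2751) (BT.leaf cE2752)) (BT.leaf cE2753)) (BT.node 2755 (BT.node 2754 (BT.leaf cE2754) (BT.leaf cE2755)) (BT.leaf cE2756)))) (BT.node 2762 (BT.node 2759 (BT.node 2758 (BT.node 2757 (BT.leaf cE2757) (BT.leaf cE2758)) (BT.leaf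 cE2759)) (BT.node 2761 (BT.node 2760 (BT.leaf cE2760) (BT.leaf cE2761)) (BT.leaf cE2762))) (BT.node 2765 (BT.node 2764 (BT.node 2763 (BT.leaf cE2763) (BT.leaf cE2764)) (BT.leaf cE2765)) (BT.node 2766 (BT.leaf cE2766) (BT.leaf cE2767)))))) (BT.node 2791 (BT.node 2779 (BT.node 2773 (BT.node 2770 (BT.node 2769 (BT.node 2768 (BT.leaf cE2768) (BT.leaf cE2769)) (BT.leaf cE2770)) (BT.node 2772 (BT.node 2771 (BT.leaf cE2771) (BT.leaf cE2772)) (BT.leaf cE2773))) (BT.node 2776 (BT.node 2775 (BT.node 2774 (BT.leaf cE2774) (BT.leaf cE2775)) (BT.leaf cE2776)) (BT.node 2778 (BT.node 2777 (BT.leaf cE2777) (BT.leaf cE2778)) (BT.leaf cE2779)))) (BT.node 2785 (BT.node 2782 (BT.node 2781 (BT.node 2780 (BT.leaf cE2780) (BT.leaf cE2781)) (BT.leaf cE2782)) (BT.node 2784 (BT.node 2783 (BT.leaf cE2783) (BT.leaf cE2784)) (BT.leaf cE2785))) (BT.node 2788 (BT.node 2787 (BT.node 2786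 (BT.leaf cE2786) (BT.leaf cE2787)) (BT.leaf cE2788)) (BT.node 2790 (BT.node 2789 (BT.leaf cE2789) (BT.leaf cE2790)) (BT.leaf cE2791))))) (BT.node 2803 (BT.node 2797 (BT.node 2794 (BT.node 2793 (BT.node 2792 (BT.leaf cE2792) (BT.leaf cE2793)) (BT.leaf cE2794)) (BT.node 2796 (BT.node 2795 (BT.leaf cE2795) (BT.leaf cE2796)) (BT.leaf cE2797))) (BT.node 2800 (BT.node 2799 (BT.node 2798 (BT.leaf cE2798) (BT.leaf cE2799)) (BT.leaf cE2800)) (BT.node 2802 (BT.node 2801 (BT.leaf cE2801) (BT.leaf cE2802)) (BT.leaf cE2803)))) (BT.node 2809 (BT.node 2806 (BT.node 2805 (BT.node 2804 (BT.leaf cE2804) (BT.leaf cE2805)) (BT.leaf cE2806)) (BT.node 2808 (BT.node 2807 (BT.leaf cE2807) (BT.leaf cE2808)) (BT.leaf cE2809))) (BT.node 2812 (BT.node 2811 (BT.node 2810 (BT.leaf cE2810) (BT.leaf cE2811)) (BT.leaf cE2812)) (BT.node 2813 (BT.leaf cE2813) (BT.leaf cE2814)))))))) (BT.node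 2908 (BT.node 2861 (BT.node 2838 (BT.node 2826 (BT.node 2820 (BT.node 2817 (BT.node 2816 (BT.node 2815 (BT.leaf cE2815) (BT.leaf cE2816)) (BT.leaf cE2817)) (BT.node 2819 (BT.node 2818 (BT.leaf cE2818) (BT.leaf cE2819)) (BT.leaf cE2820))) (BT.node 2823 (BT.node 2822 (BT.node 2821 (BT.leaf cE2821) (BT.leaf cE2822)) (BT.leaf cE2823)) (BT.node 2825 (BT.node 2824 (BT.leaf cE2824) (BT.leaf cE2825)) (BT.leaf cE2826)))) (BT.node 2832 (BT.node 2829 (BT.node 2828 (BT.node 2827 (BT.leaf cE2827) (BT.leaf cE2828)) (BT.leaf cE2829)) (BT.node 2831 (BT.node 2830 (BT.leaf cE2830) (BT.leaf cE2831)) (BT.leaf cE2832))) (BT.node 2835 (BT.node 2834 (BT.node 2833 (BT.leaf cE2833) (BT.leaf cE2834)) (BT.leaf cE2835)) (BT.node 2837 (BT.node 2836 (BT.leaf cE2836) (BT.leaf cE2837)) (BT.leaf cE2838))))) (BT.node 2850 (BT.node 2844 (BT.node 2841 (BT.node 2840 (BT.node 2839 (BT.leaf cE2839)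 (BT.leaf cE2840)) (BT.leaf cE2841)) (BT.node 2843 (BT.node 2842 (BT.leaf cE2842) (BT.leaf cE2843)) (BT.leaf cE2844))) (BT.node 2847 (BT.node 2846 (BT.node 2845 (BT.leaf cE2845) (BT.leaf cE2846)) (BT.leaf cE2847)) (BT.node 2849 (BT.node 2848 (BT.leaf cE2848) (BT.leaf cE2849)) (BT.leaf cE2850)))) (BT.node 2856 (BT.node 2853 (BT.node 2852 (BT.node 2851 (BT.leaf cE2851) (BT.leaf cE2852)) (BT.leaf cE2853)) (BT.node 2855 (BT.node 2854 (BT.leaf cE2854) (BT.leaf cE2855)) (BT.leaf cE2856))) (BT.node 2859 (BT.node 2858 (BT.node 2857 (BT.leaf cE2857) (BT.leaf cE2858)) (BT.leaf cE2859)) (BT.node 2860 (BT.leaf cE2860) (BT.leaf cE2861)))))) (BT.node 2885 (BT.node 2873 (BT.node 2867 (BT.node 2864 (BT.node 2863 (BT.node 2862 (BT.leaf cE2862) (BT.leaf cE2863)) (BT.leaf cE2864)) (BT.node 2866 (BT.node 2865 (BT.leaf cE2865) (BT.leaf cE2866)) (BT.leaf cE2867))) (BT.node 2870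 (BT.node 2869 (BT.node 2868 (BT.leaf cE2868) (BT.leaf cE2869)) (BT.leaf cE2870)) (BT.node 2872 (BT.node 2871 (BT.leaf cE2871) (BT.leaf cE2872)) (BT.leaf cE2873)))) (BT.node 2879 (BT.node 2876 (BT.node 2875 (BT.node 2874 (BT.leaf cE2874) (BT.leaf cE2875)) (BT.leaf cE2876)) (BT.node 2878 (BT.node 2877 (BT.leaf cE2877) (BT.leaf cE2878)) (BT.leaf cE2879))) (BT.node 2882 (BT.node 2881 (BT.node 2880 (BT.leaf cE2880) (BT.leaf cE2881)) (BT.leaf cE2882)) (BT.node 2884 (BT.node 2883 (BT.leaf cE2883) (BT.leaf cE2884)) (BT.leaf cE2885))))) (BT.node 2897 (BT.node 2891 (BT.node 2888 (BT.node 2887 (BT.node 2886 (BT.leaf cE2886) (BT.leaf cE2887)) (BT.leaf cE2888)) (BT.node 2890 (BT.node 2889 (BT.leaf cE2889) (BT.leaf cE2890)) (BT.leaf cE2891))) (BT.node 2894 (BT.node 2893 (BT.node 2892 (BT.leaf cE2892) (BT.leaf cE2893)) (BT.leaf cE2894)) (BT.node 2896 (BT.node 2895 (BT.leaf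 cE2895) (BT.leaf cE2896)) (BT.leaf cE2897)))) (BT.node 2903 (BT.node 2900 (BT.node 2899 (BT.node 2898 (BT.leaf cE2898) (BT.leaf cE2899)) (BT.leaf cE2900)) (BT.node 2902 (BT.node 2901 (BT.leaf cE2901) (BT.leaf cE2902)) (BT.leaf cE2903))) (BT.node 2906 (BT.node 2905 (BT.node 2904 (BT.leaf cE2904) (BT.leaf cE2905)) (BT.leaf cE2906)) (BT.node 2907 (BT.leaf cE2907) (BT.leaf cE2908))))))) (BT.node 2955 (BT.node 2932 (BT.node 2920 (BT.node 2914 (BT.node 2911 (BT.node 2910 (BT.node 2909 (BT.leaf cE2909) (BT.leaf cE2910)) (BT.leaf cE2911)) (BT.node 2913 (BT.node 2912 (BT.leaf cE2912) (BT.leaf cE2913)) (BT.leaf cE2914))) (BT.node 2917 (BT.node 2916 (BT.node 2915 (BT.leaf cE2915) (BT.leaf cE2916)) (BT.leaf cE2917)) (BT.node 2919 (BT.node 2918 (BT.leaf cE2918) (BT.leaf cE2919)) (BT.leaf cE2920)))) (BT.node 2926 (BT.node 2923 (BT.node 2922 (BT.node 2921 (BT.leaf cE2921)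 (BT.leaf cE2922)) (BT.leaf cE2923)) (BT.node 2925 (BT.node 2924 (BT.leaf cE2924) (BT.leaf cE2925)) (BT.leaf cE2926))) (BT.node 2929 (BT.node 2928 (BT.node 2927 (BT.leaf cE2927) (BT.leaf cE2928)) (BT.leaf cE2929)) (BT.node 2931 (BT.node 2930 (BT.leaf cE2930) (BT.leaf cE2931)) (BT.leaf cE2932))))) (BT.node 2944 (BT.node 2938 (BT.node 2935 (BT.node 2934 (BT.node 2933 (BT.leaf cE2933) (BT.leaf cE2934)) (BT.leaf cE2935)) (BT.node 2937 (BT.node 2936 (BT.leaf cE2936) (BT.leaf cE2937)) (BT.leaf cE2938))) (BT.node 2941 (BT.node 2940 (BT.node 2939 (BT.leaf cE2939) (BT.leaf cE2940)) (BT.leaf cE2941)) (BT.node 2943 (BT.node 2942 (BT.leaf cE2942) (BT.leaf cE2943)) (BT.leaf cE2944)))) (BT.node 2950 (BT.node 2947 (BT.node 2946 (BT.node 2945 (BT.leaf cE2945) (BT.leaf cE2946)) (BT.leaf cE2947)) (BT.node 2949 (BT.node 2948 (BT.leaf cE2948) (BT.leaf cE2949)) (BT.leaf cE2950)))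 (BT.node 2953 (BT.node 2952 (BT.node 2951 (BT.leaf cE2951) (BT.leaf cE2952)) (BT.leaf cE2953)) (BT.node 2954 (BT.leaf cE2954) (BT.leaf cE2955)))))) (BT.node 2978 (BT.node 2967 (BT.node 2961 (BT.node 2958 (BT.node 2957 (BT.node 2956 (BT.leaf cE2956) (BT.leaf cE2957)) (BT.leaf cE2958)) (BT.node 2960 (BT.node 2959 (BT.leaf cE2959) (BT.leaf cE2960)) (BT.leaf cE2961))) (BT.node 2964 (BT.node 2963 (BT.node 2962 (BT.leaf cE2962) (BT.leaf cE2963)) (BT.leaf cE2964)) (BT.node 2966 (BT.node 2965 (BT.leaf cE2965) (BT.leaf cE2966)) (BT.leaf cE2967)))) (BT.node 2973 (BT.node 2970 (BT.node 2969 (BT.node 2968 (BT.leaf cE2968) (BT.leaf cE2969)) (BT.leaf cE2970)) (BT.node 2972 (BT.node 2971 (BT.leaf cE2971) (BT.leaf cE2972)) (BT.leaf cE2973))) (BT.node 2976 (BT.node 2975 (BT.node 2974 (BT.leaf cE2974) (BT.leaf cE2975)) (BT.leaf cE2976)) (BT.node 2977 (BT.leaf cE2977) (BT.leaf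 cE2978))))) (BT.node 2990 (BT.node 2984 (BT.node 2981 (BT.node 2980 (BT.node 2979 (BT.leaf cE2979) (BT.leaf cE2980)) (BT.leaf cE2981)) (BT.node 2983 (BT.node 2982 (BT.leaf cE2982) (BT.leaf cE2983)) (BT.leaf cE2984))) (BT.node 2987 (BT.node 2986 (BT.node 2985 (BT.leaf cE2985) (BT.leaf cE2986)) (BT.leaf cE2987)) (BT.node 2989 (BT.node 2988 (BT.leaf cE2988) (BT.leaf cE2989)) (BT.leaf cE2990)))) (BT.node 2996 (BT.node 2993 (BT.node 2992 (BT.node 2991 (BT.leaf cE2991) (BT.leaf cE2992)) (BT.leaf cE2993)) (BT.node 2995 (BT.node 2994 (BT.leaf cE2994) (BT.leaf cE2995)) (BT.leaf cE2996))) (BT.node 2999 (BT.node 2998 (BT.node 2997 (BT.leaf cE2997) (BT.leaf cE2998)) (BT.leaf cE2999)) (BT.node 3000 (BT.leaf cE3000) (BT.leaf cE3001))))))))))))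
/-- justification chunks -/
def colJT : BT ℕ := (BT.node 1500 (BT.node 750 (BT.node 375 (BT.node 187 (BT.node 93 (BT.node 46 (BT.node 23 (BT.node 11 (BT.node 5 (BT.node 2 (BT.node 1 (BT.node 0 (BT.leaf cJ0) (BT.leaf cJ1)) (BT.leaf cJ2)) (BT.node 4 (BT.node 3 (BT.leaf cJ3) (BT.leaf cJ4)) (BT.leaf cJ5))) (BT.node 8 (BT.node 7 (BT.node 6 (BT.leaf cJ6) (BT.leaf cJ7)) (BT.leaf cJ8)) (BT.node 10 (BT.node 9 (BT.leaf cJ9) (BT.leaf cJ10)) (BT.leaf cJ11)))) (BT.node 17 (BT.node 14 (BT.node 13 (BT.node 12 (BT.leaf cJ12) (BT.leaf cJ13)) (BT.leaf cJ14)) (BT.node 16 (BT.node 15 (BT.leaf cJ15) (BT.leaf cJ16)) (BT.leaf cJ17))) (BT.node 20 (BT.node 19 (BT.node 18 (BT.leaf cJ18) (BT.leaf cJ19)) (BT.leaf cJ20)) (BT.node 22 (BT.node 21 (BT.leaf cJ21) (BT.leaf cJ22)) (BT.leaf cJ23))))) (BT.node 35 (BT.node 29 (BT.node 26 (BT.node 25 (BT.node 24 (BT.leaf cJ24) (BT.leaf cJ25))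 (BT.leaf cJ26)) (BT.node 28 (BT.node 27 (BT.leaf cJ27) (BT.leaf cJ28)) (BT.leaf cJ29))) (BT.node 32 (BT.node 31 (BT.node 30 (BT.leaf cJ30) (BT.leaf cJ31)) (BT.leaf cJ32)) (BT.node 34 (BT.node 33 (BT.leaf cJ33) (BT.leaf cJ34)) (BT.leaf cJ35)))) (BT.node 41 (BT.node 38 (BT.node 37 (BT.node 36 (BT.leaf cJ36) (BT.leaf cJ37)) (BT.leaf cJ38)) (BT.node 40 (BT.node 39 (BT.leaf cJ39) (BT.leaf cJ40)) (BT.leaf cJ41))) (BT.node 44 (BT.node 43 (BT.node 42 (BT.leaf cJ42) (BT.leaf cJ43)) (BT.leaf cJ44)) (BT.node 45 (BT.leaf cJ45) (BT.leaf cJ46)))))) (BT.node 70 (BT.node 58 (BT.node 52 (BT.node 49 (BT.node 48 (BT.node 47 (BT.leaf cJ47) (BT.leaf cJ48)) (BT.leaf cJ49)) (BT.node 51 (BT.node 50 (BT.leaf cJ50) (BT.leaf cJ51)) (BT.leaf cJ52))) (BT.node 55 (BT.node 54 (BT.node 53 (BT.leaf cJ53) (BT.leaf cJ54)) (BT.leaf cJ55)) (BT.node 57 (BT.node 56 (BT.leaf cJ56) (BT.leaf cJ57))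 (BT.leaf cJ58)))) (BT.node 64 (BT.node 61 (BT.node 60 (BT.node 59 (BT.leaf cJ59) (BT.leaf cJ60)) (BT.leaf cJ61)) (BT.node 63 (BT.node 62 (BT.leaf cJ62) (BT.leaf cJ63)) (BT.leaf cJ64))) (BT.node 67 (BT.node 66 (BT.node 65 (BT.leaf cJ65) (BT.leaf cJ66)) (BT.leaf cJ67)) (BT.node 69 (BT.node 68 (BT.leaf cJ68) (BT.leaf cJ69)) (BT.leaf cJ70))))) (BT.node 82 (BT.node 76 (BT.node 73 (BT.node 72 (BT.node 71 (BT.leaf cJ71) (BT.leaf cJ72)) (BT.leaf cJ73)) (BT.node 75 (BT.node 74 (BT.leaf cJ74) (BT.leaf cJ75)) (BT.leaf cJ76))) (BT.node 79 (BT.node 78 (BT.node 77 (BT.leaf cJ77) (BT.leaf cJ78)) (BT.leaf cJ79)) (BT.node 81 (BT.node 80 (BT.leaf cJ80) (BT.leaf cJ81)) (BT.leaf cJ82)))) (BT.node 88 (BT.node 85 (BT.node 84 (BT.node 83 (BT.leaf cJ83) (BT.leaf cJ84)) (BT.leaf cJ85)) (BT.node 87 (BT.node 86 (BT.leaf cJ86) (BT.leaf cJ87)) (BT.leaf cJ88))) (BT.node 91 (BT.node 90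 (BT.node 89 (BT.leaf cJ89) (BT.leaf cJ90)) (BT.leaf cJ91)) (BT.node 92 (BT.leaf cJ92) (BT.leaf cJ93))))))) (BT.node 140 (BT.node 117 (BT.node 105 (BT.node 99 (BT.node 96 (BT.node 95 (BT.node 94 (BT.leaf cJ94) (BT.leaf cJ95)) (BT.leaf cJ96)) (BT.node 98 (BT.node 97 (BT.leaf cJ97) (BT.leaf cJ98)) (BT.leaf cJ99))) (BT.node 102 (BT.node 101 (BT.node 100 (BT.leaf cJ100) (BT.leaf cJ101)) (BT.leaf cJ102)) (BT.node 104 (BT.node 103 (BT.leaf cJ103) (BT.leaf cJ104)) (BT.leaf cJ105)))) (BT.node 111 (BT.node 108 (BT.node 107 (BT.node 106 (BT.leaf cJ106) (BT.leaf cJ107)) (BT.leaf cJ108)) (BT.node 110 (BT.node 109 (BT.leaf cJ109) (BT.leaf cJ110)) (BT.leaf cJ111))) (BT.node 114 (BT.node 113 (BT.node 112 (BT.leaf cJ112) (BT.leaf cJ113)) (BT.leaf cJ114)) (BT.node 116 (BT.node 115 (BT.leaf cJ115) (BT.leaf cJ116)) (BT.leaf cJ117))))) (BT.node 129 (BT.node 123 (BT.node 120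 (BT.node 119 (BT.node 118 (BT.leaf cJ118) (BT.leaf cJ119)) (BT.leaf cJ120)) (BT.node 122 (BT.node 121 (BT.leaf cJ121) (BT.leaf cJ122)) (BT.leaf cJ123))) (BT.node 126 (BT.node 125 (BT.node 124 (BT.leaf cJ124) (BT.leaf cJ125)) (BT.leaf cJ126)) (BT.node 128 (BT.node 127 (BT.leaf cJ127) (BT.leaf cJ128)) (BT.leaf cJ129)))) (BT.node 135 (BT.node 132 (BT.node 131 (BT.node 130 (BT.leaf cJ130) (BT.leaf cJ131)) (BT.leaf cJ132)) (BT.node 134 (BT.node 133 (BT.leaf cJ133) (BT.leaf cJ134)) (BT.leaf cJ135))) (BT.node 138 (BT.node 137 (BT.node 136 (BT.leaf cJ136) (BT.leaf cJ137)) (BT.leaf cJ138)) (BT.node 139 (BT.leaf cJ139) (BT.leaf cJ140)))))) (BT.node 164 (BT.node 152 (BT.node 146 (BT.node 143 (BT.node 142 (BT.node 141 (BT.leaf cJ141) (BT.leaf cJ142)) (BT.leaf cJ143)) (BT.node 145 (BT.node 144 (BT.leaf cJ144) (BT.leaf cJ145)) (BT.leaf cJ146))) (BT.node 149 (BT.node 148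 (BT.node 147 (BT.leaf cJ147) (BT.leaf cJ148)) (BT.leaf cJ149)) (BT.node 151 (BT.node 150 (BT.leaf cJ150) (BT.leaf cJ151)) (BT.leaf cJ152)))) (BT.node 158 (BT.node 155 (BT.node 154 (BT.node 153 (BT.leaf cJ153) (BT.leaf cJ154)) (BT.leaf cJ155)) (BT.node 157 (BT.node 156 (BT.leaf cJ156) (BT.leaf cJ157)) (BT.leaf cJ158))) (BT.node 161 (BT.node 160 (BT.node 159 (BT.leaf cJ159) (BT.leaf cJ160)) (BT.leaf cJ161)) (BT.node 163 (BT.node 162 (BT.leaf cJ162) (BT.leaf cJ163)) (BT.leaf cJ164))))) (BT.node 176 (BT.node 170 (BT.node 167 (BT.node 166 (BT.node 165 (BT.leaf cJ165) (BT.leaf cJ166)) (BT.leaf cJ167)) (BT.node 169 (BT.node 168 (BT.leaf cJ168) (BT.leaf cJ169)) (BT.leaf cJ170))) (BT.node 173 (BT.node 172 (BT.node 171 (BT.leaf cJ171) (BT.leaf cJ172)) (BT.leaf cJ173)) (BT.node 175 (BT.node 174 (BT.leaf cJ174) (BT.leaf cJ175)) (BT.leaf cJ176)))) (BT.node 182 (BT.node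 179 (BT.node 178 (BT.node 177 (BT.leaf cJ177) (BT.leaf cJ178)) (BT.leaf cJ179)) (BT.node 181 (BT.node 180 (BT.leaf cJ180) (BT.leaf cJ181)) (BT.leaf cJ182))) (BT.node 185 (BT.node 184 (BT.node 183 (BT.leaf cJ183) (BT.leaf cJ184)) (BT.leaf cJ185)) (BT.node 186 (BT.leaf cJ186) (BT.leaf cJ187)))))))) (BT.node 281 (BT.node 234 (BT.node 211 (BT.node 199 (BT.node 193 (BT.node 190 (BT.node 189 (BT.node 188 (BT.leaf cJ188) (BT.leaf cJ189)) (BT.leaf cJ190)) (BT.node 192 (BT.node 191 (BT.leaf cJ191) (BT.leaf cJ192)) (BT.leaf cJ193))) (BT.node 196 (BT.node 195 (BT.node 194 (BT.leaf cJ194) (BT.leaf cJ195)) (BT.leaf cJ196)) (BT.node 198 (BT.node 197 (BT.leaf cJ197) (BT.leaf cJ198)) (BT.leaf cJ199)))) (BT.node 205 (BT.node 202 (BT.node 201 (BT.node 200 (BT.leaf cJ200) (BT.leaf cJ201)) (BT.leaf cJ202)) (BT.node 204 (BT.node 203 (BT.leaf cJ203) (BT.leaf cJ204)) (BT.leaf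 cJ205))) (BT.node 208 (BT.node 207 (BT.node 206 (BT.leaf cJ206) (BT.leaf cJ207)) (BT.leaf cJ208)) (BT.node 210 (BT.node 209 (BT.leaf cJ209) (BT.leaf cJ210)) (BT.leaf cJ211))))) (BT.node 223 (BT.node 217 (BT.node 214 (BT.node 213 (BT.node 212 (BT.leaf cJ212) (BT.leaf cJ213)) (BT.leaf cJ214)) (BT.node 216 (BT.node 215 (BT.leaf cJ215) (BT.leaf cJ216)) (BT.leaf cJ217))) (BT.node 220 (BT.node 219 (BT.node 218 (BT.leaf cJ218) (BT.leaf cJ219)) (BT.leaf cJ220)) (BT.node 222 (BT.node 221 (BT.leaf cJ221) (BT.leaf cJ222)) (BT.leaf cJ223)))) (BT.node 229 (BT.node 226 (BT.node 225 (BT.node 224 (BT.leaf cJ224) (BT.leaf cJ225)) (BT.leaf cJ226)) (BT.node 228 (BT.node 227 (BT.leaf cJ227) (BT.leaf cJ228)) (BT.leaf cJ229))) (BT.node 232 (BT.node 231 (BT.node 230 (BT.leaf cJ230) (BT.leaf cJ231)) (BT.leaf cJ232)) (BT.node 233 (BT.leaf cJ233) (BT.leaf cJ234)))))) (BT.node 258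 (BT.node 246 (BT.node 240 (BT.node 237 (BT.node 236 (BT.node 235 (BT.leaf cJ235) (BT.leaf cJ236)) (BT.leaf cJ237)) (BT.node 239 (BT.node 238 (BT.leaf cJ238) (BT.leaf cJ239)) (BT.leaf cJ240))) (BT.node 243 (BT.node 242 (BT.node 241 (BT.leaf cJ241) (BT.leaf cJ242)) (BT.leaf cJ243)) (BT.node 245 (BT.node 244 (BT.leaf cJ244) (BT.leaf cJ245)) (BT.leaf cJ246)))) (BT.node 252 (BT.node 249 (BT.node 248 (BT.node 247 (BT.leaf cJ247) (BT.leaf cJ248)) (BT.leaf cJ249)) (BT.node 251 (BT.node 250 (BT.leaf cJ250) (BT.leaf cJ251)) (BT.leaf cJ252))) (BT.node 255 (BT.node 254 (BT.node 253 (BT.leaf cJ253) (BT.leaf cJ254)) (BT.leaf cJ255)) (BT.node 257 (BT.node 256 (BT.leaf cJ256) (BT.leaf cJ257)) (BT.leaf cJ258))))) (BT.node 270 (BT.node 264 (BT.node 261 (BT.node 260 (BT.node 259 (BT.leaf cJ259) (BT.leaf cJ260)) (BT.leaf cJ261)) (BT.node 263 (BT.node 262 (BT.leaf cJ262) (BT.leaf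 cJ263)) (BT.leaf cJ264))) (BT.node 267 (BT.node 266 (BT.node 265 (BT.leaf cJ265) (BT.leaf cJ266)) (BT.leaf cJ267)) (BT.node 269 (BT.node 268 (BT.leaf cJ268) (BT.leaf cJ269)) (BT.leaf cJ270)))) (BT.node 276 (BT.node 273 (BT.node 272 (BT.node 271 (BT.leaf cJ271) (BT.leaf cJ272)) (BT.leaf cJ273)) (BT.node 275 (BT.node 274 (BT.leaf cJ274) (BT.leaf cJ275)) (BT.leaf cJ276))) (BT.node 279 (BT.node 278 (BT.node 277 (BT.leaf cJ277) (BT.leaf cJ278)) (BT.leaf cJ279)) (BT.node 280 (BT.leaf cJ280) (BT.leaf cJ281))))))) (BT.node 328 (BT.node 305 (BT.node 293 (BT.node 287 (BT.node 284 (BT.node 283 (BT.node 282 (BT.leaf cJ282) (BT.leaf cJ283)) (BT.leaf cJ284)) (BT.node 286 (BT.node 285 (BT.leaf cJ285) (BT.leaf cJ286)) (BT.leaf cJ287))) (BT.node 290 (BT.node 289 (BT.node 288 (BT.leaf cJ288) (BT.leaf cJ289)) (BT.leaf cJ290)) (BT.node 292 (BT.node 291 (BT.leaf cJ291) (BT.leaf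 cJ292)) (BT.leaf cJ293)))) (BT.node 299 (BT.node 296 (BT.node 295 (BT.node 294 (BT.leaf cJ294) (BT.leaf cJ295)) (BT.leaf cJ296)) (BT.node 298 (BT.node 297 (BT.leaf cJ297) (BT.leaf cJ298)) (BT.leaf cJ299))) (BT.node 302 (BT.node 301 (BT.node 300 (BT.leaf cJ300) (BT.leaf cJ301)) (BT.leaf cJ302)) (BT.node 304 (BT.node 303 (BT.leaf cJ303) (BT.leaf cJ304)) (BT.leaf cJ305))))) (BT.node 317 (BT.node 311 (BT.node 308 (BT.node 307 (BT.node 306 (BT.leaf cJ306) (BT.leaf cJ307)) (BT.leaf cJ308)) (BT.node 310 (BT.node 309 (BT.leaf cJ309) (BT.leaf cJ310)) (BT.leaf cJ311))) (BT.node 314 (BT.node 313 (BT.node 312 (BT.leaf cJ312) (BT.leaf cJ313)) (BT.leaf cJ314)) (BT.node 316 (BT.node 315 (BT.leaf cJ315) (BT.leaf cJ316)) (BT.leaf cJ317)))) (BT.node 323 (BT.node 320 (BT.node 319 (BT.node 318 (BT.leaf cJ318) (BT.leaf cJ319)) (BT.leaf cJ320)) (BT.node 322 (BT.node 321 (BT.leaf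 cJ321) (BT.leaf cJ322)) (BT.leaf cJ323))) (BT.node 326 (BT.node 325 (BT.node 324 (BT.leaf cJ324) (BT.leaf cJ325)) (BT.leaf cJ326)) (BT.node 327 (BT.leaf cJ327) (BT.leaf cJ328)))))) (BT.node 352 (BT.node 340 (BT.node 334 (BT.node 331 (BT.node 330 (BT.node 329 (BT.leaf cJ329) (BT.leaf cJ330)) (BT.leaf cJ331)) (BT.node 333 (BT.node 332 (BT.leaf cJ332) (BT.leaf cJ333)) (BT.leaf cJ334))) (BT.node 337 (BT.node 336 (BT.node 335 (BT.leaf cJ335) (BT.leaf cJ336)) (BT.leaf cJ337)) (BT.node 339 (BT.node 338 (BT.leaf cJ338) (BT.leaf cJ339)) (BT.leaf cJ340)))) (BT.node 346 (BT.node 343 (BT.node 342 (BT.node 341 (BT.leaf cJ341) (BT.leaf cJ342)) (BT.leaf cJ343)) (BT.node 345 (BT.node 344 (BT.leaf cJ344) (BT.leaf cJ345)) (BT.leaf cJ346))) (BT.node 349 (BT.node 348 (BT.node 347 (BT.leaf cJ347) (BT.leaf cJ348)) (BT.leaf cJ349)) (BT.node 351 (BT.node 350 (BT.leaf cJ350) (BT.leaf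 cJ351)) (BT.leaf cJ352))))) (BT.node 364 (BT.node 358 (BT.node 355 (BT.node 354 (BT.node 353 (BT.leaf cJ353) (BT.leaf cJ354)) (BT.leaf cJ355)) (BT.node 357 (BT.node 356 (BT.leaf cJ356) (BT.leaf cJ357)) (BT.leaf cJ358))) (BT.node 361 (BT.node 360 (BT.node 359 (BT.leaf cJ359) (BT.leaf cJ360)) (BT.leaf cJ361)) (BT.node 363 (BT.node 362 (BT.leaf cJ362) (BT.leaf cJ363)) (BT.leaf cJ364)))) (BT.node 370 (BT.node 367 (BT.node 366 (BT.node 365 (BT.leaf cJ365) (BT.leaf cJ366)) (BT.leaf cJ367)) (BT.node 369 (BT.node 368 (BT.leaf cJ368) (BT.leaf cJ369)) (BT.leaf cJ370))) (BT.node 373 (BT.node 372 (BT.node 371 (BT.leaf cJ371) (BT.leaf cJ372)) (BT.leaf cJ373)) (BT.node 374 (BT.leaf cJ374) (BT.leaf cJ375))))))))) (BT.node 563 (BT.node 469 (BT.node 422 (BT.node 399 (BT.node 387 (BT.node 381 (BT.node 378 (BT.node 377 (BT.node 376 (BT.leaf cJ376) (BT.leaf cJ377)) (BT.leaf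 cJ378)) (BT.node 380 (BT.node 379 (BT.leaf cJ379) (BT.leaf cJ380)) (BT.leaf cJ381))) (BT.node 384 (BT.node 383 (BT.node 382 (BT.leaf cJ382) (BT.leaf cJ383)) (BT.leaf cJ384)) (BT.node 386 (BT.node 385 (BT.leaf cJ385) (BT.leaf cJ386)) (BT.leaf cJ387)))) (BT.node 393 (BT.node 390 (BT.node 389 (BT.node 388 (BT.leaf cJ388) (BT.leaf cJ389)) (BT.leaf cJ390)) (BT.node 392 (BT.node 391 (BT.leaf cJ391) (BT.leaf cJ392)) (BT.leaf cJ393))) (BT.node 396 (BT.node 395 (BT.node 394 (BT.leaf cJ394) (BT.leaf cJ395)) (BT.leaf cJ396)) (BT.node 398 (BT.node 397 (BT.leaf cJ397) (BT.leaf cJ398)) (BT.leaf cJ399))))) (BT.node 411 (BT.node 405 (BT.node 402 (BT.node 401 (BT.node 400 (BT.leaf cJ400) (BT.leaf cJ401)) (BT.leaf cJ402)) (BT.node 404 (BT.node 403 (BT.leaf cJ403) (BT.leaf cJ404)) (BT.leaf cJ405))) (BT.node 408 (BT.node 407 (BT.node 406 (BT.leaf cJ406) (BT.leaf cJ407)) (BT.leaf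 cJ408)) (BT.node 410 (BT.node 409 (BT.leaf cJ409) (BT.leaf cJ410)) (BT.leaf cJ411)))) (BT.node 417 (BT.node 414 (BT.node 413 (BT.node 412 (BT.leaf cJ412) (BT.leaf cJ413)) (BT.leaf cJ414)) (BT.node 416 (BT.node 415 (BT.leaf cJ415) (BT.leaf cJ416)) (BT.leaf cJ417))) (BT.node 420 (BT.node 419 (BT.node 418 (BT.leaf cJ418) (BT.leaf cJ419)) (BT.leaf cJ420)) (BT.node 421 (BT.leaf cJ421) (BT.leaf cJ422)))))) (BT.node 446 (BT.node 434 (BT.node 428 (BT.node 425 (BT.node 424 (BT.node 423 (BT.leaf cJ423) (BT.leaf cJ424)) (BT.leaf cJ425)) (BT.node 427 (BT.node 426 (BT.leaf cJ426) (BT.leaf cJ427)) (BT.leaf cJ428))) (BT.node 431 (BT.node 430 (BT.node 429 (BT.leaf cJ429) (BT.leaf cJ430)) (BT.leaf cJ431)) (BT.node 433 (BT.node 432 (BT.leaf cJ432) (BT.leaf cJ433)) (BT.leaf cJ434)))) (BT.node 440 (BT.node 437 (BT.node 436 (BT.node 435 (BT.leaf cJ435) (BT.leaf cJ436)) (BT.leaf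 cJ437)) (BT.node 439 (BT.node 438 (BT.leaf cJ438) (BT.leaf cJ439)) (BT.leaf cJ440))) (BT.node 443 (BT.node 442 (BT.node 441 (BT.leaf cJ441) (BT.leaf cJ442)) (BT.leaf cJ443)) (BT.node 445 (BT.node 444 (BT.leaf cJ444) (BT.leaf cJ445)) (BT.leaf cJ446))))) (BT.node 458 (BT.node 452 (BT.node 449 (BT.node 448 (BT.node 447 (BT.leaf cJ447) (BT.leaf cJ448)) (BT.leaf cJ449)) (BT.node 451 (BT.node 450 (BT.leaf cJ450) (BT.leaf cJ451)) (BT.leaf cJ452))) (BT.node 455 (BT.node 454 (BT.node 453 (BT.leaf cJ453) (BT.leaf cJ454)) (BT.leaf cJ455)) (BT.node 457 (BT.node 456 (BT.leaf cJ456) (BT.leaf cJ457)) (BT.leaf cJ458)))) (BT.node 464 (BT.node 461 (BT.node 460 (BT.node 459 (BT.leaf cJ459) (BT.leaf cJ460)) (BT.leaf cJ461)) (BT.node 463 (BT.node 462 (BT.leaf cJ462) (BT.leaf cJ463)) (BT.leaf cJ464))) (BT.node 467 (BT.node 466 (BT.node 465 (BT.leaf cJ465) (BT.leaf cJ466)) (BT.leaf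 cJ467)) (BT.node 468 (BT.leaf cJ468) (BT.leaf cJ469))))))) (BT.node 516 (BT.node 493 (BT.node 481 (BT.node 475 (BT.node 472 (BT.node 471 (BT.node 470 (BT.leaf cJ470) (BT.leaf cJ471)) (BT.leaf cJ472)) (BT.node 474 (BT.node 473 (BT.leaf cJ473) (BT.leaf cJ474)) (BT.leaf cJ475))) (BT.node 478 (BT.node 477 (BT.node 476 (BT.leaf cJ476) (BT.leaf cJ477)) (BT.leaf cJ478)) (BT.node 480 (BT.node 479 (BT.leaf cJ479) (BT.leaf cJ480)) (BT.leaf cJ481)))) (BT.node 487 (BT.node 484 (BT.node 483 (BT.node 482 (BT.leaf cJ482) (BT.leaf cJ483)) (BT.leaf cJ484)) (BT.node 486 (BT.node 485 (BT.leaf cJ485) (BT.leaf cJ486)) (BT.leaf cJ487))) (BT.node 490 (BT.node 489 (BT.node 488 (BT.leaf cJ488) (BT.leaf cJ489)) (BT.leaf cJ490)) (BT.node 492 (BT.node 491 (BT.leaf cJ491) (BT.leaf cJ492)) (BT.leaf cJ493))))) (BT.node 505 (BT.node 499 (BT.node 496 (BT.node 495 (BT.node 494 (BT.leaf cJ494)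 (BT.leaf cJ495)) (BT.leaf cJ496)) (BT.node 498 (BT.node 497 (BT.leaf cJ497) (BT.leaf cJ498)) (BT.leaf cJ499))) (BT.node 502 (BT.node 501 (BT.node 500 (BT.leaf cJ500) (BT.leaf cJ501)) (BT.leaf cJ502)) (BT.node 504 (BT.node 503 (BT.leaf cJ503) (BT.leaf cJ504)) (BT.leaf cJ505)))) (BT.node 511 (BT.node 508 (BT.node 507 (BT.node 506 (BT.leaf cJ506) (BT.leaf cJ507)) (BT.leaf cJ508)) (BT.node 510 (BT.node 509 (BT.leaf cJ509) (BT.leaf cJ510)) (BT.leaf cJ511))) (BT.node 514 (BT.node 513 (BT.node 512 (BT.leaf cJ512) (BT.leaf cJ513)) (BT.leaf cJ514)) (BT.node 515 (BT.leaf cJ515) (BT.leaf cJ516)))))) (BT.node 540 (BT.node 528 (BT.node 522 (BT.node 519 (BT.node 518 (BT.node 517 (BT.leaf cJ517) (BT.leaf cJ518)) (BT.leaf cJ519)) (BT.node 521 (BT.node 520 (BT.leaf cJ520) (BT.leaf cJ521)) (BT.leaf cJ522))) (BT.node 525 (BT.node 524 (BT.node 523 (BT.leaf cJ523) (BT.leaf cJ524))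 (BT.leaf cJ525)) (BT.node 527 (BT.node 526 (BT.leaf cJ526) (BT.leaf cJ527)) (BT.leaf cJ528)))) (BT.node 534 (BT.node 531 (BT.node 530 (BT.node 529 (BT.leaf cJ529) (BT.leaf cJ530)) (BT.leaf cJ531)) (BT.node 533 (BT.node 532 (BT.leaf cJ532) (BT.leaf cJ533)) (BT.leaf cJ534))) (BT.node 537 (BT.node 536 (BT.node 535 (BT.leaf cJ535) (BT.leaf cJ536)) (BT.leaf cJ537)) (BT.node 539 (BT.node 538 (BT.leaf cJ538) (BT.leaf cJ539)) (BT.leaf cJ540))))) (BT.node 552 (BT.node 546 (BT.node 543 (BT.node 542 (BT.node 541 (BT.leaf cJ541) (BT.leaf cJ542)) (BT.leaf cJ543)) (BT.node 545 (BT.node 544 (BT.leaf cJ544) (BT.leaf cJ545)) (BT.leaf cJ546))) (BT.node 549 (BT.node 548 (BT.node 547 (BT.leaf cJ547) (BT.leaf cJ548)) (BT.leaf cJ549)) (BT.node 551 (BT.node 550 (BT.leaf cJ550) (BT.leaf cJ551)) (BT.leaf cJ552)))) (BT.node 558 (BT.node 555 (BT.node 554 (BT.node 553 (BT.leaf cJ553)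 (BT.leaf cJ554)) (BT.leaf cJ555)) (BT.node 557 (BT.node 556 (BT.leaf cJ556) (BT.leaf cJ557)) (BT.leaf cJ558))) (BT.node 561 (BT.node 560 (BT.node 559 (BT.leaf cJ559) (BT.leaf cJ560)) (BT.leaf cJ561)) (BT.node 562 (BT.leaf cJ562) (BT.leaf cJ563)))))))) (BT.node 657 (BT.node 610 (BT.node 587 (BT.node 575 (BT.node 569 (BT.node 566 (BT.node 565 (BT.node 564 (BT.leaf cJ564) (BT.leaf cJ565)) (BT.leaf cJ566)) (BT.node 568 (BT.node 567 (BT.leaf cJ567) (BT.leaf cJ568)) (BT.leaf cJ569))) (BT.node 572 (BT.node 571 (BT.node 570 (BT.leaf cJ570) (BT.leaf cJ571)) (BT.leaf cJ572)) (BT.node 574 (BT.node 573 (BT.leaf cJ573) (BT.leaf cJ574)) (BT.leaf cJ575)))) (BT.node 581 (BT.node 578 (BT.node 577 (BT.node 576 (BT.leaf cJ576) (BT.leaf cJ577)) (BT.leaf cJ578)) (BT.node 580 (BT.node 579 (BT.leaf cJ579) (BT.leaf cJ580)) (BT.leaf cJ581))) (BT.node 584 (BT.node 583 (BT.node 582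 (BT.leaf cJ582) (BT.leaf cJ583)) (BT.leaf cJ584)) (BT.node 586 (BT.node 585 (BT.leaf cJ585) (BT.leaf cJ586)) (BT.leaf cJ587))))) (BT.node 599 (BT.node 593 (BT.node 590 (BT.node 589 (BT.node 588 (BT.leaf cJ588) (BT.leaf cJ589)) (BT.leaf cJ590)) (BT.node 592 (BT.node 591 (BT.leaf cJ591) (BT.leaf cJ592)) (BT.leaf cJ593))) (BT.node 596 (BT.node 595 (BT.node 594 (BT.leaf cJ594) (BT.leaf cJ595)) (BT.leaf cJ596)) (BT.node 598 (BT.node 597 (BT.leaf cJ597) (BT.leaf cJ598)) (BT.leaf cJ599)))) (BT.node 605 (BT.node 602 (BT.node 601 (BT.node 600 (BT.leaf cJ600) (BT.leaf cJ601)) (BT.leaf cJ602)) (BT.node 604 (BT.node 603 (BT.leaf cJ603) (BT.leaf cJ604)) (BT.leaf cJ605))) (BT.node 608 (BT.node 607 (BT.node 606 (BT.leaf cJ606) (BT.leaf cJ607)) (BT.leaf cJ608)) (BT.node 609 (BT.leaf cJ609) (BT.leaf cJ610)))))) (BT.node 634 (BT.node 622 (BT.node 616 (BT.node 613 (BT.node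 612 (BT.node 611 (BT.leaf cJ611) (BT.leaf cJ612)) (BT.leaf cJ613)) (BT.node 615 (BT.node 614 (BT.leaf cJ614) (BT.leaf cJ615)) (BT.leaf cJ616))) (BT.node 619 (BT.node 618 (BT.node 617 (BT.leaf cJ617) (BT.leaf cJ618)) (BT.leaf cJ619)) (BT.node 621 (BT.node 620 (BT.leaf cJ620) (BT.leaf cJ621)) (BT.leaf cJ622)))) (BT.node 628 (BT.node 625 (BT.node 624 (BT.node 623 (BT.leaf cJ623) (BT.leaf cJ624)) (BT.leaf cJ625)) (BT.node 627 (BT.node 626 (BT.leaf cJ626) (BT.leaf cJ627)) (BT.leaf cJ628))) (BT.node 631 (BT.node 630 (BT.node 629 (BT.leaf cJ629) (BT.leaf cJ630)) (BT.leaf cJ631)) (BT.node 633 (BT.node 632 (BT.leaf cJ632) (BT.leaf cJ633)) (BT.leaf cJ634))))) (BT.node 646 (BT.node 640 (BT.node 637 (BT.node 636 (BT.node 635 (BT.leaf cJ635) (BT.leaf cJ636)) (BT.leaf cJ637)) (BT.node 639 (BT.node 638 (BT.leaf cJ638) (BT.leaf cJ639)) (BT.leaf cJ640))) (BT.node 643 (BT.node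 642 (BT.node 641 (BT.leaf cJ641) (BT.leaf cJ642)) (BT.leaf cJ643)) (BT.node 645 (BT.node 644 (BT.leaf cJ644) (BT.leaf cJ645)) (BT.leaf cJ646)))) (BT.node 652 (BT.node 649 (BT.node 648 (BT.node 647 (BT.leaf cJ647) (BT.leaf cJ648)) (BT.leaf cJ649)) (BT.node 651 (BT.node 650 (BT.leaf cJ650) (BT.leaf cJ651)) (BT.leaf cJ652))) (BT.node 655 (BT.node 654 (BT.node 653 (BT.leaf cJ653) (BT.leaf cJ654)) (BT.leaf cJ655)) (BT.node 656 (BT.leaf cJ656) (BT.leaf cJ657))))))) (BT.node 704 (BT.node 681 (BT.node 669 (BT.node 663 (BT.node 660 (BT.node 659 (BT.node 658 (BT.leaf cJ658) (BT.leaf cJ659)) (BT.leaf cJ660)) (BT.node 662 (BT.node 661 (BT.leaf cJ661) (BT.leaf cJ662)) (BT.leaf cJ663))) (BT.node 666 (BT.node 665 (BT.node 664 (BT.leaf cJ664) (BT.leaf cJ665)) (BT.leaf cJ666)) (BT.node 668 (BT.node 667 (BT.leaf cJ667) (BT.leaf cJ668)) (BT.leaf cJ669)))) (BT.node 675 (BT.node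 672 (BT.node 671 (BT.node 670 (BT.leaf cJ670) (BT.leaf cJ671)) (BT.leaf cJ672)) (BT.node 674 (BT.node 673 (BT.leaf cJ673) (BT.leaf cJ674)) (BT.leaf cJ675))) (BT.node 678 (BT.node 677 (BT.node 676 (BT.leaf cJ676) (BT.leaf cJ677)) (BT.leaf cJ678)) (BT.node 680 (BT.node 679 (BT.leaf cJ679) (BT.leaf cJ680)) (BT.leaf cJ681))))) (BT.node 693 (BT.node 687 (BT.node 684 (BT.node 683 (BT.node 682 (BT.leaf cJ682) (BT.leaf cJ683)) (BT.leaf cJ684)) (BT.node 686 (BT.node 685 (BT.leaf cJ685) (BT.leaf cJ686)) (BT.leaf cJ687))) (BT.node 690 (BT.node 689 (BT.node 688 (BT.leaf cJ688) (BT.leaf cJ689)) (BT.leaf cJ690)) (BT.node 692 (BT.node 691 (BT.leaf cJ691) (BT.leaf cJ692)) (BT.leaf cJ693)))) (BT.node 699 (BT.node 696 (BT.node 695 (BT.node 694 (BT.leaf cJ694) (BT.leaf cJ695)) (BT.leaf cJ696)) (BT.node 698 (BT.node 697 (BT.leaf cJ697) (BT.leaf cJ698)) (BT.leaf cJ699))) (BT.node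 702 (BT.node 701 (BT.node 700 (BT.leaf cJ700) (BT.leaf cJ701)) (BT.leaf cJ702)) (BT.node 703 (BT.leaf cJ703) (BT.leaf cJ704)))))) (BT.node 727 (BT.node 716 (BT.node 710 (BT.node 707 (BT.node 706 (BT.node 705 (BT.leaf cJ705) (BT.leaf cJ706)) (BT.leaf cJ707)) (BT.node 709 (BT.node 708 (BT.leaf cJ708) (BT.leaf cJ709)) (BT.leaf cJ710))) (BT.node 713 (BT.node 712 (BT.node 711 (BT.leaf cJ711) (BT.leaf cJ712)) (BT.leaf cJ713)) (BT.node 715 (BT.node 714 (BT.leaf cJ714) (BT.leaf cJ715)) (BT.leaf cJ716)))) (BT.node 722 (BT.node 719 (BT.node 718 (BT.node 717 (BT.leaf cJ717) (BT.leaf cJ718)) (BT.leaf cJ719)) (BT.node 721 (BT.node 720 (BT.leaf cJ720) (BT.leaf cJ721)) (BT.leaf cJ722))) (BT.node 725 (BT.node 724 (BT.node 723 (BT.leaf cJ723) (BT.leaf cJ724)) (BT.leaf cJ725)) (BT.node 726 (BT.leaf cJ726) (BT.leaf cJ727))))) (BT.node 739 (BT.node 733 (BT.node 730 (BT.node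 729 (BT.node 728 (BT.leaf cJ728) (BT.leaf cJ729)) (BT.leaf cJ730)) (BT.node 732 (BT.node 731 (BT.leaf cJ731) (BT.leaf cJ732)) (BT.leaf cJ733))) (BT.node 736 (BT.node 735 (BT.node 734 (BT.leaf cJ734) (BT.leaf cJ735)) (BT.leaf cJ736)) (BT.node 738 (BT.node 737 (BT.leaf cJ737) (BT.leaf cJ738)) (BT.leaf cJ739)))) (BT.node 745 (BT.node 742 (BT.node 741 (BT.node 740 (BT.leaf cJ740) (BT.leaf cJ741)) (BT.leaf cJ742)) (BT.node 744 (BT.node 743 (BT.leaf cJ743) (BT.leaf cJ744)) (BT.leaf cJ745))) (BT.node 748 (BT.node 747 (BT.node 746 (BT.leaf cJ746) (BT.leaf cJ747)) (BT.leaf cJ748)) (BT.node 749 (BT.leaf cJ749) (BT.leaf cJ750)))))))))) (BT.node 1125 (BT.node 938 (BT.node 844 (BT.node 797 (BT.node 774 (BT.node 762 (BT.node 756 (BT.node 753 (BT.node 752 (BT.node 751 (BT.leaf cJ751) (BT.leaf cJ752)) (BT.leaf cJ753)) (BT.node 755 (BT.node 754 (BT.leaf cJ754) (BT.leaf cJ755))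 (BT.leaf cJ756))) (BT.node 759 (BT.node 758 (BT.node 757 (BT.leaf cJ757) (BT.leaf cJ758)) (BT.leaf cJ759)) (BT.node 761 (BT.node 760 (BT.leaf cJ760) (BT.leaf cJ761)) (BT.leaf cJ762)))) (BT.node 768 (BT.node 765 (BT.node 764 (BT.node 763 (BT.leaf cJ763) (BT.leaf cJ764)) (BT.leaf cJ765)) (BT.node 767 (BT.node 766 (BT.leaf cJ766) (BT.leaf cJ767)) (BT.leaf cJ768))) (BT.node 771 (BT.node 770 (BT.node 769 (BT.leaf cJ769) (BT.leaf cJ770)) (BT.leaf cJ771)) (BT.node 773 (BT.node 772 (BT.leaf cJ772) (BT.leaf cJ773)) (BT.leaf cJ774))))) (BT.node 786 (BT.node 780 (BT.node 777 (BT.node 776 (BT.node 775 (BT.leaf cJ775) (BT.leaf cJ776)) (BT.leaf cJ777)) (BT.node 779 (BT.node 778 (BT.leaf cJ778) (BT.leaf cJ779)) (BT.leaf cJ780))) (BT.node 783 (BT.node 782 (BT.node 781 (BT.leaf cJ781) (BT.leaf cJ782)) (BT.leaf cJ783)) (BT.node 785 (BT.node 784 (BT.leaf cJ784) (BT.leaf cJ785))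 (BT.leaf cJ786)))) (BT.node 792 (BT.node 789 (BT.node 788 (BT.node 787 (BT.leaf cJ787) (BT.leaf cJ788)) (BT.leaf cJ789)) (BT.node 791 (BT.node 790 (BT.leaf cJ790) (BT.leaf cJ791)) (BT.leaf cJ792))) (BT.node 795 (BT.node 794 (BT.node 793 (BT.leaf cJ793) (BT.leaf cJ794)) (BT.leaf cJ795)) (BT.node 796 (BT.leaf cJ796) (BT.leaf cJ797)))))) (BT.node 821 (BT.node 809 (BT.node 803 (BT.node 800 (BT.node 799 (BT.node 798 (BT.leaf cJ798) (BT.leaf cJ799)) (BT.leaf cJ800)) (BT.node 802 (BT.node 801 (BT.leaf cJ801) (BT.leaf cJ802)) (BT.leaf cJ803))) (BT.node 806 (BT.node 805 (BT.node 804 (BT.leaf cJ804) (BT.leaf cJ805)) (BT.leaf cJ806)) (BT.node 808 (BT.node 807 (BT.leaf cJ807) (BT.leaf cJ808)) (BT.leaf cJ809)))) (BT.node 815 (BT.node 812 (BT.node 811 (BT.node 810 (BT.leaf cJ810) (BT.leaf cJ811)) (BT.leaf cJ812)) (BT.node 814 (BT.node 813 (BT.leaf cJ813) (BT.leaf cJ814))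 (BT.leaf cJ815))) (BT.node 818 (BT.node 817 (BT.node 816 (BT.leaf cJ816) (BT.leaf cJ817)) (BT.leaf cJ818)) (BT.node 820 (BT.node 819 (BT.leaf cJ819) (BT.leaf cJ820)) (BT.leaf cJ821))))) (BT.node 833 (BT.node 827 (BT.node 824 (BT.node 823 (BT.node 822 (BT.leaf cJ822) (BT.leaf cJ823)) (BT.leaf cJ824)) (BT.node 826 (BT.node 825 (BT.leaf cJ825) (BT.leaf cJ826)) (BT.leaf cJ827))) (BT.node 830 (BT.node 829 (BT.node 828 (BT.leaf cJ828) (BT.leaf cJ829)) (BT.leaf cJ830)) (BT.node 832 (BT.node 831 (BT.leaf cJ831) (BT.leaf cJ832)) (BT.leaf cJ833)))) (BT.node 839 (BT.node 836 (BT.node 835 (BT.node 834 (BT.leaf cJ834) (BT.leaf cJ835)) (BT.leaf cJ836)) (BT.node 838 (BT.node 837 (BT.leaf cJ837) (BT.leaf cJ838)) (BT.leaf cJ839))) (BT.node 842 (BT.node 841 (BT.node 840 (BT.leaf cJ840) (BT.leaf cJ841)) (BT.leaf cJ842)) (BT.node 843 (BT.leaf cJ843) (BT.leaf cJ844))))))) (BT.node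 891 (BT.node 868 (BT.node 856 (BT.node 850 (BT.node 847 (BT.node 846 (BT.node 845 (BT.leaf cJ845) (BT.leaf cJ846)) (BT.leaf cJ847)) (BT.node 849 (BT.node 848 (BT.leaf cJ848) (BT.leaf cJ849)) (BT.leaf cJ850))) (BT.node 853 (BT.node 852 (BT.node 851 (BT.leaf cJ851) (BT.leaf cJ852)) (BT.leaf cJ853)) (BT.node 855 (BT.node 854 (BT.leaf cJ854) (BT.leaf cJ855)) (BT.leaf cJ856)))) (BT.node 862 (BT.node 859 (BT.node 858 (BT.node 857 (BT.leaf cJ857) (BT.leaf cJ858)) (BT.leaf cJ859)) (BT.node 861 (BT.node 860 (BT.leaf cJ860) (BT.leaf cJ861)) (BT.leaf cJ862))) (BT.node 865 (BT.node 864 (BT.node 863 (BT.leaf cJ863) (BT.leaf cJ864)) (BT.leaf cJ865)) (BT.node 867 (BT.node 866 (BT.leaf cJ866) (BT.leaf cJ867)) (BT.leaf cJ868))))) (BT.node 880 (BT.node 874 (BT.node 871 (BT.node 870 (BT.node 869 (BT.leaf cJ869) (BT.leaf cJ870)) (BT.leaf cJ871)) (BT.node 873 (BT.node 872 (BT.leaf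 cJ872) (BT.leaf cJ873)) (BT.leaf cJ874))) (BT.node 877 (BT.node 876 (BT.node 875 (BT.leaf cJ875) (BT.leaf cJ876)) (BT.leaf cJ877)) (BT.node 879 (BT.node 878 (BT.leaf cJ878) (BT.leaf cJ879)) (BT.leaf cJ880)))) (BT.node 886 (BT.node 883 (BT.node 882 (BT.node 881 (BT.leaf cJ881) (BT.leaf cJ882)) (BT.leaf cJ883)) (BT.node 885 (BT.node 884 (BT.leaf cJ884) (BT.leaf cJ885)) (BT.leaf cJ886))) (BT.node 889 (BT.node 888 (BT.node 887 (BT.leaf cJ887) (BT.leaf cJ888)) (BT.leaf cJ889)) (BT.node 890 (BT.leaf cJ890) (BT.leaf cJ891)))))) (BT.node 915 (BT.node 903 (BT.node 897 (BT.node 894 (BT.node 893 (BT.node 892 (BT.leaf cJ892) (BT.leaf cJ893)) (BT.leaf cJ894)) (BT.node 896 (BT.node 895 (BT.leaf cJ895) (BT.leaf cJ896)) (BT.leaf cJ897))) (BT.node 900 (BT.node 899 (BT.node 898 (BT.leaf cJ898) (BT.leaf cJ899)) (BT.leaf cJ900)) (BT.node 902 (BT.node 901 (BT.leaf cJ901) (BT.leaf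 cJ902)) (BT.leaf cJ903)))) (BT.node 909 (BT.node 906 (BT.node 905 (BT.node 904 (BT.leaf cJ904) (BT.leaf cJ905)) (BT.leaf cJ906)) (BT.node 908 (BT.node 907 (BT.leaf cJ907) (BT.leaf cJ908)) (BT.leaf cJ909))) (BT.node 912 (BT.node 911 (BT.node 910 (BT.leaf cJ910) (BT.leaf cJ911)) (BT.leaf cJ912)) (BT.node 914 (BT.node 913 (BT.leaf cJ913) (BT.leaf cJ914)) (BT.leaf cJ915))))) (BT.node 927 (BT.node 921 (BT.node 918 (BT.node 917 (BT.node 916 (BT.leaf cJ916) (BT.leaf cJ917)) (BT.leaf cJ918)) (BT.node 920 (BT.node 919 (BT.leaf cJ919) (BT.leaf cJ920)) (BT.leaf cJ921))) (BT.node 924 (BT.node 923 (BT.node 922 (BT.leaf cJ922) (BT.leaf cJ923)) (BT.leaf cJ924)) (BT.node 926 (BT.node 925 (BT.leaf cJ925) (BT.leaf cJ926)) (BT.leaf cJ927)))) (BT.node 933 (BT.node 930 (BT.node 929 (BT.node 928 (BT.leaf cJ928) (BT.leaf cJ929)) (BT.leaf cJ930)) (BT.node 932 (BT.node 931 (BT.leaf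 cJ931) (BT.leaf cJ932)) (BT.leaf cJ933))) (BT.node 936 (BT.node 935 (BT.node 934 (BT.leaf cJ934) (BT.leaf cJ935)) (BT.leaf cJ936)) (BT.node 937 (BT.leaf cJ937) (BT.leaf cJ938)))))))) (BT.node 1032 (BT.node 985 (BT.node 962 (BT.node 950 (BT.node 944 (BT.node 941 (BT.node 940 (BT.node 939 (BT.leaf cJ939) (BT.leaf cJ940)) (BT.leaf cJ941)) (BT.node 943 (BT.node 942 (BT.leaf cJ942) (BT.leaf cJ943)) (BT.leaf cJ944))) (BT.node 947 (BT.node 946 (BT.node 945 (BT.leaf cJ945) (BT.leaf cJ946)) (BT.leaf cJ947)) (BT.node 949 (BT.node 948 (BT.leaf cJ948) (BT.leaf cJ949)) (BT.leaf cJ950)))) (BT.node 956 (BT.node 953 (BT.node 952 (BT.node 951 (BT.leaf cJ951) (BT.leaf cJ952)) (BT.leaf cJ953)) (BT.node 955 (BT.node 954 (BT.leaf cJ954) (BT.leaf cJ955)) (BT.leaf cJ956))) (BT.node 959 (BT.node 958 (BT.node 957 (BT.leaf cJ957) (BT.leaf cJ958)) (BT.leaf cJ959)) (BT.node 961 (BT.node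 960 (BT.leaf cJ960) (BT.leaf cJ961)) (BT.leaf cJ962))))) (BT.node 974 (BT.node 968 (BT.node 965 (BT.node 964 (BT.node 963 (BT.leaf cJ963) (BT.leaf cJ964)) (BT.leaf cJ965)) (BT.node 967 (BT.node 966 (BT.leaf cJ966) (BT.leaf cJ967)) (BT.leaf cJ968))) (BT.node 971 (BT.node 970 (BT.node 969 (BT.leaf cJ969) (BT.leaf cJ970)) (BT.leaf cJ971)) (BT.node 973 (BT.node 972 (BT.leaf cJ972) (BT.leaf cJ973)) (BT.leaf cJ974)))) (BT.node 980 (BT.node 977 (BT.node 976 (BT.node 975 (BT.leaf cJ975) (BT.leaf cJ976)) (BT.leaf cJ977)) (BT.node 979 (BT.node 978 (BT.leaf cJ978) (BT.leaf cJ979)) (BT.leaf cJ980))) (BT.node 983 (BT.node 982 (BT.node 981 (BT.leaf cJ981) (BT.leaf cJ982)) (BT.leaf cJ983)) (BT.node 984 (BT.leaf cJ984) (BT.leaf cJ985)))))) (BT.node 1009 (BT.node 997 (BT.node 991 (BT.node 988 (BT.node 987 (BT.node 986 (BT.leaf cJ986) (BT.leaf cJ987)) (BT.leaf cJ988)) (BT.node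 990 (BT.node 989 (BT.leaf cJ989) (BT.leaf cJ990)) (BT.leaf cJ991))) (BT.node 994 (BT.node 993 (BT.node 992 (BT.leaf cJ992) (BT.leaf cJ993)) (BT.leaf cJ994)) (BT.node 996 (BT.node 995 (BT.leaf cJ995) (BT.leaf cJ996)) (BT.leaf cJ997)))) (BT.node 1003 (BT.node 1000 (BT.node 999 (BT.node 998 (BT.leaf cJ998) (BT.leaf cJ999)) (BT.leaf cJ1000)) (BT.node 1002 (BT.node 1001 (BT.leaf cJ1001) (BT.leaf cJ1002)) (BT.leaf cJ1003))) (BT.node 1006 (BT.node 1005 (BT.node 1004 (BT.leaf cJ1004) (BT.leaf cJ1005)) (BT.leaf cJ1006)) (BT.node 1008 (BT.node 1007 (BT.leaf cJ1007) (BT.leaf cJ1008)) (BT.leaf cJ1009))))) (BT.node 1021 (BT.node 1015 (BT.node 1012 (BT.node 1011 (BT.node 1010 (BT.leaf cJ1010) (BT.leaf cJ1011)) (BT.leaf cJ1012)) (BT.node 1014 (BT.node 1013 (BT.leaf cJ1013) (BT.leaf cJ1014)) (BT.leaf cJ1015))) (BT.node 1018 (BT.node 1017 (BT.node 1016 (BT.leaf cJ1016) (BT.leaf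 cJ1017)) (BT.leaf cJ1018)) (BT.node 1020 (BT.node 1019 (BT.leaf cJ1019) (BT.leaf cJ1020)) (BT.leaf cJ1021)))) (BT.node 1027 (BT.node 1024 (BT.node 1023 (BT.node 1022 (BT.leaf cJ1022) (BT.leaf cJ1023)) (BT.leaf cJ1024)) (BT.node 1026 (BT.node 1025 (BT.leaf cJ1025) (BT.leaf cJ1026)) (BT.leaf cJ1027))) (BT.node 1030 (BT.node 1029 (BT.node 1028 (BT.leaf cJ1028) (BT.leaf cJ1029)) (BT.leaf cJ1030)) (BT.node 1031 (BT.leaf cJ1031) (BT.leaf cJ1032))))))) (BT.node 1079 (BT.node 1056 (BT.node 1044 (BT.node 1038 (BT.node 1035 (BT.node 1034 (BT.node 1033 (BT.leaf cJ1033) (BT.leaf cJ1034)) (BT.leaf cJ1035)) (BT.node 1037 (BT.node 1036 (BT.leaf cJ1036) (BT.leaf cJ1037)) (BT.leaf cJ1038))) (BT.node 1041 (BT.node 1040 (BT.node 1039 (BT.leaf cJ1039) (BT.leaf cJ1040)) (BT.leaf cJ1041)) (BT.node 1043 (BT.node 1042 (BT.leaf cJ1042) (BT.leaf cJ1043)) (BT.leaf cJ1044)))) (BT.node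 1050 (BT.node 1047 (BT.node 1046 (BT.node 1045 (BT.leaf cJ1045) (BT.leaf cJ1046)) (BT.leaf cJ1047)) (BT.node 1049 (BT.node 1048 (BT.leaf cJ1048) (BT.leaf cJ1049)) (BT.leaf cJ1050))) (BT.node 1053 (BT.node 1052 (BT.node 1051 (BT.leaf cJ1051) (BT.leaf cJ1052)) (BT.leaf cJ1053)) (BT.node 1055 (BT.node 1054 (BT.leaf cJ1054) (BT.leaf cJ1055)) (BT.leaf cJ1056))))) (BT.node 1068 (BT.node 1062 (BT.node 1059 (BT.node 1058 (BT.node 1057 (BT.leaf cJ1057) (BT.leaf cJ1058)) (BT.leaf cJ1059)) (BT.node 1061 (BT.node 1060 (BT.leaf cJ1060) (BT.leaf cJ1061)) (BT.leaf cJ1062))) (BT.node 1065 (BT.node 1064 (BT.node 1063 (BT.leaf cJ1063) (BT.leaf cJ1064)) (BT.leaf cJ1065)) (BT.node 1067 (BT.node 1066 (BT.leaf cJ1066) (BT.leaf cJ1067)) (BT.leaf cJ1068)))) (BT.node 1074 (BT.node 1071 (BT.node 1070 (BT.node 1069 (BT.leaf cJ1069) (BT.leaf cJ1070)) (BT.leaf cJ1071)) (BT.node 1073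 (BT.node 1072 (BT.leaf cJ1072) (BT.leaf cJ1073)) (BT.leaf cJ1074))) (BT.node 1077 (BT.node 1076 (BT.node 1075 (BT.leaf cJ1075) (BT.leaf cJ1076)) (BT.leaf cJ1077)) (BT.node 1078 (BT.leaf cJ1078) (BT.leaf cJ1079)))))) (BT.node 1102 (BT.node 1091 (BT.node 1085 (BT.node 1082 (BT.node 1081 (BT.node 1080 (BT.leaf cJ1080) (BT.leaf cJ1081)) (BT.leaf cJ1082)) (BT.node 1084 (BT.node 1083 (BT.leaf cJ1083) (BT.leaf cJ1084)) (BT.leaf cJ1085))) (BT.node 1088 (BT.node 1087 (BT.node 1086 (BT.leaf cJ1086) (BT.leaf cJ1087)) (BT.leaf cJ1088)) (BT.node 1090 (BT.node 1089 (BT.leaf cJ1089) (BT.leaf cJ1090)) (BT.leaf cJ1091)))) (BT.node 1097 (BT.node 1094 (BT.node 1093 (BT.node 1092 (BT.leaf cJ1092) (BT.leaf cJ1093)) (BT.leaf cJ1094)) (BT.node 1096 (BT.node 1095 (BT.leaf cJ1095) (BT.leaf cJ1096)) (BT.leaf cJ1097))) (BT.node 1100 (BT.node 1099 (BT.node 1098 (BT.leaf cJ1098) (BT.leaf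 cJ1099)) (BT.leaf cJ1100)) (BT.node 1101 (BT.leaf cJ1101) (BT.leaf cJ1102))))) (BT.node 1114 (BT.node 1108 (BT.node 1105 (BT.node 1104 (BT.node 1103 (BT.leaf cJ1103) (BT.leaf cJ1104)) (BT.leaf cJ1105)) (BT.node 1107 (BT.node 1106 (BT.leaf cJ1106) (BT.leaf cJ1107)) (BT.leaf cJ1108))) (BT.node 1111 (BT.node 1110 (BT.node 1109 (BT.leaf cJ1109) (BT.leaf cJ1110)) (BT.leaf cJ1111)) (BT.node 1113 (BT.node 1112 (BT.leaf cJ1112) (BT.leaf cJ1113)) (BT.leaf cJ1114)))) (BT.node 1120 (BT.node 1117 (BT.node 1116 (BT.node 1115 (BT.leaf cJ1115) (BT.leaf cJ1116)) (BT.leaf cJ1117)) (BT.node 1119 (BT.node 1118 (BT.leaf cJ1118) (BT.leaf cJ1119)) (BT.leaf cJ1120))) (BT.node 1123 (BT.node 1122 (BT.node 1121 (BT.leaf cJ1121) (BT.leaf cJ1122)) (BT.leaf cJ1123)) (BT.node 1124 (BT.leaf cJ1124) (BT.leaf cJ1125))))))))) (BT.node 1313 (BT.node 1219 (BT.node 1172 (BT.node 1149 (BT.node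 1137 (BT.node 1131 (BT.node 1128 (BT.node 1127 (BT.node 1126 (BT.leaf cJ1126) (BT.leaf cJ1127)) (BT.leaf cJ1128)) (BT.node 1130 (BT.node 1129 (BT.leaf cJ1129) (BT.leaf cJ1130)) (BT.leaf cJ1131))) (BT.node 1134 (BT.node 1133 (BT.node 1132 (BT.leaf cJ1132) (BT.leaf cJ1133)) (BT.leaf cJ1134)) (BT.node 1136 (BT.node 1135 (BT.leaf cJ1135) (BT.leaf cJ1136)) (BT.leaf cJ1137)))) (BT.node 1143 (BT.node 1140 (BT.node 1139 (BT.node 1138 (BT.leaf cJ1138) (BT.leaf cJ1139)) (BT.leaf cJ1140)) (BT.node 1142 (BT.node 1141 (BT.leaf cJ1141) (BT.leaf cJ1142)) (BT.leaf cJ1143))) (BT.node 1146 (BT.node 1145 (BT.node 1144 (BT.leaf cJ1144) (BT.leaf cJ1145)) (BT.leaf cJ1146)) (BT.node 1148 (BT.node 1147 (BT.leaf cJ1147) (BT.leaf cJ1148)) (BT.leaf cJ1149))))) (BT.node 1161 (BT.node 1155 (BT.node 1152 (BT.node 1151 (BT.node 1150 (BT.leaf cJ1150) (BT.leaf cJ1151)) (BT.leaf cJ1152))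 (BT.node 1154 (BT.node 1153 (BT.leaf cJ1153) (BT.leaf cJ1154)) (BT.leaf cJ1155))) (BT.node 1158 (BT.node 1157 (BT.node 1156 (BT.leaf cJ1156) (BT.leaf cJ1157)) (BT.leaf cJ1158)) (BT.node 1160 (BT.node 1159 (BT.leaf cJ1159) (BT.leaf cJ1160)) (BT.leaf cJ1161)))) (BT.node 1167 (BT.node 1164 (BT.node 1163 (BT.node 1162 (BT.leaf cJ1162) (BT.leaf cJ1163)) (BT.leaf cJ1164)) (BT.node 1166 (BT.node 1165 (BT.leaf cJ1165) (BT.leaf cJ1166)) (BT.leaf cJ1167))) (BT.node 1170 (BT.node 1169 (BT.node 1168 (BT.leaf cJ1168) (BT.leaf cJ1169)) (BT.leaf cJ1170)) (BT.node 1171 (BT.leaf cJ1171) (BT.leaf cJ1172)))))) (BT.node 1196 (BT.node 1184 (BT.node 1178 (BT.node 1175 (BT.node 1174 (BT.node 1173 (BT.leaf cJ1173) (BT.leaf cJ1174)) (BT.leaf cJ1175)) (BT.node 1177 (BT.node 1176 (BT.leaf cJ1176) (BT.leaf cJ1177)) (BT.leaf cJ1178))) (BT.node 1181 (BT.node 1180 (BT.node 1179 (BT.leaf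 cJ1179) (BT.leaf cJ1180)) (BT.leaf cJ1181)) (BT.node 1183 (BT.node 1182 (BT.leaf cJ1182) (BT.leaf cJ1183)) (BT.leaf cJ1184)))) (BT.node 1190 (BT.node 1187 (BT.node 1186 (BT.node 1185 (BT.leaf cJ1185) (BT.leaf cJ1186)) (BT.leaf cJ1187)) (BT.node 1189 (BT.node 1188 (BT.leaf cJ1188) (BT.leaf cJ1189)) (BT.leaf cJ1190))) (BT.node 1193 (BT.node 1192 (BT.node 1191 (BT.leaf cJ1191) (BT.leaf cJ1192)) (BT.leaf cJ1193)) (BT.node 1195 (BT.node 1194 (BT.leaf cJ1194) (BT.leaf cJ1195)) (BT.leaf cJ1196))))) (BT.node 1208 (BT.node 1202 (BT.node 1199 (BT.node 1198 (BT.node 1197 (BT.leaf cJ1197) (BT.leaf cJ1198)) (BT.leaf cJ1199)) (BT.node 1201 (BT.node 1200 (BT.leaf cJ1200) (BT.leaf cJ1201)) (BT.leaf cJ1202))) (BT.node 1205 (BT.node 1204 (BT.node 1203 (BT.leaf cJ1203) (BT.leaf cJ1204)) (BT.leaf cJ1205)) (BT.node 1207 (BT.node 1206 (BT.leaf cJ1206) (BT.leaf cJ1207)) (BT.leaf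 cJ1208)))) (BT.node 1214 (BT.node 1211 (BT.node 1210 (BT.node 1209 (BT.leaf cJ1209) (BT.leaf cJ1210)) (BT.leaf cJ1211)) (BT.node 1213 (BT.node 1212 (BT.leaf cJ1212) (BT.leaf cJ1213)) (BT.leaf cJ1214))) (BT.node 1217 (BT.node 1216 (BT.node 1215 (BT.leaf cJ1215) (BT.leaf cJ1216)) (BT.leaf cJ1217)) (BT.node 1218 (BT.leaf cJ1218) (BT.leaf cJ1219))))))) (BT.node 1266 (BT.node 1243 (BT.node 1231 (BT.node 1225 (BT.node 1222 (BT.node 1221 (BT.node 1220 (BT.leaf cJ1220) (BT.leaf cJ1221)) (BT.leaf cJ1222)) (BT.node 1224 (BT.node 1223 (BT.leaf cJ1223) (BT.leaf cJ1224)) (BT.leaf cJ1225))) (BT.node 1228 (BT.node 1227 (BT.node 1226 (BT.leaf cJ1226) (BT.leaf cJ1227)) (BT.leaf cJ1228)) (BT.node 1230 (BT.node 1229 (BT.leaf cJ1229) (BT.leaf cJ1230)) (BT.leaf cJ1231)))) (BT.node 1237 (BT.node 1234 (BT.node 1233 (BT.node 1232 (BT.leaf cJ1232) (BT.leaf cJ1233)) (BT.leaf cJ1234))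 (BT.node 1236 (BT.node 1235 (BT.leaf cJ1235) (BT.leaf cJ1236)) (BT.leaf cJ1237))) (BT.node 1240 (BT.node 1239 (BT.node 1238 (BT.leaf cJ1238) (BT.leaf cJ1239)) (BT.leaf cJ1240)) (BT.node 1242 (BT.node 1241 (BT.leaf cJ1241) (BT.leaf cJ1242)) (BT.leaf cJ1243))))) (BT.node 1255 (BT.node 1249 (BT.node 1246 (BT.node 1245 (BT.node 1244 (BT.leaf cJ1244) (BT.leaf cJ1245)) (BT.leaf cJ1246)) (BT.node 1248 (BT.node 1247 (BT.leaf cJ1247) (BT.leaf cJ1248)) (BT.leaf cJ1249))) (BT.node 1252 (BT.node 1251 (BT.node 1250 (BT.leaf cJ1250) (BT.leaf cJ1251)) (BT.leaf cJ1252)) (BT.node 1254 (BT.node 1253 (BT.leaf cJ1253) (BT.leaf cJ1254)) (BT.leaf cJ1255)))) (BT.node 1261 (BT.node 1258 (BT.node 1257 (BT.node 1256 (BT.leaf cJ1256) (BT.leaf cJ1257)) (BT.leaf cJ1258)) (BT.node 1260 (BT.node 1259 (BT.leaf cJ1259) (BT.leaf cJ1260)) (BT.leaf cJ1261))) (BT.node 1264 (BT.node 1263 (BT.node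 1262 (BT.leaf cJ1262) (BT.leaf cJ1263)) (BT.leaf cJ1264)) (BT.node 1265 (BT.leaf cJ1265) (BT.leaf cJ1266)))))) (BT.node 1290 (BT.node 1278 (BT.node 1272 (BT.node 1269 (BT.node 1268 (BT.node 1267 (BT.leaf cJ1267) (BT.leaf cJ1268)) (BT.leaf cJ1269)) (BT.node 1271 (BT.node 1270 (BT.leaf cJ1270) (BT.leaf cJ1271)) (BT.leaf cJ1272))) (BT.node 1275 (BT.node 1274 (BT.node 1273 (BT.leaf cJ1273) (BT.leaf cJ1274)) (BT.leaf cJ1275)) (BT.node 1277 (BT.node 1276 (BT.leaf cJ1276) (BT.leaf cJ1277)) (BT.leaf cJ1278)))) (BT.node 1284 (BT.node 1281 (BT.node 1280 (BT.node 1279 (BT.leaf cJ1279) (BT.leaf cJ1280)) (BT.leaf cJ1281)) (BT.node 1283 (BT.node 1282 (BT.leaf cJ1282) (BT.leaf cJ1283)) (BT.leaf cJ1284))) (BT.node 1287 (BT.node 1286 (BT.node 1285 (BT.leaf cJ1285) (BT.leaf cJ1286)) (BT.leaf cJ1287)) (BT.node 1289 (BT.node 1288 (BT.leaf cJ1288) (BT.leaf cJ1289)) (BT.leaf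 cJ1290))))) (BT.node 1302 (BT.node 1296 (BT.node 1293 (BT.node 1292 (BT.node 1291 (BT.leaf cJ1291) (BT.leaf cJ1292)) (BT.leaf cJ1293)) (BT.node 1295 (BT.node 1294 (BT.leaf cJ1294) (BT.leaf cJ1295)) (BT.leaf cJ1296))) (BT.node 1299 (BT.node 1298 (BT.node 1297 (BT.leaf cJ1297) (BT.leaf cJ1298)) (BT.leaf cJ1299)) (BT.node 1301 (BT.node 1300 (BT.leaf cJ1300) (BT.leaf cJ1301)) (BT.leaf cJ1302)))) (BT.node 1308 (BT.node 1305 (BT.node 1304 (BT.node 1303 (BT.leaf cJ1303) (BT.leaf cJ1304)) (BT.leaf cJ1305)) (BT.node 1307 (BT.node 1306 (BT.leaf cJ1306) (BT.leaf cJ1307)) (BT.leaf cJ1308))) (BT.node 1311 (BT.node 1310 (BT.node 1309 (BT.leaf cJ1309) (BT.leaf cJ1310)) (BT.leaf cJ1311)) (BT.node 1312 (BT.leaf cJ1312) (BT.leaf cJ1313)))))))) (BT.node 1407 (BT.node 1360 (BT.node 1337 (BT.node 1325 (BT.node 1319 (BT.node 1316 (BT.node 1315 (BT.node 1314 (BT.leaf cJ1314) (BT.leaf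 cJ1315)) (BT.leaf cJ1316)) (BT.node 1318 (BT.node 1317 (BT.leaf cJ1317) (BT.leaf cJ1318)) (BT.leaf cJ1319))) (BT.node 1322 (BT.node 1321 (BT.node 1320 (BT.leaf cJ1320) (BT.leaf cJ1321)) (BT.leaf cJ1322)) (BT.node 1324 (BT.node 1323 (BT.leaf cJ1323) (BT.leaf cJ1324)) (BT.leaf cJ1325)))) (BT.node 1331 (BT.node 1328 (BT.node 1327 (BT.node 1326 (BT.leaf cJ1326) (BT.leaf cJ1327)) (BT.leaf cJ1328)) (BT.node 1330 (BT.node 1329 (BT.leaf cJ1329) (BT.leaf cJ1330)) (BT.leaf cJ1331))) (BT.node 1334 (BT.node 1333 (BT.node 1332 (BT.leaf cJ1332) (BT.leaf cJ1333)) (BT.leaf cJ1334)) (BT.node 1336 (BT.node 1335 (BT.leaf cJ1335) (BT.leaf cJ1336)) (BT.leaf cJ1337))))) (BT.node 1349 (BT.node 1343 (BT.node 1340 (BT.node 1339 (BT.node 1338 (BT.leaf cJ1338) (BT.leaf cJ1339)) (BT.leaf cJ1340)) (BT.node 1342 (BT.node 1341 (BT.leaf cJ1341) (BT.leaf cJ1342)) (BT.leaf cJ1343))) (BT.node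 1346 (BT.node 1345 (BT.node 1344 (BT.leaf cJ1344) (BT.leaf cJ1345)) (BT.leaf cJ1346)) (BT.node 1348 (BT.node 1347 (BT.leaf cJ1347) (BT.leaf cJ1348)) (BT.leaf cJ1349)))) (BT.node 1355 (BT.node 1352 (BT.node 1351 (BT.node 1350 (BT.leaf cJ1350) (BT.leaf cJ1351)) (BT.leaf cJ1352)) (BT.node 1354 (BT.node 1353 (BT.leaf cJ1353) (BT.leaf cJ1354)) (BT.leaf cJ1355))) (BT.node 1358 (BT.node 1357 (BT.node 1356 (BT.leaf cJ1356) (BT.leaf cJ1357)) (BT.leaf cJ1358)) (BT.node 1359 (BT.leaf cJ1359) (BT.leaf cJ1360)))))) (BT.node 1384 (BT.node 1372 (BT.node 1366 (BT.node 1363 (BT.node 1362 (BT.node 1361 (BT.leaf cJ1361) (BT.leaf cJ1362)) (BT.leaf cJ1363)) (BT.node 1365 (BT.node 1364 (BT.leaf cJ1364) (BT.leaf cJ1365)) (BT.leaf cJ1366))) (BT.node 1369 (BT.node 1368 (BT.node 1367 (BT.leaf cJ1367) (BT.leaf cJ1368)) (BT.leaf cJ1369)) (BT.node 1371 (BT.node 1370 (BT.leaf cJ1370)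 (BT.leaf cJ1371)) (BT.leaf cJ1372)))) (BT.node 1378 (BT.node 1375 (BT.node 1374 (BT.node 1373 (BT.leaf cJ1373) (BT.leaf cJ1374)) (BT.leaf cJ1375)) (BT.node 1377 (BT.node 1376 (BT.leaf cJ1376) (BT.leaf cJ1377)) (BT.leaf cJ1378))) (BT.node 1381 (BT.node 1380 (BT.node 1379 (BT.leaf cJ1379) (BT.leaf cJ1380)) (BT.leaf cJ1381)) (BT.node 1383 (BT.node 1382 (BT.leaf cJ1382) (BT.leaf cJ1383)) (BT.leaf cJ1384))))) (BT.node 1396 (BT.node 1390 (BT.node 1387 (BT.node 1386 (BT.node 1385 (BT.leaf cJ1385) (BT.leaf cJ1386)) (BT.leaf cJ1387)) (BT.node 1389 (BT.node 1388 (BT.leaf cJ1388) (BT.leaf cJ1389)) (BT.leaf cJ1390))) (BT.node 1393 (BT.node 1392 (BT.node 1391 (BT.leaf cJ1391) (BT.leaf cJ1392)) (BT.leaf cJ1393)) (BT.node 1395 (BT.node 1394 (BT.leaf cJ1394) (BT.leaf cJ1395)) (BT.leaf cJ1396)))) (BT.node 1402 (BT.node 1399 (BT.node 1398 (BT.node 1397 (BT.leaf cJ1397) (BT.leaf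 cJ1398)) (BT.leaf cJ1399)) (BT.node 1401 (BT.node 1400 (BT.leaf cJ1400) (BT.leaf cJ1401)) (BT.leaf cJ1402))) (BT.node 1405 (BT.node 1404 (BT.node 1403 (BT.leaf cJ1403) (BT.leaf cJ1404)) (BT.leaf cJ1405)) (BT.node 1406 (BT.leaf cJ1406) (BT.leaf cJ1407))))))) (BT.node 1454 (BT.node 1431 (BT.node 1419 (BT.node 1413 (BT.node 1410 (BT.node 1409 (BT.node 1408 (BT.leaf cJ1408) (BT.leaf cJ1409)) (BT.leaf cJ1410)) (BT.node 1412 (BT.node 1411 (BT.leaf cJ1411) (BT.leaf cJ1412)) (BT.leaf cJ1413))) (BT.node 1416 (BT.node 1415 (BT.node 1414 (BT.leaf cJ1414) (BT.leaf cJ1415)) (BT.leaf cJ1416)) (BT.node 1418 (BT.node 1417 (BT.leaf cJ1417) (BT.leaf cJ1418)) (BT.leaf cJ1419)))) (BT.node 1425 (BT.node 1422 (BT.node 1421 (BT.node 1420 (BT.leaf cJ1420) (BT.leaf cJ1421)) (BT.leaf cJ1422)) (BT.node 1424 (BT.node 1423 (BT.leaf cJ1423) (BT.leaf cJ1424)) (BT.leaf cJ1425))) (BT.node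 1428 (BT.node 1427 (BT.node 1426 (BT.leaf cJ1426) (BT.leaf cJ1427)) (BT.leaf cJ1428)) (BT.node 1430 (BT.node 1429 (BT.leaf cJ1429) (BT.leaf cJ1430)) (BT.leaf cJ1431))))) (BT.node 1443 (BT.node 1437 (BT.node 1434 (BT.node 1433 (BT.node 1432 (BT.leaf cJ1432) (BT.leaf cJ1433)) (BT.leaf cJ1434)) (BT.node 1436 (BT.node 1435 (BT.leaf cJ1435) (BT.leaf cJ1436)) (BT.leaf cJ1437))) (BT.node 1440 (BT.node 1439 (BT.node 1438 (BT.leaf cJ1438) (BT.leaf cJ1439)) (BT.leaf cJ1440)) (BT.node 1442 (BT.node 1441 (BT.leaf cJ1441) (BT.leaf cJ1442)) (BT.leaf cJ1443)))) (BT.node 1449 (BT.node 1446 (BT.node 1445 (BT.node 1444 (BT.leaf cJ1444) (BT.leaf cJ1445)) (BT.leaf cJ1446)) (BT.node 1448 (BT.node 1447 (BT.leaf cJ1447) (BT.leaf cJ1448)) (BT.leaf cJ1449))) (BT.node 1452 (BT.node 1451 (BT.node 1450 (BT.leaf cJ1450) (BT.leaf cJ1451)) (BT.leaf cJ1452)) (BT.node 1453 (BT.leaf cJ1453)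 (BT.leaf cJ1454)))))) (BT.node 1477 (BT.node 1466 (BT.node 1460 (BT.node 1457 (BT.node 1456 (BT.node 1455 (BT.leaf cJ1455) (BT.leaf cJ1456)) (BT.leaf cJ1457)) (BT.node 1459 (BT.node 1458 (BT.leaf cJ1458) (BT.leaf cJ1459)) (BT.leaf cJ1460))) (BT.node 1463 (BT.node 1462 (BT.node 1461 (BT.leaf cJ1461) (BT.leaf cJ1462)) (BT.leaf cJ1463)) (BT.node 1465 (BT.node 1464 (BT.leaf cJ1464) (BT.leaf cJ1465)) (BT.leaf cJ1466)))) (BT.node 1472 (BT.node 1469 (BT.node 1468 (BT.node 1467 (BT.leaf cJ1467) (BT.leaf cJ1468)) (BT.leaf cJ1469)) (BT.node 1471 (BT.node 1470 (BT.leaf cJ1470) (BT.leaf cJ1471)) (BT.leaf cJ1472))) (BT.node 1475 (BT.node 1474 (BT.node 1473 (BT.leaf cJ1473) (BT.leaf cJ1474)) (BT.leaf cJ1475)) (BT.node 1476 (BT.leaf cJ1476) (BT.leaf cJ1477))))) (BT.node 1489 (BT.node 1483 (BT.node 1480 (BT.node 1479 (BT.node 1478 (BT.leaf cJ1478) (BT.leaf cJ1479)) (BT.leaf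 cJ1480)) (BT.node 1482 (BT.node 1481 (BT.leaf cJ1481) (BT.leaf cJ1482)) (BT.leaf cJ1483))) (BT.node 1486 (BT.node 1485 (BT.node 1484 (BT.leaf cJ1484) (BT.leaf cJ1485)) (BT.leaf cJ1486)) (BT.node 1488 (BT.node 1487 (BT.leaf cJ1487) (BT.leaf cJ1488)) (BT.leaf cJ1489)))) (BT.node 1495 (BT.node 1492 (BT.node 1491 (BT.node 1490 (BT.leaf cJ1490) (BT.leaf cJ1491)) (BT.leaf cJ1492)) (BT.node 1494 (BT.node 1493 (BT.leaf cJ1493) (BT.leaf cJ1494)) (BT.leaf cJ1495))) (BT.node 1498 (BT.node 1497 (BT.node 1496 (BT.leaf cJ1496) (BT.leaf cJ1497)) (BT.leaf cJ1498)) (BT.node 1499 (BT.leaf cJ1499) (BT.leaf cJ1500))))))))))) (BT.node 2251 (BT.node 1876 (BT.node 1688 (BT.node 1594 (BT.node 1547 (BT.node 1524 (BT.node 1512 (BT.node 1506 (BT.node 1503 (BT.node 1502 (BT.node 1501 (BT.leaf cJ1501) (BT.leaf cJ1502)) (BT.leaf cJ1503)) (BT.node 1505 (BT.node 1504 (BT.leaf cJ1504) (BT.leaf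 cJ1505)) (BT.leaf cJ1506))) (BT.node 1509 (BT.node 1508 (BT.node 1507 (BT.leaf cJ1507) (BT.leaf cJ1508)) (BT.leaf cJ1509)) (BT.node 1511 (BT.node 1510 (BT.leaf cJ1510) (BT.leaf cJ1511)) (BT.leaf cJ1512)))) (BT.node 1518 (BT.node 1515 (BT.node 1514 (BT.node 1513 (BT.leaf cJ1513) (BT.leaf cJ1514)) (BT.leaf cJ1515)) (BT.node 1517 (BT.node 1516 (BT.leaf cJ1516) (BT.leaf cJ1517)) (BT.leaf cJ1518))) (BT.node 1521 (BT.node 1520 (BT.node 1519 (BT.leaf cJ1519) (BT.leaf cJ1520)) (BT.leaf cJ1521)) (BT.node 1523 (BT.node 1522 (BT.leaf cJ1522) (BT.leaf cJ1523)) (BT.leaf cJ1524))))) (BT.node 1536 (BT.node 1530 (BT.node 1527 (BT.node 1526 (BT.node 1525 (BT.leaf cJ1525) (BT.leaf cJ1526)) (BT.leaf cJ1527)) (BT.node 1529 (BT.node 1528 (BT.leaf cJ1528) (BT.leaf cJ1529)) (BT.leaf cJ1530))) (BT.node 1533 (BT.node 1532 (BT.node 1531 (BT.leaf cJ1531) (BT.leaf cJ1532)) (BT.leaf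 cJ1533)) (BT.node 1535 (BT.node 1534 (BT.leaf cJ1534) (BT.leaf cJ1535)) (BT.leaf cJ1536)))) (BT.node 1542 (BT.node 1539 (BT.node 1538 (BT.node 1537 (BT.leaf cJ1537) (BT.leaf cJ1538)) (BT.leaf cJ1539)) (BT.node 1541 (BT.node 1540 (BT.leaf cJ1540) (BT.leaf cJ1541)) (BT.leaf cJ1542))) (BT.node 1545 (BT.node 1544 (BT.node 1543 (BT.leaf cJ1543) (BT.leaf cJ1544)) (BT.leaf cJ1545)) (BT.node 1546 (BT.leaf cJ1546) (BT.leaf cJ1547)))))) (BT.node 1571 (BT.node 1559 (BT.node 1553 (BT.node 1550 (BT.node 1549 (BT.node 1548 (BT.leaf cJ1548) (BT.leaf cJ1549)) (BT.leaf cJ1550)) (BT.node 1552 (BT.node 1551 (BT.leaf cJ1551) (BT.leaf cJ1552)) (BT.leaf cJ1553))) (BT.node 1556 (BT.node 1555 (BT.node 1554 (BT.leaf cJ1554) (BT.leaf cJ1555)) (BT.leaf cJ1556)) (BT.node 1558 (BT.node 1557 (BT.leaf cJ1557) (BT.leaf cJ1558)) (BT.leaf cJ1559)))) (BT.node 1565 (BT.node 1562 (BT.node 1561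 (BT.node 1560 (BT.leaf cJ1560) (BT.leaf cJ1561)) (BT.leaf cJ1562)) (BT.node 1564 (BT.node 1563 (BT.leaf cJ1563) (BT.leaf cJ1564)) (BT.leaf cJ1565))) (BT.node 1568 (BT.node 1567 (BT.node 1566 (BT.leaf cJ1566) (BT.leaf cJ1567)) (BT.leaf cJ1568)) (BT.node 1570 (BT.node 1569 (BT.leaf cJ1569) (BT.leaf cJ1570)) (BT.leaf cJ1571))))) (BT.node 1583 (BT.node 1577 (BT.node 1574 (BT.node 1573 (BT.node 1572 (BT.leaf cJ1572) (BT.leaf cJ1573)) (BT.leaf cJ1574)) (BT.node 1576 (BT.node 1575 (BT.leaf cJ1575) (BT.leaf cJ1576)) (BT.leaf cJ1577))) (BT.node 1580 (BT.node 1579 (BT.node 1578 (BT.leaf cJ1578) (BT.leaf cJ1579)) (BT.leaf cJ1580)) (BT.node 1582 (BT.node 1581 (BT.leaf cJ1581) (BT.leaf cJ1582)) (BT.leaf cJ1583)))) (BT.node 1589 (BT.node 1586 (BT.node 1585 (BT.node 1584 (BT.leaf cJ1584) (BT.leaf cJ1585)) (BT.leaf cJ1586)) (BT.node 1588 (BT.node 1587 (BT.leaf cJ1587) (BT.leaf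 cJ1588)) (BT.leaf cJ1589))) (BT.node 1592 (BT.node 1591 (BT.node 1590 (BT.leaf cJ1590) (BT.leaf cJ1591)) (BT.leaf cJ1592)) (BT.node 1593 (BT.leaf cJ1593) (BT.leaf cJ1594))))))) (BT.node 1641 (BT.node 1618 (BT.node 1606 (BT.node 1600 (BT.node 1597 (BT.node 1596 (BT.node 1595 (BT.leaf cJ1595) (BT.leaf cJ1596)) (BT.leaf cJ1597)) (BT.node 1599 (BT.node 1598 (BT.leaf cJ1598) (BT.leaf cJ1599)) (BT.leaf cJ1600))) (BT.node 1603 (BT.node 1602 (BT.node 1601 (BT.leaf cJ1601) (BT.leaf cJ1602)) (BT.leaf cJ1603)) (BT.node 1605 (BT.node 1604 (BT.leaf cJ1604) (BT.leaf cJ1605)) (BT.leaf cJ1606)))) (BT.node 1612 (BT.node 1609 (BT.node 1608 (BT.node 1607 (BT.leaf cJ1607) (BT.leaf cJ1608)) (BT.leaf cJ1609)) (BT.node 1611 (BT.node 1610 (BT.leaf cJ1610) (BT.leaf cJ1611)) (BT.leaf cJ1612))) (BT.node 1615 (BT.node 1614 (BT.node 1613 (BT.leaf cJ1613) (BT.leaf cJ1614)) (BT.leaf cJ1615))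 (BT.node 1617 (BT.node 1616 (BT.leaf cJ1616) (BT.leaf cJ1617)) (BT.leaf cJ1618))))) (BT.node 1630 (BT.node 1624 (BT.node 1621 (BT.node 1620 (BT.node 1619 (BT.leaf cJ1619) (BT.leaf cJ1620)) (BT.leaf cJ1621)) (BT.node 1623 (BT.node 1622 (BT.leaf cJ1622) (BT.leaf cJ1623)) (BT.leaf cJ1624))) (BT.node 1627 (BT.node 1626 (BT.node 1625 (BT.leaf cJ1625) (BT.leaf cJ1626)) (BT.leaf cJ1627)) (BT.node 1629 (BT.node 1628 (BT.leaf cJ1628) (BT.leaf cJ1629)) (BT.leaf cJ1630)))) (BT.node 1636 (BT.node 1633 (BT.node 1632 (BT.node 1631 (BT.leaf cJ1631) (BT.leaf cJ1632)) (BT.leaf cJ1633)) (BT.node 1635 (BT.node 1634 (BT.leaf cJ1634) (BT.leaf cJ1635)) (BT.leaf cJ1636))) (BT.node 1639 (BT.node 1638 (BT.node 1637 (BT.leaf cJ1637) (BT.leaf cJ1638)) (BT.leaf cJ1639)) (BT.node 1640 (BT.leaf cJ1640) (BT.leaf cJ1641)))))) (BT.node 1665 (BT.node 1653 (BT.node 1647 (BT.node 1644 (BT.node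 1643 (BT.node 1642 (BT.leaf cJ1642) (BT.leaf cJ1643)) (BT.leaf cJ1644)) (BT.node 1646 (BT.node 1645 (BT.leaf cJ1645) (BT.leaf cJ1646)) (BT.leaf cJ1647))) (BT.node 1650 (BT.node 1649 (BT.node 1648 (BT.leaf cJ1648) (BT.leaf cJ1649)) (BT.leaf cJ1650)) (BT.node 1652 (BT.node 1651 (BT.leaf cJ1651) (BT.leaf cJ1652)) (BT.leaf cJ1653)))) (BT.node 1659 (BT.node 1656 (BT.node 1655 (BT.node 1654 (BT.leaf cJ1654) (BT.leaf cJ1655)) (BT.leaf cJ1656)) (BT.node 1658 (BT.node 1657 (BT.leaf cJ1657) (BT.leaf cJ1658)) (BT.leaf cJ1659))) (BT.node 1662 (BT.node 1661 (BT.node 1660 (BT.leaf cJ1660) (BT.leaf cJ1661)) (BT.leaf cJ1662)) (BT.node 1664 (BT.node 1663 (BT.leaf cJ1663) (BT.leaf cJ1664)) (BT.leaf cJ1665))))) (BT.node 1677 (BT.node 1671 (BT.node 1668 (BT.node 1667 (BT.node 1666 (BT.leaf cJ1666) (BT.leaf cJ1667)) (BT.leaf cJ1668)) (BT.node 1670 (BT.node 1669 (BT.leaf cJ1669)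 (BT.leaf cJ1670)) (BT.leaf cJ1671))) (BT.node 1674 (BT.node 1673 (BT.node 1672 (BT.leaf cJ1672) (BT.leaf cJ1673)) (BT.leaf cJ1674)) (BT.node 1676 (BT.node 1675 (BT.leaf cJ1675) (BT.leaf cJ1676)) (BT.leaf cJ1677)))) (BT.node 1683 (BT.node 1680 (BT.node 1679 (BT.node 1678 (BT.leaf cJ1678) (BT.leaf cJ1679)) (BT.leaf cJ1680)) (BT.node 1682 (BT.node 1681 (BT.leaf cJ1681) (BT.leaf cJ1682)) (BT.leaf cJ1683))) (BT.node 1686 (BT.node 1685 (BT.node 1684 (BT.leaf cJ1684) (BT.leaf cJ1685)) (BT.leaf cJ1686)) (BT.node 1687 (BT.leaf cJ1687) (BT.leaf cJ1688)))))))) (BT.node 1782 (BT.node 1735 (BT.node 1712 (BT.node 1700 (BT.node 1694 (BT.node 1691 (BT.node 1690 (BT.node 1689 (BT.leaf cJ1689) (BT.leaf cJ1690)) (BT.leaf cJ1691)) (BT.node 1693 (BT.node 1692 (BT.leaf cJ1692) (BT.leaf cJ1693)) (BT.leaf cJ1694))) (BT.node 1697 (BT.node 1696 (BT.node 1695 (BT.leaf cJ1695) (BT.leaf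 cJ1696)) (BT.leaf cJ1697)) (BT.node 1699 (BT.node 1698 (BT.leaf cJ1698) (BT.leaf cJ1699)) (BT.leaf cJ1700)))) (BT.node 1706 (BT.node 1703 (BT.node 1702 (BT.node 1701 (BT.leaf cJ1701) (BT.leaf cJ1702)) (BT.leaf cJ1703)) (BT.node 1705 (BT.node 1704 (BT.leaf cJ1704) (BT.leaf cJ1705)) (BT.leaf cJ1706))) (BT.node 1709 (BT.node 1708 (BT.node 1707 (BT.leaf cJ1707) (BT.leaf cJ1708)) (BT.leaf cJ1709)) (BT.node 1711 (BT.node 1710 (BT.leaf cJ1710) (BT.leaf cJ1711)) (BT.leaf cJ1712))))) (BT.node 1724 (BT.node 1718 (BT.node 1715 (BT.node 1714 (BT.node 1713 (BT.leaf cJ1713) (BT.leaf cJ1714)) (BT.leaf cJ1715)) (BT.node 1717 (BT.node 1716 (BT.leaf cJ1716) (BT.leaf cJ1717)) (BT.leaf cJ1718))) (BT.node 1721 (BT.node 1720 (BT.node 1719 (BT.leaf cJ1719) (BT.leaf cJ1720)) (BT.leaf cJ1721)) (BT.node 1723 (BT.node 1722 (BT.leaf cJ1722) (BT.leaf cJ1723)) (BT.leaf cJ1724)))) (BT.node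 1730 (BT.node 1727 (BT.node 1726 (BT.node 1725 (BT.leaf cJ1725) (BT.leaf cJ1726)) (BT.leaf cJ1727)) (BT.node 1729 (BT.node 1728 (BT.leaf cJ1728) (BT.leaf cJ1729)) (BT.leaf cJ1730))) (BT.node 1733 (BT.node 1732 (BT.node 1731 (BT.leaf cJ1731) (BT.leaf cJ1732)) (BT.leaf cJ1733)) (BT.node 1734 (BT.leaf cJ1734) (BT.leaf cJ1735)))))) (BT.node 1759 (BT.node 1747 (BT.node 1741 (BT.node 1738 (BT.node 1737 (BT.node 1736 (BT.leaf cJ1736) (BT.leaf cJ1737)) (BT.leaf cJ1738)) (BT.node 1740 (BT.node 1739 (BT.leaf cJ1739) (BT.leaf cJ1740)) (BT.leaf cJ1741))) (BT.node 1744 (BT.node 1743 (BT.node 1742 (BT.leaf cJ1742) (BT.leaf cJ1743)) (BT.leaf cJ1744)) (BT.node 1746 (BT.node 1745 (BT.leaf cJ1745) (BT.leaf cJ1746)) (BT.leaf cJ1747)))) (BT.node 1753 (BT.node 1750 (BT.node 1749 (BT.node 1748 (BT.leaf cJ1748) (BT.leaf cJ1749)) (BT.leaf cJ1750)) (BT.node 1752 (BT.node 1751 (BT.leaf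 cJ1751) (BT.leaf cJ1752)) (BT.leaf cJ1753))) (BT.node 1756 (BT.node 1755 (BT.node 1754 (BT.leaf cJ1754) (BT.leaf cJ1755)) (BT.leaf cJ1756)) (BT.node 1758 (BT.node 1757 (BT.leaf cJ1757) (BT.leaf cJ1758)) (BT.leaf cJ1759))))) (BT.node 1771 (BT.node 1765 (BT.node 1762 (BT.node 1761 (BT.node 1760 (BT.leaf cJ1760) (BT.leaf cJ1761)) (BT.leaf cJ1762)) (BT.node 1764 (BT.node 1763 (BT.leaf cJ1763) (BT.leaf cJ1764)) (BT.leaf cJ1765))) (BT.node 1768 (BT.node 1767 (BT.node 1766 (BT.leaf cJ1766) (BT.leaf cJ1767)) (BT.leaf cJ1768)) (BT.node 1770 (BT.node 1769 (BT.leaf cJ1769) (BT.leaf cJ1770)) (BT.leaf cJ1771)))) (BT.node 1777 (BT.node 1774 (BT.node 1773 (BT.node 1772 (BT.leaf cJ1772) (BT.leaf cJ1773)) (BT.leaf cJ1774)) (BT.node 1776 (BT.node 1775 (BT.leaf cJ1775) (BT.leaf cJ1776)) (BT.leaf cJ1777))) (BT.node 1780 (BT.node 1779 (BT.node 1778 (BT.leaf cJ1778) (BT.leaf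 cJ1779)) (BT.leaf cJ1780)) (BT.node 1781 (BT.leaf cJ1781) (BT.leaf cJ1782))))))) (BT.node 1829 (BT.node 1806 (BT.node 1794 (BT.node 1788 (BT.node 1785 (BT.node 1784 (BT.node 1783 (BT.leaf cJ1783) (BT.leaf cJ1784)) (BT.leaf cJ1785)) (BT.node 1787 (BT.node 1786 (BT.leaf cJ1786) (BT.leaf cJ1787)) (BT.leaf cJ1788))) (BT.node 1791 (BT.node 1790 (BT.node 1789 (BT.leaf cJ1789) (BT.leaf cJ1790)) (BT.leaf cJ1791)) (BT.node 1793 (BT.node 1792 (BT.leaf cJ1792) (BT.leaf cJ1793)) (BT.leaf cJ1794)))) (BT.node 1800 (BT.node 1797 (BT.node 1796 (BT.node 1795 (BT.leaf cJ1795) (BT.leaf cJ1796)) (BT.leaf cJ1797)) (BT.node 1799 (BT.node 1798 (BT.leaf cJ1798) (BT.leaf cJ1799)) (BT.leaf cJ1800))) (BT.node 1803 (BT.node 1802 (BT.node 1801 (BT.leaf cJ1801) (BT.leaf cJ1802)) (BT.leaf cJ1803)) (BT.node 1805 (BT.node 1804 (BT.leaf cJ1804) (BT.leaf cJ1805)) (BT.leaf cJ1806))))) (BT.node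 1818 (BT.node 1812 (BT.node 1809 (BT.node 1808 (BT.node 1807 (BT.leaf cJ1807) (BT.leaf cJ1808)) (BT.leaf cJ1809)) (BT.node 1811 (BT.node 1810 (BT.leaf cJ1810) (BT.leaf cJ1811)) (BT.leaf cJ1812))) (BT.node 1815 (BT.node 1814 (BT.node 1813 (BT.leaf cJ1813) (BT.leaf cJ1814)) (BT.leaf cJ1815)) (BT.node 1817 (BT.node 1816 (BT.leaf cJ1816) (BT.leaf cJ1817)) (BT.leaf cJ1818)))) (BT.node 1824 (BT.node 1821 (BT.node 1820 (BT.node 1819 (BT.leaf cJ1819) (BT.leaf cJ1820)) (BT.leaf cJ1821)) (BT.node 1823 (BT.node 1822 (BT.leaf cJ1822) (BT.leaf cJ1823)) (BT.leaf cJ1824))) (BT.node 1827 (BT.node 1826 (BT.node 1825 (BT.leaf cJ1825) (BT.leaf cJ1826)) (BT.leaf cJ1827)) (BT.node 1828 (BT.leaf cJ1828) (BT.leaf cJ1829)))))) (BT.node 1853 (BT.node 1841 (BT.node 1835 (BT.node 1832 (BT.node 1831 (BT.node 1830 (BT.leaf cJ1830) (BT.leaf cJ1831)) (BT.leaf cJ1832)) (BT.node 1834 (BT.node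 1833 (BT.leaf cJ1833) (BT.leaf cJ1834)) (BT.leaf cJ1835))) (BT.node 1838 (BT.node 1837 (BT.node 1836 (BT.leaf cJ1836) (BT.leaf cJ1837)) (BT.leaf cJ1838)) (BT.node 1840 (BT.node 1839 (BT.leaf cJ1839) (BT.leaf cJ1840)) (BT.leaf cJ1841)))) (BT.node 1847 (BT.node 1844 (BT.node 1843 (BT.node 1842 (BT.leaf cJ1842) (BT.leaf cJ1843)) (BT.leaf cJ1844)) (BT.node 1846 (BT.node 1845 (BT.leaf cJ1845) (BT.leaf cJ1846)) (BT.leaf cJ1847))) (BT.node 1850 (BT.node 1849 (BT.node 1848 (BT.leaf cJ1848) (BT.leaf cJ1849)) (BT.leaf cJ1850)) (BT.node 1852 (BT.node 1851 (BT.leaf cJ1851) (BT.leaf cJ1852)) (BT.leaf cJ1853))))) (BT.node 1865 (BT.node 1859 (BT.node 1856 (BT.node 1855 (BT.node 1854 (BT.leaf cJ1854) (BT.leaf cJ1855)) (BT.leaf cJ1856)) (BT.node 1858 (BT.node 1857 (BT.leaf cJ1857) (BT.leaf cJ1858)) (BT.leaf cJ1859))) (BT.node 1862 (BT.node 1861 (BT.node 1860 (BT.leaf cJ1860)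 (BT.leaf cJ1861)) (BT.leaf cJ1862)) (BT.node 1864 (BT.node 1863 (BT.leaf cJ1863) (BT.leaf cJ1864)) (BT.leaf cJ1865)))) (BT.node 1871 (BT.node 1868 (BT.node 1867 (BT.node 1866 (BT.leaf cJ1866) (BT.leaf cJ1867)) (BT.leaf cJ1868)) (BT.node 1870 (BT.node 1869 (BT.leaf cJ1869) (BT.leaf cJ1870)) (BT.leaf cJ1871))) (BT.node 1874 (BT.node 1873 (BT.node 1872 (BT.leaf cJ1872) (BT.leaf cJ1873)) (BT.leaf cJ1874)) (BT.node 1875 (BT.leaf cJ1875) (BT.leaf cJ1876))))))))) (BT.node 2064 (BT.node 1970 (BT.node 1923 (BT.node 1900 (BT.node 1888 (BT.node 1882 (BT.node 1879 (BT.node 1878 (BT.node 1877 (BT.leaf cJ1877) (BT.leaf cJ1878)) (BT.leaf cJ1879)) (BT.node 1881 (BT.node 1880 (BT.leaf cJ1880) (BT.leaf cJ1881)) (BT.leaf cJ1882))) (BT.node 1885 (BT.node 1884 (BT.node 1883 (BT.leaf cJ1883) (BT.leaf cJ1884)) (BT.leaf cJ1885)) (BT.node 1887 (BT.node 1886 (BT.leaf cJ1886) (BT.leaf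 cJ1887)) (BT.leaf cJ1888)))) (BT.node 1894 (BT.node 1891 (BT.node 1890 (BT.node 1889 (BT.leaf cJ1889) (BT.leaf cJ1890)) (BT.leaf cJ1891)) (BT.node 1893 (BT.node 1892 (BT.leaf cJ1892) (BT.leaf cJ1893)) (BT.leaf cJ1894))) (BT.node 1897 (BT.node 1896 (BT.node 1895 (BT.leaf cJ1895) (BT.leaf cJ1896)) (BT.leaf cJ1897)) (BT.node 1899 (BT.node 1898 (BT.leaf cJ1898) (BT.leaf cJ1899)) (BT.leaf cJ1900))))) (BT.node 1912 (BT.node 1906 (BT.node 1903 (BT.node 1902 (BT.node 1901 (BT.leaf cJ1901) (BT.leaf cJ1902)) (BT.leaf cJ1903)) (BT.node 1905 (BT.node 1904 (BT.leaf cJ1904) (BT.leaf cJ1905)) (BT.leaf cJ1906))) (BT.node 1909 (BT.node 1908 (BT.node 1907 (BT.leaf cJ1907) (BT.leaf cJ1908)) (BT.leaf cJ1909)) (BT.node 1911 (BT.node 1910 (BT.leaf cJ1910) (BT.leaf cJ1911)) (BT.leaf cJ1912)))) (BT.node 1918 (BT.node 1915 (BT.node 1914 (BT.node 1913 (BT.leaf cJ1913) (BT.leaf cJ1914))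 (BT.leaf cJ1915)) (BT.node 1917 (BT.node 1916 (BT.leaf cJ1916) (BT.leaf cJ1917)) (BT.leaf cJ1918))) (BT.node 1921 (BT.node 1920 (BT.node 1919 (BT.leaf cJ1919) (BT.leaf cJ1920)) (BT.leaf cJ1921)) (BT.node 1922 (BT.leaf cJ1922) (BT.leaf cJ1923)))))) (BT.node 1947 (BT.node 1935 (BT.node 1929 (BT.node 1926 (BT.node 1925 (BT.node 1924 (BT.leaf cJ1924) (BT.leaf cJ1925)) (BT.leaf cJ1926)) (BT.node 1928 (BT.node 1927 (BT.leaf cJ1927) (BT.leaf cJ1928)) (BT.leaf cJ1929))) (BT.node 1932 (BT.node 1931 (BT.node 1930 (BT.leaf cJ1930) (BT.leaf cJ1931)) (BT.leaf cJ1932)) (BT.node 1934 (BT.node 1933 (BT.leaf cJ1933) (BT.leaf cJ1934)) (BT.leaf cJ1935)))) (BT.node 1941 (BT.node 1938 (BT.node 1937 (BT.node 1936 (BT.leaf cJ1936) (BT.leaf cJ1937)) (BT.leaf cJ1938)) (BT.node 1940 (BT.node 1939 (BT.leaf cJ1939) (BT.leaf cJ1940)) (BT.leaf cJ1941))) (BT.node 1944 (BT.node 1943 (BT.node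 1942 (BT.leaf cJ1942) (BT.leaf cJ1943)) (BT.leaf cJ1944)) (BT.node 1946 (BT.node 1945 (BT.leaf cJ1945) (BT.leaf cJ1946)) (BT.leaf cJ1947))))) (BT.node 1959 (BT.node 1953 (BT.node 1950 (BT.node 1949 (BT.node 1948 (BT.leaf cJ1948) (BT.leaf cJ1949)) (BT.leaf cJ1950)) (BT.node 1952 (BT.node 1951 (BT.leaf cJ1951) (BT.leaf cJ1952)) (BT.leaf cJ1953))) (BT.node 1956 (BT.node 1955 (BT.node 1954 (BT.leaf cJ1954) (BT.leaf cJ1955)) (BT.leaf cJ1956)) (BT.node 1958 (BT.node 1957 (BT.leaf cJ1957) (BT.leaf cJ1958)) (BT.leaf cJ1959)))) (BT.node 1965 (BT.node 1962 (BT.node 1961 (BT.node 1960 (BT.leaf cJ1960) (BT.leaf cJ1961)) (BT.leaf cJ1962)) (BT.node 1964 (BT.node 1963 (BT.leaf cJ1963) (BT.leaf cJ1964)) (BT.leaf cJ1965))) (BT.node 1968 (BT.node 1967 (BT.node 1966 (BT.leaf cJ1966) (BT.leaf cJ1967)) (BT.leaf cJ1968)) (BT.node 1969 (BT.leaf cJ1969) (BT.leaf cJ1970))))))) (BT.node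 2017 (BT.node 1994 (BT.node 1982 (BT.node 1976 (BT.node 1973 (BT.node 1972 (BT.node 1971 (BT.leaf cJ1971) (BT.leaf cJ1972)) (BT.leaf cJ1973)) (BT.node 1975 (BT.node 1974 (BT.leaf cJ1974) (BT.leaf cJ1975)) (BT.leaf cJ1976))) (BT.node 1979 (BT.node 1978 (BT.node 1977 (BT.leaf cJ1977) (BT.leaf cJ1978)) (BT.leaf cJ1979)) (BT.node 1981 (BT.node 1980 (BT.leaf cJ1980) (BT.leaf cJ1981)) (BT.leaf cJ1982)))) (BT.node 1988 (BT.node 1985 (BT.node 1984 (BT.node 1983 (BT.leaf cJ1983) (BT.leaf cJ1984)) (BT.leaf cJ1985)) (BT.node 1987 (BT.node 1986 (BT.leaf cJ1986) (BT.leaf cJ1987)) (BT.leaf cJ1988))) (BT.node 1991 (BT.node 1990 (BT.node 1989 (BT.leaf cJ1989) (BT.leaf cJ1990)) (BT.leaf cJ1991)) (BT.node 1993 (BT.node 1992 (BT.leaf cJ1992) (BT.leaf cJ1993)) (BT.leaf cJ1994))))) (BT.node 2006 (BT.node 2000 (BT.node 1997 (BT.node 1996 (BT.node 1995 (BT.leaf cJ1995) (BT.leaf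 cJ1996)) (BT.leaf cJ1997)) (BT.node 1999 (BT.node 1998 (BT.leaf cJ1998) (BT.leaf cJ1999)) (BT.leaf cJ2000))) (BT.node 2003 (BT.node 2002 (BT.node 2001 (BT.leaf cJ2001) (BT.leaf cJ2002)) (BT.leaf cJ2003)) (BT.node 2005 (BT.node 2004 (BT.leaf cJ2004) (BT.leaf cJ2005)) (BT.leaf cJ2006)))) (BT.node 2012 (BT.node 2009 (BT.node 2008 (BT.node 2007 (BT.leaf cJ2007) (BT.leaf cJ2008)) (BT.leaf cJ2009)) (BT.node 2011 (BT.node 2010 (BT.leaf cJ2010) (BT.leaf cJ2011)) (BT.leaf cJ2012))) (BT.node 2015 (BT.node 2014 (BT.node 2013 (BT.leaf cJ2013) (BT.leaf cJ2014)) (BT.leaf cJ2015)) (BT.node 2016 (BT.leaf cJ2016) (BT.leaf cJ2017)))))) (BT.node 2041 (BT.node 2029 (BT.node 2023 (BT.node 2020 (BT.node 2019 (BT.node 2018 (BT.leaf cJ2018) (BT.leaf cJ2019)) (BT.leaf cJ2020)) (BT.node 2022 (BT.node 2021 (BT.leaf cJ2021) (BT.leaf cJ2022)) (BT.leaf cJ2023))) (BT.node 2026 (BT.node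 2025 (BT.node 2024 (BT.leaf cJ2024) (BT.leaf cJ2025)) (BT.leaf cJ2026)) (BT.node 2028 (BT.node 2027 (BT.leaf cJ2027) (BT.leaf cJ2028)) (BT.leaf cJ2029)))) (BT.node 2035 (BT.node 2032 (BT.node 2031 (BT.node 2030 (BT.leaf cJ2030) (BT.leaf cJ2031)) (BT.leaf cJ2032)) (BT.node 2034 (BT.node 2033 (BT.leaf cJ2033) (BT.leaf cJ2034)) (BT.leaf cJ2035))) (BT.node 2038 (BT.node 2037 (BT.node 2036 (BT.leaf cJ2036) (BT.leaf cJ2037)) (BT.leaf cJ2038)) (BT.node 2040 (BT.node 2039 (BT.leaf cJ2039) (BT.leaf cJ2040)) (BT.leaf cJ2041))))) (BT.node 2053 (BT.node 2047 (BT.node 2044 (BT.node 2043 (BT.node 2042 (BT.leaf cJ2042) (BT.leaf cJ2043)) (BT.leaf cJ2044)) (BT.node 2046 (BT.node 2045 (BT.leaf cJ2045) (BT.leaf cJ2046)) (BT.leaf cJ2047))) (BT.node 2050 (BT.node 2049 (BT.node 2048 (BT.leaf cJ2048) (BT.leaf cJ2049)) (BT.leaf cJ2050)) (BT.node 2052 (BT.node 2051 (BT.leaf cJ2051)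 (BT.leaf cJ2052)) (BT.leaf cJ2053)))) (BT.node 2059 (BT.node 2056 (BT.node 2055 (BT.node 2054 (BT.leaf cJ2054) (BT.leaf cJ2055)) (BT.leaf cJ2056)) (BT.node 2058 (BT.node 2057 (BT.leaf cJ2057) (BT.leaf cJ2058)) (BT.leaf cJ2059))) (BT.node 2062 (BT.node 2061 (BT.node 2060 (BT.leaf cJ2060) (BT.leaf cJ2061)) (BT.leaf cJ2062)) (BT.node 2063 (BT.leaf cJ2063) (BT.leaf cJ2064)))))))) (BT.node 2158 (BT.node 2111 (BT.node 2088 (BT.node 2076 (BT.node 2070 (BT.node 2067 (BT.node 2066 (BT.node 2065 (BT.leaf cJ2065) (BT.leaf cJ2066)) (BT.leaf cJ2067)) (BT.node 2069 (BT.node 2068 (BT.leaf cJ2068) (BT.leaf cJ2069)) (BT.leaf cJ2070))) (BT.node 2073 (BT.node 2072 (BT.node 2071 (BT.leaf cJ2071) (BT.leaf cJ2072)) (BT.leaf cJ2073)) (BT.node 2075 (BT.node 2074 (BT.leaf cJ2074) (BT.leaf cJ2075)) (BT.leaf cJ2076)))) (BT.node 2082 (BT.node 2079 (BT.node 2078 (BT.node 2077 (BT.leaf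 cJ2077) (BT.leaf cJ2078)) (BT.leaf cJ2079)) (BT.node 2081 (BT.node 2080 (BT.leaf cJ2080) (BT.leaf cJ2081)) (BT.leaf cJ2082))) (BT.node 2085 (BT.node 2084 (BT.node 2083 (BT.leaf cJ2083) (BT.leaf cJ2084)) (BT.leaf cJ2085)) (BT.node 2087 (BT.node 2086 (BT.leaf cJ2086) (BT.leaf cJ2087)) (BT.leaf cJ2088))))) (BT.node 2100 (BT.node 2094 (BT.node 2091 (BT.node 2090 (BT.node 2089 (BT.leaf cJ2089) (BT.leaf cJ2090)) (BT.leaf cJ2091)) (BT.node 2093 (BT.node 2092 (BT.leaf cJ2092) (BT.leaf cJ2093)) (BT.leaf cJ2094))) (BT.node 2097 (BT.node 2096 (BT.node 2095 (BT.leaf cJ2095) (BT.leaf cJ2096)) (BT.leaf cJ2097)) (BT.node 2099 (BT.node 2098 (BT.leaf cJ2098) (BT.leaf cJ2099)) (BT.leaf cJ2100)))) (BT.node 2106 (BT.node 2103 (BT.node 2102 (BT.node 2101 (BT.leaf cJ2101) (BT.leaf cJ2102)) (BT.leaf cJ2103)) (BT.node 2105 (BT.node 2104 (BT.leaf cJ2104) (BT.leaf cJ2105)) (BT.leaf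 cJ2106))) (BT.node 2109 (BT.node 2108 (BT.node 2107 (BT.leaf cJ2107) (BT.leaf cJ2108)) (BT.leaf cJ2109)) (BT.node 2110 (BT.leaf cJ2110) (BT.leaf cJ2111)))))) (BT.node 2135 (BT.node 2123 (BT.node 2117 (BT.node 2114 (BT.node 2113 (BT.node 2112 (BT.leaf cJ2112) (BT.leaf cJ2113)) (BT.leaf cJ2114)) (BT.node 2116 (BT.node 2115 (BT.leaf cJ2115) (BT.leaf cJ2116)) (BT.leaf cJ2117))) (BT.node 2120 (BT.node 2119 (BT.node 2118 (BT.leaf cJ2118) (BT.leaf cJ2119)) (BT.leaf cJ2120)) (BT.node 2122 (BT.node 2121 (BT.leaf cJ2121) (BT.leaf cJ2122)) (BT.leaf cJ2123)))) (BT.node 2129 (BT.node 2126 (BT.node 2125 (BT.node 2124 (BT.leaf cJ2124) (BT.leaf cJ2125)) (BT.leaf cJ2126)) (BT.node 2128 (BT.node 2127 (BT.leaf cJ2127) (BT.leaf cJ2128)) (BT.leaf cJ2129))) (BT.node 2132 (BT.node 2131 (BT.node 2130 (BT.leaf cJ2130) (BT.leaf cJ2131)) (BT.leaf cJ2132)) (BT.node 2134 (BT.node 2133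 (BT.leaf cJ2133) (BT.leaf cJ2134)) (BT.leaf cJ2135))))) (BT.node 2147 (BT.node 2141 (BT.node 2138 (BT.node 2137 (BT.node 2136 (BT.leaf cJ2136) (BT.leaf cJ2137)) (BT.leaf cJ2138)) (BT.node 2140 (BT.node 2139 (BT.leaf cJ2139) (BT.leaf cJ2140)) (BT.leaf cJ2141))) (BT.node 2144 (BT.node 2143 (BT.node 2142 (BT.leaf cJ2142) (BT.leaf cJ2143)) (BT.leaf cJ2144)) (BT.node 2146 (BT.node 2145 (BT.leaf cJ2145) (BT.leaf cJ2146)) (BT.leaf cJ2147)))) (BT.node 2153 (BT.node 2150 (BT.node 2149 (BT.node 2148 (BT.leaf cJ2148) (BT.leaf cJ2149)) (BT.leaf cJ2150)) (BT.node 2152 (BT.node 2151 (BT.leaf cJ2151) (BT.leaf cJ2152)) (BT.leaf cJ2153))) (BT.node 2156 (BT.node 2155 (BT.node 2154 (BT.leaf cJ2154) (BT.leaf cJ2155)) (BT.leaf cJ2156)) (BT.node 2157 (BT.leaf cJ2157) (BT.leaf cJ2158))))))) (BT.node 2205 (BT.node 2182 (BT.node 2170 (BT.node 2164 (BT.node 2161 (BT.node 2160 (BT.node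 2159 (BT.leaf cJ2159) (BT.leaf cJ2160)) (BT.leaf cJ2161)) (BT.node 2163 (BT.node 2162 (BT.leaf cJ2162) (BT.leaf cJ2163)) (BT.leaf cJ2164))) (BT.node 2167 (BT.node 2166 (BT.node 2165 (BT.leaf cJ2165) (BT.leaf cJ2166)) (BT.leaf cJ2167)) (BT.node 2169 (BT.node 2168 (BT.leaf cJ2168) (BT.leaf cJ2169)) (BT.leaf cJ2170)))) (BT.node 2176 (BT.node 2173 (BT.node 2172 (BT.node 2171 (BT.leaf cJ2171) (BT.leaf cJ2172)) (BT.leaf cJ2173)) (BT.node 2175 (BT.node 2174 (BT.leaf cJ2174) (BT.leaf cJ2175)) (BT.leaf cJ2176))) (BT.node 2179 (BT.node 2178 (BT.node 2177 (BT.leaf cJ2177) (BT.leaf cJ2178)) (BT.leaf cJ2179)) (BT.node 2181 (BT.node 2180 (BT.leaf cJ2180) (BT.leaf cJ2181)) (BT.leaf cJ2182))))) (BT.node 2194 (BT.node 2188 (BT.node 2185 (BT.node 2184 (BT.node 2183 (BT.leaf cJ2183) (BT.leaf cJ2184)) (BT.leaf cJ2185)) (BT.node 2187 (BT.node 2186 (BT.leaf cJ2186) (BT.leaf cJ2187))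 (BT.leaf cJ2188))) (BT.node 2191 (BT.node 2190 (BT.node 2189 (BT.leaf cJ2189) (BT.leaf cJ2190)) (BT.leaf cJ2191)) (BT.node 2193 (BT.node 2192 (BT.leaf cJ2192) (BT.leaf cJ2193)) (BT.leaf cJ2194)))) (BT.node 2200 (BT.node 2197 (BT.node 2196 (BT.node 2195 (BT.leaf cJ2195) (BT.leaf cJ2196)) (BT.leaf cJ2197)) (BT.node 2199 (BT.node 2198 (BT.leaf cJ2198) (BT.leaf cJ2199)) (BT.leaf cJ2200))) (BT.node 2203 (BT.node 2202 (BT.node 2201 (BT.leaf cJ2201) (BT.leaf cJ2202)) (BT.leaf cJ2203)) (BT.node 2204 (BT.leaf cJ2204) (BT.leaf cJ2205)))))) (BT.node 2228 (BT.node 2217 (BT.node 2211 (BT.node 2208 (BT.node 2207 (BT.node 2206 (BT.leaf cJ2206) (BT.leaf cJ2207)) (BT.leaf cJ2208)) (BT.node 2210 (BT.node 2209 (BT.leaf cJ2209) (BT.leaf cJ2210)) (BT.leaf cJ2211))) (BT.node 2214 (BT.node 2213 (BT.node 2212 (BT.leaf cJ2212) (BT.leaf cJ2213)) (BT.leaf cJ2214)) (BT.node 2216 (BT.node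 2215 (BT.leaf cJ2215) (BT.leaf cJ2216)) (BT.leaf cJ2217)))) (BT.node 2223 (BT.node 2220 (BT.node 2219 (BT.node 2218 (BT.leaf cJ2218) (BT.leaf cJ2219)) (BT.leaf cJ2220)) (BT.node 2222 (BT.node 2221 (BT.leaf cJ2221) (BT.leaf cJ2222)) (BT.leaf cJ2223))) (BT.node 2226 (BT.node 2225 (BT.node 2224 (BT.leaf cJ2224) (BT.leaf cJ2225)) (BT.leaf cJ2226)) (BT.node 2227 (BT.leaf cJ2227) (BT.leaf cJ2228))))) (BT.node 2240 (BT.node 2234 (BT.node 2231 (BT.node 2230 (BT.node 2229 (BT.leaf cJ2229) (BT.leaf cJ2230)) (BT.leaf cJ2231)) (BT.node 2233 (BT.node 2232 (BT.leaf cJ2232) (BT.leaf cJ2233)) (BT.leaf cJ2234))) (BT.node 2237 (BT.node 2236 (BT.node 2235 (BT.leaf cJ2235) (BT.leaf cJ2236)) (BT.leaf cJ2237)) (BT.node 2239 (BT.node 2238 (BT.leaf cJ2238) (BT.leaf cJ2239)) (BT.leaf cJ2240)))) (BT.node 2246 (BT.node 2243 (BT.node 2242 (BT.node 2241 (BT.leaf cJ2241) (BT.leaf cJ2242))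 (BT.leaf cJ2243)) (BT.node 2245 (BT.node 2244 (BT.leaf cJ2244) (BT.leaf cJ2245)) (BT.leaf cJ2246))) (BT.node 2249 (BT.node 2248 (BT.node 2247 (BT.leaf cJ2247) (BT.leaf cJ2248)) (BT.leaf cJ2249)) (BT.node 2250 (BT.leaf cJ2250) (BT.leaf cJ2251)))))))))) (BT.node 2626 (BT.node 2439 (BT.node 2345 (BT.node 2298 (BT.node 2275 (BT.node 2263 (BT.node 2257 (BT.node 2254 (BT.node 2253 (BT.node 2252 (BT.leaf cJ2252) (BT.leaf cJ2253)) (BT.leaf cJ2254)) (BT.node 2256 (BT.node 2255 (BT.leaf cJ2255) (BT.leaf cJ2256)) (BT.leaf cJ2257))) (BT.node 2260 (BT.node 2259 (BT.node 2258 (BT.leaf cJ2258) (BT.leaf cJ2259)) (BT.leaf cJ2260)) (BT.node 2262 (BT.node 2261 (BT.leaf cJ2261) (BT.leaf cJ2262)) (BT.leaf cJ2263)))) (BT.node 2269 (BT.node 2266 (BT.node 2265 (BT.node 2264 (BT.leaf cJ2264) (BT.leaf cJ2265)) (BT.leaf cJ2266)) (BT.node 2268 (BT.node 2267 (BT.leaf cJ2267) (BT.leaf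 cJ2268)) (BT.leaf cJ2269))) (BT.node 2272 (BT.node 2271 (BT.node 2270 (BT.leaf cJ2270) (BT.leaf cJ2271)) (BT.leaf cJ2272)) (BT.node 2274 (BT.node 2273 (BT.leaf cJ2273) (BT.leaf cJ2274)) (BT.leaf cJ2275))))) (BT.node 2287 (BT.node 2281 (BT.node 2278 (BT.node 2277 (BT.node 2276 (BT.leaf cJ2276) (BT.leaf cJ2277)) (BT.leaf cJ2278)) (BT.node 2280 (BT.node 2279 (BT.leaf cJ2279) (BT.leaf cJ2280)) (BT.leaf cJ2281))) (BT.node 2284 (BT.node 2283 (BT.node 2282 (BT.leaf cJ2282) (BT.leaf cJ2283)) (BT.leaf cJ2284)) (BT.node 2286 (BT.node 2285 (BT.leaf cJ2285) (BT.leaf cJ2286)) (BT.leaf cJ2287)))) (BT.node 2293 (BT.node 2290 (BT.node 2289 (BT.node 2288 (BT.leaf cJ2288) (BT.leaf cJ2289)) (BT.leaf cJ2290)) (BT.node 2292 (BT.node 2291 (BT.leaf cJ2291) (BT.leaf cJ2292)) (BT.leaf cJ2293))) (BT.node 2296 (BT.node 2295 (BT.node 2294 (BT.leaf cJ2294) (BT.leaf cJ2295)) (BT.leaf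 cJ2296)) (BT.node 2297 (BT.leaf cJ2297) (BT.leaf cJ2298)))))) (BT.node 2322 (BT.node 2310 (BT.node 2304 (BT.node 2301 (BT.node 2300 (BT.node 2299 (BT.leaf cJ2299) (BT.leaf cJ2300)) (BT.leaf cJ2301)) (BT.node 2303 (BT.node 2302 (BT.leaf cJ2302) (BT.leaf cJ2303)) (BT.leaf cJ2304))) (BT.node 2307 (BT.node 2306 (BT.node 2305 (BT.leaf cJ2305) (BT.leaf cJ2306)) (BT.leaf cJ2307)) (BT.node 2309 (BT.node 2308 (BT.leaf cJ2308) (BT.leaf cJ2309)) (BT.leaf cJ2310)))) (BT.node 2316 (BT.node 2313 (BT.node 2312 (BT.node 2311 (BT.leaf cJ2311) (BT.leaf cJ2312)) (BT.leaf cJ2313)) (BT.node 2315 (BT.node 2314 (BT.leaf cJ2314) (BT.leaf cJ2315)) (BT.leaf cJ2316))) (BT.node 2319 (BT.node 2318 (BT.node 2317 (BT.leaf cJ2317) (BT.leaf cJ2318)) (BT.leaf cJ2319)) (BT.node 2321 (BT.node 2320 (BT.leaf cJ2320) (BT.leaf cJ2321)) (BT.leaf cJ2322))))) (BT.node 2334 (BT.node 2328 (BT.node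 2325 (BT.node 2324 (BT.node 2323 (BT.leaf cJ2323) (BT.leaf cJ2324)) (BT.leaf cJ2325)) (BT.node 2327 (BT.node 2326 (BT.leaf cJ2326) (BT.leaf cJ2327)) (BT.leaf cJ2328))) (BT.node 2331 (BT.node 2330 (BT.node 2329 (BT.leaf cJ2329) (BT.leaf cJ2330)) (BT.leaf cJ2331)) (BT.node 2333 (BT.node 2332 (BT.leaf cJ2332) (BT.leaf cJ2333)) (BT.leaf cJ2334)))) (BT.node 2340 (BT.node 2337 (BT.node 2336 (BT.node 2335 (BT.leaf cJ2335) (BT.leaf cJ2336)) (BT.leaf cJ2337)) (BT.node 2339 (BT.node 2338 (BT.leaf cJ2338) (BT.leaf cJ2339)) (BT.leaf cJ2340))) (BT.node 2343 (BT.node 2342 (BT.node 2341 (BT.leaf cJ2341) (BT.leaf cJ2342)) (BT.leaf cJ2343)) (BT.node 2344 (BT.leaf cJ2344) (BT.leaf cJ2345))))))) (BT.node 2392 (BT.node 2369 (BT.node 2357 (BT.node 2351 (BT.node 2348 (BT.node 2347 (BT.node 2346 (BT.leaf cJ2346) (BT.leaf cJ2347)) (BT.leaf cJ2348)) (BT.node 2350 (BT.node 2349 (BT.leaf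 cJ2349) (BT.leaf cJ2350)) (BT.leaf cJ2351))) (BT.node 2354 (BT.node 2353 (BT.node 2352 (BT.leaf cJ2352) (BT.leaf cJ2353)) (BT.leaf cJ2354)) (BT.node 2356 (BT.node 2355 (BT.leaf cJ2355) (BT.leaf cJ2356)) (BT.leaf cJ2357)))) (BT.node 2363 (BT.node 2360 (BT.node 2359 (BT.node 2358 (BT.leaf cJ2358) (BT.leaf cJ2359)) (BT.leaf cJ2360)) (BT.node 2362 (BT.node 2361 (BT.leaf cJ2361) (BT.leaf cJ2362)) (BT.leaf cJ2363))) (BT.node 2366 (BT.node 2365 (BT.node 2364 (BT.leaf cJ2364) (BT.leaf cJ2365)) (BT.leaf cJ2366)) (BT.node 2368 (BT.node 2367 (BT.leaf cJ2367) (BT.leaf cJ2368)) (BT.leaf cJ2369))))) (BT.node 2381 (BT.node 2375 (BT.node 2372 (BT.node 2371 (BT.node 2370 (BT.leaf cJ2370) (BT.leaf cJ2371)) (BT.leaf cJ2372)) (BT.node 2374 (BT.node 2373 (BT.leaf cJ2373) (BT.leaf cJ2374)) (BT.leaf cJ2375))) (BT.node 2378 (BT.node 2377 (BT.node 2376 (BT.leaf cJ2376) (BT.leaf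 cJ2377)) (BT.leaf cJ2378)) (BT.node 2380 (BT.node 2379 (BT.leaf cJ2379) (BT.leaf cJ2380)) (BT.leaf cJ2381)))) (BT.node 2387 (BT.node 2384 (BT.node 2383 (BT.node 2382 (BT.leaf cJ2382) (BT.leaf cJ2383)) (BT.leaf cJ2384)) (BT.node 2386 (BT.node 2385 (BT.leaf cJ2385) (BT.leaf cJ2386)) (BT.leaf cJ2387))) (BT.node 2390 (BT.node 2389 (BT.node 2388 (BT.leaf cJ2388) (BT.leaf cJ2389)) (BT.leaf cJ2390)) (BT.node 2391 (BT.leaf cJ2391) (BT.leaf cJ2392)))))) (BT.node 2416 (BT.node 2404 (BT.node 2398 (BT.node 2395 (BT.node 2394 (BT.node 2393 (BT.leaf cJ2393) (BT.leaf cJ2394)) (BT.leaf cJ2395)) (BT.node 2397 (BT.node 2396 (BT.leaf cJ2396) (BT.leaf cJ2397)) (BT.leaf cJ2398))) (BT.node 2401 (BT.node 2400 (BT.node 2399 (BT.leaf cJ2399) (BT.leaf cJ2400)) (BT.leaf cJ2401)) (BT.node 2403 (BT.node 2402 (BT.leaf cJ2402) (BT.leaf cJ2403)) (BT.leaf cJ2404)))) (BT.node 2410 (BT.node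 2407 (BT.node 2406 (BT.node 2405 (BT.leaf cJ2405) (BT.leaf cJ2406)) (BT.leaf cJ2407)) (BT.node 2409 (BT.node 2408 (BT.leaf cJ2408) (BT.leaf cJ2409)) (BT.leaf cJ2410))) (BT.node 2413 (BT.node 2412 (BT.node 2411 (BT.leaf cJ2411) (BT.leaf cJ2412)) (BT.leaf cJ2413)) (BT.node 2415 (BT.node 2414 (BT.leaf cJ2414) (BT.leaf cJ2415)) (BT.leaf cJ2416))))) (BT.node 2428 (BT.node 2422 (BT.node 2419 (BT.node 2418 (BT.node 2417 (BT.leaf cJ2417) (BT.leaf cJ2418)) (BT.leaf cJ2419)) (BT.node 2421 (BT.node 2420 (BT.leaf cJ2420) (BT.leaf cJ2421)) (BT.leaf cJ2422))) (BT.node 2425 (BT.node 2424 (BT.node 2423 (BT.leaf cJ2423) (BT.leaf cJ2424)) (BT.leaf cJ2425)) (BT.node 2427 (BT.node 2426 (BT.leaf cJ2426) (BT.leaf cJ2427)) (BT.leaf cJ2428)))) (BT.node 2434 (BT.node 2431 (BT.node 2430 (BT.node 2429 (BT.leaf cJ2429) (BT.leaf cJ2430)) (BT.leaf cJ2431)) (BT.node 2433 (BT.node 2432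 (BT.leaf cJ2432) (BT.leaf cJ2433)) (BT.leaf cJ2434))) (BT.node 2437 (BT.node 2436 (BT.node 2435 (BT.leaf cJ2435) (BT.leaf cJ2436)) (BT.leaf cJ2437)) (BT.node 2438 (BT.leaf cJ2438) (BT.leaf cJ2439)))))))) (BT.node 2533 (BT.node 2486 (BT.node 2463 (BT.node 2451 (BT.node 2445 (BT.node 2442 (BT.node 2441 (BT.node 2440 (BT.leaf cJ2440) (BT.leaf cJ2441)) (BT.leaf cJ2442)) (BT.node 2444 (BT.node 2443 (BT.leaf cJ2443) (BT.leaf cJ2444)) (BT.leaf cJ2445))) (BT.node 2448 (BT.node 2447 (BT.node 2446 (BT.leaf cJ2446) (BT.leaf cJ2447)) (BT.leaf cJ2448)) (BT.node 2450 (BT.node 2449 (BT.leaf cJ2449) (BT.leaf cJ2450)) (BT.leaf cJ2451)))) (BT.node 2457 (BT.node 2454 (BT.node 2453 (BT.node 2452 (BT.leaf cJ2452) (BT.leaf cJ2453)) (BT.leaf cJ2454)) (BT.node 2456 (BT.node 2455 (BT.leaf cJ2455) (BT.leaf cJ2456)) (BT.leaf cJ2457))) (BT.node 2460 (BT.node 2459 (BT.node 2458 (BT.leaf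 cJ2458) (BT.leaf cJ2459)) (BT.leaf cJ2460)) (BT.node 2462 (BT.node 2461 (BT.leaf cJ2461) (BT.leaf cJ2462)) (BT.leaf cJ2463))))) (BT.node 2475 (BT.node 2469 (BT.node 2466 (BT.node 2465 (BT.node 2464 (BT.leaf cJ2464) (BT.leaf cJ2465)) (BT.leaf cJ2466)) (BT.node 2468 (BT.node 2467 (BT.leaf cJ2467) (BT.leaf cJ2468)) (BT.leaf cJ2469))) (BT.node 2472 (BT.node 2471 (BT.node 2470 (BT.leaf cJ2470) (BT.leaf cJ2471)) (BT.leaf cJ2472)) (BT.node 2474 (BT.node 2473 (BT.leaf cJ2473) (BT.leaf cJ2474)) (BT.leaf cJ2475)))) (BT.node 2481 (BT.node 2478 (BT.node 2477 (BT.node 2476 (BT.leaf cJ2476) (BT.leaf cJ2477)) (BT.leaf cJ2478)) (BT.node 2480 (BT.node 2479 (BT.leaf cJ2479) (BT.leaf cJ2480)) (BT.leaf cJ2481))) (BT.node 2484 (BT.node 2483 (BT.node 2482 (BT.leaf cJ2482) (BT.leaf cJ2483)) (BT.leaf cJ2484)) (BT.node 2485 (BT.leaf cJ2485) (BT.leaf cJ2486)))))) (BT.node 2510 (BT.node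 2498 (BT.node 2492 (BT.node 2489 (BT.node 2488 (BT.node 2487 (BT.leaf cJ2487) (BT.leaf cJ2488)) (BT.leaf cJ2489)) (BT.node 2491 (BT.node 2490 (BT.leaf cJ2490) (BT.leaf cJ2491)) (BT.leaf cJ2492))) (BT.node 2495 (BT.node 2494 (BT.node 2493 (BT.leaf cJ2493) (BT.leaf cJ2494)) (BT.leaf cJ2495)) (BT.node 2497 (BT.node 2496 (BT.leaf cJ2496) (BT.leaf cJ2497)) (BT.leaf cJ2498)))) (BT.node 2504 (BT.node 2501 (BT.node 2500 (BT.node 2499 (BT.leaf cJ2499) (BT.leaf cJ2500)) (BT.leaf cJ2501)) (BT.node 2503 (BT.node 2502 (BT.leaf cJ2502) (BT.leaf cJ2503)) (BT.leaf cJ2504))) (BT.node 2507 (BT.node 2506 (BT.node 2505 (BT.leaf cJ2505) (BT.leaf cJ2506)) (BT.leaf cJ2507)) (BT.node 2509 (BT.node 2508 (BT.leaf cJ2508) (BT.leaf cJ2509)) (BT.leaf cJ2510))))) (BT.node 2522 (BT.node 2516 (BT.node 2513 (BT.node 2512 (BT.node 2511 (BT.leaf cJ2511) (BT.leaf cJ2512)) (BT.leaf cJ2513))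 (BT.node 2515 (BT.node 2514 (BT.leaf cJ2514) (BT.leaf cJ2515)) (BT.leaf cJ2516))) (BT.node 2519 (BT.node 2518 (BT.node 2517 (BT.leaf cJ2517) (BT.leaf cJ2518)) (BT.leaf cJ2519)) (BT.node 2521 (BT.node 2520 (BT.leaf cJ2520) (BT.leaf cJ2521)) (BT.leaf cJ2522)))) (BT.node 2528 (BT.node 2525 (BT.node 2524 (BT.node 2523 (BT.leaf cJ2523) (BT.leaf cJ2524)) (BT.leaf cJ2525)) (BT.node 2527 (BT.node 2526 (BT.leaf cJ2526) (BT.leaf cJ2527)) (BT.leaf cJ2528))) (BT.node 2531 (BT.node 2530 (BT.node 2529 (BT.leaf cJ2529) (BT.leaf cJ2530)) (BT.leaf cJ2531)) (BT.node 2532 (BT.leaf cJ2532) (BT.leaf cJ2533))))))) (BT.node 2580 (BT.node 2557 (BT.node 2545 (BT.node 2539 (BT.node 2536 (BT.node 2535 (BT.node 2534 (BT.leaf cJ2534) (BT.leaf cJ2535)) (BT.leaf cJ2536)) (BT.node 2538 (BT.node 2537 (BT.leaf cJ2537) (BT.leaf cJ2538)) (BT.leaf cJ2539))) (BT.node 2542 (BT.node 2541 (BT.node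 2540 (BT.leaf cJ2540) (BT.leaf cJ2541)) (BT.leaf cJ2542)) (BT.node 2544 (BT.node 2543 (BT.leaf cJ2543) (BT.leaf cJ2544)) (BT.leaf cJ2545)))) (BT.node 2551 (BT.node 2548 (BT.node 2547 (BT.node 2546 (BT.leaf cJ2546) (BT.leaf cJ2547)) (BT.leaf cJ2548)) (BT.node 2550 (BT.node 2549 (BT.leaf cJ2549) (BT.leaf cJ2550)) (BT.leaf cJ2551))) (BT.node 2554 (BT.node 2553 (BT.node 2552 (BT.leaf cJ2552) (BT.leaf cJ2553)) (BT.leaf cJ2554)) (BT.node 2556 (BT.node 2555 (BT.leaf cJ2555) (BT.leaf cJ2556)) (BT.leaf cJ2557))))) (BT.node 2569 (BT.node 2563 (BT.node 2560 (BT.node 2559 (BT.node 2558 (BT.leaf cJ2558) (BT.leaf cJ2559)) (BT.leaf cJ2560)) (BT.node 2562 (BT.node 2561 (BT.leaf cJ2561) (BT.leaf cJ2562)) (BT.leaf cJ2563))) (BT.node 2566 (BT.node 2565 (BT.node 2564 (BT.leaf cJ2564) (BT.leaf cJ2565)) (BT.leaf cJ2566)) (BT.node 2568 (BT.node 2567 (BT.leaf cJ2567) (BT.leaf cJ2568))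 (BT.leaf cJ2569)))) (BT.node 2575 (BT.node 2572 (BT.node 2571 (BT.node 2570 (BT.leaf cJ2570) (BT.leaf cJ2571)) (BT.leaf cJ2572)) (BT.node 2574 (BT.node 2573 (BT.leaf cJ2573) (BT.leaf cJ2574)) (BT.leaf cJ2575))) (BT.node 2578 (BT.node 2577 (BT.node 2576 (BT.leaf cJ2576) (BT.leaf cJ2577)) (BT.leaf cJ2578)) (BT.node 2579 (BT.leaf cJ2579) (BT.leaf cJ2580)))))) (BT.node 2603 (BT.node 2592 (BT.node 2586 (BT.node 2583 (BT.node 2582 (BT.node 2581 (BT.leaf cJ2581) (BT.leaf cJ2582)) (BT.leaf cJ2583)) (BT.node 2585 (BT.node 2584 (BT.leaf cJ2584) (BT.leaf cJ2585)) (BT.leaf cJ2586))) (BT.node 2589 (BT.node 2588 (BT.node 2587 (BT.leaf cJ2587) (BT.leaf cJ2588)) (BT.leaf cJ2589)) (BT.node 2591 (BT.node 2590 (BT.leaf cJ2590) (BT.leaf cJ2591)) (BT.leaf cJ2592)))) (BT.node 2598 (BT.node 2595 (BT.node 2594 (BT.node 2593 (BT.leaf cJ2593) (BT.leaf cJ2594)) (BT.leaf cJ2595)) (BT.node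 2597 (BT.node 2596 (BT.leaf cJ2596) (BT.leaf cJ2597)) (BT.leaf cJ2598))) (BT.node 2601 (BT.node 2600 (BT.node 2599 (BT.leaf cJ2599) (BT.leaf cJ2600)) (BT.leaf cJ2601)) (BT.node 2602 (BT.leaf cJ2602) (BT.leaf cJ2603))))) (BT.node 2615 (BT.node 2609 (BT.node 2606 (BT.node 2605 (BT.node 2604 (BT.leaf cJ2604) (BT.leaf cJ2605)) (BT.leaf cJ2606)) (BT.node 2608 (BT.node 2607 (BT.leaf cJ2607) (BT.leaf cJ2608)) (BT.leaf cJ2609))) (BT.node 2612 (BT.node 2611 (BT.node 2610 (BT.leaf cJ2610) (BT.leaf cJ2611)) (BT.leaf cJ2612)) (BT.node 2614 (BT.node 2613 (BT.leaf cJ2613) (BT.leaf cJ2614)) (BT.leaf cJ2615)))) (BT.node 2621 (BT.node 2618 (BT.node 2617 (BT.node 2616 (BT.leaf cJ2616) (BT.leaf cJ2617)) (BT.leaf cJ2618)) (BT.node 2620 (BT.node 2619 (BT.leaf cJ2619) (BT.leaf cJ2620)) (BT.leaf cJ2621))) (BT.node 2624 (BT.node 2623 (BT.node 2622 (BT.leaf cJ2622) (BT.leaf cJ2623))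 (BT.leaf cJ2624)) (BT.node 2625 (BT.leaf cJ2625) (BT.leaf cJ2626))))))))) (BT.node 2814 (BT.node 2720 (BT.node 2673 (BT.node 2650 (BT.node 2638 (BT.node 2632 (BT.node 2629 (BT.node 2628 (BT.node 2627 (BT.leaf cJ2627) (BT.leaf cJ2628)) (BT.leaf cJ2629)) (BT.node 2631 (BT.node 2630 (BT.leaf cJ2630) (BT.leaf cJ2631)) (BT.leaf cJ2632))) (BT.node 2635 (BT.node 2634 (BT.node 2633 (BT.leaf cJ2633) (BT.leaf cJ2634)) (BT.leaf cJ2635)) (BT.node 2637 (BT.node 2636 (BT.leaf cJ2636) (BT.leaf cJ2637)) (BT.leaf cJ2638)))) (BT.node 2644 (BT.node 2641 (BT.node 2640 (BT.node 2639 (BT.leaf cJ2639) (BT.leaf cJ2640)) (BT.leaf cJ2641)) (BT.node 2643 (BT.node 2642 (BT.leaf cJ2642) (BT.leaf cJ2643)) (BT.leaf cJ2644))) (BT.node 2647 (BT.node 2646 (BT.node 2645 (BT.leaf cJ2645) (BT.leaf cJ2646)) (BT.leaf cJ2647)) (BT.node 2649 (BT.node 2648 (BT.leaf cJ2648) (BT.leaf cJ2649)) (BT.leaf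 cJ2650))))) (BT.node 2662 (BT.node 2656 (BT.node 2653 (BT.node 2652 (BT.node 2651 (BT.leaf cJ2651) (BT.leaf cJ2652)) (BT.leaf cJ2653)) (BT.node 2655 (BT.node 2654 (BT.leaf cJ2654) (BT.leaf cJ2655)) (BT.leaf cJ2656))) (BT.node 2659 (BT.node 2658 (BT.node 2657 (BT.leaf cJ2657) (BT.leaf cJ2658)) (BT.leaf cJ2659)) (BT.node 2661 (BT.node 2660 (BT.leaf cJ2660) (BT.leaf cJ2661)) (BT.leaf cJ2662)))) (BT.node 2668 (BT.node 2665 (BT.node 2664 (BT.node 2663 (BT.leaf cJ2663) (BT.leaf cJ2664)) (BT.leaf cJ2665)) (BT.node 2667 (BT.node 2666 (BT.leaf cJ2666) (BT.leaf cJ2667)) (BT.leaf cJ2668))) (BT.node 2671 (BT.node 2670 (BT.node 2669 (BT.leaf cJ2669) (BT.leaf cJ2670)) (BT.leaf cJ2671)) (BT.node 2672 (BT.leaf cJ2672) (BT.leaf cJ2673)))))) (BT.node 2697 (BT.node 2685 (BT.node 2679 (BT.node 2676 (BT.node 2675 (BT.node 2674 (BT.leaf cJ2674) (BT.leaf cJ2675)) (BT.leaf cJ2676))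 (BT.node 2678 (BT.node 2677 (BT.leaf cJ2677) (BT.leaf cJ2678)) (BT.leaf cJ2679))) (BT.node 2682 (BT.node 2681 (BT.node 2680 (BT.leaf cJ2680) (BT.leaf cJ2681)) (BT.leaf cJ2682)) (BT.node 2684 (BT.node 2683 (BT.leaf cJ2683) (BT.leaf cJ2684)) (BT.leaf cJ2685)))) (BT.node 2691 (BT.node 2688 (BT.node 2687 (BT.node 2686 (BT.leaf cJ2686) (BT.leaf cJ2687)) (BT.leaf cJ2688)) (BT.node 2690 (BT.node 2689 (BT.leaf cJ2689) (BT.leaf cJ2690)) (BT.leaf cJ2691))) (BT.node 2694 (BT.node 2693 (BT.node 2692 (BT.leaf cJ2692) (BT.leaf cJ2693)) (BT.leaf cJ2694)) (BT.node 2696 (BT.node 2695 (BT.leaf cJ2695) (BT.leaf cJ2696)) (BT.leaf cJ2697))))) (BT.node 2709 (BT.node 2703 (BT.node 2700 (BT.node 2699 (BT.node 2698 (BT.leaf cJ2698) (BT.leaf cJ2699)) (BT.leaf cJ2700)) (BT.node 2702 (BT.node 2701 (BT.leaf cJ2701) (BT.leaf cJ2702)) (BT.leaf cJ2703))) (BT.node 2706 (BT.node 2705 (BT.node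 2704 (BT.leaf cJ2704) (BT.leaf cJ2705)) (BT.leaf cJ2706)) (BT.node 2708 (BT.node 2707 (BT.leaf cJ2707) (BT.leaf cJ2708)) (BT.leaf cJ2709)))) (BT.node 2715 (BT.node 2712 (BT.node 2711 (BT.node 2710 (BT.leaf cJ2710) (BT.leaf cJ2711)) (BT.leaf cJ2712)) (BT.node 2714 (BT.node 2713 (BT.leaf cJ2713) (BT.leaf cJ2714)) (BT.leaf cJ2715))) (BT.node 2718 (BT.node 2717 (BT.node 2716 (BT.leaf cJ2716) (BT.leaf cJ2717)) (BT.leaf cJ2718)) (BT.node 2719 (BT.leaf cJ2719) (BT.leaf cJ2720))))))) (BT.node 2767 (BT.node 2744 (BT.node 2732 (BT.node 2726 (BT.node 2723 (BT.node 2722 (BT.node 2721 (BT.leaf cJ2721) (BT.leaf cJ2722)) (BT.leaf cJ2723)) (BT.node 2725 (BT.node 2724 (BT.leaf cJ2724) (BT.leaf cJ2725)) (BT.leaf cJ2726))) (BT.node 2729 (BT.node 2728 (BT.node 2727 (BT.leaf cJ2727) (BT.leaf cJ2728)) (BT.leaf cJ2729)) (BT.node 2731 (BT.node 2730 (BT.leaf cJ2730) (BT.leaf cJ2731))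 (BT.leaf cJ2732)))) (BT.node 2738 (BT.node 2735 (BT.node 2734 (BT.node 2733 (BT.leaf cJ2733) (BT.leaf cJ2734)) (BT.leaf cJ2735)) (BT.node 2737 (BT.node 2736 (BT.leaf cJ2736) (BT.leaf cJ2737)) (BT.leaf cJ2738))) (BT.node 2741 (BT.node 2740 (BT.node 2739 (BT.leaf cJ2739) (BT.leaf cJ2740)) (BT.leaf cJ2741)) (BT.node 2743 (BT.node 2742 (BT.leaf cJ2742) (BT.leaf cJ2743)) (BT.leaf cJ2744))))) (BT.node 2756 (BT.node 2750 (BT.node 2747 (BT.node 2746 (BT.node 2745 (BT.leaf cJ2745) (BT.leaf cJ2746)) (BT.leaf cJ2747)) (BT.node 2749 (BT.node 2748 (BT.leaf cJ2748) (BT.leaf cJ2749)) (BT.leaf cJ2750))) (BT.node 2753 (BT.node 2752 (BT.node 2751 (BT.leaf cJ2751) (BT.leaf cJ2752)) (BT.leaf cJ2753)) (BT.node 2755 (BT.node 2754 (BT.leaf cJ2754) (BT.leaf cJ2755)) (BT.leaf cJ2756)))) (BT.node 2762 (BT.node 2759 (BT.node 2758 (BT.node 2757 (BT.leaf cJ2757) (BT.leaf cJ2758)) (BT.leaf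 cJ2759)) (BT.node 2761 (BT.node 2760 (BT.leaf cJ2760) (BT.leaf cJ2761)) (BT.leaf cJ2762))) (BT.node 2765 (BT.node 2764 (BT.node 2763 (BT.leaf cJ2763) (BT.leaf cJ2764)) (BT.leaf cJ2765)) (BT.node 2766 (BT.leaf cJ2766) (BT.leaf cJ2767)))))) (BT.node 2791 (BT.node 2779 (BT.node 2773 (BT.node 2770 (BT.node 2769 (BT.node 2768 (BT.leaf cJ2768) (BT.leaf cJ2769)) (BT.leaf cJ2770)) (BT.node 2772 (BT.node 2771 (BT.leaf cJ2771) (BT.leaf cJ2772)) (BT.leaf cJ2773))) (BT.node 2776 (BT.node 2775 (BT.node 2774 (BT.leaf cJ2774) (BT.leaf cJ2775)) (BT.leaf cJ2776)) (BT.node 2778 (BT.node 2777 (BT.leaf cJ2777) (BT.leaf cJ2778)) (BT.leaf cJ2779)))) (BT.node 2785 (BT.node 2782 (BT.node 2781 (BT.node 2780 (BT.leaf cJ2780) (BT.leaf cJ2781)) (BT.leaf cJ2782)) (BT.node 2784 (BT.node 2783 (BT.leaf cJ2783) (BT.leaf cJ2784)) (BT.leaf cJ2785))) (BT.node 2788 (BT.node 2787 (BT.node 2786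 (BT.leaf cJ2786) (BT.leaf cJ2787)) (BT.leaf cJ2788)) (BT.node 2790 (BT.node 2789 (BT.leaf cJ2789) (BT.leaf cJ2790)) (BT.leaf cJ2791))))) (BT.node 2803 (BT.node 2797 (BT.node 2794 (BT.node 2793 (BT.node 2792 (BT.leaf cJ2792) (BT.leaf cJ2793)) (BT.leaf cJ2794)) (BT.node 2796 (BT.node 2795 (BT.leaf cJ2795) (BT.leaf cJ2796)) (BT.leaf cJ2797))) (BT.node 2800 (BT.node 2799 (BT.node 2798 (BT.leaf cJ2798) (BT.leaf cJ2799)) (BT.leaf cJ2800)) (BT.node 2802 (BT.node 2801 (BT.leaf cJ2801) (BT.leaf cJ2802)) (BT.leaf cJ2803)))) (BT.node 2809 (BT.node 2806 (BT.node 2805 (BT.node 2804 (BT.leaf cJ2804) (BT.leaf cJ2805)) (BT.leaf cJ2806)) (BT.node 2808 (BT.node 2807 (BT.leaf cJ2807) (BT.leaf cJ2808)) (BT.leaf cJ2809))) (BT.node 2812 (BT.node 2811 (BT.node 2810 (BT.leaf cJ2810) (BT.leaf cJ2811)) (BT.leaf cJ2812)) (BT.node 2813 (BT.leaf cJ2813) (BT.leaf cJ2814)))))))) (BT.node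 2908 (BT.node 2861 (BT.node 2838 (BT.node 2826 (BT.node 2820 (BT.node 2817 (BT.node 2816 (BT.node 2815 (BT.leaf cJ2815) (BT.leaf cJ2816)) (BT.leaf cJ2817)) (BT.node 2819 (BT.node 2818 (BT.leaf cJ2818) (BT.leaf cJ2819)) (BT.leaf cJ2820))) (BT.node 2823 (BT.node 2822 (BT.node 2821 (BT.leaf cJ2821) (BT.leaf cJ2822)) (BT.leaf cJ2823)) (BT.node 2825 (BT.node 2824 (BT.leaf cJ2824) (BT.leaf cJ2825)) (BT.leaf cJ2826)))) (BT.node 2832 (BT.node 2829 (BT.node 2828 (BT.node 2827 (BT.leaf cJ2827) (BT.leaf cJ2828)) (BT.leaf cJ2829)) (BT.node 2831 (BT.node 2830 (BT.leaf cJ2830) (BT.leaf cJ2831)) (BT.leaf cJ2832))) (BT.node 2835 (BT.node 2834 (BT.node 2833 (BT.leaf cJ2833) (BT.leaf cJ2834)) (BT.leaf cJ2835)) (BT.node 2837 (BT.node 2836 (BT.leaf cJ2836) (BT.leaf cJ2837)) (BT.leaf cJ2838))))) (BT.node 2850 (BT.node 2844 (BT.node 2841 (BT.node 2840 (BT.node 2839 (BT.leaf cJ2839)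 (BT.leaf cJ2840)) (BT.leaf cJ2841)) (BT.node 2843 (BT.node 2842 (BT.leaf cJ2842) (BT.leaf cJ2843)) (BT.leaf cJ2844))) (BT.node 2847 (BT.node 2846 (BT.node 2845 (BT.leaf cJ2845) (BT.leaf cJ2846)) (BT.leaf cJ2847)) (BT.node 2849 (BT.node 2848 (BT.leaf cJ2848) (BT.leaf cJ2849)) (BT.leaf cJ2850)))) (BT.node 2856 (BT.node 2853 (BT.node 2852 (BT.node 2851 (BT.leaf cJ2851) (BT.leaf cJ2852)) (BT.leaf cJ2853)) (BT.node 2855 (BT.node 2854 (BT.leaf cJ2854) (BT.leaf cJ2855)) (BT.leaf cJ2856))) (BT.node 2859 (BT.node 2858 (BT.node 2857 (BT.leaf cJ2857) (BT.leaf cJ2858)) (BT.leaf cJ2859)) (BT.node 2860 (BT.leaf cJ2860) (BT.leaf cJ2861)))))) (BT.node 2885 (BT.node 2873 (BT.node 2867 (BT.node 2864 (BT.node 2863 (BT.node 2862 (BT.leaf cJ2862) (BT.leaf cJ2863)) (BT.leaf cJ2864)) (BT.node 2866 (BT.node 2865 (BT.leaf cJ2865) (BT.leaf cJ2866)) (BT.leaf cJ2867))) (BT.node 2870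 (BT.node 2869 (BT.node 2868 (BT.leaf cJ2868) (BT.leaf cJ2869)) (BT.leaf cJ2870)) (BT.node 2872 (BT.node 2871 (BT.leaf cJ2871) (BT.leaf cJ2872)) (BT.leaf cJ2873)))) (BT.node 2879 (BT.node 2876 (BT.node 2875 (BT.node 2874 (BT.leaf cJ2874) (BT.leaf cJ2875)) (BT.leaf cJ2876)) (BT.node 2878 (BT.node 2877 (BT.leaf cJ2877) (BT.leaf cJ2878)) (BT.leaf cJ2879))) (BT.node 2882 (BT.node 2881 (BT.node 2880 (BT.leaf cJ2880) (BT.leaf cJ2881)) (BT.leaf cJ2882)) (BT.node 2884 (BT.node 2883 (BT.leaf cJ2883) (BT.leaf cJ2884)) (BT.leaf cJ2885))))) (BT.node 2897 (BT.node 2891 (BT.node 2888 (BT.node 2887 (BT.node 2886 (BT.leaf cJ2886) (BT.leaf cJ2887)) (BT.leaf cJ2888)) (BT.node 2890 (BT.node 2889 (BT.leaf cJ2889) (BT.leaf cJ2890)) (BT.leaf cJ2891))) (BT.node 2894 (BT.node 2893 (BT.node 2892 (BT.leaf cJ2892) (BT.leaf cJ2893)) (BT.leaf cJ2894)) (BT.node 2896 (BT.node 2895 (BT.leaf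 cJ2895) (BT.leaf cJ2896)) (BT.leaf cJ2897)))) (BT.node 2903 (BT.node 2900 (BT.node 2899 (BT.node 2898 (BT.leaf cJ2898) (BT.leaf cJ2899)) (BT.leaf cJ2900)) (BT.node 2902 (BT.node 2901 (BT.leaf cJ2901) (BT.leaf cJ2902)) (BT.leaf cJ2903))) (BT.node 2906 (BT.node 2905 (BT.node 2904 (BT.leaf cJ2904) (BT.leaf cJ2905)) (BT.leaf cJ2906)) (BT.node 2907 (BT.leaf cJ2907) (BT.leaf cJ2908))))))) (BT.node 2955 (BT.node 2932 (BT.node 2920 (BT.node 2914 (BT.node 2911 (BT.node 2910 (BT.node 2909 (BT.leaf cJ2909) (BT.leaf cJ2910)) (BT.leaf cJ2911)) (BT.node 2913 (BT.node 2912 (BT.leaf cJ2912) (BT.leaf cJ2913)) (BT.leaf cJ2914))) (BT.node 2917 (BT.node 2916 (BT.node 2915 (BT.leaf cJ2915) (BT.leaf cJ2916)) (BT.leaf cJ2917)) (BT.node 2919 (BT.node 2918 (BT.leaf cJ2918) (BT.leaf cJ2919)) (BT.leaf cJ2920)))) (BT.node 2926 (BT.node 2923 (BT.node 2922 (BT.node 2921 (BT.leaf cJ2921)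 (BT.leaf cJ2922)) (BT.leaf cJ2923)) (BT.node 2925 (BT.node 2924 (BT.leaf cJ2924) (BT.leaf cJ2925)) (BT.leaf cJ2926))) (BT.node 2929 (BT.node 2928 (BT.node 2927 (BT.leaf cJ2927) (BT.leaf cJ2928)) (BT.leaf cJ2929)) (BT.node 2931 (BT.node 2930 (BT.leaf cJ2930) (BT.leaf cJ2931)) (BT.leaf cJ2932))))) (BT.node 2944 (BT.node 2938 (BT.node 2935 (BT.node 2934 (BT.node 2933 (BT.leaf cJ2933) (BT.leaf cJ2934)) (BT.leaf cJ2935)) (BT.node 2937 (BT.node 2936 (BT.leaf cJ2936) (BT.leaf cJ2937)) (BT.leaf cJ2938))) (BT.node 2941 (BT.node 2940 (BT.node 2939 (BT.leaf cJ2939) (BT.leaf cJ2940)) (BT.leaf cJ2941)) (BT.node 2943 (BT.node 2942 (BT.leaf cJ2942) (BT.leaf cJ2943)) (BT.leaf cJ2944)))) (BT.node 2950 (BT.node 2947 (BT.node 2946 (BT.node 2945 (BT.leaf cJ2945) (BT.leaf cJ2946)) (BT.leaf cJ2947)) (BT.node 2949 (BT.node 2948 (BT.leaf cJ2948) (BT.leaf cJ2949)) (BT.leaf cJ2950)))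 (BT.node 2953 (BT.node 2952 (BT.node 2951 (BT.leaf cJ2951) (BT.leaf cJ2952)) (BT.leaf cJ2953)) (BT.node 2954 (BT.leaf cJ2954) (BT.leaf cJ2955)))))) (BT.node 2978 (BT.node 2967 (BT.node 2961 (BT.node 2958 (BT.node 2957 (BT.node 2956 (BT.leaf cJ2956) (BT.leaf cJ2957)) (BT.leaf cJ2958)) (BT.node 2960 (BT.node 2959 (BT.leaf cJ2959) (BT.leaf cJ2960)) (BT.leaf cJ2961))) (BT.node 2964 (BT.node 2963 (BT.node 2962 (BT.leaf cJ2962) (BT.leaf cJ2963)) (BT.leaf cJ2964)) (BT.node 2966 (BT.node 2965 (BT.leaf cJ2965) (BT.leaf cJ2966)) (BT.leaf cJ2967)))) (BT.node 2973 (BT.node 2970 (BT.node 2969 (BT.node 2968 (BT.leaf cJ2968) (BT.leaf cJ2969)) (BT.leaf cJ2970)) (BT.node 2972 (BT.node 2971 (BT.leaf cJ2971) (BT.leaf cJ2972)) (BT.leaf cJ2973))) (BT.node 2976 (BT.node 2975 (BT.node 2974 (BT.leaf cJ2974) (BT.leaf cJ2975)) (BT.leaf cJ2976)) (BT.node 2977 (BT.leaf cJ2977) (BT.leaf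 cJ2978))))) (BT.node 2990 (BT.node 2984 (BT.node 2981 (BT.node 2980 (BT.node 2979 (BT.leaf cJ2979) (BT.leaf cJ2980)) (BT.leaf cJ2981)) (BT.node 2983 (BT.node 2982 (BT.leaf cJ2982) (BT.leaf cJ2983)) (BT.leaf cJ2984))) (BT.node 2987 (BT.node 2986 (BT.node 2985 (BT.leaf cJ2985) (BT.leaf cJ2986)) (BT.leaf cJ2987)) (BT.node 2989 (BT.node 2988 (BT.leaf cJ2988) (BT.leaf cJ2989)) (BT.leaf cJ2990)))) (BT.node 2996 (BT.node 2993 (BT.node 2992 (BT.node 2991 (BT.leaf cJ2991) (BT.leaf cJ2992)) (BT.leaf cJ2993)) (BT.node 2995 (BT.node 2994 (BT.leaf cJ2994) (BT.leaf cJ2995)) (BT.leaf cJ2996))) (BT.node 2999 (BT.node 2998 (BT.node 2997 (BT.leaf cJ2997) (BT.leaf cJ2998)) (BT.leaf cJ2999)) (BT.node 3000 (BT.leaf cJ3000) (BT.leaf cJ3001))))))))))))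
/-- parent chunks -/
def parCT : BT ℕ := (BT.node 78 (BT.node 39 (BT.node 19 (BT.node 9 (BT.node 4 (BT.node 2 (BT.node 1 (BT.node 0 (BT.leaf cP0) (BT.leaf cP1)) (BT.leaf cP2)) (BT.node 3 (BT.leaf cP3) (BT.leaf cP4))) (BT.node 7 (BT.node 6 (BT.node 5 (BT.leaf cP5) (BT.leaf cP6)) (BT.leaf cP7)) (BT.node 8 (BT.leaf cP8) (BT.leaf cP9)))) (BT.node 14 (BT.node 12 (BT.node 11 (BT.node 10 (BT.leaf cP10) (BT.leaf cP11)) (BT.leaf cP12)) (BT.node 13 (BT.leaf cP13) (BT.leaf cP14))) (BT.node 17 (BT.node 16 (BT.node 15 (BT.leaf cP15) (BT.leaf cP16)) (BT.leaf cP17)) (BT.node 18 (BT.leaf cP18) (BT.leaf cP19))))) (BT.node 29 (BT.node 24 (BT.node 22 (BT.node 21 (BT.node 20 (BT.leaf cP20) (BT.leaf cP21)) (BT.leaf cP22)) (BT.node 23 (BT.leaf cP23) (BT.leaf cP24))) (BT.node 27 (BT.node 26 (BT.node 25 (BT.leaf cP25) (BT.leaf cP26)) (BT.leaf cP27)) (BT.node 28 (BT.leaf cP28) (BT.leaf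 cP29)))) (BT.node 34 (BT.node 32 (BT.node 31 (BT.node 30 (BT.leaf cP30) (BT.leaf cP31)) (BT.leaf cP32)) (BT.node 33 (BT.leaf cP33) (BT.leaf cP34))) (BT.node 37 (BT.node 36 (BT.node 35 (BT.leaf cP35) (BT.leaf cP36)) (BT.leaf cP37)) (BT.node 38 (BT.leaf cP38) (BT.leaf cP39)))))) (BT.node 59 (BT.node 49 (BT.node 44 (BT.node 42 (BT.node 41 (BT.node 40 (BT.leaf cP40) (BT.leaf cP41)) (BT.leaf cP42)) (BT.node 43 (BT.leaf cP43) (BT.leaf cP44))) (BT.node 47 (BT.node 46 (BT.node 45 (BT.leaf cP45) (BT.leaf cP46)) (BT.leaf cP47)) (BT.node 48 (BT.leaf cP48) (BT.leaf cP49)))) (BT.node 54 (BT.node 52 (BT.node 51 (BT.node 50 (BT.leaf cP50) (BT.leaf cP51)) (BT.leaf cP52)) (BT.node 53 (BT.leaf cP53) (BT.leaf cP54))) (BT.node 57 (BT.node 56 (BT.node 55 (BT.leaf cP55) (BT.leaf cP56)) (BT.leaf cP57)) (BT.node 58 (BT.leaf cP58) (BT.leaf cP59))))) (BT.node 69 (BT.node 64 (BT.node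 62 (BT.node 61 (BT.node 60 (BT.leaf cP60) (BT.leaf cP61)) (BT.leaf cP62)) (BT.node 63 (BT.leaf cP63) (BT.leaf cP64))) (BT.node 67 (BT.node 66 (BT.node 65 (BT.leaf cP65) (BT.leaf cP66)) (BT.leaf cP67)) (BT.node 68 (BT.leaf cP68) (BT.leaf cP69)))) (BT.node 74 (BT.node 72 (BT.node 71 (BT.node 70 (BT.leaf cP70) (BT.leaf cP71)) (BT.leaf cP72)) (BT.node 73 (BT.leaf cP73) (BT.leaf cP74))) (BT.node 76 (BT.node 75 (BT.leaf cP75) (BT.leaf cP76)) (BT.node 77 (BT.leaf cP77) (BT.leaf cP78))))))) (BT.node 118 (BT.node 98 (BT.node 88 (BT.node 83 (BT.node 81 (BT.node 80 (BT.node 79 (BT.leaf cP79) (BT.leaf cP80)) (BT.leaf cP81)) (BT.node 82 (BT.leaf cP82) (BT.leaf cP83))) (BT.node 86 (BT.node 85 (BT.node 84 (BT.leaf cP84) (BT.leaf cP85)) (BT.leaf cP86)) (BT.node 87 (BT.leaf cP87) (BT.leaf cP88)))) (BT.node 93 (BT.node 91 (BT.node 90 (BT.node 89 (BT.leaf cP89) (BT.leaf cP90))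 (BT.leaf cP91)) (BT.node 92 (BT.leaf cP92) (BT.leaf cP93))) (BT.node 96 (BT.node 95 (BT.node 94 (BT.leaf cP94) (BT.leaf cP95)) (BT.leaf cP96)) (BT.node 97 (BT.leaf cP97) (BT.leaf cP98))))) (BT.node 108 (BT.node 103 (BT.node 101 (BT.node 100 (BT.node 99 (BT.leaf cP99) (BT.leaf cP100)) (BT.leaf cP101)) (BT.node 102 (BT.leaf cP102) (BT.leaf cP103))) (BT.node 106 (BT.node 105 (BT.node 104 (BT.leaf cP104) (BT.leaf cP105)) (BT.leaf cP106)) (BT.node 107 (BT.leaf cP107) (BT.leaf cP108)))) (BT.node 113 (BT.node 111 (BT.node 110 (BT.node 109 (BT.leaf cP109) (BT.leaf cP110)) (BT.leaf cP111)) (BT.node 112 (BT.leaf cP112) (BT.leaf cP113))) (BT.node 116 (BT.node 115 (BT.node 114 (BT.leaf cP114) (BT.leaf cP115)) (BT.leaf cP116)) (BT.node 117 (BT.leaf cP117) (BT.leaf cP118)))))) (BT.node 138 (BT.node 128 (BT.node 123 (BT.node 121 (BT.node 120 (BT.node 119 (BT.leaf cP119)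 (BT.leaf cP120)) (BT.leaf cP121)) (BT.node 122 (BT.leaf cP122) (BT.leaf cP123))) (BT.node 126 (BT.node 125 (BT.node 124 (BT.leaf cP124) (BT.leaf cP125)) (BT.leaf cP126)) (BT.node 127 (BT.leaf cP127) (BT.leaf cP128)))) (BT.node 133 (BT.node 131 (BT.node 130 (BT.node 129 (BT.leaf cP129) (BT.leaf cP130)) (BT.leaf cP131)) (BT.node 132 (BT.leaf cP132) (BT.leaf cP133))) (BT.node 136 (BT.node 135 (BT.node 134 (BT.leaf cP134) (BT.leaf cP135)) (BT.leaf cP136)) (BT.node 137 (BT.leaf cP137) (BT.leaf cP138))))) (BT.node 148 (BT.node 143 (BT.node 141 (BT.node 140 (BT.node 139 (BT.leaf cP139) (BT.leaf cP140)) (BT.leaf cP141)) (BT.node 142 (BT.leaf cP142) (BT.leaf cP143))) (BT.node 146 (BT.node 145 (BT.node 144 (BT.leaf cP144) (BT.leaf cP145)) (BT.leaf cP146)) (BT.node 147 (BT.leaf cP147) (BT.leaf cP148)))) (BT.node 153 (BT.node 151 (BT.node 150 (BT.node 149 (BT.leaf cP149)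 (BT.leaf cP150)) (BT.leaf cP151)) (BT.node 152 (BT.leaf cP152) (BT.leaf cP153))) (BT.node 155 (BT.node 154 (BT.leaf cP154) (BT.leaf cP155)) (BT.node 156 (BT.leaf cP156) (BT.leaf cP157))))))))
/-- the certificate -/
def data : Data where
  k := 18
  N := 80429
  W := 37
  MW := 137438953472
  B := 131072
  CH := 512
  NCH := 158
  colE := colET
  JW := 64
  MJ := 18446744073709551616
  A := 1048576
  colJ := colJT
  PW := 26
  MP := 67108864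
  parC := parCT
  inv := (BT.node 9 (BT.node 4 (BT.node 2 (BT.node 1 (BT.node 0 (BT.leaf 1) (BT.leaf 0)) (BT.leaf 3)) (BT.node 3 (BT.leaf 2) (BT.leaf 5))) (BT.node 7 (BT.node 6 (BT.node 5 (BT.leaf 4) (BT.leaf 7)) (BT.leaf 6)) (BT.node 8 (BT.leaf 9) (BT.leaf 8)))) (BT.node 14 (BT.node 12 (BT.node 11 (BT.node 10 (BT.leaf 11) (BT.leaf 10)) (BT.leaf 13)) (BT.node 13 (BT.leaf 12) (BT.leaf 15))) (BT.node 16 (BT.node 15 (BT.leaf 14) (BT.leaf 17)) (BT.node 17 (BT.leaf 16) (BT.leaf 18)))))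
  rel := relT
  sub := subT
  fuel := 64

end Cfsg.Agent.Lib.Helper29.TCF23YData
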