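import Cfsg.Agent.Lib.Helper28.TC2Range
import Cfsg.Agent.Lib.Helper29.TCF23YData
import Cfsg.Agent.Lib.Helper29.TCF23YTable
import Cfsg.Agent.Lib.Helper29.TCF23YM2
set_option autoImplicit false
set_option maxRecDepth 100000
set_option maxHeartbeats 0

namespace Cfsg.Agent.Lib.Helper29.TCF23YM3
open Cfsg.Agent.Lib.Helper28.TC2Upper Cfsg.Agent.Lib.Helper28.TC2Lower Cfsg.Agent.Lib.Helper28.TC2Range Cfsg.Agent.Lib.Helper29.TCF23YData Cfsg.Agent.Lib.Helper29.TCF23YTable

theorem fin15 : Data.finalRange data 69435 4629 = true := by decide +kernel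
theorem fin16 : Data.finalRange data 74064 4629 = true := by decide +kernel
theorem fin17 : Data.finalRange data 78693 1736 = true := by decide +kernel
theorem cnt0 : Data.countFrom data 0 40000 = 11996 := by decide +kernel
theorem cnt1 : Data.countFrom data 40000 40000 = 16006 := by decide +kernel

end Cfsg.Agent.Lib.Helper29.TCF23YM3
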