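import Cfsg.Agent.Lib.Helper28.TC2Range
import Cfsg.Agent.Lib.Helper29.TCF23YData
import Cfsg.Agent.Lib.Helper29.TCF23YTable
import Cfsg.Agent.Lib.Helper29.TCF23YM3
set_option autoImplicit false
set_option maxRecDepth 100000
set_option maxHeartbeats 0

namespace Cfsg.Agent.Lib.Helper29.TCF23YM4
open Cfsg.Agent.Lib.Helper28.TC2Upper Cfsg.Agent.Lib.Helper28.TC2Lower Cfsg.Agent.Lib.Helper28.TC2Range Cfsg.Agent.Lib.Helper29.TCF23YData Cfsg.Agent.Lib.Helper29.TCF23YTable

theorem cnt2 : Data.countFrom data 80000 429 = 429 := by decide +kernel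
theorem prm0 : Table.permRange table 0 6944 = true := by decide +kernel
theorem prm1 : Table.permRange table 6944 6944 = true := by decide +kernel
theorem prm2 : Table.permRange table 13888 6944 = true := by decide +kernel
theorem prm3 : Table.permRange table 20832 6944 = true := by decide +kernel

end Cfsg.Agent.Lib.Helper29.TCF23YM4
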