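import Cfsg.Agent.Lib.Helper29.TCF23YData
import Cfsg.Agent.Lib.Helper29.TCF23YU1
set_option autoImplicit false
set_option maxRecDepth 100000
set_option maxHeartbeats 0

namespace Cfsg.Agent.Lib.Helper29.TCF23YU4
open Cfsg.Agent.Lib.Helper28.TC2Upper Cfsg.Agent.Lib.Helper29.TCF23YData

theorem chk20 : data.checkRange 8893 405 = true := by decide +kernel
theorem chk21 : data.checkRange 9298 629 = true := by decide +kernel
theorem chk22 : data.checkRange 9927 425 = true := by decide +kernel
theorem chk23 : data.checkRange 10352 1268 = true := by decide +kernel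
theorem chk24 : data.checkRange 11620 430 = true := by decide +kernel

end Cfsg.Agent.Lib.Helper29.TCF23YU4
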