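import Cfsg.Agent.Lib.Helper29.TCF23YData
import Cfsg.Agent.Lib.Helper29.TCF23YU2
set_option autoImplicit false
set_option maxRecDepth 100000
set_option maxHeartbeats 0

namespace Cfsg.Agent.Lib.Helper29.TCF23YU5
open Cfsg.Agent.Lib.Helper28.TC2Upper Cfsg.Agent.Lib.Helper29.TCF23YData

theorem chk25 : data.checkRange 12050 396 = true := by decide +kernel
theorem chk26 : data.checkRange 12446 456 = true := by decide +kernel
theorem chk27 : data.checkRange 12902 807 = true := by decide +kernel
theorem chk28 : data.checkRange 13709 430 = true := by decide +kernel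
theorem chk29 : data.checkRange 14139 1541 = true := by decide +kernel

end Cfsg.Agent.Lib.Helper29.TCF23YU5
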