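import Cfsg.Agent.Lib.Helper29.TCF23YData
import Cfsg.Agent.Lib.Helper29.TCF23YU5
set_option autoImplicit false
set_option maxRecDepth 100000
set_option maxHeartbeats 0

namespace Cfsg.Agent.Lib.Helper29.TCF23YU8
open Cfsg.Agent.Lib.Helper28.TC2Upper Cfsg.Agent.Lib.Helper29.TCF23YData

theorem chk40 : data.checkRange 23077 455 = true := by decide +kernel
theorem chk41 : data.checkRange 23532 536 = true := by decide +kernel
theorem chk42 : data.checkRange 24068 694 = true := by decide +kernel
theorem chk43 : data.checkRange 24762 1380 = true := by decide +kernel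
theorem chk44 : data.checkRange 26142 523 = true := by decide +kernel

end Cfsg.Agent.Lib.Helper29.TCF23YU8
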