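import Cfsg.Agent.Lib.Helper29.TCF23YData
import Cfsg.Agent.Lib.Helper29.TCF23YU0
set_option autoImplicit false
set_option maxRecDepth 100000
set_option maxHeartbeats 0

namespace Cfsg.Agent.Lib.Helper29.TCF23YU3
open Cfsg.Agent.Lib.Helper28.TC2Upper Cfsg.Agent.Lib.Helper29.TCF23YData

theorem chk15 : data.checkRange 6275 366 = true := by decide +kernel
theorem chk16 : data.checkRange 6641 502 = true := by decide +kernel
theorem chk17 : data.checkRange 7143 385 = true := by decide +kernel
theorem chk18 : data.checkRange 7528 970 = true := by decide +kernel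
theorem chk19 : data.checkRange 8498 395 = true := by decide +kernel

end Cfsg.Agent.Lib.Helper29.TCF23YU3
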