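import Cfsg.Agent.Lib.Helper29.TCF23YData
import Cfsg.Agent.Lib.Helper29.TCF23YU9
set_option autoImplicit false
set_option maxRecDepth 100000
set_option maxHeartbeats 0

namespace Cfsg.Agent.Lib.Helper29.TCF23YU12
open Cfsg.Agent.Lib.Helper28.TC2Upper Cfsg.Agent.Lib.Helper29.TCF23YData

theorem chk60 : data.checkRange 43606 582 = true := by decide +kernel
theorem chk61 : data.checkRange 44188 584 = true := by decide +kernel
theorem chk62 : data.checkRange 44772 577 = true := by decide +kernel
theorem chk63 : data.checkRange 45349 1627 = true := by decide +kernel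
theorem chk64 : data.checkRange 46976 2502 = true := by decide +kernel

end Cfsg.Agent.Lib.Helper29.TCF23YU12
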