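import Cfsg.Agent.Lib.Helper29.TCF23YData
import Cfsg.Agent.Lib.Helper29.TCF23YU10
set_option autoImplicit false
set_option maxRecDepth 100000
set_option maxHeartbeats 0

namespace Cfsg.Agent.Lib.Helper29.TCF23YU13
open Cfsg.Agent.Lib.Helper28.TC2Upper Cfsg.Agent.Lib.Helper29.TCF23YData

theorem chk65 : data.checkRange 49478 729 = true := by decide +kernel
theorem chk66 : data.checkRange 50207 1419 = true := by decide +kernel
theorem chk67 : data.checkRange 51626 5240 = true := by decide +kernel
theorem chk68 : data.checkRange 56866 707 = true := by decide +kernel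
theorem chk69 : data.checkRange 57573 788 = true := by decide +kernel

end Cfsg.Agent.Lib.Helper29.TCF23YU13
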