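import Cfsg.Agent.Lib.Helper29.TCF23YData
import Cfsg.Agent.Lib.Helper29.TCF23YU11
set_option autoImplicit false
set_option maxRecDepth 100000
set_option maxHeartbeats 0

namespace Cfsg.Agent.Lib.Helper29.TCF23YU14
open Cfsg.Agent.Lib.Helper28.TC2Upper Cfsg.Agent.Lib.Helper29.TCF23YData

theorem chk70 : data.checkRange 58361 480 = true := by decide +kernel
theorem chk71 : data.checkRange 58841 1558 = true := by decide +kernel
theorem chk72 : data.checkRange 60399 641 = true := by decide +kernel
theorem chk73 : data.checkRange 61040 793 = true := by decide +kernel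
theorem chk74 : data.checkRange 61833 1272 = true := by decide +kernel

end Cfsg.Agent.Lib.Helper29.TCF23YU14
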