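import Cfsg.Agent.Lib.Helper29.TCF23YData
import Cfsg.Agent.Lib.Helper29.TCF23YU13
set_option autoImplicit false
set_option maxRecDepth 100000
set_option maxHeartbeats 0

namespace Cfsg.Agent.Lib.Helper29.TCF23YU16
open Cfsg.Agent.Lib.Helper28.TC2Upper Cfsg.Agent.Lib.Helper29.TCF23YData

theorem chk80 : data.checkRange 68823 316 = true := by decide +kernel
theorem chk81 : data.checkRange 69139 316 = true := by decide +kernel
theorem chk82 : data.checkRange 69455 316 = true := by decide +kernel
theorem chk83 : data.checkRange 69771 316 = true := by decide +kernel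
theorem chk84 : data.checkRange 70087 316 = true := by decide +kernel

end Cfsg.Agent.Lib.Helper29.TCF23YU16
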