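import Cfsg.Agent.Lib.Helper29.TCF23YData
import Cfsg.Agent.Lib.Helper29.TCF23YU18
set_option autoImplicit false
set_option maxRecDepth 100000
set_option maxHeartbeats 0

namespace Cfsg.Agent.Lib.Helper29.TCF23YU21
open Cfsg.Agent.Lib.Helper28.TC2Upper Cfsg.Agent.Lib.Helper29.TCF23YData

theorem chk105 : data.checkRange 76723 316 = true := by decide +kernel
theorem chk106 : data.checkRange 77039 316 = true := by decide +kernel
theorem chk107 : data.checkRange 77355 316 = true := by decide +kernel
theorem chk108 : data.checkRange 77671 316 = true := by decide +kernel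
theorem chk109 : data.checkRange 77987 316 = true := by decide +kernel

end Cfsg.Agent.Lib.Helper29.TCF23YU21
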