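import Cfsg.Agent.Lib.Helper29.TCF23YData
import Cfsg.Agent.Lib.Helper29.TCF23YU19
set_option autoImplicit false
set_option maxRecDepth 100000
set_option maxHeartbeats 0

namespace Cfsg.Agent.Lib.Helper29.TCF23YU22
open Cfsg.Agent.Lib.Helper28.TC2Upper Cfsg.Agent.Lib.Helper29.TCF23YData

theorem chk110 : data.checkRange 78303 316 = true := by decide +kernel
theorem chk111 : data.checkRange 78619 316 = true := by decide +kernel
theorem chk112 : data.checkRange 78935 316 = true := by decide +kernel
theorem chk113 : data.checkRange 79251 316 = true := by decide +kernel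
theorem chk114 : data.checkRange 79567 316 = true := by decide +kernel

end Cfsg.Agent.Lib.Helper29.TCF23YU22
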