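import Cfsg.Agent.Lib.Helper29.TCF23YData
import Cfsg.Agent.Lib.Helper29.TCF23YU20
set_option autoImplicit false
set_option maxRecDepth 100000
set_option maxHeartbeats 0

namespace Cfsg.Agent.Lib.Helper29.TCF23YU23
open Cfsg.Agent.Lib.Helper28.TC2Upper Cfsg.Agent.Lib.Helper29.TCF23YData

theorem chk115 : data.checkRange 79883 316 = true := by decide +kernel
theorem chk116 : data.checkRange 80199 230 = true := by decide +kernel

end Cfsg.Agent.Lib.Helper29.TCF23YU23
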