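import Cfsg.Agent.Lib.Helper28.TC2GlueOrb
import Cfsg.Agent.Lib.Helper28.TC2Range
import Cfsg.Agent.Lib.Helper29.TCF23YLink
import Cfsg.Agent.Lib.Helper29.TCF23YM
import Cfsg.Agent.Lib.Helper29.TCF23YM0
import Cfsg.Agent.Lib.Helper29.TCF23YM1
import Cfsg.Agent.Lib.Helper29.TCF23YM2
import Cfsg.Agent.Lib.Helper29.TCF23YM3
import Cfsg.Agent.Lib.Helper29.TCF23YM4
import Cfsg.Agent.Lib.Helper29.TCF23YM5
import Cfsg.Agent.Lib.Helper29.TCF23YU0
import Cfsg.Agent.Lib.Helper29.TCF23YU1
import Cfsg.Agent.Lib.Helper29.TCF23YU2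
import Cfsg.Agent.Lib.Helper29.TCF23YU3
import Cfsg.Agent.Lib.Helper29.TCF23YU4
import Cfsg.Agent.Lib.Helper29.TCF23YU5
import Cfsg.Agent.Lib.Helper29.TCF23YU6
import Cfsg.Agent.Lib.Helper29.TCF23YU7
import Cfsg.Agent.Lib.Helper29.TCF23YU8
import Cfsg.Agent.Lib.Helper29.TCF23YU9
import Cfsg.Agent.Lib.Helper29.TCF23YU10
import Cfsg.Agent.Lib.Helper29.TCF23YU11
import Cfsg.Agent.Lib.Helper29.TCF23YU12
import Cfsg.Agent.Lib.Helper29.TCF23YU13
import Cfsg.Agent.Lib.Helper29.TCF23YU14
import Cfsg.Agent.Lib.Helper29.TCF23YU15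
import Cfsg.Agent.Lib.Helper29.TCF23YU16
import Cfsg.Agent.Lib.Helper29.TCF23YU17
import Cfsg.Agent.Lib.Helper29.TCF23YU18
import Cfsg.Agent.Lib.Helper29.TCF23YU19
import Cfsg.Agent.Lib.Helper29.TCF23YU20
import Cfsg.Agent.Lib.Helper29.TCF23YU21
import Cfsg.Agent.Lib.Helper29.TCF23YU22
import Cfsg.Agent.Lib.Helper29.TCF23YU23
import Cfsg.Agent.Lib.Helper29.TCF23YL0
import Cfsg.Agent.Lib.Helper29.TCF23YL1
import Cfsg.Agent.Lib.Helper29.TCF23YL2
import Cfsg.Agent.Lib.Helper29.TCF23YL3
import Cfsg.Agent.Lib.Helper29.TCF23YL4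
import Cfsg.Agent.Lib.Helper29.TCF23YL5

set_option autoImplicit false
set_option maxRecDepth 100000
open Cfsg

namespace Cfsg.Agent.Lib.Helper29.TCF23YMain
open Cfsg.Agent.Lib.Helper28.TC2Upper Cfsg.Agent.Lib.Helper28.TC2Lower Cfsg.Agent.Lib.Helper28.TC2Glue Cfsg.Agent.Lib.Helper28.TC2GlueOrb Cfsg.Agent.Lib.Helper28.TC2Orbit Cfsg.Agent.Lib.Helper28.TC2Range
open Cfsg.Agent.Lib.Helper29.TCF23YData Cfsg.Agent.Lib.Helper29.TCF23YTable Cfsg.Agent.Lib.Helper29.TCF23YLink Cfsg.Agent.Lib.Helper29.TCF23YM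

theorem hchk : ∀ v, v < data.N → data.checkNode v = true := by
  intro v hv
  have hv' : v < 80429 := hv
  rcases Nat.lt_or_ge v 316 with h0 | h0
  · exact (data.checkRange_iff 0 316).mp Cfsg.Agent.Lib.Helper29.TCF23YU0.chk0 v (by omega) (by omega)
  rcases Nat.lt_or_ge v 646 with h1 | h1
  · exact (data.checkRange_iff 316 330).mp Cfsg.Agent.Lib.Helper29.TCF23YU0.chk1 v (by omega) (by omega)
  rcases Nat.lt_or_ge v 990 with h2 | h2
  · exact (data.checkRange_iff 646 344).mp Cfsg.Agent.Lib.Helper29.TCF23YU0.chk2 v (by omega) (by omega)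
  rcases Nat.lt_or_ge v 1356 with h3 | h3
  · exact (data.checkRange_iff 990 366).mp Cfsg.Agent.Lib.Helper29.TCF23YU0.chk3 v (by omega) (by omega)
  rcases Nat.lt_or_ge v 1757 with h4 | h4
  · exact (data.checkRange_iff 1356 401).mp Cfsg.Agent.Lib.Helper29.TCF23YU0.chk4 v (by omega) (by omega)
  rcases Nat.lt_or_ge v 2098 with h5 | h5
  · exact (data.checkRange_iff 1757 341).mp Cfsg.Agent.Lib.Helper29.TCF23YU1.chk5 v (by omega) (by omega)
  rcases Nat.lt_or_ge v 2529 with h6 | h6
  · exact (data.checkRange_iff 2098 431).mp Cfsg.Agent.Lib.Helper29.TCF23YU1.chk6 v (by omega) (by omega)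
  rcases Nat.lt_or_ge v 2884 with h7 | h7
  · exact (data.checkRange_iff 2529 355).mp Cfsg.Agent.Lib.Helper29.TCF23YU1.chk7 v (by omega) (by omega)
  rcases Nat.lt_or_ge v 3388 with h8 | h8
  · exact (data.checkRange_iff 2884 504).mp Cfsg.Agent.Lib.Helper29.TCF23YU1.chk8 v (by omega) (by omega)
  rcases Nat.lt_or_ge v 3760 with h9 | h9
  · exact (data.checkRange_iff 3388 372).mp Cfsg.Agent.Lib.Helper29.TCF23YU1.chk9 v (by omega) (by omega)
  rcases Nat.lt_or_ge v 4182 with h10 | h10
  · exact (data.checkRange_iff 3760 422).mp Cfsg.Agent.Lib.Helper29.TCF23YU2.chk10 v (by omega) (by omega)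
  rcases Nat.lt_or_ge v 4719 with h11 | h11
  · exact (data.checkRange_iff 4182 537).mp Cfsg.Agent.Lib.Helper29.TCF23YU2.chk11 v (by omega) (by omega)
  rcases Nat.lt_or_ge v 5132 with h12 | h12
  · exact (data.checkRange_iff 4719 413).mp Cfsg.Agent.Lib.Helper29.TCF23YU2.chk12 v (by omega) (by omega)
  rcases Nat.lt_or_ge v 5528 with h13 | h13
  · exact (data.checkRange_iff 5132 396).mp Cfsg.Agent.Lib.Helper29.TCF23YU2.chk13 v (by omega) (by omega)
  rcases Nat.lt_or_ge v 6275 with h14 | h14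
  · exact (data.checkRange_iff 5528 747).mp Cfsg.Agent.Lib.Helper29.TCF23YU2.chk14 v (by omega) (by omega)
  rcases Nat.lt_or_ge v 6641 with h15 | h15
  · exact (data.checkRange_iff 6275 366).mp Cfsg.Agent.Lib.Helper29.TCF23YU3.chk15 v (by omega) (by omega)
  rcases Nat.lt_or_ge v 7143 with h16 | h16
  · exact (data.checkRange_iff 6641 502).mp Cfsg.Agent.Lib.Helper29.TCF23YU3.chk16 v (by omega) (by omega)
  rcases Nat.lt_or_ge v 7528 with h17 | h17
  · exact (data.checkRange_iff 7143 385).mp Cfsg.Agent.Lib.Helper29.TCF23YU3.chk17 v (by omega) (by omega)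
  rcases Nat.lt_or_ge v 8498 with h18 | h18
  · exact (data.checkRange_iff 7528 970).mp Cfsg.Agent.Lib.Helper29.TCF23YU3.chk18 v (by omega) (by omega)
  rcases Nat.lt_or_ge v 8893 with h19 | h19
  · exact (data.checkRange_iff 8498 395).mp Cfsg.Agent.Lib.Helper29.TCF23YU3.chk19 v (by omega) (by omega)
  rcases Nat.lt_or_ge v 9298 with h20 | h20
  · exact (data.checkRange_iff 8893 405).mp Cfsg.Agent.Lib.Helper29.TCF23YU4.chk20 v (by omega) (by omega)
  rcases Nat.lt_or_ge v 9927 with h21 | h21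
  · exact (data.checkRange_iff 9298 629).mp Cfsg.Agent.Lib.Helper29.TCF23YU4.chk21 v (by omega) (by omega)
  rcases Nat.lt_or_ge v 10352 with h22 | h22
  · exact (data.checkRange_iff 9927 425).mp Cfsg.Agent.Lib.Helper29.TCF23YU4.chk22 v (by omega) (by omega)
  rcases Nat.lt_or_ge v 11620 with h23 | h23
  · exact (data.checkRange_iff 10352 1268).mp Cfsg.Agent.Lib.Helper29.TCF23YU4.chk23 v (by omega) (by omega)
  rcases Nat.lt_or_ge v 12050 with h24 | h24
  · exact (data.checkRange_iff 11620 430).mp Cfsg.Agent.Lib.Helper29.TCF23YU4.chk24 v (by omega) (by omega)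
  rcases Nat.lt_or_ge v 12446 with h25 | h25
  · exact (data.checkRange_iff 12050 396).mp Cfsg.Agent.Lib.Helper29.TCF23YU5.chk25 v (by omega) (by omega)
  rcases Nat.lt_or_ge v 12902 with h26 | h26
  · exact (data.checkRange_iff 12446 456).mp Cfsg.Agent.Lib.Helper29.TCF23YU5.chk26 v (by omega) (by omega)
  rcases Nat.lt_or_ge v 13709 with h27 | h27
  · exact (data.checkRange_iff 12902 807).mp Cfsg.Agent.Lib.Helper29.TCF23YU5.chk27 v (by omega) (by omega)
  rcases Nat.lt_or_ge v 14139 with h28 | h28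
  · exact (data.checkRange_iff 13709 430).mp Cfsg.Agent.Lib.Helper29.TCF23YU5.chk28 v (by omega) (by omega)
  rcases Nat.lt_or_ge v 15680 with h29 | h29
  · exact (data.checkRange_iff 14139 1541).mp Cfsg.Agent.Lib.Helper29.TCF23YU5.chk29 v (by omega) (by omega)
  rcases Nat.lt_or_ge v 16302 with h30 | h30
  · exact (data.checkRange_iff 15680 622).mp Cfsg.Agent.Lib.Helper29.TCF23YU6.chk30 v (by omega) (by omega)
  rcases Nat.lt_or_ge v 16772 with h31 | h31
  · exact (data.checkRange_iff 16302 470).mp Cfsg.Agent.Lib.Helper29.TCF23YU6.chk31 v (by omega) (by omega)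
  rcases Nat.lt_or_ge v 17218 with h32 | h32
  · exact (data.checkRange_iff 16772 446).mp Cfsg.Agent.Lib.Helper29.TCF23YU6.chk32 v (by omega) (by omega)
  rcases Nat.lt_or_ge v 17708 with h33 | h33
  · exact (data.checkRange_iff 17218 490).mp Cfsg.Agent.Lib.Helper29.TCF23YU6.chk33 v (by omega) (by omega)
  rcases Nat.lt_or_ge v 18570 with h34 | h34
  · exact (data.checkRange_iff 17708 862).mp Cfsg.Agent.Lib.Helper29.TCF23YU6.chk34 v (by omega) (by omega)
  rcases Nat.lt_or_ge v 19269 with h35 | h35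
  · exact (data.checkRange_iff 18570 699).mp Cfsg.Agent.Lib.Helper29.TCF23YU7.chk35 v (by omega) (by omega)
  rcases Nat.lt_or_ge v 20003 with h36 | h36
  · exact (data.checkRange_iff 19269 734).mp Cfsg.Agent.Lib.Helper29.TCF23YU7.chk36 v (by omega) (by omega)
  rcases Nat.lt_or_ge v 22066 with h37 | h37
  · exact (data.checkRange_iff 20003 2063).mp Cfsg.Agent.Lib.Helper29.TCF23YU7.chk37 v (by omega) (by omega)
  rcases Nat.lt_or_ge v 22535 with h38 | h38
  · exact (data.checkRange_iff 22066 469).mp Cfsg.Agent.Lib.Helper29.TCF23YU7.chk38 v (by omega) (by omega)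
  rcases Nat.lt_or_ge v 23077 with h39 | h39
  · exact (data.checkRange_iff 22535 542).mp Cfsg.Agent.Lib.Helper29.TCF23YU7.chk39 v (by omega) (by omega)
  rcases Nat.lt_or_ge v 23532 with h40 | h40
  · exact (data.checkRange_iff 23077 455).mp Cfsg.Agent.Lib.Helper29.TCF23YU8.chk40 v (by omega) (by omega)
  rcases Nat.lt_or_ge v 24068 with h41 | h41
  · exact (data.checkRange_iff 23532 536).mp Cfsg.Agent.Lib.Helper29.TCF23YU8.chk41 v (by omega) (by omega)
  rcases Nat.lt_or_ge v 24762 with h42 | h42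
  · exact (data.checkRange_iff 24068 694).mp Cfsg.Agent.Lib.Helper29.TCF23YU8.chk42 v (by omega) (by omega)
  rcases Nat.lt_or_ge v 26142 with h43 | h43
  · exact (data.checkRange_iff 24762 1380).mp Cfsg.Agent.Lib.Helper29.TCF23YU8.chk43 v (by omega) (by omega)
  rcases Nat.lt_or_ge v 26665 with h44 | h44
  · exact (data.checkRange_iff 26142 523).mp Cfsg.Agent.Lib.Helper29.TCF23YU8.chk44 v (by omega) (by omega)
  rcases Nat.lt_or_ge v 28060 with h45 | h45
  · exact (data.checkRange_iff 26665 1395).mp Cfsg.Agent.Lib.Helper29.TCF23YU9.chk45 v (by omega) (by omega)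
  rcases Nat.lt_or_ge v 30370 with h46 | h46
  · exact (data.checkRange_iff 28060 2310).mp Cfsg.Agent.Lib.Helper29.TCF23YU9.chk46 v (by omega) (by omega)
  rcases Nat.lt_or_ge v 30884 with h47 | h47
  · exact (data.checkRange_iff 30370 514).mp Cfsg.Agent.Lib.Helper29.TCF23YU9.chk47 v (by omega) (by omega)
  rcases Nat.lt_or_ge v 31492 with h48 | h48
  · exact (data.checkRange_iff 30884 608).mp Cfsg.Agent.Lib.Helper29.TCF23YU9.chk48 v (by omega) (by omega)
  rcases Nat.lt_or_ge v 32060 with h49 | h49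
  · exact (data.checkRange_iff 31492 568).mp Cfsg.Agent.Lib.Helper29.TCF23YU9.chk49 v (by omega) (by omega)
  rcases Nat.lt_or_ge v 32557 with h50 | h50
  · exact (data.checkRange_iff 32060 497).mp Cfsg.Agent.Lib.Helper29.TCF23YU10.chk50 v (by omega) (by omega)
  rcases Nat.lt_or_ge v 33182 with h51 | h51
  · exact (data.checkRange_iff 32557 625).mp Cfsg.Agent.Lib.Helper29.TCF23YU10.chk51 v (by omega) (by omega)
  rcases Nat.lt_or_ge v 34135 with h52 | h52
  · exact (data.checkRange_iff 33182 953).mp Cfsg.Agent.Lib.Helper29.TCF23YU10.chk52 v (by omega) (by omega)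
  rcases Nat.lt_or_ge v 36007 with h53 | h53
  · exact (data.checkRange_iff 34135 1872).mp Cfsg.Agent.Lib.Helper29.TCF23YU10.chk53 v (by omega) (by omega)
  rcases Nat.lt_or_ge v 36537 with h54 | h54
  · exact (data.checkRange_iff 36007 530).mp Cfsg.Agent.Lib.Helper29.TCF23YU10.chk54 v (by omega) (by omega)
  rcases Nat.lt_or_ge v 37847 with h55 | h55
  · exact (data.checkRange_iff 36537 1310).mp Cfsg.Agent.Lib.Helper29.TCF23YU11.chk55 v (by omega) (by omega)
  rcases Nat.lt_or_ge v 41540 with h56 | h56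
  · exact (data.checkRange_iff 37847 3693).mp Cfsg.Agent.Lib.Helper29.TCF23YU11.chk56 v (by omega) (by omega)
  rcases Nat.lt_or_ge v 42056 with h57 | h57
  · exact (data.checkRange_iff 41540 516).mp Cfsg.Agent.Lib.Helper29.TCF23YU11.chk57 v (by omega) (by omega)
  rcases Nat.lt_or_ge v 42689 with h58 | h58
  · exact (data.checkRange_iff 42056 633).mp Cfsg.Agent.Lib.Helper29.TCF23YU11.chk58 v (by omega) (by omega)
  rcases Nat.lt_or_ge v 43606 with h59 | h59
  · exact (data.checkRange_iff 42689 917).mp Cfsg.Agent.Lib.Helper29.TCF23YU11.chk59 v (by omega) (by omega)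
  rcases Nat.lt_or_ge v 44188 with h60 | h60
  · exact (data.checkRange_iff 43606 582).mp Cfsg.Agent.Lib.Helper29.TCF23YU12.chk60 v (by omega) (by omega)
  rcases Nat.lt_or_ge v 44772 with h61 | h61
  · exact (data.checkRange_iff 44188 584).mp Cfsg.Agent.Lib.Helper29.TCF23YU12.chk61 v (by omega) (by omega)
  rcases Nat.lt_or_ge v 45349 with h62 | h62
  · exact (data.checkRange_iff 44772 577).mp Cfsg.Agent.Lib.Helper29.TCF23YU12.chk62 v (by omega) (by omega)
  rcases Nat.lt_or_ge v 46976 with h63 | h63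
  · exact (data.checkRange_iff 45349 1627).mp Cfsg.Agent.Lib.Helper29.TCF23YU12.chk63 v (by omega) (by omega)
  rcases Nat.lt_or_ge v 49478 with h64 | h64
  · exact (data.checkRange_iff 46976 2502).mp Cfsg.Agent.Lib.Helper29.TCF23YU12.chk64 v (by omega) (by omega)
  rcases Nat.lt_or_ge v 50207 with h65 | h65
  · exact (data.checkRange_iff 49478 729).mp Cfsg.Agent.Lib.Helper29.TCF23YU13.chk65 v (by omega) (by omega)
  rcases Nat.lt_or_ge v 51626 with h66 | h66
  · exact (data.checkRange_iff 50207 1419).mp Cfsg.Agent.Lib.Helper29.TCF23YU13.chk66 v (by omega) (by omega)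
  rcases Nat.lt_or_ge v 56866 with h67 | h67
  · exact (data.checkRange_iff 51626 5240).mp Cfsg.Agent.Lib.Helper29.TCF23YU13.chk67 v (by omega) (by omega)
  rcases Nat.lt_or_ge v 57573 with h68 | h68
  · exact (data.checkRange_iff 56866 707).mp Cfsg.Agent.Lib.Helper29.TCF23YU13.chk68 v (by omega) (by omega)
  rcases Nat.lt_or_ge v 58361 with h69 | h69
  · exact (data.checkRange_iff 57573 788).mp Cfsg.Agent.Lib.Helper29.TCF23YU13.chk69 v (by omega) (by omega)
  rcases Nat.lt_or_ge v 58841 with h70 | h70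
  · exact (data.checkRange_iff 58361 480).mp Cfsg.Agent.Lib.Helper29.TCF23YU14.chk70 v (by omega) (by omega)
  rcases Nat.lt_or_ge v 60399 with h71 | h71
  · exact (data.checkRange_iff 58841 1558).mp Cfsg.Agent.Lib.Helper29.TCF23YU14.chk71 v (by omega) (by omega)
  rcases Nat.lt_or_ge v 61040 with h72 | h72
  · exact (data.checkRange_iff 60399 641).mp Cfsg.Agent.Lib.Helper29.TCF23YU14.chk72 v (by omega) (by omega)
  rcases Nat.lt_or_ge v 61833 with h73 | h73
  · exact (data.checkRange_iff 61040 793).mp Cfsg.Agent.Lib.Helper29.TCF23YU14.chk73 v (by omega) (by omega)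
  rcases Nat.lt_or_ge v 63105 with h74 | h74
  · exact (data.checkRange_iff 61833 1272).mp Cfsg.Agent.Lib.Helper29.TCF23YU14.chk74 v (by omega) (by omega)
  rcases Nat.lt_or_ge v 65819 with h75 | h75
  · exact (data.checkRange_iff 63105 2714).mp Cfsg.Agent.Lib.Helper29.TCF23YU15.chk75 v (by omega) (by omega)
  rcases Nat.lt_or_ge v 67820 with h76 | h76
  · exact (data.checkRange_iff 65819 2001).mp Cfsg.Agent.Lib.Helper29.TCF23YU15.chk76 v (by omega) (by omega)
  rcases Nat.lt_or_ge v 68191 with h77 | h77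
  · exact (data.checkRange_iff 67820 371).mp Cfsg.Agent.Lib.Helper29.TCF23YU15.chk77 v (by omega) (by omega)
  rcases Nat.lt_or_ge v 68507 with h78 | h78
  · exact (data.checkRange_iff 68191 316).mp Cfsg.Agent.Lib.Helper29.TCF23YU15.chk78 v (by omega) (by omega)
  rcases Nat.lt_or_ge v 68823 with h79 | h79
  · exact (data.checkRange_iff 68507 316).mp Cfsg.Agent.Lib.Helper29.TCF23YU15.chk79 v (by omega) (by omega)
  rcases Nat.lt_or_ge v 69139 with h80 | h80
  · exact (data.checkRange_iff 68823 316).mp Cfsg.Agent.Lib.Helper29.TCF23YU16.chk80 v (by omega) (by omega)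
  rcases Nat.lt_or_ge v 69455 with h81 | h81
  · exact (data.checkRange_iff 69139 316).mp Cfsg.Agent.Lib.Helper29.TCF23YU16.chk81 v (by omega) (by omega)
  rcases Nat.lt_or_ge v 69771 with h82 | h82
  · exact (data.checkRange_iff 69455 316).mp Cfsg.Agent.Lib.Helper29.TCF23YU16.chk82 v (by omega) (by omega)
  rcases Nat.lt_or_ge v 70087 with h83 | h83
  · exact (data.checkRange_iff 69771 316).mp Cfsg.Agent.Lib.Helper29.TCF23YU16.chk83 v (by omega) (by omega)
  rcases Nat.lt_or_ge v 70403 with h84 | h84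
  · exact (data.checkRange_iff 70087 316).mp Cfsg.Agent.Lib.Helper29.TCF23YU16.chk84 v (by omega) (by omega)
  rcases Nat.lt_or_ge v 70719 with h85 | h85
  · exact (data.checkRange_iff 70403 316).mp Cfsg.Agent.Lib.Helper29.TCF23YU17.chk85 v (by omega) (by omega)
  rcases Nat.lt_or_ge v 71035 with h86 | h86
  · exact (data.checkRange_iff 70719 316).mp Cfsg.Agent.Lib.Helper29.TCF23YU17.chk86 v (by omega) (by omega)
  rcases Nat.lt_or_ge v 71351 with h87 | h87
  · exact (data.checkRange_iff 71035 316).mp Cfsg.Agent.Lib.Helper29.TCF23YU17.chk87 v (by omega) (by omega)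
  rcases Nat.lt_or_ge v 71667 with h88 | h88
  · exact (data.checkRange_iff 71351 316).mp Cfsg.Agent.Lib.Helper29.TCF23YU17.chk88 v (by omega) (by omega)
  rcases Nat.lt_or_ge v 71983 with h89 | h89
  · exact (data.checkRange_iff 71667 316).mp Cfsg.Agent.Lib.Helper29.TCF23YU17.chk89 v (by omega) (by omega)
  rcases Nat.lt_or_ge v 72299 with h90 | h90
  · exact (data.checkRange_iff 71983 316).mp Cfsg.Agent.Lib.Helper29.TCF23YU18.chk90 v (by omega) (by omega)
  rcases Nat.lt_or_ge v 72615 with h91 | h91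
  · exact (data.checkRange_iff 72299 316).mp Cfsg.Agent.Lib.Helper29.TCF23YU18.chk91 v (by omega) (by omega)
  rcases Nat.lt_or_ge v 72931 with h92 | h92
  · exact (data.checkRange_iff 72615 316).mp Cfsg.Agent.Lib.Helper29.TCF23YU18.chk92 v (by omega) (by omega)
  rcases Nat.lt_or_ge v 73247 with h93 | h93
  · exact (data.checkRange_iff 72931 316).mp Cfsg.Agent.Lib.Helper29.TCF23YU18.chk93 v (by omega) (by omega)
  rcases Nat.lt_or_ge v 73563 with h94 | h94
  · exact (data.checkRange_iff 73247 316).mp Cfsg.Agent.Lib.Helper29.TCF23YU18.chk94 v (by omega) (by omega)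
  rcases Nat.lt_or_ge v 73879 with h95 | h95
  · exact (data.checkRange_iff 73563 316).mp Cfsg.Agent.Lib.Helper29.TCF23YU19.chk95 v (by omega) (by omega)
  rcases Nat.lt_or_ge v 74195 with h96 | h96
  · exact (data.checkRange_iff 73879 316).mp Cfsg.Agent.Lib.Helper29.TCF23YU19.chk96 v (by omega) (by omega)
  rcases Nat.lt_or_ge v 74511 with h97 | h97
  · exact (data.checkRange_iff 74195 316).mp Cfsg.Agent.Lib.Helper29.TCF23YU19.chk97 v (by omega) (by omega)
  rcases Nat.lt_or_ge v 74827 with h98 | h98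
  · exact (data.checkRange_iff 74511 316).mp Cfsg.Agent.Lib.Helper29.TCF23YU19.chk98 v (by omega) (by omega)
  rcases Nat.lt_or_ge v 75143 with h99 | h99
  · exact (data.checkRange_iff 74827 316).mp Cfsg.Agent.Lib.Helper29.TCF23YU19.chk99 v (by omega) (by omega)
  rcases Nat.lt_or_ge v 75459 with h100 | h100
  · exact (data.checkRange_iff 75143 316).mp Cfsg.Agent.Lib.Helper29.TCF23YU20.chk100 v (by omega) (by omega)
  rcases Nat.lt_or_ge v 75775 with h101 | h101
  · exact (data.checkRange_iff 75459 316).mp Cfsg.Agent.Lib.Helper29.TCF23YU20.chk101 v (by omega) (by omega)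
  rcases Nat.lt_or_ge v 76091 with h102 | h102
  · exact (data.checkRange_iff 75775 316).mp Cfsg.Agent.Lib.Helper29.TCF23YU20.chk102 v (by omega) (by omega)
  rcases Nat.lt_or_ge v 76407 with h103 | h103
  · exact (data.checkRange_iff 76091 316).mp Cfsg.Agent.Lib.Helper29.TCF23YU20.chk103 v (by omega) (by omega)
  rcases Nat.lt_or_ge v 76723 with h104 | h104
  · exact (data.checkRange_iff 76407 316).mp Cfsg.Agent.Lib.Helper29.TCF23YU20.chk104 v (by omega) (by omega)
  rcases Nat.lt_or_ge v 77039 with h105 | h105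
  · exact (data.checkRange_iff 76723 316).mp Cfsg.Agent.Lib.Helper29.TCF23YU21.chk105 v (by omega) (by omega)
  rcases Nat.lt_or_ge v 77355 with h106 | h106
  · exact (data.checkRange_iff 77039 316).mp Cfsg.Agent.Lib.Helper29.TCF23YU21.chk106 v (by omega) (by omega)
  rcases Nat.lt_or_ge v 77671 with h107 | h107
  · exact (data.checkRange_iff 77355 316).mp Cfsg.Agent.Lib.Helper29.TCF23YU21.chk107 v (by omega) (by omega)
  rcases Nat.lt_or_ge v 77987 with h108 | h108
  · exact (data.checkRange_iff 77671 316).mp Cfsg.Agent.Lib.Helper29.TCF23YU21.chk108 v (by omega) (by omega)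
  rcases Nat.lt_or_ge v 78303 with h109 | h109
  · exact (data.checkRange_iff 77987 316).mp Cfsg.Agent.Lib.Helper29.TCF23YU21.chk109 v (by omega) (by omega)
  rcases Nat.lt_or_ge v 78619 with h110 | h110
  · exact (data.checkRange_iff 78303 316).mp Cfsg.Agent.Lib.Helper29.TCF23YU22.chk110 v (by omega) (by omega)
  rcases Nat.lt_or_ge v 78935 with h111 | h111
  · exact (data.checkRange_iff 78619 316).mp Cfsg.Agent.Lib.Helper29.TCF23YU22.chk111 v (by omega) (by omega)
  rcases Nat.lt_or_ge v 79251 with h112 | h112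
  · exact (data.checkRange_iff 78935 316).mp Cfsg.Agent.Lib.Helper29.TCF23YU22.chk112 v (by omega) (by omega)
  rcases Nat.lt_or_ge v 79567 with h113 | h113
  · exact (data.checkRange_iff 79251 316).mp Cfsg.Agent.Lib.Helper29.TCF23YU22.chk113 v (by omega) (by omega)
  rcases Nat.lt_or_ge v 79883 with h114 | h114
  · exact (data.checkRange_iff 79567 316).mp Cfsg.Agent.Lib.Helper29.TCF23YU22.chk114 v (by omega) (by omega)
  rcases Nat.lt_or_ge v 80199 with h115 | h115
  · exact (data.checkRange_iff 79883 316).mp Cfsg.Agent.Lib.Helper29.TCF23YU23.chk115 v (by omega) (by omega)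
  exact (data.checkRange_iff 80199 230).mp Cfsg.Agent.Lib.Helper29.TCF23YU23.chk116 v (by omega) (by omega)

theorem hrows : ∀ v, v < data.N → Data.rowOK data v = true := by
  intro v hv
  have hv' : v < 80429 := hv
  rcases Nat.lt_or_ge v 4629 with h0 | h0
  · exact (Data.finalRange_iff data 0 4629).mp Cfsg.Agent.Lib.Helper29.TCF23YM0.fin0 v (by omega) (by omega)
  rcases Nat.lt_or_ge v 9258 with h1 | h1
  · exact (Data.finalRange_iff data 4629 4629).mp Cfsg.Agent.Lib.Helper29.TCF23YM0.fin1 v (by omega) (by omega)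
  rcases Nat.lt_or_ge v 13887 with h2 | h2
  · exact (Data.finalRange_iff data 9258 4629).mp Cfsg.Agent.Lib.Helper29.TCF23YM0.fin2 v (by omega) (by omega)
  rcases Nat.lt_or_ge v 18516 with h3 | h3
  · exact (Data.finalRange_iff data 13887 4629).mp Cfsg.Agent.Lib.Helper29.TCF23YM0.fin3 v (by omega) (by omega)
  rcases Nat.lt_or_ge v 23145 with h4 | h4
  · exact (Data.finalRange_iff data 18516 4629).mp Cfsg.Agent.Lib.Helper29.TCF23YM0.fin4 v (by omega) (by omega)
  rcases Nat.lt_or_ge v 27774 with h5 | h5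
  · exact (Data.finalRange_iff data 23145 4629).mp Cfsg.Agent.Lib.Helper29.TCF23YM1.fin5 v (by omega) (by omega)
  rcases Nat.lt_or_ge v 32403 with h6 | h6
  · exact (Data.finalRange_iff data 27774 4629).mp Cfsg.Agent.Lib.Helper29.TCF23YM1.fin6 v (by omega) (by omega)
  rcases Nat.lt_or_ge v 37032 with h7 | h7
  · exact (Data.finalRange_iff data 32403 4629).mp Cfsg.Agent.Lib.Helper29.TCF23YM1.fin7 v (by omega) (by omega)
  rcases Nat.lt_or_ge v 41661 with h8 | h8
  · exact (Data.finalRange_iff data 37032 4629).mp Cfsg.Agent.Lib.Helper29.TCF23YM1.fin8 v (by omega) (by omega)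
  rcases Nat.lt_or_ge v 46290 with h9 | h9
  · exact (Data.finalRange_iff data 41661 4629).mp Cfsg.Agent.Lib.Helper29.TCF23YM1.fin9 v (by omega) (by omega)
  rcases Nat.lt_or_ge v 50919 with h10 | h10
  · exact (Data.finalRange_iff data 46290 4629).mp Cfsg.Agent.Lib.Helper29.TCF23YM2.fin10 v (by omega) (by omega)
  rcases Nat.lt_or_ge v 55548 with h11 | h11
  · exact (Data.finalRange_iff data 50919 4629).mp Cfsg.Agent.Lib.Helper29.TCF23YM2.fin11 v (by omega) (by omega)
  rcases Nat.lt_or_ge v 60177 with h12 | h12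
  · exact (Data.finalRange_iff data 55548 4629).mp Cfsg.Agent.Lib.Helper29.TCF23YM2.fin12 v (by omega) (by omega)
  rcases Nat.lt_or_ge v 64806 with h13 | h13
  · exact (Data.finalRange_iff data 60177 4629).mp Cfsg.Agent.Lib.Helper29.TCF23YM2.fin13 v (by omega) (by omega)
  rcases Nat.lt_or_ge v 69435 with h14 | h14
  · exact (Data.finalRange_iff data 64806 4629).mp Cfsg.Agent.Lib.Helper29.TCF23YM2.fin14 v (by omega) (by omega)
  rcases Nat.lt_or_ge v 74064 with h15 | h15
  · exact (Data.finalRange_iff data 69435 4629).mp Cfsg.Agent.Lib.Helper29.TCF23YM3.fin15 v (by omega) (by omega)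
  rcases Nat.lt_or_ge v 78693 with h16 | h16
  · exact (Data.finalRange_iff data 74064 4629).mp Cfsg.Agent.Lib.Helper29.TCF23YM3.fin16 v (by omega) (by omega)
  exact (Data.finalRange_iff data 78693 1736).mp Cfsg.Agent.Lib.Helper29.TCF23YM3.fin17 v (by omega) (by omega)

theorem hfin : data.finalOK = true := Data.finalOK_of_rows data hlive0 (by decide) hrows

theorem pc0 : Data.countFrom data 0 40000 = 11996 := Cfsg.Agent.Lib.Helper29.TCF23YM3.cnt0
theorem pc1 : Data.countFrom data 0 80000 = 28002 := Data.countFrom_step data pc0 Cfsg.Agent.Lib.Helper29.TCF23YM3.cnt1 (by norm_num) (by norm_num)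
theorem pc2 : Data.countFrom data 0 80429 = 28431 := Data.countFrom_step data pc1 Cfsg.Agent.Lib.Helper29.TCF23YM4.cnt2 (by norm_num) (by norm_num)

theorem hcount : data.countLive = table.n := by
  rw [Data.countLive_eq]
  exact pc2

theorem hpermAll : ∀ p, p < table.n → Table.permRow table p = true := by
  intro p hp
  have hp' : p < 28431 := hp
  rcases Nat.lt_or_ge p 6944 with h0 | h0
  · exact (Table.permRange_iff table 0 6944).mp Cfsg.Agent.Lib.Helper29.TCF23YM4.prm0 p (by omega) (by omega)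
  rcases Nat.lt_or_ge p 13888 with h1 | h1
  · exact (Table.permRange_iff table 6944 6944).mp Cfsg.Agent.Lib.Helper29.TCF23YM4.prm1 p (by omega) (by omega)
  rcases Nat.lt_or_ge p 20832 with h2 | h2
  · exact (Table.permRange_iff table 13888 6944).mp Cfsg.Agent.Lib.Helper29.TCF23YM4.prm2 p (by omega) (by omega)
  rcases Nat.lt_or_ge p 27776 with h3 | h3
  · exact (Table.permRange_iff table 20832 6944).mp Cfsg.Agent.Lib.Helper29.TCF23YM4.prm3 p (by omega) (by omega)
  exact (Table.permRange_iff table 27776 655).mp Cfsg.Agent.Lib.Helper29.TCF23YM5.prm4 p (by omega) (by omega)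

theorem hT : table.OK := Table.ok_of_rows table hinvOK hpermAll

theorem htreeAll : ∀ i, i < Nat.pred table.n → Table.treeRow table i = true := by
  intro p hp
  have hp' : p < 28430 := hp
  exact (Table.treeRange_iff table 0 28430).mp Cfsg.Agent.Lib.Helper29.TCF23YM5.tre0 p (by omega) (by omega)

theorem htree : table.treeOK = true := Table.treeOK_of_rows table htreeAll

theorem hchkT : ∀ P ∈ chkPaths, ∀ p, p < table.n → table.walkT P p = p := by
  intro P hm p hp
  have hp' : p < 28431 := hp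
  rcases Nat.lt_or_ge p 932 with h0 | h0
  · exact (Table.relOK_iff chkPaths 0 932).mp Cfsg.Agent.Lib.Helper29.TCF23YL0.rel0 p (by omega) (by omega) _ hm
  rcases Nat.lt_or_ge p 1864 with h1 | h1
  · exact (Table.relOK_iff chkPaths 932 932).mp Cfsg.Agent.Lib.Helper29.TCF23YL0.rel1 p (by omega) (by omega) _ hm
  rcases Nat.lt_or_ge p 2796 with h2 | h2
  · exact (Table.relOK_iff chkPaths 1864 932).mp Cfsg.Agent.Lib.Helper29.TCF23YL0.rel2 p (by omega) (by omega) _ hm
  rcases Nat.lt_or_ge p 3728 with h3 | h3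
  · exact (Table.relOK_iff chkPaths 2796 932).mp Cfsg.Agent.Lib.Helper29.TCF23YL0.rel3 p (by omega) (by omega) _ hm
  rcases Nat.lt_or_ge p 4660 with h4 | h4
  · exact (Table.relOK_iff chkPaths 3728 932).mp Cfsg.Agent.Lib.Helper29.TCF23YL0.rel4 p (by omega) (by omega) _ hm
  rcases Nat.lt_or_ge p 5592 with h5 | h5
  · exact (Table.relOK_iff chkPaths 4660 932).mp Cfsg.Agent.Lib.Helper29.TCF23YL0.rel5 p (by omega) (by omega) _ hm
  rcases Nat.lt_or_ge p 6524 with h6 | h6
  · exact (Table.relOK_iff chkPaths 5592 932).mp Cfsg.Agent.Lib.Helper29.TCF23YL1.rel6 p (by omega) (by omega) _ hm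
  rcases Nat.lt_or_ge p 7456 with h7 | h7
  · exact (Table.relOK_iff chkPaths 6524 932).mp Cfsg.Agent.Lib.Helper29.TCF23YL1.rel7 p (by omega) (by omega) _ hm
  rcases Nat.lt_or_ge p 8388 with h8 | h8
  · exact (Table.relOK_iff chkPaths 7456 932).mp Cfsg.Agent.Lib.Helper29.TCF23YL1.rel8 p (by omega) (by omega) _ hm
  rcases Nat.lt_or_ge p 9320 with h9 | h9
  · exact (Table.relOK_iff chkPaths 8388 932).mp Cfsg.Agent.Lib.Helper29.TCF23YL1.rel9 p (by omega) (by omega) _ hm
  rcases Nat.lt_or_ge p 10252 with h10 | h10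
  · exact (Table.relOK_iff chkPaths 9320 932).mp Cfsg.Agent.Lib.Helper29.TCF23YL1.rel10 p (by omega) (by omega) _ hm
  rcases Nat.lt_or_ge p 11184 with h11 | h11
  · exact (Table.relOK_iff chkPaths 10252 932).mp Cfsg.Agent.Lib.Helper29.TCF23YL1.rel11 p (by omega) (by omega) _ hm
  rcases Nat.lt_or_ge p 12116 with h12 | h12
  · exact (Table.relOK_iff chkPaths 11184 932).mp Cfsg.Agent.Lib.Helper29.TCF23YL2.rel12 p (by omega) (by omega) _ hm
  rcases Nat.lt_or_ge p 13048 with h13 | h13
  · exact (Table.relOK_iff chkPaths 12116 932).mp Cfsg.Agent.Lib.Helper29.TCF23YL2.rel13 p (by omega) (by omega) _ hm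
  rcases Nat.lt_or_ge p 13980 with h14 | h14
  · exact (Table.relOK_iff chkPaths 13048 932).mp Cfsg.Agent.Lib.Helper29.TCF23YL2.rel14 p (by omega) (by omega) _ hm
  rcases Nat.lt_or_ge p 14912 with h15 | h15
  · exact (Table.relOK_iff chkPaths 13980 932).mp Cfsg.Agent.Lib.Helper29.TCF23YL2.rel15 p (by omega) (by omega) _ hm
  rcases Nat.lt_or_ge p 15844 with h16 | h16
  · exact (Table.relOK_iff chkPaths 14912 932).mp Cfsg.Agent.Lib.Helper29.TCF23YL2.rel16 p (by omega) (by omega) _ hm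
  rcases Nat.lt_or_ge p 16776 with h17 | h17
  · exact (Table.relOK_iff chkPaths 15844 932).mp Cfsg.Agent.Lib.Helper29.TCF23YL2.rel17 p (by omega) (by omega) _ hm
  rcases Nat.lt_or_ge p 17708 with h18 | h18
  · exact (Table.relOK_iff chkPaths 16776 932).mp Cfsg.Agent.Lib.Helper29.TCF23YL3.rel18 p (by omega) (by omega) _ hm
  rcases Nat.lt_or_ge p 18640 with h19 | h19
  · exact (Table.relOK_iff chkPaths 17708 932).mp Cfsg.Agent.Lib.Helper29.TCF23YL3.rel19 p (by omega) (by omega) _ hm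
  rcases Nat.lt_or_ge p 19572 with h20 | h20
  · exact (Table.relOK_iff chkPaths 18640 932).mp Cfsg.Agent.Lib.Helper29.TCF23YL3.rel20 p (by omega) (by omega) _ hm
  rcases Nat.lt_or_ge p 20504 with h21 | h21
  · exact (Table.relOK_iff chkPaths 19572 932).mp Cfsg.Agent.Lib.Helper29.TCF23YL3.rel21 p (by omega) (by omega) _ hm
  rcases Nat.lt_or_ge p 21436 with h22 | h22
  · exact (Table.relOK_iff chkPaths 20504 932).mp Cfsg.Agent.Lib.Helper29.TCF23YL3.rel22 p (by omega) (by omega) _ hm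
  rcases Nat.lt_or_ge p 22368 with h23 | h23
  · exact (Table.relOK_iff chkPaths 21436 932).mp Cfsg.Agent.Lib.Helper29.TCF23YL3.rel23 p (by omega) (by omega) _ hm
  rcases Nat.lt_or_ge p 23300 with h24 | h24
  · exact (Table.relOK_iff chkPaths 22368 932).mp Cfsg.Agent.Lib.Helper29.TCF23YL4.rel24 p (by omega) (by omega) _ hm
  rcases Nat.lt_or_ge p 24232 with h25 | h25
  · exact (Table.relOK_iff chkPaths 23300 932).mp Cfsg.Agent.Lib.Helper29.TCF23YL4.rel25 p (by omega) (by omega) _ hm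
  rcases Nat.lt_or_ge p 25164 with h26 | h26
  · exact (Table.relOK_iff chkPaths 24232 932).mp Cfsg.Agent.Lib.Helper29.TCF23YL4.rel26 p (by omega) (by omega) _ hm
  rcases Nat.lt_or_ge p 26096 with h27 | h27
  · exact (Table.relOK_iff chkPaths 25164 932).mp Cfsg.Agent.Lib.Helper29.TCF23YL4.rel27 p (by omega) (by omega) _ hm
  rcases Nat.lt_or_ge p 27028 with h28 | h28
  · exact (Table.relOK_iff chkPaths 26096 932).mp Cfsg.Agent.Lib.Helper29.TCF23YL4.rel28 p (by omega) (by omega) _ hm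
  rcases Nat.lt_or_ge p 27960 with h29 | h29
  · exact (Table.relOK_iff chkPaths 27028 932).mp Cfsg.Agent.Lib.Helper29.TCF23YL4.rel29 p (by omega) (by omega) _ hm
  exact (Table.relOK_iff chkPaths 27960 471).mp Cfsg.Agent.Lib.Helper29.TCF23YL5.rel30 p (by omega) (by omega) _ hm

theorem hrelT : ∀ L ∈ relWords, ∀ p, p < table.n → table.walkT (pathOf lw L) p = p :=
  fun L hL => Table.fix_of_covered hT chkPaths hchkT _ (hcov _ (hrelmem L hL)).1 (hcov _ (hrelmem L hL)).2

theorem hsubT : ∀ L ∈ subWords, table.walkT (pathOf lw L) 0 = 0 :=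
  fun L hL => (Table.subOK_iff subPaths).mp hsub0 _ (hsubmem L hL)

theorem hn : 0 < table.n := by decide

theorem main : ((Subgroup.closure S).map (PresentedGroup.mk rels)).index = table.n ∧
    ∃ φ : PresentedGroup rels →* Equiv.Perm (Fin table.n),
      (∀ x, φ (PresentedGroup.of x) = Table.sigma hT (lw (x, true))) ∧
      ∃ f : PresentedGroup rels ⧸ (Subgroup.closure S).map (PresentedGroup.mk rels) → Fin table.n,
        Function.Bijective f ∧ (∀ g q, f (g • q) = φ g (f q)) ∧ f (QuotientGroup.mk 1) = ⟨0, hn⟩ :=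
  index_eq link hchk hfin hcount hT hn hrelT hsubT htree

end Cfsg.Agent.Lib.Helper29.TCF23YMain
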