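import Cfsg.Agent.Lib.Helper29.F23E8Card
import Cfsg.Agent.Lib.Helper29.TCF23YMain
import Cfsg.Agent.Lib.Helper29.TCF23YBMain
import Cfsg.Agent.Lib.Helper28.TC2Simple

set_option autoImplicit false
set_option maxRecDepth 100000

/-!
# The E8 parabolic of `Y422`

`Y422 = ⟨b, …, j⟩` (Coxeter relators of the Y₄₂₂ diagram and the spider relator), `W8` the presented Coxeter group of
type E8 on `b, c, d, e, f, g, j, h`.  The kernel of `W8 → Y422` has exponent at most 2: `|W8| ≤ 696729600` and the image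
acts on the 28431 cosets as a group of order at least `348364800`.
-/

namespace Cfsg.Agent.Lib.Helper29.F23YRetr
open Cfsg.Agent.Lib.Helper28.TC2Tower Cfsg.Agent.Lib.Helper28.TC2Glue Cfsg.Agent.Lib.Helper28.TC2Lower
open Cfsg.Agent.Lib.Helper28.TC2Bsgs Cfsg.Agent.Lib.Helper28.TC2Simple
open Cfsg.Agent.Lib.Helper29.F23E8Card
open Cfsg.Agent.Lib.Helper29.TCF23YLink Cfsg.Agent.Lib.Helper29.TCF23YTable Cfsg.Agent.Lib.Helper29.TCF23YMain

/-- the presented group `Y422` -/
abbrev Y : Type := PresentedGroup rels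
/-- the presented Coxeter group of type E8 -/
abbrev W8 : Type := PresentedGroup R8
/-- the E8 parabolic of `Y422` -/
abbrev HY : Subgroup Y := (Subgroup.closure S).map (PresentedGroup.mk rels)

theorem up8_rel : ∀ L ∈ Cfsg.Agent.Lib.Helper29.TCF23E8Link.relWords,
    upWord Cfsg.Agent.Lib.Helper29.F23E8Def.up L ∈ relWords := by decide +kernel

theorem hrelmap8 : ∀ r ∈ R8, FreeGroup.map Cfsg.Agent.Lib.Helper29.F23E8Def.up r ∈ rels :=
  hrel_of_words rels R8 Cfsg.Agent.Lib.Helper29.F23E8Def.up relWords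
    Cfsg.Agent.Lib.Helper29.TCF23E8Link.relWords link.hrels Cfsg.Agent.Lib.Helper29.TCF23E8Link.link.hrels up8_rel

theorem hι8rel : ∀ r ∈ R8,
    FreeGroup.lift (fun g => (PresentedGroup.of (Cfsg.Agent.Lib.Helper29.F23E8Def.up g) : Y)) r = 1 := by
  intro r hr
  have key : FreeGroup.lift (fun g => (PresentedGroup.of (Cfsg.Agent.Lib.Helper29.F23E8Def.up g) : Y)) =
      (PresentedGroup.mk rels).comp (FreeGroup.map Cfsg.Agent.Lib.Helper29.F23E8Def.up) := by
    ext g
    simp [PresentedGroup.of]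
  rw [key]
  exact PresentedGroup.one_of_mem (hrelmap8 r hr)

/-- the map from the Coxeter group -/
noncomputable def ι8 : W8 →* Y := PresentedGroup.toGroup hι8rel

theorem ι8_of (g : Cfsg.Agent.Lib.Helper29.F23E8Def.Gen) :
    ι8 (PresentedGroup.of g) = PresentedGroup.of (Cfsg.Agent.Lib.Helper29.F23E8Def.up g) :=
  PresentedGroup.toGroup.of hι8rel

theorem range_ι8 : ι8.range = HY := by
  rw [MonoidHom.range_eq_map, ← PresentedGroup.closure_range_of, MonoidHom.map_closure, ← Set.range_comp]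
  show _ = (Subgroup.closure S).map _
  rw [MonoidHom.map_closure]
  congr 1
  ext x
  constructor
  · rintro ⟨g, rfl⟩
    cases g
    · exact ⟨FreeGroup.of .b, by simp [S], (ι8_of .b).symm⟩
    · exact ⟨FreeGroup.of .c, by simp [S], (ι8_of .c).symm⟩
    · exact ⟨FreeGroup.of .d, by simp [S], (ι8_of .d).symm⟩
    · exact ⟨FreeGroup.of .e, by simp [S], (ι8_of .e).symm⟩
    · exact ⟨FreeGroup.of .f, by simp [S], (ι8_of .f).symm⟩
    · exact ⟨FreeGroup.of .g, by simp [S], (ι8_of .g).symm⟩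
    · exact ⟨FreeGroup.of .j, by simp [S], (ι8_of .j).symm⟩
    · exact ⟨FreeGroup.of .h, by simp [S], (ι8_of .h).symm⟩
  · rintro ⟨y, hy, rfl⟩
    simp only [S, Set.mem_insert_iff, Set.mem_singleton_iff] at hy
    rcases hy with rfl | rfl | rfl | rfl | rfl | rfl | rfl | rfl
    · exact ⟨.b, ι8_of .b⟩
    · exact ⟨.c, ι8_of .c⟩
    · exact ⟨.d, ι8_of .d⟩
    · exact ⟨.e, ι8_of .e⟩
    · exact ⟨.f, ι8_of .f⟩
    · exact ⟨.g, ι8_of .g⟩
    · exact ⟨.j, ι8_of .j⟩
    · exact ⟨.h, ι8_of .h⟩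

/-- the group generated by the first `k0` letters of an extended table, inside another group -/
theorem card_baseGroup_le' {T T' : Table} (hT : T.OK) (hT' : T'.OK) (hn : T'.n = T.n) (k0 : ℕ) (hk0 : k0 ≤ T.k)
    (hk : T.k ≤ T'.k)
    (hagree : ∀ p, p < T.n → ∀ l, l < k0 → T'.tau l p = T.tau l p)
    (Λ : Subgroup (Equiv.Perm (Fin T.n))) (hΛ : ∀ l, l < k0 → Table.sigma hT l ∈ Λ) :
    Nat.card (baseGroup hT' k0) ≤ Nat.card Λ := by
  obtain ⟨n', k', w', M', CH', NCH', col', inv', tw', TM', tree'⟩ := T'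
  simp only at hn
  subst hn
  have hle : baseGroup hT' k0 ≤ Λ := by
    unfold baseGroup
    rw [Subgroup.closure_le]
    rintro π ⟨l, hl, rfl⟩
    have e : Table.sigma hT' l = Table.sigma hT l := by
      apply Equiv.ext
      intro p
      apply Fin.ext
      rw [Table.sigma_apply hT' (lt_of_lt_of_le hl (le_trans hk0 hk)), Table.sigma_apply hT (lt_of_lt_of_le hl hk0)]
      exact hagree p.val p.2 l hl
    rw [SetLike.mem_coe, e]
    exact hΛ l hl
  exact Nat.card_le_card_of_injective _ (Subgroup.inclusion_injective hle)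

/-- the kernel of `W8 → Y422` has exponent at most 2 -/
theorem ker_sq (w : W8) (hw : ι8 w = 1) : w ^ 2 = 1 := by
  obtain ⟨-, φ, hφ, -⟩ := main
  obtain ⟨hfin, hle⟩ := card8
  haveI : Finite W8 := hfin
  let ψ : W8 →* Equiv.Perm (Fin table.n) := φ.comp ι8
  have hmem : ∀ l, l < 16 → Table.sigma hT l ∈ ψ.range := by
    intro l hl
    have hgen : ∀ g : Cfsg.Agent.Lib.Helper29.F23E8Def.Gen, ∀ b : Bool,
        Table.sigma hT (lw (Cfsg.Agent.Lib.Helper29.F23E8Def.up g, b)) ∈ ψ.range := by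
      intro g b
      rw [sigma_lw link hT]
      cases b with
      | true => exact ⟨PresentedGroup.of g, by show φ (ι8 _) = _; rw [ι8_of, hφ]; rfl⟩
      | false =>
        refine ⟨(PresentedGroup.of g)⁻¹, ?_⟩
        show φ (ι8 _) = _
        rw [map_inv, ι8_of, map_inv, hφ]
        rfl
    interval_cases l
    · exact hgen .b true
    · exact hgen .b false
    · exact hgen .c true
    · exact hgen .c false
    · exact hgen .d true
    · exact hgen .d false
    · exact hgen .e true
    · exact hgen .e false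
    · exact hgen .f true
    · exact hgen .f false
    · exact hgen .g true
    · exact hgen .g false
    · exact hgen .j true
    · exact hgen .j false
    · exact hgen .h true
    · exact hgen .h false
  have hlow : 348364800 ≤ Nat.card ψ.range :=
    le_trans Cfsg.Agent.Lib.Helper29.TCF23YBMain.card_base
      (card_baseGroup_le' hT Cfsg.Agent.Lib.Helper29.TCF23YBMain.hTB rfl 16 (by decide) (by decide)
        Cfsg.Agent.Lib.Helper29.TCF23YBMain.hagree ψ.range hmem)
  have hmul : Nat.card ψ.ker * Nat.card ψ.range = Nat.card W8 := by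
    rw [← Subgroup.index_ker, mul_comm]
    exact Subgroup.index_mul_card ψ.ker
  have hk2 : Nat.card ψ.ker ≤ 2 := by
    by_contra hc
    have hc3 : 3 ≤ Nat.card ψ.ker := by omega
    have h3 : 3 * 348364800 ≤ Nat.card ψ.ker * Nat.card ψ.range := Nat.mul_le_mul hc3 hlow
    have hle' : Nat.card W8 ≤ 696729600 := hle
    rw [hmul] at h3
    omega
  have hwk : w ∈ ψ.ker := by
    rw [MonoidHom.mem_ker]
    show φ (ι8 w) = 1
    rw [hw, map_one]
  have hpos : 0 < Nat.card ψ.ker := Nat.card_pos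
  have hpw : (⟨w, hwk⟩ : ↥ψ.ker) ^ Nat.card ψ.ker = 1 := pow_card_eq_one'
  have hpw' : w ^ Nat.card ψ.ker = 1 := by
    have := congrArg Subtype.val hpw
    simpa using this
  have h12 : Nat.card ψ.ker = 1 ∨ Nat.card ψ.ker = 2 := by omega
  rcases h12 with h | h
  · rw [h, pow_one] at hpw'
    rw [hpw', one_pow]
  · rw [h] at hpw'
    exact hpw'

end Cfsg.Agent.Lib.Helper29.F23YRetr
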