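import Cfsg.Agent.Lib.Helper29.F23OddCox
import Cfsg.Agent.Lib.Helper29.F23YRetr
import Cfsg.Agent.Lib.Helper29.PullbackExt
import Cfsg.Agent.Lib.Helper29.SchurFoxHalf

set_option autoImplicit false
set_option maxRecDepth 100000

/-!
# The spider relator in central extensions of `Fi23` with kernel of odd exponent

The extension is pulled back to `Y422 = ⟨b, …, j⟩`, presented by its Coxeter relators and the spider relator.  Over the E8
parabolic (index 28431) the pulled back extension has a homomorphic section, since the Coxeter relators hold exactly for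
the involution lifts and the kernel of `W(E8) → Y422` has exponent at most 2.  One Fox cycle modulo `p` whose coefficient
at the spider relator is 1 then kills the value of the spider relator.
-/

namespace Cfsg.Agent.Lib.Helper29.F23OddSpider

open Cfsg Cfsg.Spor Subgroup
open Cfsg.Agent.Lib.Helper28.SchurFox
open Cfsg.Agent.Lib.Helper28.TC2Tower Cfsg.Agent.Lib.Helper28.TC2Glue Cfsg.Agent.Lib.Helper28.TC2Lower
open Cfsg.Agent.Lib.Helper29.OddLift Cfsg.Agent.Lib.Helper29.F23OddCox Cfsg.Agent.Lib.Helper29.PullbackExt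
open Cfsg.Agent.Lib.Helper29.SchurFoxSparse Cfsg.Agent.Lib.Helper29.SchurFoxOne
open Cfsg.Agent.Lib.Helper29.F23YRetr
open Cfsg.Agent.Lib.Helper29.TCF23YLink Cfsg.Agent.Lib.Helper29.TCF23YTable Cfsg.Agent.Lib.Helper29.TCF23YMain

/-- the generators of `Y422` -/
abbrev YGen := Cfsg.Agent.Lib.Helper29.F23YDef.Gen

/-- the generators of `Y422` inside `Fi23` -/
def up : YGen → Fi23.Gen
  | .b => .b
  | .c => .c
  | .d => .d
  | .e => .e
  | .f => .f
  | .g => .g
  | .j => .j
  | .h => .h
  | .i => .i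

/-- the index of a generator -/
def gi : YGen → ℕ
  | .b => 0
  | .c => 1
  | .d => 2
  | .e => 3
  | .f => 4
  | .g => 5
  | .j => 6
  | .h => 7
  | .i => 8

/-- all generators -/
def gens : List YGen := [.b, .c, .d, .e, .f, .g, .j, .h, .i]

/-- a Coxeter relator as a word -/
def coxW (x y : YGen) : List (YGen × Bool) :=
  (List.replicate (coxLabel Fi23.edges (up x) (up y)) [(x, true), (y, true)]).flatten

/-- the Coxeter relators -/
def coxPart : List (List (YGen × Bool)) := gens.flatMap fun x => gens.map fun y => coxW x y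

/-- the spider relator as a word -/
def spiderW : List (YGen × Bool) :=
  (List.replicate 10 [(.d, true), (.c, true), (.b, true), (.d, true), (.e, true), (.f, true), (.d, true), (.h, true),
    (.i, true)]).flatten

theorem rel_cases : ∀ L ∈ relWords, L ∈ coxPart ∨ L = spiderW := by decide +kernel
theorem cox_rel : ∀ L ∈ coxPart, L ∈ relWords := by decide +kernel
theorem get_cox : ∀ j, j < 82 → j ≠ 81 → relWords.getD j [] ∈ coxPart := by decide +kernel
theorem get_spider : relWords.getD 81 [] = spiderW := by decide +kernel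
theorem up8_cox : ∀ L ∈ Cfsg.Agent.Lib.Helper29.TCF23E8Link.relWords,
    upWord Cfsg.Agent.Lib.Helper29.F23E8Def.up L ∈ coxPart := by decide +kernel

theorem mem_coxPart {L : List (YGen × Bool)} (h : L ∈ coxPart) : ∃ x y, L = coxW x y := by
  unfold coxPart at h
  rw [List.mem_flatMap] at h
  obtain ⟨x, _, hx⟩ := h
  rw [List.mem_map] at hx
  obtain ⟨y, _, rfl⟩ := hx
  exact ⟨x, y, rfl⟩

theorem mk_replicate {α : Type*} (m : ℕ) (l : List (α × Bool)) :
    FreeGroup.mk (List.replicate m l).flatten = (FreeGroup.mk l) ^ m := by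
  induction m with
  | zero => rfl
  | succ k ih =>
    rw [List.replicate_succ, List.flatten_cons, ← FreeGroup.mul_mk, ih, pow_succ']

theorem lift_coxW {G : Type*} [Group G] (f : YGen → G) (x y : YGen) :
    FreeGroup.lift f (FreeGroup.mk (coxW x y)) = (f x * f y) ^ coxLabel Fi23.edges (up x) (up y) := by
  rw [coxW, mk_replicate, map_pow]
  congr 1
  simp [FreeGroup.lift_mk]

theorem lift_spiderW {G : Type*} [Group G] (f : YGen → G) :
    FreeGroup.lift f (FreeGroup.mk spiderW) =
      (f .d * f .c * f .b * f .d * f .e * f .f * f .d * f .h * f .i) ^ 10 := by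
  rw [spiderW, mk_replicate, map_pow]
  congr 1
  simp [FreeGroup.lift_mk, mul_assoc]

theorem hπrel : ∀ r ∈ rels, FreeGroup.lift (fun x => (PresentedGroup.of (up x) : Spor.Fi23)) r = 1 := by
  intro r hr
  obtain ⟨L, hL, rfl⟩ := hr
  rcases rel_cases L hL with h | rfl
  · obtain ⟨x, y, rfl⟩ := mem_coxPart h
    rw [lift_coxW]
    have h1 := PresentedGroup.one_of_mem (cox_mem (up x) (up y))
    rw [map_pow, map_mul] at h1
    exact h1
  · rw [lift_spiderW]
    have hmem : (FreeGroup.of Fi23.Gen.d * FreeGroup.of .c * FreeGroup.of .b * FreeGroup.of .d * FreeGroup.of .e *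
        FreeGroup.of .f * FreeGroup.of .d * FreeGroup.of .h * FreeGroup.of .i) ^ 10 ∈ R23 :=
      Or.inr (by simp [Fi23.extra])
    have h1 := PresentedGroup.one_of_mem hmem
    simp only [map_pow, map_mul] at h1
    exact h1

/-- the map `Y422 → Fi23` -/
noncomputable def π : Y →* Spor.Fi23 := PresentedGroup.toGroup hπrel

theorem π_of (x : YGen) : π (PresentedGroup.of x) = PresentedGroup.of (up x) := PresentedGroup.toGroup.of hπrel

theorem hlw : ∀ x b, lw (x, b) = 2 * gi x + cond b 0 1 := by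
  intro x b
  cases x <;> cases b <;> rfl

theorem hgi : Function.Injective gi := by
  intro x y h
  cases x <;> cases y <;> first | rfl | exact absurd h (by decide)

section Lifts
variable {Γ : Type*} [Group Γ] (σ : Γ →* Spor.Fi23) (hs : Function.Surjective σ) (hc : σ.ker ≤ center Γ) {p : ℕ}
  (hp : Odd p) (hexp : ∀ a ∈ σ.ker, a ^ p = 1) (γ : Fi23.Gen → Γ) (hγ : ∀ x, σ (γ x) = PresentedGroup.of x)
  (hγ2 : ∀ x, γ x ^ 2 = 1)

/-- the lifts in the pullback -/
def γ' (hγ : ∀ x, σ (γ x) = PresentedGroup.of x) (x : YGen) : ↥(P σ π) :=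
  ⟨(γ (up x), PresentedGroup.of x), by rw [mem_P]; show σ (γ (up x)) = π (PresentedGroup.of x); rw [hγ, π_of]⟩

theorem pr1_γ' (x : YGen) : pr1 σ π (γ' σ γ hγ x) = γ (up x) := rfl
theorem σ'_γ' (x : YGen) : σ' σ π (γ' σ γ hγ x) = PresentedGroup.of x := rfl

include hc hp hexp hγ2 in
theorem cox' (x y : YGen) : (γ' σ γ hγ x * γ' σ γ hγ y) ^ coxLabel Fi23.edges (up x) (up y) = 1 := by
  have h1 : pr1 σ π ((γ' σ γ hγ x * γ' σ γ hγ y) ^ coxLabel Fi23.edges (up x) (up y)) = pr1 σ π 1 := by
    rw [map_pow, map_mul, map_one, pr1_γ', pr1_γ']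
    exact cox_exact σ hc hp hexp γ hγ hγ2 (up x) (up y)
  have h2 : σ' σ π ((γ' σ γ hγ x * γ' σ γ hγ y) ^ coxLabel Fi23.edges (up x) (up y)) = σ' σ π 1 := by
    rw [map_pow, map_mul, map_one, σ'_γ', σ'_γ']
    have h1 : FreeGroup.mk (coxW x y) ∈ rels := ⟨_, cox_rel _ (by
      unfold coxPart
      rw [List.mem_flatMap]
      exact ⟨x, by cases x <;> decide, List.mem_map.mpr ⟨y, by cases y <;> decide, rfl⟩⟩), rfl⟩
    have h2 := PresentedGroup.one_of_mem h1
    have h3 := lift_coxW (fun x => (PresentedGroup.of x : Y)) x y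
    have h4 : FreeGroup.lift (fun x => (PresentedGroup.of x : Y)) = PresentedGroup.mk rels := by
      apply FreeGroup.ext_hom
      intro z
      simp [PresentedGroup.of]
    rw [h4, h2] at h3
    exact h3.symm
  exact ext_P σ π h1 h2

include hc hp hexp hγ2 in
theorem lift_cox' {L : List (YGen × Bool)} (hL : L ∈ coxPart) :
    FreeGroup.lift (γ' σ γ hγ) (FreeGroup.mk L) = 1 := by
  obtain ⟨x, y, rfl⟩ := mem_coxPart hL
  rw [lift_coxW]
  exact cox' σ hc hp hexp γ hγ hγ2 x y

include hc hp hexp hγ2 in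
theorem hsrel : ∀ r ∈ Cfsg.Agent.Lib.Helper29.F23E8Card.R8,
    FreeGroup.lift (fun g => γ' σ γ hγ (Cfsg.Agent.Lib.Helper29.F23E8Def.up g)) r = 1 := by
  intro r hr
  obtain ⟨L, hL, rfl⟩ := hr
  have key : FreeGroup.lift (fun g => γ' σ γ hγ (Cfsg.Agent.Lib.Helper29.F23E8Def.up g)) =
      (FreeGroup.lift (γ' σ γ hγ)).comp (FreeGroup.map Cfsg.Agent.Lib.Helper29.F23E8Def.up) := by
    apply FreeGroup.ext_hom
    intro z
    simp
  rw [key, MonoidHom.comp_apply, map_mk]
  exact lift_cox' σ hc hp hexp γ hγ hγ2 (up8_cox L hL)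

include hs hc hp hexp hγ hγ2 in
/-- the value of the spider relator on involution lifts is trivial -/
theorem spider_exact (D : FoxData) (hDn : D.n = table.n) (hDd : D.d = 9) (hDp : D.p = p)
    (hpaths : D.paths = relWords.map (pathOf lw))
    (hOK : static1OK D table.tau = true) (rows : List (List (ℕ × ℕ)))
    (hcyc : cycleOKS D table.tau 0 rows = true) (hlam : entry D.Lam 0 81 = 1) :
    (γ .d * γ .c * γ .b * γ .d * γ .e * γ .f * γ .d * γ .h * γ .i) ^ 10 = 1 := by
  obtain ⟨-, φ, hφ, f, hf, hfe, -⟩ := main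
  have hc' := ker_le_center σ π hc
  have hexp' := ker_pow σ π p hexp
  have hs' := σ'_surjective σ π hs
  -- the section over the E8 parabolic
  let s : W8 →* ↥(P σ π) := PresentedGroup.toGroup (hsrel σ hc hp hexp γ hγ hγ2)
  have hs_of : ∀ g, s (PresentedGroup.of g) = γ' σ γ hγ (Cfsg.Agent.Lib.Helper29.F23E8Def.up g) :=
    fun g => PresentedGroup.toGroup.of (hsrel σ hc hp hexp γ hγ hγ2)
  have hσs : ∀ w, σ' σ π (s w) = ι8 w := by
    have : (σ' σ π).comp s = ι8 := by
      apply PresentedGroup.ext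
      intro g
      show σ' σ π (s (PresentedGroup.of g)) = ι8 (PresentedGroup.of g)
      rw [hs_of, σ'_γ', ι8_of]
    intro w
    exact DFunLike.congr_fun this w
  have hK : ∀ w, ι8 w = 1 → s w = 1 := by
    intro w hw
    have h2 : s w ^ 2 = 1 := by rw [← map_pow, ker_sq w hw, map_one]
    have hk : s w ∈ (σ' σ π).ker := by rw [MonoidHom.mem_ker, hσs, hw]
    exact eq_one_of_sq_of_pow hp h2 (hexp' _ hk)
  obtain ⟨τ, hτ⟩ := exists_section (σ' σ π) ι8 s hσs hK
  obtain ⟨R0⟩ := retraction_of_section (σ' σ π) hc' ι8.range τ hτ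
  have R : Retraction (σ' σ π) (HY.comap (σ' σ π)) := by
    rw [← range_ι8]
    exact R0
  have hDd' : ∀ k < D.d, ∃ x, gi x = k := by
    intro k hk
    rw [hDd] at hk
    interval_cases k
    exacts [⟨.b, rfl⟩, ⟨.c, rfl⟩, ⟨.d, rfl⟩, ⟨.e, rfl⟩, ⟨.f, rfl⟩, ⟨.g, rfl⟩, ⟨.j, rfl⟩, ⟨.h, rfl⟩, ⟨.i, rfl⟩]
  have hlen : relWords.length = 82 := by decide +kernel
  have key := pow_eq_one_of_cycle rels relWords lw gi link.hrels hlw hgi HY table hT (fun x => link.lwk (x, true)) φ hφ f hf hfe D hDn hDd'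
    hpaths hOK rows hcyc (σ' σ π) hs' hc' (by rw [hDp]; exact hexp') R (γ' σ γ hγ) (σ'_γ' σ γ hγ) 81
    (by rw [hlen]; norm_num)
    (by
      intro j hj hne
      rw [hlen] at hj
      exact lift_cox' σ hc hp hexp γ hγ hγ2 (get_cox j hj hne))
  rw [hlam, pow_one, get_spider, lift_spiderW] at key
  have := congrArg (pr1 σ π) key
  simpa only [map_pow, map_mul, map_one, pr1_γ', up] using this

end Lifts

end Cfsg.Agent.Lib.Helper29.F23OddSpider
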