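import Cfsg.Agent.Lib.Helper29.SchurFoxSparse
set_option autoImplicit false
set_option maxHeartbeats 0
set_option maxRecDepth 100000

namespace Cfsg.Agent.Lib.Helper29.FoxF23YP5
open Cfsg.Agent.Lib.Helper28.SchurFox

/-- one Fox cycle modulo 5 over the 28431 cosets of the E8 parabolic of Y422 -/
def data : FoxData where
  n := 28431
  d := 9
  p := 5
  w := 11
  mw := 2048
  cw := 1
  mc := 2
  paths := [[0, 0], [2, 0, 2, 0, 2, 0], [4, 0, 4, 0], [6, 0, 6, 0], [8, 0, 8, 0], [10, 0, 10, 0], [12, 0, 12, 0], [14, 0, 14, 0], [16, 0, 16, 0], [0, 2, 0, 2, 0, 2], [2, 2], [4, 2, 4, 2, 4, 2], [6, 2, 6, 2], [8, 2, 8, 2], [10, 2, 10, 2], [12, 2, 12, 2], [14, 2, 14, 2], [16, 2, 16, 2], [0, 4, 0, 4], [2, 4, 2, 4, 2, 4], [4, 4], [6, 4, 6, 4, 6, 4], [8, 4, 8, 4], [10, 4, 10, 4], [12, 4, 12, 4], [14, 4, 14, 4, 14, 4], [16, 4, 16, 4], [0, 6, 0, 6], [2,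 6, 2, 6], [4, 6, 4, 6, 4, 6], [6, 6], [8, 6, 8, 6, 8, 6], [10, 6, 10, 6], [12, 6, 12, 6], [14, 6, 14, 6], [16, 6, 16, 6], [0, 8, 0, 8], [2, 8, 2, 8], [4, 8, 4, 8], [6, 8, 6, 8, 6, 8], [8, 8], [10, 8, 10, 8, 10, 8], [12, 8, 12, 8], [14, 8, 14, 8], [16, 8, 16, 8], [0, 10, 0, 10], [2, 10, 2, 10], [4, 10, 4, 10], [6, 10, 6, 10], [8, 10, 8, 10, 8, 10], [10, 10], [12, 10, 12, 10, 12, 10], [14, 10, 14, 10], [16, 10, 16, 10], [0, 12, 0, 12], [2, 12, 2, 12], [4, 12, 4, 12], [6, 12, 6, 12], [8, 12, 8, 12], [10, 12, 10, 12, 10, 12], [12, 12], [14, 12, 14, 12], [16, 12, 16, 12], [0, 14, 0, 14], [2, 14, 2, 14], [4, 14, 4, 14, 4, 14], [6, 14, 6, 14], [8, 14, 8, 14], [10, 14, 10, 14], [12, 14, 12, 14], [14, 14], [16, 14, 16, 14, 16, 14], [0, 16, 0, 16], [2, 16, 2, 16], [4, 16, 4, 16], [6, 16, 6, 16], [8, 16, 8, 16], [10, 16, 10, 16], [12, 16, 12, 16],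 [14, 16, 14, 16, 14, 16], [16, 16], [16, 14, 4, 8, 6, 4, 0, 2, 4, 16, 14, 4, 8, 6, 4, 0, 2, 4, 16, 14, 4, 8, 6, 4, 0, 2, 4, 16, 14, 4, 8, 6, 4, 0, 2, 4, 16, 14, 4, 8, 6, 4, 0, 2, 4, 16, 14, 4, 8, 6, 4, 0, 2, 4, 16, 14, 4, 8, 6, 4, 0, 2, 4, 16, 14, 4, 8, 6, 4, 0, 2, 4, 16, 14, 4, 8, 6, 4, 0, 2, 4, 16, 14, 4, 8, 6, 4, 0, 2, 4]]
  cycles := []
  Lam := [[58, 0, 0, 0, 0, 0, 0, 0, 0, 1, 53, 0, 0, 0, 0, 0, 0, 0, 12, 5, 66, 0, 0, 0, 0, 0, 0, 6, 10, 5, 58, 0, 0, 0, 0, 0, 12, 17, 19, 1, 53, 0, 0, 0, 0, 0, 0, 0, 0, 0, 0, 0, 0, 0, 0, 0, 0, 0, 0, 0, 0, 0, 0, 1, 4, 0, 1, 2, 0, 0, 32, 0, 2, 22, 18, 6, 8, 0, 0, 0, 34, 1]]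
  S := []
  Tm := []

/-- the cells of the cycle, relator by relator -/
def rows : List (List (ℕ × ℕ)) := [
  [(0, 2), (1, 2), (4, 4), (5, 2), (7, 4), (11, 4), (15, 4), (25, 4), (36, 4), (53, 4), (63, 2), (340, 4), (341, 1), (671, 4), (738, 4), (739, 3), (740, 2), (996, 4)],
  [],
  [],
  [],
  [],
  [],
  [],
  [],
  [],
  [(534, 1)],
  [(0, 2), (1, 2), (3, 4), (5, 4), (46, 4), (69, 4), (127, 1), (185, 1), (242, 1), (243, 4), (267, 1), (346, 4), (381, 1), (382, 1), (478, 2), (480, 2), (534, 4), (538, 1), (738, 2), (995, 4), (1000, 4)],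
  [],
  [],
  [],
  [],
  [],
  [],
  [],
  [(11, 1), (36, 1), (240, 1), (341, 4), (342, 4), (539, 1)],
  [(46, 1), (267, 4)],
  [(0, 1), (1, 1), (2, 4), (5, 2), (6, 2), (14, 4), (16, 2), (36, 4), (46, 4), (49, 2), (59, 4), (101, 4), (133, 1), (240, 4), (267, 1), (338, 4), (342, 4), (377, 1), (381, 1), (483, 4), (484, 4), (669, 4), (741, 4)],
  [],
  [],
  [],
  [],
  [],
  [],
  [(4, 1), (25, 1), (534, 3), (738, 1)],
  [(3, 1), (32, 1), (185, 4), (733, 3), (995, 1)],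
  [(42, 1), (264, 4)],
  [(0, 2), (1, 2), (3, 4), (4, 4), (6, 4), (25, 4), (32, 4), (42, 4), (86, 4), (127, 4), (264, 1), (477, 2), (481, 2), (534, 3), (670, 4), (733, 2), (995, 4), (1000, 4)],
  [],
  [],
  [],
  [],
  [],
  [(7, 1), (240, 4), (534, 1), (535, 4), (739, 2)],
  [(169, 4), (243, 1), (267, 4), (346, 1), (382, 4), (534, 2), (733, 1)],
  [(7, 4), (133, 4), (267, 4), (342, 1), (377, 4), (484, 1), (535, 1)],
  [(534, 1)],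
  [(0, 2), (1, 2), (3, 2), (9, 4), (16, 4), (169, 1), (240, 1), (267, 1), (342, 4), (377, 1), (378, 2), (382, 1), (481, 4), (484, 4), (534, 1), (539, 1), (670, 4), (733, 4), (739, 3), (740, 3), (996, 4)],
  [],
  [],
  [],
  [],
  [],
  [],
  [],
  [],
  [],
  [],
  [],
  [],
  [],
  [],
  [],
  [],
  [],
  [],
  [],
  [],
  [],
  [],
  [(15, 1)],
  [(127, 4)],
  [],
  [(127, 1)],
  [(10, 1), (184, 1)],
  [],
  [],
  [(0, 2), (1, 4), (10, 4), (15, 4), (20, 4), (184, 4), (266, 4), (476, 2), (483, 4)],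
  [],
  [(340, 1), (535, 1)],
  [(32, 4), (86, 4), (169, 1), (242, 4), (267, 1), (381, 4), (538, 4)],
  [(42, 4), (91, 4), (240, 1), (377, 1), (381, 4), (535, 4)],
  [(62, 4), (86, 1), (534, 1)],
  [(169, 4), (267, 4)],
  [],
  [],
  [],
  [(0, 4), (2, 2), (10, 2), (42, 1), (62, 1), (91, 1), (240, 4), (242, 1), (340, 4), (377, 4), (381, 1), (476, 4), (534, 4), (538, 1)],
  [(0, 1)] ]

end Cfsg.Agent.Lib.Helper29.FoxF23YP5
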