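import Cfsg.Agent.Lib.Helper29.FoxO73CS2
import Cfsg.Agent.Lib.Helper29.FoxO73CS2CycB
import Cfsg.Agent.Lib.Helper29.O73CTabA
set_option autoImplicit false
set_option maxRecDepth 100000
set_option maxHeartbeats 0

namespace Cfsg.Agent.Lib.Helper29.FoxO73CS2ChkB
open Cfsg.Agent.Lib.Helper28.SchurFox Cfsg.Agent.Lib.Helper29.SchurFoxSparse Cfsg.Agent.Lib.Helper29.FoxO73CS2 Cfsg.Agent.Lib.Helper29.FoxO73CS2Cyc Cfsg.Agent.Lib.Helper29.O73CTabA

theorem hcyc1 : cycleOKS data table.tau 1 cyc1 = true := by decide +kernel
theorem hcyc6 : cycleOKS data table.tau 6 cyc6 = true := by decide +kernel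
theorem hcyc8 : cycleOKS data table.tau 8 cyc8 = true := by decide +kernel
theorem hcyc15 : cycleOKS data table.tau 15 cyc15 = true := by decide +kernel
theorem hcyc19 : cycleOKS data table.tau 19 cyc19 = true := by decide +kernel
theorem hcyc23 : cycleOKS data table.tau 23 cyc23 = true := by decide +kernel
theorem hcyc26 : cycleOKS data table.tau 26 cyc26 = true := by decide +kernel
theorem hcyc29 : cycleOKS data table.tau 29 cyc29 = true := by decide +kernel
theorem hcyc35 : cycleOKS data table.tau 35 cyc35 = true := by decide +kernel
theorem hcyc37 : cycleOKS data table.tau 37 cyc37 = true := by decide +kernel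
theorem hcyc48 : cycleOKS data table.tau 48 cyc48 = true := by decide +kernel
theorem hcyc59 : cycleOKS data table.tau 59 cyc59 = true := by decide +kernel
theorem hcyc60 : cycleOKS data table.tau 60 cyc60 = true := by decide +kernel
theorem hcyc64 : cycleOKS data table.tau 64 cyc64 = true := by decide +kernel
theorem hcyc66 : cycleOKS data table.tau 66 cyc66 = true := by decide +kernel
theorem hcyc68 : cycleOKS data table.tau 68 cyc68 = true := by decide +kernel
theorem hcyc72 : cycleOKS data table.tau 72 cyc72 = true := by decide +kernel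
theorem hcyc75 : cycleOKS data table.tau 75 cyc75 = true := by decide +kernel
theorem hcyc81 : cycleOKS data table.tau 81 cyc81 = true := by decide +kernel
theorem hcyc84 : cycleOKS data table.tau 84 cyc84 = true := by decide +kernel
theorem hcyc85 : cycleOKS data table.tau 85 cyc85 = true := by decide +kernel
theorem hcyc86 : cycleOKS data table.tau 86 cyc86 = true := by decide +kernel
theorem hcyc87 : cycleOKS data table.tau 87 cyc87 = true := by decide +kernel
theorem hcyc91 : cycleOKS data table.tau 91 cyc91 = true := by decide +kernel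

end Cfsg.Agent.Lib.Helper29.FoxO73CS2ChkB
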