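import Mathlib.Data.Nat.Notation
set_option autoImplicit false
set_option maxRecDepth 100000

namespace Cfsg.Agent.Lib.Helper29.FoxO73CS2Cyc

def cyc3 : List (List (ℕ × ℕ)) := [[(0, 1)], [(0, 1)], [], [], [], [(0, 1)], [], [], [], [], [], [], [], [], [], [], [], [], [], [], [], [], [], [], [], [], [], [], [], [], [], [], [], [], [], [], [], [], [], [], [], [], [], [], [], [], [], [], [], [], [], [], [], [], [], [], [], [], [], [], [], [], [], [], [], [], [], [], [], [], [], [], [], [], [], [], [], [], [], [], [], [], [], [], [], [], [], [], [], [], [], [], [], [], [], [], [], [], [], [], [], [], [], [], []]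
def cyc4 : List (List (ℕ × ℕ)) := [[], [], [], [], [], [], [], [(0, 1)], [], [], [], [], [], [], [], [], [], [], [], [], [], [], [], [], [], [], [], [], [], [], [], [], [], [], [], [], [], [], [], [], [], [], [], [], [], [], [], [], [], [], [], [], [], [], [], [], [], [], [], [], [], [], [], [], [], [], [], [], [], [], [], [], [], [], [], [], [], [], [], [], [], [], [], [], [], [], [], [], [], [], [], [], [], [], [], [], [], [], [], [], [], [], [], [], []]
def cyc10 : List (List (ℕ × ℕ)) := [[], [], [], [], [], [], [], [], [], [], [], [], [], [(0, 1)], [], [], [], [], [], [], [], [], [], [], [], [], [], [], [], [], [], [], [], [], [], [], [], [], [], [], [], [], [], [], [], [], [], [], [], [], [], [], [], [], [], [], [], [], [], [], [], [], [], [], [], [], [], [], [], [], [], [], [], [], [], [], [], [], [], [], [], [], [], [], [], [], [], [], [], [], [], [], [], [], [], [], [], [], [], [], [], [], [], [], []]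
def cyc13 : List (List (ℕ × ℕ)) := [[(1, 1), (4, 1), (5, 1), (9, 1), (10, 1), (11, 1), (12, 1), (20, 1), (21, 1), (24, 1), (25, 1), (29, 1), (31, 1), (32, 1), (33, 1), (34, 1), (39, 1), (40, 1), (41, 1), (51, 1), (52, 1), (53, 1), (58, 1), (59, 1), (63, 1), (69, 1), (71, 1), (75, 1), (76, 1), (85, 1), (90, 1), (91, 1), (102, 1), (114, 1), (115, 1), (121, 1), (122, 1), (125, 1), (127, 1), (129, 1), (130, 1), (142, 1), (146, 1), (149, 1), (150, 1), (173, 1), (195, 1), (199, 1), (212, 1), (213, 1), (214, 1), (227, 1), (230, 1), (232, 1), (237, 1), (238, 1), (239, 1), (257, 1), (258, 1), (262, 1), (263, 1), (264, 1), (268, 1), (275, 1), (280, 1), (300, 1), (301, 1), (302, 1), (321, 1), (326, 1), (328, 1), (335, 1), (362, 1), (367, 1), (370, 1), (375, 1), (378, 1), (387, 1), (389, 1), (395, 1), (398, 1), (399, 1), (406, 1), (409, 1), (422, 1), (438, 1), (531, 1), (532, 1), (538, 1), (542, 1), (543, 1), (568, 1), (578, 1), (615, 1), (623, 1), (624, 1), (628, 1), (629, 1), (632,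 1), (642, 1), (699, 1), (802, 1), (803, 1), (840, 1), (904, 1), (910, 1), (911, 1), (912, 1), (916, 1), (1010, 1), (1098, 1), (1107, 1), (1164, 1), (1187, 1), (1188, 1), (1371, 1), (1376, 1), (1377, 1), (1425, 1), (1432, 1), (1451, 1), (1595, 1), (1605, 1), (1606, 1)], [(3, 1), (5, 1), (6, 1), (9, 1), (10, 1), (11, 1), (13, 1), (14, 1), (16, 1), (18, 1), (27, 1), (28, 1), (31, 1), (32, 1), (34, 1), (35, 1), (41, 1), (48, 1), (52, 1), (54, 1), (60, 1), (64, 1), (69, 1), (70, 1), (71, 1), (72, 1), (76, 1), (82, 1), (92, 1), (93, 1), (94, 1), (100, 1), (108, 1), (109, 1), (111, 1), (116, 1), (119, 1), (120, 1), (121, 1), (122, 1), (124, 1), (127, 1), (135, 1), (139, 1), (143, 1), (146, 1), (158, 1), (165, 1), (185, 1), (195, 1), (199, 1), (210, 1), (214, 1), (225, 1), (239, 1), (242, 1), (246, 1), (251, 1), (263, 1), (271, 1), (272, 1), (277, 1), (285, 1), (286, 1), (287, 1), (288, 1), (300, 1), (301, 1), (302, 1), (305, 1), (319, 1), (325, 1), (327, 1), (350, 1), (377, 1),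 (401, 1), (414, 1), (421, 1), (434, 1), (443, 1), (510, 1), (511, 1), (595, 1), (596, 1), (617, 1), (624, 1), (629, 1), (631, 1), (633, 1), (640, 1), (641, 1), (702, 1), (742, 1), (779, 1), (783, 1), (789, 1), (802, 1), (821, 1), (859, 1), (860, 1), (888, 1), (903, 1), (943, 1), (944, 1), (969, 1), (1010, 1), (1100, 1), (1101, 1), (1377, 1), (1423, 1), (1477, 1), (1683, 1)], [(1, 1), (2, 1), (4, 1), (5, 1), (9, 1), (10, 1), (11, 1), (13, 1), (16, 1), (21, 1), (24, 1), (27, 1), (28, 1), (31, 1), (32, 1), (33, 1), (34, 1), (37, 1), (40, 1), (41, 1), (48, 1), (52, 1), (58, 1), (69, 1), (85, 1), (90, 1), (91, 1), (92, 1), (93, 1), (95, 1), (99, 1), (101, 1), (112, 1), (115, 1), (120, 1), (121, 1), (122, 1), (127, 1), (129, 1), (130, 1), (134, 1), (139, 1), (142, 1), (145, 1), (158, 1), (166, 1), (173, 1), (185, 1), (199, 1), (232, 1), (238, 1), (239, 1), (243, 1), (252, 1), (257, 1), (262, 1), (263, 1), (265, 1), (269, 1), (277, 1), (278, 1), (284, 1), (285, 1), (286, 1), (302,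 1), (306, 1), (320, 1), (377, 1), (386, 1), (389, 1), (406, 1), (408, 1), (410, 1), (424, 1), (444, 1), (506, 1), (516, 1), (542, 1), (545, 1), (553, 1), (561, 1), (624, 1), (629, 1), (630, 1), (861, 1), (901, 1), (1255, 1), (1433, 1), (1540, 1)], [(2, 1), (3, 1), (4, 1), (5, 1), (6, 1), (12, 1), (16, 1), (18, 1), (19, 1), (24, 1), (25, 1), (27, 1), (28, 1), (31, 1), (32, 1), (36, 1), (39, 1), (46, 1), (47, 1), (48, 1), (51, 1), (53, 1), (56, 1), (57, 1), (61, 1), (76, 1), (77, 1)], [(3, 1), (4, 1), (5, 1), (6, 1), (20, 1)], [], [], [], [], [], [], [], [], [], [], [(9, 1), (54, 1), (75, 1), (136, 1), (244, 1), (328, 1), (538, 1)], [(5, 1), (9, 1), (29, 1), (54, 1), (62, 1), (119, 1), (185, 1), (644, 1), (773, 1), (842, 1)], [(5, 1), (29, 1), (60, 1), (75, 1), (100, 1), (119, 1), (136, 1), (175, 1), (243, 1)], [], [], [], [], [], [], [], [], [], [], [], [], [], [], [], [], [], [], [], [], [], [], [], [], [], [], [], [], [], [], [], [], [], [], [], [], [], [], [], [], [], [],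 [], [], [], [], [], [], [], [], [], [], [], [], [], [], [], [], [], [], [], [], [], [], [], [], [], [], [], [], [], [], [], [], [], [], [], [], [], [], [], [], [], [], [], [], []]
def cyc14 : List (List (ℕ × ℕ)) := [[], [], [], [], [], [], [], [], [], [], [], [], [], [], [(0, 1), (17, 1)], [], [], [], [(0, 1)], [], [], [], [], [], [], [], [], [], [], [], [], [], [], [], [], [], [], [], [], [], [], [], [], [], [], [], [], [], [], [], [], [], [], [], [], [], [], [], [], [], [], [], [], [], [], [], [], [], [], [], [], [], [], [], [], [], [], [], [], [], [], [], [], [], [], [], [], [], [], [], [], [], [], [], [], [], [], [], [], [], [], [], [], [], []]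
def cyc18 : List (List (ℕ × ℕ)) := [[], [], [], [], [], [], [(0, 1), (5, 1)], [], [], [], [], [], [], [], [], [], [], [], [], [], [], [], [], [], [], [], [], [], [], [], [(0, 1)], [], [], [], [], [], [], [], [], [], [], [], [], [], [], [], [], [], [], [], [], [], [], [], [], [], [], [], [], [], [], [], [], [], [], [], [], [], [], [], [], [], [], [], [], [], [], [], [], [], [], [], [], [], [], [], [], [], [], [], [], [], [], [], [], [], [], [], [], [], [], [], [], [], []]
def cyc22 : List (List (ℕ × ℕ)) := [[], [], [], [], [], [], [(0, 1), (13, 1)], [], [], [], [], [], [], [], [], [], [], [], [], [], [], [], [], [], [], [], [], [], [], [], [], [], [], [], [(0, 1)], [], [], [], [], [], [], [], [], [], [], [], [], [], [], [], [], [], [], [], [], [], [], [], [], [], [], [], [], [], [], [], [], [], [], [], [], [], [], [], [], [], [], [], [], [], [], [], [], [], [], [], [], [], [], [], [], [], [], [], [], [], [], [], [], [], [], [], [], [], []]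
def cyc25 : List (List (ℕ × ℕ)) := [[], [], [], [], [], [], [], [], [], [], [], [], [], [], [], [(0, 1), (3, 1), (42, 1), (92, 1)], [], [], [], [], [(0, 1), (22, 1), (42, 1)], [(1, 1), (3, 1), (92, 1)], [], [], [], [], [], [], [], [], [], [], [], [], [], [], [], [(1, 1), (2, 1)], [], [], [], [], [], [], [], [], [], [], [], [], [], [], [], [], [], [], [], [], [], [], [], [], [], [], [], [], [], [], [], [], [], [], [], [], [], [], [], [], [], [], [], [], [], [], [], [], [], [], [], [], [], [], [], [], [], [], [], [], [], [], [], [], [], [], []]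
def cyc40 : List (List (ℕ × ℕ)) := [[], [], [], [], [], [], [], [], [], [], [], [], [], [], [], [], [], [], [], [], [], [], [], [], [], [], [], [], [], [], [], [], [], [], [], [], [], [], [], [], [], [], [], [], [], [], [(3, 1)], [], [], [], [], [], [], [(0, 1)], [], [], [], [], [], [], [], [], [], [], [], [], [], [], [], [], [], [], [], [], [], [], [], [], [], [], [], [], [], [], [], [], [], [], [], [], [], [], [], [], [], [], [], [], [], [], [], [], [], [], []]
def cyc43 : List (List (ℕ × ℕ)) := [[], [], [], [], [], [], [], [], [], [], [], [], [], [], [], [(54, 1), (75, 1), (82, 1), (107, 1), (136, 1), (298, 1), (799, 1), (922, 1)], [], [], [], [], [(19, 1), (75, 1), (103, 1), (512, 1)], [(15, 1), (39, 1), (82, 1), (103, 1), (136, 1), (512, 1), (799, 1), (1466, 1)], [(15, 1), (512, 1)], [], [(82, 1), (922, 1), (1466, 1)], [], [], [], [], [], [], [], [], [], [], [], [(19, 1), (54, 1), (75, 1), (107, 1), (512, 1)], [(15, 1), (82, 1)], [(15, 1), (155, 1)], [], [(19, 1), (54,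 1), (75, 1)], [], [], [], [], [(15, 1), (39, 1), (75, 1), (82, 1), (103, 1), (298, 1), (512, 1)], [(15, 1), (281, 1)], [], [(19, 1), (33, 1), (39, 1), (75, 1)], [], [], [], [], [], [], [], [(33, 1), (39, 1), (54, 1)], [], [], [], [], [], [], [], [], [], [], [], [], [], [], [], [], [], [], [], [], [], [], [], [], [], [], [], [], [], [], [], [], [], [], [], [], [], [], [], [], [], [], [], [], [], [], [], []]
def cyc45 : List (List (ℕ × ℕ)) := [[], [], [], [], [], [], [], [], [], [], [], [], [], [], [], [(1, 1), (24, 1), (221, 1), (1203, 1)], [], [], [], [], [(0, 1), (31, 1), (131, 1)], [], [(0, 1), (24, 1), (31, 1), (73, 1), (1203, 1)], [], [], [], [(1, 1), (5, 1), (221, 1), (259, 1)], [], [], [], [], [], [], [], [], [], [(0, 1), (5, 1), (13, 1), (73, 1), (131, 1), (320, 1)], [], [(0, 1), (31, 1), (73, 1)], [], [], [], [(1, 1), (5, 1), (259, 1)], [], [], [], [], [], [], [], [], [], [], [], [], [], [], [], [(1, 1), (5, 1)], [], [], [], [], [], [], [], [], [], [], [], [], [],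 [], [], [], [], [], [], [], [], [], [], [], [], [], [], [], [], [], [], [], [], [], [], [], [], [], [], [], [], [], [], [], [], []]
def cyc47 : List (List (ℕ × ℕ)) := [[], [], [], [], [], [], [], [], [], [], [], [], [], [], [], [], [], [], [], [], [(0, 1)], [], [], [], [], [], [], [], [], [], [], [], [], [], [], [], [], [], [], [(1, 1)], [], [], [], [], [], [], [], [], [], [], [], [], [], [], [], [], [], [], [], [], [(0, 1)], [], [], [], [], [], [], [], [], [], [], [], [], [], [], [], [], [], [], [], [], [], [], [], [], [], [], [], [], [], [], [], [], [], [], [], [], [], [], [], [], [], [], [], []]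
def cyc51 : List (List (ℕ × ℕ)) := [[], [], [], [], [], [], [], [], [], [], [], [], [], [], [], [(1, 1), (18, 1), (26, 1), (82, 1)], [], [], [], [], [(0, 1), (9, 1), (18, 1), (103, 1)], [], [], [(0, 1), (26, 1), (62, 1), (103, 1)], [(1, 1), (7, 1), (100, 1)], [], [], [], [], [], [], [], [], [], [], [], [(0, 1), (7, 1), (9, 1), (19, 1), (82, 1), (88, 1)], [], [], [(0, 1), (18, 1), (62, 1)], [(1, 1), (7, 1), (19, 1)], [], [], [], [], [], [], [], [], [], [], [], [], [], [], [], [], [], [], [], [], [], [], [], [(1, 1), (7, 1)], [], [], [], [], [], [], [], [], [], [], [], [], [], [], [], [], [], [], [], [], [], [], [], [], [], [], [], [], [], [], [], [], [], [], [], [], [], [], [], []]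
def cyc58 : List (List (ℕ × ℕ)) := [[], [], [], [], [], [], [], [], [], [], [], [], [], [], [], [(1, 1), (7, 1), (9, 1), (18, 1), (26, 1), (94, 1), (100, 1), (153, 1), (155, 1), (285, 1)], [], [], [], [], [(0, 1), (9, 1), (18, 1), (88, 1), (94, 1), (107, 1), (153, 1), (155, 1), (285, 1), (336, 1)], [(88, 1), (94, 1), (100, 1), (153, 1), (336, 1)], [], [(9, 1), (19, 1), (26, 1), (62, 1), (94, 1), (100, 1)], [(0, 1), (1, 1), (82, 1), (88, 1), (100, 1), (103, 1), (107, 1)], [], [], [], [], [], [], [], [], [], [], [], [(0, 1), (7, 1), (9, 1), (19, 1), (88, 1), (107, 1), (285, 1)], [(88, 1), (94, 1)], [], [(0, 1), (15, 1), (18, 1), (19, 1), (33, 1)], [(1, 1), (7, 1), (15, 1), (33, 1), (62, 1)], [], [], [], [], [(82, 1), (88, 1), (94, 1)], [], [(33, 1), (62, 1)], [(33, 1), (62, 1)], [], [], [], [], [], [], [], [], [], [], [], [], [], [], [(0, 1), (9, 1), (15, 1)], [(0, 1), (1, 1)], [], [], [], [], [], [], [], [(0, 1), (7, 1), (15, 1)], [], [], [], [], [], [], [], [], [], [], [],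 [], [], [], [], [], [], [], [], [], [], [], [], [], [], [], [], [], [], [], [], []]
def cyc65 : List (List (ℕ × ℕ)) := [[], [], [], [], [], [], [], [], [], [], [], [], [], [], [], [], [], [], [], [], [(0, 1)], [], [], [], [], [], [], [], [], [], [], [], [], [], [], [], [], [], [], [], [], [(1, 1)], [], [], [], [], [], [], [], [], [], [], [], [], [], [], [], [], [], [], [], [], [], [], [], [], [], [], [], [], [], [], [], [], [], [], [(0, 1)], [], [], [], [], [], [], [], [], [], [], [], [], [], [], [], [], [], [], [], [], [], [], [], [], [], [], [], []]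
def cyc67 : List (List (ℕ × ℕ)) := [[], [], [], [], [], [], [], [], [], [], [], [], [], [], [], [(1, 1), (24, 1), (71, 1)], [], [], [], [], [(0, 1), (29, 1), (219, 1)], [], [(24, 1)], [], [], [(219, 1)], [], [], [], [], [], [], [], [], [], [], [(0, 1), (5, 1), (11, 1), (71, 1)], [], [(0, 1), (29, 1)], [], [], [(1, 1), (5, 1)], [], [], [], [], [], [], [], [], [], [], [], [], [], [], [], [(1, 1)], [], [], [], [], [], [], [], [], [], [], [], [], [], [], [], [], [], [], [], [], [(0, 1)], [], [], [], [], [], [], [], [], [], [], [], [], [], [], [], [], [], [], [], [], [], [], [], [], [], []]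
def cyc76 : List (List (ℕ × ℕ)) := [[], [], [], [], [], [], [], [], [], [], [], [], [], [], [], [(22, 1), (26, 1), (42, 1), (52, 1), (92, 1)], [], [], [], [], [(7, 1), (22, 1), (26, 1), (31, 1), (52, 1)], [(7, 1), (13, 1), (31, 1), (52, 1), (92, 1)], [], [(31, 1), (46, 1)], [], [], [(42, 1), (52, 1)], [], [], [], [], [], [], [], [], [], [], [(7, 1), (13, 1)], [], [(1, 1), (31, 1), (42, 1)], [], [], [(1, 1), (26, 1), (42, 1)], [], [], [], [], [(0, 1), (1, 1), (13, 1)], [], [], [(0, 1), (1, 1), (7, 1)], [], [], [], [], [], [], [], [], [], [], [], [], [], [], [], [(0, 1)], [], [], [], [], [], [], [], [], [], [], [], [], [], [], [], [], [], [], [], [], [(0, 1)], [], [], [], [], [], [], [], [], [], [], [], [], [], [], [], [], []]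
def cyc78 : List (List (ℕ × ℕ)) := [[], [], [], [], [], [], [], [], [], [], [], [], [], [], [], [(40, 1), (54, 1), (84, 1), (94, 1), (136, 1), (144, 1), (145, 1), (151, 1), (153, 1), (158, 1), (167, 1), (173, 1), (185, 1), (194, 1), (198, 1), (219, 1), (285, 1), (290, 1), (296, 1), (307, 1), (311, 1), (336, 1), (349, 1), (354, 1), (362, 1), (370, 1), (377, 1), (394, 1), (411, 1), (430, 1), (445, 1), (452, 1), (466, 1), (497, 1), (504, 1), (517, 1), (520, 1), (553, 1), (555, 1), (559, 1), (564, 1), (593, 1), (622, 1), (661, 1), (662, 1), (669, 1), (675, 1), (680, 1), (707, 1), (715, 1), (721, 1), (725, 1), (799, 1), (801, 1), (805, 1), (824, 1), (828, 1), (861, 1), (866, 1), (868, 1), (874, 1), (891, 1), (893, 1), (897, 1), (918, 1), (922, 1), (953, 1), (962, 1), (1003, 1), (1013, 1), (1017, 1), (1019, 1), (1036, 1), (1038, 1), (1050, 1), (1068, 1), (1077, 1), (1112, 1), (1115, 1), (1119, 1), (1135, 1), (1154, 1), (1155, 1), (1161, 1), (1166, 1), (1181, 1), (1191, 1), (1203,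 1), (1215, 1), (1265, 1), (1281, 1), (1283, 1), (1287, 1), (1293, 1), (1313, 1), (1315, 1), (1367, 1), (1378, 1), (1393, 1), (1419, 1), (1435, 1), (1439, 1), (1449, 1), (1451, 1), (1475, 1), (1505, 1), (1511, 1), (1540, 1), (1579, 1), (1587, 1), (1589, 1), (1622, 1), (1653, 1), (1655, 1), (1675, 1), (1685, 1), (1688, 1), (1705, 1), (1721, 1), (1732, 1), (1734, 1), (1739, 1), (1741, 1), (1756, 1), (1777, 1), (1785, 1), (1790, 1), (1793, 1), (1794, 1), (1825, 1), (1834, 1), (1842, 1), (1868, 1), (1871, 1), (1873, 1), (1910, 1), (1938, 1), (1942, 1), (1952, 1), (1968, 1), (1978, 1), (1986, 1), (2000, 1), (2013, 1), (2027, 1), (2039, 1), (2048, 1), (2055, 1), (2086, 1), (2088, 1), (2096, 1), (2150, 1), (2156, 1)], [], [], [], [], [(18, 1), (20, 1), (31, 1), (39, 1), (63, 1), (69, 1), (71, 1), (75, 1), (82, 1), (88, 1), (94, 1), (112, 1), (113, 1), (129, 1), (136, 1), (137, 1), (151, 1), (153, 1), (159, 1), (179, 1), (181, 1), (194, 1), (198, 1), (201, 1), (235, 1), (249, 1),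 (256, 1), (265, 1), (275, 1), (281, 1), (285, 1), (300, 1), (319, 1), (338, 1), (349, 1), (354, 1), (364, 1), (370, 1), (389, 1), (418, 1), (452, 1), (458, 1), (466, 1), (497, 1), (517, 1), (522, 1), (561, 1), (564, 1), (567, 1), (571, 1), (584, 1), (622, 1), (658, 1), (665, 1), (675, 1), (688, 1), (690, 1), (711, 1), (715, 1), (721, 1), (723, 1), (725, 1), (740, 1), (761, 1), (797, 1), (799, 1), (860, 1), (861, 1), (866, 1), (889, 1), (891, 1), (910, 1), (917, 1), (956, 1), (958, 1), (960, 1), (1001, 1), (1007, 1), (1013, 1), (1027, 1), (1038, 1), (1050, 1), (1054, 1), (1112, 1), (1144, 1), (1177, 1), (1193, 1), (1247, 1), (1251, 1), (1279, 1), (1281, 1), (1367, 1), (1369, 1), (1376, 1), (1393, 1), (1407, 1), (1429, 1), (1439, 1), (1441, 1), (1443, 1), (1447, 1), (1465, 1), (1475, 1), (1477, 1), (1505, 1), (1516, 1), (1542, 1), (1579, 1), (1603, 1), (1651, 1), (1680, 1), (1686, 1), (1688, 1), (1708, 1), (1717, 1), (1734, 1), (1741, 1), (1777, 1), (1793, 1), (1834, 1), (1840,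 1), (1842, 1), (1860, 1), (1883, 1), (1890, 1), (1902, 1), (1905, 1), (1939, 1), (2041, 1), (2084, 1), (2096, 1), (2116, 1), (2140, 1), (2143, 1), (2150, 1), (2156, 1), (2158, 1)], [(19, 1), (20, 1), (54, 1), (63, 1), (84, 1), (90, 1), (94, 1), (100, 1), (112, 1), (113, 1), (117, 1), (136, 1), (137, 1), (144, 1), (145, 1), (157, 1), (158, 1), (179, 1), (185, 1), (194, 1), (196, 1), (198, 1), (201, 1), (214, 1), (247, 1), (249, 1), (256, 1), (264, 1), (276, 1), (294, 1), (296, 1), (298, 1), (305, 1), (317, 1), (338, 1), (363, 1), (364, 1), (369, 1), (377, 1), (381, 1), (395, 1), (418, 1), (423, 1), (445, 1), (446, 1), (452, 1), (458, 1), (460, 1), (461, 1), (470, 1), (512, 1), (553, 1), (567, 1), (571, 1), (573, 1), (584, 1), (594, 1), (613, 1), (652, 1), (662, 1), (675, 1), (711, 1), (727, 1), (757, 1), (779, 1), (801, 1), (828, 1), (917, 1), (954, 1), (958, 1), (980, 1), (1019, 1), (1038, 1), (1051, 1), (1064, 1), (1068, 1), (1113, 1), (1115, 1), (1154, 1), (1155, 1), (1161,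 1), (1166, 1), (1179, 1), (1181, 1), (1191, 1), (1203, 1), (1251, 1), (1253, 1), (1259, 1), (1261, 1), (1279, 1), (1315, 1), (1419, 1), (1423, 1), (1435, 1), (1451, 1), (1466, 1), (1472, 1), (1475, 1), (1516, 1), (1553, 1), (1561, 1), (1568, 1), (1574, 1), (1577, 1), (1579, 1), (1585, 1), (1589, 1), (1590, 1), (1600, 1), (1603, 1), (1605, 1), (1708, 1), (1721, 1), (1724, 1), (1740, 1), (1741, 1), (1761, 1), (1763, 1), (1790, 1), (1825, 1), (1842, 1), (1845, 1), (1878, 1), (1890, 1), (1910, 1), (1938, 1), (1978, 1), (2000, 1), (2013, 1), (2022, 1), (2039, 1), (2042, 1), (2088, 1)], [(11, 1), (15, 1), (20, 1), (39, 1), (40, 1), (50, 1), (75, 1), (90, 1), (94, 1), (101, 1), (103, 1), (107, 1), (115, 1), (136, 1), (149, 1), (155, 1), (169, 1), (179, 1), (181, 1), (185, 1), (194, 1), (196, 1), (201, 1), (214, 1), (265, 1), (274, 1), (317, 1), (336, 1), (364, 1), (369, 1), (377, 1), (395, 1), (416, 1), (430, 1), (446, 1), (458, 1), (461, 1), (470, 1), (491, 1), (504, 1), (508,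 1), (519, 1), (557, 1), (569, 1), (573, 1), (575, 1), (588, 1), (593, 1), (652, 1), (661, 1), (662, 1), (669, 1), (685, 1), (690, 1), (723, 1), (725, 1), (759, 1), (794, 1), (797, 1), (801, 1), (868, 1), (871, 1), (891, 1), (938, 1), (943, 1), (958, 1), (980, 1), (1001, 1), (1013, 1), (1036, 1), (1049, 1), (1052, 1), (1077, 1), (1115, 1), (1135, 1), (1181, 1), (1202, 1), (1203, 1), (1215, 1), (1261, 1), (1281, 1), (1367, 1), (1378, 1), (1393, 1), (1418, 1), (1427, 1), (1429, 1), (1449, 1), (1451, 1), (1523, 1), (1542, 1), (1583, 1), (1589, 1), (1610, 1), (1675, 1), (1734, 1), (1739, 1), (1756, 1), (1759, 1), (1761, 1), (1777, 1), (1789, 1), (1834, 1), (1842, 1), (1890, 1), (1902, 1), (1905, 1), (1968, 1), (2006, 1), (2010, 1), (2013, 1), (2018, 1), (2046, 1), (2055, 1), (2088, 1), (2114, 1), (2116, 1), (2143, 1)], [(9, 1), (11, 1), (15, 1), (50, 1), (54, 1), (62, 1), (64, 1), (73, 1), (84, 1), (94, 1), (100, 1), (101, 1), (105, 1), (113, 1), (117, 1), (157, 1), (159, 1),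 (167, 1), (185, 1), (194, 1), (201, 1), (213, 1), (245, 1), (247, 1), (256, 1), (265, 1), (300, 1), (321, 1), (363, 1), (370, 1), (416, 1), (448, 1), (450, 1), (452, 1), (466, 1), (475, 1), (520, 1), (571, 1), (573, 1), (584, 1), (665, 1), (678, 1), (761, 1), (860, 1), (880, 1), (922, 1), (947, 1), (953, 1), (1011, 1), (1013, 1), (1023, 1), (1040, 1), (1044, 1), (1070, 1), (1122, 1), (1181, 1), (1191, 1), (1265, 1), (1279, 1), (1293, 1), (1376, 1), (1419, 1), (1423, 1), (1445, 1), (1451, 1), (1511, 1), (1523, 1), (1533, 1), (1540, 1), (1589, 1), (1603, 1), (1622, 1), (1628, 1), (1694, 1), (1705, 1), (1734, 1), (1741, 1), (1790, 1), (1798, 1), (1825, 1), (1869, 1), (1952, 1), (1986, 1), (2000, 1), (2006, 1), (2022, 1), (2027, 1), (2086, 1), (2088, 1)], [(1, 1), (11, 1), (29, 1), (64, 1), (71, 1), (75, 1), (82, 1), (84, 1), (115, 1), (144, 1), (146, 1), (157, 1), (214, 1), (264, 1), (520, 1), (593, 1), (630, 1), (688, 1), (922, 1), (956, 1), (1001, 1), (1023, 1), (1167, 1),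 (1281, 1), (1315, 1), (1391, 1), (1399, 1), (1533, 1), (1656, 1), (1680, 1), (1690, 1), (1734, 1), (1756, 1), (1825, 1), (1978, 1)], [(0, 1), (1, 1), (105, 1), (151, 1), (247, 1), (416, 1), (799, 1), (928, 1), (1741, 1)], [(137, 1), (153, 1), (167, 1), (194, 1), (245, 1), (296, 1), (354, 1), (559, 1), (1119, 1), (1161, 1), (1253, 1), (1466, 1), (1564, 1), (1646, 1), (1834, 1)], [], [], [], [], [], [], [], [], [], [(11, 1), (13, 1), (20, 1), (39, 1), (63, 1), (64, 1), (69, 1), (71, 1), (75, 1), (84, 1), (105, 1), (112, 1), (113, 1), (119, 1), (129, 1), (136, 1), (137, 1), (158, 1), (171, 1), (181, 1), (194, 1), (198, 1), (201, 1), (256, 1), (274, 1), (275, 1), (285, 1), (300, 1), (315, 1), (317, 1), (319, 1), (337, 1), (338, 1), (354, 1), (362, 1), (364, 1), (369, 1), (389, 1), (423, 1), (430, 1), (445, 1), (448, 1), (450, 1), (460, 1), (461, 1), (464, 1), (497, 1), (512, 1), (517, 1), (519, 1), (561, 1), (562, 1), (567, 1), (569, 1), (571, 1), (584, 1), (593, 1), (594, 1),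 (606, 1), (650, 1), (654, 1), (656, 1), (658, 1), (667, 1), (675, 1), (685, 1), (690, 1), (715, 1), (723, 1), (725, 1), (740, 1), (759, 1), (761, 1), (794, 1), (797, 1), (809, 1), (825, 1), (828, 1), (843, 1), (849, 1), (860, 1), (861, 1), (866, 1), (871, 1), (889, 1), (893, 1), (958, 1), (960, 1), (1001, 1), (1007, 1), (1037, 1), (1038, 1), (1040, 1), (1050, 1), (1052, 1), (1064, 1), (1070, 1), (1144, 1), (1155, 1), (1167, 1), (1215, 1), (1247, 1), (1279, 1), (1367, 1), (1369, 1), (1393, 1), (1399, 1), (1405, 1), (1429, 1), (1435, 1), (1439, 1), (1443, 1), (1472, 1), (1475, 1), (1511, 1), (1524, 1), (1533, 1), (1579, 1), (1589, 1), (1590, 1), (1595, 1), (1685, 1), (1686, 1), (1694, 1), (1708, 1), (1711, 1), (1740, 1)], [(19, 1), (82, 1), (90, 1), (94, 1), (112, 1), (117, 1), (137, 1), (157, 1), (171, 1), (185, 1), (196, 1), (214, 1), (247, 1), (256, 1), (274, 1), (276, 1), (305, 1), (317, 1), (338, 1), (369, 1), (370, 1), (377, 1), (395, 1), (416, 1), (443, 1), (445, 1),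 (446, 1), (450, 1), (458, 1), (460, 1), (461, 1), (512, 1), (553, 1), (561, 1), (573, 1), (594, 1), (622, 1), (662, 1), (675, 1), (711, 1), (745, 1), (779, 1), (799, 1), (801, 1), (805, 1), (824, 1), (825, 1), (910, 1), (954, 1), (960, 1), (980, 1), (1037, 1), (1202, 1), (1399, 1), (1419, 1), (1437, 1), (1568, 1), (1577, 1), (1587, 1), (1589, 1)], [(9, 1), (11, 1), (15, 1), (40, 1), (63, 1), (64, 1), (73, 1), (84, 1), (102, 1), (103, 1), (105, 1), (113, 1), (117, 1), (129, 1), (151, 1), (157, 1), (158, 1), (169, 1), (181, 1), (196, 1), (214, 1), (245, 1), (247, 1), (274, 1), (275, 1), (285, 1), (296, 1), (305, 1), (315, 1), (364, 1), (430, 1), (443, 1), (446, 1), (470, 1), (504, 1), (517, 1), (519, 1), (561, 1), (569, 1), (575, 1), (584, 1), (593, 1), (613, 1), (622, 1), (645, 1), (650, 1), (652, 1), (656, 1), (662, 1), (680, 1), (685, 1), (688, 1), (690, 1), (723, 1), (727, 1), (794, 1), (797, 1), (801, 1), (809, 1), (861, 1), (871, 1), (907, 1), (938, 1), (943, 1), (958,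 1), (1001, 1), (1013, 1), (1050, 1), (1136, 1), (1166, 1), (1181, 1), (1193, 1), (1202, 1), (1215, 1), (1247, 1), (1367, 1), (1429, 1), (1523, 1), (1610, 1), (1711, 1), (1717, 1), (1739, 1), (1741, 1), (2046, 1), (2084, 1)], [(15, 1), (18, 1), (19, 1), (20, 1), (29, 1), (33, 1), (39, 1), (54, 1), (73, 1), (102, 1), (159, 1), (167, 1), (171, 1), (185, 1), (194, 1), (198, 1), (201, 1), (245, 1), (265, 1), (274, 1), (292, 1), (319, 1), (320, 1), (321, 1), (370, 1), (377, 1), (379, 1), (452, 1), (520, 1), (561, 1), (588, 1), (630, 1), (654, 1), (658, 1), (707, 1), (725, 1), (745, 1), (761, 1), (814, 1), (842, 1), (860, 1), (866, 1), (889, 1), (922, 1), (947, 1), (1011, 1), (1023, 1), (1070, 1), (1122, 1), (1144, 1), (1181, 1), (1279, 1), (1323, 1), (1418, 1), (1523, 1), (1568, 1), (1577, 1), (1592, 1), (1603, 1), (1658, 1), (1790, 1), (1868, 1)], [(1, 1), (71, 1), (75, 1), (105, 1), (151, 1), (159, 1), (265, 1), (292, 1), (362, 1), (422, 1), (446, 1), (450, 1), (458, 1), (508,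 1), (553, 1), (606, 1), (630, 1), (667, 1), (717, 1), (814, 1), (842, 1), (954, 1), (1113, 1), (1315, 1), (1533, 1), (1680, 1), (1756, 1)], [(9, 1), (18, 1), (31, 1), (69, 1), (82, 1), (107, 1), (395, 1), (497, 1), (740, 1), (874, 1), (1516, 1)], [(1, 1), (9, 1), (40, 1), (171, 1), (173, 1), (290, 1), (296, 1), (423, 1), (567, 1), (584, 1), (1466, 1), (1564, 1), (1595, 1), (1785, 1)], [], [], [(11, 1), (15, 1), (19, 1), (20, 1), (40, 1), (75, 1), (84, 1), (88, 1), (94, 1), (103, 1), (112, 1), (113, 1), (115, 1), (117, 1), (119, 1), (137, 1), (145, 1), (157, 1), (158, 1), (185, 1), (194, 1), (196, 1), (201, 1), (214, 1), (247, 1), (256, 1), (264, 1), (276, 1), (296, 1), (298, 1), (300, 1), (313, 1), (317, 1), (337, 1), (338, 1), (363, 1), (369, 1), (377, 1), (394, 1), (395, 1), (416, 1), (423, 1), (430, 1), (445, 1), (446, 1), (456, 1), (461, 1), (466, 1), (475, 1), (522, 1), (555, 1), (557, 1), (567, 1), (571, 1), (594, 1), (661, 1), (667, 1), (675, 1), (685, 1), (711, 1),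 (715, 1), (723, 1), (757, 1), (828, 1), (855, 1), (891, 1), (897, 1), (918, 1), (954, 1), (958, 1), (1001, 1), (1050, 1), (1052, 1), (1064, 1), (1135, 1), (1251, 1), (1253, 1), (1279, 1), (1315, 1), (1393, 1), (1399, 1), (1427, 1), (1465, 1), (1568, 1), (1590, 1), (1592, 1)], [(15, 1), (20, 1), (39, 1), (63, 1), (90, 1), (94, 1), (101, 1), (115, 1), (155, 1), (169, 1), (181, 1), (194, 1), (196, 1), (201, 1), (214, 1), (265, 1), (274, 1), (317, 1), (349, 1), (369, 1), (370, 1), (416, 1), (418, 1), (430, 1), (446, 1), (448, 1), (452, 1), (461, 1), (491, 1), (504, 1), (557, 1), (571, 1), (575, 1), (593, 1), (594, 1), (661, 1), (715, 1), (725, 1), (779, 1), (794, 1), (868, 1), (871, 1), (980, 1), (1154, 1), (1202, 1), (1261, 1)], [(15, 1), (19, 1), (33, 1), (39, 1), (40, 1), (50, 1), (62, 1), (64, 1), (84, 1), (101, 1), (102, 1), (113, 1), (117, 1), (171, 1), (179, 1), (198, 1), (213, 1), (214, 1), (247, 1), (256, 1), (264, 1), (274, 1), (292, 1), (320, 1), (363, 1), (377, 1),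 (416, 1), (450, 1), (466, 1), (475, 1), (508, 1), (512, 1), (630, 1), (665, 1), (675, 1), (678, 1), (707, 1), (745, 1), (842, 1), (866, 1), (953, 1), (1001, 1), (1064, 1), (1144, 1), (1293, 1), (1323, 1), (1418, 1), (1419, 1), (1511, 1), (1568, 1), (1579, 1), (1592, 1)], [(15, 1), (31, 1), (33, 1), (63, 1), (102, 1), (185, 1), (213, 1), (264, 1), (275, 1), (292, 1), (311, 1), (362, 1), (394, 1), (450, 1), (456, 1), (458, 1), (508, 1), (519, 1), (622, 1), (667, 1), (719, 1), (814, 1), (842, 1), (954, 1), (1367, 1), (1399, 1)], [(31, 1), (82, 1), (112, 1), (247, 1), (416, 1), (740, 1), (799, 1), (874, 1)], [(11, 1), (15, 1), (63, 1), (137, 1), (173, 1), (245, 1), (292, 1), (423, 1), (452, 1), (567, 1), (1161, 1), (1253, 1)], [], [], [], [(9, 1), (15, 1), (20, 1), (39, 1), (40, 1), (50, 1), (63, 1), (64, 1), (73, 1), (84, 1), (101, 1), (102, 1), (105, 1), (107, 1), (113, 1), (115, 1), (129, 1), (136, 1), (144, 1), (157, 1), (158, 1), (179, 1), (194, 1), (198, 1), (201, 1), (245,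 1), (274, 1), (275, 1), (300, 1), (315, 1), (317, 1), (319, 1), (369, 1), (377, 1), (395, 1), (416, 1), (443, 1), (452, 1), (461, 1), (491, 1), (497, 1), (557, 1), (622, 1), (661, 1), (801, 1)], [(9, 1), (11, 1), (15, 1), (50, 1), (54, 1), (64, 1), (73, 1), (84, 1), (101, 1), (105, 1), (113, 1), (117, 1), (157, 1), (158, 1), (159, 1), (167, 1), (201, 1), (213, 1), (247, 1), (256, 1), (265, 1), (300, 1), (321, 1), (363, 1), (452, 1), (475, 1)], [(11, 1), (15, 1), (29, 1), (33, 1), (63, 1), (64, 1), (84, 1), (102, 1), (105, 1), (115, 1), (151, 1), (157, 1), (159, 1), (185, 1), (213, 1), (275, 1), (300, 1), (311, 1), (315, 1), (394, 1), (422, 1), (446, 1), (622, 1)], [(18, 1), (107, 1), (221, 1), (395, 1), (497, 1)], [(136, 1), (137, 1), (167, 1), (245, 1)], [], [], [], [], [(9, 1), (11, 1), (15, 1), (20, 1), (40, 1), (157, 1)], [(1, 1), (64, 1), (71, 1), (75, 1), (84, 1), (146, 1), (157, 1), (264, 1)], [(1, 1), (9, 1), (69, 1), (112, 1), (221, 1)], [(9, 1), (39, 1), (167, 1),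 (171, 1), (290, 1)], [], [], [], [], [], [], [(0, 1), (1, 1)], [(1, 1), (39, 1), (40, 1), (63, 1)], [], [], [], [], [], [], [], [], [], [], [], [], [], [], [(0, 1)], [], [], [], [], [], [], [], [], [], [], [], [], [], [], []]
def cyc79 : List (List (ℕ × ℕ)) := [[], [], [], [], [], [], [], [], [], [], [], [], [], [], [], [(42, 1), (92, 1)], [], [], [], [], [(3, 1), (22, 1), (31, 1), (42, 1), (52, 1)], [(1, 1), (7, 1), (31, 1), (52, 1), (92, 1)], [], [(46, 1)], [], [], [], [], [], [], [], [], [], [], [], [], [(3, 1), (7, 1), (13, 1), (46, 1)], [(1, 1), (7, 1)], [], [(42, 1)], [], [], [(1, 1), (26, 1)], [], [], [(1, 1)], [], [(0, 1), (13, 1)], [], [], [(1, 1)], [], [], [], [], [], [], [], [], [], [], [], [], [(0, 1)], [], [], [(0, 1)], [], [], [], [], [], [], [], [], [], [], [], [], [], [], [], [], [], [], [], [], [], [], [], [(0, 1)], [], [], [], [], [], [], [], [], [], [], [], [], [], []]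
def cyc80 : List (List (ℕ × ℕ)) := [[], [], [], [], [], [], [], [], [], [], [], [], [], [], [], [], [], [], [], [], [(0, 1)], [], [], [], [], [], [], [], [], [], [], [], [], [], [], [], [], [], [], [], [], [], [], [(1, 1)], [], [], [], [], [], [], [], [], [], [], [], [], [], [], [], [], [], [], [], [], [], [], [], [], [], [], [], [], [], [], [], [], [], [], [], [], [], [], [], [], [], [], [], [], [], [], [], [], [(0, 1)], [], [], [], [], [], [], [], [], [], [], [], []]
def cyc83 : List (List (ℕ × ℕ)) := [[], [], [], [], [], [], [], [], [], [], [], [], [], [], [], [(1, 1)], [], [], [], [], [(0, 1), (33, 1), (153, 1)], [], [], [(26, 1)], [], [], [], [(153, 1)], [], [], [], [], [], [], [], [], [(0, 1), (7, 1), (15, 1), (94, 1)], [], [], [(0, 1), (33, 1)], [], [], [], [(1, 1), (7, 1)], [], [], [], [], [], [], [], [], [], [], [], [], [], [], [], [], [], [], [], [], [], [], [], [(1, 1)], [], [], [], [], [], [], [], [], [], [], [], [], [], [], [], [], [], [], [], [], [], [], [],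 [], [], [], [], [(0, 1)], [], [], [], [], [], [], [], [], []]
def cyc89 : List (List (ℕ × ℕ)) := [[(0, 1)], [], [], [], [], [], [], [], [], [], [], [], [], [], [], [(3, 1), (7, 1), (24, 1), (26, 1), (40, 1), (44, 1), (46, 1), (54, 1), (61, 1), (64, 1), (73, 1), (75, 1), (82, 1), (83, 1), (84, 1), (100, 1), (113, 1), (115, 1), (119, 1), (129, 1), (131, 1), (144, 1), (153, 1), (161, 1), (167, 1), (169, 1), (181, 1), (188, 1), (201, 1), (203, 1), (205, 1), (219, 1), (243, 1), (246, 1), (264, 1), (265, 1), (275, 1), (276, 1), (277, 1), (288, 1), (289, 1), (292, 1), (296, 1), (300, 1), (302, 1), (309, 1), (311, 1), (313, 1), (320, 1), (337, 1), (341, 1), (347, 1), (349, 1), (350, 1), (356, 1), (363, 1), (364, 1), (370, 1), (371, 1), (381, 1), (394, 1), (410, 1), (411, 1), (418, 1), (430, 1), (434, 1), (448, 1), (452, 1), (456, 1), (458, 1), (466, 1), (468, 1), (476, 1), (477, 1), (491, 1), (497, 1), (505, 1), (506, 1), (512, 1), (519, 1), (520, 1), (530, 1), (538, 1), (539, 1),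 (557, 1), (559, 1), (571, 1), (573, 1), (590, 1), (592, 1), (614, 1), (616, 1), (622, 1), (650, 1), (652, 1), (654, 1), (661, 1), (663, 1), (667, 1), (669, 1), (675, 1), (677, 1), (686, 1), (687, 1), (697, 1), (709, 1), (715, 1), (723, 1), (725, 1), (747, 1), (751, 1), (753, 1), (757, 1), (759, 1), (773, 1), (779, 1), (803, 1), (805, 1), (811, 1), (816, 1), (818, 1), (824, 1), (828, 1), (831, 1), (842, 1), (859, 1), (860, 1), (889, 1), (897, 1), (899, 1), (907, 1), (910, 1), (913, 1), (922, 1), (945, 1), (972, 1), (975, 1), (983, 1), (993, 1), (1009, 1), (1017, 1), (1027, 1), (1029, 1), (1042, 1), (1050, 1), (1077, 1), (1085, 1), (1096, 1), (1117, 1), (1119, 1), (1122, 1), (1143, 1), (1153, 1), (1155, 1), (1166, 1), (1167, 1), (1172, 1), (1176, 1), (1177, 1), (1189, 1), (1191, 1), (1199, 1), (1224, 1), (1235, 1), (1259, 1), (1264, 1), (1265, 1), (1276, 1), (1283, 1), (1288, 1), (1327, 1), (1328, 1), (1361, 1), (1371, 1), (1383, 1), (1393, 1), (1399, 1), (1402, 1), (1411,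 1), (1434, 1), (1449, 1), (1451, 1), (1453, 1), (1455, 1), (1477, 1), (1483, 1), (1485, 1), (1496, 1), (1503, 1), (1505, 1), (1512, 1), (1517, 1), (1534, 1), (1549, 1), (1559, 1), (1573, 1), (1577, 1), (1583, 1), (1589, 1), (1595, 1), (1622, 1), (1647, 1), (1650, 1), (1655, 1), (1656, 1), (1675, 1), (1686, 1), (1688, 1), (1701, 1), (1724, 1), (1732, 1), (1734, 1), (1739, 1), (1761, 1), (1793, 1), (1802, 1), (1816, 1), (1834, 1), (1868, 1), (1869, 1), (1873, 1), (1895, 1), (1905, 1), (1910, 1), (1918, 1), (1921, 1), (1936, 1), (1952, 1), (1958, 1), (1974, 1), (1986, 1), (1994, 1), (2006, 1), (2013, 1), (2022, 1), (2027, 1), (2034, 1), (2039, 1), (2041, 1), (2048, 1), (2053, 1), (2055, 1), (2065, 1), (2071, 1), (2088, 1), (2140, 1), (2143, 1), (2148, 1), (2154, 1)], [], [], [], [], [(0, 1), (3, 1), (7, 1), (19, 1), (20, 1), (31, 1), (44, 1), (52, 1), (60, 1), (61, 1), (64, 1), (69, 1), (71, 1), (73, 1), (90, 1), (94, 1), (112, 1), (114, 1), (116, 1), (129, 1), (136, 1), (145,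 1), (155, 1), (157, 1), (161, 1), (166, 1), (169, 1), (177, 1), (179, 1), (181, 1), (185, 1), (198, 1), (201, 1), (205, 1), (210, 1), (231, 1), (235, 1), (256, 1), (265, 1), (281, 1), (283, 1), (288, 1), (298, 1), (300, 1), (304, 1), (339, 1), (341, 1), (349, 1), (356, 1), (364, 1), (370, 1), (379, 1), (381, 1), (389, 1), (410, 1), (411, 1), (414, 1), (418, 1), (426, 1), (432, 1), (436, 1), (452, 1), (460, 1), (463, 1), (464, 1), (466, 1), (470, 1), (472, 1), (476, 1), (484, 1), (494, 1), (508, 1), (510, 1), (512, 1), (520, 1), (522, 1), (527, 1), (530, 1), (537, 1), (553, 1), (564, 1), (573, 1), (577, 1), (584, 1), (593, 1), (646, 1), (650, 1), (665, 1), (667, 1), (675, 1), (686, 1), (690, 1), (709, 1), (721, 1), (740, 1), (747, 1), (753, 1), (761, 1), (781, 1), (816, 1), (829, 1), (831, 1), (845, 1), (861, 1), (891, 1), (902, 1), (925, 1), (945, 1), (956, 1), (960, 1), (972, 1), (995, 1), (997, 1), (999, 1), (1001, 1), (1008, 1), (1011, 1), (1027, 1), (1035, 1), (1038,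 1), (1051, 1), (1054, 1), (1064, 1), (1070, 1), (1112, 1), (1119, 1), (1123, 1), (1127, 1), (1144, 1), (1146, 1), (1154, 1), (1166, 1), (1167, 1), (1174, 1), (1187, 1), (1194, 1), (1216, 1), (1247, 1), (1251, 1), (1261, 1), (1281, 1), (1291, 1), (1361, 1), (1376, 1), (1382, 1), (1397, 1), (1402, 1), (1407, 1), (1411, 1), (1451, 1), (1466, 1), (1485, 1), (1498, 1), (1555, 1), (1559, 1), (1573, 1), (1583, 1), (1589, 1), (1603, 1), (1622, 1), (1650, 1), (1655, 1), (1656, 1), (1665, 1), (1675, 1), (1682, 1), (1686, 1), (1690, 1), (1705, 1), (1706, 1), (1708, 1), (1715, 1), (1717, 1), (1724, 1), (1739, 1), (1747, 1), (1761, 1), (1781, 1), (1793, 1), (1816, 1), (1834, 1), (1860, 1), (1864, 1), (1871, 1), (1895, 1), (1918, 1), (1958, 1), (1960, 1), (1962, 1), (1974, 1), (1994, 1), (2012, 1), (2013, 1), (2020, 1), (2034, 1), (2039, 1), (2041, 1), (2042, 1), (2046, 1), (2053, 1), (2080, 1), (2084, 1), (2108, 1), (2134, 1), (2143, 1), (2150, 1), (2154, 1)], [(0, 1), (13, 1), (15, 1),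 (20, 1), (21, 1), (39, 1), (46, 1), (50, 1), (52, 1), (60, 1), (63, 1), (92, 1), (94, 1), (102, 1), (112, 1), (115, 1), (128, 1), (136, 1), (144, 1), (145, 1), (151, 1), (157, 1), (161, 1), (166, 1), (177, 1), (185, 1), (186, 1), (192, 1), (194, 1), (196, 1), (203, 1), (210, 1), (221, 1), (231, 1), (235, 1), (246, 1), (247, 1), (256, 1), (258, 1), (259, 1), (288, 1), (296, 1), (298, 1), (300, 1), (306, 1), (315, 1), (317, 1), (339, 1), (348, 1), (363, 1), (369, 1), (370, 1), (371, 1), (376, 1), (378, 1), (381, 1), (412, 1), (418, 1), (430, 1), (432, 1), (444, 1), (452, 1), (456, 1), (461, 1), (462, 1), (468, 1), (470, 1), (474, 1), (477, 1), (494, 1), (497, 1), (508, 1), (510, 1), (520, 1), (522, 1), (527, 1), (530, 1), (537, 1), (538, 1), (539, 1), (557, 1), (577, 1), (582, 1), (584, 1), (590, 1), (597, 1), (606, 1), (616, 1), (622, 1), (644, 1), (646, 1), (652, 1), (654, 1), (661, 1), (665, 1), (675, 1), (677, 1), (687, 1), (697, 1), (721, 1), (727, 1), (745, 1), (747,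 1), (753, 1), (761, 1), (781, 1), (811, 1), (816, 1), (824, 1), (828, 1), (843, 1), (859, 1), (861, 1), (868, 1), (901, 1), (902, 1), (910, 1), (925, 1), (928, 1), (939, 1), (972, 1), (980, 1), (999, 1), (1003, 1), (1008, 1), (1009, 1), (1019, 1), (1056, 1), (1062, 1), (1075, 1), (1080, 1), (1096, 1), (1113, 1), (1115, 1), (1127, 1), (1136, 1), (1143, 1), (1167, 1), (1181, 1), (1203, 1), (1235, 1), (1249, 1), (1251, 1), (1253, 1), (1261, 1), (1279, 1), (1310, 1), (1342, 1), (1361, 1), (1376, 1), (1380, 1), (1397, 1), (1413, 1), (1419, 1), (1423, 1), (1434, 1), (1455, 1), (1457, 1), (1465, 1), (1471, 1), (1475, 1), (1477, 1), (1496, 1), (1517, 1), (1542, 1), (1547, 1), (1549, 1), (1555, 1), (1583, 1), (1585, 1), (1592, 1), (1603, 1), (1647, 1), (1650, 1), (1656, 1), (1675, 1), (1708, 1), (1724, 1), (1729, 1), (1732, 1), (1734, 1), (1763, 1), (1790, 1), (1816, 1), (1842, 1), (1845, 1), (1851, 1), (1864, 1), (1893, 1), (1895, 1), (1905, 1), (1921, 1), (1942, 1), (2006, 1), (2022,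 1), (2039, 1), (2046, 1), (2055, 1), (2071, 1), (2110, 1), (2152, 1)], [(13, 1), (15, 1), (18, 1), (24, 1), (42, 1), (46, 1), (52, 1), (60, 1), (73, 1), (84, 1), (88, 1), (92, 1), (100, 1), (102, 1), (112, 1), (114, 1), (115, 1), (116, 1), (117, 1), (119, 1), (128, 1), (130, 1), (136, 1), (144, 1), (145, 1), (149, 1), (167, 1), (169, 1), (173, 1), (181, 1), (192, 1), (194, 1), (196, 1), (202, 1), (214, 1), (231, 1), (243, 1), (258, 1), (265, 1), (275, 1), (277, 1), (281, 1), (287, 1), (311, 1), (313, 1), (317, 1), (320, 1), (336, 1), (339, 1), (349, 1), (369, 1), (371, 1), (376, 1), (377, 1), (378, 1), (379, 1), (390, 1), (410, 1), (416, 1), (422, 1), (424, 1), (426, 1), (432, 1), (458, 1), (460, 1), (461, 1), (462, 1), (470, 1), (474, 1), (476, 1), (497, 1), (505, 1), (508, 1), (519, 1), (522, 1), (538, 1), (557, 1), (561, 1), (562, 1), (569, 1), (571, 1), (575, 1), (582, 1), (590, 1), (593, 1), (614, 1), (625, 1), (646, 1), (661, 1), (669, 1), (686, 1), (762, 1), (794,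 1), (816, 1), (818, 1), (889, 1), (891, 1), (902, 1), (910, 1), (918, 1), (925, 1), (928, 1), (938, 1), (939, 1), (943, 1), (954, 1), (983, 1), (999, 1), (1001, 1), (1027, 1), (1029, 1), (1042, 1), (1049, 1), (1077, 1), (1144, 1), (1154, 1), (1174, 1), (1194, 1), (1199, 1), (1216, 1), (1226, 1), (1263, 1), (1264, 1), (1281, 1), (1283, 1), (1288, 1), (1319, 1), (1328, 1), (1342, 1), (1371, 1), (1380, 1), (1382, 1), (1383, 1), (1393, 1), (1397, 1), (1429, 1), (1439, 1), (1449, 1), (1485, 1), (1496, 1), (1501, 1), (1505, 1), (1517, 1), (1523, 1), (1542, 1), (1557, 1), (1559, 1), (1583, 1), (1603, 1), (1665, 1), (1675, 1), (1686, 1), (1732, 1), (1734, 1), (1752, 1), (1761, 1), (1779, 1), (1790, 1), (1834, 1), (1868, 1), (1905, 1), (1921, 1), (1934, 1), (1936, 1), (1944, 1), (1956, 1), (1958, 1), (1960, 1), (2006, 1), (2013, 1), (2055, 1), (2065, 1), (2088, 1), (2108, 1), (2152, 1)], [(3, 1), (9, 1), (11, 1), (13, 1), (19, 1), (26, 1), (40, 1), (46, 1), (63, 1), (64, 1), (73,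 1), (82, 1), (90, 1), (100, 1), (107, 1), (113, 1), (116, 1), (117, 1), (130, 1), (157, 1), (158, 1), (159, 1), (169, 1), (175, 1), (177, 1), (192, 1), (194, 1), (247, 1), (249, 1), (256, 1), (274, 1), (288, 1), (289, 1), (315, 1), (341, 1), (348, 1), (349, 1), (350, 1), (363, 1), (364, 1), (376, 1), (378, 1), (410, 1), (411, 1), (412, 1), (416, 1), (444, 1), (448, 1), (454, 1), (470, 1), (491, 1), (510, 1), (517, 1), (559, 1), (613, 1), (646, 1), (654, 1), (665, 1), (697, 1), (706, 1), (736, 1), (831, 1), (861, 1), (901, 1), (907, 1), (939, 1), (1023, 1), (1056, 1), (1062, 1), (1096, 1), (1117, 1), (1122, 1), (1146, 1), (1153, 1), (1177, 1), (1181, 1), (1191, 1), (1249, 1), (1253, 1), (1257, 1), (1279, 1), (1293, 1), (1397, 1), (1451, 1), (1491, 1), (1512, 1), (1523, 1), (1533, 1), (1534, 1), (1603, 1), (1622, 1), (1665, 1), (1684, 1), (1715, 1), (1734, 1), (1741, 1), (1766, 1), (1804, 1), (1869, 1), (1893, 1), (1911, 1), (1962, 1), (1964, 1), (1986, 1), (2022, 1), (2027,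 1), (2039, 1), (2071, 1)], [(0, 1), (1, 1), (15, 1), (18, 1), (20, 1), (21, 1), (63, 1), (75, 1), (82, 1), (88, 1), (101, 1), (103, 1), (112, 1), (130, 1), (146, 1), (149, 1), (214, 1), (221, 1), (231, 1), (309, 1), (336, 1), (390, 1), (454, 1), (520, 1), (573, 1), (593, 1), (630, 1), (661, 1), (759, 1), (859, 1), (861, 1), (922, 1), (956, 1), (1023, 1), (1050, 1), (1052, 1), (1261, 1), (1265, 1), (1391, 1), (1399, 1), (1413, 1), (1533, 1), (1534, 1), (1656, 1), (1688, 1), (1706, 1), (1756, 1), (1759, 1), (1825, 1), (1871, 1), (1905, 1), (1911, 1), (1978, 1), (2012, 1), (2020, 1), (2055, 1), (2143, 1), (2148, 1)], [], [(0, 1), (3, 1), (11, 1), (19, 1), (29, 1), (33, 1), (54, 1), (60, 1), (64, 1), (84, 1), (94, 1), (112, 1), (113, 1), (117, 1), (130, 1), (131, 1), (153, 1), (155, 1), (188, 1), (192, 1), (210, 1), (213, 1), (231, 1), (243, 1), (265, 1), (274, 1), (289, 1), (290, 1), (296, 1), (311, 1), (337, 1), (347, 1), (349, 1), (362, 1), (390, 1), (410, 1), (434, 1), (460,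 1), (522, 1), (538, 1), (573, 1), (597, 1), (652, 1), (660, 1), (683, 1), (687, 1), (723, 1), (740, 1), (751, 1), (775, 1), (814, 1), (842, 1), (859, 1), (889, 1), (897, 1), (899, 1), (975, 1), (1001, 1), (1037, 1), (1070, 1), (1085, 1), (1141, 1), (1143, 1), (1157, 1), (1181, 1), (1247, 1), (1253, 1), (1261, 1), (1283, 1), (1342, 1), (1399, 1), (1411, 1), (1485, 1), (1487, 1), (1503, 1), (1507, 1), (1517, 1), (1547, 1), (1566, 1), (1575, 1), (1603, 1), (1640, 1), (1682, 1), (1690, 1), (1706, 1), (1761, 1), (1781, 1), (1834, 1), (1871, 1), (1873, 1), (1895, 1), (1911, 1), (1952, 1), (2041, 1), (2080, 1), (2150, 1)], [(0, 1), (107, 1), (472, 1), (557, 1), (1119, 1), (1279, 1), (1658, 1), (1688, 1), (1842, 1), (1873, 1), (1876, 1)], [], [], [], [], [], [], [], [], [(0, 1), (3, 1), (9, 1), (15, 1), (20, 1), (44, 1), (50, 1), (54, 1), (69, 1), (71, 1), (73, 1), (84, 1), (88, 1), (90, 1), (94, 1), (105, 1), (112, 1), (114, 1), (116, 1), (119, 1), (128, 1), (129, 1), (136, 1),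 (157, 1), (166, 1), (171, 1), (179, 1), (188, 1), (192, 1), (201, 1), (203, 1), (210, 1), (231, 1), (243, 1), (256, 1), (264, 1), (265, 1), (283, 1), (294, 1), (296, 1), (298, 1), (302, 1), (304, 1), (306, 1), (309, 1), (317, 1), (320, 1), (337, 1), (347, 1), (349, 1), (364, 1), (369, 1), (376, 1), (377, 1), (378, 1), (410, 1), (411, 1), (414, 1), (418, 1), (420, 1), (426, 1), (432, 1), (434, 1), (436, 1), (444, 1), (450, 1), (460, 1), (461, 1), (463, 1), (470, 1), (472, 1), (477, 1), (484, 1), (494, 1), (505, 1), (519, 1), (522, 1), (537, 1), (539, 1), (557, 1), (562, 1), (569, 1), (573, 1), (577, 1), (584, 1), (597, 1), (622, 1), (630, 1), (644, 1), (650, 1), (654, 1), (662, 1), (665, 1), (667, 1), (675, 1), (683, 1), (686, 1), (687, 1), (690, 1), (709, 1), (721, 1), (723, 1), (727, 1), (734, 1), (740, 1), (749, 1), (751, 1), (761, 1), (773, 1), (781, 1), (794, 1), (801, 1), (803, 1), (809, 1), (811, 1), (814, 1), (828, 1), (829, 1), (843, 1), (845, 1), (859, 1), (861,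 1), (902, 1), (954, 1), (960, 1), (972, 1), (1001, 1), (1038, 1), (1050, 1), (1064, 1), (1115, 1), (1144, 1), (1146, 1), (1153, 1), (1154, 1), (1185, 1), (1187, 1), (1193, 1), (1216, 1), (1247, 1), (1270, 1), (1291, 1), (1327, 1), (1382, 1), (1397, 1), (1399, 1), (1402, 1), (1405, 1), (1407, 1), (1434, 1), (1540, 1), (1549, 1), (1555, 1), (1577, 1), (1592, 1), (1622, 1), (1651, 1), (1684, 1), (1708, 1), (1711, 1), (1729, 1), (1934, 1), (1958, 1), (2042, 1), (2134, 1)], [(0, 1), (13, 1), (15, 1), (20, 1), (29, 1), (60, 1), (61, 1), (82, 1), (90, 1), (94, 1), (112, 1), (117, 1), (128, 1), (151, 1), (157, 1), (161, 1), (166, 1), (185, 1), (186, 1), (192, 1), (194, 1), (196, 1), (203, 1), (221, 1), (231, 1), (247, 1), (256, 1), (258, 1), (259, 1), (287, 1), (288, 1), (298, 1), (302, 1), (315, 1), (362, 1), (369, 1), (370, 1), (377, 1), (378, 1), (394, 1), (443, 1), (461, 1), (462, 1), (468, 1), (474, 1), (477, 1), (494, 1), (505, 1), (522, 1), (538, 1), (539, 1), (554, 1), (561,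 1), (564, 1), (571, 1), (577, 1), (597, 1), (622, 1), (654, 1), (661, 1), (675, 1), (677, 1), (680, 1), (721, 1), (734, 1), (761, 1), (773, 1), (795, 1), (824, 1), (891, 1), (910, 1), (960, 1), (980, 1), (999, 1), (1011, 1), (1056, 1), (1080, 1), (1143, 1), (1202, 1), (1292, 1), (1393, 1), (1419, 1), (1577, 1)], [(0, 1), (3, 1), (9, 1), (18, 1), (19, 1), (22, 1), (39, 1), (42, 1), (46, 1), (52, 1), (60, 1), (61, 1), (84, 1), (88, 1), (90, 1), (100, 1), (101, 1), (105, 1), (114, 1), (116, 1), (117, 1), (119, 1), (129, 1), (136, 1), (167, 1), (169, 1), (181, 1), (192, 1), (210, 1), (214, 1), (243, 1), (246, 1), (258, 1), (281, 1), (287, 1), (288, 1), (309, 1), (336, 1), (347, 1), (377, 1), (379, 1), (410, 1), (414, 1), (420, 1), (422, 1), (426, 1), (432, 1), (443, 1), (444, 1), (462, 1), (470, 1), (474, 1), (476, 1), (506, 1), (522, 1), (530, 1), (538, 1), (554, 1), (561, 1), (569, 1), (571, 1), (575, 1), (584, 1), (593, 1), (605, 1), (614, 1), (630, 1), (645, 1), (654, 1),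 (656, 1), (661, 1), (667, 1), (686, 1), (688, 1), (690, 1), (707, 1), (762, 1), (794, 1), (801, 1), (809, 1), (816, 1), (831, 1), (861, 1), (907, 1), (918, 1), (937, 1), (938, 1), (943, 1), (975, 1), (999, 1), (1001, 1), (1070, 1), (1115, 1), (1136, 1), (1144, 1), (1166, 1), (1193, 1), (1283, 1), (1288, 1), (1429, 1), (1483, 1), (1505, 1), (1512, 1), (1523, 1), (1549, 1), (1559, 1), (1566, 1), (1665, 1), (1717, 1), (1741, 1), (1747, 1), (2084, 1)], [(0, 1), (9, 1), (15, 1), (18, 1), (19, 1), (29, 1), (33, 1), (38, 1), (39, 1), (42, 1), (83, 1), (101, 1), (159, 1), (161, 1), (179, 1), (185, 1), (192, 1), (194, 1), (246, 1), (247, 1), (259, 1), (283, 1), (288, 1), (292, 1), (306, 1), (341, 1), (348, 1), (349, 1), (356, 1), (376, 1), (377, 1), (436, 1), (452, 1), (462, 1), (466, 1), (472, 1), (520, 1), (522, 1), (663, 1), (677, 1), (697, 1), (725, 1), (775, 1), (779, 1), (805, 1), (843, 1), (983, 1), (993, 1), (1008, 1), (1019, 1), (1023, 1), (1117, 1), (1119, 1), (1122, 1),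 (1143, 1), (1154, 1), (1181, 1), (1235, 1), (1279, 1), (1291, 1), (1465, 1), (1491, 1), (1523, 1), (1603, 1), (1612, 1), (1684, 1)], [(0, 1), (15, 1), (46, 1), (52, 1), (62, 1), (75, 1), (83, 1), (159, 1), (181, 1), (214, 1), (219, 1), (292, 1), (304, 1), (315, 1), (321, 1), (370, 1), (390, 1), (394, 1), (446, 1), (450, 1), (470, 1), (472, 1), (592, 1), (606, 1), (630, 1), (656, 1), (667, 1), (749, 1), (759, 1), (842, 1), (861, 1), (1117, 1), (1533, 1), (1688, 1), (1756, 1), (2143, 1)], [], [(1, 1), (9, 1), (18, 1), (24, 1), (38, 1), (54, 1), (69, 1), (71, 1), (75, 1), (83, 1), (129, 1), (144, 1), (186, 1), (201, 1), (235, 1), (246, 1), (264, 1), (265, 1), (276, 1), (288, 1), (294, 1), (296, 1), (317, 1), (337, 1), (339, 1), (362, 1), (422, 1), (424, 1), (439, 1), (460, 1), (462, 1), (464, 1), (468, 1), (538, 1), (582, 1), (625, 1), (630, 1), (646, 1), (652, 1), (662, 1), (715, 1), (732, 1), (775, 1), (816, 1), (843, 1), (905, 1), (947, 1), (1112, 1), (1141, 1), (1143, 1),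 (1146, 1), (1199, 1), (1216, 1), (1253, 1), (1270, 1), (1287, 1), (1288, 1), (1319, 1), (1439, 1), (1449, 1), (1477, 1), (1507, 1), (1603, 1), (2041, 1)], [(18, 1), (69, 1), (214, 1), (446, 1), (519, 1), (557, 1), (665, 1), (667, 1), (759, 1), (842, 1), (918, 1), (1658, 1)], [], [(0, 1), (7, 1), (13, 1), (15, 1), (20, 1), (21, 1), (39, 1), (40, 1), (60, 1), (64, 1), (73, 1), (82, 1), (88, 1), (102, 1), (103, 1), (105, 1), (112, 1), (115, 1), (128, 1), (129, 1), (151, 1), (161, 1), (166, 1), (175, 1), (177, 1), (179, 1), (181, 1), (185, 1), (186, 1), (192, 1), (194, 1), (196, 1), (201, 1), (203, 1), (210, 1), (213, 1), (221, 1), (223, 1), (231, 1), (246, 1), (247, 1), (256, 1), (258, 1), (259, 1), (287, 1), (288, 1), (296, 1), (298, 1), (300, 1), (306, 1), (317, 1), (356, 1), (363, 1), (369, 1), (376, 1), (378, 1), (394, 1), (412, 1), (420, 1), (424, 1), (432, 1), (434, 1), (444, 1), (450, 1), (452, 1), (456, 1), (458, 1), (461, 1), (462, 1), (466, 1), (474, 1), (477, 1),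 (491, 1), (497, 1), (508, 1), (510, 1), (527, 1), (529, 1), (538, 1), (539, 1), (554, 1), (557, 1), (559, 1), (571, 1), (582, 1), (590, 1), (614, 1), (622, 1), (644, 1), (646, 1), (652, 1), (654, 1), (656, 1), (661, 1), (662, 1), (665, 1), (673, 1), (675, 1), (683, 1), (686, 1), (697, 1), (706, 1), (715, 1), (721, 1), (723, 1), (732, 1), (745, 1), (747, 1), (757, 1), (761, 1), (762, 1), (763, 1), (779, 1), (816, 1), (818, 1), (824, 1), (828, 1), (843, 1), (860, 1), (861, 1), (891, 1), (918, 1), (997, 1), (1050, 1), (1085, 1), (1122, 1), (1143, 1), (1167, 1), (1181, 1), (1251, 1), (1253, 1), (1263, 1), (1276, 1), (1279, 1), (1361, 1), (1399, 1), (1465, 1), (1496, 1), (1577, 1)], [(15, 1), (42, 1), (60, 1), (62, 1), (73, 1), (84, 1), (88, 1), (92, 1), (102, 1), (112, 1), (114, 1), (115, 1), (116, 1), (117, 1), (128, 1), (144, 1), (145, 1), (153, 1), (167, 1), (169, 1), (181, 1), (192, 1), (196, 1), (202, 1), (214, 1), (231, 1), (243, 1), (258, 1), (265, 1), (281, 1), (315,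 1), (320, 1), (349, 1), (369, 1), (370, 1), (378, 1), (410, 1), (412, 1), (416, 1), (422, 1), (424, 1), (432, 1), (460, 1), (461, 1), (474, 1), (497, 1), (505, 1), (522, 1), (557, 1), (571, 1), (575, 1), (577, 1), (590, 1), (593, 1), (614, 1), (661, 1), (686, 1), (757, 1), (811, 1), (818, 1), (918, 1), (983, 1), (1154, 1)], [(0, 1), (3, 1), (9, 1), (11, 1), (13, 1), (15, 1), (29, 1), (33, 1), (38, 1), (73, 1), (84, 1), (105, 1), (114, 1), (116, 1), (117, 1), (119, 1), (145, 1), (161, 1), (169, 1), (177, 1), (179, 1), (185, 1), (214, 1), (246, 1), (259, 1), (274, 1), (283, 1), (289, 1), (292, 1), (300, 1), (306, 1), (363, 1), (377, 1), (410, 1), (411, 1), (416, 1), (436, 1), (444, 1), (452, 1), (454, 1), (462, 1), (466, 1), (474, 1), (491, 1), (505, 1), (517, 1), (520, 1), (537, 1), (559, 1), (577, 1), (613, 1), (661, 1), (663, 1), (665, 1), (675, 1), (706, 1), (745, 1), (763, 1), (779, 1), (805, 1), (843, 1), (983, 1), (993, 1), (1003, 1), (1008, 1), (1035, 1), (1080, 1),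 (1096, 1), (1154, 1), (1291, 1), (1293, 1), (1465, 1), (1577, 1), (1893, 1)], [(7, 1), (13, 1), (15, 1), (31, 1), (33, 1), (62, 1), (63, 1), (83, 1), (102, 1), (105, 1), (130, 1), (179, 1), (185, 1), (202, 1), (213, 1), (219, 1), (231, 1), (292, 1), (300, 1), (304, 1), (311, 1), (349, 1), (370, 1), (394, 1), (450, 1), (454, 1), (456, 1), (505, 1), (519, 1), (569, 1), (594, 1), (656, 1), (658, 1), (661, 1), (667, 1), (842, 1), (1050, 1), (1052, 1), (1253, 1), (1399, 1)], [], [(3, 1), (9, 1), (19, 1), (20, 1), (29, 1), (33, 1), (38, 1), (39, 1), (40, 1), (44, 1), (64, 1), (83, 1), (101, 1), (102, 1), (112, 1), (117, 1), (128, 1), (129, 1), (131, 1), (144, 1), (166, 1), (175, 1), (181, 1), (186, 1), (188, 1), (192, 1), (213, 1), (231, 1), (243, 1), (246, 1), (256, 1), (264, 1), (274, 1), (276, 1), (289, 1), (298, 1), (311, 1), (317, 1), (339, 1), (347, 1), (422, 1), (424, 1), (436, 1), (462, 1), (464, 1), (468, 1), (506, 1), (582, 1), (625, 1), (630, 1), (646, 1), (662, 1),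 (721, 1), (723, 1), (725, 1), (732, 1), (897, 1), (899, 1), (937, 1), (1037, 1), (1085, 1), (1199, 1), (1216, 1), (1270, 1), (1287, 1), (1457, 1)], [(63, 1), (151, 1), (213, 1), (214, 1), (448, 1), (594, 1), (665, 1), (667, 1), (759, 1), (842, 1)], [], [], [(0, 1), (3, 1), (9, 1), (13, 1), (19, 1), (22, 1), (39, 1), (73, 1), (101, 1), (102, 1), (105, 1), (107, 1), (112, 1), (113, 1), (128, 1), (129, 1), (130, 1), (136, 1), (144, 1), (173, 1), (188, 1), (194, 1), (196, 1), (202, 1), (210, 1), (231, 1), (275, 1), (287, 1), (300, 1), (309, 1), (311, 1), (317, 1), (347, 1), (349, 1), (369, 1), (414, 1), (416, 1), (443, 1), (452, 1), (461, 1), (472, 1), (506, 1), (517, 1), (554, 1), (557, 1), (667, 1)], [(3, 1), (11, 1), (13, 1), (40, 1), (62, 1), (63, 1), (64, 1), (73, 1), (116, 1), (117, 1), (130, 1), (157, 1), (158, 1), (159, 1), (169, 1), (177, 1), (247, 1), (249, 1), (256, 1), (289, 1), (315, 1), (378, 1), (389, 1), (410, 1), (444, 1), (452, 1), (491, 1), (517, 1)], [(1,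 1), (33, 1), (46, 1), (52, 1), (101, 1), (102, 1), (105, 1), (112, 1), (159, 1), (181, 1), (185, 1), (196, 1), (202, 1), (213, 1), (300, 1), (309, 1), (311, 1), (315, 1), (321, 1), (349, 1), (446, 1), (472, 1), (505, 1), (592, 1), (594, 1)], [], [(0, 1), (3, 1), (11, 1), (19, 1), (29, 1), (54, 1), (60, 1), (64, 1), (84, 1), (88, 1), (112, 1), (113, 1), (130, 1), (188, 1), (192, 1), (210, 1), (213, 1), (243, 1), (290, 1), (311, 1), (349, 1), (362, 1), (460, 1)], [(18, 1), (63, 1), (64, 1), (105, 1), (146, 1), (151, 1), (185, 1), (300, 1), (448, 1), (594, 1)], [], [], [], [(9, 1), (39, 1), (40, 1), (63, 1), (84, 1), (101, 1), (105, 1), (113, 1), (114, 1), (145, 1), (157, 1), (175, 1), (256, 1), (378, 1)], [(0, 1), (1, 1), (20, 1), (21, 1), (63, 1), (75, 1), (101, 1), (130, 1), (146, 1)], [], [(11, 1), (18, 1), (21, 1), (40, 1), (44, 1), (60, 1), (63, 1), (64, 1), (69, 1), (71, 1), (75, 1), (84, 1), (102, 1), (113, 1), (128, 1), (130, 1), (166, 1), (175, 1), (181, 1), (210,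 1), (256, 1), (290, 1), (298, 1)], [(64, 1), (69, 1), (105, 1), (146, 1), (185, 1)], [], [], [], [], [(7, 1), (20, 1), (21, 1)], [], [(0, 1), (1, 1), (20, 1), (21, 1), (24, 1), (39, 1), (63, 1), (64, 1), (101, 1)], [(0, 1)], [], [], [], [], [], [], [], [], [], [], [], [], [], [], [], [], [], [], [], [], [], [], [], [], [], [], [(0, 1)], [], []]

end Cfsg.Agent.Lib.Helper29.FoxO73CS2Cyc
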