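import Cfsg.Agent.Lib.Helper29.FoxO73CS2
import Cfsg.Agent.Lib.Helper29.FoxO73CS2CycC
import Cfsg.Agent.Lib.Helper29.O73CTabA
set_option autoImplicit false
set_option maxRecDepth 100000
set_option maxHeartbeats 0

namespace Cfsg.Agent.Lib.Helper29.FoxO73CS2ChkC
open Cfsg.Agent.Lib.Helper28.SchurFox Cfsg.Agent.Lib.Helper29.SchurFoxSparse Cfsg.Agent.Lib.Helper29.FoxO73CS2 Cfsg.Agent.Lib.Helper29.FoxO73CS2Cyc Cfsg.Agent.Lib.Helper29.O73CTabA

theorem hcyc3 : cycleOKS data table.tau 3 cyc3 = true := by decide +kernel
theorem hcyc4 : cycleOKS data table.tau 4 cyc4 = true := by decide +kernel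
theorem hcyc10 : cycleOKS data table.tau 10 cyc10 = true := by decide +kernel
theorem hcyc13 : cycleOKS data table.tau 13 cyc13 = true := by decide +kernel
theorem hcyc14 : cycleOKS data table.tau 14 cyc14 = true := by decide +kernel
theorem hcyc18 : cycleOKS data table.tau 18 cyc18 = true := by decide +kernel
theorem hcyc22 : cycleOKS data table.tau 22 cyc22 = true := by decide +kernel
theorem hcyc25 : cycleOKS data table.tau 25 cyc25 = true := by decide +kernel
theorem hcyc40 : cycleOKS data table.tau 40 cyc40 = true := by decide +kernel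
theorem hcyc43 : cycleOKS data table.tau 43 cyc43 = true := by decide +kernel
theorem hcyc45 : cycleOKS data table.tau 45 cyc45 = true := by decide +kernel
theorem hcyc47 : cycleOKS data table.tau 47 cyc47 = true := by decide +kernel
theorem hcyc51 : cycleOKS data table.tau 51 cyc51 = true := by decide +kernel
theorem hcyc58 : cycleOKS data table.tau 58 cyc58 = true := by decide +kernel
theorem hcyc65 : cycleOKS data table.tau 65 cyc65 = true := by decide +kernel
theorem hcyc67 : cycleOKS data table.tau 67 cyc67 = true := by decide +kernel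
theorem hcyc76 : cycleOKS data table.tau 76 cyc76 = true := by decide +kernel
theorem hcyc78 : cycleOKS data table.tau 78 cyc78 = true := by decide +kernel
theorem hcyc79 : cycleOKS data table.tau 79 cyc79 = true := by decide +kernel
theorem hcyc80 : cycleOKS data table.tau 80 cyc80 = true := by decide +kernel
theorem hcyc83 : cycleOKS data table.tau 83 cyc83 = true := by decide +kernel
theorem hcyc89 : cycleOKS data table.tau 89 cyc89 = true := by decide +kernel

end Cfsg.Agent.Lib.Helper29.FoxO73CS2ChkC
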