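import Cfsg.Agent.Lib.Helper29.FoxO73CS2
import Cfsg.Agent.Lib.Helper29.FoxO73CS2CycD
import Cfsg.Agent.Lib.Helper29.O73CTabA
set_option autoImplicit false
set_option maxRecDepth 100000
set_option maxHeartbeats 0

namespace Cfsg.Agent.Lib.Helper29.FoxO73CS2ChkD
open Cfsg.Agent.Lib.Helper28.SchurFox Cfsg.Agent.Lib.Helper29.SchurFoxSparse Cfsg.Agent.Lib.Helper29.FoxO73CS2 Cfsg.Agent.Lib.Helper29.FoxO73CS2Cyc Cfsg.Agent.Lib.Helper29.O73CTabA

theorem hcyc0 : cycleOKS data table.tau 0 cyc0 = true := by decide +kernel
theorem hcyc5 : cycleOKS data table.tau 5 cyc5 = true := by decide +kernel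
theorem hcyc9 : cycleOKS data table.tau 9 cyc9 = true := by decide +kernel
theorem hcyc11 : cycleOKS data table.tau 11 cyc11 = true := by decide +kernel
theorem hcyc16 : cycleOKS data table.tau 16 cyc16 = true := by decide +kernel
theorem hcyc20 : cycleOKS data table.tau 20 cyc20 = true := by decide +kernel
theorem hcyc24 : cycleOKS data table.tau 24 cyc24 = true := by decide +kernel
theorem hcyc27 : cycleOKS data table.tau 27 cyc27 = true := by decide +kernel
theorem hcyc30 : cycleOKS data table.tau 30 cyc30 = true := by decide +kernel
theorem hcyc34 : cycleOKS data table.tau 34 cyc34 = true := by decide +kernel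
theorem hcyc41 : cycleOKS data table.tau 41 cyc41 = true := by decide +kernel
theorem hcyc42 : cycleOKS data table.tau 42 cyc42 = true := by decide +kernel
theorem hcyc46 : cycleOKS data table.tau 46 cyc46 = true := by decide +kernel
theorem hcyc52 : cycleOKS data table.tau 52 cyc52 = true := by decide +kernel
theorem hcyc53 : cycleOKS data table.tau 53 cyc53 = true := by decide +kernel
theorem hcyc54 : cycleOKS data table.tau 54 cyc54 = true := by decide +kernel
theorem hcyc56 : cycleOKS data table.tau 56 cyc56 = true := by decide +kernel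
theorem hcyc61 : cycleOKS data table.tau 61 cyc61 = true := by decide +kernel
theorem hcyc62 : cycleOKS data table.tau 62 cyc62 = true := by decide +kernel
theorem hcyc69 : cycleOKS data table.tau 69 cyc69 = true := by decide +kernel
theorem hcyc71 : cycleOKS data table.tau 71 cyc71 = true := by decide +kernel
theorem hcyc73 : cycleOKS data table.tau 73 cyc73 = true := by decide +kernel
theorem hcyc77 : cycleOKS data table.tau 77 cyc77 = true := by decide +kernel
theorem hcyc88 : cycleOKS data table.tau 88 cyc88 = true := by decide +kernel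

end Cfsg.Agent.Lib.Helper29.FoxO73CS2ChkD
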