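import Cfsg.Agent.Lib.Helper29.FoxO73CS2
import Cfsg.Agent.Lib.Helper29.FoxO73CS2CycA
import Cfsg.Agent.Lib.Helper29.O73CTabA
set_option autoImplicit false
set_option maxRecDepth 100000
set_option maxHeartbeats 0

namespace Cfsg.Agent.Lib.Helper29.FoxO73CS2ChkA
open Cfsg.Agent.Lib.Helper28.SchurFox Cfsg.Agent.Lib.Helper29.SchurFoxSparse Cfsg.Agent.Lib.Helper29.FoxO73CS2 Cfsg.Agent.Lib.Helper29.FoxO73CS2Cyc Cfsg.Agent.Lib.Helper29.O73CTabA

theorem hstatic : data.staticOK table.tau = true := by decide +kernel

theorem hcyc2 : cycleOKS data table.tau 2 cyc2 = true := by decide +kernel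
theorem hcyc7 : cycleOKS data table.tau 7 cyc7 = true := by decide +kernel
theorem hcyc12 : cycleOKS data table.tau 12 cyc12 = true := by decide +kernel
theorem hcyc17 : cycleOKS data table.tau 17 cyc17 = true := by decide +kernel
theorem hcyc21 : cycleOKS data table.tau 21 cyc21 = true := by decide +kernel
theorem hcyc28 : cycleOKS data table.tau 28 cyc28 = true := by decide +kernel
theorem hcyc31 : cycleOKS data table.tau 31 cyc31 = true := by decide +kernel
theorem hcyc32 : cycleOKS data table.tau 32 cyc32 = true := by decide +kernel
theorem hcyc33 : cycleOKS data table.tau 33 cyc33 = true := by decide +kernel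
theorem hcyc36 : cycleOKS data table.tau 36 cyc36 = true := by decide +kernel
theorem hcyc38 : cycleOKS data table.tau 38 cyc38 = true := by decide +kernel
theorem hcyc39 : cycleOKS data table.tau 39 cyc39 = true := by decide +kernel
theorem hcyc44 : cycleOKS data table.tau 44 cyc44 = true := by decide +kernel
theorem hcyc49 : cycleOKS data table.tau 49 cyc49 = true := by decide +kernel
theorem hcyc50 : cycleOKS data table.tau 50 cyc50 = true := by decide +kernel
theorem hcyc55 : cycleOKS data table.tau 55 cyc55 = true := by decide +kernel
theorem hcyc57 : cycleOKS data table.tau 57 cyc57 = true := by decide +kernel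
theorem hcyc63 : cycleOKS data table.tau 63 cyc63 = true := by decide +kernel
theorem hcyc70 : cycleOKS data table.tau 70 cyc70 = true := by decide +kernel
theorem hcyc74 : cycleOKS data table.tau 74 cyc74 = true := by decide +kernel
theorem hcyc82 : cycleOKS data table.tau 82 cyc82 = true := by decide +kernel
theorem hcyc90 : cycleOKS data table.tau 90 cyc90 = true := by decide +kernel

end Cfsg.Agent.Lib.Helper29.FoxO73CS2ChkA
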