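import Cfsg.Agent.Lib.Helper29.FoxO73CS3
import Cfsg.Agent.Lib.Helper29.FoxO73CS3CycB
import Cfsg.Agent.Lib.Helper29.O73CTabA
set_option autoImplicit false
set_option maxRecDepth 100000
set_option maxHeartbeats 0

namespace Cfsg.Agent.Lib.Helper29.FoxO73CS3ChkB
open Cfsg.Agent.Lib.Helper28.SchurFox Cfsg.Agent.Lib.Helper29.SchurFoxSparse Cfsg.Agent.Lib.Helper29.FoxO73CS3 Cfsg.Agent.Lib.Helper29.FoxO73CS3Cyc Cfsg.Agent.Lib.Helper29.O73CTabA

theorem hcyc0 : cycleOKS data table.tau 0 cyc0 = true := by decide +kernel
theorem hcyc3 : cycleOKS data table.tau 3 cyc3 = true := by decide +kernel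
theorem hcyc5 : cycleOKS data table.tau 5 cyc5 = true := by decide +kernel
theorem hcyc10 : cycleOKS data table.tau 10 cyc10 = true := by decide +kernel
theorem hcyc15 : cycleOKS data table.tau 15 cyc15 = true := by decide +kernel
theorem hcyc19 : cycleOKS data table.tau 19 cyc19 = true := by decide +kernel
theorem hcyc23 : cycleOKS data table.tau 23 cyc23 = true := by decide +kernel
theorem hcyc29 : cycleOKS data table.tau 29 cyc29 = true := by decide +kernel
theorem hcyc39 : cycleOKS data table.tau 39 cyc39 = true := by decide +kernel
theorem hcyc40 : cycleOKS data table.tau 40 cyc40 = true := by decide +kernel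
theorem hcyc43 : cycleOKS data table.tau 43 cyc43 = true := by decide +kernel
theorem hcyc45 : cycleOKS data table.tau 45 cyc45 = true := by decide +kernel
theorem hcyc48 : cycleOKS data table.tau 48 cyc48 = true := by decide +kernel
theorem hcyc50 : cycleOKS data table.tau 50 cyc50 = true := by decide +kernel
theorem hcyc51 : cycleOKS data table.tau 51 cyc51 = true := by decide +kernel
theorem hcyc57 : cycleOKS data table.tau 57 cyc57 = true := by decide +kernel
theorem hcyc60 : cycleOKS data table.tau 60 cyc60 = true := by decide +kernel
theorem hcyc64 : cycleOKS data table.tau 64 cyc64 = true := by decide +kernel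
theorem hcyc65 : cycleOKS data table.tau 65 cyc65 = true := by decide +kernel
theorem hcyc68 : cycleOKS data table.tau 68 cyc68 = true := by decide +kernel
theorem hcyc75 : cycleOKS data table.tau 75 cyc75 = true := by decide +kernel
theorem hcyc76 : cycleOKS data table.tau 76 cyc76 = true := by decide +kernel
theorem hcyc80 : cycleOKS data table.tau 80 cyc80 = true := by decide +kernel
theorem hcyc85 : cycleOKS data table.tau 85 cyc85 = true := by decide +kernel
theorem hcyc90 : cycleOKS data table.tau 90 cyc90 = true := by decide +kernel

end Cfsg.Agent.Lib.Helper29.FoxO73CS3ChkB
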