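import Cfsg.Agent.Lib.Helper29.FoxO73CS3
import Cfsg.Agent.Lib.Helper29.FoxO73CS3CycC
import Cfsg.Agent.Lib.Helper29.O73CTabA
set_option autoImplicit false
set_option maxRecDepth 100000
set_option maxHeartbeats 0

namespace Cfsg.Agent.Lib.Helper29.FoxO73CS3ChkC
open Cfsg.Agent.Lib.Helper28.SchurFox Cfsg.Agent.Lib.Helper29.SchurFoxSparse Cfsg.Agent.Lib.Helper29.FoxO73CS3 Cfsg.Agent.Lib.Helper29.FoxO73CS3Cyc Cfsg.Agent.Lib.Helper29.O73CTabA

theorem hcyc1 : cycleOKS data table.tau 1 cyc1 = true := by decide +kernel
theorem hcyc6 : cycleOKS data table.tau 6 cyc6 = true := by decide +kernel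
theorem hcyc8 : cycleOKS data table.tau 8 cyc8 = true := by decide +kernel
theorem hcyc11 : cycleOKS data table.tau 11 cyc11 = true := by decide +kernel
theorem hcyc13 : cycleOKS data table.tau 13 cyc13 = true := by decide +kernel
theorem hcyc16 : cycleOKS data table.tau 16 cyc16 = true := by decide +kernel
theorem hcyc20 : cycleOKS data table.tau 20 cyc20 = true := by decide +kernel
theorem hcyc24 : cycleOKS data table.tau 24 cyc24 = true := by decide +kernel
theorem hcyc25 : cycleOKS data table.tau 25 cyc25 = true := by decide +kernel
theorem hcyc41 : cycleOKS data table.tau 41 cyc41 = true := by decide +kernel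
theorem hcyc44 : cycleOKS data table.tau 44 cyc44 = true := by decide +kernel
theorem hcyc46 : cycleOKS data table.tau 46 cyc46 = true := by decide +kernel
theorem hcyc52 : cycleOKS data table.tau 52 cyc52 = true := by decide +kernel
theorem hcyc54 : cycleOKS data table.tau 54 cyc54 = true := by decide +kernel
theorem hcyc61 : cycleOKS data table.tau 61 cyc61 = true := by decide +kernel
theorem hcyc66 : cycleOKS data table.tau 66 cyc66 = true := by decide +kernel
theorem hcyc67 : cycleOKS data table.tau 67 cyc67 = true := by decide +kernel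
theorem hcyc71 : cycleOKS data table.tau 71 cyc71 = true := by decide +kernel
theorem hcyc74 : cycleOKS data table.tau 74 cyc74 = true := by decide +kernel
theorem hcyc77 : cycleOKS data table.tau 77 cyc77 = true := by decide +kernel
theorem hcyc78 : cycleOKS data table.tau 78 cyc78 = true := by decide +kernel
theorem hcyc82 : cycleOKS data table.tau 82 cyc82 = true := by decide +kernel
theorem hcyc86 : cycleOKS data table.tau 86 cyc86 = true := by decide +kernel
theorem hcyc91 : cycleOKS data table.tau 91 cyc91 = true := by decide +kernel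

end Cfsg.Agent.Lib.Helper29.FoxO73CS3ChkC
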