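import Cfsg.Agent.Lib.Helper29.FoxO73CS3
import Cfsg.Agent.Lib.Helper29.FoxO73CS3CycD
import Cfsg.Agent.Lib.Helper29.O73CTabA
set_option autoImplicit false
set_option maxRecDepth 100000
set_option maxHeartbeats 0

namespace Cfsg.Agent.Lib.Helper29.FoxO73CS3ChkD
open Cfsg.Agent.Lib.Helper28.SchurFox Cfsg.Agent.Lib.Helper29.SchurFoxSparse Cfsg.Agent.Lib.Helper29.FoxO73CS3 Cfsg.Agent.Lib.Helper29.FoxO73CS3Cyc Cfsg.Agent.Lib.Helper29.O73CTabA

theorem hcyc2 : cycleOKS data table.tau 2 cyc2 = true := by decide +kernel
theorem hcyc7 : cycleOKS data table.tau 7 cyc7 = true := by decide +kernel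
theorem hcyc12 : cycleOKS data table.tau 12 cyc12 = true := by decide +kernel
theorem hcyc17 : cycleOKS data table.tau 17 cyc17 = true := by decide +kernel
theorem hcyc21 : cycleOKS data table.tau 21 cyc21 = true := by decide +kernel
theorem hcyc27 : cycleOKS data table.tau 27 cyc27 = true := by decide +kernel
theorem hcyc31 : cycleOKS data table.tau 31 cyc31 = true := by decide +kernel
theorem hcyc34 : cycleOKS data table.tau 34 cyc34 = true := by decide +kernel
theorem hcyc38 : cycleOKS data table.tau 38 cyc38 = true := by decide +kernel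
theorem hcyc49 : cycleOKS data table.tau 49 cyc49 = true := by decide +kernel
theorem hcyc55 : cycleOKS data table.tau 55 cyc55 = true := by decide +kernel
theorem hcyc58 : cycleOKS data table.tau 58 cyc58 = true := by decide +kernel
theorem hcyc72 : cycleOKS data table.tau 72 cyc72 = true := by decide +kernel
theorem hcyc73 : cycleOKS data table.tau 73 cyc73 = true := by decide +kernel
theorem hcyc81 : cycleOKS data table.tau 81 cyc81 = true := by decide +kernel
theorem hcyc83 : cycleOKS data table.tau 83 cyc83 = true := by decide +kernel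
theorem hcyc87 : cycleOKS data table.tau 87 cyc87 = true := by decide +kernel
theorem hcyc89 : cycleOKS data table.tau 89 cyc89 = true := by decide +kernel

end Cfsg.Agent.Lib.Helper29.FoxO73CS3ChkD
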