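import Mathlib.Data.Nat.Notation
set_option autoImplicit false
set_option maxRecDepth 100000

namespace Cfsg.Agent.Lib.Helper29.FoxO73CS3Cyc

def cyc4 : List (List (ℕ × ℕ)) := [[], [], [], [], [], [], [(0, 1)], [], [], [], [], [], [], [], [], [], [], [], [], [], [], [], [], [], [], [], [], [], [], [], [], [], [], [], [], [], [], [], [], [], [], [], [], [], [], [], [], [], [], [], [], [], [], [], [], [], [], [], [], [], [], [], [], [], [], [], [], [], [], [], [], [], [], [], [], [], [], [], [], [], [], [], [], [], [], [], [], [], [], [], [], [], [], [], [], [], [], [], [], [], [], [], [], [], []]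
def cyc9 : List (List (ℕ × ℕ)) := [[], [], [], [], [], [], [], [], [], [], [], [], [], [(0, 1)], [], [], [], [], [], [], [], [], [], [], [], [], [], [], [], [], [], [], [], [], [], [], [], [], [], [], [], [], [], [], [], [], [], [], [], [], [], [], [], [], [], [], [], [], [], [], [], [], [], [], [], [], [], [], [], [], [], [], [], [], [], [], [], [], [], [], [], [], [], [], [], [], [], [], [], [], [], [], [], [], [], [], [], [], [], [], [], [], [], [], []]
def cyc14 : List (List (ℕ × ℕ)) := [[], [], [], [], [], [], [], [], [], [], [(0, 1), (17, 2)], [], [(0, 2), (17, 1)], [], [], [], [], [], [], [(0, 1)], [], [], [], [], [], [], [], [], [], [], [], [], [], [], [], [], [], [], [], [], [], [], [], [], [], [], [], [], [], [], [], [], [], [], [], [], [], [], [], [], [], [], [], [], [], [], [], [], [], [], [], [], [], [], [], [], [], [], [], [], [], [], [], [], [], [], [], [], [], [], [], [], [], [], [], [], [], [], [], [], [], [], [], [], []]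
def cyc18 : List (List (ℕ × ℕ)) := [[], [], [], [], [], [], [], [], [], [], [], [], [], [], [], [(1, 1), (26, 2)], [], [], [], [], [], [], [], [(1, 1), (2, 1)], [], [], [], [], [], [], [], [], [], [], [], [], [], [], [], [], [], [], [], [], [], [], [], [], [], [], [], [], [], [], [], [], [], [], [], [], [], [], [], [], [], [], [], [], [], [], [], [], [], [], [], [], [], [], [], [], [], [], [], [], [], [], [], [], [], [], [], [], [], [], [], [], [], [], [], [], [], [], [], [], []]
def cyc22 : List (List (ℕ × ℕ)) := [[], [], [], [], [], [], [], [], [], [], [], [], [], [], [], [(1, 1), (33, 2)], [], [], [], [], [], [], [], [], [], [], [], [(1, 1), (2, 1)], [], [], [], [], [], [], [], [], [], [], [], [], [], [], [], [], [], [], [], [], [], [], [], [], [], [], [], [], [], [], [], [], [], [], [], [], [], [], [], [], [], [], [], [], [], [], [], [], [], [], [], [], [], [], [], [], [], [], [], [], [], [], [], [], [], [], [], [], [], [], [], [], [], [], [], [], []]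
def cyc26 : List (List (ℕ × ℕ)) := [[], [], [], [], [], [], [], [(1, 2), (2, 1), (6, 2), (7, 1), (9, 1), (29, 1), (37, 2), (55, 1), (69, 2), (79, 1), (93, 1), (119, 1), (139, 2), (145, 2), (185, 1), (199, 2), (241, 1), (516, 2), (627, 2), (644, 1), (773, 2), (842, 1), (967, 1)], [(2, 2), (6, 1), (18, 2), (28, 1), (30, 2), (36, 2), (76, 1), (77, 2), (82, 1), (93, 2), (100, 1), (119, 2), (136, 1), (139, 1), (144, 2), (160, 1), (175, 1), (199, 1), (240, 1), (243, 1), (271, 2)], [], [], [], [], [], [], [], [], [], [], [], [], [], [], [], [], [], [], [], [(0, 2)], [], [], [(0, 1)], [], [], [], [], [], [], [], [], [], [], [], [], [], [], [], [], [], [], [], [], [], [], [], [], [], [], [], [], [], [], [], [], [], [], [], [], [], [], [], [], [], [], [], [], [], [], [], [], [], [], [], [], [], [], [], [], [], [], [], [], [], [], [], [], [], [], [], [], [], [], [], [], []]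
def cyc28 : List (List (ℕ × ℕ)) := [[], [], [], [], [], [], [], [(4, 1), (21, 2), (25, 1), (48, 1), (58, 2), (70, 2), (92, 1), (115, 1), (134, 1), (143, 2), (198, 2), (225, 1), (227, 2), (306, 2), (506, 2), (622, 2), (634, 2), (705, 2), (960, 1)], [(1, 2), (4, 2), (11, 1), (14, 1), (20, 2), (25, 2), (48, 2), (57, 2), (92, 2), (114, 1), (133, 1), (143, 1), (147, 1), (159, 1), (183, 2), (198, 1), (226, 1), (306, 1), (324, 1), (368, 2)], [], [], [], [], [], [], [], [], [], [], [], [], [], [], [], [], [], [], [], [(0, 2)], [], [], [], [], [(0, 1)], [], [], [], [], [], [], [], [], [], [], [], [], [], [], [], [], [], [], [], [], [], [], [], [], [], [], [], [], [], [], [], [], [], [], [], [], [], [], [], [], [], [], [], [], [], [], [], [], [], [], [], [], [], [], [], [], [], [], [], [], [], [], [], [], [], [], [], [], [], [], []]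
def cyc30 : List (List (ℕ × ℕ)) := [[], [], [], [], [], [], [], [(1, 2), (6, 2), (9, 1), (15, 1), (55, 1), (79, 1), (145, 2), (644, 1), (842, 1)], [(6, 1), (18, 2), (30, 2), (77, 2), (100, 1), (136, 1), (144, 2)], [], [], [], [], [], [], [], [], [], [], [], [], [], [], [], [], [], [], [], [(0, 2)], [], [], [], [], [], [], [(0, 1)], [], [], [], [], [], [], [], [], [], [], [], [], [], [], [], [], [], [], [], [], [], [], [], [], [], [], [], [], [], [], [], [], [], [], [], [], [], [], [], [], [], [], [], [], [], [], [], [], [], [], [], [], [], [], [], [], [], [], [], [], [], [], [], [], [], [], [], [], []]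
def cyc32 : List (List (ℕ × ℕ)) := [[], [], [], [], [], [], [], [], [], [], [], [], [], [], [], [(26, 2), (46, 2), (52, 2)], [], [], [], [], [(7, 1)], [(7, 1), (13, 1), (52, 2)], [], [], [], [], [], [], [], [], [], [], [], [], [], [], [(7, 1), (13, 1), (46, 1)], [(7, 2), (13, 2)], [], [], [], [], [], [], [], [(7, 1), (13, 1), (26, 1)], [], [], [], [], [], [], [], [], [], [], [], [], [], [], [], [], [], [], [], [], [], [], [], [], [], [], [], [], [], [], [], [], [], [], [], [], [], [], [], [], [], [], [], [], [], [], [], [], [], [], [], [], [], [], [], [], [], [], []]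
def cyc33 : List (List (ℕ × ℕ)) := [[], [], [], [], [], [], [], [], [], [], [], [], [], [], [], [(90, 1), (94, 2), (100, 2), (119, 2), (564, 2), (859, 1), (1715, 2)], [], [], [], [], [(88, 1), (90, 1), (285, 1), (364, 1), (376, 1), (564, 2), (597, 1), (859, 1)], [(90, 1), (153, 1), (179, 1), (336, 1), (381, 1), (562, 2)], [(94, 2), (100, 2), (119, 2), (235, 1), (285, 2), (1730, 1)], [], [], [], [], [], [], [], [], [], [], [], [], [], [(88, 1), (90, 1), (94, 1), (119, 1), (179, 1), (285, 1), (364, 1), (376, 1), (562, 1), (597, 1), (775, 1), (859, 1)], [(88, 2), (90, 2), (179, 2), (376, 2)], [(94, 2), (100, 2), (119, 2), (285, 2), (364, 2), (859, 2)], [], [], [], [], [], [], [], [(94, 1), (100, 1), (119, 1), (285, 1)], [], [], [], [], [], [], [], [], [], [], [], [], [], [], [], [], [], [], [], [], [], [], [], [], [], [], [], [], [], [], [], [], [], [], [], [], [], [], [], [], [], [], [], [], [], [], [], [], [], [], [], [], [], [], [], [], [], []]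
def cyc35 : List (List (ℕ × ℕ)) := [[], [], [], [], [], [], [], [], [], [], [], [], [], [], [], [], [], [], [], [], [], [], [], [], [], [], [], [], [], [], [], [], [], [], [], [], [], [], [], [], [], [], [], [], [], [], [(3, 2)], [], [], [], [], [], [], [(0, 1)], [], [], [], [], [], [], [], [], [], [], [], [], [], [], [], [], [], [], [], [], [], [], [], [], [], [], [], [], [], [], [], [], [], [], [], [], [], [], [], [], [], [], [], [], [], [], [], [], [], [], []]
def cyc36 : List (List (ℕ × ℕ)) := [[], [], [], [], [], [], [], [], [], [], [], [], [], [], [], [(1, 2)], [], [], [], [], [(0, 1), (24, 2)], [], [(24, 1)], [], [], [], [], [], [], [], [], [], [], [], [], [], [(0, 1), (5, 1)], [], [(0, 2), (1, 2)], [], [], [], [], [], [], [], [], [], [], [], [], [], [], [], [(0, 1), (1, 1)], [], [], [], [], [], [], [], [], [], [], [], [], [], [], [], [], [], [], [], [], [], [], [], [], [], [], [], [], [], [], [], [], [], [], [], [], [], [], [], [], [], [], [], [], [], [], [],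 [], [], []]
def cyc37 : List (List (ℕ × ℕ)) := [[], [], [], [], [], [], [], [], [], [], [], [], [], [], [], [(1, 2), (24, 1), (121, 1), (217, 2)], [], [], [], [], [(0, 1), (26, 2), (86, 1), (121, 1)], [], [(0, 2), (24, 1), (26, 2), (67, 2), (165, 1)], [(1, 2), (5, 2), (217, 2)], [], [], [], [], [], [], [], [], [], [], [], [], [(0, 1), (5, 1), (7, 1), (67, 1), (86, 1), (121, 1)], [], [(0, 2), (26, 2), (67, 2)], [(1, 2), (5, 2), (121, 2)], [], [], [], [], [], [], [], [], [], [], [], [], [], [], [], [(1, 1), (5, 1)], [], [], [], [], [], [], [], [], [], [], [], [], [], [], [], [], [], [], [], [], [], [], [], [], [], [], [], [], [], [], [], [], [], [], [], [], [], [], [], [], [], [], [], [], [], [], [], [], []]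
def cyc42 : List (List (ℕ × ℕ)) := [[], [], [], [], [], [], [], [], [], [], [], [], [], [], [], [], [], [], [], [], [(0, 1)], [], [], [], [], [], [], [], [], [], [], [], [], [], [], [], [], [], [], [(1, 2)], [], [], [], [], [], [], [], [], [], [], [], [], [], [], [], [], [], [], [], [], [(0, 1)], [], [], [], [], [], [], [], [], [], [], [], [], [], [], [], [], [], [], [], [], [], [], [], [], [], [], [], [], [], [], [], [], [], [], [], [], [], [], [], [], [], [], [], []]
def cyc47 : List (List (ℕ × ℕ)) := [[], [], [], [], [], [], [], [], [], [], [], [], [], [], [], [(1, 2), (18, 1), (26, 1), (82, 2)], [], [], [], [], [(0, 1), (9, 1), (18, 1), (103, 1)], [], [], [(0, 2), (26, 1), (62, 2), (103, 2)], [(1, 2), (7, 2), (100, 2)], [], [], [], [], [], [], [], [], [], [], [], [(0, 1), (7, 1), (9, 1), (19, 1), (82, 1), (88, 1)], [], [], [(0, 2), (18, 2), (62, 2)], [(1, 2), (7, 2), (19, 2)], [], [], [], [], [], [], [], [], [], [], [], [], [], [], [], [], [], [], [], [], [], [],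 [], [(1, 1), (7, 1)], [], [], [], [], [], [], [], [], [], [], [], [], [], [], [], [], [], [], [], [], [], [], [], [], [], [], [], [], [], [], [], [], [], [], [], [], [], [], [], []]
def cyc53 : List (List (ℕ × ℕ)) := [[], [], [], [], [], [], [], [], [], [], [], [], [], [], [], [(1, 2)], [], [], [], [], [(0, 1), (33, 2), (153, 2)], [], [], [(0, 2), (26, 1)], [], [], [], [(153, 1)], [], [], [], [], [], [], [], [], [(0, 1), (7, 1), (15, 1), (94, 1)], [], [], [(0, 2), (33, 2)], [], [], [], [(1, 2), (7, 2)], [], [], [], [], [], [], [], [], [], [], [], [], [], [], [], [], [], [], [], [], [], [], [], [(1, 1), (7, 1)], [], [], [], [], [], [], [], [], [], [], [], [], [], [], [], [], [], [], [], [], [], [], [], [], [], [], [], [], [], [], [], [], [], [], [], [], []]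
def cyc56 : List (List (ℕ × ℕ)) := [[], [], [], [], [], [], [], [], [], [], [], [], [], [], [], [(1, 2), (9, 2), (24, 1)], [], [], [], [], [(0, 1), (9, 1), (18, 1)], [], [(18, 2), (24, 1), (69, 1)], [], [(149, 2)], [], [], [], [], [], [], [], [], [], [], [], [(0, 1), (5, 1), (9, 1), (69, 1)], [], [(0, 2), (18, 2)], [], [(1, 2), (5, 2)], [], [], [], [], [], [], [], [], [], [], [], [], [], [], [], [(1, 1)], [], [], [], [], [], [], [], [], [], [], [], [], [], [(0, 1)], [], [], [], [], [], [], [], [], [], [], [], [], [], [], [], [], [], [], [], [], [], [], [], [], [], [], [], [], [], [], [], [], [], []]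
def cyc59 : List (List (ℕ × ℕ)) := [[], [], [], [], [], [], [], [], [], [], [], [], [], [], [], [(3, 2)], [], [], [], [], [], [(0, 1), (48, 2)], [], [], [(48, 1)], [], [], [], [], [], [], [], [], [], [], [], [], [], [], [], [], [], [], [], [], [(0, 1), (9, 1)], [], [], [(0, 2), (3, 2)], [], [], [], [], [], [], [], [], [], [], [], [], [], [], [], [], [], [], [], [], [], [], [], [(0, 1), (3, 1)], [], [], [], [], [], [], [], [], [], [], [], [], [], [], [], [], [], [], [], [], [], [], [], [], [], [], [], [], [], [], [], []]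
def cyc62 : List (List (ℕ × ℕ)) := [[], [], [], [], [], [], [], [], [], [], [], [], [], [], [], [(7, 2), (26, 2), (38, 2), (46, 2), (52, 2), (94, 2), (136, 2), (147, 2), (153, 2), (277, 1), (285, 2)], [], [], [], [], [(0, 2), (7, 1), (9, 2), (18, 2), (82, 1), (88, 1), (94, 1), (153, 2), (155, 1), (285, 1), (336, 1)], [(7, 1), (13, 1), (18, 1), (52, 2), (88, 1), (94, 1), (100, 1), (103, 1), (277, 1), (336, 1)], [], [(9, 1), (19, 1), (62, 1), (100, 1), (107, 2)], [(0, 1), (1, 1), (18, 1), (82, 2), (88, 1), (103, 1)], [], [], [(82, 1), (107, 1), (153, 1), (155, 2)], [], [], [], [], [], [], [], [], [(0, 2), (7, 2), (9, 1), (13, 2), (19, 2), (38, 1), (46, 1), (82, 2), (88, 1), (107, 2), (136, 1), (285, 1)], [(7, 2), (13, 2), (18, 2), (88, 2), (94, 2), (103, 2)], [], [(15, 2), (18, 1), (19, 1), (38, 2)], [(0, 1), (1, 1), (15, 1), (31, 2), (62, 1)], [], [], [(7, 2), (9, 1), (13, 2), (18, 1), (26, 2), (82, 1)], [], [(7, 1), (13, 1), (18, 1), (82, 1), (88, 1), (94, 1)], [],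 [(9, 1), (33, 2), (38, 1), (62, 1)], [(31, 1), (33, 1), (62, 2)], [], [], [(18, 2), (26, 1)], [], [], [], [], [], [], [], [], [], [], [], [], [(0, 2), (1, 2)], [], [], [(0, 1), (1, 1), (9, 2)], [], [], [], [], [], [], [], [(0, 2), (1, 2), (7, 1)], [], [], [], [], [], [], [], [], [], [], [], [], [], [], [], [], [], [], [], [], [], [], [], [], [], [], [], [], []]
def cyc63 : List (List (ℕ × ℕ)) := [[], [], [], [], [], [], [], [], [], [], [], [], [], [], [], [], [], [], [], [], [(0, 1)], [], [], [], [], [], [], [], [], [], [], [], [], [], [], [], [], [], [], [], [], [(1, 2)], [], [], [], [], [], [], [], [], [], [], [], [], [], [], [], [], [], [], [], [], [], [], [], [], [], [], [], [], [], [], [], [], [], [], [(0, 1)], [], [], [], [], [], [], [], [], [], [], [], [], [], [], [], [], [], [], [], [], [], [], [], [], [], [], [], []]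
def cyc69 : List (List (ℕ × ℕ)) := [[], [], [], [], [], [], [], [], [], [], [], [], [], [], [], [(7, 1), (19, 2), (22, 1), (24, 1), (26, 2), (46, 1), (54, 1), (61, 1), (71, 1), (75, 2), (82, 1), (90, 2), (92, 2), (105, 2), (107, 2), (114, 2), (119, 2), (131, 1), (144, 1), (151, 2), (159, 2), (161, 1), (165, 1), (185, 2), (188, 2), (192, 1), (202, 2), (205, 1), (213, 2), (219, 1), (223, 1), (235, 1), (287, 2), (288, 2), (289, 2), (292, 1), (296, 1), (315, 1), (320, 1), (336, 2), (341, 2), (348, 1), (364, 1), (381, 1), (414, 2), (428, 2), (430, 2), (432, 2), (434, 2), (439, 2), (450, 1), (458, 2), (463, 2), (464, 2), (476, 2), (497, 1), (512, 1), (517, 1), (520, 1), (529, 1), (530, 1), (537, 2), (538, 2), (561, 1), (564, 1), (593, 1), (597, 2), (614, 2), (622, 1), (646, 2), (648, 1), (661, 1), (662, 2), (663, 1), (667, 2), (678, 2), (680, 2), (687, 2), (690, 1), (707, 1), (711, 2), (751, 1), (753, 1), (775, 2), (828, 1), (831, 2), (874, 2), (891, 1), (893, 1), (905, 1),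 (920, 1), (922, 1), (939, 1), (962, 1), (965, 2), (975, 2), (983, 1), (1001, 1), (1023, 2), (1050, 1), (1062, 2), (1077, 2), (1112, 2), (1115, 2), (1123, 2), (1135, 1), (1154, 1), (1166, 1), (1167, 1), (1176, 2), (1181, 1), (1189, 2), (1194, 1), (1201, 1), (1203, 2), (1264, 2), (1283, 2), (1287, 2), (1291, 1), (1293, 1), (1380, 2), (1411, 1), (1419, 2), (1434, 1), (1435, 2), (1465, 1), (1475, 1), (1483, 2), (1491, 2), (1494, 1), (1498, 1), (1533, 2), (1595, 1), (1599, 1), (1622, 2), (1650, 1), (1711, 1), (1732, 1), (1734, 2), (1739, 2), (1756, 2), (1790, 1), (1798, 2), (1802, 1), (1816, 1), (1825, 1), (1869, 2), (1910, 1), (1958, 2), (1978, 1), (2022, 2), (2140, 2), (2150, 2)], [], [], [], [], [(0, 2), (7, 1), (9, 2), (18, 1), (19, 2), (29, 2), (46, 2), (54, 1), (60, 2), (61, 1), (63, 1), (64, 1), (69, 1), (73, 2), (75, 2), (82, 1), (86, 1), (88, 2), (90, 2), (103, 1), (112, 2), (114, 2), (116, 1), (121, 1), (131, 2), (151, 1), (153, 1), (161, 2), (163, 2), (185, 1),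 (194, 1), (203, 1), (219, 2), (235, 2), (285, 2), (288, 1), (292, 1), (305, 1), (336, 1), (341, 2), (349, 1), (379, 2), (383, 1), (395, 1), (414, 1), (418, 1), (426, 2), (430, 1), (450, 1), (464, 1), (476, 2), (484, 2), (497, 1), (512, 2), (517, 1), (520, 1), (522, 1), (527, 2), (530, 1), (538, 1), (555, 1), (557, 1), (561, 1), (564, 1), (584, 1), (622, 2), (667, 2), (671, 2), (678, 2), (688, 1), (698, 1), (711, 2), (751, 1), (753, 2), (781, 1), (797, 2), (799, 1), (829, 1), (831, 2), (842, 2), (860, 1), (889, 2), (891, 2), (910, 2), (925, 1), (939, 1), (973, 2), (1001, 1), (1023, 2), (1035, 1), (1050, 2), (1146, 2), (1154, 2), (1167, 1), (1187, 2), (1193, 1), (1194, 2), (1201, 1), (1281, 1), (1342, 1), (1376, 1), (1383, 1), (1411, 1), (1465, 1), (1475, 2), (1477, 2), (1494, 1), (1498, 2), (1512, 2), (1516, 2), (1603, 2), (1650, 1), (1655, 1), (1665, 1), (1682, 1), (1688, 2), (1708, 2), (1711, 1), (1732, 2), (1739, 1), (1741, 1), (1783, 1), (1816, 1), (1825, 2), (1834,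 2), (1842, 1), (1890, 1), (1910, 2), (1958, 2), (1960, 2), (1962, 2), (2006, 2), (2020, 1), (2042, 2), (2108, 1), (2140, 1), (2150, 1)], [(7, 2), (13, 1), (15, 2), (39, 1), (50, 2), (52, 1), (60, 1), (82, 2), (88, 1), (94, 2), (112, 2), (117, 2), (121, 1), (128, 1), (144, 2), (153, 1), (161, 2), (163, 1), (165, 2), (179, 2), (185, 1), (186, 1), (190, 1), (194, 2), (203, 1), (221, 2), (233, 2), (246, 1), (247, 2), (259, 1), (274, 1), (287, 1), (288, 1), (294, 2), (315, 2), (336, 1), (348, 1), (349, 2), (363, 1), (377, 1), (378, 2), (381, 1), (383, 1), (395, 2), (412, 2), (416, 1), (418, 2), (434, 1), (439, 2), (441, 1), (463, 2), (474, 2), (508, 2), (520, 1), (522, 2), (527, 2), (530, 2), (537, 2), (555, 2), (557, 2), (584, 2), (616, 1), (625, 1), (646, 1), (662, 1), (667, 2), (671, 2), (673, 2), (687, 1), (711, 2), (753, 2), (759, 2), (763, 1), (779, 1), (781, 1), (799, 2), (828, 2), (831, 1), (891, 1), (917, 2), (925, 1), (939, 2), (973, 1), (1115, 1), (1144, 2), (1146,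 2), (1154, 1), (1166, 1), (1167, 1), (1176, 1), (1181, 2), (1203, 2), (1249, 1), (1374, 2), (1380, 1), (1383, 1), (1419, 2), (1434, 1), (1435, 2), (1475, 1), (1516, 1), (1561, 2), (1589, 1), (1603, 2), (1605, 2), (1650, 1), (1665, 1), (1708, 2), (1729, 1), (1732, 2), (1741, 1), (1790, 1), (1816, 2), (1825, 1), (1842, 2), (1845, 2), (1890, 2), (1910, 2), (1962, 2), (1964, 2), (1978, 1), (2006, 1), (2042, 1)], [(11, 2), (13, 1), (15, 2), (18, 2), (22, 2), (24, 1), (26, 2), (29, 1), (39, 2), (54, 2), (60, 1), (62, 2), (63, 1), (64, 2), (71, 1), (73, 1), (75, 1), (86, 1), (88, 1), (90, 2), (94, 1), (103, 2), (107, 1), (114, 1), (117, 1), (128, 1), (144, 1), (149, 1), (153, 2), (161, 1), (179, 2), (185, 2), (194, 1), (202, 2), (203, 2), (205, 1), (249, 1), (274, 2), (306, 1), (315, 2), (336, 2), (349, 1), (363, 1), (364, 2), (377, 2), (390, 2), (395, 1), (416, 2), (424, 1), (426, 1), (430, 1), (452, 2), (458, 2), (468, 2), (474, 2), (476, 2), (505, 2), (508, 2), (512, 2),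 (529, 1), (614, 1), (616, 1), (646, 2), (662, 2), (686, 1), (690, 1), (759, 1), (797, 2), (801, 2), (891, 2), (920, 2), (925, 2), (963, 1), (983, 2), (1001, 2), (1077, 2), (1115, 2), (1135, 1), (1142, 1), (1181, 2), (1183, 1), (1194, 2), (1202, 2), (1203, 2), (1249, 2), (1264, 2), (1281, 1), (1328, 1), (1374, 1), (1380, 1), (1523, 2), (1559, 1), (1589, 1), (1603, 1), (1665, 2), (1734, 1), (1739, 2), (1747, 2), (1756, 2), (1834, 1), (1890, 1), (1956, 2), (1958, 2), (1960, 1), (2006, 2), (2108, 2)], [(9, 1), (11, 1), (13, 1), (15, 2), (19, 2), (26, 2), (54, 1), (60, 2), (64, 1), (73, 2), (90, 1), (94, 2), (116, 1), (119, 1), (159, 2), (213, 2), (233, 1), (247, 2), (288, 2), (341, 2), (348, 2), (363, 1), (364, 2), (412, 2), (416, 2), (420, 1), (428, 2), (441, 2), (448, 1), (450, 2), (464, 2), (466, 2), (475, 1), (510, 1), (520, 2), (584, 1), (607, 1), (686, 2), (801, 1), (831, 2), (860, 2), (880, 1), (973, 1), (1050, 2), (1062, 2), (1142, 1), (1146, 1), (1181, 2), (1201,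 2), (1293, 1), (1376, 2), (1419, 2), (1445, 1), (1523, 2), (1533, 2), (1559, 2), (1589, 2), (1603, 1), (1622, 2), (1734, 2), (1741, 1), (1790, 1), (1798, 1), (1825, 1), (1869, 1), (1962, 1), (2006, 2)], [(0, 1), (11, 2), (18, 1), (29, 1), (64, 2), (71, 2), (75, 1), (82, 2), (88, 1), (100, 2), (103, 1), (144, 1), (149, 2), (179, 1), (194, 1), (221, 2), (336, 2), (390, 2), (418, 1), (430, 1), (520, 1), (593, 1), (661, 1), (678, 2), (688, 2), (759, 2), (922, 1), (983, 1), (1001, 2), (1023, 1), (1167, 1), (1281, 1), (1533, 1), (1599, 1), (1688, 2), (1734, 2), (1756, 2), (1825, 2), (1978, 1), (2020, 2), (2055, 1)], [(0, 1), (1, 1), (21, 1), (105, 1), (151, 2), (235, 1), (247, 1), (315, 1), (363, 2), (416, 2), (463, 1), (564, 1), (698, 2), (799, 1), (928, 2), (1328, 2), (1741, 2), (1869, 1)], [(0, 1), (18, 1), (19, 2), (26, 2), (33, 1), (60, 2), (94, 1), (117, 1), (131, 1), (155, 2), (163, 2), (203, 2), (305, 2), (434, 2), (680, 2), (740, 1), (975, 2), (1112, 2), (1291, 1),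 (1293, 2), (1603, 2), (1682, 1)], [], [], [], [], [], [], [], [], [], [(0, 2), (9, 1), (13, 2), (19, 2), (46, 1), (50, 1), (63, 1), (64, 1), (69, 1), (73, 2), (75, 2), (86, 2), (90, 1), (94, 1), (105, 1), (107, 2), (112, 2), (114, 2), (116, 1), (119, 1), (121, 2), (128, 1), (131, 2), (144, 1), (163, 2), (179, 2), (185, 1), (188, 1), (192, 1), (194, 1), (203, 1), (274, 1), (288, 2), (289, 1), (292, 1), (305, 1), (315, 2), (320, 1), (349, 2), (376, 1), (377, 1), (378, 2), (379, 1), (383, 1), (395, 1), (414, 2), (416, 1), (426, 2), (430, 2), (444, 2), (450, 2), (452, 1), (484, 2), (497, 1), (508, 1), (512, 2), (517, 1), (522, 2), (555, 1), (562, 2), (584, 1), (594, 1), (607, 1), (613, 1), (622, 1), (662, 2), (667, 2), (671, 2), (687, 2), (711, 1), (734, 2), (751, 2), (759, 2), (781, 1), (797, 1), (799, 1), (801, 1), (828, 2), (829, 1), (860, 1), (889, 2), (891, 1), (893, 2), (973, 2), (1001, 2), (1050, 1), (1115, 1), (1146, 1), (1154, 2), (1167, 1), (1187, 2), (1193, 1),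 (1270, 1), (1434, 2), (1435, 1), (1465, 2), (1475, 2), (1498, 2), (1512, 2), (1533, 1), (1686, 1), (1708, 2), (1711, 1), (1729, 2), (1739, 1), (1825, 2), (1958, 2), (2042, 2)], [(7, 1), (13, 2), (15, 1), (29, 2), (60, 2), (61, 1), (88, 2), (90, 2), (94, 1), (112, 1), (117, 1), (121, 2), (128, 2), (161, 1), (163, 2), (185, 2), (186, 2), (203, 2), (221, 1), (246, 2), (247, 1), (259, 2), (274, 1), (287, 2), (288, 2), (315, 1), (349, 1), (376, 2), (377, 2), (378, 1), (395, 1), (412, 2), (416, 1), (434, 2), (450, 2), (474, 1), (508, 1), (522, 1), (622, 1), (662, 2), (667, 1), (671, 1), (673, 1), (711, 1), (734, 1), (779, 2), (795, 1), (801, 2), (910, 1), (1146, 1), (1419, 1), (1589, 2)], [(0, 2), (7, 2), (9, 2), (11, 1), (15, 1), (18, 2), (26, 2), (29, 1), (46, 1), (54, 2), (60, 1), (61, 2), (62, 2), (63, 2), (64, 2), (73, 1), (88, 1), (92, 1), (103, 2), (114, 1), (116, 2), (117, 2), (151, 1), (155, 1), (179, 1), (247, 2), (249, 1), (274, 2), (285, 1), (287, 1), (348, 2),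 (377, 1), (414, 2), (426, 1), (430, 1), (444, 1), (474, 2), (476, 2), (517, 2), (530, 1), (584, 2), (594, 2), (613, 2), (614, 1), (616, 1), (622, 1), (662, 2), (686, 1), (688, 1), (797, 2), (831, 2), (975, 1), (1001, 2), (1166, 2), (1181, 2), (1202, 2), (1512, 1), (1523, 2), (1559, 1), (1665, 2), (1711, 2), (1739, 2), (1741, 2)], [(0, 1), (29, 1), (54, 1), (73, 2), (83, 2), (121, 2), (159, 2), (192, 1), (194, 2), (259, 2), (274, 2), (288, 2), (292, 2), (320, 1), (341, 2), (348, 2), (377, 2), (379, 1), (441, 2), (466, 2), (520, 2), (538, 1), (630, 1), (686, 2), (707, 1), (751, 1), (814, 2), (860, 2), (889, 1), (939, 2), (983, 1), (1144, 2), (1181, 2), (1323, 2), (1523, 2), (1559, 2), (1603, 1), (1658, 2), (1790, 1)], [(0, 1), (1, 2), (7, 2), (15, 1), (19, 2), (46, 2), (62, 1), (71, 2), (75, 1), (105, 1), (131, 1), (151, 1), (186, 1), (214, 2), (219, 2), (390, 2), (434, 2), (439, 2), (446, 2), (450, 2), (458, 2), (508, 1), (759, 2), (814, 1), (842, 1), (983, 1), (1113,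 2), (1533, 1), (1688, 2), (1739, 2), (1756, 2)], [(1, 2), (7, 1), (9, 1), (13, 2), (18, 1), (26, 2), (52, 1), (69, 1), (82, 1), (83, 1), (107, 1), (395, 1), (463, 1), (497, 2), (538, 1), (630, 2), (740, 2), (874, 2), (1516, 1)], [(18, 1), (19, 2), (24, 1), (26, 2), (29, 2), (69, 2), (86, 2), (163, 2), (165, 2), (203, 2), (305, 2), (424, 2), (439, 2), (732, 1), (814, 2), (1270, 2), (1603, 2)], [], [], [(7, 2), (13, 1), (15, 1), (39, 1), (60, 1), (63, 2), (75, 2), (88, 2), (90, 2), (94, 2), (112, 2), (114, 1), (117, 2), (121, 1), (128, 1), (144, 1), (161, 1), (163, 1), (179, 1), (185, 1), (186, 1), (194, 2), (202, 1), (203, 1), (213, 1), (219, 1), (221, 2), (223, 2), (233, 2), (246, 1), (247, 2), (259, 1), (274, 1), (287, 1), (288, 1), (296, 2), (315, 1), (363, 1), (377, 1), (390, 2), (395, 2), (412, 2), (416, 1), (424, 2), (430, 2), (434, 1), (452, 2), (468, 2), (474, 2), (475, 2), (508, 2), (522, 1), (527, 2), (529, 2), (538, 2), (555, 2), (614, 1), (646, 1), (661,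 2), (671, 1), (673, 2), (711, 2), (732, 1), (801, 1), (828, 2), (891, 2), (917, 2), (1001, 1), (1050, 2), (1135, 2), (1144, 2), (1167, 1), (1181, 1), (1465, 1)], [(15, 1), (26, 1), (29, 2), (39, 1), (60, 2), (62, 1), (63, 1), (73, 2), (90, 1), (94, 2), (114, 2), (117, 2), (128, 2), (144, 2), (153, 2), (202, 1), (274, 1), (315, 1), (363, 2), (412, 1), (416, 1), (418, 1), (424, 2), (430, 1), (432, 2), (452, 1), (468, 1), (474, 1), (505, 1), (594, 2), (614, 2), (686, 2), (779, 1), (1154, 1), (1202, 1)], [(11, 1), (15, 1), (19, 2), (21, 1), (39, 1), (63, 2), (102, 2), (116, 1), (117, 2), (119, 1), (198, 1), (213, 2), (233, 1), (247, 2), (259, 1), (274, 1), (292, 1), (320, 2), (363, 1), (377, 1), (416, 2), (420, 1), (432, 1), (434, 1), (450, 2), (464, 2), (474, 1), (475, 1), (508, 1), (512, 1), (538, 2), (597, 1), (630, 2), (671, 1), (707, 2), (799, 2), (983, 2), (1035, 1), (1144, 1), (1293, 1), (1323, 1), (1419, 2)], [(13, 1), (31, 1), (33, 1), (60, 1), (62, 2), (63, 1),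 (179, 1), (185, 1), (186, 2), (194, 1), (202, 1), (219, 1), (349, 1), (418, 1), (439, 1), (450, 1), (458, 1), (508, 2), (594, 1), (622, 2), (661, 1), (814, 2), (842, 2)], [(7, 2), (26, 1), (82, 2), (83, 2), (102, 1), (112, 1), (246, 2), (247, 1), (363, 2), (416, 2), (538, 2), (630, 1), (740, 1), (799, 1), (874, 1), (1328, 2)], [(29, 1), (33, 1), (117, 1), (128, 2), (131, 1), (165, 1), (424, 1), (436, 2), (508, 1), (555, 1), (732, 2), (1270, 1)], [], [], [], [(0, 1), (7, 1), (9, 1), (11, 1), (13, 1), (15, 2), (22, 2), (39, 2), (46, 2), (63, 2), (82, 1), (116, 1), (128, 1), (144, 2), (163, 2), (179, 1), (194, 1), (202, 2), (274, 2), (306, 1), (315, 2), (349, 1), (377, 1), (395, 1), (414, 1), (420, 1), (452, 1), (456, 2), (468, 2), (497, 2), (505, 2), (594, 1), (622, 2), (801, 2)], [(11, 2), (13, 2), (15, 1), (19, 2), (54, 2), (60, 1), (64, 2), (73, 1), (116, 2), (117, 1), (119, 2), (159, 1), (185, 1), (213, 1), (247, 1), (363, 1), (475, 2)], [(1, 1), (11, 2), (15, 2),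 (19, 1), (29, 1), (31, 2), (33, 2), (46, 1), (60, 2), (63, 1), (64, 1), (105, 2), (151, 2), (185, 2), (202, 2), (446, 1), (594, 2), (622, 1)], [(18, 2), (52, 2), (107, 2), (213, 2), (221, 2), (246, 1), (315, 1), (395, 2), (456, 1), (497, 1)], [(0, 2), (18, 2), (19, 1), (26, 1), (33, 2), (60, 1), (163, 1)], [], [], [], [], [(0, 2), (9, 1), (11, 2), (15, 1), (21, 2), (39, 2), (60, 2), (63, 1), (64, 1), (102, 1), (117, 1), (192, 2)], [(0, 2), (11, 2), (64, 1), (71, 1), (75, 2), (179, 2)], [(0, 1), (1, 2), (9, 2), (21, 1), (69, 2), (102, 2), (112, 2), (213, 1), (221, 1)], [(0, 1), (60, 2), (61, 2), (69, 1), (86, 1), (128, 1)], [], [], [], [], [], [(7, 1), (63, 1), (64, 1)], [(0, 2), (1, 2), (21, 2)], [(0, 2), (24, 2), (61, 1)], [], [], [], [], [], [], [], [(0, 1)], [], [], [], [], [], [], [], [], [], [], [], [], [], [], [], [], [], [], [], [], [], []]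
def cyc70 : List (List (ℕ × ℕ)) := [[], [], [], [], [], [], [], [], [], [], [], [], [], [], [], [(7, 1), (18, 2), (38, 2), (75, 2), (86, 2), (94, 2), (105, 1), (136, 2), (144, 2), (147, 2), (151, 1), (153, 1), (155, 2), (219, 1), (277, 1), (320, 1), (430, 2), (497, 2), (512, 2), (517, 1), (520, 2), (555, 2), (662, 2), (680, 2), (707, 2), (711, 1), (799, 1), (824, 2), (874, 1), (891, 2), (893, 2), (917, 2), (918, 1), (922, 2), (962, 2), (1068, 2), (1112, 1), (1135, 1), (1154, 1), (1166, 2), (1181, 1), (1203, 1), (1281, 2), (1283, 1), (1287, 2), (1293, 1), (1435, 1), (1475, 2), (1498, 2), (1511, 2), (1533, 1), (1622, 1), (1655, 1), (1732, 2), (1734, 1), (1739, 1), (1793, 2), (1825, 2), (1910, 2), (1968, 1), (2042, 2), (2150, 2)], [], [], [], [], [(9, 1), (26, 1), (29, 2), (69, 1), (75, 1), (86, 2), (90, 2), (94, 2), (107, 1), (112, 1), (151, 2), (155, 1), (223, 1), (379, 2), (395, 2), (418, 2), (497, 2), (517, 2), (522, 2), (688, 2), (690, 1), (711, 1), (740, 2), (761,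 1), (797, 2), (799, 2), (860, 2), (889, 1), (891, 1), (910, 1), (917, 2), (1007, 1), (1112, 1), (1281, 1), (1435, 1), (1475, 1), (1477, 1), (1498, 1), (1516, 1), (1603, 1), (1622, 1), (1732, 1), (1739, 2), (1741, 2), (1793, 2), (1890, 2), (1910, 1), (2018, 1), (2150, 2)], [(18, 1), (82, 1), (103, 1), (112, 1), (117, 1), (144, 1), (247, 1), (277, 1), (305, 1), (377, 2), (395, 1), (418, 1), (430, 1), (512, 2), (522, 1), (662, 2), (711, 1), (779, 1), (891, 2), (917, 1), (1068, 2), (1135, 1), (1154, 1), (1166, 2), (1181, 1), (1203, 1), (1435, 2), (1475, 2), (1516, 2), (1553, 1), (1561, 1), (1574, 2), (1603, 1), (1605, 1), (1732, 1), (1741, 2), (1825, 2), (1890, 2), (1910, 2), (2042, 1)], [(11, 1), (26, 1), (75, 2), (86, 2), (103, 1), (107, 2), (144, 2), (149, 1), (155, 1), (235, 2), (274, 2), (377, 1), (395, 2), (416, 1), (430, 2), (508, 1), (557, 2), (662, 2), (690, 2), (797, 1), (891, 1), (1135, 1), (1181, 2), (1203, 1), (1281, 2), (1523, 1), (1734, 2), (1739, 2), (1890,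 2), (1968, 1), (2018, 1)], [(1, 1), (9, 1), (15, 1), (73, 1), (75, 1), (105, 1), (107, 2), (117, 1), (121, 1), (217, 1), (247, 1), (416, 1), (475, 2), (520, 1), (678, 1), (761, 2), (860, 1), (880, 2), (922, 1), (1181, 1), (1293, 2), (1445, 2), (1511, 1), (1523, 1), (1533, 1), (1603, 2), (1622, 1), (1734, 1), (1741, 2), (1798, 2), (1825, 2)], [(11, 2), (29, 2), (71, 1), (75, 2), (144, 2), (520, 2), (688, 1), (922, 2), (1281, 2), (1533, 2), (1734, 1), (1825, 1)], [(0, 2), (1, 2), (105, 2), (151, 1), (247, 2), (416, 1), (799, 2), (928, 1), (1741, 1)], [], [(82, 1), (107, 1), (155, 2), (217, 2), (223, 2)], [], [], [], [], [], [], [], [], [(7, 1), (9, 1), (11, 1), (15, 1), (38, 1), (69, 1), (75, 2), (86, 1), (90, 2), (94, 2), (112, 1), (136, 1), (144, 2), (274, 2), (320, 2), (377, 2), (379, 2), (395, 2), (416, 2), (430, 2), (497, 2), (508, 2), (512, 2), (517, 2), (520, 1), (522, 1), (690, 1), (711, 2), (740, 2), (761, 1), (797, 2), (799, 1), (860, 2), (889, 1), (891, 2),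 (893, 1), (917, 1), (1007, 1), (1435, 2), (1475, 1), (1498, 1), (1511, 1), (1533, 2), (1622, 1), (1739, 2)], [(18, 2), (103, 2), (112, 2), (117, 2), (247, 2), (274, 1), (305, 2), (377, 1), (395, 2), (416, 2), (430, 2), (443, 1), (512, 1), (522, 2), (662, 1), (711, 2), (779, 2), (799, 1), (824, 2), (910, 2)], [(7, 1), (9, 2), (15, 2), (26, 1), (33, 2), (73, 2), (94, 1), (103, 1), (105, 2), (117, 1), (151, 2), (247, 1), (274, 2), (305, 1), (377, 2), (430, 2), (443, 2), (517, 1), (662, 2), (680, 1), (688, 2), (690, 2), (797, 1), (1166, 1), (1181, 2), (1523, 1), (1739, 2), (1741, 1)], [(1, 1), (5, 1), (38, 2), (73, 1), (121, 1), (274, 1), (320, 2), (377, 1), (379, 2), (520, 1), (707, 2), (761, 2), (814, 1), (842, 1), (860, 1), (889, 2), (922, 1), (1181, 1), (1523, 1), (1603, 2)], [(71, 1), (75, 2), (105, 2), (151, 2), (508, 2), (814, 2), (842, 2), (1533, 2)], [(1, 2), (9, 2), (18, 2), (26, 1), (69, 2), (82, 2), (86, 1), (107, 2), (395, 2), (497, 1), (740, 1), (874, 1),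 (1516, 2)], [], [(5, 2), (9, 1), (18, 1), (29, 2), (71, 2), (82, 1)], [], [(18, 1), (82, 1), (112, 1), (117, 1), (144, 2), (247, 1), (377, 2), (395, 1), (416, 2), (430, 2), (475, 1), (522, 2), (555, 1), (557, 2), (711, 1), (891, 1), (918, 2), (1135, 2)], [(144, 1), (155, 2), (274, 1), (416, 2), (418, 1), (430, 1), (557, 1), (779, 2), (1154, 2)], [(9, 1), (38, 1), (117, 1), (247, 1), (274, 2), (320, 1), (377, 2), (416, 1), (475, 2), (508, 2), (512, 2), (678, 1), (707, 1), (842, 2), (1293, 2), (1511, 1)], [(508, 1), (814, 1), (842, 1)], [(82, 1), (112, 2), (247, 2), (416, 1), (740, 2), (799, 2), (874, 2)], [], [(18, 2)], [], [], [(7, 2), (9, 1), (11, 1), (15, 1), (73, 1), (105, 1), (107, 2), (144, 1), (274, 1), (377, 2), (395, 2), (416, 1), (443, 1), (497, 1), (557, 2)], [(1, 2), (9, 2), (15, 2), (73, 2), (105, 2), (117, 2), (247, 2), (475, 1)], [(11, 2), (15, 1), (29, 2), (33, 1), (105, 1), (151, 1)], [(18, 1), (26, 2), (107, 1), (221, 1), (395, 1), (497, 2)], [], [(1,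 1), (29, 1)], [], [], [], [(5, 2), (11, 1), (15, 1)], [(71, 2), (75, 1)], [(0, 2), (9, 1), (15, 2), (69, 1), (112, 1), (221, 2)], [], [(5, 1), (9, 2)], [], [], [], [], [], [(0, 1), (1, 1)], [], [(0, 2), (1, 2)], [], [], [], [], [], [], [], [(0, 1)], [], [], [], [], [], [], [], [], [], [], [], [], [], [], [], [], [], [], [], [], []]
def cyc79 : List (List (ℕ × ℕ)) := [[], [], [], [], [], [], [], [], [], [], [], [], [], [], [], [], [], [], [], [], [(0, 1)], [], [], [], [], [], [], [], [], [], [], [], [], [], [], [], [], [], [], [], [], [], [], [(1, 2)], [], [], [], [], [], [], [], [], [], [], [], [], [], [], [], [], [], [], [], [], [], [], [], [], [], [], [], [], [], [], [], [], [], [], [], [], [], [], [], [], [], [], [], [], [], [], [], [], [(0, 1)], [], [], [], [], [], [], [], [], [], [], [], []]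
def cyc84 : List (List (ℕ × ℕ)) := [[], [], [], [], [], [], [], [], [], [], [], [], [], [], [], [(7, 1), (18, 1), (38, 1), (67, 1), (71, 1), (90, 2), (105, 2), (121, 2), (136, 1), (144, 1), (147, 1), (151, 2), (155, 1), (217, 1), (219, 2), (223, 2), (277, 2), (320, 2), (430, 1), (497, 1), (512, 1), (517, 2), (520, 1), (555, 1), (662, 1), (680, 1), (707, 1), (711, 2), (799, 2), (824, 1), (874, 2), (891, 1), (893, 1), (917, 1), (918, 2), (922, 1), (962, 1), (1068, 1), (1112, 2), (1135, 2), (1154, 2), (1166, 1), (1181, 2), (1203, 2), (1281, 1), (1283, 2), (1287, 1), (1293, 2), (1435, 2), (1475, 1), (1498, 1), (1511, 1), (1533, 2), (1622, 2), (1655, 2), (1732, 1), (1734, 2), (1739, 2), (1793, 1), (1825, 1), (1910, 1), (1968, 2), (2042, 1), (2150, 1)], [], [], [], [], [(9, 2), (26, 1), (33, 2), (67, 1), (69, 2), (71, 1), (86, 2), (107, 2), (112, 2), (151, 1), (155, 2), (165, 1), (219, 1), (379, 1), (395, 1), (418, 1), (497, 1), (517, 1), (522, 1), (688, 1), (690, 2), (711,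 2), (740, 1), (761, 2), (797, 1), (799, 1), (860, 1), (889, 2), (891, 2), (910, 2), (917, 1), (1007, 2), (1112, 2), (1281, 2), (1435, 2), (1475, 2), (1477, 2), (1498, 2), (1516, 2), (1603, 2), (1622, 2), (1732, 2), (1739, 1), (1741, 1), (1793, 1), (1890, 1), (1910, 2), (2018, 2), (2150, 1)], [(18, 2), (82, 2), (103, 2), (112, 2), (117, 2), (144, 2), (247, 2), (277, 2), (305, 2), (377, 1), (395, 2), (418, 2), (430, 2), (512, 1), (522, 2), (662, 1), (711, 2), (779, 2), (891, 1), (917, 2), (1068, 1), (1135, 2), (1154, 2), (1166, 1), (1181, 2), (1203, 2), (1435, 1), (1475, 1), (1516, 1), (1553, 2), (1561, 2), (1574, 1), (1603, 2), (1605, 2), (1732, 2), (1741, 1), (1825, 1), (1890, 1), (1910, 1), (2042, 2)], [(26, 1), (71, 2), (86, 2), (103, 2), (107, 1), (144, 1), (149, 2), (155, 2), (165, 2), (274, 1), (377, 2), (395, 1), (416, 2), (430, 1), (508, 2), (557, 1), (662, 1), (690, 1), (797, 2), (891, 2), (1135, 2), (1181, 1), (1203, 2), (1281, 1), (1523, 2), (1734, 1), (1739,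 1), (1890, 1), (1968, 2), (2018, 2)], [(1, 1), (9, 2), (11, 1), (73, 2), (94, 2), (105, 2), (107, 1), (117, 2), (217, 1), (247, 2), (416, 2), (475, 1), (520, 2), (678, 2), (761, 1), (860, 2), (880, 1), (922, 2), (1181, 2), (1293, 1), (1445, 1), (1511, 2), (1523, 2), (1533, 2), (1603, 1), (1622, 2), (1734, 2), (1741, 1), (1798, 1), (1825, 1)], [(11, 1), (29, 1), (71, 2), (75, 1), (144, 1), (520, 1), (688, 2), (922, 1), (1281, 1), (1533, 1), (1734, 2), (1825, 2)], [(0, 1), (1, 1), (75, 2), (105, 1), (151, 2), (217, 1), (219, 2), (247, 1), (416, 2), (799, 1), (928, 2), (1741, 2)], [], [(82, 2), (86, 1), (107, 2), (155, 1)], [], [], [], [], [], [], [], [], [(7, 1), (9, 2), (11, 1), (15, 1), (38, 2), (69, 2), (71, 2), (86, 1), (90, 2), (94, 2), (112, 2), (136, 2), (144, 1), (274, 1), (320, 1), (377, 1), (379, 1), (395, 1), (416, 1), (430, 1), (497, 1), (508, 1), (512, 1), (517, 1), (520, 2), (522, 2), (690, 2), (711, 1), (740, 1), (761, 2), (797, 1), (799, 2), (860, 1),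 (889, 2), (891, 1), (893, 2), (917, 2), (1007, 2), (1435, 1), (1475, 2), (1498, 2), (1511, 2), (1533, 1), (1622, 2), (1739, 1)], [(18, 1), (103, 1), (112, 1), (117, 1), (247, 1), (274, 2), (305, 1), (377, 2), (395, 1), (416, 1), (430, 1), (443, 2), (512, 2), (522, 1), (662, 2), (711, 1), (779, 1), (799, 2), (824, 1), (910, 1)], [(7, 1), (9, 1), (11, 2), (26, 1), (29, 2), (73, 1), (90, 1), (103, 2), (105, 1), (117, 2), (151, 1), (247, 2), (274, 1), (305, 2), (377, 1), (430, 1), (443, 1), (517, 2), (662, 1), (680, 2), (688, 1), (690, 1), (797, 2), (1166, 2), (1181, 1), (1523, 2), (1739, 1), (1741, 2)], [(1, 1), (5, 1), (38, 1), (73, 2), (121, 1), (274, 2), (320, 1), (377, 2), (379, 1), (520, 2), (707, 1), (761, 1), (814, 2), (842, 2), (860, 2), (889, 1), (922, 2), (1181, 2), (1523, 2), (1603, 1)], [(71, 2), (75, 1), (105, 1), (151, 1), (508, 1), (814, 1), (842, 1), (1533, 1)], [(5, 2), (9, 1), (18, 1), (33, 2), (69, 1), (75, 2), (82, 1), (107, 1), (395, 1), (497, 2),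 (740, 2), (874, 2), (1516, 1)], [], [(1, 2), (9, 2), (18, 2), (26, 1), (82, 2), (86, 1)], [], [(18, 2), (82, 2), (112, 2), (117, 2), (144, 1), (247, 2), (377, 1), (395, 2), (416, 1), (430, 1), (475, 2), (522, 1), (555, 2), (557, 1), (711, 2), (891, 2), (918, 1), (1135, 1)], [(144, 2), (155, 1), (274, 2), (416, 1), (418, 2), (430, 2), (557, 2), (779, 1), (1154, 1)], [(9, 2), (38, 2), (117, 2), (247, 2), (274, 1), (320, 2), (377, 1), (416, 2), (475, 1), (508, 1), (512, 1), (678, 2), (707, 2), (842, 1), (1293, 1), (1511, 2)], [(508, 2), (814, 2), (842, 2)], [(82, 2), (112, 1), (247, 1), (416, 2), (740, 1), (799, 1), (874, 1)], [], [(18, 1)], [], [], [(7, 2), (9, 2), (11, 1), (15, 1), (73, 2), (105, 2), (107, 1), (144, 2), (274, 2), (377, 1), (395, 1), (416, 2), (443, 2), (497, 2), (557, 1)], [(1, 2), (9, 1), (11, 2), (73, 1), (105, 1), (117, 1), (247, 1), (475, 2)], [(11, 1), (15, 2), (29, 1), (33, 2), (105, 2), (151, 2)], [(1, 1), (18, 2), (33, 1), (107, 2), (221, 2),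 (395, 2), (497, 1)], [], [(26, 2)], [], [], [], [(5, 2), (11, 1), (15, 1)], [(71, 1), (75, 2)], [(5, 1), (9, 2), (69, 2), (112, 2), (221, 1)], [], [(0, 2), (9, 1), (11, 2)], [], [], [], [], [], [(0, 2), (1, 2)], [], [(0, 1), (1, 1)], [], [], [], [], [], [], [], [], [], [], [], [], [], [], [], [], [], [], [], [], [], [(0, 1)], [], [], [], [], [], [], []]
def cyc88 : List (List (ℕ × ℕ)) := [[], [], [], [], [], [], [], [], [], [], [], [], [], [], [], [(1, 2), (3, 1), (7, 2), (9, 2), (11, 2), (13, 2), (21, 2), (22, 2), (24, 2), (26, 2), (38, 1), (44, 1), (46, 1), (50, 2), (52, 1), (54, 1), (61, 1), (67, 2), (69, 1), (73, 1), (75, 2), (82, 2), (86, 1), (90, 2), (92, 1), (100, 2), (102, 1), (105, 2), (107, 2), (113, 1), (119, 2), (130, 1), (131, 1), (136, 1), (145, 2), (151, 1), (153, 1), (159, 2), (165, 1), (166, 1), (167, 1), (169, 1), (171, 2), (181, 1), (183, 2), (188, 2), (192, 2), (194, 2), (196, 1), (202, 1), (203, 1), (217, 1), (219, 1), (223, 1), (230, 1), (235,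 1), (243, 1), (244, 1), (245, 1), (247, 2), (249, 2), (258, 2), (265, 2), (274, 2), (276, 1), (289, 2), (290, 2), (296, 2), (298, 1), (300, 1), (302, 1), (309, 1), (311, 1), (313, 1), (315, 2), (319, 1), (320, 1), (322, 1), (326, 2), (330, 1), (336, 1), (339, 2), (347, 1), (348, 1), (349, 1), (350, 2), (356, 1), (363, 1), (364, 2), (370, 2), (376, 1), (377, 2), (381, 2), (383, 2), (394, 1), (395, 2), (422, 1), (426, 1), (428, 2), (432, 2), (443, 1), (450, 1), (463, 1), (464, 2), (466, 2), (474, 2), (476, 1), (477, 2), (508, 2), (512, 1), (517, 2), (518, 1), (519, 1), (520, 2), (530, 1), (537, 1), (554, 1), (555, 2), (557, 2), (560, 1), (561, 2), (564, 2), (567, 1), (579, 2), (591, 2), (605, 2), (614, 2), (616, 1), (622, 1), (623, 2), (630, 2), (646, 1), (648, 1), (650, 1), (652, 2), (654, 2), (661, 2), (662, 1), (667, 1), (669, 2), (677, 1), (678, 1), (680, 1), (684, 2), (687, 1), (688, 2), (690, 2), (707, 1), (709, 2), (711, 2), (717, 1), (719, 2), (721, 2), (723,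 1), (740, 1), (748, 2), (751, 2), (757, 1), (766, 2), (775, 2), (779, 1), (801, 1), (803, 1), (811, 2), (818, 1), (822, 2), (824, 2), (827, 1), (828, 1), (831, 2), (859, 1), (860, 1), (861, 2), (866, 2), (874, 2), (889, 1), (891, 1), (893, 1), (895, 2), (897, 2), (899, 2), (903, 1), (918, 2), (922, 2), (933, 1), (937, 2), (939, 1), (947, 1), (958, 1), (965, 2), (983, 2), (992, 2), (1007, 1), (1009, 2), (1013, 2), (1017, 2), (1019, 2), (1026, 1), (1027, 2), (1029, 1), (1038, 1), (1040, 1), (1052, 2), (1054, 1), (1062, 2), (1067, 2), (1068, 1), (1075, 2), (1077, 1), (1088, 2), (1099, 2), (1100, 2), (1106, 1), (1110, 1), (1112, 1), (1121, 1), (1122, 1), (1143, 1), (1151, 2), (1154, 2), (1155, 1), (1166, 1), (1167, 2), (1172, 1), (1176, 1), (1181, 2), (1182, 2), (1189, 2), (1194, 1), (1199, 2), (1203, 1), (1224, 2), (1229, 2), (1233, 2), (1235, 2), (1238, 2), (1245, 2), (1249, 2), (1257, 1), (1261, 1), (1264, 1), (1265, 1), (1276, 2), (1283, 2), (1287, 1), (1291, 1), (1293,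 2), (1303, 1), (1313, 1), (1315, 1), (1323, 1), (1325, 2), (1327, 1), (1339, 2), (1346, 2), (1351, 2), (1361, 1), (1367, 1), (1378, 2), (1380, 1), (1383, 1), (1399, 1), (1401, 2), (1403, 2), (1416, 2), (1419, 2), (1434, 1), (1435, 2), (1449, 2), (1451, 1), (1455, 1), (1477, 2), (1483, 2), (1485, 2), (1494, 1), (1498, 1), (1511, 2), (1512, 2), (1517, 1), (1532, 1), (1533, 2), (1540, 2), (1541, 2), (1549, 2), (1555, 2), (1559, 1), (1568, 1), (1577, 2), (1579, 2), (1583, 1), (1585, 1), (1587, 1), (1589, 1), (1590, 1), (1592, 2), (1618, 2), (1620, 2), (1622, 1), (1623, 1), (1629, 2), (1630, 2), (1637, 1), (1647, 2), (1655, 1), (1675, 1), (1685, 1), (1701, 1), (1705, 1), (1706, 1), (1708, 1), (1710, 1), (1711, 2), (1721, 1), (1732, 1), (1734, 2), (1741, 1), (1761, 2), (1763, 1), (1768, 2), (1774, 2), (1777, 1), (1779, 1), (1790, 2), (1793, 2), (1798, 1), (1802, 2), (1806, 2), (1808, 2), (1812, 2), (1825, 2), (1832, 1), (1842, 2), (1850, 2), (1864, 1), (1868, 2), (1869, 1),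 (1871, 1), (1873, 2), (1878, 1), (1886, 1), (1890, 1), (1895, 1), (1902, 2), (1911, 1), (1919, 1), (1939, 2), (1946, 2), (1948, 1), (1950, 2), (1952, 1), (1954, 1), (1958, 2), (1968, 2), (1970, 1), (1974, 2), (1976, 1), (1988, 2), (1990, 2), (2000, 2), (2002, 2), (2012, 1), (2013, 1), (2022, 1), (2031, 1), (2034, 1), (2039, 2), (2041, 2), (2053, 2), (2063, 2), (2065, 1), (2071, 1), (2073, 2), (2084, 1), (2086, 1), (2088, 1), (2090, 2), (2098, 2), (2104, 1), (2112, 1), (2120, 2), (2135, 1), (2140, 1), (2143, 2), (2146, 1), (2150, 1), (2156, 1), (2158, 1)], [], [], [], [], [(0, 2), (3, 2), (7, 1), (9, 1), (19, 2), (20, 2), (26, 1), (39, 1), (40, 1), (44, 2), (52, 2), (54, 1), (61, 2), (67, 2), (69, 2), (71, 1), (75, 2), (82, 2), (83, 2), (85, 2), (90, 1), (94, 2), (103, 2), (112, 1), (114, 2), (116, 1), (121, 2), (129, 2), (130, 1), (131, 2), (147, 2), (151, 2), (153, 1), (155, 2), (157, 1), (161, 2), (163, 2), (169, 2), (177, 1), (179, 1), (181, 2), (196, 2), (201, 2),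 (203, 2), (205, 2), (213, 2), (223, 1), (231, 1), (235, 2), (244, 2), (274, 1), (285, 2), (287, 1), (288, 1), (292, 1), (309, 1), (324, 2), (328, 2), (330, 1), (348, 1), (349, 1), (362, 2), (368, 2), (379, 2), (381, 1), (383, 1), (395, 2), (411, 1), (414, 2), (418, 1), (426, 1), (430, 2), (436, 1), (443, 2), (460, 1), (462, 1), (464, 2), (466, 2), (468, 2), (476, 1), (492, 2), (493, 1), (494, 1), (497, 1), (510, 1), (512, 1), (518, 2), (520, 1), (522, 1), (527, 1), (530, 1), (531, 1), (537, 1), (553, 2), (555, 2), (557, 2), (567, 1), (568, 2), (569, 1), (571, 2), (579, 1), (581, 2), (584, 2), (591, 1), (594, 2), (614, 1), (622, 1), (650, 2), (654, 1), (658, 2), (665, 2), (669, 2), (671, 1), (684, 1), (688, 2), (690, 1), (698, 1), (713, 2), (721, 1), (725, 2), (740, 2), (750, 1), (761, 2), (766, 1), (773, 2), (781, 1), (797, 1), (799, 1), (802, 2), (807, 2), (829, 2), (831, 1), (861, 1), (866, 1), (870, 2), (876, 2), (889, 2), (891, 1), (899, 1), (902, 1), (903, 1),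 (910, 2), (926, 1), (928, 2), (945, 1), (951, 1), (958, 2), (960, 2), (970, 2), (972, 1), (973, 1), (984, 1), (990, 2), (992, 2), (997, 2), (1001, 2), (1007, 2), (1008, 2), (1011, 1), (1013, 2), (1017, 1), (1025, 1), (1027, 1), (1029, 1), (1035, 1), (1038, 2), (1049, 2), (1050, 1), (1051, 1), (1061, 1), (1067, 1), (1075, 1), (1078, 2), (1079, 2), (1088, 2), (1104, 1), (1108, 1), (1112, 2), (1121, 1), (1123, 1), (1127, 1), (1141, 1), (1144, 1), (1153, 2), (1154, 2), (1165, 1), (1166, 1), (1167, 2), (1177, 1), (1181, 2), (1193, 2), (1194, 2), (1216, 1), (1227, 1), (1229, 1), (1236, 2), (1247, 2), (1251, 2), (1257, 1), (1259, 2), (1270, 1), (1281, 2), (1292, 1), (1342, 1), (1349, 2), (1357, 1), (1361, 2), (1367, 2), (1376, 1), (1383, 1), (1393, 1), (1397, 2), (1401, 2), (1402, 2), (1407, 2), (1411, 2), (1425, 1), (1429, 2), (1435, 1), (1439, 2), (1446, 1), (1447, 1), (1451, 2), (1465, 2), (1475, 1), (1481, 2), (1494, 1), (1505, 2), (1512, 1), (1516, 2), (1517, 1), (1522,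 1), (1534, 2), (1541, 1), (1547, 1), (1549, 2), (1551, 2), (1559, 1), (1573, 1), (1575, 1), (1577, 1), (1579, 1), (1585, 1), (1587, 2), (1589, 2), (1590, 2), (1597, 1), (1608, 1), (1620, 1), (1627, 2), (1629, 2), (1630, 2), (1636, 2), (1637, 1), (1640, 2), (1648, 1), (1655, 1), (1656, 1), (1680, 2), (1682, 2), (1686, 1), (1688, 2), (1690, 2), (1694, 1), (1701, 1), (1705, 1), (1708, 2), (1711, 2), (1715, 2), (1717, 1), (1719, 1), (1724, 1), (1732, 2), (1734, 2), (1736, 1), (1739, 2), (1741, 1), (1761, 1), (1774, 2), (1777, 1), (1779, 1), (1781, 2), (1793, 2), (1798, 1), (1806, 1), (1808, 1), (1823, 1), (1825, 1), (1832, 1), (1842, 2), (1860, 2), (1862, 1), (1873, 2), (1878, 2), (1882, 1), (1886, 2), (1890, 1), (1895, 2), (1902, 1), (1905, 2), (1910, 2), (1914, 1), (1939, 2), (1952, 2), (1958, 2), (1960, 2), (1968, 1), (1974, 2), (1976, 1), (1988, 1), (1992, 1), (2002, 1), (2012, 1), (2013, 2), (2020, 1), (2029, 2), (2031, 1), (2042, 2), (2046, 2), (2053, 2), (2067, 1),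 (2073, 1), (2080, 1), (2084, 1), (2090, 1), (2098, 1), (2102, 1), (2108, 2), (2120, 1), (2126, 2), (2134, 1), (2135, 1), (2140, 1), (2143, 1), (2146, 2), (2156, 1)], [(0, 2), (13, 1), (15, 2), (18, 2), (20, 2), (21, 1), (40, 1), (41, 1), (46, 2), (60, 2), (61, 2), (82, 1), (84, 1), (85, 2), (86, 2), (88, 2), (90, 1), (92, 1), (94, 2), (100, 2), (101, 1), (112, 2), (113, 2), (115, 2), (119, 2), (121, 1), (128, 2), (130, 1), (139, 1), (144, 1), (145, 1), (153, 2), (157, 2), (158, 2), (161, 1), (163, 2), (165, 1), (179, 1), (181, 2), (184, 2), (185, 1), (186, 1), (194, 2), (198, 1), (201, 2), (203, 1), (210, 2), (211, 2), (212, 1), (213, 2), (214, 1), (231, 1), (233, 2), (244, 2), (247, 2), (256, 2), (259, 2), (264, 2), (265, 1), (275, 1), (277, 2), (279, 1), (288, 1), (294, 1), (305, 1), (311, 1), (330, 1), (336, 2), (337, 2), (347, 2), (352, 1), (356, 2), (362, 1), (368, 1), (369, 2), (370, 2), (377, 2), (381, 2), (383, 2), (390, 1), (394, 1), (395, 2), (412, 2), (422,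 1), (428, 1), (441, 1), (444, 2), (458, 1), (461, 2), (463, 2), (470, 1), (477, 2), (492, 1), (494, 1), (495, 1), (510, 2), (517, 2), (520, 2), (527, 1), (530, 1), (537, 2), (538, 1), (539, 2), (555, 1), (557, 1), (564, 2), (573, 1), (581, 1), (584, 1), (590, 2), (594, 1), (597, 1), (606, 1), (614, 2), (644, 1), (645, 1), (646, 2), (652, 2), (658, 1), (662, 2), (665, 1), (673, 2), (677, 1), (680, 2), (684, 2), (687, 2), (690, 2), (697, 2), (698, 1), (713, 1), (715, 1), (717, 2), (738, 2), (740, 2), (745, 2), (747, 1), (753, 2), (757, 2), (761, 2), (764, 1), (765, 1), (779, 2), (781, 1), (797, 1), (801, 2), (802, 2), (809, 1), (811, 1), (814, 1), (816, 1), (818, 2), (822, 2), (824, 1), (825, 2), (827, 1), (828, 1), (843, 2), (853, 1), (859, 1), (861, 1), (866, 2), (870, 2), (876, 1), (878, 1), (880, 2), (888, 2), (891, 1), (895, 1), (899, 1), (901, 2), (902, 2), (909, 2), (910, 2), (917, 2), (925, 2), (928, 1), (933, 1), (934, 1), (945, 2), (947, 2), (949, 2), (951,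 2), (970, 1), (972, 1), (980, 2), (984, 2), (990, 1), (992, 1), (993, 2), (1008, 1), (1009, 2), (1011, 2), (1019, 1), (1026, 1), (1027, 2), (1038, 1), (1040, 2), (1042, 2), (1051, 2), (1052, 2), (1054, 1), (1067, 2), (1078, 2), (1086, 2), (1090, 1), (1094, 1), (1096, 1), (1104, 1), (1113, 1), (1117, 2), (1127, 2), (1135, 1), (1141, 2), (1143, 1), (1146, 1), (1154, 2), (1165, 1), (1166, 1), (1167, 2), (1172, 1), (1176, 1), (1179, 2), (1200, 1), (1203, 2), (1220, 2), (1229, 1), (1233, 2), (1235, 2), (1238, 2), (1245, 1), (1253, 2), (1259, 1), (1261, 1), (1268, 2), (1292, 1), (1315, 2), (1317, 2), (1339, 2), (1344, 1), (1346, 2), (1349, 2), (1351, 1), (1355, 2), (1357, 2), (1361, 2), (1367, 2), (1376, 2), (1380, 2), (1383, 2), (1391, 1), (1393, 2), (1397, 2), (1399, 1), (1402, 2), (1416, 2), (1419, 2), (1423, 1), (1425, 2), (1434, 1), (1446, 1), (1451, 2), (1455, 1), (1466, 1), (1471, 1), (1475, 1), (1479, 2), (1481, 2), (1483, 2), (1516, 1), (1518, 2), (1542, 2), (1547,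 2), (1553, 1), (1561, 2), (1568, 2), (1574, 2), (1577, 2), (1583, 1), (1587, 2), (1589, 2), (1590, 1), (1592, 2), (1603, 2), (1605, 2), (1607, 2), (1623, 1), (1627, 2), (1630, 1), (1636, 1), (1647, 2), (1685, 2), (1708, 2), (1724, 1), (1729, 2), (1734, 1), (1736, 1), (1740, 1), (1741, 1), (1761, 2), (1763, 1), (1768, 2), (1781, 2), (1787, 2), (1790, 1), (1794, 2), (1798, 2), (1806, 1), (1816, 1), (1823, 2), (1825, 1), (1845, 1), (1850, 2), (1851, 1), (1864, 1), (1878, 1), (1892, 2), (1893, 2), (1895, 2), (1910, 1), (1922, 1), (1939, 2), (1954, 1), (1986, 1), (1988, 1), (1990, 2), (1992, 2), (2000, 1), (2005, 2), (2006, 2), (2012, 2), (2034, 1), (2036, 2), (2039, 2), (2042, 2), (2046, 1), (2067, 2), (2071, 2), (2082, 1), (2088, 2), (2090, 2), (2092, 2), (2110, 1), (2120, 2), (2126, 2), (2135, 1), (2152, 2)], [(7, 1), (11, 1), (15, 2), (18, 2), (20, 2), (24, 2), (29, 2), (33, 2), (38, 1), (39, 1), (41, 2), (52, 1), (54, 2), (63, 2), (64, 1), (67, 2), (75, 1), (84, 1),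 (86, 2), (90, 1), (94, 2), (100, 1), (102, 1), (103, 1), (112, 2), (113, 1), (114, 1), (115, 2), (117, 2), (128, 2), (130, 1), (131, 1), (136, 1), (146, 1), (147, 1), (149, 1), (153, 2), (165, 2), (167, 1), (173, 1), (175, 1), (177, 1), (179, 1), (181, 1), (183, 1), (184, 2), (194, 2), (196, 2), (201, 1), (203, 1), (205, 1), (211, 1), (212, 2), (213, 1), (214, 1), (230, 2), (235, 1), (244, 2), (245, 2), (249, 1), (257, 2), (265, 2), (274, 1), (275, 1), (285, 1), (306, 1), (313, 1), (320, 2), (321, 2), (322, 2), (324, 2), (339, 2), (347, 2), (349, 2), (364, 2), (369, 1), (370, 2), (376, 2), (377, 2), (378, 1), (379, 1), (383, 1), (390, 1), (395, 1), (422, 2), (424, 2), (426, 2), (430, 1), (434, 2), (436, 2), (439, 2), (443, 2), (461, 1), (462, 1), (466, 2), (470, 2), (474, 1), (475, 1), (477, 1), (493, 2), (494, 1), (495, 1), (497, 2), (505, 2), (508, 2), (512, 1), (519, 1), (557, 1), (560, 1), (562, 2), (568, 1), (569, 2), (571, 1), (575, 1), (581, 2), (606, 2), (616,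 1), (622, 2), (623, 2), (646, 2), (652, 1), (662, 1), (665, 2), (667, 2), (680, 1), (684, 1), (686, 1), (688, 1), (690, 2), (697, 1), (723, 2), (725, 2), (740, 2), (750, 1), (759, 1), (761, 2), (762, 1), (764, 2), (765, 2), (766, 1), (774, 1), (794, 1), (797, 2), (801, 2), (809, 2), (818, 1), (822, 2), (827, 1), (828, 2), (860, 1), (864, 2), (868, 1), (870, 2), (880, 1), (899, 1), (909, 2), (910, 2), (918, 2), (920, 1), (925, 1), (933, 1), (934, 1), (938, 2), (947, 2), (954, 1), (956, 1), (958, 1), (963, 1), (970, 1), (980, 2), (983, 2), (984, 1), (1011, 1), (1013, 2), (1025, 2), (1027, 2), (1049, 1), (1050, 2), (1051, 2), (1052, 1), (1056, 1), (1062, 2), (1077, 1), (1088, 1), (1099, 2), (1100, 2), (1135, 2), (1144, 2), (1153, 2), (1154, 1), (1174, 1), (1181, 1), (1183, 2), (1194, 1), (1199, 2), (1202, 1), (1203, 1), (1220, 2), (1227, 1), (1233, 2), (1238, 2), (1240, 1), (1249, 2), (1259, 2), (1261, 1), (1263, 1), (1264, 1), (1281, 1), (1303, 1), (1310, 1), (1319, 1),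 (1327, 2), (1342, 2), (1346, 2), (1347, 1), (1367, 1), (1371, 2), (1378, 2), (1380, 2), (1383, 1), (1391, 2), (1397, 2), (1411, 1), (1418, 1), (1427, 1), (1437, 1), (1447, 2), (1449, 2), (1475, 1), (1477, 1), (1485, 2), (1501, 1), (1505, 2), (1522, 1), (1523, 2), (1532, 1), (1542, 2), (1551, 1), (1559, 1), (1568, 1), (1575, 2), (1583, 2), (1587, 2), (1589, 2), (1592, 2), (1603, 2), (1610, 2), (1622, 2), (1627, 1), (1655, 1), (1675, 1), (1680, 2), (1688, 2), (1694, 2), (1732, 1), (1734, 1), (1739, 1), (1747, 2), (1752, 2), (1759, 1), (1761, 1), (1766, 2), (1777, 1), (1794, 1), (1806, 1), (1812, 2), (1832, 1), (1850, 2), (1862, 2), (1868, 2), (1873, 2), (1878, 2), (1882, 2), (1890, 1), (1902, 2), (1919, 2), (1920, 1), (1944, 1), (1946, 1), (1956, 1), (1958, 2), (1960, 1), (1968, 1), (1982, 1), (2006, 1), (2013, 1), (2063, 2), (2065, 2), (2090, 2), (2108, 1), (2143, 1), (2152, 1)], [(0, 1), (1, 1), (3, 2), (9, 2), (13, 2), (15, 1), (19, 2), (20, 1), (21, 1), (26, 2), (46,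 1), (54, 2), (60, 2), (62, 1), (67, 1), (84, 1), (90, 1), (100, 1), (101, 1), (102, 2), (113, 2), (117, 2), (119, 1), (121, 1), (139, 2), (144, 2), (145, 2), (149, 2), (155, 1), (158, 1), (159, 1), (167, 2), (169, 1), (177, 2), (183, 2), (185, 2), (194, 1), (200, 2), (201, 1), (210, 2), (213, 2), (217, 1), (233, 1), (245, 2), (247, 2), (249, 2), (265, 2), (274, 2), (287, 1), (313, 2), (321, 2), (330, 1), (341, 1), (348, 2), (350, 2), (364, 1), (376, 2), (411, 2), (412, 2), (420, 1), (428, 2), (441, 2), (444, 1), (450, 1), (466, 1), (470, 2), (475, 1), (492, 1), (510, 1), (517, 1), (559, 2), (568, 1), (571, 1), (584, 2), (590, 1), (595, 2), (607, 1), (631, 1), (654, 2), (671, 1), (678, 1), (680, 1), (686, 2), (727, 1), (736, 2), (740, 2), (747, 2), (757, 1), (761, 2), (812, 2), (818, 2), (831, 2), (860, 2), (861, 2), (870, 2), (872, 2), (880, 2), (901, 1), (911, 1), (947, 2), (973, 1), (980, 1), (1011, 1), (1013, 2), (1023, 2), (1052, 1), (1056, 2), (1062, 2), (1070,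 2), (1094, 1), (1122, 2), (1166, 2), (1181, 2), (1194, 2), (1199, 2), (1200, 2), (1236, 1), (1253, 1), (1265, 2), (1293, 1), (1303, 1), (1346, 2), (1376, 1), (1393, 2), (1397, 1), (1402, 1), (1419, 1), (1423, 2), (1429, 2), (1445, 1), (1451, 2), (1512, 1), (1517, 1), (1523, 2), (1533, 2), (1534, 2), (1540, 1), (1559, 2), (1561, 1), (1589, 2), (1622, 2), (1623, 2), (1628, 2), (1694, 1), (1705, 1), (1710, 1), (1715, 1), (1734, 1), (1736, 2), (1766, 2), (1790, 2), (1798, 1), (1808, 1), (1892, 1), (1893, 1), (1914, 1), (1946, 2), (2000, 1), (2002, 1), (2006, 2), (2020, 1), (2053, 2), (2071, 1), (2086, 1), (2088, 2), (2158, 2)], [(0, 1), (1, 1), (11, 1), (18, 2), (20, 2), (21, 1), (24, 2), (29, 2), (41, 1), (63, 1), (64, 1), (75, 2), (88, 2), (101, 2), (103, 1), (107, 2), (115, 2), (117, 1), (144, 2), (149, 2), (157, 2), (192, 1), (196, 1), (212, 1), (221, 2), (231, 2), (274, 2), (309, 2), (313, 1), (322, 1), (336, 2), (364, 1), (390, 2), (520, 2), (573, 2), (605, 1), (661,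 2), (678, 1), (688, 2), (697, 2), (723, 2), (759, 1), (818, 2), (859, 2), (861, 1), (918, 2), (922, 2), (956, 2), (1001, 2), (1042, 2), (1050, 1), (1088, 2), (1167, 2), (1181, 1), (1233, 2), (1265, 2), (1346, 1), (1477, 1), (1530, 1), (1533, 2), (1579, 2), (1587, 1), (1590, 2), (1637, 1), (1656, 1), (1680, 1), (1688, 1), (1690, 2), (1706, 2), (1759, 1), (1825, 1), (1871, 2), (1886, 1), (1890, 1), (1905, 2), (1948, 1), (2012, 1), (2020, 2), (2036, 1), (2055, 2), (2073, 1), (2104, 2)], [(0, 1), (1, 2), (13, 2), (15, 2), (40, 1), (71, 2), (75, 1), (105, 1), (115, 1), (117, 2), (144, 1), (151, 1), (196, 2), (212, 1), (217, 2), (219, 1), (247, 2), (309, 2), (313, 1), (362, 1), (368, 1), (416, 2), (428, 2), (441, 2), (468, 1), (492, 2), (557, 1), (594, 1), (605, 1), (645, 1), (671, 1), (687, 2), (690, 2), (799, 1), (899, 2), (928, 2), (958, 2), (1054, 1), (1056, 2), (1061, 2), (1157, 1), (1182, 2), (1203, 2), (1409, 2), (1451, 1), (1512, 1), (1577, 2), (1590, 1), (1610, 1),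 (1622, 2), (1630, 2), (1636, 1), (1688, 1), (1706, 2), (1724, 2), (1741, 2), (1763, 1), (1794, 2), (1806, 1), (1992, 1)], [(0, 2), (7, 1), (9, 1), (18, 1), (33, 1), (38, 1), (42, 1), (52, 1), (54, 2), (61, 2), (84, 2), (105, 1), (112, 1), (130, 2), (145, 1), (155, 2), (163, 2), (175, 2), (183, 1), (184, 1), (188, 2), (194, 2), (211, 2), (214, 2), (230, 1), (243, 1), (259, 1), (274, 1), (290, 2), (305, 1), (320, 2), (330, 2), (337, 2), (341, 2), (362, 1), (381, 1), (383, 1), (389, 1), (395, 2), (420, 1), (443, 2), (470, 2), (493, 1), (510, 2), (529, 2), (559, 1), (562, 1), (625, 1), (652, 2), (673, 2), (713, 1), (723, 2), (740, 1), (820, 1), (829, 2), (859, 2), (990, 1), (1003, 2), (1042, 1), (1075, 2), (1080, 2), (1092, 1), (1112, 2), (1141, 1), (1143, 1), (1144, 1), (1146, 2), (1181, 1), (1247, 2), (1253, 2), (1261, 1), (1268, 1), (1291, 1), (1293, 1), (1323, 1), (1339, 1), (1371, 1), (1399, 2), (1407, 2), (1411, 1), (1466, 1), (1491, 2), (1507, 1), (1547, 2), (1559,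 1), (1676, 2), (1690, 1), (1706, 1), (1761, 1), (1781, 2), (1787, 1), (1828, 2), (1873, 1), (1895, 1), (1911, 1), (1952, 1), (1976, 2), (2041, 2), (2080, 1), (2090, 1), (2120, 1), (2129, 1), (2150, 1), (2158, 2)], [], [], [], [], [], [], [], [], [], [(0, 2), (3, 2), (7, 1), (9, 2), (15, 1), (19, 1), (20, 2), (22, 1), (38, 2), (39, 1), (40, 1), (44, 1), (46, 2), (60, 1), (64, 1), (69, 2), (75, 2), (82, 1), (83, 2), (84, 1), (85, 2), (86, 2), (88, 2), (90, 1), (94, 1), (102, 2), (105, 1), (107, 2), (112, 1), (114, 2), (116, 1), (119, 2), (121, 1), (129, 2), (130, 1), (131, 2), (139, 2), (144, 2), (147, 2), (157, 1), (158, 1), (171, 1), (175, 1), (177, 2), (179, 1), (181, 2), (188, 1), (192, 1), (196, 2), (198, 2), (201, 2), (203, 2), (213, 2), (231, 1), (244, 1), (245, 2), (265, 1), (274, 1), (276, 1), (285, 2), (287, 1), (288, 2), (289, 1), (292, 1), (294, 1), (298, 2), (300, 1), (302, 2), (309, 1), (311, 1), (313, 1), (315, 1), (319, 2), (320, 1), (324, 2), (326, 2),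 (328, 2), (330, 1), (337, 1), (347, 1), (348, 1), (362, 1), (368, 2), (369, 1), (376, 2), (377, 2), (378, 1), (383, 1), (388, 2), (389, 1), (395, 2), (411, 1), (414, 2), (416, 1), (418, 1), (420, 2), (426, 1), (430, 2), (436, 2), (443, 1), (461, 2), (464, 2), (468, 2), (470, 2), (472, 1), (477, 1), (492, 2), (493, 1), (494, 1), (495, 1), (505, 2), (508, 2), (518, 2), (519, 2), (520, 2), (531, 1), (537, 1), (539, 2), (553, 1), (554, 2), (557, 2), (560, 1), (561, 2), (567, 1), (568, 2), (569, 1), (571, 2), (573, 2), (581, 1), (582, 1), (584, 2), (594, 1), (607, 1), (613, 1), (614, 1), (623, 1), (650, 1), (654, 2), (656, 2), (658, 1), (660, 1), (662, 2), (667, 2), (671, 1), (684, 1), (687, 1), (690, 1), (698, 2), (709, 2), (711, 2), (713, 2), (721, 2), (725, 2), (734, 2), (740, 2), (748, 2), (750, 1), (751, 1), (759, 1), (761, 2), (762, 1), (766, 1), (773, 2), (775, 1), (781, 1), (794, 1), (799, 1), (801, 2), (802, 2), (803, 2), (805, 2), (809, 2), (811, 1), (814, 2),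 (825, 2), (827, 1), (828, 2), (829, 2), (843, 2), (859, 2), (861, 1), (866, 1), (870, 2), (876, 2), (888, 2), (889, 2), (899, 2), (911, 2), (933, 2), (951, 1), (954, 1), (960, 1), (972, 1), (973, 1), (984, 2), (990, 2), (992, 2), (995, 2), (997, 2), (1003, 1), (1007, 2), (1038, 2), (1040, 1), (1049, 2), (1050, 1), (1052, 1), (1054, 1), (1064, 1), (1067, 1), (1068, 2), (1070, 1), (1078, 2), (1086, 2), (1088, 2), (1104, 1), (1106, 2), (1108, 1), (1141, 1), (1144, 1), (1153, 2), (1154, 2), (1165, 1), (1167, 2), (1172, 2), (1193, 2), (1194, 1), (1224, 2), (1236, 2), (1247, 1), (1270, 1), (1292, 1), (1344, 1), (1346, 1), (1349, 2), (1351, 1), (1355, 2), (1363, 1), (1367, 2), (1393, 2), (1397, 2), (1399, 2), (1402, 2), (1403, 1), (1405, 2), (1429, 2), (1434, 2), (1439, 2), (1446, 2), (1449, 2), (1453, 1), (1479, 2), (1498, 2), (1511, 2), (1512, 2), (1518, 2), (1522, 1), (1533, 2), (1540, 1), (1542, 1), (1549, 2), (1577, 1), (1579, 1), (1583, 2), (1587, 2), (1589, 2), (1590,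 2), (1608, 1), (1618, 2), (1620, 1), (1622, 1), (1647, 1), (1651, 1), (1685, 1), (1686, 2), (1708, 2), (1711, 2), (1721, 2), (1729, 1), (1736, 1), (1739, 1), (1740, 2), (1768, 1), (1806, 1), (1808, 1), (1873, 2), (1882, 2), (1895, 1), (1920, 2), (1958, 2), (2029, 2), (2042, 2), (2090, 1), (2134, 1)], [(0, 2), (13, 2), (15, 1), (18, 1), (20, 1), (41, 1), (60, 1), (61, 2), (67, 2), (84, 2), (85, 1), (88, 1), (90, 1), (94, 2), (101, 2), (112, 2), (113, 1), (117, 1), (119, 1), (121, 2), (128, 1), (139, 1), (157, 1), (163, 1), (171, 2), (181, 1), (185, 1), (186, 2), (194, 2), (201, 2), (203, 2), (210, 2), (211, 2), (212, 1), (213, 1), (214, 2), (231, 2), (244, 1), (246, 2), (256, 1), (259, 1), (274, 2), (275, 2), (276, 2), (287, 2), (288, 2), (298, 1), (302, 1), (305, 2), (307, 2), (311, 2), (317, 1), (330, 2), (347, 2), (352, 2), (356, 1), (362, 2), (368, 1), (369, 1), (376, 2), (377, 2), (394, 2), (395, 1), (416, 1), (430, 2), (458, 2), (460, 1), (461, 1), (462, 1), (474,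 2), (477, 2), (492, 2), (494, 2), (495, 2), (497, 2), (505, 1), (508, 2), (517, 1), (518, 1), (519, 2), (538, 2), (554, 2), (557, 2), (561, 2), (564, 1), (571, 1), (573, 2), (591, 2), (594, 2), (597, 2), (622, 2), (662, 1), (673, 1), (677, 2), (678, 2), (680, 1), (684, 1), (697, 2), (721, 1), (729, 2), (734, 1), (740, 1), (750, 2), (764, 2), (773, 1), (779, 1), (795, 2), (797, 2), (801, 1), (802, 1), (805, 2), (822, 2), (824, 2), (825, 1), (866, 1), (880, 1), (888, 1), (891, 2), (909, 1), (934, 2), (958, 2), (960, 1), (971, 1), (980, 1), (993, 1), (1011, 2), (1037, 1), (1078, 1), (1094, 1), (1143, 2), (1146, 2), (1200, 2), (1238, 1), (1240, 2), (1292, 1), (1351, 1), (1357, 2), (1361, 2), (1393, 1), (1402, 2), (1419, 1), (1437, 1), (1568, 1), (1577, 1), (1587, 2), (1589, 1), (1607, 1), (1850, 1), (1892, 1)], [(0, 1), (3, 1), (7, 1), (9, 2), (15, 2), (18, 2), (19, 2), (20, 2), (33, 2), (39, 2), (40, 2), (41, 2), (46, 2), (52, 1), (54, 2), (60, 2), (61, 1), (64, 2), (67,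 2), (73, 2), (88, 1), (92, 2), (94, 2), (100, 1), (101, 1), (103, 1), (105, 1), (107, 1), (113, 2), (114, 1), (116, 2), (117, 2), (130, 2), (144, 2), (146, 1), (147, 1), (151, 1), (155, 2), (157, 2), (167, 1), (177, 1), (181, 1), (192, 2), (200, 1), (210, 1), (211, 1), (212, 2), (214, 1), (245, 2), (249, 1), (275, 1), (285, 1), (321, 2), (322, 2), (336, 2), (348, 2), (362, 1), (379, 2), (414, 1), (420, 2), (422, 2), (426, 2), (430, 1), (434, 2), (436, 2), (443, 1), (460, 2), (462, 1), (470, 2), (472, 2), (474, 1), (476, 1), (492, 2), (493, 2), (495, 1), (517, 2), (530, 2), (539, 1), (554, 2), (557, 2), (569, 2), (571, 1), (575, 2), (579, 1), (584, 1), (605, 2), (606, 2), (616, 2), (622, 1), (623, 2), (630, 1), (644, 1), (645, 2), (652, 2), (654, 1), (656, 2), (662, 1), (680, 1), (686, 1), (690, 1), (697, 1), (707, 1), (723, 1), (727, 2), (761, 2), (762, 1), (764, 2), (765, 2), (794, 2), (797, 2), (802, 1), (807, 2), (818, 1), (822, 1), (824, 2), (827, 2), (828, 2),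 (831, 1), (845, 1), (860, 1), (861, 2), (870, 2), (899, 2), (918, 2), (933, 1), (934, 1), (938, 2), (949, 1), (958, 1), (970, 1), (975, 2), (1013, 2), (1049, 1), (1050, 2), (1051, 2), (1056, 1), (1079, 2), (1096, 1), (1100, 2), (1108, 1), (1151, 1), (1165, 2), (1166, 2), (1181, 1), (1202, 1), (1220, 2), (1233, 2), (1236, 1), (1238, 2), (1243, 1), (1261, 2), (1305, 2), (1310, 1), (1347, 1), (1367, 1), (1483, 2), (1505, 2), (1512, 2), (1522, 1), (1523, 2), (1549, 1), (1559, 1), (1575, 2), (1610, 2), (1688, 2), (1694, 2), (1711, 1), (1717, 1), (1719, 2), (1739, 1), (1825, 1), (1920, 1), (2036, 2)], [(0, 1), (1, 1), (5, 2), (15, 1), (19, 1), (20, 1), (29, 1), (33, 1), (42, 1), (54, 2), (60, 2), (73, 1), (83, 2), (101, 1), (102, 1), (117, 2), (144, 2), (149, 2), (151, 1), (157, 2), (159, 1), (167, 2), (171, 2), (175, 2), (179, 1), (185, 2), (194, 1), (198, 1), (200, 2), (201, 1), (211, 1), (232, 1), (245, 2), (256, 2), (259, 2), (265, 2), (274, 1), (292, 1), (313, 2), (319,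 1), (320, 1), (321, 2), (322, 1), (341, 1), (348, 2), (356, 1), (369, 1), (370, 2), (376, 2), (377, 2), (379, 1), (388, 1), (436, 2), (441, 2), (466, 1), (470, 2), (495, 2), (512, 1), (519, 2), (520, 2), (560, 2), (561, 2), (567, 2), (568, 1), (575, 2), (582, 2), (625, 2), (630, 2), (654, 2), (656, 2), (658, 1), (669, 2), (677, 2), (686, 2), (707, 1), (761, 2), (775, 2), (779, 1), (782, 2), (805, 1), (814, 2), (860, 2), (866, 1), (870, 2), (876, 1), (889, 1), (910, 2), (911, 1), (939, 2), (947, 1), (949, 1), (1011, 1), (1019, 2), (1023, 2), (1037, 2), (1070, 2), (1092, 2), (1100, 1), (1104, 1), (1122, 2), (1144, 2), (1154, 1), (1165, 2), (1181, 2), (1199, 2), (1226, 1), (1235, 1), (1253, 2), (1303, 1), (1323, 2), (1418, 2), (1503, 1), (1517, 1), (1523, 2), (1559, 2), (1568, 2), (1577, 2), (1592, 2), (1658, 2), (1790, 2), (1871, 1), (1946, 2), (2031, 2)], [(0, 2), (13, 2), (15, 1), (19, 1), (24, 2), (26, 2), (29, 2), (33, 2), (46, 2), (52, 2), (62, 1), (67, 2), (75,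 2), (83, 2), (105, 2), (128, 2), (129, 2), (131, 1), (151, 1), (159, 1), (163, 2), (165, 2), (181, 2), (219, 2), (244, 1), (258, 2), (292, 1), (315, 2), (321, 1), (326, 2), (362, 1), (364, 1), (370, 1), (390, 2), (394, 1), (411, 1), (424, 1), (434, 1), (439, 1), (458, 1), (470, 1), (508, 1), (553, 2), (605, 1), (606, 2), (759, 1), (842, 2), (861, 1), (918, 2), (975, 1), (1075, 1), (1088, 2), (1092, 2), (1113, 1), (1533, 2), (1579, 1), (1680, 1), (1688, 1), (1816, 2), (2036, 1), (2098, 2)], [(5, 1), (9, 2), (13, 2), (18, 2), (19, 2), (69, 1), (75, 1), (82, 1), (86, 1), (101, 2), (107, 1), (117, 2), (129, 2), (146, 2), (155, 2), (158, 2), (201, 1), (214, 1), (276, 1), (337, 1), (395, 1), (422, 1), (462, 2), (497, 1), (605, 1), (623, 2), (658, 1), (663, 2), (687, 2), (740, 2), (748, 2), (802, 2), (874, 2), (1061, 2), (1157, 1), (1165, 2), (1203, 2), (1226, 2), (1238, 2), (1288, 2), (1451, 1), (1516, 1), (1566, 2), (1622, 2)], [(19, 2), (38, 1), (42, 1), (44, 2), (54, 2),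 (69, 2), (75, 2), (83, 2), (129, 2), (146, 1), (167, 1), (169, 1), (173, 1), (186, 1), (214, 2), (223, 2), (235, 1), (259, 1), (276, 2), (288, 2), (290, 2), (294, 2), (305, 1), (317, 2), (337, 2), (341, 2), (352, 1), (362, 1), (378, 2), (383, 1), (395, 2), (412, 2), (443, 2), (462, 2), (463, 1), (652, 2), (662, 2), (663, 1), (715, 1), (732, 1), (764, 1), (765, 1), (820, 1), (843, 2), (872, 1), (874, 1), (958, 2), (960, 1), (993, 2), (1019, 1), (1092, 1), (1108, 1), (1117, 2), (1141, 1), (1143, 1), (1165, 2), (1216, 1), (1287, 2), (1339, 1), (1466, 1), (1491, 2), (1507, 1), (1516, 2), (1541, 2), (1647, 2), (1676, 2), (1686, 2), (1920, 2), (2041, 2), (2098, 2)], [], [], [(0, 2), (18, 2), (20, 2), (21, 1), (40, 1), (41, 1), (60, 2), (61, 2), (67, 2), (69, 2), (73, 2), (75, 1), (82, 1), (83, 2), (84, 1), (85, 2), (86, 2), (90, 2), (101, 1), (103, 2), (112, 2), (113, 2), (115, 2), (119, 1), (128, 2), (129, 2), (130, 1), (131, 1), (139, 1), (144, 2), (145, 2), (158, 2), (163,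 2), (175, 1), (177, 2), (179, 1), (181, 2), (184, 2), (185, 1), (186, 1), (194, 2), (196, 2), (201, 2), (202, 2), (203, 1), (210, 2), (211, 2), (212, 1), (213, 2), (214, 1), (217, 1), (219, 2), (223, 2), (230, 2), (233, 2), (243, 2), (244, 2), (247, 2), (256, 2), (259, 2), (264, 1), (265, 1), (274, 2), (275, 1), (279, 1), (287, 1), (288, 1), (296, 1), (300, 2), (305, 1), (313, 1), (315, 1), (330, 1), (332, 2), (339, 2), (347, 2), (352, 1), (362, 1), (368, 1), (369, 2), (377, 2), (390, 2), (412, 2), (416, 1), (420, 2), (422, 1), (424, 1), (428, 1), (434, 2), (444, 2), (458, 1), (461, 1), (477, 2), (491, 2), (492, 1), (495, 1), (510, 2), (512, 2), (522, 2), (527, 1), (529, 2), (554, 1), (555, 2), (557, 2), (559, 1), (562, 1), (568, 2), (579, 2), (582, 2), (590, 2), (644, 2), (646, 2), (661, 1), (662, 2), (665, 2), (667, 2), (673, 1), (680, 2), (711, 2), (713, 1), (715, 1), (717, 2), (723, 2), (727, 2), (732, 1), (738, 2), (745, 2), (747, 1), (748, 1), (757, 2), (761,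 2), (762, 1), (764, 1), (765, 1), (766, 1), (779, 2), (802, 2), (814, 2), (816, 1), (818, 2), (822, 2), (824, 1), (828, 1), (843, 2), (860, 2), (861, 1), (866, 2), (876, 1), (888, 2), (897, 1), (909, 1), (910, 2), (917, 2), (934, 1), (958, 1), (993, 2), (1001, 1), (1011, 2), (1052, 1), (1078, 2), (1079, 2), (1090, 1), (1094, 1), (1099, 1), (1104, 2), (1122, 2), (1141, 2), (1143, 1), (1144, 2), (1167, 2), (1200, 2), (1224, 2), (1238, 2), (1251, 2), (1253, 1), (1263, 2), (1276, 1), (1292, 1), (1315, 2), (1327, 1), (1351, 1), (1357, 2), (1361, 2), (1367, 2), (1393, 2), (1399, 1), (1427, 1), (1465, 2), (1479, 2), (1568, 2), (1577, 1), (1590, 1), (1592, 1), (1706, 2), (1892, 2)], [(15, 1), (20, 1), (26, 1), (29, 1), (33, 1), (38, 2), (39, 2), (41, 1), (46, 1), (52, 2), (60, 1), (64, 2), (84, 2), (88, 1), (90, 2), (92, 1), (94, 2), (100, 2), (102, 2), (103, 1), (112, 1), (113, 2), (114, 2), (115, 1), (117, 1), (121, 1), (128, 1), (130, 2), (146, 2), (153, 2), (167, 2), (175,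 2), (177, 1), (183, 2), (184, 1), (196, 1), (201, 2), (211, 2), (212, 1), (214, 2), (230, 1), (244, 1), (245, 1), (257, 1), (265, 1), (274, 2), (275, 2), (313, 2), (317, 2), (320, 1), (321, 1), (330, 2), (347, 1), (369, 2), (370, 1), (378, 2), (412, 2), (418, 2), (422, 1), (424, 1), (430, 2), (432, 2), (443, 1), (461, 2), (468, 1), (474, 2), (475, 2), (477, 2), (494, 2), (497, 1), (522, 2), (531, 1), (557, 2), (575, 2), (577, 2), (581, 1), (594, 2), (606, 1), (622, 1), (686, 2), (688, 2), (690, 2), (723, 2), (725, 1), (740, 1), (774, 2), (779, 1), (794, 2), (811, 1), (818, 2), (828, 1), (868, 2), (870, 1), (872, 2), (934, 2), (980, 1), (983, 1), (984, 2), (1051, 1), (1100, 1), (1102, 1), (1202, 2), (1227, 2), (1261, 2), (1347, 2)], [(0, 2), (3, 2), (11, 2), (13, 2), (15, 2), (18, 1), (19, 1), (29, 2), (33, 2), (39, 2), (40, 1), (62, 1), (64, 1), (69, 1), (73, 1), (101, 2), (102, 1), (112, 1), (113, 2), (116, 1), (119, 2), (121, 1), (166, 2), (169, 1), (171, 1), (179,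 2), (198, 2), (210, 2), (211, 2), (213, 2), (214, 1), (221, 2), (230, 1), (232, 2), (233, 1), (243, 1), (247, 2), (259, 1), (264, 1), (274, 1), (287, 1), (292, 2), (319, 2), (320, 2), (322, 2), (369, 2), (370, 1), (377, 1), (411, 2), (420, 1), (432, 1), (434, 1), (436, 1), (444, 1), (450, 1), (468, 2), (475, 1), (492, 1), (495, 1), (508, 1), (512, 1), (517, 1), (519, 1), (520, 1), (537, 1), (559, 2), (560, 1), (573, 2), (577, 1), (579, 1), (582, 1), (590, 1), (591, 2), (597, 1), (630, 1), (631, 1), (669, 1), (671, 1), (678, 1), (707, 2), (727, 1), (745, 1), (747, 2), (766, 1), (779, 2), (782, 1), (805, 2), (812, 2), (866, 2), (876, 2), (947, 1), (970, 1), (1001, 1), (1035, 1), (1037, 1), (1052, 1), (1064, 1), (1096, 1), (1104, 2), (1144, 1), (1154, 2), (1200, 2), (1226, 2), (1236, 1), (1293, 1), (1323, 1), (1418, 1), (1419, 1), (1568, 1), (1579, 1), (1592, 1), (1892, 1), (1893, 1)], [(7, 1), (13, 1), (15, 2), (20, 1), (26, 1), (31, 1), (62, 2), (83, 1), (85, 1), (115,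 2), (119, 2), (128, 1), (131, 2), (157, 2), (165, 1), (179, 1), (202, 1), (219, 1), (231, 2), (244, 2), (275, 2), (292, 2), (311, 2), (326, 1), (332, 1), (349, 2), (362, 2), (370, 2), (394, 1), (422, 2), (424, 2), (439, 2), (458, 2), (508, 2), (531, 2), (569, 2), (594, 2), (622, 1), (658, 1), (661, 2), (680, 2), (697, 2), (740, 1), (774, 1), (824, 2), (842, 1), (870, 2), (1026, 2), (1050, 1), (1181, 1), (1346, 1), (1367, 2), (1579, 1)], [(20, 1), (26, 1), (33, 1), (82, 2), (112, 2), (115, 1), (144, 1), (145, 2), (146, 1), (155, 1), (157, 2), (158, 1), (173, 1), (184, 1), (192, 1), (212, 1), (214, 2), (230, 1), (247, 2), (276, 2), (309, 2), (311, 2), (368, 1), (389, 2), (416, 2), (422, 2), (428, 2), (462, 1), (497, 1), (594, 1), (623, 1), (645, 1), (654, 2), (658, 2), (663, 1), (740, 1), (748, 1), (799, 1), (802, 1), (874, 1), (899, 2), (1056, 2), (1165, 1), (1226, 1), (1238, 1), (1566, 1)], [(0, 2), (7, 1), (9, 2), (11, 1), (15, 1), (19, 1), (20, 1), (33, 1), (39, 2),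 (40, 2), (41, 1), (44, 2), (61, 1), (64, 1), (90, 1), (101, 1), (114, 1), (129, 1), (163, 2), (169, 2), (173, 2), (184, 2), (186, 2), (188, 2), (211, 2), (223, 1), (230, 1), (231, 1), (247, 2), (256, 2), (274, 1), (276, 1), (292, 1), (298, 1), (317, 1), (320, 2), (330, 2), (352, 2), (378, 1), (389, 1), (420, 1), (436, 2), (462, 1), (480, 1), (493, 1), (495, 2), (555, 2), (625, 1), (662, 1), (663, 2), (713, 1), (721, 2), (723, 2), (725, 1), (732, 2), (764, 2), (872, 2), (874, 2), (880, 2), (937, 1), (958, 1), (960, 2), (993, 1), (1019, 2), (1144, 1), (1165, 1), (1216, 2), (1253, 2), (1287, 1), (1534, 1), (1597, 1)], [], [], [], [(0, 2), (3, 2), (19, 1), (21, 1), (38, 1), (39, 2), (40, 1), (46, 1), (60, 1), (63, 2), (64, 2), (67, 2), (73, 1), (82, 2), (84, 1), (88, 2), (90, 1), (101, 2), (102, 1), (105, 2), (107, 2), (112, 2), (113, 1), (116, 1), (128, 2), (129, 1), (130, 2), (144, 2), (145, 2), (157, 1), (163, 1), (173, 1), (175, 1), (177, 2), (179, 1), (183, 1), (184,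 2), (188, 2), (192, 1), (194, 2), (196, 2), (200, 2), (201, 1), (210, 2), (213, 1), (230, 2), (244, 2), (257, 2), (287, 2), (300, 2), (306, 1), (309, 1), (337, 1), (347, 2), (349, 2), (369, 1), (377, 2), (395, 1), (414, 2), (420, 2), (443, 1), (452, 2), (461, 1), (472, 1), (477, 1), (492, 1), (494, 1), (497, 2), (505, 2), (517, 1), (554, 1), (557, 2), (560, 1), (568, 1), (581, 2), (622, 1), (667, 1), (723, 1), (740, 2), (750, 2), (774, 1), (801, 2)], [(0, 2), (1, 2), (3, 1), (9, 2), (13, 1), (15, 2), (19, 2), (20, 2), (21, 2), (54, 1), (60, 1), (84, 2), (101, 2), (102, 1), (113, 2), (117, 1), (119, 2), (139, 1), (144, 1), (145, 1), (155, 2), (158, 1), (159, 2), (167, 1), (169, 2), (175, 2), (177, 1), (183, 1), (192, 1), (200, 1), (201, 2), (210, 1), (213, 1), (247, 1), (249, 1), (265, 1), (287, 2), (321, 1), (363, 1), (444, 2), (452, 1), (475, 2), (492, 2), (517, 2), (568, 2), (631, 2)], [(0, 1), (1, 1), (19, 2), (31, 2), (33, 1), (46, 1), (52, 1), (63, 1), (67, 1),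 (85, 2), (101, 2), (105, 1), (121, 2), (129, 1), (151, 2), (159, 2), (163, 1), (181, 1), (183, 1), (196, 1), (202, 2), (212, 1), (258, 1), (274, 2), (275, 1), (311, 1), (313, 1), (321, 2), (322, 1), (349, 1), (394, 1), (411, 2), (594, 1), (622, 2), (680, 1), (740, 2), (774, 2), (824, 1)], [(0, 1), (1, 2), (18, 2), (19, 1), (26, 2), (33, 2), (40, 1), (73, 1), (84, 2), (107, 2), (112, 2), (116, 2), (129, 1), (157, 2), (173, 2), (183, 2), (184, 2), (192, 2), (201, 2), (221, 1), (230, 2), (265, 2), (311, 1), (362, 1), (389, 1), (395, 2), (492, 2), (497, 1), (750, 2)], [(7, 2), (9, 2), (18, 2), (33, 1), (38, 2), (42, 1), (54, 1), (61, 1), (84, 1), (112, 2), (121, 2), (130, 1), (136, 2), (145, 2), (163, 1), (175, 1), (183, 2), (184, 2), (188, 1), (211, 1), (214, 1), (230, 2), (243, 2), (290, 1), (330, 1), (362, 2), (383, 2), (389, 2), (395, 1), (723, 2)], [], [], [], [], [(0, 1), (5, 1), (9, 2), (11, 1), (15, 1), (21, 1), (39, 1), (40, 2), (64, 2), (69, 2), (84, 1), (101,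 1), (105, 1), (112, 2), (116, 2), (130, 2), (139, 2), (145, 2), (157, 1), (166, 1), (175, 1), (183, 2), (230, 2), (243, 2), (256, 1)], [(0, 2), (1, 2), (20, 1), (21, 2), (24, 1), (41, 2), (63, 2), (64, 2), (75, 1), (101, 1), (157, 1), (212, 2)], [(5, 2), (9, 2), (15, 2), (18, 2), (20, 2), (69, 2), (84, 1), (101, 1), (112, 2), (116, 1), (145, 1), (157, 2), (166, 2), (183, 1), (221, 2)], [(5, 1), (9, 2), (11, 2), (18, 1), (24, 1), (44, 2), (61, 2), (69, 1), (75, 1), (84, 2), (105, 1), (112, 1), (114, 2), (130, 2), (145, 1), (146, 2), (167, 2), (175, 2), (183, 1), (184, 2), (231, 2), (243, 1), (247, 1), (256, 1), (298, 2), (518, 2)], [], [], [], [], [], [(0, 1), (7, 2), (11, 1), (20, 1), (21, 1), (40, 1), (41, 1), (64, 1)], [(0, 2), (1, 1), (15, 1), (40, 2), (115, 2)], [(20, 2), (24, 2), (39, 1), (40, 1), (41, 2), (61, 2), (64, 2), (101, 2)], [], [], [], [], [], [], [(9, 2)], [(5, 2)], [], [], [], [], [], [], [], [], [], [], [], [], [], [], [], [], [], [], [(0, 1)], [],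 [], []]

end Cfsg.Agent.Lib.Helper29.FoxO73CS3Cyc
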