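import Cfsg.Agent.Lib.Helper29.FoxO73CS3
import Cfsg.Agent.Lib.Helper29.FoxO73CS3CycA
import Cfsg.Agent.Lib.Helper29.O73CTabA
set_option autoImplicit false
set_option maxRecDepth 100000
set_option maxHeartbeats 0

namespace Cfsg.Agent.Lib.Helper29.FoxO73CS3ChkA
open Cfsg.Agent.Lib.Helper28.SchurFox Cfsg.Agent.Lib.Helper29.SchurFoxSparse Cfsg.Agent.Lib.Helper29.FoxO73CS3 Cfsg.Agent.Lib.Helper29.FoxO73CS3Cyc Cfsg.Agent.Lib.Helper29.O73CTabA

theorem hstatic : data.staticOK table.tau = true := by decide +kernel

theorem hcyc4 : cycleOKS data table.tau 4 cyc4 = true := by decide +kernel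
theorem hcyc9 : cycleOKS data table.tau 9 cyc9 = true := by decide +kernel
theorem hcyc14 : cycleOKS data table.tau 14 cyc14 = true := by decide +kernel
theorem hcyc18 : cycleOKS data table.tau 18 cyc18 = true := by decide +kernel
theorem hcyc22 : cycleOKS data table.tau 22 cyc22 = true := by decide +kernel
theorem hcyc26 : cycleOKS data table.tau 26 cyc26 = true := by decide +kernel
theorem hcyc28 : cycleOKS data table.tau 28 cyc28 = true := by decide +kernel
theorem hcyc30 : cycleOKS data table.tau 30 cyc30 = true := by decide +kernel
theorem hcyc32 : cycleOKS data table.tau 32 cyc32 = true := by decide +kernel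
theorem hcyc33 : cycleOKS data table.tau 33 cyc33 = true := by decide +kernel
theorem hcyc35 : cycleOKS data table.tau 35 cyc35 = true := by decide +kernel
theorem hcyc36 : cycleOKS data table.tau 36 cyc36 = true := by decide +kernel
theorem hcyc37 : cycleOKS data table.tau 37 cyc37 = true := by decide +kernel
theorem hcyc42 : cycleOKS data table.tau 42 cyc42 = true := by decide +kernel
theorem hcyc47 : cycleOKS data table.tau 47 cyc47 = true := by decide +kernel
theorem hcyc53 : cycleOKS data table.tau 53 cyc53 = true := by decide +kernel
theorem hcyc56 : cycleOKS data table.tau 56 cyc56 = true := by decide +kernel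
theorem hcyc59 : cycleOKS data table.tau 59 cyc59 = true := by decide +kernel
theorem hcyc62 : cycleOKS data table.tau 62 cyc62 = true := by decide +kernel
theorem hcyc63 : cycleOKS data table.tau 63 cyc63 = true := by decide +kernel
theorem hcyc69 : cycleOKS data table.tau 69 cyc69 = true := by decide +kernel
theorem hcyc70 : cycleOKS data table.tau 70 cyc70 = true := by decide +kernel
theorem hcyc79 : cycleOKS data table.tau 79 cyc79 = true := by decide +kernel
theorem hcyc84 : cycleOKS data table.tau 84 cyc84 = true := by decide +kernel
theorem hcyc88 : cycleOKS data table.tau 88 cyc88 = true := by decide +kernel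

end Cfsg.Agent.Lib.Helper29.FoxO73CS3ChkA
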