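import Cfsg.Agent.Lib.Helper28.SchurFoxD
set_option autoImplicit false

namespace Cfsg.Agent.Lib.Helper29.FoxTitsHP2
open Cfsg.Agent.Lib.Helper28.SchurFox

def c0_0 : ℕ := 0x402410809251000000000000000000000004002409ce0931c02504c0000000000000000021042ecc950ea000000001858c0000b9
def c0_1 : ℕ := 0x9800000000000002200c2220230d0818c0693000000000000000000002e011066d88017441780000000000001121642a800000bbe01
def c0_2 : ℕ := 0x4404002000804000004050004014280005000290082000a01000005002a0204500400140110290802a1450104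
def c0_3 : ℕ := 0x800004109004001081444015483
def c0_4 : ℕ := 0x0
def c0_5 : ℕ := 0x0
def c1_0 : ℕ := 0x402412ccbed140000000000000000000000006670d5e9d7e1c69f780000000000000000025d56cf60951f0000000012807600041
def c1_1 : ℕ := 0x9800000000000002200c2220b36d4a6d82bc7800000000000000000000e2d34679de473523b0000000000000342bbd2580000068c00
def c1_2 : ℕ := 0x440408204080080080405050401528882100829008a280209022201510aa20552000a5445528928a000010513
def c1_3 : ℕ := 0x20004108005020000000800485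
def c1_4 : ℕ := 0x18
def c1_5 : ℕ := 0x0
def c2_0 : ℕ := 0x241040048100000000000000000000000600010592001d8849f240000000000000000034904a28195168000000009d73e001f1
def c2_1 : ℕ := 0x800000000000000200000000920000300395000000000000000000000242404275024501228000000000000000094d35800000cb402
def c2_2 : ℕ := 0x40008040401000150008000080008080808000000015020000500000a404440802880a0045451
def c2_3 : ℕ := 0x21004101000001000044810425
def c2_4 : ℕ := 0x23
def c2_5 : ℕ := 0x0
def c3_0 : ℕ := 0xc004c0000000000000000000000000000504140a54085d6400000000000000000025844c4f191cf8000000019da3a000e0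
def c3_1 : ℕ := 0x20009008002002d53000000000000000000000024160180205013a1800000000000000689169c000005c602
def c3_2 : ℕ := 0x80000010400120080000a01000808000102000550022201400008004050a1028028044015
def c3_3 : ℕ := 0x100000020000009000020080454a10027
def c3_4 : ℕ := 0xb
def c3_5 : ℕ := 0x1

/-- the certificate -/
def data : FoxData where
  n := 432
  d := 2
  p := 2
  w := 11
  mw := 2048
  cw := 1
  mc := 2
  paths := [[0, 0, 0], [2, 2, 2], [3, 0, 3, 0, 3, 0, 3, 0], [2, 0, 2, 0, 2, 0, 2, 0, 2, 0, 2, 0, 2, 0, 2, 0], [2, 1, 3, 0, 2, 1, 2, 0, 2, 1, 3, 0, 2, 1, 2, 0, 2, 1, 3, 0, 2, 1, 2, 0], [3, 0, 2, 0, 2, 0, 3, 0, 2, 0, 2, 0, 3, 0, 2, 0, 2, 0, 3, 0, 2, 0, 2, 0, 3, 0, 2, 0, 2, 0, 3, 0, 2, 0, 2, 0, 3, 0, 2, 0, 2, 0, 3, 0, 2, 0, 2, 0, 3, 0, 2, 0, 2, 0, 3, 0, 2, 0, 2, 0, 3, 0, 2, 0, 2, 0, 3, 0, 2, 0, 2, 0, 3, 0, 2, 0, 2, 0]]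
  cycles := [[c0_0, c0_1, c0_2, c0_3, c0_4, c0_5], [c1_0, c1_1, c1_2, c1_3, c1_4, c1_5], [c2_0, c2_1, c2_2, c2_3, c2_4, c2_5], [c3_0, c3_1, c3_2, c3_3, c3_4, c3_5]]
  Lam := [[66, 74, 51, 19, 0, 0], [98, 98, 77, 12, 2, 0], [68, 50, 39, 14, 3, 0], [63, 49, 38, 17, 3, 1]]
  S := [[1, 0, 0, 0, 0, 0], [0, 1, 0, 0, 0, 0]]
  Tm := [[0, 0, 0, 0], [0, 0, 0, 0], [0, 1, 0, 0], [1, 1, 0, 0], [0, 1, 1, 0], [1, 0, 1, 1]]

end Cfsg.Agent.Lib.Helper29.FoxTitsHP2
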