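import Mathlib
import Cfsg.Agent.Lib.Helper29.FrStdDefs
import Cfsg.Agent.Lib.Helper29.Fr2Std
import Cfsg.Agent.Lib.Helper15.Fr2S2
import Cfsg.Agent.Lib.Helper15.Fr2S3
import Cfsg.Agent.Lib.Helper17.OC2Defs
import Cfsg.Agent.Lib.Helper17.OC2Tool
import Cfsg.Agent.Lib.Helper5.NDMax
import Cfsg.Agent.Lib.Helper5.TSMax

/-!
S5679 / S5696 (orthogonal FRAMES), the CORE in the standard model `stdQ κ F c = c * Σ x_i²`, ODD dimension, in the
world of `Cfsg.isometryGroup`: the overgroup data `FS c M` (`M` lies between the monomial elements of `Ω` and `Ω`),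
the ROOTS `IsRt c M a` (unit vectors `a` with `-r_a ∈ M`, helper17's `negRefl`), the statement `AllRoots` (every unit
vector is a root) and the seed `Seed3P` (all `r_a r_b`, `a b` in a coordinate 3-space with `Q a Q b` a square, lie in `M`).
Plan: notes/S5679_core_plan_helper29.md.
-/

set_option autoImplicit false
set_option linter.unusedSectionVars false
set_option linter.unusedVariables false

namespace Cfsg.Agent.Lib.Helper29.Fr3

open Module QuadraticMap Matrix Cfsg.Agent.Lib.Helper25.CD Cfsg.Agent.Lib.Helper25.Spin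
  Cfsg.Agent.Lib.Helper5.NSMax Cfsg.Agent.Lib.Helper5.PairMax Cfsg.Agent.Lib.Helper17.OC2
  Cfsg.Agent.Lib.Helper29.FrStd Cfsg.Agent.Lib.Helper11.Mono

variable {κ : Type} [Fintype κ] [DecidableEq κ] {F : Type*} [Field F] [Fintype F]

/-- the overgroup data: `M` lies between the monomial elements of `Ω` and `Ω`; odd dimension `≥ 7`, odd characteristic -/
structure FS (c : F) (M : Subgroup ↥(Cfsg.isometryGroup F ⇑(stdQ κ F c))) : Prop where
  h2 : (2 : F) ≠ 0
  hc : c ≠ 0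
  oddn : Odd (Fintype.card κ)
  card : 7 ≤ Fintype.card κ
  le : M ≤ Cfsg.Omega F ⇑(stdQ κ F c)
  mono : ∀ g : ↥(Cfsg.isometryGroup F ⇑(stdQ κ F c)), g ∈ Cfsg.Omega F ⇑(stdQ κ F c) →
    IsMono ((g : GL κ F) : Matrix κ κ F) → g ∈ M

/-- `a` is a ROOT of `M`: a unit vector with `-r_a ∈ M` -/
def IsRt (c : F) (M : Subgroup ↥(Cfsg.isometryGroup F ⇑(stdQ κ F c))) (a : κ → F) : Prop :=
  a ⬝ᵥ a = 1 ∧ negRefl (stdQ κ F c) a ∈ M

/-- every unit vector is a root -/
def AllRoots (c : F) (M : Subgroup ↥(Cfsg.isometryGroup F ⇑(stdQ κ F c))) : Prop :=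
  ∀ a : κ → F, a ⬝ᵥ a = 1 → IsRt c M a

/-- `a` is supported on `J` -/
def SuppIn (J : Finset κ) (a : κ → F) : Prop := ∀ i, i ∉ J → a i = 0

/-- the SEED: `M` contains `Ω` of every coordinate 3-space (in the form: all products `r_a r_b`, `a b` nonsingular vectors
of the 3-space with `Q a * Q b` a square) -/
def Seed3P (c : F) (M : Subgroup ↥(Cfsg.isometryGroup F ⇑(stdQ κ F c))) : Prop :=
  ∀ J : Finset κ, J.card = 3 → ∀ a b : κ → F, SuppIn J a → SuppIn J b → stdQ κ F c a ≠ 0 → stdQ κ F c b ≠ 0 →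
    IsSquare (stdQ κ F c a * stdQ κ F c b) → reflM (stdQ κ F c) a * reflM (stdQ κ F c) b ∈ M

/-- `a` has at least two non-zero coordinates (a root which is not `± e_i`) -/
def NonB (a : κ → F) : Prop := ∃ i j, i ≠ j ∧ a i ≠ 0 ∧ a j ≠ 0

lemma stdQ_eq_dot (c : F) (x : κ → F) : stdQ κ F c x = c * (x ⬝ᵥ x) := by
  rw [stdQ_apply]
  rfl

lemma polar_eq_dot (c : F) (x y : κ → F) : polar (stdQ κ F c) x y = 2 * c * (x ⬝ᵥ y) := by
  rw [polar_stdQ]
  rfl

end Cfsg.Agent.Lib.Helper29.Fr3
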