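import Mathlib
set_option autoImplicit false
set_option maxRecDepth 100000

namespace Cfsg.Agent.Lib.Helper29.G23CDef

/-- the generators -/
inductive Gen
  | a
  | b
  | t
  | z
  deriving DecidableEq

/-- the relators -/
def relWords : List (List (Gen × Bool)) := [
  [(.a, true), (.a, true), (.a, true)],
  [(.b, true), (.b, true), (.b, true)],
  [(.a, true), (.b, false), (.a, true), (.b, false), (.a, true), (.b, false), (.a, true), (.b, false)],
  [(.a, true), (.b, true), (.a, true), (.b, true), (.a, true), (.b, true), (.a, true), (.b, true), (.a, true), (.b, true), (.a, true), (.b, true), (.a, true), (.b, true), (.a, true), (.b, true)],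
  [(.a, true), (.b, true), (.a, false), (.b, true), (.a, true), (.b, false), (.a, false), (.b, true), (.a, true), (.b, true), (.a, false), (.b, true), (.a, true), (.b, false), (.a, false), (.b, true), (.a, true), (.b, true), (.a, false), (.b, true), (.a, true), (.b, false), (.a, false), (.b, true)],
  [(.a, true), (.b, true), (.a, true), (.b, true), (.a, true), (.b, false), (.a, true), (.b, true), (.a, true), (.b, true), (.a, true), (.b, false), (.a, true), (.b, true), (.a, true), (.b, true), (.a, true), (.b, false), (.a, true), (.b, true), (.a, true), (.b, true), (.a, true), (.b, false), (.a, true), (.b, true), (.a, true), (.b, true), (.a, true), (.b, false), (.a, true), (.b, true), (.a, true), (.b, true), (.a, true), (.b, false), (.a, true), (.b, true), (.a, true), (.b, true), (.a, true), (.b, false), (.a, true), (.b, true), (.a, true), (.b, true), (.a, true), (.b, false), (.a, true), (.b, true), (.a, true), (.b, true), (.a, true), (.b, false), (.a, true), (.b, true), (.a, true), (.b, true), (.a, true), (.b, false), (.a, true), (.b, true), (.a, true), (.b, true), (.a, true), (.b, false), (.a, true), (.b, true), (.a, true), (.b, true), (.a, true), (.b, false), (.a, true),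 (.b, true), (.a, true), (.b, true), (.a, true), (.b, false)],
  [(.z, true), (.z, true), (.z, true)],
  [(.z, false), (.a, false), (.z, true), (.a, true)],
  [(.z, false), (.b, false), (.z, true), (.b, true)],
  [(.z, false), (.t, false), (.z, true), (.t, true)],
  [(.t, true), (.t, true)],
  [(.t, true), (.b, false), (.a, false), (.b, false), (.a, false), (.b, true), (.t, true), (.a, false), (.b, false), (.a, false), (.b, false), (.a, true)],
  [(.t, true), (.a, true), (.b, true), (.a, true), (.b, false), (.a, false), (.t, true), (.b, false), (.a, true), (.b, false), (.a, false), (.b, true), (.a, false), (.b, false), (.a, true), (.b, true), (.a, false), (.b, true), (.z, true)],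
  [(.t, true), (.a, true), (.t, true), (.a, true), (.t, true), (.a, true), (.t, true), (.a, true), (.t, true), (.a, true), (.t, true), (.a, true)],
  [(.t, true), (.a, false), (.b, true), (.a, false), (.b, true), (.t, true), (.a, false), (.b, true), (.a, false), (.b, true), (.t, true), (.a, false), (.b, true), (.a, false), (.b, true)] ]

end Cfsg.Agent.Lib.Helper29.G23CDef
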