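import Cfsg.Agent.Lib.Helper28.TC2Upper
import Cfsg.Agent.Lib.Helper29.TCG23CDataC0
import Cfsg.Agent.Lib.Helper29.TCG23CDataC1
import Cfsg.Agent.Lib.Helper29.TCG23CDataC2
import Cfsg.Agent.Lib.Helper29.TCG23CDataC3
import Cfsg.Agent.Lib.Helper29.TCG23CDataC4
set_option autoImplicit false
set_option maxRecDepth 100000

namespace Cfsg.Agent.Lib.Helper29.TCG23CData
open Cfsg.Agent.Lib.Helper28.TC2Upper

/-- relators -/
def relT : BT (ℕ × List ℕ × List ℕ) := (BT.node 7 (BT.node 3 (BT.node 1 (BT.node 0 (BT.leaf (3, [0, 0, 0], [1, 1, 1])) (BT.leaf (3, [2, 2, 2], [3, 3, 3]))) (BT.node 2 (BT.leaf (8, [3, 0, 3, 0, 3, 0, 3, 0], [1, 2, 1, 2, 1, 2, 1, 2])) (BT.leaf (16, [2, 0, 2, 0, 2, 0, 2, 0, 2, 0, 2, 0, 2, 0, 2, 0], [1, 3, 1, 3, 1, 3, 1, 3, 1, 3, 1, 3, 1, 3, 1, 3])))) (BT.node 5 (BT.node 4 (BT.leaf (24, [2, 1, 3, 0, 2, 1, 2, 0, 2, 1, 3, 0, 2, 1, 2, 0, 2, 1, 3, 0, 2, 1,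 2, 0], [1, 3, 0, 3, 1, 2, 0, 3, 1, 3, 0, 3, 1, 2, 0, 3, 1, 3, 0, 3, 1, 2, 0, 3])) (BT.leaf (78, [3, 0, 2, 0, 2, 0, 3, 0, 2, 0, 2, 0, 3, 0, 2, 0, 2, 0, 3, 0, 2, 0, 2, 0, 3, 0, 2, 0, 2, 0, 3, 0, 2, 0, 2, 0, 3, 0, 2, 0, 2, 0, 3, 0, 2, 0, 2, 0, 3, 0, 2, 0, 2, 0, 3, 0, 2, 0, 2, 0, 3, 0, 2, 0, 2, 0, 3, 0, 2, 0, 2, 0, 3, 0, 2, 0, 2, 0], [1, 3, 1, 3, 1, 2, 1, 3, 1, 3, 1, 2, 1, 3, 1, 3, 1, 2, 1, 3, 1, 3, 1, 2, 1, 3, 1, 3, 1, 2, 1, 3, 1, 3, 1, 2, 1, 3, 1, 3, 1, 2, 1, 3, 1, 3, 1, 2, 1, 3, 1, 3, 1, 2, 1, 3, 1, 3, 1, 2, 1, 3, 1, 3, 1, 2, 1, 3, 1, 3, 1, 2, 1, 3, 1, 3, 1, 2]))) (BT.node 6 (BT.leaf (3, [6, 6, 6], [7, 7, 7])) (BT.leaf (4, [0, 6, 1, 7], [6, 0, 7, 1]))))) (BT.node 11 (BT.node 9 (BT.node 8 (BT.leaf (4, [2, 6, 3, 7], [6, 2, 7, 3])) (BT.leaf (4, [4, 6, 5, 7], [6, 4, 7, 5]))) (BT.node 10 (BT.leaf (2, [4, 4], [5, 5])) (BT.leaf (12, [0, 3, 1, 3, 1, 4, 2, 1, 3, 1, 3,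 4], [5, 2, 0, 2, 0, 3, 5, 0, 2, 0, 2, 1])))) (BT.node 13 (BT.node 12 (BT.leaf (19, [6, 2, 1, 2, 0, 3, 1, 2, 1, 3, 0, 3, 4, 1, 3, 0, 2, 0, 4], [5, 1, 3, 1, 2, 0, 5, 2, 1, 2, 0, 3, 0, 2, 1, 3, 0, 3, 7])) (BT.leaf (12, [0, 4, 0, 4, 0, 4, 0, 4, 0, 4, 0, 4], [5, 1, 5, 1, 5, 1, 5, 1, 5, 1, 5, 1]))) (BT.leaf (15, [2, 1, 2, 1, 4, 2, 1, 2, 1, 4, 2, 1, 2, 1, 4], [5, 0, 3, 0, 3, 5, 0, 3, 0, 3, 5, 0, 3, 0, 3])))))
/-- subgroup generators -/
def subT : BT (ℕ × List ℕ × List ℕ) := (BT.node 0 (BT.leaf (1, [0], [1])) (BT.leaf (1, [2], [3])))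
/-- fact chunks -/
def colET : BT ℕ := (BT.node 1246 (BT.node 623 (BT.node 311 (BT.node 155 (BT.node 77 (BT.node 38 (BT.node 19 (BT.node 9 (BT.node 4 (BT.node 2 (BT.node 1 (BT.node 0 (BT.leaf cE0) (BT.leaf cE1)) (BT.leaf cE2)) (BT.node 3 (BT.leaf cE3) (BT.leaf cE4))) (BT.node 7 (BT.node 6 (BT.node 5 (BT.leaf cE5) (BT.leaf cE6)) (BT.leaf cE7)) (BT.node 8 (BT.leaf cE8) (BT.leaf cE9)))) (BT.node 14 (BT.node 12 (BT.node 11 (BT.node 10 (BT.leaf cE10) (BT.leaf cE11)) (BT.leaf cE12)) (BT.node 13 (BT.leaf cE13) (BT.leaf cE14))) (BT.node 17 (BT.node 16 (BT.node 15 (BT.leaf cE15) (BT.leaf cE16)) (BT.leaf cE17)) (BT.node 18 (BT.leaf cE18) (BT.leaf cE19))))) (BT.node 29 (BT.node 24 (BT.node 22 (BT.node 21 (BT.node 20 (BT.leaf cE20) (BT.leaf cE21)) (BT.leaf cE22)) (BT.node 23 (BT.leaf cE23) (BT.leaf cE24))) (BT.node 27 (BT.node 26 (BT.node 25 (BT.leaf cE25) (BT.leaf cE26))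 (BT.leaf cE27)) (BT.node 28 (BT.leaf cE28) (BT.leaf cE29)))) (BT.node 34 (BT.node 32 (BT.node 31 (BT.node 30 (BT.leaf cE30) (BT.leaf cE31)) (BT.leaf cE32)) (BT.node 33 (BT.leaf cE33) (BT.leaf cE34))) (BT.node 36 (BT.node 35 (BT.leaf cE35) (BT.leaf cE36)) (BT.node 37 (BT.leaf cE37) (BT.leaf cE38)))))) (BT.node 58 (BT.node 48 (BT.node 43 (BT.node 41 (BT.node 40 (BT.node 39 (BT.leaf cE39) (BT.leaf cE40)) (BT.leaf cE41)) (BT.node 42 (BT.leaf cE42) (BT.leaf cE43))) (BT.node 46 (BT.node 45 (BT.node 44 (BT.leaf cE44) (BT.leaf cE45)) (BT.leaf cE46)) (BT.node 47 (BT.leaf cE47) (BT.leaf cE48)))) (BT.node 53 (BT.node 51 (BT.node 50 (BT.node 49 (BT.leaf cE49) (BT.leaf cE50)) (BT.leaf cE51)) (BT.node 52 (BT.leaf cE52) (BT.leaf cE53))) (BT.node 56 (BT.node 55 (BT.node 54 (BT.leaf cE54) (BT.leaf cE55)) (BT.leaf cE56)) (BT.node 57 (BT.leaf cE57) (BT.leaf cE58))))) (BT.node 68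 (BT.node 63 (BT.node 61 (BT.node 60 (BT.node 59 (BT.leaf cE59) (BT.leaf cE60)) (BT.leaf cE61)) (BT.node 62 (BT.leaf cE62) (BT.leaf cE63))) (BT.node 66 (BT.node 65 (BT.node 64 (BT.leaf cE64) (BT.leaf cE65)) (BT.leaf cE66)) (BT.node 67 (BT.leaf cE67) (BT.leaf cE68)))) (BT.node 73 (BT.node 71 (BT.node 70 (BT.node 69 (BT.leaf cE69) (BT.leaf cE70)) (BT.leaf cE71)) (BT.node 72 (BT.leaf cE72) (BT.leaf cE73))) (BT.node 75 (BT.node 74 (BT.leaf cE74) (BT.leaf cE75)) (BT.node 76 (BT.leaf cE76) (BT.leaf cE77))))))) (BT.node 116 (BT.node 97 (BT.node 87 (BT.node 82 (BT.node 80 (BT.node 79 (BT.node 78 (BT.leaf cE78) (BT.leaf cE79)) (BT.leaf cE80)) (BT.node 81 (BT.leaf cE81) (BT.leaf cE82))) (BT.node 85 (BT.node 84 (BT.node 83 (BT.leaf cE83) (BT.leaf cE84)) (BT.leaf cE85)) (BT.node 86 (BT.leaf cE86) (BT.leaf cE87)))) (BT.node 92 (BT.node 90 (BT.node 89 (BT.node 88 (BT.leaf cE88)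 (BT.leaf cE89)) (BT.leaf cE90)) (BT.node 91 (BT.leaf cE91) (BT.leaf cE92))) (BT.node 95 (BT.node 94 (BT.node 93 (BT.leaf cE93) (BT.leaf cE94)) (BT.leaf cE95)) (BT.node 96 (BT.leaf cE96) (BT.leaf cE97))))) (BT.node 107 (BT.node 102 (BT.node 100 (BT.node 99 (BT.node 98 (BT.leaf cE98) (BT.leaf cE99)) (BT.leaf cE100)) (BT.node 101 (BT.leaf cE101) (BT.leaf cE102))) (BT.node 105 (BT.node 104 (BT.node 103 (BT.leaf cE103) (BT.leaf cE104)) (BT.leaf cE105)) (BT.node 106 (BT.leaf cE106) (BT.leaf cE107)))) (BT.node 112 (BT.node 110 (BT.node 109 (BT.node 108 (BT.leaf cE108) (BT.leaf cE109)) (BT.leaf cE110)) (BT.node 111 (BT.leaf cE111) (BT.leaf cE112))) (BT.node 114 (BT.node 113 (BT.leaf cE113) (BT.leaf cE114)) (BT.node 115 (BT.leaf cE115) (BT.leaf cE116)))))) (BT.node 136 (BT.node 126 (BT.node 121 (BT.node 119 (BT.node 118 (BT.node 117 (BT.leaf cE117) (BT.leaf cE118)) (BT.leaf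 cE119)) (BT.node 120 (BT.leaf cE120) (BT.leaf cE121))) (BT.node 124 (BT.node 123 (BT.node 122 (BT.leaf cE122) (BT.leaf cE123)) (BT.leaf cE124)) (BT.node 125 (BT.leaf cE125) (BT.leaf cE126)))) (BT.node 131 (BT.node 129 (BT.node 128 (BT.node 127 (BT.leaf cE127) (BT.leaf cE128)) (BT.leaf cE129)) (BT.node 130 (BT.leaf cE130) (BT.leaf cE131))) (BT.node 134 (BT.node 133 (BT.node 132 (BT.leaf cE132) (BT.leaf cE133)) (BT.leaf cE134)) (BT.node 135 (BT.leaf cE135) (BT.leaf cE136))))) (BT.node 146 (BT.node 141 (BT.node 139 (BT.node 138 (BT.node 137 (BT.leaf cE137) (BT.leaf cE138)) (BT.leaf cE139)) (BT.node 140 (BT.leaf cE140) (BT.leaf cE141))) (BT.node 144 (BT.node 143 (BT.node 142 (BT.leaf cE142) (BT.leaf cE143)) (BT.leaf cE144)) (BT.node 145 (BT.leaf cE145) (BT.leaf cE146)))) (BT.node 151 (BT.node 149 (BT.node 148 (BT.node 147 (BT.leaf cE147) (BT.leaf cE148)) (BT.leaf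 cE149)) (BT.node 150 (BT.leaf cE150) (BT.leaf cE151))) (BT.node 153 (BT.node 152 (BT.leaf cE152) (BT.leaf cE153)) (BT.node 154 (BT.leaf cE154) (BT.leaf cE155)))))))) (BT.node 233 (BT.node 194 (BT.node 175 (BT.node 165 (BT.node 160 (BT.node 158 (BT.node 157 (BT.node 156 (BT.leaf cE156) (BT.leaf cE157)) (BT.leaf cE158)) (BT.node 159 (BT.leaf cE159) (BT.leaf cE160))) (BT.node 163 (BT.node 162 (BT.node 161 (BT.leaf cE161) (BT.leaf cE162)) (BT.leaf cE163)) (BT.node 164 (BT.leaf cE164) (BT.leaf cE165)))) (BT.node 170 (BT.node 168 (BT.node 167 (BT.node 166 (BT.leaf cE166) (BT.leaf cE167)) (BT.leaf cE168)) (BT.node 169 (BT.leaf cE169) (BT.leaf cE170))) (BT.node 173 (BT.node 172 (BT.node 171 (BT.leaf cE171) (BT.leaf cE172)) (BT.leaf cE173)) (BT.node 174 (BT.leaf cE174) (BT.leaf cE175))))) (BT.node 185 (BT.node 180 (BT.node 178 (BT.node 177 (BT.node 176 (BT.leaf cE176)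 (BT.leaf cE177)) (BT.leaf cE178)) (BT.node 179 (BT.leaf cE179) (BT.leaf cE180))) (BT.node 183 (BT.node 182 (BT.node 181 (BT.leaf cE181) (BT.leaf cE182)) (BT.leaf cE183)) (BT.node 184 (BT.leaf cE184) (BT.leaf cE185)))) (BT.node 190 (BT.node 188 (BT.node 187 (BT.node 186 (BT.leaf cE186) (BT.leaf cE187)) (BT.leaf cE188)) (BT.node 189 (BT.leaf cE189) (BT.leaf cE190))) (BT.node 192 (BT.node 191 (BT.leaf cE191) (BT.leaf cE192)) (BT.node 193 (BT.leaf cE193) (BT.leaf cE194)))))) (BT.node 214 (BT.node 204 (BT.node 199 (BT.node 197 (BT.node 196 (BT.node 195 (BT.leaf cE195) (BT.leaf cE196)) (BT.leaf cE197)) (BT.node 198 (BT.leaf cE198) (BT.leaf cE199))) (BT.node 202 (BT.node 201 (BT.node 200 (BT.leaf cE200) (BT.leaf cE201)) (BT.leaf cE202)) (BT.node 203 (BT.leaf cE203) (BT.leaf cE204)))) (BT.node 209 (BT.node 207 (BT.node 206 (BT.node 205 (BT.leaf cE205) (BT.leaf cE206))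 (BT.leaf cE207)) (BT.node 208 (BT.leaf cE208) (BT.leaf cE209))) (BT.node 212 (BT.node 211 (BT.node 210 (BT.leaf cE210) (BT.leaf cE211)) (BT.leaf cE212)) (BT.node 213 (BT.leaf cE213) (BT.leaf cE214))))) (BT.node 224 (BT.node 219 (BT.node 217 (BT.node 216 (BT.node 215 (BT.leaf cE215) (BT.leaf cE216)) (BT.leaf cE217)) (BT.node 218 (BT.leaf cE218) (BT.leaf cE219))) (BT.node 222 (BT.node 221 (BT.node 220 (BT.leaf cE220) (BT.leaf cE221)) (BT.leaf cE222)) (BT.node 223 (BT.leaf cE223) (BT.leaf cE224)))) (BT.node 229 (BT.node 227 (BT.node 226 (BT.node 225 (BT.leaf cE225) (BT.leaf cE226)) (BT.leaf cE227)) (BT.node 228 (BT.leaf cE228) (BT.leaf cE229))) (BT.node 231 (BT.node 230 (BT.leaf cE230) (BT.leaf cE231)) (BT.node 232 (BT.leaf cE232) (BT.leaf cE233))))))) (BT.node 272 (BT.node 253 (BT.node 243 (BT.node 238 (BT.node 236 (BT.node 235 (BT.node 234 (BT.leaf cE234) (BT.leaf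 cE235)) (BT.leaf cE236)) (BT.node 237 (BT.leaf cE237) (BT.leaf cE238))) (BT.node 241 (BT.node 240 (BT.node 239 (BT.leaf cE239) (BT.leaf cE240)) (BT.leaf cE241)) (BT.node 242 (BT.leaf cE242) (BT.leaf cE243)))) (BT.node 248 (BT.node 246 (BT.node 245 (BT.node 244 (BT.leaf cE244) (BT.leaf cE245)) (BT.leaf cE246)) (BT.node 247 (BT.leaf cE247) (BT.leaf cE248))) (BT.node 251 (BT.node 250 (BT.node 249 (BT.leaf cE249) (BT.leaf cE250)) (BT.leaf cE251)) (BT.node 252 (BT.leaf cE252) (BT.leaf cE253))))) (BT.node 263 (BT.node 258 (BT.node 256 (BT.node 255 (BT.node 254 (BT.leaf cE254) (BT.leaf cE255)) (BT.leaf cE256)) (BT.node 257 (BT.leaf cE257) (BT.leaf cE258))) (BT.node 261 (BT.node 260 (BT.node 259 (BT.leaf cE259) (BT.leaf cE260)) (BT.leaf cE261)) (BT.node 262 (BT.leaf cE262) (BT.leaf cE263)))) (BT.node 268 (BT.node 266 (BT.node 265 (BT.node 264 (BT.leaf cE264) (BT.leaf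 cE265)) (BT.leaf cE266)) (BT.node 267 (BT.leaf cE267) (BT.leaf cE268))) (BT.node 270 (BT.node 269 (BT.leaf cE269) (BT.leaf cE270)) (BT.node 271 (BT.leaf cE271) (BT.leaf cE272)))))) (BT.node 292 (BT.node 282 (BT.node 277 (BT.node 275 (BT.node 274 (BT.node 273 (BT.leaf cE273) (BT.leaf cE274)) (BT.leaf cE275)) (BT.node 276 (BT.leaf cE276) (BT.leaf cE277))) (BT.node 280 (BT.node 279 (BT.node 278 (BT.leaf cE278) (BT.leaf cE279)) (BT.leaf cE280)) (BT.node 281 (BT.leaf cE281) (BT.leaf cE282)))) (BT.node 287 (BT.node 285 (BT.node 284 (BT.node 283 (BT.leaf cE283) (BT.leaf cE284)) (BT.leaf cE285)) (BT.node 286 (BT.leaf cE286) (BT.leaf cE287))) (BT.node 290 (BT.node 289 (BT.node 288 (BT.leaf cE288) (BT.leaf cE289)) (BT.leaf cE290)) (BT.node 291 (BT.leaf cE291) (BT.leaf cE292))))) (BT.node 302 (BT.node 297 (BT.node 295 (BT.node 294 (BT.node 293 (BT.leaf cE293) (BT.leaf cE294))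 (BT.leaf cE295)) (BT.node 296 (BT.leaf cE296) (BT.leaf cE297))) (BT.node 300 (BT.node 299 (BT.node 298 (BT.leaf cE298) (BT.leaf cE299)) (BT.leaf cE300)) (BT.node 301 (BT.leaf cE301) (BT.leaf cE302)))) (BT.node 307 (BT.node 305 (BT.node 304 (BT.node 303 (BT.leaf cE303) (BT.leaf cE304)) (BT.leaf cE305)) (BT.node 306 (BT.leaf cE306) (BT.leaf cE307))) (BT.node 309 (BT.node 308 (BT.leaf cE308) (BT.leaf cE309)) (BT.node 310 (BT.leaf cE310) (BT.leaf cE311))))))))) (BT.node 467 (BT.node 389 (BT.node 350 (BT.node 331 (BT.node 321 (BT.node 316 (BT.node 314 (BT.node 313 (BT.node 312 (BT.leaf cE312) (BT.leaf cE313)) (BT.leaf cE314)) (BT.node 315 (BT.leaf cE315) (BT.leaf cE316))) (BT.node 319 (BT.node 318 (BT.node 317 (BT.leaf cE317) (BT.leaf cE318)) (BT.leaf cE319)) (BT.node 320 (BT.leaf cE320) (BT.leaf cE321)))) (BT.node 326 (BT.node 324 (BT.node 323 (BT.node 322 (BT.leaf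 cE322) (BT.leaf cE323)) (BT.leaf cE324)) (BT.node 325 (BT.leaf cE325) (BT.leaf cE326))) (BT.node 329 (BT.node 328 (BT.node 327 (BT.leaf cE327) (BT.leaf cE328)) (BT.leaf cE329)) (BT.node 330 (BT.leaf cE330) (BT.leaf cE331))))) (BT.node 341 (BT.node 336 (BT.node 334 (BT.node 333 (BT.node 332 (BT.leaf cE332) (BT.leaf cE333)) (BT.leaf cE334)) (BT.node 335 (BT.leaf cE335) (BT.leaf cE336))) (BT.node 339 (BT.node 338 (BT.node 337 (BT.leaf cE337) (BT.leaf cE338)) (BT.leaf cE339)) (BT.node 340 (BT.leaf cE340) (BT.leaf cE341)))) (BT.node 346 (BT.node 344 (BT.node 343 (BT.node 342 (BT.leaf cE342) (BT.leaf cE343)) (BT.leaf cE344)) (BT.node 345 (BT.leaf cE345) (BT.leaf cE346))) (BT.node 348 (BT.node 347 (BT.leaf cE347) (BT.leaf cE348)) (BT.node 349 (BT.leaf cE349) (BT.leaf cE350)))))) (BT.node 370 (BT.node 360 (BT.node 355 (BT.node 353 (BT.node 352 (BT.node 351 (BT.leaf cE351)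 (BT.leaf cE352)) (BT.leaf cE353)) (BT.node 354 (BT.leaf cE354) (BT.leaf cE355))) (BT.node 358 (BT.node 357 (BT.node 356 (BT.leaf cE356) (BT.leaf cE357)) (BT.leaf cE358)) (BT.node 359 (BT.leaf cE359) (BT.leaf cE360)))) (BT.node 365 (BT.node 363 (BT.node 362 (BT.node 361 (BT.leaf cE361) (BT.leaf cE362)) (BT.leaf cE363)) (BT.node 364 (BT.leaf cE364) (BT.leaf cE365))) (BT.node 368 (BT.node 367 (BT.node 366 (BT.leaf cE366) (BT.leaf cE367)) (BT.leaf cE368)) (BT.node 369 (BT.leaf cE369) (BT.leaf cE370))))) (BT.node 380 (BT.node 375 (BT.node 373 (BT.node 372 (BT.node 371 (BT.leaf cE371) (BT.leaf cE372)) (BT.leaf cE373)) (BT.node 374 (BT.leaf cE374) (BT.leaf cE375))) (BT.node 378 (BT.node 377 (BT.node 376 (BT.leaf cE376) (BT.leaf cE377)) (BT.leaf cE378)) (BT.node 379 (BT.leaf cE379) (BT.leaf cE380)))) (BT.node 385 (BT.node 383 (BT.node 382 (BT.node 381 (BT.leaf cE381)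 (BT.leaf cE382)) (BT.leaf cE383)) (BT.node 384 (BT.leaf cE384) (BT.leaf cE385))) (BT.node 387 (BT.node 386 (BT.leaf cE386) (BT.leaf cE387)) (BT.node 388 (BT.leaf cE388) (BT.leaf cE389))))))) (BT.node 428 (BT.node 409 (BT.node 399 (BT.node 394 (BT.node 392 (BT.node 391 (BT.node 390 (BT.leaf cE390) (BT.leaf cE391)) (BT.leaf cE392)) (BT.node 393 (BT.leaf cE393) (BT.leaf cE394))) (BT.node 397 (BT.node 396 (BT.node 395 (BT.leaf cE395) (BT.leaf cE396)) (BT.leaf cE397)) (BT.node 398 (BT.leaf cE398) (BT.leaf cE399)))) (BT.node 404 (BT.node 402 (BT.node 401 (BT.node 400 (BT.leaf cE400) (BT.leaf cE401)) (BT.leaf cE402)) (BT.node 403 (BT.leaf cE403) (BT.leaf cE404))) (BT.node 407 (BT.node 406 (BT.node 405 (BT.leaf cE405) (BT.leaf cE406)) (BT.leaf cE407)) (BT.node 408 (BT.leaf cE408) (BT.leaf cE409))))) (BT.node 419 (BT.node 414 (BT.node 412 (BT.node 411 (BT.node 410 (BT.leaf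 cE410) (BT.leaf cE411)) (BT.leaf cE412)) (BT.node 413 (BT.leaf cE413) (BT.leaf cE414))) (BT.node 417 (BT.node 416 (BT.node 415 (BT.leaf cE415) (BT.leaf cE416)) (BT.leaf cE417)) (BT.node 418 (BT.leaf cE418) (BT.leaf cE419)))) (BT.node 424 (BT.node 422 (BT.node 421 (BT.node 420 (BT.leaf cE420) (BT.leaf cE421)) (BT.leaf cE422)) (BT.node 423 (BT.leaf cE423) (BT.leaf cE424))) (BT.node 426 (BT.node 425 (BT.leaf cE425) (BT.leaf cE426)) (BT.node 427 (BT.leaf cE427) (BT.leaf cE428)))))) (BT.node 448 (BT.node 438 (BT.node 433 (BT.node 431 (BT.node 430 (BT.node 429 (BT.leaf cE429) (BT.leaf cE430)) (BT.leaf cE431)) (BT.node 432 (BT.leaf cE432) (BT.leaf cE433))) (BT.node 436 (BT.node 435 (BT.node 434 (BT.leaf cE434) (BT.leaf cE435)) (BT.leaf cE436)) (BT.node 437 (BT.leaf cE437) (BT.leaf cE438)))) (BT.node 443 (BT.node 441 (BT.node 440 (BT.node 439 (BT.leaf cE439) (BT.leaf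 cE440)) (BT.leaf cE441)) (BT.node 442 (BT.leaf cE442) (BT.leaf cE443))) (BT.node 446 (BT.node 445 (BT.node 444 (BT.leaf cE444) (BT.leaf cE445)) (BT.leaf cE446)) (BT.node 447 (BT.leaf cE447) (BT.leaf cE448))))) (BT.node 458 (BT.node 453 (BT.node 451 (BT.node 450 (BT.node 449 (BT.leaf cE449) (BT.leaf cE450)) (BT.leaf cE451)) (BT.node 452 (BT.leaf cE452) (BT.leaf cE453))) (BT.node 456 (BT.node 455 (BT.node 454 (BT.leaf cE454) (BT.leaf cE455)) (BT.leaf cE456)) (BT.node 457 (BT.leaf cE457) (BT.leaf cE458)))) (BT.node 463 (BT.node 461 (BT.node 460 (BT.node 459 (BT.leaf cE459) (BT.leaf cE460)) (BT.leaf cE461)) (BT.node 462 (BT.leaf cE462) (BT.leaf cE463))) (BT.node 465 (BT.node 464 (BT.leaf cE464) (BT.leaf cE465)) (BT.node 466 (BT.leaf cE466) (BT.leaf cE467)))))))) (BT.node 545 (BT.node 506 (BT.node 487 (BT.node 477 (BT.node 472 (BT.node 470 (BT.node 469 (BT.node 468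 (BT.leaf cE468) (BT.leaf cE469)) (BT.leaf cE470)) (BT.node 471 (BT.leaf cE471) (BT.leaf cE472))) (BT.node 475 (BT.node 474 (BT.node 473 (BT.leaf cE473) (BT.leaf cE474)) (BT.leaf cE475)) (BT.node 476 (BT.leaf cE476) (BT.leaf cE477)))) (BT.node 482 (BT.node 480 (BT.node 479 (BT.node 478 (BT.leaf cE478) (BT.leaf cE479)) (BT.leaf cE480)) (BT.node 481 (BT.leaf cE481) (BT.leaf cE482))) (BT.node 485 (BT.node 484 (BT.node 483 (BT.leaf cE483) (BT.leaf cE484)) (BT.leaf cE485)) (BT.node 486 (BT.leaf cE486) (BT.leaf cE487))))) (BT.node 497 (BT.node 492 (BT.node 490 (BT.node 489 (BT.node 488 (BT.leaf cE488) (BT.leaf cE489)) (BT.leaf cE490)) (BT.node 491 (BT.leaf cE491) (BT.leaf cE492))) (BT.node 495 (BT.node 494 (BT.node 493 (BT.leaf cE493) (BT.leaf cE494)) (BT.leaf cE495)) (BT.node 496 (BT.leaf cE496) (BT.leaf cE497)))) (BT.node 502 (BT.node 500 (BT.node 499 (BT.node 498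 (BT.leaf cE498) (BT.leaf cE499)) (BT.leaf cE500)) (BT.node 501 (BT.leaf cE501) (BT.leaf cE502))) (BT.node 504 (BT.node 503 (BT.leaf cE503) (BT.leaf cE504)) (BT.node 505 (BT.leaf cE505) (BT.leaf cE506)))))) (BT.node 526 (BT.node 516 (BT.node 511 (BT.node 509 (BT.node 508 (BT.node 507 (BT.leaf cE507) (BT.leaf cE508)) (BT.leaf cE509)) (BT.node 510 (BT.leaf cE510) (BT.leaf cE511))) (BT.node 514 (BT.node 513 (BT.node 512 (BT.leaf cE512) (BT.leaf cE513)) (BT.leaf cE514)) (BT.node 515 (BT.leaf cE515) (BT.leaf cE516)))) (BT.node 521 (BT.node 519 (BT.node 518 (BT.node 517 (BT.leaf cE517) (BT.leaf cE518)) (BT.leaf cE519)) (BT.node 520 (BT.leaf cE520) (BT.leaf cE521))) (BT.node 524 (BT.node 523 (BT.node 522 (BT.leaf cE522) (BT.leaf cE523)) (BT.leaf cE524)) (BT.node 525 (BT.leaf cE525) (BT.leaf cE526))))) (BT.node 536 (BT.node 531 (BT.node 529 (BT.node 528 (BT.node 527 (BT.leaf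 cE527) (BT.leaf cE528)) (BT.leaf cE529)) (BT.node 530 (BT.leaf cE530) (BT.leaf cE531))) (BT.node 534 (BT.node 533 (BT.node 532 (BT.leaf cE532) (BT.leaf cE533)) (BT.leaf cE534)) (BT.node 535 (BT.leaf cE535) (BT.leaf cE536)))) (BT.node 541 (BT.node 539 (BT.node 538 (BT.node 537 (BT.leaf cE537) (BT.leaf cE538)) (BT.leaf cE539)) (BT.node 540 (BT.leaf cE540) (BT.leaf cE541))) (BT.node 543 (BT.node 542 (BT.leaf cE542) (BT.leaf cE543)) (BT.node 544 (BT.leaf cE544) (BT.leaf cE545))))))) (BT.node 584 (BT.node 565 (BT.node 555 (BT.node 550 (BT.node 548 (BT.node 547 (BT.node 546 (BT.leaf cE546) (BT.leaf cE547)) (BT.leaf cE548)) (BT.node 549 (BT.leaf cE549) (BT.leaf cE550))) (BT.node 553 (BT.node 552 (BT.node 551 (BT.leaf cE551) (BT.leaf cE552)) (BT.leaf cE553)) (BT.node 554 (BT.leaf cE554) (BT.leaf cE555)))) (BT.node 560 (BT.node 558 (BT.node 557 (BT.node 556 (BT.leaf cE556)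 (BT.leaf cE557)) (BT.leaf cE558)) (BT.node 559 (BT.leaf cE559) (BT.leaf cE560))) (BT.node 563 (BT.node 562 (BT.node 561 (BT.leaf cE561) (BT.leaf cE562)) (BT.leaf cE563)) (BT.node 564 (BT.leaf cE564) (BT.leaf cE565))))) (BT.node 575 (BT.node 570 (BT.node 568 (BT.node 567 (BT.node 566 (BT.leaf cE566) (BT.leaf cE567)) (BT.leaf cE568)) (BT.node 569 (BT.leaf cE569) (BT.leaf cE570))) (BT.node 573 (BT.node 572 (BT.node 571 (BT.leaf cE571) (BT.leaf cE572)) (BT.leaf cE573)) (BT.node 574 (BT.leaf cE574) (BT.leaf cE575)))) (BT.node 580 (BT.node 578 (BT.node 577 (BT.node 576 (BT.leaf cE576) (BT.leaf cE577)) (BT.leaf cE578)) (BT.node 579 (BT.leaf cE579) (BT.leaf cE580))) (BT.node 582 (BT.node 581 (BT.leaf cE581) (BT.leaf cE582)) (BT.node 583 (BT.leaf cE583) (BT.leaf cE584)))))) (BT.node 604 (BT.node 594 (BT.node 589 (BT.node 587 (BT.node 586 (BT.node 585 (BT.leaf cE585) (BT.leaf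 cE586)) (BT.leaf cE587)) (BT.node 588 (BT.leaf cE588) (BT.leaf cE589))) (BT.node 592 (BT.node 591 (BT.node 590 (BT.leaf cE590) (BT.leaf cE591)) (BT.leaf cE592)) (BT.node 593 (BT.leaf cE593) (BT.leaf cE594)))) (BT.node 599 (BT.node 597 (BT.node 596 (BT.node 595 (BT.leaf cE595) (BT.leaf cE596)) (BT.leaf cE597)) (BT.node 598 (BT.leaf cE598) (BT.leaf cE599))) (BT.node 602 (BT.node 601 (BT.node 600 (BT.leaf cE600) (BT.leaf cE601)) (BT.leaf cE602)) (BT.node 603 (BT.leaf cE603) (BT.leaf cE604))))) (BT.node 614 (BT.node 609 (BT.node 607 (BT.node 606 (BT.node 605 (BT.leaf cE605) (BT.leaf cE606)) (BT.leaf cE607)) (BT.node 608 (BT.leaf cE608) (BT.leaf cE609))) (BT.node 612 (BT.node 611 (BT.node 610 (BT.leaf cE610) (BT.leaf cE611)) (BT.leaf cE612)) (BT.node 613 (BT.leaf cE613) (BT.leaf cE614)))) (BT.node 619 (BT.node 617 (BT.node 616 (BT.node 615 (BT.leaf cE615) (BT.leaf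 cE616)) (BT.leaf cE617)) (BT.node 618 (BT.leaf cE618) (BT.leaf cE619))) (BT.node 621 (BT.node 620 (BT.leaf cE620) (BT.leaf cE621)) (BT.node 622 (BT.leaf cE622) (BT.leaf cE623)))))))))) (BT.node 935 (BT.node 779 (BT.node 701 (BT.node 662 (BT.node 643 (BT.node 633 (BT.node 628 (BT.node 626 (BT.node 625 (BT.node 624 (BT.leaf cE624) (BT.leaf cE625)) (BT.leaf cE626)) (BT.node 627 (BT.leaf cE627) (BT.leaf cE628))) (BT.node 631 (BT.node 630 (BT.node 629 (BT.leaf cE629) (BT.leaf cE630)) (BT.leaf cE631)) (BT.node 632 (BT.leaf cE632) (BT.leaf cE633)))) (BT.node 638 (BT.node 636 (BT.node 635 (BT.node 634 (BT.leaf cE634) (BT.leaf cE635)) (BT.leaf cE636)) (BT.node 637 (BT.leaf cE637) (BT.leaf cE638))) (BT.node 641 (BT.node 640 (BT.node 639 (BT.leaf cE639) (BT.leaf cE640)) (BT.leaf cE641)) (BT.node 642 (BT.leaf cE642) (BT.leaf cE643))))) (BT.node 653 (BT.node 648 (BT.node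 646 (BT.node 645 (BT.node 644 (BT.leaf cE644) (BT.leaf cE645)) (BT.leaf cE646)) (BT.node 647 (BT.leaf cE647) (BT.leaf cE648))) (BT.node 651 (BT.node 650 (BT.node 649 (BT.leaf cE649) (BT.leaf cE650)) (BT.leaf cE651)) (BT.node 652 (BT.leaf cE652) (BT.leaf cE653)))) (BT.node 658 (BT.node 656 (BT.node 655 (BT.node 654 (BT.leaf cE654) (BT.leaf cE655)) (BT.leaf cE656)) (BT.node 657 (BT.leaf cE657) (BT.leaf cE658))) (BT.node 660 (BT.node 659 (BT.leaf cE659) (BT.leaf cE660)) (BT.node 661 (BT.leaf cE661) (BT.leaf cE662)))))) (BT.node 682 (BT.node 672 (BT.node 667 (BT.node 665 (BT.node 664 (BT.node 663 (BT.leaf cE663) (BT.leaf cE664)) (BT.leaf cE665)) (BT.node 666 (BT.leaf cE666) (BT.leaf cE667))) (BT.node 670 (BT.node 669 (BT.node 668 (BT.leaf cE668) (BT.leaf cE669)) (BT.leaf cE670)) (BT.node 671 (BT.leaf cE671) (BT.leaf cE672)))) (BT.node 677 (BT.node 675 (BT.node 674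 (BT.node 673 (BT.leaf cE673) (BT.leaf cE674)) (BT.leaf cE675)) (BT.node 676 (BT.leaf cE676) (BT.leaf cE677))) (BT.node 680 (BT.node 679 (BT.node 678 (BT.leaf cE678) (BT.leaf cE679)) (BT.leaf cE680)) (BT.node 681 (BT.leaf cE681) (BT.leaf cE682))))) (BT.node 692 (BT.node 687 (BT.node 685 (BT.node 684 (BT.node 683 (BT.leaf cE683) (BT.leaf cE684)) (BT.leaf cE685)) (BT.node 686 (BT.leaf cE686) (BT.leaf cE687))) (BT.node 690 (BT.node 689 (BT.node 688 (BT.leaf cE688) (BT.leaf cE689)) (BT.leaf cE690)) (BT.node 691 (BT.leaf cE691) (BT.leaf cE692)))) (BT.node 697 (BT.node 695 (BT.node 694 (BT.node 693 (BT.leaf cE693) (BT.leaf cE694)) (BT.leaf cE695)) (BT.node 696 (BT.leaf cE696) (BT.leaf cE697))) (BT.node 699 (BT.node 698 (BT.leaf cE698) (BT.leaf cE699)) (BT.node 700 (BT.leaf cE700) (BT.leaf cE701))))))) (BT.node 740 (BT.node 721 (BT.node 711 (BT.node 706 (BT.node 704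 (BT.node 703 (BT.node 702 (BT.leaf cE702) (BT.leaf cE703)) (BT.leaf cE704)) (BT.node 705 (BT.leaf cE705) (BT.leaf cE706))) (BT.node 709 (BT.node 708 (BT.node 707 (BT.leaf cE707) (BT.leaf cE708)) (BT.leaf cE709)) (BT.node 710 (BT.leaf cE710) (BT.leaf cE711)))) (BT.node 716 (BT.node 714 (BT.node 713 (BT.node 712 (BT.leaf cE712) (BT.leaf cE713)) (BT.leaf cE714)) (BT.node 715 (BT.leaf cE715) (BT.leaf cE716))) (BT.node 719 (BT.node 718 (BT.node 717 (BT.leaf cE717) (BT.leaf cE718)) (BT.leaf cE719)) (BT.node 720 (BT.leaf cE720) (BT.leaf cE721))))) (BT.node 731 (BT.node 726 (BT.node 724 (BT.node 723 (BT.node 722 (BT.leaf cE722) (BT.leaf cE723)) (BT.leaf cE724)) (BT.node 725 (BT.leaf cE725) (BT.leaf cE726))) (BT.node 729 (BT.node 728 (BT.node 727 (BT.leaf cE727) (BT.leaf cE728)) (BT.leaf cE729)) (BT.node 730 (BT.leaf cE730) (BT.leaf cE731)))) (BT.node 736 (BT.node 734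 (BT.node 733 (BT.node 732 (BT.leaf cE732) (BT.leaf cE733)) (BT.leaf cE734)) (BT.node 735 (BT.leaf cE735) (BT.leaf cE736))) (BT.node 738 (BT.node 737 (BT.leaf cE737) (BT.leaf cE738)) (BT.node 739 (BT.leaf cE739) (BT.leaf cE740)))))) (BT.node 760 (BT.node 750 (BT.node 745 (BT.node 743 (BT.node 742 (BT.node 741 (BT.leaf cE741) (BT.leaf cE742)) (BT.leaf cE743)) (BT.node 744 (BT.leaf cE744) (BT.leaf cE745))) (BT.node 748 (BT.node 747 (BT.node 746 (BT.leaf cE746) (BT.leaf cE747)) (BT.leaf cE748)) (BT.node 749 (BT.leaf cE749) (BT.leaf cE750)))) (BT.node 755 (BT.node 753 (BT.node 752 (BT.node 751 (BT.leaf cE751) (BT.leaf cE752)) (BT.leaf cE753)) (BT.node 754 (BT.leaf cE754) (BT.leaf cE755))) (BT.node 758 (BT.node 757 (BT.node 756 (BT.leaf cE756) (BT.leaf cE757)) (BT.leaf cE758)) (BT.node 759 (BT.leaf cE759) (BT.leaf cE760))))) (BT.node 770 (BT.node 765 (BT.node 763 (BT.node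 762 (BT.node 761 (BT.leaf cE761) (BT.leaf cE762)) (BT.leaf cE763)) (BT.node 764 (BT.leaf cE764) (BT.leaf cE765))) (BT.node 768 (BT.node 767 (BT.node 766 (BT.leaf cE766) (BT.leaf cE767)) (BT.leaf cE768)) (BT.node 769 (BT.leaf cE769) (BT.leaf cE770)))) (BT.node 775 (BT.node 773 (BT.node 772 (BT.node 771 (BT.leaf cE771) (BT.leaf cE772)) (BT.leaf cE773)) (BT.node 774 (BT.leaf cE774) (BT.leaf cE775))) (BT.node 777 (BT.node 776 (BT.leaf cE776) (BT.leaf cE777)) (BT.node 778 (BT.leaf cE778) (BT.leaf cE779)))))))) (BT.node 857 (BT.node 818 (BT.node 799 (BT.node 789 (BT.node 784 (BT.node 782 (BT.node 781 (BT.node 780 (BT.leaf cE780) (BT.leaf cE781)) (BT.leaf cE782)) (BT.node 783 (BT.leaf cE783) (BT.leaf cE784))) (BT.node 787 (BT.node 786 (BT.node 785 (BT.leaf cE785) (BT.leaf cE786)) (BT.leaf cE787)) (BT.node 788 (BT.leaf cE788) (BT.leaf cE789)))) (BT.node 794 (BT.node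 792 (BT.node 791 (BT.node 790 (BT.leaf cE790) (BT.leaf cE791)) (BT.leaf cE792)) (BT.node 793 (BT.leaf cE793) (BT.leaf cE794))) (BT.node 797 (BT.node 796 (BT.node 795 (BT.leaf cE795) (BT.leaf cE796)) (BT.leaf cE797)) (BT.node 798 (BT.leaf cE798) (BT.leaf cE799))))) (BT.node 809 (BT.node 804 (BT.node 802 (BT.node 801 (BT.node 800 (BT.leaf cE800) (BT.leaf cE801)) (BT.leaf cE802)) (BT.node 803 (BT.leaf cE803) (BT.leaf cE804))) (BT.node 807 (BT.node 806 (BT.node 805 (BT.leaf cE805) (BT.leaf cE806)) (BT.leaf cE807)) (BT.node 808 (BT.leaf cE808) (BT.leaf cE809)))) (BT.node 814 (BT.node 812 (BT.node 811 (BT.node 810 (BT.leaf cE810) (BT.leaf cE811)) (BT.leaf cE812)) (BT.node 813 (BT.leaf cE813) (BT.leaf cE814))) (BT.node 816 (BT.node 815 (BT.leaf cE815) (BT.leaf cE816)) (BT.node 817 (BT.leaf cE817) (BT.leaf cE818)))))) (BT.node 838 (BT.node 828 (BT.node 823 (BT.node 821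 (BT.node 820 (BT.node 819 (BT.leaf cE819) (BT.leaf cE820)) (BT.leaf cE821)) (BT.node 822 (BT.leaf cE822) (BT.leaf cE823))) (BT.node 826 (BT.node 825 (BT.node 824 (BT.leaf cE824) (BT.leaf cE825)) (BT.leaf cE826)) (BT.node 827 (BT.leaf cE827) (BT.leaf cE828)))) (BT.node 833 (BT.node 831 (BT.node 830 (BT.node 829 (BT.leaf cE829) (BT.leaf cE830)) (BT.leaf cE831)) (BT.node 832 (BT.leaf cE832) (BT.leaf cE833))) (BT.node 836 (BT.node 835 (BT.node 834 (BT.leaf cE834) (BT.leaf cE835)) (BT.leaf cE836)) (BT.node 837 (BT.leaf cE837) (BT.leaf cE838))))) (BT.node 848 (BT.node 843 (BT.node 841 (BT.node 840 (BT.node 839 (BT.leaf cE839) (BT.leaf cE840)) (BT.leaf cE841)) (BT.node 842 (BT.leaf cE842) (BT.leaf cE843))) (BT.node 846 (BT.node 845 (BT.node 844 (BT.leaf cE844) (BT.leaf cE845)) (BT.leaf cE846)) (BT.node 847 (BT.leaf cE847) (BT.leaf cE848)))) (BT.node 853 (BT.node 851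 (BT.node 850 (BT.node 849 (BT.leaf cE849) (BT.leaf cE850)) (BT.leaf cE851)) (BT.node 852 (BT.leaf cE852) (BT.leaf cE853))) (BT.node 855 (BT.node 854 (BT.leaf cE854) (BT.leaf cE855)) (BT.node 856 (BT.leaf cE856) (BT.leaf cE857))))))) (BT.node 896 (BT.node 877 (BT.node 867 (BT.node 862 (BT.node 860 (BT.node 859 (BT.node 858 (BT.leaf cE858) (BT.leaf cE859)) (BT.leaf cE860)) (BT.node 861 (BT.leaf cE861) (BT.leaf cE862))) (BT.node 865 (BT.node 864 (BT.node 863 (BT.leaf cE863) (BT.leaf cE864)) (BT.leaf cE865)) (BT.node 866 (BT.leaf cE866) (BT.leaf cE867)))) (BT.node 872 (BT.node 870 (BT.node 869 (BT.node 868 (BT.leaf cE868) (BT.leaf cE869)) (BT.leaf cE870)) (BT.node 871 (BT.leaf cE871) (BT.leaf cE872))) (BT.node 875 (BT.node 874 (BT.node 873 (BT.leaf cE873) (BT.leaf cE874)) (BT.leaf cE875)) (BT.node 876 (BT.leaf cE876) (BT.leaf cE877))))) (BT.node 887 (BT.node 882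 (BT.node 880 (BT.node 879 (BT.node 878 (BT.leaf cE878) (BT.leaf cE879)) (BT.leaf cE880)) (BT.node 881 (BT.leaf cE881) (BT.leaf cE882))) (BT.node 885 (BT.node 884 (BT.node 883 (BT.leaf cE883) (BT.leaf cE884)) (BT.leaf cE885)) (BT.node 886 (BT.leaf cE886) (BT.leaf cE887)))) (BT.node 892 (BT.node 890 (BT.node 889 (BT.node 888 (BT.leaf cE888) (BT.leaf cE889)) (BT.leaf cE890)) (BT.node 891 (BT.leaf cE891) (BT.leaf cE892))) (BT.node 894 (BT.node 893 (BT.leaf cE893) (BT.leaf cE894)) (BT.node 895 (BT.leaf cE895) (BT.leaf cE896)))))) (BT.node 916 (BT.node 906 (BT.node 901 (BT.node 899 (BT.node 898 (BT.node 897 (BT.leaf cE897) (BT.leaf cE898)) (BT.leaf cE899)) (BT.node 900 (BT.leaf cE900) (BT.leaf cE901))) (BT.node 904 (BT.node 903 (BT.node 902 (BT.leaf cE902) (BT.leaf cE903)) (BT.leaf cE904)) (BT.node 905 (BT.leaf cE905) (BT.leaf cE906)))) (BT.node 911 (BT.node 909 (BT.node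 908 (BT.node 907 (BT.leaf cE907) (BT.leaf cE908)) (BT.leaf cE909)) (BT.node 910 (BT.leaf cE910) (BT.leaf cE911))) (BT.node 914 (BT.node 913 (BT.node 912 (BT.leaf cE912) (BT.leaf cE913)) (BT.leaf cE914)) (BT.node 915 (BT.leaf cE915) (BT.leaf cE916))))) (BT.node 926 (BT.node 921 (BT.node 919 (BT.node 918 (BT.node 917 (BT.leaf cE917) (BT.leaf cE918)) (BT.leaf cE919)) (BT.node 920 (BT.leaf cE920) (BT.leaf cE921))) (BT.node 924 (BT.node 923 (BT.node 922 (BT.leaf cE922) (BT.leaf cE923)) (BT.leaf cE924)) (BT.node 925 (BT.leaf cE925) (BT.leaf cE926)))) (BT.node 931 (BT.node 929 (BT.node 928 (BT.node 927 (BT.leaf cE927) (BT.leaf cE928)) (BT.leaf cE929)) (BT.node 930 (BT.leaf cE930) (BT.leaf cE931))) (BT.node 933 (BT.node 932 (BT.leaf cE932) (BT.leaf cE933)) (BT.node 934 (BT.leaf cE934) (BT.leaf cE935))))))))) (BT.node 1091 (BT.node 1013 (BT.node 974 (BT.node 955 (BT.node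 945 (BT.node 940 (BT.node 938 (BT.node 937 (BT.node 936 (BT.leaf cE936) (BT.leaf cE937)) (BT.leaf cE938)) (BT.node 939 (BT.leaf cE939) (BT.leaf cE940))) (BT.node 943 (BT.node 942 (BT.node 941 (BT.leaf cE941) (BT.leaf cE942)) (BT.leaf cE943)) (BT.node 944 (BT.leaf cE944) (BT.leaf cE945)))) (BT.node 950 (BT.node 948 (BT.node 947 (BT.node 946 (BT.leaf cE946) (BT.leaf cE947)) (BT.leaf cE948)) (BT.node 949 (BT.leaf cE949) (BT.leaf cE950))) (BT.node 953 (BT.node 952 (BT.node 951 (BT.leaf cE951) (BT.leaf cE952)) (BT.leaf cE953)) (BT.node 954 (BT.leaf cE954) (BT.leaf cE955))))) (BT.node 965 (BT.node 960 (BT.node 958 (BT.node 957 (BT.node 956 (BT.leaf cE956) (BT.leaf cE957)) (BT.leaf cE958)) (BT.node 959 (BT.leaf cE959) (BT.leaf cE960))) (BT.node 963 (BT.node 962 (BT.node 961 (BT.leaf cE961) (BT.leaf cE962)) (BT.leaf cE963)) (BT.node 964 (BT.leaf cE964) (BT.leaf cE965))))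 (BT.node 970 (BT.node 968 (BT.node 967 (BT.node 966 (BT.leaf cE966) (BT.leaf cE967)) (BT.leaf cE968)) (BT.node 969 (BT.leaf cE969) (BT.leaf cE970))) (BT.node 972 (BT.node 971 (BT.leaf cE971) (BT.leaf cE972)) (BT.node 973 (BT.leaf cE973) (BT.leaf cE974)))))) (BT.node 994 (BT.node 984 (BT.node 979 (BT.node 977 (BT.node 976 (BT.node 975 (BT.leaf cE975) (BT.leaf cE976)) (BT.leaf cE977)) (BT.node 978 (BT.leaf cE978) (BT.leaf cE979))) (BT.node 982 (BT.node 981 (BT.node 980 (BT.leaf cE980) (BT.leaf cE981)) (BT.leaf cE982)) (BT.node 983 (BT.leaf cE983) (BT.leaf cE984)))) (BT.node 989 (BT.node 987 (BT.node 986 (BT.node 985 (BT.leaf cE985) (BT.leaf cE986)) (BT.leaf cE987)) (BT.node 988 (BT.leaf cE988) (BT.leaf cE989))) (BT.node 992 (BT.node 991 (BT.node 990 (BT.leaf cE990) (BT.leaf cE991)) (BT.leaf cE992)) (BT.node 993 (BT.leaf cE993) (BT.leaf cE994))))) (BT.node 1004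 (BT.node 999 (BT.node 997 (BT.node 996 (BT.node 995 (BT.leaf cE995) (BT.leaf cE996)) (BT.leaf cE997)) (BT.node 998 (BT.leaf cE998) (BT.leaf cE999))) (BT.node 1002 (BT.node 1001 (BT.node 1000 (BT.leaf cE1000) (BT.leaf cE1001)) (BT.leaf cE1002)) (BT.node 1003 (BT.leaf cE1003) (BT.leaf cE1004)))) (BT.node 1009 (BT.node 1007 (BT.node 1006 (BT.node 1005 (BT.leaf cE1005) (BT.leaf cE1006)) (BT.leaf cE1007)) (BT.node 1008 (BT.leaf cE1008) (BT.leaf cE1009))) (BT.node 1011 (BT.node 1010 (BT.leaf cE1010) (BT.leaf cE1011)) (BT.node 1012 (BT.leaf cE1012) (BT.leaf cE1013))))))) (BT.node 1052 (BT.node 1033 (BT.node 1023 (BT.node 1018 (BT.node 1016 (BT.node 1015 (BT.node 1014 (BT.leaf cE1014) (BT.leaf cE1015)) (BT.leaf cE1016)) (BT.node 1017 (BT.leaf cE1017) (BT.leaf cE1018))) (BT.node 1021 (BT.node 1020 (BT.node 1019 (BT.leaf cE1019) (BT.leaf cE1020)) (BT.leaf cE1021)) (BT.node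 1022 (BT.leaf cE1022) (BT.leaf cE1023)))) (BT.node 1028 (BT.node 1026 (BT.node 1025 (BT.node 1024 (BT.leaf cE1024) (BT.leaf cE1025)) (BT.leaf cE1026)) (BT.node 1027 (BT.leaf cE1027) (BT.leaf cE1028))) (BT.node 1031 (BT.node 1030 (BT.node 1029 (BT.leaf cE1029) (BT.leaf cE1030)) (BT.leaf cE1031)) (BT.node 1032 (BT.leaf cE1032) (BT.leaf cE1033))))) (BT.node 1043 (BT.node 1038 (BT.node 1036 (BT.node 1035 (BT.node 1034 (BT.leaf cE1034) (BT.leaf cE1035)) (BT.leaf cE1036)) (BT.node 1037 (BT.leaf cE1037) (BT.leaf cE1038))) (BT.node 1041 (BT.node 1040 (BT.node 1039 (BT.leaf cE1039) (BT.leaf cE1040)) (BT.leaf cE1041)) (BT.node 1042 (BT.leaf cE1042) (BT.leaf cE1043)))) (BT.node 1048 (BT.node 1046 (BT.node 1045 (BT.node 1044 (BT.leaf cE1044) (BT.leaf cE1045)) (BT.leaf cE1046)) (BT.node 1047 (BT.leaf cE1047) (BT.leaf cE1048))) (BT.node 1050 (BT.node 1049 (BT.leaf cE1049)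 (BT.leaf cE1050)) (BT.node 1051 (BT.leaf cE1051) (BT.leaf cE1052)))))) (BT.node 1072 (BT.node 1062 (BT.node 1057 (BT.node 1055 (BT.node 1054 (BT.node 1053 (BT.leaf cE1053) (BT.leaf cE1054)) (BT.leaf cE1055)) (BT.node 1056 (BT.leaf cE1056) (BT.leaf cE1057))) (BT.node 1060 (BT.node 1059 (BT.node 1058 (BT.leaf cE1058) (BT.leaf cE1059)) (BT.leaf cE1060)) (BT.node 1061 (BT.leaf cE1061) (BT.leaf cE1062)))) (BT.node 1067 (BT.node 1065 (BT.node 1064 (BT.node 1063 (BT.leaf cE1063) (BT.leaf cE1064)) (BT.leaf cE1065)) (BT.node 1066 (BT.leaf cE1066) (BT.leaf cE1067))) (BT.node 1070 (BT.node 1069 (BT.node 1068 (BT.leaf cE1068) (BT.leaf cE1069)) (BT.leaf cE1070)) (BT.node 1071 (BT.leaf cE1071) (BT.leaf cE1072))))) (BT.node 1082 (BT.node 1077 (BT.node 1075 (BT.node 1074 (BT.node 1073 (BT.leaf cE1073) (BT.leaf cE1074)) (BT.leaf cE1075)) (BT.node 1076 (BT.leaf cE1076) (BT.leaf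 cE1077))) (BT.node 1080 (BT.node 1079 (BT.node 1078 (BT.leaf cE1078) (BT.leaf cE1079)) (BT.leaf cE1080)) (BT.node 1081 (BT.leaf cE1081) (BT.leaf cE1082)))) (BT.node 1087 (BT.node 1085 (BT.node 1084 (BT.node 1083 (BT.leaf cE1083) (BT.leaf cE1084)) (BT.leaf cE1085)) (BT.node 1086 (BT.leaf cE1086) (BT.leaf cE1087))) (BT.node 1089 (BT.node 1088 (BT.leaf cE1088) (BT.leaf cE1089)) (BT.node 1090 (BT.leaf cE1090) (BT.leaf cE1091)))))))) (BT.node 1169 (BT.node 1130 (BT.node 1111 (BT.node 1101 (BT.node 1096 (BT.node 1094 (BT.node 1093 (BT.node 1092 (BT.leaf cE1092) (BT.leaf cE1093)) (BT.leaf cE1094)) (BT.node 1095 (BT.leaf cE1095) (BT.leaf cE1096))) (BT.node 1099 (BT.node 1098 (BT.node 1097 (BT.leaf cE1097) (BT.leaf cE1098)) (BT.leaf cE1099)) (BT.node 1100 (BT.leaf cE1100) (BT.leaf cE1101)))) (BT.node 1106 (BT.node 1104 (BT.node 1103 (BT.node 1102 (BT.leaf cE1102) (BT.leaf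 cE1103)) (BT.leaf cE1104)) (BT.node 1105 (BT.leaf cE1105) (BT.leaf cE1106))) (BT.node 1109 (BT.node 1108 (BT.node 1107 (BT.leaf cE1107) (BT.leaf cE1108)) (BT.leaf cE1109)) (BT.node 1110 (BT.leaf cE1110) (BT.leaf cE1111))))) (BT.node 1121 (BT.node 1116 (BT.node 1114 (BT.node 1113 (BT.node 1112 (BT.leaf cE1112) (BT.leaf cE1113)) (BT.leaf cE1114)) (BT.node 1115 (BT.leaf cE1115) (BT.leaf cE1116))) (BT.node 1119 (BT.node 1118 (BT.node 1117 (BT.leaf cE1117) (BT.leaf cE1118)) (BT.leaf cE1119)) (BT.node 1120 (BT.leaf cE1120) (BT.leaf cE1121)))) (BT.node 1126 (BT.node 1124 (BT.node 1123 (BT.node 1122 (BT.leaf cE1122) (BT.leaf cE1123)) (BT.leaf cE1124)) (BT.node 1125 (BT.leaf cE1125) (BT.leaf cE1126))) (BT.node 1128 (BT.node 1127 (BT.leaf cE1127) (BT.leaf cE1128)) (BT.node 1129 (BT.leaf cE1129) (BT.leaf cE1130)))))) (BT.node 1150 (BT.node 1140 (BT.node 1135 (BT.node 1133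 (BT.node 1132 (BT.node 1131 (BT.leaf cE1131) (BT.leaf cE1132)) (BT.leaf cE1133)) (BT.node 1134 (BT.leaf cE1134) (BT.leaf cE1135))) (BT.node 1138 (BT.node 1137 (BT.node 1136 (BT.leaf cE1136) (BT.leaf cE1137)) (BT.leaf cE1138)) (BT.node 1139 (BT.leaf cE1139) (BT.leaf cE1140)))) (BT.node 1145 (BT.node 1143 (BT.node 1142 (BT.node 1141 (BT.leaf cE1141) (BT.leaf cE1142)) (BT.leaf cE1143)) (BT.node 1144 (BT.leaf cE1144) (BT.leaf cE1145))) (BT.node 1148 (BT.node 1147 (BT.node 1146 (BT.leaf cE1146) (BT.leaf cE1147)) (BT.leaf cE1148)) (BT.node 1149 (BT.leaf cE1149) (BT.leaf cE1150))))) (BT.node 1160 (BT.node 1155 (BT.node 1153 (BT.node 1152 (BT.node 1151 (BT.leaf cE1151) (BT.leaf cE1152)) (BT.leaf cE1153)) (BT.node 1154 (BT.leaf cE1154) (BT.leaf cE1155))) (BT.node 1158 (BT.node 1157 (BT.node 1156 (BT.leaf cE1156) (BT.leaf cE1157)) (BT.leaf cE1158)) (BT.node 1159 (BT.leaf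 cE1159) (BT.leaf cE1160)))) (BT.node 1165 (BT.node 1163 (BT.node 1162 (BT.node 1161 (BT.leaf cE1161) (BT.leaf cE1162)) (BT.leaf cE1163)) (BT.node 1164 (BT.leaf cE1164) (BT.leaf cE1165))) (BT.node 1167 (BT.node 1166 (BT.leaf cE1166) (BT.leaf cE1167)) (BT.node 1168 (BT.leaf cE1168) (BT.leaf cE1169))))))) (BT.node 1208 (BT.node 1189 (BT.node 1179 (BT.node 1174 (BT.node 1172 (BT.node 1171 (BT.node 1170 (BT.leaf cE1170) (BT.leaf cE1171)) (BT.leaf cE1172)) (BT.node 1173 (BT.leaf cE1173) (BT.leaf cE1174))) (BT.node 1177 (BT.node 1176 (BT.node 1175 (BT.leaf cE1175) (BT.leaf cE1176)) (BT.leaf cE1177)) (BT.node 1178 (BT.leaf cE1178) (BT.leaf cE1179)))) (BT.node 1184 (BT.node 1182 (BT.node 1181 (BT.node 1180 (BT.leaf cE1180) (BT.leaf cE1181)) (BT.leaf cE1182)) (BT.node 1183 (BT.leaf cE1183) (BT.leaf cE1184))) (BT.node 1187 (BT.node 1186 (BT.node 1185 (BT.leaf cE1185) (BT.leaf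 cE1186)) (BT.leaf cE1187)) (BT.node 1188 (BT.leaf cE1188) (BT.leaf cE1189))))) (BT.node 1199 (BT.node 1194 (BT.node 1192 (BT.node 1191 (BT.node 1190 (BT.leaf cE1190) (BT.leaf cE1191)) (BT.leaf cE1192)) (BT.node 1193 (BT.leaf cE1193) (BT.leaf cE1194))) (BT.node 1197 (BT.node 1196 (BT.node 1195 (BT.leaf cE1195) (BT.leaf cE1196)) (BT.leaf cE1197)) (BT.node 1198 (BT.leaf cE1198) (BT.leaf cE1199)))) (BT.node 1204 (BT.node 1202 (BT.node 1201 (BT.node 1200 (BT.leaf cE1200) (BT.leaf cE1201)) (BT.leaf cE1202)) (BT.node 1203 (BT.leaf cE1203) (BT.leaf cE1204))) (BT.node 1206 (BT.node 1205 (BT.leaf cE1205) (BT.leaf cE1206)) (BT.node 1207 (BT.leaf cE1207) (BT.leaf cE1208)))))) (BT.node 1227 (BT.node 1218 (BT.node 1213 (BT.node 1211 (BT.node 1210 (BT.node 1209 (BT.leaf cE1209) (BT.leaf cE1210)) (BT.leaf cE1211)) (BT.node 1212 (BT.leaf cE1212) (BT.leaf cE1213))) (BT.node 1216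 (BT.node 1215 (BT.node 1214 (BT.leaf cE1214) (BT.leaf cE1215)) (BT.leaf cE1216)) (BT.node 1217 (BT.leaf cE1217) (BT.leaf cE1218)))) (BT.node 1223 (BT.node 1221 (BT.node 1220 (BT.node 1219 (BT.leaf cE1219) (BT.leaf cE1220)) (BT.leaf cE1221)) (BT.node 1222 (BT.leaf cE1222) (BT.leaf cE1223))) (BT.node 1225 (BT.node 1224 (BT.leaf cE1224) (BT.leaf cE1225)) (BT.node 1226 (BT.leaf cE1226) (BT.leaf cE1227))))) (BT.node 1237 (BT.node 1232 (BT.node 1230 (BT.node 1229 (BT.node 1228 (BT.leaf cE1228) (BT.leaf cE1229)) (BT.leaf cE1230)) (BT.node 1231 (BT.leaf cE1231) (BT.leaf cE1232))) (BT.node 1235 (BT.node 1234 (BT.node 1233 (BT.leaf cE1233) (BT.leaf cE1234)) (BT.leaf cE1235)) (BT.node 1236 (BT.leaf cE1236) (BT.leaf cE1237)))) (BT.node 1242 (BT.node 1240 (BT.node 1239 (BT.node 1238 (BT.leaf cE1238) (BT.leaf cE1239)) (BT.leaf cE1240)) (BT.node 1241 (BT.leaf cE1241) (BT.leaf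 cE1242))) (BT.node 1244 (BT.node 1243 (BT.leaf cE1243) (BT.leaf cE1244)) (BT.node 1245 (BT.leaf cE1245) (BT.leaf cE1246))))))))))) (BT.node 1869 (BT.node 1558 (BT.node 1402 (BT.node 1324 (BT.node 1285 (BT.node 1266 (BT.node 1256 (BT.node 1251 (BT.node 1249 (BT.node 1248 (BT.node 1247 (BT.leaf cE1247) (BT.leaf cE1248)) (BT.leaf cE1249)) (BT.node 1250 (BT.leaf cE1250) (BT.leaf cE1251))) (BT.node 1254 (BT.node 1253 (BT.node 1252 (BT.leaf cE1252) (BT.leaf cE1253)) (BT.leaf cE1254)) (BT.node 1255 (BT.leaf cE1255) (BT.leaf cE1256)))) (BT.node 1261 (BT.node 1259 (BT.node 1258 (BT.node 1257 (BT.leaf cE1257) (BT.leaf cE1258)) (BT.leaf cE1259)) (BT.node 1260 (BT.leaf cE1260) (BT.leaf cE1261))) (BT.node 1264 (BT.node 1263 (BT.node 1262 (BT.leaf cE1262) (BT.leaf cE1263)) (BT.leaf cE1264)) (BT.node 1265 (BT.leaf cE1265) (BT.leaf cE1266))))) (BT.node 1276 (BT.node 1271 (BT.node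 1269 (BT.node 1268 (BT.node 1267 (BT.leaf cE1267) (BT.leaf cE1268)) (BT.leaf cE1269)) (BT.node 1270 (BT.leaf cE1270) (BT.leaf cE1271))) (BT.node 1274 (BT.node 1273 (BT.node 1272 (BT.leaf cE1272) (BT.leaf cE1273)) (BT.leaf cE1274)) (BT.node 1275 (BT.leaf cE1275) (BT.leaf cE1276)))) (BT.node 1281 (BT.node 1279 (BT.node 1278 (BT.node 1277 (BT.leaf cE1277) (BT.leaf cE1278)) (BT.leaf cE1279)) (BT.node 1280 (BT.leaf cE1280) (BT.leaf cE1281))) (BT.node 1283 (BT.node 1282 (BT.leaf cE1282) (BT.leaf cE1283)) (BT.node 1284 (BT.leaf cE1284) (BT.leaf cE1285)))))) (BT.node 1305 (BT.node 1295 (BT.node 1290 (BT.node 1288 (BT.node 1287 (BT.node 1286 (BT.leaf cE1286) (BT.leaf cE1287)) (BT.leaf cE1288)) (BT.node 1289 (BT.leaf cE1289) (BT.leaf cE1290))) (BT.node 1293 (BT.node 1292 (BT.node 1291 (BT.leaf cE1291) (BT.leaf cE1292)) (BT.leaf cE1293)) (BT.node 1294 (BT.leaf cE1294) (BT.leaf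 cE1295)))) (BT.node 1300 (BT.node 1298 (BT.node 1297 (BT.node 1296 (BT.leaf cE1296) (BT.leaf cE1297)) (BT.leaf cE1298)) (BT.node 1299 (BT.leaf cE1299) (BT.leaf cE1300))) (BT.node 1303 (BT.node 1302 (BT.node 1301 (BT.leaf cE1301) (BT.leaf cE1302)) (BT.leaf cE1303)) (BT.node 1304 (BT.leaf cE1304) (BT.leaf cE1305))))) (BT.node 1315 (BT.node 1310 (BT.node 1308 (BT.node 1307 (BT.node 1306 (BT.leaf cE1306) (BT.leaf cE1307)) (BT.leaf cE1308)) (BT.node 1309 (BT.leaf cE1309) (BT.leaf cE1310))) (BT.node 1313 (BT.node 1312 (BT.node 1311 (BT.leaf cE1311) (BT.leaf cE1312)) (BT.leaf cE1313)) (BT.node 1314 (BT.leaf cE1314) (BT.leaf cE1315)))) (BT.node 1320 (BT.node 1318 (BT.node 1317 (BT.node 1316 (BT.leaf cE1316) (BT.leaf cE1317)) (BT.leaf cE1318)) (BT.node 1319 (BT.leaf cE1319) (BT.leaf cE1320))) (BT.node 1322 (BT.node 1321 (BT.leaf cE1321) (BT.leaf cE1322)) (BT.node 1323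 (BT.leaf cE1323) (BT.leaf cE1324))))))) (BT.node 1363 (BT.node 1344 (BT.node 1334 (BT.node 1329 (BT.node 1327 (BT.node 1326 (BT.node 1325 (BT.leaf cE1325) (BT.leaf cE1326)) (BT.leaf cE1327)) (BT.node 1328 (BT.leaf cE1328) (BT.leaf cE1329))) (BT.node 1332 (BT.node 1331 (BT.node 1330 (BT.leaf cE1330) (BT.leaf cE1331)) (BT.leaf cE1332)) (BT.node 1333 (BT.leaf cE1333) (BT.leaf cE1334)))) (BT.node 1339 (BT.node 1337 (BT.node 1336 (BT.node 1335 (BT.leaf cE1335) (BT.leaf cE1336)) (BT.leaf cE1337)) (BT.node 1338 (BT.leaf cE1338) (BT.leaf cE1339))) (BT.node 1342 (BT.node 1341 (BT.node 1340 (BT.leaf cE1340) (BT.leaf cE1341)) (BT.leaf cE1342)) (BT.node 1343 (BT.leaf cE1343) (BT.leaf cE1344))))) (BT.node 1354 (BT.node 1349 (BT.node 1347 (BT.node 1346 (BT.node 1345 (BT.leaf cE1345) (BT.leaf cE1346)) (BT.leaf cE1347)) (BT.node 1348 (BT.leaf cE1348) (BT.leaf cE1349))) (BT.node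 1352 (BT.node 1351 (BT.node 1350 (BT.leaf cE1350) (BT.leaf cE1351)) (BT.leaf cE1352)) (BT.node 1353 (BT.leaf cE1353) (BT.leaf cE1354)))) (BT.node 1359 (BT.node 1357 (BT.node 1356 (BT.node 1355 (BT.leaf cE1355) (BT.leaf cE1356)) (BT.leaf cE1357)) (BT.node 1358 (BT.leaf cE1358) (BT.leaf cE1359))) (BT.node 1361 (BT.node 1360 (BT.leaf cE1360) (BT.leaf cE1361)) (BT.node 1362 (BT.leaf cE1362) (BT.leaf cE1363)))))) (BT.node 1383 (BT.node 1373 (BT.node 1368 (BT.node 1366 (BT.node 1365 (BT.node 1364 (BT.leaf cE1364) (BT.leaf cE1365)) (BT.leaf cE1366)) (BT.node 1367 (BT.leaf cE1367) (BT.leaf cE1368))) (BT.node 1371 (BT.node 1370 (BT.node 1369 (BT.leaf cE1369) (BT.leaf cE1370)) (BT.leaf cE1371)) (BT.node 1372 (BT.leaf cE1372) (BT.leaf cE1373)))) (BT.node 1378 (BT.node 1376 (BT.node 1375 (BT.node 1374 (BT.leaf cE1374) (BT.leaf cE1375)) (BT.leaf cE1376)) (BT.node 1377 (BT.leaf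 cE1377) (BT.leaf cE1378))) (BT.node 1381 (BT.node 1380 (BT.node 1379 (BT.leaf cE1379) (BT.leaf cE1380)) (BT.leaf cE1381)) (BT.node 1382 (BT.leaf cE1382) (BT.leaf cE1383))))) (BT.node 1393 (BT.node 1388 (BT.node 1386 (BT.node 1385 (BT.node 1384 (BT.leaf cE1384) (BT.leaf cE1385)) (BT.leaf cE1386)) (BT.node 1387 (BT.leaf cE1387) (BT.leaf cE1388))) (BT.node 1391 (BT.node 1390 (BT.node 1389 (BT.leaf cE1389) (BT.leaf cE1390)) (BT.leaf cE1391)) (BT.node 1392 (BT.leaf cE1392) (BT.leaf cE1393)))) (BT.node 1398 (BT.node 1396 (BT.node 1395 (BT.node 1394 (BT.leaf cE1394) (BT.leaf cE1395)) (BT.leaf cE1396)) (BT.node 1397 (BT.leaf cE1397) (BT.leaf cE1398))) (BT.node 1400 (BT.node 1399 (BT.leaf cE1399) (BT.leaf cE1400)) (BT.node 1401 (BT.leaf cE1401) (BT.leaf cE1402)))))))) (BT.node 1480 (BT.node 1441 (BT.node 1422 (BT.node 1412 (BT.node 1407 (BT.node 1405 (BT.node 1404 (BT.node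 1403 (BT.leaf cE1403) (BT.leaf cE1404)) (BT.leaf cE1405)) (BT.node 1406 (BT.leaf cE1406) (BT.leaf cE1407))) (BT.node 1410 (BT.node 1409 (BT.node 1408 (BT.leaf cE1408) (BT.leaf cE1409)) (BT.leaf cE1410)) (BT.node 1411 (BT.leaf cE1411) (BT.leaf cE1412)))) (BT.node 1417 (BT.node 1415 (BT.node 1414 (BT.node 1413 (BT.leaf cE1413) (BT.leaf cE1414)) (BT.leaf cE1415)) (BT.node 1416 (BT.leaf cE1416) (BT.leaf cE1417))) (BT.node 1420 (BT.node 1419 (BT.node 1418 (BT.leaf cE1418) (BT.leaf cE1419)) (BT.leaf cE1420)) (BT.node 1421 (BT.leaf cE1421) (BT.leaf cE1422))))) (BT.node 1432 (BT.node 1427 (BT.node 1425 (BT.node 1424 (BT.node 1423 (BT.leaf cE1423) (BT.leaf cE1424)) (BT.leaf cE1425)) (BT.node 1426 (BT.leaf cE1426) (BT.leaf cE1427))) (BT.node 1430 (BT.node 1429 (BT.node 1428 (BT.leaf cE1428) (BT.leaf cE1429)) (BT.leaf cE1430)) (BT.node 1431 (BT.leaf cE1431) (BT.leaf cE1432))))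 (BT.node 1437 (BT.node 1435 (BT.node 1434 (BT.node 1433 (BT.leaf cE1433) (BT.leaf cE1434)) (BT.leaf cE1435)) (BT.node 1436 (BT.leaf cE1436) (BT.leaf cE1437))) (BT.node 1439 (BT.node 1438 (BT.leaf cE1438) (BT.leaf cE1439)) (BT.node 1440 (BT.leaf cE1440) (BT.leaf cE1441)))))) (BT.node 1461 (BT.node 1451 (BT.node 1446 (BT.node 1444 (BT.node 1443 (BT.node 1442 (BT.leaf cE1442) (BT.leaf cE1443)) (BT.leaf cE1444)) (BT.node 1445 (BT.leaf cE1445) (BT.leaf cE1446))) (BT.node 1449 (BT.node 1448 (BT.node 1447 (BT.leaf cE1447) (BT.leaf cE1448)) (BT.leaf cE1449)) (BT.node 1450 (BT.leaf cE1450) (BT.leaf cE1451)))) (BT.node 1456 (BT.node 1454 (BT.node 1453 (BT.node 1452 (BT.leaf cE1452) (BT.leaf cE1453)) (BT.leaf cE1454)) (BT.node 1455 (BT.leaf cE1455) (BT.leaf cE1456))) (BT.node 1459 (BT.node 1458 (BT.node 1457 (BT.leaf cE1457) (BT.leaf cE1458)) (BT.leaf cE1459)) (BT.node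 1460 (BT.leaf cE1460) (BT.leaf cE1461))))) (BT.node 1471 (BT.node 1466 (BT.node 1464 (BT.node 1463 (BT.node 1462 (BT.leaf cE1462) (BT.leaf cE1463)) (BT.leaf cE1464)) (BT.node 1465 (BT.leaf cE1465) (BT.leaf cE1466))) (BT.node 1469 (BT.node 1468 (BT.node 1467 (BT.leaf cE1467) (BT.leaf cE1468)) (BT.leaf cE1469)) (BT.node 1470 (BT.leaf cE1470) (BT.leaf cE1471)))) (BT.node 1476 (BT.node 1474 (BT.node 1473 (BT.node 1472 (BT.leaf cE1472) (BT.leaf cE1473)) (BT.leaf cE1474)) (BT.node 1475 (BT.leaf cE1475) (BT.leaf cE1476))) (BT.node 1478 (BT.node 1477 (BT.leaf cE1477) (BT.leaf cE1478)) (BT.node 1479 (BT.leaf cE1479) (BT.leaf cE1480))))))) (BT.node 1519 (BT.node 1500 (BT.node 1490 (BT.node 1485 (BT.node 1483 (BT.node 1482 (BT.node 1481 (BT.leaf cE1481) (BT.leaf cE1482)) (BT.leaf cE1483)) (BT.node 1484 (BT.leaf cE1484) (BT.leaf cE1485))) (BT.node 1488 (BT.node 1487 (BT.node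 1486 (BT.leaf cE1486) (BT.leaf cE1487)) (BT.leaf cE1488)) (BT.node 1489 (BT.leaf cE1489) (BT.leaf cE1490)))) (BT.node 1495 (BT.node 1493 (BT.node 1492 (BT.node 1491 (BT.leaf cE1491) (BT.leaf cE1492)) (BT.leaf cE1493)) (BT.node 1494 (BT.leaf cE1494) (BT.leaf cE1495))) (BT.node 1498 (BT.node 1497 (BT.node 1496 (BT.leaf cE1496) (BT.leaf cE1497)) (BT.leaf cE1498)) (BT.node 1499 (BT.leaf cE1499) (BT.leaf cE1500))))) (BT.node 1510 (BT.node 1505 (BT.node 1503 (BT.node 1502 (BT.node 1501 (BT.leaf cE1501) (BT.leaf cE1502)) (BT.leaf cE1503)) (BT.node 1504 (BT.leaf cE1504) (BT.leaf cE1505))) (BT.node 1508 (BT.node 1507 (BT.node 1506 (BT.leaf cE1506) (BT.leaf cE1507)) (BT.leaf cE1508)) (BT.node 1509 (BT.leaf cE1509) (BT.leaf cE1510)))) (BT.node 1515 (BT.node 1513 (BT.node 1512 (BT.node 1511 (BT.leaf cE1511) (BT.leaf cE1512)) (BT.leaf cE1513)) (BT.node 1514 (BT.leaf cE1514)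 (BT.leaf cE1515))) (BT.node 1517 (BT.node 1516 (BT.leaf cE1516) (BT.leaf cE1517)) (BT.node 1518 (BT.leaf cE1518) (BT.leaf cE1519)))))) (BT.node 1539 (BT.node 1529 (BT.node 1524 (BT.node 1522 (BT.node 1521 (BT.node 1520 (BT.leaf cE1520) (BT.leaf cE1521)) (BT.leaf cE1522)) (BT.node 1523 (BT.leaf cE1523) (BT.leaf cE1524))) (BT.node 1527 (BT.node 1526 (BT.node 1525 (BT.leaf cE1525) (BT.leaf cE1526)) (BT.leaf cE1527)) (BT.node 1528 (BT.leaf cE1528) (BT.leaf cE1529)))) (BT.node 1534 (BT.node 1532 (BT.node 1531 (BT.node 1530 (BT.leaf cE1530) (BT.leaf cE1531)) (BT.leaf cE1532)) (BT.node 1533 (BT.leaf cE1533) (BT.leaf cE1534))) (BT.node 1537 (BT.node 1536 (BT.node 1535 (BT.leaf cE1535) (BT.leaf cE1536)) (BT.leaf cE1537)) (BT.node 1538 (BT.leaf cE1538) (BT.leaf cE1539))))) (BT.node 1549 (BT.node 1544 (BT.node 1542 (BT.node 1541 (BT.node 1540 (BT.leaf cE1540) (BT.leaf cE1541))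 (BT.leaf cE1542)) (BT.node 1543 (BT.leaf cE1543) (BT.leaf cE1544))) (BT.node 1547 (BT.node 1546 (BT.node 1545 (BT.leaf cE1545) (BT.leaf cE1546)) (BT.leaf cE1547)) (BT.node 1548 (BT.leaf cE1548) (BT.leaf cE1549)))) (BT.node 1554 (BT.node 1552 (BT.node 1551 (BT.node 1550 (BT.leaf cE1550) (BT.leaf cE1551)) (BT.leaf cE1552)) (BT.node 1553 (BT.leaf cE1553) (BT.leaf cE1554))) (BT.node 1556 (BT.node 1555 (BT.leaf cE1555) (BT.leaf cE1556)) (BT.node 1557 (BT.leaf cE1557) (BT.leaf cE1558))))))))) (BT.node 1714 (BT.node 1636 (BT.node 1597 (BT.node 1578 (BT.node 1568 (BT.node 1563 (BT.node 1561 (BT.node 1560 (BT.node 1559 (BT.leaf cE1559) (BT.leaf cE1560)) (BT.leaf cE1561)) (BT.node 1562 (BT.leaf cE1562) (BT.leaf cE1563))) (BT.node 1566 (BT.node 1565 (BT.node 1564 (BT.leaf cE1564) (BT.leaf cE1565)) (BT.leaf cE1566)) (BT.node 1567 (BT.leaf cE1567) (BT.leaf cE1568)))) (BT.node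 1573 (BT.node 1571 (BT.node 1570 (BT.node 1569 (BT.leaf cE1569) (BT.leaf cE1570)) (BT.leaf cE1571)) (BT.node 1572 (BT.leaf cE1572) (BT.leaf cE1573))) (BT.node 1576 (BT.node 1575 (BT.node 1574 (BT.leaf cE1574) (BT.leaf cE1575)) (BT.leaf cE1576)) (BT.node 1577 (BT.leaf cE1577) (BT.leaf cE1578))))) (BT.node 1588 (BT.node 1583 (BT.node 1581 (BT.node 1580 (BT.node 1579 (BT.leaf cE1579) (BT.leaf cE1580)) (BT.leaf cE1581)) (BT.node 1582 (BT.leaf cE1582) (BT.leaf cE1583))) (BT.node 1586 (BT.node 1585 (BT.node 1584 (BT.leaf cE1584) (BT.leaf cE1585)) (BT.leaf cE1586)) (BT.node 1587 (BT.leaf cE1587) (BT.leaf cE1588)))) (BT.node 1593 (BT.node 1591 (BT.node 1590 (BT.node 1589 (BT.leaf cE1589) (BT.leaf cE1590)) (BT.leaf cE1591)) (BT.node 1592 (BT.leaf cE1592) (BT.leaf cE1593))) (BT.node 1595 (BT.node 1594 (BT.leaf cE1594) (BT.leaf cE1595)) (BT.node 1596 (BT.leaf cE1596) (BT.leaf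 cE1597)))))) (BT.node 1617 (BT.node 1607 (BT.node 1602 (BT.node 1600 (BT.node 1599 (BT.node 1598 (BT.leaf cE1598) (BT.leaf cE1599)) (BT.leaf cE1600)) (BT.node 1601 (BT.leaf cE1601) (BT.leaf cE1602))) (BT.node 1605 (BT.node 1604 (BT.node 1603 (BT.leaf cE1603) (BT.leaf cE1604)) (BT.leaf cE1605)) (BT.node 1606 (BT.leaf cE1606) (BT.leaf cE1607)))) (BT.node 1612 (BT.node 1610 (BT.node 1609 (BT.node 1608 (BT.leaf cE1608) (BT.leaf cE1609)) (BT.leaf cE1610)) (BT.node 1611 (BT.leaf cE1611) (BT.leaf cE1612))) (BT.node 1615 (BT.node 1614 (BT.node 1613 (BT.leaf cE1613) (BT.leaf cE1614)) (BT.leaf cE1615)) (BT.node 1616 (BT.leaf cE1616) (BT.leaf cE1617))))) (BT.node 1627 (BT.node 1622 (BT.node 1620 (BT.node 1619 (BT.node 1618 (BT.leaf cE1618) (BT.leaf cE1619)) (BT.leaf cE1620)) (BT.node 1621 (BT.leaf cE1621) (BT.leaf cE1622))) (BT.node 1625 (BT.node 1624 (BT.node 1623 (BT.leaf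 cE1623) (BT.leaf cE1624)) (BT.leaf cE1625)) (BT.node 1626 (BT.leaf cE1626) (BT.leaf cE1627)))) (BT.node 1632 (BT.node 1630 (BT.node 1629 (BT.node 1628 (BT.leaf cE1628) (BT.leaf cE1629)) (BT.leaf cE1630)) (BT.node 1631 (BT.leaf cE1631) (BT.leaf cE1632))) (BT.node 1634 (BT.node 1633 (BT.leaf cE1633) (BT.leaf cE1634)) (BT.node 1635 (BT.leaf cE1635) (BT.leaf cE1636))))))) (BT.node 1675 (BT.node 1656 (BT.node 1646 (BT.node 1641 (BT.node 1639 (BT.node 1638 (BT.node 1637 (BT.leaf cE1637) (BT.leaf cE1638)) (BT.leaf cE1639)) (BT.node 1640 (BT.leaf cE1640) (BT.leaf cE1641))) (BT.node 1644 (BT.node 1643 (BT.node 1642 (BT.leaf cE1642) (BT.leaf cE1643)) (BT.leaf cE1644)) (BT.node 1645 (BT.leaf cE1645) (BT.leaf cE1646)))) (BT.node 1651 (BT.node 1649 (BT.node 1648 (BT.node 1647 (BT.leaf cE1647) (BT.leaf cE1648)) (BT.leaf cE1649)) (BT.node 1650 (BT.leaf cE1650) (BT.leaf cE1651)))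 (BT.node 1654 (BT.node 1653 (BT.node 1652 (BT.leaf cE1652) (BT.leaf cE1653)) (BT.leaf cE1654)) (BT.node 1655 (BT.leaf cE1655) (BT.leaf cE1656))))) (BT.node 1666 (BT.node 1661 (BT.node 1659 (BT.node 1658 (BT.node 1657 (BT.leaf cE1657) (BT.leaf cE1658)) (BT.leaf cE1659)) (BT.node 1660 (BT.leaf cE1660) (BT.leaf cE1661))) (BT.node 1664 (BT.node 1663 (BT.node 1662 (BT.leaf cE1662) (BT.leaf cE1663)) (BT.leaf cE1664)) (BT.node 1665 (BT.leaf cE1665) (BT.leaf cE1666)))) (BT.node 1671 (BT.node 1669 (BT.node 1668 (BT.node 1667 (BT.leaf cE1667) (BT.leaf cE1668)) (BT.leaf cE1669)) (BT.node 1670 (BT.leaf cE1670) (BT.leaf cE1671))) (BT.node 1673 (BT.node 1672 (BT.leaf cE1672) (BT.leaf cE1673)) (BT.node 1674 (BT.leaf cE1674) (BT.leaf cE1675)))))) (BT.node 1695 (BT.node 1685 (BT.node 1680 (BT.node 1678 (BT.node 1677 (BT.node 1676 (BT.leaf cE1676) (BT.leaf cE1677)) (BT.leaf cE1678))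 (BT.node 1679 (BT.leaf cE1679) (BT.leaf cE1680))) (BT.node 1683 (BT.node 1682 (BT.node 1681 (BT.leaf cE1681) (BT.leaf cE1682)) (BT.leaf cE1683)) (BT.node 1684 (BT.leaf cE1684) (BT.leaf cE1685)))) (BT.node 1690 (BT.node 1688 (BT.node 1687 (BT.node 1686 (BT.leaf cE1686) (BT.leaf cE1687)) (BT.leaf cE1688)) (BT.node 1689 (BT.leaf cE1689) (BT.leaf cE1690))) (BT.node 1693 (BT.node 1692 (BT.node 1691 (BT.leaf cE1691) (BT.leaf cE1692)) (BT.leaf cE1693)) (BT.node 1694 (BT.leaf cE1694) (BT.leaf cE1695))))) (BT.node 1705 (BT.node 1700 (BT.node 1698 (BT.node 1697 (BT.node 1696 (BT.leaf cE1696) (BT.leaf cE1697)) (BT.leaf cE1698)) (BT.node 1699 (BT.leaf cE1699) (BT.leaf cE1700))) (BT.node 1703 (BT.node 1702 (BT.node 1701 (BT.leaf cE1701) (BT.leaf cE1702)) (BT.leaf cE1703)) (BT.node 1704 (BT.leaf cE1704) (BT.leaf cE1705)))) (BT.node 1710 (BT.node 1708 (BT.node 1707 (BT.node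 1706 (BT.leaf cE1706) (BT.leaf cE1707)) (BT.leaf cE1708)) (BT.node 1709 (BT.leaf cE1709) (BT.leaf cE1710))) (BT.node 1712 (BT.node 1711 (BT.leaf cE1711) (BT.leaf cE1712)) (BT.node 1713 (BT.leaf cE1713) (BT.leaf cE1714)))))))) (BT.node 1792 (BT.node 1753 (BT.node 1734 (BT.node 1724 (BT.node 1719 (BT.node 1717 (BT.node 1716 (BT.node 1715 (BT.leaf cE1715) (BT.leaf cE1716)) (BT.leaf cE1717)) (BT.node 1718 (BT.leaf cE1718) (BT.leaf cE1719))) (BT.node 1722 (BT.node 1721 (BT.node 1720 (BT.leaf cE1720) (BT.leaf cE1721)) (BT.leaf cE1722)) (BT.node 1723 (BT.leaf cE1723) (BT.leaf cE1724)))) (BT.node 1729 (BT.node 1727 (BT.node 1726 (BT.node 1725 (BT.leaf cE1725) (BT.leaf cE1726)) (BT.leaf cE1727)) (BT.node 1728 (BT.leaf cE1728) (BT.leaf cE1729))) (BT.node 1732 (BT.node 1731 (BT.node 1730 (BT.leaf cE1730) (BT.leaf cE1731)) (BT.leaf cE1732)) (BT.node 1733 (BT.leaf cE1733)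 (BT.leaf cE1734))))) (BT.node 1744 (BT.node 1739 (BT.node 1737 (BT.node 1736 (BT.node 1735 (BT.leaf cE1735) (BT.leaf cE1736)) (BT.leaf cE1737)) (BT.node 1738 (BT.leaf cE1738) (BT.leaf cE1739))) (BT.node 1742 (BT.node 1741 (BT.node 1740 (BT.leaf cE1740) (BT.leaf cE1741)) (BT.leaf cE1742)) (BT.node 1743 (BT.leaf cE1743) (BT.leaf cE1744)))) (BT.node 1749 (BT.node 1747 (BT.node 1746 (BT.node 1745 (BT.leaf cE1745) (BT.leaf cE1746)) (BT.leaf cE1747)) (BT.node 1748 (BT.leaf cE1748) (BT.leaf cE1749))) (BT.node 1751 (BT.node 1750 (BT.leaf cE1750) (BT.leaf cE1751)) (BT.node 1752 (BT.leaf cE1752) (BT.leaf cE1753)))))) (BT.node 1773 (BT.node 1763 (BT.node 1758 (BT.node 1756 (BT.node 1755 (BT.node 1754 (BT.leaf cE1754) (BT.leaf cE1755)) (BT.leaf cE1756)) (BT.node 1757 (BT.leaf cE1757) (BT.leaf cE1758))) (BT.node 1761 (BT.node 1760 (BT.node 1759 (BT.leaf cE1759) (BT.leaf cE1760))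 (BT.leaf cE1761)) (BT.node 1762 (BT.leaf cE1762) (BT.leaf cE1763)))) (BT.node 1768 (BT.node 1766 (BT.node 1765 (BT.node 1764 (BT.leaf cE1764) (BT.leaf cE1765)) (BT.leaf cE1766)) (BT.node 1767 (BT.leaf cE1767) (BT.leaf cE1768))) (BT.node 1771 (BT.node 1770 (BT.node 1769 (BT.leaf cE1769) (BT.leaf cE1770)) (BT.leaf cE1771)) (BT.node 1772 (BT.leaf cE1772) (BT.leaf cE1773))))) (BT.node 1783 (BT.node 1778 (BT.node 1776 (BT.node 1775 (BT.node 1774 (BT.leaf cE1774) (BT.leaf cE1775)) (BT.leaf cE1776)) (BT.node 1777 (BT.leaf cE1777) (BT.leaf cE1778))) (BT.node 1781 (BT.node 1780 (BT.node 1779 (BT.leaf cE1779) (BT.leaf cE1780)) (BT.leaf cE1781)) (BT.node 1782 (BT.leaf cE1782) (BT.leaf cE1783)))) (BT.node 1788 (BT.node 1786 (BT.node 1785 (BT.node 1784 (BT.leaf cE1784) (BT.leaf cE1785)) (BT.leaf cE1786)) (BT.node 1787 (BT.leaf cE1787) (BT.leaf cE1788))) (BT.node 1790 (BT.node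 1789 (BT.leaf cE1789) (BT.leaf cE1790)) (BT.node 1791 (BT.leaf cE1791) (BT.leaf cE1792))))))) (BT.node 1831 (BT.node 1812 (BT.node 1802 (BT.node 1797 (BT.node 1795 (BT.node 1794 (BT.node 1793 (BT.leaf cE1793) (BT.leaf cE1794)) (BT.leaf cE1795)) (BT.node 1796 (BT.leaf cE1796) (BT.leaf cE1797))) (BT.node 1800 (BT.node 1799 (BT.node 1798 (BT.leaf cE1798) (BT.leaf cE1799)) (BT.leaf cE1800)) (BT.node 1801 (BT.leaf cE1801) (BT.leaf cE1802)))) (BT.node 1807 (BT.node 1805 (BT.node 1804 (BT.node 1803 (BT.leaf cE1803) (BT.leaf cE1804)) (BT.leaf cE1805)) (BT.node 1806 (BT.leaf cE1806) (BT.leaf cE1807))) (BT.node 1810 (BT.node 1809 (BT.node 1808 (BT.leaf cE1808) (BT.leaf cE1809)) (BT.leaf cE1810)) (BT.node 1811 (BT.leaf cE1811) (BT.leaf cE1812))))) (BT.node 1822 (BT.node 1817 (BT.node 1815 (BT.node 1814 (BT.node 1813 (BT.leaf cE1813) (BT.leaf cE1814)) (BT.leaf cE1815)) (BT.node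 1816 (BT.leaf cE1816) (BT.leaf cE1817))) (BT.node 1820 (BT.node 1819 (BT.node 1818 (BT.leaf cE1818) (BT.leaf cE1819)) (BT.leaf cE1820)) (BT.node 1821 (BT.leaf cE1821) (BT.leaf cE1822)))) (BT.node 1827 (BT.node 1825 (BT.node 1824 (BT.node 1823 (BT.leaf cE1823) (BT.leaf cE1824)) (BT.leaf cE1825)) (BT.node 1826 (BT.leaf cE1826) (BT.leaf cE1827))) (BT.node 1829 (BT.node 1828 (BT.leaf cE1828) (BT.leaf cE1829)) (BT.node 1830 (BT.leaf cE1830) (BT.leaf cE1831)))))) (BT.node 1850 (BT.node 1841 (BT.node 1836 (BT.node 1834 (BT.node 1833 (BT.node 1832 (BT.leaf cE1832) (BT.leaf cE1833)) (BT.leaf cE1834)) (BT.node 1835 (BT.leaf cE1835) (BT.leaf cE1836))) (BT.node 1839 (BT.node 1838 (BT.node 1837 (BT.leaf cE1837) (BT.leaf cE1838)) (BT.leaf cE1839)) (BT.node 1840 (BT.leaf cE1840) (BT.leaf cE1841)))) (BT.node 1846 (BT.node 1844 (BT.node 1843 (BT.node 1842 (BT.leaf cE1842) (BT.leaf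 cE1843)) (BT.leaf cE1844)) (BT.node 1845 (BT.leaf cE1845) (BT.leaf cE1846))) (BT.node 1848 (BT.node 1847 (BT.leaf cE1847) (BT.leaf cE1848)) (BT.node 1849 (BT.leaf cE1849) (BT.leaf cE1850))))) (BT.node 1860 (BT.node 1855 (BT.node 1853 (BT.node 1852 (BT.node 1851 (BT.leaf cE1851) (BT.leaf cE1852)) (BT.leaf cE1853)) (BT.node 1854 (BT.leaf cE1854) (BT.leaf cE1855))) (BT.node 1858 (BT.node 1857 (BT.node 1856 (BT.leaf cE1856) (BT.leaf cE1857)) (BT.leaf cE1858)) (BT.node 1859 (BT.leaf cE1859) (BT.leaf cE1860)))) (BT.node 1865 (BT.node 1863 (BT.node 1862 (BT.node 1861 (BT.leaf cE1861) (BT.leaf cE1862)) (BT.leaf cE1863)) (BT.node 1864 (BT.leaf cE1864) (BT.leaf cE1865))) (BT.node 1867 (BT.node 1866 (BT.leaf cE1866) (BT.leaf cE1867)) (BT.node 1868 (BT.leaf cE1868) (BT.leaf cE1869)))))))))) (BT.node 2181 (BT.node 2025 (BT.node 1947 (BT.node 1908 (BT.node 1889 (BT.node 1879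 (BT.node 1874 (BT.node 1872 (BT.node 1871 (BT.node 1870 (BT.leaf cE1870) (BT.leaf cE1871)) (BT.leaf cE1872)) (BT.node 1873 (BT.leaf cE1873) (BT.leaf cE1874))) (BT.node 1877 (BT.node 1876 (BT.node 1875 (BT.leaf cE1875) (BT.leaf cE1876)) (BT.leaf cE1877)) (BT.node 1878 (BT.leaf cE1878) (BT.leaf cE1879)))) (BT.node 1884 (BT.node 1882 (BT.node 1881 (BT.node 1880 (BT.leaf cE1880) (BT.leaf cE1881)) (BT.leaf cE1882)) (BT.node 1883 (BT.leaf cE1883) (BT.leaf cE1884))) (BT.node 1887 (BT.node 1886 (BT.node 1885 (BT.leaf cE1885) (BT.leaf cE1886)) (BT.leaf cE1887)) (BT.node 1888 (BT.leaf cE1888) (BT.leaf cE1889))))) (BT.node 1899 (BT.node 1894 (BT.node 1892 (BT.node 1891 (BT.node 1890 (BT.leaf cE1890) (BT.leaf cE1891)) (BT.leaf cE1892)) (BT.node 1893 (BT.leaf cE1893) (BT.leaf cE1894))) (BT.node 1897 (BT.node 1896 (BT.node 1895 (BT.leaf cE1895) (BT.leaf cE1896)) (BT.leaf cE1897))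 (BT.node 1898 (BT.leaf cE1898) (BT.leaf cE1899)))) (BT.node 1904 (BT.node 1902 (BT.node 1901 (BT.node 1900 (BT.leaf cE1900) (BT.leaf cE1901)) (BT.leaf cE1902)) (BT.node 1903 (BT.leaf cE1903) (BT.leaf cE1904))) (BT.node 1906 (BT.node 1905 (BT.leaf cE1905) (BT.leaf cE1906)) (BT.node 1907 (BT.leaf cE1907) (BT.leaf cE1908)))))) (BT.node 1928 (BT.node 1918 (BT.node 1913 (BT.node 1911 (BT.node 1910 (BT.node 1909 (BT.leaf cE1909) (BT.leaf cE1910)) (BT.leaf cE1911)) (BT.node 1912 (BT.leaf cE1912) (BT.leaf cE1913))) (BT.node 1916 (BT.node 1915 (BT.node 1914 (BT.leaf cE1914) (BT.leaf cE1915)) (BT.leaf cE1916)) (BT.node 1917 (BT.leaf cE1917) (BT.leaf cE1918)))) (BT.node 1923 (BT.node 1921 (BT.node 1920 (BT.node 1919 (BT.leaf cE1919) (BT.leaf cE1920)) (BT.leaf cE1921)) (BT.node 1922 (BT.leaf cE1922) (BT.leaf cE1923))) (BT.node 1926 (BT.node 1925 (BT.node 1924 (BT.leaf cE1924)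 (BT.leaf cE1925)) (BT.leaf cE1926)) (BT.node 1927 (BT.leaf cE1927) (BT.leaf cE1928))))) (BT.node 1938 (BT.node 1933 (BT.node 1931 (BT.node 1930 (BT.node 1929 (BT.leaf cE1929) (BT.leaf cE1930)) (BT.leaf cE1931)) (BT.node 1932 (BT.leaf cE1932) (BT.leaf cE1933))) (BT.node 1936 (BT.node 1935 (BT.node 1934 (BT.leaf cE1934) (BT.leaf cE1935)) (BT.leaf cE1936)) (BT.node 1937 (BT.leaf cE1937) (BT.leaf cE1938)))) (BT.node 1943 (BT.node 1941 (BT.node 1940 (BT.node 1939 (BT.leaf cE1939) (BT.leaf cE1940)) (BT.leaf cE1941)) (BT.node 1942 (BT.leaf cE1942) (BT.leaf cE1943))) (BT.node 1945 (BT.node 1944 (BT.leaf cE1944) (BT.leaf cE1945)) (BT.node 1946 (BT.leaf cE1946) (BT.leaf cE1947))))))) (BT.node 1986 (BT.node 1967 (BT.node 1957 (BT.node 1952 (BT.node 1950 (BT.node 1949 (BT.node 1948 (BT.leaf cE1948) (BT.leaf cE1949)) (BT.leaf cE1950)) (BT.node 1951 (BT.leaf cE1951) (BT.leaf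 cE1952))) (BT.node 1955 (BT.node 1954 (BT.node 1953 (BT.leaf cE1953) (BT.leaf cE1954)) (BT.leaf cE1955)) (BT.node 1956 (BT.leaf cE1956) (BT.leaf cE1957)))) (BT.node 1962 (BT.node 1960 (BT.node 1959 (BT.node 1958 (BT.leaf cE1958) (BT.leaf cE1959)) (BT.leaf cE1960)) (BT.node 1961 (BT.leaf cE1961) (BT.leaf cE1962))) (BT.node 1965 (BT.node 1964 (BT.node 1963 (BT.leaf cE1963) (BT.leaf cE1964)) (BT.leaf cE1965)) (BT.node 1966 (BT.leaf cE1966) (BT.leaf cE1967))))) (BT.node 1977 (BT.node 1972 (BT.node 1970 (BT.node 1969 (BT.node 1968 (BT.leaf cE1968) (BT.leaf cE1969)) (BT.leaf cE1970)) (BT.node 1971 (BT.leaf cE1971) (BT.leaf cE1972))) (BT.node 1975 (BT.node 1974 (BT.node 1973 (BT.leaf cE1973) (BT.leaf cE1974)) (BT.leaf cE1975)) (BT.node 1976 (BT.leaf cE1976) (BT.leaf cE1977)))) (BT.node 1982 (BT.node 1980 (BT.node 1979 (BT.node 1978 (BT.leaf cE1978) (BT.leaf cE1979))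 (BT.leaf cE1980)) (BT.node 1981 (BT.leaf cE1981) (BT.leaf cE1982))) (BT.node 1984 (BT.node 1983 (BT.leaf cE1983) (BT.leaf cE1984)) (BT.node 1985 (BT.leaf cE1985) (BT.leaf cE1986)))))) (BT.node 2006 (BT.node 1996 (BT.node 1991 (BT.node 1989 (BT.node 1988 (BT.node 1987 (BT.leaf cE1987) (BT.leaf cE1988)) (BT.leaf cE1989)) (BT.node 1990 (BT.leaf cE1990) (BT.leaf cE1991))) (BT.node 1994 (BT.node 1993 (BT.node 1992 (BT.leaf cE1992) (BT.leaf cE1993)) (BT.leaf cE1994)) (BT.node 1995 (BT.leaf cE1995) (BT.leaf cE1996)))) (BT.node 2001 (BT.node 1999 (BT.node 1998 (BT.node 1997 (BT.leaf cE1997) (BT.leaf cE1998)) (BT.leaf cE1999)) (BT.node 2000 (BT.leaf cE2000) (BT.leaf cE2001))) (BT.node 2004 (BT.node 2003 (BT.node 2002 (BT.leaf cE2002) (BT.leaf cE2003)) (BT.leaf cE2004)) (BT.node 2005 (BT.leaf cE2005) (BT.leaf cE2006))))) (BT.node 2016 (BT.node 2011 (BT.node 2009 (BT.node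 2008 (BT.node 2007 (BT.leaf cE2007) (BT.leaf cE2008)) (BT.leaf cE2009)) (BT.node 2010 (BT.leaf cE2010) (BT.leaf cE2011))) (BT.node 2014 (BT.node 2013 (BT.node 2012 (BT.leaf cE2012) (BT.leaf cE2013)) (BT.leaf cE2014)) (BT.node 2015 (BT.leaf cE2015) (BT.leaf cE2016)))) (BT.node 2021 (BT.node 2019 (BT.node 2018 (BT.node 2017 (BT.leaf cE2017) (BT.leaf cE2018)) (BT.leaf cE2019)) (BT.node 2020 (BT.leaf cE2020) (BT.leaf cE2021))) (BT.node 2023 (BT.node 2022 (BT.leaf cE2022) (BT.leaf cE2023)) (BT.node 2024 (BT.leaf cE2024) (BT.leaf cE2025)))))))) (BT.node 2103 (BT.node 2064 (BT.node 2045 (BT.node 2035 (BT.node 2030 (BT.node 2028 (BT.node 2027 (BT.node 2026 (BT.leaf cE2026) (BT.leaf cE2027)) (BT.leaf cE2028)) (BT.node 2029 (BT.leaf cE2029) (BT.leaf cE2030))) (BT.node 2033 (BT.node 2032 (BT.node 2031 (BT.leaf cE2031) (BT.leaf cE2032)) (BT.leaf cE2033)) (BT.node 2034 (BT.leaf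 cE2034) (BT.leaf cE2035)))) (BT.node 2040 (BT.node 2038 (BT.node 2037 (BT.node 2036 (BT.leaf cE2036) (BT.leaf cE2037)) (BT.leaf cE2038)) (BT.node 2039 (BT.leaf cE2039) (BT.leaf cE2040))) (BT.node 2043 (BT.node 2042 (BT.node 2041 (BT.leaf cE2041) (BT.leaf cE2042)) (BT.leaf cE2043)) (BT.node 2044 (BT.leaf cE2044) (BT.leaf cE2045))))) (BT.node 2055 (BT.node 2050 (BT.node 2048 (BT.node 2047 (BT.node 2046 (BT.leaf cE2046) (BT.leaf cE2047)) (BT.leaf cE2048)) (BT.node 2049 (BT.leaf cE2049) (BT.leaf cE2050))) (BT.node 2053 (BT.node 2052 (BT.node 2051 (BT.leaf cE2051) (BT.leaf cE2052)) (BT.leaf cE2053)) (BT.node 2054 (BT.leaf cE2054) (BT.leaf cE2055)))) (BT.node 2060 (BT.node 2058 (BT.node 2057 (BT.node 2056 (BT.leaf cE2056) (BT.leaf cE2057)) (BT.leaf cE2058)) (BT.node 2059 (BT.leaf cE2059) (BT.leaf cE2060))) (BT.node 2062 (BT.node 2061 (BT.leaf cE2061) (BT.leaf cE2062))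 (BT.node 2063 (BT.leaf cE2063) (BT.leaf cE2064)))))) (BT.node 2084 (BT.node 2074 (BT.node 2069 (BT.node 2067 (BT.node 2066 (BT.node 2065 (BT.leaf cE2065) (BT.leaf cE2066)) (BT.leaf cE2067)) (BT.node 2068 (BT.leaf cE2068) (BT.leaf cE2069))) (BT.node 2072 (BT.node 2071 (BT.node 2070 (BT.leaf cE2070) (BT.leaf cE2071)) (BT.leaf cE2072)) (BT.node 2073 (BT.leaf cE2073) (BT.leaf cE2074)))) (BT.node 2079 (BT.node 2077 (BT.node 2076 (BT.node 2075 (BT.leaf cE2075) (BT.leaf cE2076)) (BT.leaf cE2077)) (BT.node 2078 (BT.leaf cE2078) (BT.leaf cE2079))) (BT.node 2082 (BT.node 2081 (BT.node 2080 (BT.leaf cE2080) (BT.leaf cE2081)) (BT.leaf cE2082)) (BT.node 2083 (BT.leaf cE2083) (BT.leaf cE2084))))) (BT.node 2094 (BT.node 2089 (BT.node 2087 (BT.node 2086 (BT.node 2085 (BT.leaf cE2085) (BT.leaf cE2086)) (BT.leaf cE2087)) (BT.node 2088 (BT.leaf cE2088) (BT.leaf cE2089))) (BT.node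 2092 (BT.node 2091 (BT.node 2090 (BT.leaf cE2090) (BT.leaf cE2091)) (BT.leaf cE2092)) (BT.node 2093 (BT.leaf cE2093) (BT.leaf cE2094)))) (BT.node 2099 (BT.node 2097 (BT.node 2096 (BT.node 2095 (BT.leaf cE2095) (BT.leaf cE2096)) (BT.leaf cE2097)) (BT.node 2098 (BT.leaf cE2098) (BT.leaf cE2099))) (BT.node 2101 (BT.node 2100 (BT.leaf cE2100) (BT.leaf cE2101)) (BT.node 2102 (BT.leaf cE2102) (BT.leaf cE2103))))))) (BT.node 2142 (BT.node 2123 (BT.node 2113 (BT.node 2108 (BT.node 2106 (BT.node 2105 (BT.node 2104 (BT.leaf cE2104) (BT.leaf cE2105)) (BT.leaf cE2106)) (BT.node 2107 (BT.leaf cE2107) (BT.leaf cE2108))) (BT.node 2111 (BT.node 2110 (BT.node 2109 (BT.leaf cE2109) (BT.leaf cE2110)) (BT.leaf cE2111)) (BT.node 2112 (BT.leaf cE2112) (BT.leaf cE2113)))) (BT.node 2118 (BT.node 2116 (BT.node 2115 (BT.node 2114 (BT.leaf cE2114) (BT.leaf cE2115)) (BT.leaf cE2116)) (BT.node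 2117 (BT.leaf cE2117) (BT.leaf cE2118))) (BT.node 2121 (BT.node 2120 (BT.node 2119 (BT.leaf cE2119) (BT.leaf cE2120)) (BT.leaf cE2121)) (BT.node 2122 (BT.leaf cE2122) (BT.leaf cE2123))))) (BT.node 2133 (BT.node 2128 (BT.node 2126 (BT.node 2125 (BT.node 2124 (BT.leaf cE2124) (BT.leaf cE2125)) (BT.leaf cE2126)) (BT.node 2127 (BT.leaf cE2127) (BT.leaf cE2128))) (BT.node 2131 (BT.node 2130 (BT.node 2129 (BT.leaf cE2129) (BT.leaf cE2130)) (BT.leaf cE2131)) (BT.node 2132 (BT.leaf cE2132) (BT.leaf cE2133)))) (BT.node 2138 (BT.node 2136 (BT.node 2135 (BT.node 2134 (BT.leaf cE2134) (BT.leaf cE2135)) (BT.leaf cE2136)) (BT.node 2137 (BT.leaf cE2137) (BT.leaf cE2138))) (BT.node 2140 (BT.node 2139 (BT.leaf cE2139) (BT.leaf cE2140)) (BT.node 2141 (BT.leaf cE2141) (BT.leaf cE2142)))))) (BT.node 2162 (BT.node 2152 (BT.node 2147 (BT.node 2145 (BT.node 2144 (BT.node 2143 (BT.leaf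 cE2143) (BT.leaf cE2144)) (BT.leaf cE2145)) (BT.node 2146 (BT.leaf cE2146) (BT.leaf cE2147))) (BT.node 2150 (BT.node 2149 (BT.node 2148 (BT.leaf cE2148) (BT.leaf cE2149)) (BT.leaf cE2150)) (BT.node 2151 (BT.leaf cE2151) (BT.leaf cE2152)))) (BT.node 2157 (BT.node 2155 (BT.node 2154 (BT.node 2153 (BT.leaf cE2153) (BT.leaf cE2154)) (BT.leaf cE2155)) (BT.node 2156 (BT.leaf cE2156) (BT.leaf cE2157))) (BT.node 2160 (BT.node 2159 (BT.node 2158 (BT.leaf cE2158) (BT.leaf cE2159)) (BT.leaf cE2160)) (BT.node 2161 (BT.leaf cE2161) (BT.leaf cE2162))))) (BT.node 2172 (BT.node 2167 (BT.node 2165 (BT.node 2164 (BT.node 2163 (BT.leaf cE2163) (BT.leaf cE2164)) (BT.leaf cE2165)) (BT.node 2166 (BT.leaf cE2166) (BT.leaf cE2167))) (BT.node 2170 (BT.node 2169 (BT.node 2168 (BT.leaf cE2168) (BT.leaf cE2169)) (BT.leaf cE2170)) (BT.node 2171 (BT.leaf cE2171) (BT.leaf cE2172)))) (BT.node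 2177 (BT.node 2175 (BT.node 2174 (BT.node 2173 (BT.leaf cE2173) (BT.leaf cE2174)) (BT.leaf cE2175)) (BT.node 2176 (BT.leaf cE2176) (BT.leaf cE2177))) (BT.node 2179 (BT.node 2178 (BT.leaf cE2178) (BT.leaf cE2179)) (BT.node 2180 (BT.leaf cE2180) (BT.leaf cE2181))))))))) (BT.node 2337 (BT.node 2259 (BT.node 2220 (BT.node 2201 (BT.node 2191 (BT.node 2186 (BT.node 2184 (BT.node 2183 (BT.node 2182 (BT.leaf cE2182) (BT.leaf cE2183)) (BT.leaf cE2184)) (BT.node 2185 (BT.leaf cE2185) (BT.leaf cE2186))) (BT.node 2189 (BT.node 2188 (BT.node 2187 (BT.leaf cE2187) (BT.leaf cE2188)) (BT.leaf cE2189)) (BT.node 2190 (BT.leaf cE2190) (BT.leaf cE2191)))) (BT.node 2196 (BT.node 2194 (BT.node 2193 (BT.node 2192 (BT.leaf cE2192) (BT.leaf cE2193)) (BT.leaf cE2194)) (BT.node 2195 (BT.leaf cE2195) (BT.leaf cE2196))) (BT.node 2199 (BT.node 2198 (BT.node 2197 (BT.leaf cE2197) (BT.leaf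 cE2198)) (BT.leaf cE2199)) (BT.node 2200 (BT.leaf cE2200) (BT.leaf cE2201))))) (BT.node 2211 (BT.node 2206 (BT.node 2204 (BT.node 2203 (BT.node 2202 (BT.leaf cE2202) (BT.leaf cE2203)) (BT.leaf cE2204)) (BT.node 2205 (BT.leaf cE2205) (BT.leaf cE2206))) (BT.node 2209 (BT.node 2208 (BT.node 2207 (BT.leaf cE2207) (BT.leaf cE2208)) (BT.leaf cE2209)) (BT.node 2210 (BT.leaf cE2210) (BT.leaf cE2211)))) (BT.node 2216 (BT.node 2214 (BT.node 2213 (BT.node 2212 (BT.leaf cE2212) (BT.leaf cE2213)) (BT.leaf cE2214)) (BT.node 2215 (BT.leaf cE2215) (BT.leaf cE2216))) (BT.node 2218 (BT.node 2217 (BT.leaf cE2217) (BT.leaf cE2218)) (BT.node 2219 (BT.leaf cE2219) (BT.leaf cE2220)))))) (BT.node 2240 (BT.node 2230 (BT.node 2225 (BT.node 2223 (BT.node 2222 (BT.node 2221 (BT.leaf cE2221) (BT.leaf cE2222)) (BT.leaf cE2223)) (BT.node 2224 (BT.leaf cE2224) (BT.leaf cE2225))) (BT.node 2228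 (BT.node 2227 (BT.node 2226 (BT.leaf cE2226) (BT.leaf cE2227)) (BT.leaf cE2228)) (BT.node 2229 (BT.leaf cE2229) (BT.leaf cE2230)))) (BT.node 2235 (BT.node 2233 (BT.node 2232 (BT.node 2231 (BT.leaf cE2231) (BT.leaf cE2232)) (BT.leaf cE2233)) (BT.node 2234 (BT.leaf cE2234) (BT.leaf cE2235))) (BT.node 2238 (BT.node 2237 (BT.node 2236 (BT.leaf cE2236) (BT.leaf cE2237)) (BT.leaf cE2238)) (BT.node 2239 (BT.leaf cE2239) (BT.leaf cE2240))))) (BT.node 2250 (BT.node 2245 (BT.node 2243 (BT.node 2242 (BT.node 2241 (BT.leaf cE2241) (BT.leaf cE2242)) (BT.leaf cE2243)) (BT.node 2244 (BT.leaf cE2244) (BT.leaf cE2245))) (BT.node 2248 (BT.node 2247 (BT.node 2246 (BT.leaf cE2246) (BT.leaf cE2247)) (BT.leaf cE2248)) (BT.node 2249 (BT.leaf cE2249) (BT.leaf cE2250)))) (BT.node 2255 (BT.node 2253 (BT.node 2252 (BT.node 2251 (BT.leaf cE2251) (BT.leaf cE2252)) (BT.leaf cE2253)) (BT.node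 2254 (BT.leaf cE2254) (BT.leaf cE2255))) (BT.node 2257 (BT.node 2256 (BT.leaf cE2256) (BT.leaf cE2257)) (BT.node 2258 (BT.leaf cE2258) (BT.leaf cE2259))))))) (BT.node 2298 (BT.node 2279 (BT.node 2269 (BT.node 2264 (BT.node 2262 (BT.node 2261 (BT.node 2260 (BT.leaf cE2260) (BT.leaf cE2261)) (BT.leaf cE2262)) (BT.node 2263 (BT.leaf cE2263) (BT.leaf cE2264))) (BT.node 2267 (BT.node 2266 (BT.node 2265 (BT.leaf cE2265) (BT.leaf cE2266)) (BT.leaf cE2267)) (BT.node 2268 (BT.leaf cE2268) (BT.leaf cE2269)))) (BT.node 2274 (BT.node 2272 (BT.node 2271 (BT.node 2270 (BT.leaf cE2270) (BT.leaf cE2271)) (BT.leaf cE2272)) (BT.node 2273 (BT.leaf cE2273) (BT.leaf cE2274))) (BT.node 2277 (BT.node 2276 (BT.node 2275 (BT.leaf cE2275) (BT.leaf cE2276)) (BT.leaf cE2277)) (BT.node 2278 (BT.leaf cE2278) (BT.leaf cE2279))))) (BT.node 2289 (BT.node 2284 (BT.node 2282 (BT.node 2281 (BT.node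 2280 (BT.leaf cE2280) (BT.leaf cE2281)) (BT.leaf cE2282)) (BT.node 2283 (BT.leaf cE2283) (BT.leaf cE2284))) (BT.node 2287 (BT.node 2286 (BT.node 2285 (BT.leaf cE2285) (BT.leaf cE2286)) (BT.leaf cE2287)) (BT.node 2288 (BT.leaf cE2288) (BT.leaf cE2289)))) (BT.node 2294 (BT.node 2292 (BT.node 2291 (BT.node 2290 (BT.leaf cE2290) (BT.leaf cE2291)) (BT.leaf cE2292)) (BT.node 2293 (BT.leaf cE2293) (BT.leaf cE2294))) (BT.node 2296 (BT.node 2295 (BT.leaf cE2295) (BT.leaf cE2296)) (BT.node 2297 (BT.leaf cE2297) (BT.leaf cE2298)))))) (BT.node 2318 (BT.node 2308 (BT.node 2303 (BT.node 2301 (BT.node 2300 (BT.node 2299 (BT.leaf cE2299) (BT.leaf cE2300)) (BT.leaf cE2301)) (BT.node 2302 (BT.leaf cE2302) (BT.leaf cE2303))) (BT.node 2306 (BT.node 2305 (BT.node 2304 (BT.leaf cE2304) (BT.leaf cE2305)) (BT.leaf cE2306)) (BT.node 2307 (BT.leaf cE2307) (BT.leaf cE2308)))) (BT.node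 2313 (BT.node 2311 (BT.node 2310 (BT.node 2309 (BT.leaf cE2309) (BT.leaf cE2310)) (BT.leaf cE2311)) (BT.node 2312 (BT.leaf cE2312) (BT.leaf cE2313))) (BT.node 2316 (BT.node 2315 (BT.node 2314 (BT.leaf cE2314) (BT.leaf cE2315)) (BT.leaf cE2316)) (BT.node 2317 (BT.leaf cE2317) (BT.leaf cE2318))))) (BT.node 2328 (BT.node 2323 (BT.node 2321 (BT.node 2320 (BT.node 2319 (BT.leaf cE2319) (BT.leaf cE2320)) (BT.leaf cE2321)) (BT.node 2322 (BT.leaf cE2322) (BT.leaf cE2323))) (BT.node 2326 (BT.node 2325 (BT.node 2324 (BT.leaf cE2324) (BT.leaf cE2325)) (BT.leaf cE2326)) (BT.node 2327 (BT.leaf cE2327) (BT.leaf cE2328)))) (BT.node 2333 (BT.node 2331 (BT.node 2330 (BT.node 2329 (BT.leaf cE2329) (BT.leaf cE2330)) (BT.leaf cE2331)) (BT.node 2332 (BT.leaf cE2332) (BT.leaf cE2333))) (BT.node 2335 (BT.node 2334 (BT.leaf cE2334) (BT.leaf cE2335)) (BT.node 2336 (BT.leaf cE2336) (BT.leaf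 cE2337)))))))) (BT.node 2415 (BT.node 2376 (BT.node 2357 (BT.node 2347 (BT.node 2342 (BT.node 2340 (BT.node 2339 (BT.node 2338 (BT.leaf cE2338) (BT.leaf cE2339)) (BT.leaf cE2340)) (BT.node 2341 (BT.leaf cE2341) (BT.leaf cE2342))) (BT.node 2345 (BT.node 2344 (BT.node 2343 (BT.leaf cE2343) (BT.leaf cE2344)) (BT.leaf cE2345)) (BT.node 2346 (BT.leaf cE2346) (BT.leaf cE2347)))) (BT.node 2352 (BT.node 2350 (BT.node 2349 (BT.node 2348 (BT.leaf cE2348) (BT.leaf cE2349)) (BT.leaf cE2350)) (BT.node 2351 (BT.leaf cE2351) (BT.leaf cE2352))) (BT.node 2355 (BT.node 2354 (BT.node 2353 (BT.leaf cE2353) (BT.leaf cE2354)) (BT.leaf cE2355)) (BT.node 2356 (BT.leaf cE2356) (BT.leaf cE2357))))) (BT.node 2367 (BT.node 2362 (BT.node 2360 (BT.node 2359 (BT.node 2358 (BT.leaf cE2358) (BT.leaf cE2359)) (BT.leaf cE2360)) (BT.node 2361 (BT.leaf cE2361) (BT.leaf cE2362))) (BT.node 2365 (BT.node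 2364 (BT.node 2363 (BT.leaf cE2363) (BT.leaf cE2364)) (BT.leaf cE2365)) (BT.node 2366 (BT.leaf cE2366) (BT.leaf cE2367)))) (BT.node 2372 (BT.node 2370 (BT.node 2369 (BT.node 2368 (BT.leaf cE2368) (BT.leaf cE2369)) (BT.leaf cE2370)) (BT.node 2371 (BT.leaf cE2371) (BT.leaf cE2372))) (BT.node 2374 (BT.node 2373 (BT.leaf cE2373) (BT.leaf cE2374)) (BT.node 2375 (BT.leaf cE2375) (BT.leaf cE2376)))))) (BT.node 2396 (BT.node 2386 (BT.node 2381 (BT.node 2379 (BT.node 2378 (BT.node 2377 (BT.leaf cE2377) (BT.leaf cE2378)) (BT.leaf cE2379)) (BT.node 2380 (BT.leaf cE2380) (BT.leaf cE2381))) (BT.node 2384 (BT.node 2383 (BT.node 2382 (BT.leaf cE2382) (BT.leaf cE2383)) (BT.leaf cE2384)) (BT.node 2385 (BT.leaf cE2385) (BT.leaf cE2386)))) (BT.node 2391 (BT.node 2389 (BT.node 2388 (BT.node 2387 (BT.leaf cE2387) (BT.leaf cE2388)) (BT.leaf cE2389)) (BT.node 2390 (BT.leaf cE2390)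 (BT.leaf cE2391))) (BT.node 2394 (BT.node 2393 (BT.node 2392 (BT.leaf cE2392) (BT.leaf cE2393)) (BT.leaf cE2394)) (BT.node 2395 (BT.leaf cE2395) (BT.leaf cE2396))))) (BT.node 2406 (BT.node 2401 (BT.node 2399 (BT.node 2398 (BT.node 2397 (BT.leaf cE2397) (BT.leaf cE2398)) (BT.leaf cE2399)) (BT.node 2400 (BT.leaf cE2400) (BT.leaf cE2401))) (BT.node 2404 (BT.node 2403 (BT.node 2402 (BT.leaf cE2402) (BT.leaf cE2403)) (BT.leaf cE2404)) (BT.node 2405 (BT.leaf cE2405) (BT.leaf cE2406)))) (BT.node 2411 (BT.node 2409 (BT.node 2408 (BT.node 2407 (BT.leaf cE2407) (BT.leaf cE2408)) (BT.leaf cE2409)) (BT.node 2410 (BT.leaf cE2410) (BT.leaf cE2411))) (BT.node 2413 (BT.node 2412 (BT.leaf cE2412) (BT.leaf cE2413)) (BT.node 2414 (BT.leaf cE2414) (BT.leaf cE2415))))))) (BT.node 2454 (BT.node 2435 (BT.node 2425 (BT.node 2420 (BT.node 2418 (BT.node 2417 (BT.node 2416 (BT.leaf cE2416)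 (BT.leaf cE2417)) (BT.leaf cE2418)) (BT.node 2419 (BT.leaf cE2419) (BT.leaf cE2420))) (BT.node 2423 (BT.node 2422 (BT.node 2421 (BT.leaf cE2421) (BT.leaf cE2422)) (BT.leaf cE2423)) (BT.node 2424 (BT.leaf cE2424) (BT.leaf cE2425)))) (BT.node 2430 (BT.node 2428 (BT.node 2427 (BT.node 2426 (BT.leaf cE2426) (BT.leaf cE2427)) (BT.leaf cE2428)) (BT.node 2429 (BT.leaf cE2429) (BT.leaf cE2430))) (BT.node 2433 (BT.node 2432 (BT.node 2431 (BT.leaf cE2431) (BT.leaf cE2432)) (BT.leaf cE2433)) (BT.node 2434 (BT.leaf cE2434) (BT.leaf cE2435))))) (BT.node 2445 (BT.node 2440 (BT.node 2438 (BT.node 2437 (BT.node 2436 (BT.leaf cE2436) (BT.leaf cE2437)) (BT.leaf cE2438)) (BT.node 2439 (BT.leaf cE2439) (BT.leaf cE2440))) (BT.node 2443 (BT.node 2442 (BT.node 2441 (BT.leaf cE2441) (BT.leaf cE2442)) (BT.leaf cE2443)) (BT.node 2444 (BT.leaf cE2444) (BT.leaf cE2445)))) (BT.node 2450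 (BT.node 2448 (BT.node 2447 (BT.node 2446 (BT.leaf cE2446) (BT.leaf cE2447)) (BT.leaf cE2448)) (BT.node 2449 (BT.leaf cE2449) (BT.leaf cE2450))) (BT.node 2452 (BT.node 2451 (BT.leaf cE2451) (BT.leaf cE2452)) (BT.node 2453 (BT.leaf cE2453) (BT.leaf cE2454)))))) (BT.node 2473 (BT.node 2464 (BT.node 2459 (BT.node 2457 (BT.node 2456 (BT.node 2455 (BT.leaf cE2455) (BT.leaf cE2456)) (BT.leaf cE2457)) (BT.node 2458 (BT.leaf cE2458) (BT.leaf cE2459))) (BT.node 2462 (BT.node 2461 (BT.node 2460 (BT.leaf cE2460) (BT.leaf cE2461)) (BT.leaf cE2462)) (BT.node 2463 (BT.leaf cE2463) (BT.leaf cE2464)))) (BT.node 2469 (BT.node 2467 (BT.node 2466 (BT.node 2465 (BT.leaf cE2465) (BT.leaf cE2466)) (BT.leaf cE2467)) (BT.node 2468 (BT.leaf cE2468) (BT.leaf cE2469))) (BT.node 2471 (BT.node 2470 (BT.leaf cE2470) (BT.leaf cE2471)) (BT.node 2472 (BT.leaf cE2472) (BT.leaf cE2473))))) (BT.node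 2483 (BT.node 2478 (BT.node 2476 (BT.node 2475 (BT.node 2474 (BT.leaf cE2474) (BT.leaf cE2475)) (BT.leaf cE2476)) (BT.node 2477 (BT.leaf cE2477) (BT.leaf cE2478))) (BT.node 2481 (BT.node 2480 (BT.node 2479 (BT.leaf cE2479) (BT.leaf cE2480)) (BT.leaf cE2481)) (BT.node 2482 (BT.leaf cE2482) (BT.leaf cE2483)))) (BT.node 2488 (BT.node 2486 (BT.node 2485 (BT.node 2484 (BT.leaf cE2484) (BT.leaf cE2485)) (BT.leaf cE2486)) (BT.node 2487 (BT.leaf cE2487) (BT.leaf cE2488))) (BT.node 2490 (BT.node 2489 (BT.leaf cE2489) (BT.leaf cE2490)) (BT.node 2491 (BT.leaf cE2491) (BT.leaf cE2492))))))))))))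
/-- justification chunks -/
def colJT : BT ℕ := (BT.node 1246 (BT.node 623 (BT.node 311 (BT.node 155 (BT.node 77 (BT.node 38 (BT.node 19 (BT.node 9 (BT.node 4 (BT.node 2 (BT.node 1 (BT.node 0 (BT.leaf cJ0) (BT.leaf cJ1)) (BT.leaf cJ2)) (BT.node 3 (BT.leaf cJ3) (BT.leaf cJ4))) (BT.node 7 (BT.node 6 (BT.node 5 (BT.leaf cJ5) (BT.leaf cJ6)) (BT.leaf cJ7)) (BT.node 8 (BT.leaf cJ8) (BT.leaf cJ9)))) (BT.node 14 (BT.node 12 (BT.node 11 (BT.node 10 (BT.leaf cJ10) (BT.leaf cJ11)) (BT.leaf cJ12)) (BT.node 13 (BT.leaf cJ13) (BT.leaf cJ14))) (BT.node 17 (BT.node 16 (BT.node 15 (BT.leaf cJ15) (BT.leaf cJ16)) (BT.leaf cJ17)) (BT.node 18 (BT.leaf cJ18) (BT.leaf cJ19))))) (BT.node 29 (BT.node 24 (BT.node 22 (BT.node 21 (BT.node 20 (BT.leaf cJ20) (BT.leaf cJ21)) (BT.leaf cJ22)) (BT.node 23 (BT.leaf cJ23) (BT.leaf cJ24))) (BT.node 27 (BT.node 26 (BT.node 25 (BT.leaf cJ25) (BT.leaf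 cJ26)) (BT.leaf cJ27)) (BT.node 28 (BT.leaf cJ28) (BT.leaf cJ29)))) (BT.node 34 (BT.node 32 (BT.node 31 (BT.node 30 (BT.leaf cJ30) (BT.leaf cJ31)) (BT.leaf cJ32)) (BT.node 33 (BT.leaf cJ33) (BT.leaf cJ34))) (BT.node 36 (BT.node 35 (BT.leaf cJ35) (BT.leaf cJ36)) (BT.node 37 (BT.leaf cJ37) (BT.leaf cJ38)))))) (BT.node 58 (BT.node 48 (BT.node 43 (BT.node 41 (BT.node 40 (BT.node 39 (BT.leaf cJ39) (BT.leaf cJ40)) (BT.leaf cJ41)) (BT.node 42 (BT.leaf cJ42) (BT.leaf cJ43))) (BT.node 46 (BT.node 45 (BT.node 44 (BT.leaf cJ44) (BT.leaf cJ45)) (BT.leaf cJ46)) (BT.node 47 (BT.leaf cJ47) (BT.leaf cJ48)))) (BT.node 53 (BT.node 51 (BT.node 50 (BT.node 49 (BT.leaf cJ49) (BT.leaf cJ50)) (BT.leaf cJ51)) (BT.node 52 (BT.leaf cJ52) (BT.leaf cJ53))) (BT.node 56 (BT.node 55 (BT.node 54 (BT.leaf cJ54) (BT.leaf cJ55)) (BT.leaf cJ56)) (BT.node 57 (BT.leaf cJ57) (BT.leaf cJ58))))) (BT.node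 68 (BT.node 63 (BT.node 61 (BT.node 60 (BT.node 59 (BT.leaf cJ59) (BT.leaf cJ60)) (BT.leaf cJ61)) (BT.node 62 (BT.leaf cJ62) (BT.leaf cJ63))) (BT.node 66 (BT.node 65 (BT.node 64 (BT.leaf cJ64) (BT.leaf cJ65)) (BT.leaf cJ66)) (BT.node 67 (BT.leaf cJ67) (BT.leaf cJ68)))) (BT.node 73 (BT.node 71 (BT.node 70 (BT.node 69 (BT.leaf cJ69) (BT.leaf cJ70)) (BT.leaf cJ71)) (BT.node 72 (BT.leaf cJ72) (BT.leaf cJ73))) (BT.node 75 (BT.node 74 (BT.leaf cJ74) (BT.leaf cJ75)) (BT.node 76 (BT.leaf cJ76) (BT.leaf cJ77))))))) (BT.node 116 (BT.node 97 (BT.node 87 (BT.node 82 (BT.node 80 (BT.node 79 (BT.node 78 (BT.leaf cJ78) (BT.leaf cJ79)) (BT.leaf cJ80)) (BT.node 81 (BT.leaf cJ81) (BT.leaf cJ82))) (BT.node 85 (BT.node 84 (BT.node 83 (BT.leaf cJ83) (BT.leaf cJ84)) (BT.leaf cJ85)) (BT.node 86 (BT.leaf cJ86) (BT.leaf cJ87)))) (BT.node 92 (BT.node 90 (BT.node 89 (BT.node 88 (BT.leaf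 cJ88) (BT.leaf cJ89)) (BT.leaf cJ90)) (BT.node 91 (BT.leaf cJ91) (BT.leaf cJ92))) (BT.node 95 (BT.node 94 (BT.node 93 (BT.leaf cJ93) (BT.leaf cJ94)) (BT.leaf cJ95)) (BT.node 96 (BT.leaf cJ96) (BT.leaf cJ97))))) (BT.node 107 (BT.node 102 (BT.node 100 (BT.node 99 (BT.node 98 (BT.leaf cJ98) (BT.leaf cJ99)) (BT.leaf cJ100)) (BT.node 101 (BT.leaf cJ101) (BT.leaf cJ102))) (BT.node 105 (BT.node 104 (BT.node 103 (BT.leaf cJ103) (BT.leaf cJ104)) (BT.leaf cJ105)) (BT.node 106 (BT.leaf cJ106) (BT.leaf cJ107)))) (BT.node 112 (BT.node 110 (BT.node 109 (BT.node 108 (BT.leaf cJ108) (BT.leaf cJ109)) (BT.leaf cJ110)) (BT.node 111 (BT.leaf cJ111) (BT.leaf cJ112))) (BT.node 114 (BT.node 113 (BT.leaf cJ113) (BT.leaf cJ114)) (BT.node 115 (BT.leaf cJ115) (BT.leaf cJ116)))))) (BT.node 136 (BT.node 126 (BT.node 121 (BT.node 119 (BT.node 118 (BT.node 117 (BT.leaf cJ117) (BT.leaf cJ118))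 (BT.leaf cJ119)) (BT.node 120 (BT.leaf cJ120) (BT.leaf cJ121))) (BT.node 124 (BT.node 123 (BT.node 122 (BT.leaf cJ122) (BT.leaf cJ123)) (BT.leaf cJ124)) (BT.node 125 (BT.leaf cJ125) (BT.leaf cJ126)))) (BT.node 131 (BT.node 129 (BT.node 128 (BT.node 127 (BT.leaf cJ127) (BT.leaf cJ128)) (BT.leaf cJ129)) (BT.node 130 (BT.leaf cJ130) (BT.leaf cJ131))) (BT.node 134 (BT.node 133 (BT.node 132 (BT.leaf cJ132) (BT.leaf cJ133)) (BT.leaf cJ134)) (BT.node 135 (BT.leaf cJ135) (BT.leaf cJ136))))) (BT.node 146 (BT.node 141 (BT.node 139 (BT.node 138 (BT.node 137 (BT.leaf cJ137) (BT.leaf cJ138)) (BT.leaf cJ139)) (BT.node 140 (BT.leaf cJ140) (BT.leaf cJ141))) (BT.node 144 (BT.node 143 (BT.node 142 (BT.leaf cJ142) (BT.leaf cJ143)) (BT.leaf cJ144)) (BT.node 145 (BT.leaf cJ145) (BT.leaf cJ146)))) (BT.node 151 (BT.node 149 (BT.node 148 (BT.node 147 (BT.leaf cJ147) (BT.leaf cJ148))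 (BT.leaf cJ149)) (BT.node 150 (BT.leaf cJ150) (BT.leaf cJ151))) (BT.node 153 (BT.node 152 (BT.leaf cJ152) (BT.leaf cJ153)) (BT.node 154 (BT.leaf cJ154) (BT.leaf cJ155)))))))) (BT.node 233 (BT.node 194 (BT.node 175 (BT.node 165 (BT.node 160 (BT.node 158 (BT.node 157 (BT.node 156 (BT.leaf cJ156) (BT.leaf cJ157)) (BT.leaf cJ158)) (BT.node 159 (BT.leaf cJ159) (BT.leaf cJ160))) (BT.node 163 (BT.node 162 (BT.node 161 (BT.leaf cJ161) (BT.leaf cJ162)) (BT.leaf cJ163)) (BT.node 164 (BT.leaf cJ164) (BT.leaf cJ165)))) (BT.node 170 (BT.node 168 (BT.node 167 (BT.node 166 (BT.leaf cJ166) (BT.leaf cJ167)) (BT.leaf cJ168)) (BT.node 169 (BT.leaf cJ169) (BT.leaf cJ170))) (BT.node 173 (BT.node 172 (BT.node 171 (BT.leaf cJ171) (BT.leaf cJ172)) (BT.leaf cJ173)) (BT.node 174 (BT.leaf cJ174) (BT.leaf cJ175))))) (BT.node 185 (BT.node 180 (BT.node 178 (BT.node 177 (BT.node 176 (BT.leaf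 cJ176) (BT.leaf cJ177)) (BT.leaf cJ178)) (BT.node 179 (BT.leaf cJ179) (BT.leaf cJ180))) (BT.node 183 (BT.node 182 (BT.node 181 (BT.leaf cJ181) (BT.leaf cJ182)) (BT.leaf cJ183)) (BT.node 184 (BT.leaf cJ184) (BT.leaf cJ185)))) (BT.node 190 (BT.node 188 (BT.node 187 (BT.node 186 (BT.leaf cJ186) (BT.leaf cJ187)) (BT.leaf cJ188)) (BT.node 189 (BT.leaf cJ189) (BT.leaf cJ190))) (BT.node 192 (BT.node 191 (BT.leaf cJ191) (BT.leaf cJ192)) (BT.node 193 (BT.leaf cJ193) (BT.leaf cJ194)))))) (BT.node 214 (BT.node 204 (BT.node 199 (BT.node 197 (BT.node 196 (BT.node 195 (BT.leaf cJ195) (BT.leaf cJ196)) (BT.leaf cJ197)) (BT.node 198 (BT.leaf cJ198) (BT.leaf cJ199))) (BT.node 202 (BT.node 201 (BT.node 200 (BT.leaf cJ200) (BT.leaf cJ201)) (BT.leaf cJ202)) (BT.node 203 (BT.leaf cJ203) (BT.leaf cJ204)))) (BT.node 209 (BT.node 207 (BT.node 206 (BT.node 205 (BT.leaf cJ205) (BT.leaf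 cJ206)) (BT.leaf cJ207)) (BT.node 208 (BT.leaf cJ208) (BT.leaf cJ209))) (BT.node 212 (BT.node 211 (BT.node 210 (BT.leaf cJ210) (BT.leaf cJ211)) (BT.leaf cJ212)) (BT.node 213 (BT.leaf cJ213) (BT.leaf cJ214))))) (BT.node 224 (BT.node 219 (BT.node 217 (BT.node 216 (BT.node 215 (BT.leaf cJ215) (BT.leaf cJ216)) (BT.leaf cJ217)) (BT.node 218 (BT.leaf cJ218) (BT.leaf cJ219))) (BT.node 222 (BT.node 221 (BT.node 220 (BT.leaf cJ220) (BT.leaf cJ221)) (BT.leaf cJ222)) (BT.node 223 (BT.leaf cJ223) (BT.leaf cJ224)))) (BT.node 229 (BT.node 227 (BT.node 226 (BT.node 225 (BT.leaf cJ225) (BT.leaf cJ226)) (BT.leaf cJ227)) (BT.node 228 (BT.leaf cJ228) (BT.leaf cJ229))) (BT.node 231 (BT.node 230 (BT.leaf cJ230) (BT.leaf cJ231)) (BT.node 232 (BT.leaf cJ232) (BT.leaf cJ233))))))) (BT.node 272 (BT.node 253 (BT.node 243 (BT.node 238 (BT.node 236 (BT.node 235 (BT.node 234 (BT.leaf cJ234)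 (BT.leaf cJ235)) (BT.leaf cJ236)) (BT.node 237 (BT.leaf cJ237) (BT.leaf cJ238))) (BT.node 241 (BT.node 240 (BT.node 239 (BT.leaf cJ239) (BT.leaf cJ240)) (BT.leaf cJ241)) (BT.node 242 (BT.leaf cJ242) (BT.leaf cJ243)))) (BT.node 248 (BT.node 246 (BT.node 245 (BT.node 244 (BT.leaf cJ244) (BT.leaf cJ245)) (BT.leaf cJ246)) (BT.node 247 (BT.leaf cJ247) (BT.leaf cJ248))) (BT.node 251 (BT.node 250 (BT.node 249 (BT.leaf cJ249) (BT.leaf cJ250)) (BT.leaf cJ251)) (BT.node 252 (BT.leaf cJ252) (BT.leaf cJ253))))) (BT.node 263 (BT.node 258 (BT.node 256 (BT.node 255 (BT.node 254 (BT.leaf cJ254) (BT.leaf cJ255)) (BT.leaf cJ256)) (BT.node 257 (BT.leaf cJ257) (BT.leaf cJ258))) (BT.node 261 (BT.node 260 (BT.node 259 (BT.leaf cJ259) (BT.leaf cJ260)) (BT.leaf cJ261)) (BT.node 262 (BT.leaf cJ262) (BT.leaf cJ263)))) (BT.node 268 (BT.node 266 (BT.node 265 (BT.node 264 (BT.leaf cJ264)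 (BT.leaf cJ265)) (BT.leaf cJ266)) (BT.node 267 (BT.leaf cJ267) (BT.leaf cJ268))) (BT.node 270 (BT.node 269 (BT.leaf cJ269) (BT.leaf cJ270)) (BT.node 271 (BT.leaf cJ271) (BT.leaf cJ272)))))) (BT.node 292 (BT.node 282 (BT.node 277 (BT.node 275 (BT.node 274 (BT.node 273 (BT.leaf cJ273) (BT.leaf cJ274)) (BT.leaf cJ275)) (BT.node 276 (BT.leaf cJ276) (BT.leaf cJ277))) (BT.node 280 (BT.node 279 (BT.node 278 (BT.leaf cJ278) (BT.leaf cJ279)) (BT.leaf cJ280)) (BT.node 281 (BT.leaf cJ281) (BT.leaf cJ282)))) (BT.node 287 (BT.node 285 (BT.node 284 (BT.node 283 (BT.leaf cJ283) (BT.leaf cJ284)) (BT.leaf cJ285)) (BT.node 286 (BT.leaf cJ286) (BT.leaf cJ287))) (BT.node 290 (BT.node 289 (BT.node 288 (BT.leaf cJ288) (BT.leaf cJ289)) (BT.leaf cJ290)) (BT.node 291 (BT.leaf cJ291) (BT.leaf cJ292))))) (BT.node 302 (BT.node 297 (BT.node 295 (BT.node 294 (BT.node 293 (BT.leaf cJ293) (BT.leaf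 cJ294)) (BT.leaf cJ295)) (BT.node 296 (BT.leaf cJ296) (BT.leaf cJ297))) (BT.node 300 (BT.node 299 (BT.node 298 (BT.leaf cJ298) (BT.leaf cJ299)) (BT.leaf cJ300)) (BT.node 301 (BT.leaf cJ301) (BT.leaf cJ302)))) (BT.node 307 (BT.node 305 (BT.node 304 (BT.node 303 (BT.leaf cJ303) (BT.leaf cJ304)) (BT.leaf cJ305)) (BT.node 306 (BT.leaf cJ306) (BT.leaf cJ307))) (BT.node 309 (BT.node 308 (BT.leaf cJ308) (BT.leaf cJ309)) (BT.node 310 (BT.leaf cJ310) (BT.leaf cJ311))))))))) (BT.node 467 (BT.node 389 (BT.node 350 (BT.node 331 (BT.node 321 (BT.node 316 (BT.node 314 (BT.node 313 (BT.node 312 (BT.leaf cJ312) (BT.leaf cJ313)) (BT.leaf cJ314)) (BT.node 315 (BT.leaf cJ315) (BT.leaf cJ316))) (BT.node 319 (BT.node 318 (BT.node 317 (BT.leaf cJ317) (BT.leaf cJ318)) (BT.leaf cJ319)) (BT.node 320 (BT.leaf cJ320) (BT.leaf cJ321)))) (BT.node 326 (BT.node 324 (BT.node 323 (BT.node 322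 (BT.leaf cJ322) (BT.leaf cJ323)) (BT.leaf cJ324)) (BT.node 325 (BT.leaf cJ325) (BT.leaf cJ326))) (BT.node 329 (BT.node 328 (BT.node 327 (BT.leaf cJ327) (BT.leaf cJ328)) (BT.leaf cJ329)) (BT.node 330 (BT.leaf cJ330) (BT.leaf cJ331))))) (BT.node 341 (BT.node 336 (BT.node 334 (BT.node 333 (BT.node 332 (BT.leaf cJ332) (BT.leaf cJ333)) (BT.leaf cJ334)) (BT.node 335 (BT.leaf cJ335) (BT.leaf cJ336))) (BT.node 339 (BT.node 338 (BT.node 337 (BT.leaf cJ337) (BT.leaf cJ338)) (BT.leaf cJ339)) (BT.node 340 (BT.leaf cJ340) (BT.leaf cJ341)))) (BT.node 346 (BT.node 344 (BT.node 343 (BT.node 342 (BT.leaf cJ342) (BT.leaf cJ343)) (BT.leaf cJ344)) (BT.node 345 (BT.leaf cJ345) (BT.leaf cJ346))) (BT.node 348 (BT.node 347 (BT.leaf cJ347) (BT.leaf cJ348)) (BT.node 349 (BT.leaf cJ349) (BT.leaf cJ350)))))) (BT.node 370 (BT.node 360 (BT.node 355 (BT.node 353 (BT.node 352 (BT.node 351 (BT.leaf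 cJ351) (BT.leaf cJ352)) (BT.leaf cJ353)) (BT.node 354 (BT.leaf cJ354) (BT.leaf cJ355))) (BT.node 358 (BT.node 357 (BT.node 356 (BT.leaf cJ356) (BT.leaf cJ357)) (BT.leaf cJ358)) (BT.node 359 (BT.leaf cJ359) (BT.leaf cJ360)))) (BT.node 365 (BT.node 363 (BT.node 362 (BT.node 361 (BT.leaf cJ361) (BT.leaf cJ362)) (BT.leaf cJ363)) (BT.node 364 (BT.leaf cJ364) (BT.leaf cJ365))) (BT.node 368 (BT.node 367 (BT.node 366 (BT.leaf cJ366) (BT.leaf cJ367)) (BT.leaf cJ368)) (BT.node 369 (BT.leaf cJ369) (BT.leaf cJ370))))) (BT.node 380 (BT.node 375 (BT.node 373 (BT.node 372 (BT.node 371 (BT.leaf cJ371) (BT.leaf cJ372)) (BT.leaf cJ373)) (BT.node 374 (BT.leaf cJ374) (BT.leaf cJ375))) (BT.node 378 (BT.node 377 (BT.node 376 (BT.leaf cJ376) (BT.leaf cJ377)) (BT.leaf cJ378)) (BT.node 379 (BT.leaf cJ379) (BT.leaf cJ380)))) (BT.node 385 (BT.node 383 (BT.node 382 (BT.node 381 (BT.leaf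 cJ381) (BT.leaf cJ382)) (BT.leaf cJ383)) (BT.node 384 (BT.leaf cJ384) (BT.leaf cJ385))) (BT.node 387 (BT.node 386 (BT.leaf cJ386) (BT.leaf cJ387)) (BT.node 388 (BT.leaf cJ388) (BT.leaf cJ389))))))) (BT.node 428 (BT.node 409 (BT.node 399 (BT.node 394 (BT.node 392 (BT.node 391 (BT.node 390 (BT.leaf cJ390) (BT.leaf cJ391)) (BT.leaf cJ392)) (BT.node 393 (BT.leaf cJ393) (BT.leaf cJ394))) (BT.node 397 (BT.node 396 (BT.node 395 (BT.leaf cJ395) (BT.leaf cJ396)) (BT.leaf cJ397)) (BT.node 398 (BT.leaf cJ398) (BT.leaf cJ399)))) (BT.node 404 (BT.node 402 (BT.node 401 (BT.node 400 (BT.leaf cJ400) (BT.leaf cJ401)) (BT.leaf cJ402)) (BT.node 403 (BT.leaf cJ403) (BT.leaf cJ404))) (BT.node 407 (BT.node 406 (BT.node 405 (BT.leaf cJ405) (BT.leaf cJ406)) (BT.leaf cJ407)) (BT.node 408 (BT.leaf cJ408) (BT.leaf cJ409))))) (BT.node 419 (BT.node 414 (BT.node 412 (BT.node 411 (BT.node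 410 (BT.leaf cJ410) (BT.leaf cJ411)) (BT.leaf cJ412)) (BT.node 413 (BT.leaf cJ413) (BT.leaf cJ414))) (BT.node 417 (BT.node 416 (BT.node 415 (BT.leaf cJ415) (BT.leaf cJ416)) (BT.leaf cJ417)) (BT.node 418 (BT.leaf cJ418) (BT.leaf cJ419)))) (BT.node 424 (BT.node 422 (BT.node 421 (BT.node 420 (BT.leaf cJ420) (BT.leaf cJ421)) (BT.leaf cJ422)) (BT.node 423 (BT.leaf cJ423) (BT.leaf cJ424))) (BT.node 426 (BT.node 425 (BT.leaf cJ425) (BT.leaf cJ426)) (BT.node 427 (BT.leaf cJ427) (BT.leaf cJ428)))))) (BT.node 448 (BT.node 438 (BT.node 433 (BT.node 431 (BT.node 430 (BT.node 429 (BT.leaf cJ429) (BT.leaf cJ430)) (BT.leaf cJ431)) (BT.node 432 (BT.leaf cJ432) (BT.leaf cJ433))) (BT.node 436 (BT.node 435 (BT.node 434 (BT.leaf cJ434) (BT.leaf cJ435)) (BT.leaf cJ436)) (BT.node 437 (BT.leaf cJ437) (BT.leaf cJ438)))) (BT.node 443 (BT.node 441 (BT.node 440 (BT.node 439 (BT.leaf cJ439)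 (BT.leaf cJ440)) (BT.leaf cJ441)) (BT.node 442 (BT.leaf cJ442) (BT.leaf cJ443))) (BT.node 446 (BT.node 445 (BT.node 444 (BT.leaf cJ444) (BT.leaf cJ445)) (BT.leaf cJ446)) (BT.node 447 (BT.leaf cJ447) (BT.leaf cJ448))))) (BT.node 458 (BT.node 453 (BT.node 451 (BT.node 450 (BT.node 449 (BT.leaf cJ449) (BT.leaf cJ450)) (BT.leaf cJ451)) (BT.node 452 (BT.leaf cJ452) (BT.leaf cJ453))) (BT.node 456 (BT.node 455 (BT.node 454 (BT.leaf cJ454) (BT.leaf cJ455)) (BT.leaf cJ456)) (BT.node 457 (BT.leaf cJ457) (BT.leaf cJ458)))) (BT.node 463 (BT.node 461 (BT.node 460 (BT.node 459 (BT.leaf cJ459) (BT.leaf cJ460)) (BT.leaf cJ461)) (BT.node 462 (BT.leaf cJ462) (BT.leaf cJ463))) (BT.node 465 (BT.node 464 (BT.leaf cJ464) (BT.leaf cJ465)) (BT.node 466 (BT.leaf cJ466) (BT.leaf cJ467)))))))) (BT.node 545 (BT.node 506 (BT.node 487 (BT.node 477 (BT.node 472 (BT.node 470 (BT.node 469 (BT.node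 468 (BT.leaf cJ468) (BT.leaf cJ469)) (BT.leaf cJ470)) (BT.node 471 (BT.leaf cJ471) (BT.leaf cJ472))) (BT.node 475 (BT.node 474 (BT.node 473 (BT.leaf cJ473) (BT.leaf cJ474)) (BT.leaf cJ475)) (BT.node 476 (BT.leaf cJ476) (BT.leaf cJ477)))) (BT.node 482 (BT.node 480 (BT.node 479 (BT.node 478 (BT.leaf cJ478) (BT.leaf cJ479)) (BT.leaf cJ480)) (BT.node 481 (BT.leaf cJ481) (BT.leaf cJ482))) (BT.node 485 (BT.node 484 (BT.node 483 (BT.leaf cJ483) (BT.leaf cJ484)) (BT.leaf cJ485)) (BT.node 486 (BT.leaf cJ486) (BT.leaf cJ487))))) (BT.node 497 (BT.node 492 (BT.node 490 (BT.node 489 (BT.node 488 (BT.leaf cJ488) (BT.leaf cJ489)) (BT.leaf cJ490)) (BT.node 491 (BT.leaf cJ491) (BT.leaf cJ492))) (BT.node 495 (BT.node 494 (BT.node 493 (BT.leaf cJ493) (BT.leaf cJ494)) (BT.leaf cJ495)) (BT.node 496 (BT.leaf cJ496) (BT.leaf cJ497)))) (BT.node 502 (BT.node 500 (BT.node 499 (BT.node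 498 (BT.leaf cJ498) (BT.leaf cJ499)) (BT.leaf cJ500)) (BT.node 501 (BT.leaf cJ501) (BT.leaf cJ502))) (BT.node 504 (BT.node 503 (BT.leaf cJ503) (BT.leaf cJ504)) (BT.node 505 (BT.leaf cJ505) (BT.leaf cJ506)))))) (BT.node 526 (BT.node 516 (BT.node 511 (BT.node 509 (BT.node 508 (BT.node 507 (BT.leaf cJ507) (BT.leaf cJ508)) (BT.leaf cJ509)) (BT.node 510 (BT.leaf cJ510) (BT.leaf cJ511))) (BT.node 514 (BT.node 513 (BT.node 512 (BT.leaf cJ512) (BT.leaf cJ513)) (BT.leaf cJ514)) (BT.node 515 (BT.leaf cJ515) (BT.leaf cJ516)))) (BT.node 521 (BT.node 519 (BT.node 518 (BT.node 517 (BT.leaf cJ517) (BT.leaf cJ518)) (BT.leaf cJ519)) (BT.node 520 (BT.leaf cJ520) (BT.leaf cJ521))) (BT.node 524 (BT.node 523 (BT.node 522 (BT.leaf cJ522) (BT.leaf cJ523)) (BT.leaf cJ524)) (BT.node 525 (BT.leaf cJ525) (BT.leaf cJ526))))) (BT.node 536 (BT.node 531 (BT.node 529 (BT.node 528 (BT.node 527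 (BT.leaf cJ527) (BT.leaf cJ528)) (BT.leaf cJ529)) (BT.node 530 (BT.leaf cJ530) (BT.leaf cJ531))) (BT.node 534 (BT.node 533 (BT.node 532 (BT.leaf cJ532) (BT.leaf cJ533)) (BT.leaf cJ534)) (BT.node 535 (BT.leaf cJ535) (BT.leaf cJ536)))) (BT.node 541 (BT.node 539 (BT.node 538 (BT.node 537 (BT.leaf cJ537) (BT.leaf cJ538)) (BT.leaf cJ539)) (BT.node 540 (BT.leaf cJ540) (BT.leaf cJ541))) (BT.node 543 (BT.node 542 (BT.leaf cJ542) (BT.leaf cJ543)) (BT.node 544 (BT.leaf cJ544) (BT.leaf cJ545))))))) (BT.node 584 (BT.node 565 (BT.node 555 (BT.node 550 (BT.node 548 (BT.node 547 (BT.node 546 (BT.leaf cJ546) (BT.leaf cJ547)) (BT.leaf cJ548)) (BT.node 549 (BT.leaf cJ549) (BT.leaf cJ550))) (BT.node 553 (BT.node 552 (BT.node 551 (BT.leaf cJ551) (BT.leaf cJ552)) (BT.leaf cJ553)) (BT.node 554 (BT.leaf cJ554) (BT.leaf cJ555)))) (BT.node 560 (BT.node 558 (BT.node 557 (BT.node 556 (BT.leaf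 cJ556) (BT.leaf cJ557)) (BT.leaf cJ558)) (BT.node 559 (BT.leaf cJ559) (BT.leaf cJ560))) (BT.node 563 (BT.node 562 (BT.node 561 (BT.leaf cJ561) (BT.leaf cJ562)) (BT.leaf cJ563)) (BT.node 564 (BT.leaf cJ564) (BT.leaf cJ565))))) (BT.node 575 (BT.node 570 (BT.node 568 (BT.node 567 (BT.node 566 (BT.leaf cJ566) (BT.leaf cJ567)) (BT.leaf cJ568)) (BT.node 569 (BT.leaf cJ569) (BT.leaf cJ570))) (BT.node 573 (BT.node 572 (BT.node 571 (BT.leaf cJ571) (BT.leaf cJ572)) (BT.leaf cJ573)) (BT.node 574 (BT.leaf cJ574) (BT.leaf cJ575)))) (BT.node 580 (BT.node 578 (BT.node 577 (BT.node 576 (BT.leaf cJ576) (BT.leaf cJ577)) (BT.leaf cJ578)) (BT.node 579 (BT.leaf cJ579) (BT.leaf cJ580))) (BT.node 582 (BT.node 581 (BT.leaf cJ581) (BT.leaf cJ582)) (BT.node 583 (BT.leaf cJ583) (BT.leaf cJ584)))))) (BT.node 604 (BT.node 594 (BT.node 589 (BT.node 587 (BT.node 586 (BT.node 585 (BT.leaf cJ585)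 (BT.leaf cJ586)) (BT.leaf cJ587)) (BT.node 588 (BT.leaf cJ588) (BT.leaf cJ589))) (BT.node 592 (BT.node 591 (BT.node 590 (BT.leaf cJ590) (BT.leaf cJ591)) (BT.leaf cJ592)) (BT.node 593 (BT.leaf cJ593) (BT.leaf cJ594)))) (BT.node 599 (BT.node 597 (BT.node 596 (BT.node 595 (BT.leaf cJ595) (BT.leaf cJ596)) (BT.leaf cJ597)) (BT.node 598 (BT.leaf cJ598) (BT.leaf cJ599))) (BT.node 602 (BT.node 601 (BT.node 600 (BT.leaf cJ600) (BT.leaf cJ601)) (BT.leaf cJ602)) (BT.node 603 (BT.leaf cJ603) (BT.leaf cJ604))))) (BT.node 614 (BT.node 609 (BT.node 607 (BT.node 606 (BT.node 605 (BT.leaf cJ605) (BT.leaf cJ606)) (BT.leaf cJ607)) (BT.node 608 (BT.leaf cJ608) (BT.leaf cJ609))) (BT.node 612 (BT.node 611 (BT.node 610 (BT.leaf cJ610) (BT.leaf cJ611)) (BT.leaf cJ612)) (BT.node 613 (BT.leaf cJ613) (BT.leaf cJ614)))) (BT.node 619 (BT.node 617 (BT.node 616 (BT.node 615 (BT.leaf cJ615)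 (BT.leaf cJ616)) (BT.leaf cJ617)) (BT.node 618 (BT.leaf cJ618) (BT.leaf cJ619))) (BT.node 621 (BT.node 620 (BT.leaf cJ620) (BT.leaf cJ621)) (BT.node 622 (BT.leaf cJ622) (BT.leaf cJ623)))))))))) (BT.node 935 (BT.node 779 (BT.node 701 (BT.node 662 (BT.node 643 (BT.node 633 (BT.node 628 (BT.node 626 (BT.node 625 (BT.node 624 (BT.leaf cJ624) (BT.leaf cJ625)) (BT.leaf cJ626)) (BT.node 627 (BT.leaf cJ627) (BT.leaf cJ628))) (BT.node 631 (BT.node 630 (BT.node 629 (BT.leaf cJ629) (BT.leaf cJ630)) (BT.leaf cJ631)) (BT.node 632 (BT.leaf cJ632) (BT.leaf cJ633)))) (BT.node 638 (BT.node 636 (BT.node 635 (BT.node 634 (BT.leaf cJ634) (BT.leaf cJ635)) (BT.leaf cJ636)) (BT.node 637 (BT.leaf cJ637) (BT.leaf cJ638))) (BT.node 641 (BT.node 640 (BT.node 639 (BT.leaf cJ639) (BT.leaf cJ640)) (BT.leaf cJ641)) (BT.node 642 (BT.leaf cJ642) (BT.leaf cJ643))))) (BT.node 653 (BT.node 648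 (BT.node 646 (BT.node 645 (BT.node 644 (BT.leaf cJ644) (BT.leaf cJ645)) (BT.leaf cJ646)) (BT.node 647 (BT.leaf cJ647) (BT.leaf cJ648))) (BT.node 651 (BT.node 650 (BT.node 649 (BT.leaf cJ649) (BT.leaf cJ650)) (BT.leaf cJ651)) (BT.node 652 (BT.leaf cJ652) (BT.leaf cJ653)))) (BT.node 658 (BT.node 656 (BT.node 655 (BT.node 654 (BT.leaf cJ654) (BT.leaf cJ655)) (BT.leaf cJ656)) (BT.node 657 (BT.leaf cJ657) (BT.leaf cJ658))) (BT.node 660 (BT.node 659 (BT.leaf cJ659) (BT.leaf cJ660)) (BT.node 661 (BT.leaf cJ661) (BT.leaf cJ662)))))) (BT.node 682 (BT.node 672 (BT.node 667 (BT.node 665 (BT.node 664 (BT.node 663 (BT.leaf cJ663) (BT.leaf cJ664)) (BT.leaf cJ665)) (BT.node 666 (BT.leaf cJ666) (BT.leaf cJ667))) (BT.node 670 (BT.node 669 (BT.node 668 (BT.leaf cJ668) (BT.leaf cJ669)) (BT.leaf cJ670)) (BT.node 671 (BT.leaf cJ671) (BT.leaf cJ672)))) (BT.node 677 (BT.node 675 (BT.node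 674 (BT.node 673 (BT.leaf cJ673) (BT.leaf cJ674)) (BT.leaf cJ675)) (BT.node 676 (BT.leaf cJ676) (BT.leaf cJ677))) (BT.node 680 (BT.node 679 (BT.node 678 (BT.leaf cJ678) (BT.leaf cJ679)) (BT.leaf cJ680)) (BT.node 681 (BT.leaf cJ681) (BT.leaf cJ682))))) (BT.node 692 (BT.node 687 (BT.node 685 (BT.node 684 (BT.node 683 (BT.leaf cJ683) (BT.leaf cJ684)) (BT.leaf cJ685)) (BT.node 686 (BT.leaf cJ686) (BT.leaf cJ687))) (BT.node 690 (BT.node 689 (BT.node 688 (BT.leaf cJ688) (BT.leaf cJ689)) (BT.leaf cJ690)) (BT.node 691 (BT.leaf cJ691) (BT.leaf cJ692)))) (BT.node 697 (BT.node 695 (BT.node 694 (BT.node 693 (BT.leaf cJ693) (BT.leaf cJ694)) (BT.leaf cJ695)) (BT.node 696 (BT.leaf cJ696) (BT.leaf cJ697))) (BT.node 699 (BT.node 698 (BT.leaf cJ698) (BT.leaf cJ699)) (BT.node 700 (BT.leaf cJ700) (BT.leaf cJ701))))))) (BT.node 740 (BT.node 721 (BT.node 711 (BT.node 706 (BT.node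 704 (BT.node 703 (BT.node 702 (BT.leaf cJ702) (BT.leaf cJ703)) (BT.leaf cJ704)) (BT.node 705 (BT.leaf cJ705) (BT.leaf cJ706))) (BT.node 709 (BT.node 708 (BT.node 707 (BT.leaf cJ707) (BT.leaf cJ708)) (BT.leaf cJ709)) (BT.node 710 (BT.leaf cJ710) (BT.leaf cJ711)))) (BT.node 716 (BT.node 714 (BT.node 713 (BT.node 712 (BT.leaf cJ712) (BT.leaf cJ713)) (BT.leaf cJ714)) (BT.node 715 (BT.leaf cJ715) (BT.leaf cJ716))) (BT.node 719 (BT.node 718 (BT.node 717 (BT.leaf cJ717) (BT.leaf cJ718)) (BT.leaf cJ719)) (BT.node 720 (BT.leaf cJ720) (BT.leaf cJ721))))) (BT.node 731 (BT.node 726 (BT.node 724 (BT.node 723 (BT.node 722 (BT.leaf cJ722) (BT.leaf cJ723)) (BT.leaf cJ724)) (BT.node 725 (BT.leaf cJ725) (BT.leaf cJ726))) (BT.node 729 (BT.node 728 (BT.node 727 (BT.leaf cJ727) (BT.leaf cJ728)) (BT.leaf cJ729)) (BT.node 730 (BT.leaf cJ730) (BT.leaf cJ731)))) (BT.node 736 (BT.node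 734 (BT.node 733 (BT.node 732 (BT.leaf cJ732) (BT.leaf cJ733)) (BT.leaf cJ734)) (BT.node 735 (BT.leaf cJ735) (BT.leaf cJ736))) (BT.node 738 (BT.node 737 (BT.leaf cJ737) (BT.leaf cJ738)) (BT.node 739 (BT.leaf cJ739) (BT.leaf cJ740)))))) (BT.node 760 (BT.node 750 (BT.node 745 (BT.node 743 (BT.node 742 (BT.node 741 (BT.leaf cJ741) (BT.leaf cJ742)) (BT.leaf cJ743)) (BT.node 744 (BT.leaf cJ744) (BT.leaf cJ745))) (BT.node 748 (BT.node 747 (BT.node 746 (BT.leaf cJ746) (BT.leaf cJ747)) (BT.leaf cJ748)) (BT.node 749 (BT.leaf cJ749) (BT.leaf cJ750)))) (BT.node 755 (BT.node 753 (BT.node 752 (BT.node 751 (BT.leaf cJ751) (BT.leaf cJ752)) (BT.leaf cJ753)) (BT.node 754 (BT.leaf cJ754) (BT.leaf cJ755))) (BT.node 758 (BT.node 757 (BT.node 756 (BT.leaf cJ756) (BT.leaf cJ757)) (BT.leaf cJ758)) (BT.node 759 (BT.leaf cJ759) (BT.leaf cJ760))))) (BT.node 770 (BT.node 765 (BT.node 763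 (BT.node 762 (BT.node 761 (BT.leaf cJ761) (BT.leaf cJ762)) (BT.leaf cJ763)) (BT.node 764 (BT.leaf cJ764) (BT.leaf cJ765))) (BT.node 768 (BT.node 767 (BT.node 766 (BT.leaf cJ766) (BT.leaf cJ767)) (BT.leaf cJ768)) (BT.node 769 (BT.leaf cJ769) (BT.leaf cJ770)))) (BT.node 775 (BT.node 773 (BT.node 772 (BT.node 771 (BT.leaf cJ771) (BT.leaf cJ772)) (BT.leaf cJ773)) (BT.node 774 (BT.leaf cJ774) (BT.leaf cJ775))) (BT.node 777 (BT.node 776 (BT.leaf cJ776) (BT.leaf cJ777)) (BT.node 778 (BT.leaf cJ778) (BT.leaf cJ779)))))))) (BT.node 857 (BT.node 818 (BT.node 799 (BT.node 789 (BT.node 784 (BT.node 782 (BT.node 781 (BT.node 780 (BT.leaf cJ780) (BT.leaf cJ781)) (BT.leaf cJ782)) (BT.node 783 (BT.leaf cJ783) (BT.leaf cJ784))) (BT.node 787 (BT.node 786 (BT.node 785 (BT.leaf cJ785) (BT.leaf cJ786)) (BT.leaf cJ787)) (BT.node 788 (BT.leaf cJ788) (BT.leaf cJ789)))) (BT.node 794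 (BT.node 792 (BT.node 791 (BT.node 790 (BT.leaf cJ790) (BT.leaf cJ791)) (BT.leaf cJ792)) (BT.node 793 (BT.leaf cJ793) (BT.leaf cJ794))) (BT.node 797 (BT.node 796 (BT.node 795 (BT.leaf cJ795) (BT.leaf cJ796)) (BT.leaf cJ797)) (BT.node 798 (BT.leaf cJ798) (BT.leaf cJ799))))) (BT.node 809 (BT.node 804 (BT.node 802 (BT.node 801 (BT.node 800 (BT.leaf cJ800) (BT.leaf cJ801)) (BT.leaf cJ802)) (BT.node 803 (BT.leaf cJ803) (BT.leaf cJ804))) (BT.node 807 (BT.node 806 (BT.node 805 (BT.leaf cJ805) (BT.leaf cJ806)) (BT.leaf cJ807)) (BT.node 808 (BT.leaf cJ808) (BT.leaf cJ809)))) (BT.node 814 (BT.node 812 (BT.node 811 (BT.node 810 (BT.leaf cJ810) (BT.leaf cJ811)) (BT.leaf cJ812)) (BT.node 813 (BT.leaf cJ813) (BT.leaf cJ814))) (BT.node 816 (BT.node 815 (BT.leaf cJ815) (BT.leaf cJ816)) (BT.node 817 (BT.leaf cJ817) (BT.leaf cJ818)))))) (BT.node 838 (BT.node 828 (BT.node 823 (BT.node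 821 (BT.node 820 (BT.node 819 (BT.leaf cJ819) (BT.leaf cJ820)) (BT.leaf cJ821)) (BT.node 822 (BT.leaf cJ822) (BT.leaf cJ823))) (BT.node 826 (BT.node 825 (BT.node 824 (BT.leaf cJ824) (BT.leaf cJ825)) (BT.leaf cJ826)) (BT.node 827 (BT.leaf cJ827) (BT.leaf cJ828)))) (BT.node 833 (BT.node 831 (BT.node 830 (BT.node 829 (BT.leaf cJ829) (BT.leaf cJ830)) (BT.leaf cJ831)) (BT.node 832 (BT.leaf cJ832) (BT.leaf cJ833))) (BT.node 836 (BT.node 835 (BT.node 834 (BT.leaf cJ834) (BT.leaf cJ835)) (BT.leaf cJ836)) (BT.node 837 (BT.leaf cJ837) (BT.leaf cJ838))))) (BT.node 848 (BT.node 843 (BT.node 841 (BT.node 840 (BT.node 839 (BT.leaf cJ839) (BT.leaf cJ840)) (BT.leaf cJ841)) (BT.node 842 (BT.leaf cJ842) (BT.leaf cJ843))) (BT.node 846 (BT.node 845 (BT.node 844 (BT.leaf cJ844) (BT.leaf cJ845)) (BT.leaf cJ846)) (BT.node 847 (BT.leaf cJ847) (BT.leaf cJ848)))) (BT.node 853 (BT.node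 851 (BT.node 850 (BT.node 849 (BT.leaf cJ849) (BT.leaf cJ850)) (BT.leaf cJ851)) (BT.node 852 (BT.leaf cJ852) (BT.leaf cJ853))) (BT.node 855 (BT.node 854 (BT.leaf cJ854) (BT.leaf cJ855)) (BT.node 856 (BT.leaf cJ856) (BT.leaf cJ857))))))) (BT.node 896 (BT.node 877 (BT.node 867 (BT.node 862 (BT.node 860 (BT.node 859 (BT.node 858 (BT.leaf cJ858) (BT.leaf cJ859)) (BT.leaf cJ860)) (BT.node 861 (BT.leaf cJ861) (BT.leaf cJ862))) (BT.node 865 (BT.node 864 (BT.node 863 (BT.leaf cJ863) (BT.leaf cJ864)) (BT.leaf cJ865)) (BT.node 866 (BT.leaf cJ866) (BT.leaf cJ867)))) (BT.node 872 (BT.node 870 (BT.node 869 (BT.node 868 (BT.leaf cJ868) (BT.leaf cJ869)) (BT.leaf cJ870)) (BT.node 871 (BT.leaf cJ871) (BT.leaf cJ872))) (BT.node 875 (BT.node 874 (BT.node 873 (BT.leaf cJ873) (BT.leaf cJ874)) (BT.leaf cJ875)) (BT.node 876 (BT.leaf cJ876) (BT.leaf cJ877))))) (BT.node 887 (BT.node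 882 (BT.node 880 (BT.node 879 (BT.node 878 (BT.leaf cJ878) (BT.leaf cJ879)) (BT.leaf cJ880)) (BT.node 881 (BT.leaf cJ881) (BT.leaf cJ882))) (BT.node 885 (BT.node 884 (BT.node 883 (BT.leaf cJ883) (BT.leaf cJ884)) (BT.leaf cJ885)) (BT.node 886 (BT.leaf cJ886) (BT.leaf cJ887)))) (BT.node 892 (BT.node 890 (BT.node 889 (BT.node 888 (BT.leaf cJ888) (BT.leaf cJ889)) (BT.leaf cJ890)) (BT.node 891 (BT.leaf cJ891) (BT.leaf cJ892))) (BT.node 894 (BT.node 893 (BT.leaf cJ893) (BT.leaf cJ894)) (BT.node 895 (BT.leaf cJ895) (BT.leaf cJ896)))))) (BT.node 916 (BT.node 906 (BT.node 901 (BT.node 899 (BT.node 898 (BT.node 897 (BT.leaf cJ897) (BT.leaf cJ898)) (BT.leaf cJ899)) (BT.node 900 (BT.leaf cJ900) (BT.leaf cJ901))) (BT.node 904 (BT.node 903 (BT.node 902 (BT.leaf cJ902) (BT.leaf cJ903)) (BT.leaf cJ904)) (BT.node 905 (BT.leaf cJ905) (BT.leaf cJ906)))) (BT.node 911 (BT.node 909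 (BT.node 908 (BT.node 907 (BT.leaf cJ907) (BT.leaf cJ908)) (BT.leaf cJ909)) (BT.node 910 (BT.leaf cJ910) (BT.leaf cJ911))) (BT.node 914 (BT.node 913 (BT.node 912 (BT.leaf cJ912) (BT.leaf cJ913)) (BT.leaf cJ914)) (BT.node 915 (BT.leaf cJ915) (BT.leaf cJ916))))) (BT.node 926 (BT.node 921 (BT.node 919 (BT.node 918 (BT.node 917 (BT.leaf cJ917) (BT.leaf cJ918)) (BT.leaf cJ919)) (BT.node 920 (BT.leaf cJ920) (BT.leaf cJ921))) (BT.node 924 (BT.node 923 (BT.node 922 (BT.leaf cJ922) (BT.leaf cJ923)) (BT.leaf cJ924)) (BT.node 925 (BT.leaf cJ925) (BT.leaf cJ926)))) (BT.node 931 (BT.node 929 (BT.node 928 (BT.node 927 (BT.leaf cJ927) (BT.leaf cJ928)) (BT.leaf cJ929)) (BT.node 930 (BT.leaf cJ930) (BT.leaf cJ931))) (BT.node 933 (BT.node 932 (BT.leaf cJ932) (BT.leaf cJ933)) (BT.node 934 (BT.leaf cJ934) (BT.leaf cJ935))))))))) (BT.node 1091 (BT.node 1013 (BT.node 974 (BT.node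 955 (BT.node 945 (BT.node 940 (BT.node 938 (BT.node 937 (BT.node 936 (BT.leaf cJ936) (BT.leaf cJ937)) (BT.leaf cJ938)) (BT.node 939 (BT.leaf cJ939) (BT.leaf cJ940))) (BT.node 943 (BT.node 942 (BT.node 941 (BT.leaf cJ941) (BT.leaf cJ942)) (BT.leaf cJ943)) (BT.node 944 (BT.leaf cJ944) (BT.leaf cJ945)))) (BT.node 950 (BT.node 948 (BT.node 947 (BT.node 946 (BT.leaf cJ946) (BT.leaf cJ947)) (BT.leaf cJ948)) (BT.node 949 (BT.leaf cJ949) (BT.leaf cJ950))) (BT.node 953 (BT.node 952 (BT.node 951 (BT.leaf cJ951) (BT.leaf cJ952)) (BT.leaf cJ953)) (BT.node 954 (BT.leaf cJ954) (BT.leaf cJ955))))) (BT.node 965 (BT.node 960 (BT.node 958 (BT.node 957 (BT.node 956 (BT.leaf cJ956) (BT.leaf cJ957)) (BT.leaf cJ958)) (BT.node 959 (BT.leaf cJ959) (BT.leaf cJ960))) (BT.node 963 (BT.node 962 (BT.node 961 (BT.leaf cJ961) (BT.leaf cJ962)) (BT.leaf cJ963)) (BT.node 964 (BT.leaf cJ964) (BT.leaf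 cJ965)))) (BT.node 970 (BT.node 968 (BT.node 967 (BT.node 966 (BT.leaf cJ966) (BT.leaf cJ967)) (BT.leaf cJ968)) (BT.node 969 (BT.leaf cJ969) (BT.leaf cJ970))) (BT.node 972 (BT.node 971 (BT.leaf cJ971) (BT.leaf cJ972)) (BT.node 973 (BT.leaf cJ973) (BT.leaf cJ974)))))) (BT.node 994 (BT.node 984 (BT.node 979 (BT.node 977 (BT.node 976 (BT.node 975 (BT.leaf cJ975) (BT.leaf cJ976)) (BT.leaf cJ977)) (BT.node 978 (BT.leaf cJ978) (BT.leaf cJ979))) (BT.node 982 (BT.node 981 (BT.node 980 (BT.leaf cJ980) (BT.leaf cJ981)) (BT.leaf cJ982)) (BT.node 983 (BT.leaf cJ983) (BT.leaf cJ984)))) (BT.node 989 (BT.node 987 (BT.node 986 (BT.node 985 (BT.leaf cJ985) (BT.leaf cJ986)) (BT.leaf cJ987)) (BT.node 988 (BT.leaf cJ988) (BT.leaf cJ989))) (BT.node 992 (BT.node 991 (BT.node 990 (BT.leaf cJ990) (BT.leaf cJ991)) (BT.leaf cJ992)) (BT.node 993 (BT.leaf cJ993) (BT.leaf cJ994))))) (BT.node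 1004 (BT.node 999 (BT.node 997 (BT.node 996 (BT.node 995 (BT.leaf cJ995) (BT.leaf cJ996)) (BT.leaf cJ997)) (BT.node 998 (BT.leaf cJ998) (BT.leaf cJ999))) (BT.node 1002 (BT.node 1001 (BT.node 1000 (BT.leaf cJ1000) (BT.leaf cJ1001)) (BT.leaf cJ1002)) (BT.node 1003 (BT.leaf cJ1003) (BT.leaf cJ1004)))) (BT.node 1009 (BT.node 1007 (BT.node 1006 (BT.node 1005 (BT.leaf cJ1005) (BT.leaf cJ1006)) (BT.leaf cJ1007)) (BT.node 1008 (BT.leaf cJ1008) (BT.leaf cJ1009))) (BT.node 1011 (BT.node 1010 (BT.leaf cJ1010) (BT.leaf cJ1011)) (BT.node 1012 (BT.leaf cJ1012) (BT.leaf cJ1013))))))) (BT.node 1052 (BT.node 1033 (BT.node 1023 (BT.node 1018 (BT.node 1016 (BT.node 1015 (BT.node 1014 (BT.leaf cJ1014) (BT.leaf cJ1015)) (BT.leaf cJ1016)) (BT.node 1017 (BT.leaf cJ1017) (BT.leaf cJ1018))) (BT.node 1021 (BT.node 1020 (BT.node 1019 (BT.leaf cJ1019) (BT.leaf cJ1020)) (BT.leaf cJ1021))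 (BT.node 1022 (BT.leaf cJ1022) (BT.leaf cJ1023)))) (BT.node 1028 (BT.node 1026 (BT.node 1025 (BT.node 1024 (BT.leaf cJ1024) (BT.leaf cJ1025)) (BT.leaf cJ1026)) (BT.node 1027 (BT.leaf cJ1027) (BT.leaf cJ1028))) (BT.node 1031 (BT.node 1030 (BT.node 1029 (BT.leaf cJ1029) (BT.leaf cJ1030)) (BT.leaf cJ1031)) (BT.node 1032 (BT.leaf cJ1032) (BT.leaf cJ1033))))) (BT.node 1043 (BT.node 1038 (BT.node 1036 (BT.node 1035 (BT.node 1034 (BT.leaf cJ1034) (BT.leaf cJ1035)) (BT.leaf cJ1036)) (BT.node 1037 (BT.leaf cJ1037) (BT.leaf cJ1038))) (BT.node 1041 (BT.node 1040 (BT.node 1039 (BT.leaf cJ1039) (BT.leaf cJ1040)) (BT.leaf cJ1041)) (BT.node 1042 (BT.leaf cJ1042) (BT.leaf cJ1043)))) (BT.node 1048 (BT.node 1046 (BT.node 1045 (BT.node 1044 (BT.leaf cJ1044) (BT.leaf cJ1045)) (BT.leaf cJ1046)) (BT.node 1047 (BT.leaf cJ1047) (BT.leaf cJ1048))) (BT.node 1050 (BT.node 1049 (BT.leaf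 cJ1049) (BT.leaf cJ1050)) (BT.node 1051 (BT.leaf cJ1051) (BT.leaf cJ1052)))))) (BT.node 1072 (BT.node 1062 (BT.node 1057 (BT.node 1055 (BT.node 1054 (BT.node 1053 (BT.leaf cJ1053) (BT.leaf cJ1054)) (BT.leaf cJ1055)) (BT.node 1056 (BT.leaf cJ1056) (BT.leaf cJ1057))) (BT.node 1060 (BT.node 1059 (BT.node 1058 (BT.leaf cJ1058) (BT.leaf cJ1059)) (BT.leaf cJ1060)) (BT.node 1061 (BT.leaf cJ1061) (BT.leaf cJ1062)))) (BT.node 1067 (BT.node 1065 (BT.node 1064 (BT.node 1063 (BT.leaf cJ1063) (BT.leaf cJ1064)) (BT.leaf cJ1065)) (BT.node 1066 (BT.leaf cJ1066) (BT.leaf cJ1067))) (BT.node 1070 (BT.node 1069 (BT.node 1068 (BT.leaf cJ1068) (BT.leaf cJ1069)) (BT.leaf cJ1070)) (BT.node 1071 (BT.leaf cJ1071) (BT.leaf cJ1072))))) (BT.node 1082 (BT.node 1077 (BT.node 1075 (BT.node 1074 (BT.node 1073 (BT.leaf cJ1073) (BT.leaf cJ1074)) (BT.leaf cJ1075)) (BT.node 1076 (BT.leaf cJ1076)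 (BT.leaf cJ1077))) (BT.node 1080 (BT.node 1079 (BT.node 1078 (BT.leaf cJ1078) (BT.leaf cJ1079)) (BT.leaf cJ1080)) (BT.node 1081 (BT.leaf cJ1081) (BT.leaf cJ1082)))) (BT.node 1087 (BT.node 1085 (BT.node 1084 (BT.node 1083 (BT.leaf cJ1083) (BT.leaf cJ1084)) (BT.leaf cJ1085)) (BT.node 1086 (BT.leaf cJ1086) (BT.leaf cJ1087))) (BT.node 1089 (BT.node 1088 (BT.leaf cJ1088) (BT.leaf cJ1089)) (BT.node 1090 (BT.leaf cJ1090) (BT.leaf cJ1091)))))))) (BT.node 1169 (BT.node 1130 (BT.node 1111 (BT.node 1101 (BT.node 1096 (BT.node 1094 (BT.node 1093 (BT.node 1092 (BT.leaf cJ1092) (BT.leaf cJ1093)) (BT.leaf cJ1094)) (BT.node 1095 (BT.leaf cJ1095) (BT.leaf cJ1096))) (BT.node 1099 (BT.node 1098 (BT.node 1097 (BT.leaf cJ1097) (BT.leaf cJ1098)) (BT.leaf cJ1099)) (BT.node 1100 (BT.leaf cJ1100) (BT.leaf cJ1101)))) (BT.node 1106 (BT.node 1104 (BT.node 1103 (BT.node 1102 (BT.leaf cJ1102)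 (BT.leaf cJ1103)) (BT.leaf cJ1104)) (BT.node 1105 (BT.leaf cJ1105) (BT.leaf cJ1106))) (BT.node 1109 (BT.node 1108 (BT.node 1107 (BT.leaf cJ1107) (BT.leaf cJ1108)) (BT.leaf cJ1109)) (BT.node 1110 (BT.leaf cJ1110) (BT.leaf cJ1111))))) (BT.node 1121 (BT.node 1116 (BT.node 1114 (BT.node 1113 (BT.node 1112 (BT.leaf cJ1112) (BT.leaf cJ1113)) (BT.leaf cJ1114)) (BT.node 1115 (BT.leaf cJ1115) (BT.leaf cJ1116))) (BT.node 1119 (BT.node 1118 (BT.node 1117 (BT.leaf cJ1117) (BT.leaf cJ1118)) (BT.leaf cJ1119)) (BT.node 1120 (BT.leaf cJ1120) (BT.leaf cJ1121)))) (BT.node 1126 (BT.node 1124 (BT.node 1123 (BT.node 1122 (BT.leaf cJ1122) (BT.leaf cJ1123)) (BT.leaf cJ1124)) (BT.node 1125 (BT.leaf cJ1125) (BT.leaf cJ1126))) (BT.node 1128 (BT.node 1127 (BT.leaf cJ1127) (BT.leaf cJ1128)) (BT.node 1129 (BT.leaf cJ1129) (BT.leaf cJ1130)))))) (BT.node 1150 (BT.node 1140 (BT.node 1135 (BT.node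 1133 (BT.node 1132 (BT.node 1131 (BT.leaf cJ1131) (BT.leaf cJ1132)) (BT.leaf cJ1133)) (BT.node 1134 (BT.leaf cJ1134) (BT.leaf cJ1135))) (BT.node 1138 (BT.node 1137 (BT.node 1136 (BT.leaf cJ1136) (BT.leaf cJ1137)) (BT.leaf cJ1138)) (BT.node 1139 (BT.leaf cJ1139) (BT.leaf cJ1140)))) (BT.node 1145 (BT.node 1143 (BT.node 1142 (BT.node 1141 (BT.leaf cJ1141) (BT.leaf cJ1142)) (BT.leaf cJ1143)) (BT.node 1144 (BT.leaf cJ1144) (BT.leaf cJ1145))) (BT.node 1148 (BT.node 1147 (BT.node 1146 (BT.leaf cJ1146) (BT.leaf cJ1147)) (BT.leaf cJ1148)) (BT.node 1149 (BT.leaf cJ1149) (BT.leaf cJ1150))))) (BT.node 1160 (BT.node 1155 (BT.node 1153 (BT.node 1152 (BT.node 1151 (BT.leaf cJ1151) (BT.leaf cJ1152)) (BT.leaf cJ1153)) (BT.node 1154 (BT.leaf cJ1154) (BT.leaf cJ1155))) (BT.node 1158 (BT.node 1157 (BT.node 1156 (BT.leaf cJ1156) (BT.leaf cJ1157)) (BT.leaf cJ1158)) (BT.node 1159 (BT.leaf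 cJ1159) (BT.leaf cJ1160)))) (BT.node 1165 (BT.node 1163 (BT.node 1162 (BT.node 1161 (BT.leaf cJ1161) (BT.leaf cJ1162)) (BT.leaf cJ1163)) (BT.node 1164 (BT.leaf cJ1164) (BT.leaf cJ1165))) (BT.node 1167 (BT.node 1166 (BT.leaf cJ1166) (BT.leaf cJ1167)) (BT.node 1168 (BT.leaf cJ1168) (BT.leaf cJ1169))))))) (BT.node 1208 (BT.node 1189 (BT.node 1179 (BT.node 1174 (BT.node 1172 (BT.node 1171 (BT.node 1170 (BT.leaf cJ1170) (BT.leaf cJ1171)) (BT.leaf cJ1172)) (BT.node 1173 (BT.leaf cJ1173) (BT.leaf cJ1174))) (BT.node 1177 (BT.node 1176 (BT.node 1175 (BT.leaf cJ1175) (BT.leaf cJ1176)) (BT.leaf cJ1177)) (BT.node 1178 (BT.leaf cJ1178) (BT.leaf cJ1179)))) (BT.node 1184 (BT.node 1182 (BT.node 1181 (BT.node 1180 (BT.leaf cJ1180) (BT.leaf cJ1181)) (BT.leaf cJ1182)) (BT.node 1183 (BT.leaf cJ1183) (BT.leaf cJ1184))) (BT.node 1187 (BT.node 1186 (BT.node 1185 (BT.leaf cJ1185) (BT.leaf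 cJ1186)) (BT.leaf cJ1187)) (BT.node 1188 (BT.leaf cJ1188) (BT.leaf cJ1189))))) (BT.node 1199 (BT.node 1194 (BT.node 1192 (BT.node 1191 (BT.node 1190 (BT.leaf cJ1190) (BT.leaf cJ1191)) (BT.leaf cJ1192)) (BT.node 1193 (BT.leaf cJ1193) (BT.leaf cJ1194))) (BT.node 1197 (BT.node 1196 (BT.node 1195 (BT.leaf cJ1195) (BT.leaf cJ1196)) (BT.leaf cJ1197)) (BT.node 1198 (BT.leaf cJ1198) (BT.leaf cJ1199)))) (BT.node 1204 (BT.node 1202 (BT.node 1201 (BT.node 1200 (BT.leaf cJ1200) (BT.leaf cJ1201)) (BT.leaf cJ1202)) (BT.node 1203 (BT.leaf cJ1203) (BT.leaf cJ1204))) (BT.node 1206 (BT.node 1205 (BT.leaf cJ1205) (BT.leaf cJ1206)) (BT.node 1207 (BT.leaf cJ1207) (BT.leaf cJ1208)))))) (BT.node 1227 (BT.node 1218 (BT.node 1213 (BT.node 1211 (BT.node 1210 (BT.node 1209 (BT.leaf cJ1209) (BT.leaf cJ1210)) (BT.leaf cJ1211)) (BT.node 1212 (BT.leaf cJ1212) (BT.leaf cJ1213))) (BT.node 1216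 (BT.node 1215 (BT.node 1214 (BT.leaf cJ1214) (BT.leaf cJ1215)) (BT.leaf cJ1216)) (BT.node 1217 (BT.leaf cJ1217) (BT.leaf cJ1218)))) (BT.node 1223 (BT.node 1221 (BT.node 1220 (BT.node 1219 (BT.leaf cJ1219) (BT.leaf cJ1220)) (BT.leaf cJ1221)) (BT.node 1222 (BT.leaf cJ1222) (BT.leaf cJ1223))) (BT.node 1225 (BT.node 1224 (BT.leaf cJ1224) (BT.leaf cJ1225)) (BT.node 1226 (BT.leaf cJ1226) (BT.leaf cJ1227))))) (BT.node 1237 (BT.node 1232 (BT.node 1230 (BT.node 1229 (BT.node 1228 (BT.leaf cJ1228) (BT.leaf cJ1229)) (BT.leaf cJ1230)) (BT.node 1231 (BT.leaf cJ1231) (BT.leaf cJ1232))) (BT.node 1235 (BT.node 1234 (BT.node 1233 (BT.leaf cJ1233) (BT.leaf cJ1234)) (BT.leaf cJ1235)) (BT.node 1236 (BT.leaf cJ1236) (BT.leaf cJ1237)))) (BT.node 1242 (BT.node 1240 (BT.node 1239 (BT.node 1238 (BT.leaf cJ1238) (BT.leaf cJ1239)) (BT.leaf cJ1240)) (BT.node 1241 (BT.leaf cJ1241) (BT.leaf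 cJ1242))) (BT.node 1244 (BT.node 1243 (BT.leaf cJ1243) (BT.leaf cJ1244)) (BT.node 1245 (BT.leaf cJ1245) (BT.leaf cJ1246))))))))))) (BT.node 1869 (BT.node 1558 (BT.node 1402 (BT.node 1324 (BT.node 1285 (BT.node 1266 (BT.node 1256 (BT.node 1251 (BT.node 1249 (BT.node 1248 (BT.node 1247 (BT.leaf cJ1247) (BT.leaf cJ1248)) (BT.leaf cJ1249)) (BT.node 1250 (BT.leaf cJ1250) (BT.leaf cJ1251))) (BT.node 1254 (BT.node 1253 (BT.node 1252 (BT.leaf cJ1252) (BT.leaf cJ1253)) (BT.leaf cJ1254)) (BT.node 1255 (BT.leaf cJ1255) (BT.leaf cJ1256)))) (BT.node 1261 (BT.node 1259 (BT.node 1258 (BT.node 1257 (BT.leaf cJ1257) (BT.leaf cJ1258)) (BT.leaf cJ1259)) (BT.node 1260 (BT.leaf cJ1260) (BT.leaf cJ1261))) (BT.node 1264 (BT.node 1263 (BT.node 1262 (BT.leaf cJ1262) (BT.leaf cJ1263)) (BT.leaf cJ1264)) (BT.node 1265 (BT.leaf cJ1265) (BT.leaf cJ1266))))) (BT.node 1276 (BT.node 1271 (BT.node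 1269 (BT.node 1268 (BT.node 1267 (BT.leaf cJ1267) (BT.leaf cJ1268)) (BT.leaf cJ1269)) (BT.node 1270 (BT.leaf cJ1270) (BT.leaf cJ1271))) (BT.node 1274 (BT.node 1273 (BT.node 1272 (BT.leaf cJ1272) (BT.leaf cJ1273)) (BT.leaf cJ1274)) (BT.node 1275 (BT.leaf cJ1275) (BT.leaf cJ1276)))) (BT.node 1281 (BT.node 1279 (BT.node 1278 (BT.node 1277 (BT.leaf cJ1277) (BT.leaf cJ1278)) (BT.leaf cJ1279)) (BT.node 1280 (BT.leaf cJ1280) (BT.leaf cJ1281))) (BT.node 1283 (BT.node 1282 (BT.leaf cJ1282) (BT.leaf cJ1283)) (BT.node 1284 (BT.leaf cJ1284) (BT.leaf cJ1285)))))) (BT.node 1305 (BT.node 1295 (BT.node 1290 (BT.node 1288 (BT.node 1287 (BT.node 1286 (BT.leaf cJ1286) (BT.leaf cJ1287)) (BT.leaf cJ1288)) (BT.node 1289 (BT.leaf cJ1289) (BT.leaf cJ1290))) (BT.node 1293 (BT.node 1292 (BT.node 1291 (BT.leaf cJ1291) (BT.leaf cJ1292)) (BT.leaf cJ1293)) (BT.node 1294 (BT.leaf cJ1294) (BT.leaf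 cJ1295)))) (BT.node 1300 (BT.node 1298 (BT.node 1297 (BT.node 1296 (BT.leaf cJ1296) (BT.leaf cJ1297)) (BT.leaf cJ1298)) (BT.node 1299 (BT.leaf cJ1299) (BT.leaf cJ1300))) (BT.node 1303 (BT.node 1302 (BT.node 1301 (BT.leaf cJ1301) (BT.leaf cJ1302)) (BT.leaf cJ1303)) (BT.node 1304 (BT.leaf cJ1304) (BT.leaf cJ1305))))) (BT.node 1315 (BT.node 1310 (BT.node 1308 (BT.node 1307 (BT.node 1306 (BT.leaf cJ1306) (BT.leaf cJ1307)) (BT.leaf cJ1308)) (BT.node 1309 (BT.leaf cJ1309) (BT.leaf cJ1310))) (BT.node 1313 (BT.node 1312 (BT.node 1311 (BT.leaf cJ1311) (BT.leaf cJ1312)) (BT.leaf cJ1313)) (BT.node 1314 (BT.leaf cJ1314) (BT.leaf cJ1315)))) (BT.node 1320 (BT.node 1318 (BT.node 1317 (BT.node 1316 (BT.leaf cJ1316) (BT.leaf cJ1317)) (BT.leaf cJ1318)) (BT.node 1319 (BT.leaf cJ1319) (BT.leaf cJ1320))) (BT.node 1322 (BT.node 1321 (BT.leaf cJ1321) (BT.leaf cJ1322)) (BT.node 1323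 (BT.leaf cJ1323) (BT.leaf cJ1324))))))) (BT.node 1363 (BT.node 1344 (BT.node 1334 (BT.node 1329 (BT.node 1327 (BT.node 1326 (BT.node 1325 (BT.leaf cJ1325) (BT.leaf cJ1326)) (BT.leaf cJ1327)) (BT.node 1328 (BT.leaf cJ1328) (BT.leaf cJ1329))) (BT.node 1332 (BT.node 1331 (BT.node 1330 (BT.leaf cJ1330) (BT.leaf cJ1331)) (BT.leaf cJ1332)) (BT.node 1333 (BT.leaf cJ1333) (BT.leaf cJ1334)))) (BT.node 1339 (BT.node 1337 (BT.node 1336 (BT.node 1335 (BT.leaf cJ1335) (BT.leaf cJ1336)) (BT.leaf cJ1337)) (BT.node 1338 (BT.leaf cJ1338) (BT.leaf cJ1339))) (BT.node 1342 (BT.node 1341 (BT.node 1340 (BT.leaf cJ1340) (BT.leaf cJ1341)) (BT.leaf cJ1342)) (BT.node 1343 (BT.leaf cJ1343) (BT.leaf cJ1344))))) (BT.node 1354 (BT.node 1349 (BT.node 1347 (BT.node 1346 (BT.node 1345 (BT.leaf cJ1345) (BT.leaf cJ1346)) (BT.leaf cJ1347)) (BT.node 1348 (BT.leaf cJ1348) (BT.leaf cJ1349))) (BT.node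 1352 (BT.node 1351 (BT.node 1350 (BT.leaf cJ1350) (BT.leaf cJ1351)) (BT.leaf cJ1352)) (BT.node 1353 (BT.leaf cJ1353) (BT.leaf cJ1354)))) (BT.node 1359 (BT.node 1357 (BT.node 1356 (BT.node 1355 (BT.leaf cJ1355) (BT.leaf cJ1356)) (BT.leaf cJ1357)) (BT.node 1358 (BT.leaf cJ1358) (BT.leaf cJ1359))) (BT.node 1361 (BT.node 1360 (BT.leaf cJ1360) (BT.leaf cJ1361)) (BT.node 1362 (BT.leaf cJ1362) (BT.leaf cJ1363)))))) (BT.node 1383 (BT.node 1373 (BT.node 1368 (BT.node 1366 (BT.node 1365 (BT.node 1364 (BT.leaf cJ1364) (BT.leaf cJ1365)) (BT.leaf cJ1366)) (BT.node 1367 (BT.leaf cJ1367) (BT.leaf cJ1368))) (BT.node 1371 (BT.node 1370 (BT.node 1369 (BT.leaf cJ1369) (BT.leaf cJ1370)) (BT.leaf cJ1371)) (BT.node 1372 (BT.leaf cJ1372) (BT.leaf cJ1373)))) (BT.node 1378 (BT.node 1376 (BT.node 1375 (BT.node 1374 (BT.leaf cJ1374) (BT.leaf cJ1375)) (BT.leaf cJ1376)) (BT.node 1377 (BT.leaf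 cJ1377) (BT.leaf cJ1378))) (BT.node 1381 (BT.node 1380 (BT.node 1379 (BT.leaf cJ1379) (BT.leaf cJ1380)) (BT.leaf cJ1381)) (BT.node 1382 (BT.leaf cJ1382) (BT.leaf cJ1383))))) (BT.node 1393 (BT.node 1388 (BT.node 1386 (BT.node 1385 (BT.node 1384 (BT.leaf cJ1384) (BT.leaf cJ1385)) (BT.leaf cJ1386)) (BT.node 1387 (BT.leaf cJ1387) (BT.leaf cJ1388))) (BT.node 1391 (BT.node 1390 (BT.node 1389 (BT.leaf cJ1389) (BT.leaf cJ1390)) (BT.leaf cJ1391)) (BT.node 1392 (BT.leaf cJ1392) (BT.leaf cJ1393)))) (BT.node 1398 (BT.node 1396 (BT.node 1395 (BT.node 1394 (BT.leaf cJ1394) (BT.leaf cJ1395)) (BT.leaf cJ1396)) (BT.node 1397 (BT.leaf cJ1397) (BT.leaf cJ1398))) (BT.node 1400 (BT.node 1399 (BT.leaf cJ1399) (BT.leaf cJ1400)) (BT.node 1401 (BT.leaf cJ1401) (BT.leaf cJ1402)))))))) (BT.node 1480 (BT.node 1441 (BT.node 1422 (BT.node 1412 (BT.node 1407 (BT.node 1405 (BT.node 1404 (BT.node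 1403 (BT.leaf cJ1403) (BT.leaf cJ1404)) (BT.leaf cJ1405)) (BT.node 1406 (BT.leaf cJ1406) (BT.leaf cJ1407))) (BT.node 1410 (BT.node 1409 (BT.node 1408 (BT.leaf cJ1408) (BT.leaf cJ1409)) (BT.leaf cJ1410)) (BT.node 1411 (BT.leaf cJ1411) (BT.leaf cJ1412)))) (BT.node 1417 (BT.node 1415 (BT.node 1414 (BT.node 1413 (BT.leaf cJ1413) (BT.leaf cJ1414)) (BT.leaf cJ1415)) (BT.node 1416 (BT.leaf cJ1416) (BT.leaf cJ1417))) (BT.node 1420 (BT.node 1419 (BT.node 1418 (BT.leaf cJ1418) (BT.leaf cJ1419)) (BT.leaf cJ1420)) (BT.node 1421 (BT.leaf cJ1421) (BT.leaf cJ1422))))) (BT.node 1432 (BT.node 1427 (BT.node 1425 (BT.node 1424 (BT.node 1423 (BT.leaf cJ1423) (BT.leaf cJ1424)) (BT.leaf cJ1425)) (BT.node 1426 (BT.leaf cJ1426) (BT.leaf cJ1427))) (BT.node 1430 (BT.node 1429 (BT.node 1428 (BT.leaf cJ1428) (BT.leaf cJ1429)) (BT.leaf cJ1430)) (BT.node 1431 (BT.leaf cJ1431) (BT.leaf cJ1432))))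 (BT.node 1437 (BT.node 1435 (BT.node 1434 (BT.node 1433 (BT.leaf cJ1433) (BT.leaf cJ1434)) (BT.leaf cJ1435)) (BT.node 1436 (BT.leaf cJ1436) (BT.leaf cJ1437))) (BT.node 1439 (BT.node 1438 (BT.leaf cJ1438) (BT.leaf cJ1439)) (BT.node 1440 (BT.leaf cJ1440) (BT.leaf cJ1441)))))) (BT.node 1461 (BT.node 1451 (BT.node 1446 (BT.node 1444 (BT.node 1443 (BT.node 1442 (BT.leaf cJ1442) (BT.leaf cJ1443)) (BT.leaf cJ1444)) (BT.node 1445 (BT.leaf cJ1445) (BT.leaf cJ1446))) (BT.node 1449 (BT.node 1448 (BT.node 1447 (BT.leaf cJ1447) (BT.leaf cJ1448)) (BT.leaf cJ1449)) (BT.node 1450 (BT.leaf cJ1450) (BT.leaf cJ1451)))) (BT.node 1456 (BT.node 1454 (BT.node 1453 (BT.node 1452 (BT.leaf cJ1452) (BT.leaf cJ1453)) (BT.leaf cJ1454)) (BT.node 1455 (BT.leaf cJ1455) (BT.leaf cJ1456))) (BT.node 1459 (BT.node 1458 (BT.node 1457 (BT.leaf cJ1457) (BT.leaf cJ1458)) (BT.leaf cJ1459)) (BT.node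 1460 (BT.leaf cJ1460) (BT.leaf cJ1461))))) (BT.node 1471 (BT.node 1466 (BT.node 1464 (BT.node 1463 (BT.node 1462 (BT.leaf cJ1462) (BT.leaf cJ1463)) (BT.leaf cJ1464)) (BT.node 1465 (BT.leaf cJ1465) (BT.leaf cJ1466))) (BT.node 1469 (BT.node 1468 (BT.node 1467 (BT.leaf cJ1467) (BT.leaf cJ1468)) (BT.leaf cJ1469)) (BT.node 1470 (BT.leaf cJ1470) (BT.leaf cJ1471)))) (BT.node 1476 (BT.node 1474 (BT.node 1473 (BT.node 1472 (BT.leaf cJ1472) (BT.leaf cJ1473)) (BT.leaf cJ1474)) (BT.node 1475 (BT.leaf cJ1475) (BT.leaf cJ1476))) (BT.node 1478 (BT.node 1477 (BT.leaf cJ1477) (BT.leaf cJ1478)) (BT.node 1479 (BT.leaf cJ1479) (BT.leaf cJ1480))))))) (BT.node 1519 (BT.node 1500 (BT.node 1490 (BT.node 1485 (BT.node 1483 (BT.node 1482 (BT.node 1481 (BT.leaf cJ1481) (BT.leaf cJ1482)) (BT.leaf cJ1483)) (BT.node 1484 (BT.leaf cJ1484) (BT.leaf cJ1485))) (BT.node 1488 (BT.node 1487 (BT.node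 1486 (BT.leaf cJ1486) (BT.leaf cJ1487)) (BT.leaf cJ1488)) (BT.node 1489 (BT.leaf cJ1489) (BT.leaf cJ1490)))) (BT.node 1495 (BT.node 1493 (BT.node 1492 (BT.node 1491 (BT.leaf cJ1491) (BT.leaf cJ1492)) (BT.leaf cJ1493)) (BT.node 1494 (BT.leaf cJ1494) (BT.leaf cJ1495))) (BT.node 1498 (BT.node 1497 (BT.node 1496 (BT.leaf cJ1496) (BT.leaf cJ1497)) (BT.leaf cJ1498)) (BT.node 1499 (BT.leaf cJ1499) (BT.leaf cJ1500))))) (BT.node 1510 (BT.node 1505 (BT.node 1503 (BT.node 1502 (BT.node 1501 (BT.leaf cJ1501) (BT.leaf cJ1502)) (BT.leaf cJ1503)) (BT.node 1504 (BT.leaf cJ1504) (BT.leaf cJ1505))) (BT.node 1508 (BT.node 1507 (BT.node 1506 (BT.leaf cJ1506) (BT.leaf cJ1507)) (BT.leaf cJ1508)) (BT.node 1509 (BT.leaf cJ1509) (BT.leaf cJ1510)))) (BT.node 1515 (BT.node 1513 (BT.node 1512 (BT.node 1511 (BT.leaf cJ1511) (BT.leaf cJ1512)) (BT.leaf cJ1513)) (BT.node 1514 (BT.leaf cJ1514)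 (BT.leaf cJ1515))) (BT.node 1517 (BT.node 1516 (BT.leaf cJ1516) (BT.leaf cJ1517)) (BT.node 1518 (BT.leaf cJ1518) (BT.leaf cJ1519)))))) (BT.node 1539 (BT.node 1529 (BT.node 1524 (BT.node 1522 (BT.node 1521 (BT.node 1520 (BT.leaf cJ1520) (BT.leaf cJ1521)) (BT.leaf cJ1522)) (BT.node 1523 (BT.leaf cJ1523) (BT.leaf cJ1524))) (BT.node 1527 (BT.node 1526 (BT.node 1525 (BT.leaf cJ1525) (BT.leaf cJ1526)) (BT.leaf cJ1527)) (BT.node 1528 (BT.leaf cJ1528) (BT.leaf cJ1529)))) (BT.node 1534 (BT.node 1532 (BT.node 1531 (BT.node 1530 (BT.leaf cJ1530) (BT.leaf cJ1531)) (BT.leaf cJ1532)) (BT.node 1533 (BT.leaf cJ1533) (BT.leaf cJ1534))) (BT.node 1537 (BT.node 1536 (BT.node 1535 (BT.leaf cJ1535) (BT.leaf cJ1536)) (BT.leaf cJ1537)) (BT.node 1538 (BT.leaf cJ1538) (BT.leaf cJ1539))))) (BT.node 1549 (BT.node 1544 (BT.node 1542 (BT.node 1541 (BT.node 1540 (BT.leaf cJ1540) (BT.leaf cJ1541))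 (BT.leaf cJ1542)) (BT.node 1543 (BT.leaf cJ1543) (BT.leaf cJ1544))) (BT.node 1547 (BT.node 1546 (BT.node 1545 (BT.leaf cJ1545) (BT.leaf cJ1546)) (BT.leaf cJ1547)) (BT.node 1548 (BT.leaf cJ1548) (BT.leaf cJ1549)))) (BT.node 1554 (BT.node 1552 (BT.node 1551 (BT.node 1550 (BT.leaf cJ1550) (BT.leaf cJ1551)) (BT.leaf cJ1552)) (BT.node 1553 (BT.leaf cJ1553) (BT.leaf cJ1554))) (BT.node 1556 (BT.node 1555 (BT.leaf cJ1555) (BT.leaf cJ1556)) (BT.node 1557 (BT.leaf cJ1557) (BT.leaf cJ1558))))))))) (BT.node 1714 (BT.node 1636 (BT.node 1597 (BT.node 1578 (BT.node 1568 (BT.node 1563 (BT.node 1561 (BT.node 1560 (BT.node 1559 (BT.leaf cJ1559) (BT.leaf cJ1560)) (BT.leaf cJ1561)) (BT.node 1562 (BT.leaf cJ1562) (BT.leaf cJ1563))) (BT.node 1566 (BT.node 1565 (BT.node 1564 (BT.leaf cJ1564) (BT.leaf cJ1565)) (BT.leaf cJ1566)) (BT.node 1567 (BT.leaf cJ1567) (BT.leaf cJ1568)))) (BT.node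 1573 (BT.node 1571 (BT.node 1570 (BT.node 1569 (BT.leaf cJ1569) (BT.leaf cJ1570)) (BT.leaf cJ1571)) (BT.node 1572 (BT.leaf cJ1572) (BT.leaf cJ1573))) (BT.node 1576 (BT.node 1575 (BT.node 1574 (BT.leaf cJ1574) (BT.leaf cJ1575)) (BT.leaf cJ1576)) (BT.node 1577 (BT.leaf cJ1577) (BT.leaf cJ1578))))) (BT.node 1588 (BT.node 1583 (BT.node 1581 (BT.node 1580 (BT.node 1579 (BT.leaf cJ1579) (BT.leaf cJ1580)) (BT.leaf cJ1581)) (BT.node 1582 (BT.leaf cJ1582) (BT.leaf cJ1583))) (BT.node 1586 (BT.node 1585 (BT.node 1584 (BT.leaf cJ1584) (BT.leaf cJ1585)) (BT.leaf cJ1586)) (BT.node 1587 (BT.leaf cJ1587) (BT.leaf cJ1588)))) (BT.node 1593 (BT.node 1591 (BT.node 1590 (BT.node 1589 (BT.leaf cJ1589) (BT.leaf cJ1590)) (BT.leaf cJ1591)) (BT.node 1592 (BT.leaf cJ1592) (BT.leaf cJ1593))) (BT.node 1595 (BT.node 1594 (BT.leaf cJ1594) (BT.leaf cJ1595)) (BT.node 1596 (BT.leaf cJ1596) (BT.leaf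 cJ1597)))))) (BT.node 1617 (BT.node 1607 (BT.node 1602 (BT.node 1600 (BT.node 1599 (BT.node 1598 (BT.leaf cJ1598) (BT.leaf cJ1599)) (BT.leaf cJ1600)) (BT.node 1601 (BT.leaf cJ1601) (BT.leaf cJ1602))) (BT.node 1605 (BT.node 1604 (BT.node 1603 (BT.leaf cJ1603) (BT.leaf cJ1604)) (BT.leaf cJ1605)) (BT.node 1606 (BT.leaf cJ1606) (BT.leaf cJ1607)))) (BT.node 1612 (BT.node 1610 (BT.node 1609 (BT.node 1608 (BT.leaf cJ1608) (BT.leaf cJ1609)) (BT.leaf cJ1610)) (BT.node 1611 (BT.leaf cJ1611) (BT.leaf cJ1612))) (BT.node 1615 (BT.node 1614 (BT.node 1613 (BT.leaf cJ1613) (BT.leaf cJ1614)) (BT.leaf cJ1615)) (BT.node 1616 (BT.leaf cJ1616) (BT.leaf cJ1617))))) (BT.node 1627 (BT.node 1622 (BT.node 1620 (BT.node 1619 (BT.node 1618 (BT.leaf cJ1618) (BT.leaf cJ1619)) (BT.leaf cJ1620)) (BT.node 1621 (BT.leaf cJ1621) (BT.leaf cJ1622))) (BT.node 1625 (BT.node 1624 (BT.node 1623 (BT.leaf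 cJ1623) (BT.leaf cJ1624)) (BT.leaf cJ1625)) (BT.node 1626 (BT.leaf cJ1626) (BT.leaf cJ1627)))) (BT.node 1632 (BT.node 1630 (BT.node 1629 (BT.node 1628 (BT.leaf cJ1628) (BT.leaf cJ1629)) (BT.leaf cJ1630)) (BT.node 1631 (BT.leaf cJ1631) (BT.leaf cJ1632))) (BT.node 1634 (BT.node 1633 (BT.leaf cJ1633) (BT.leaf cJ1634)) (BT.node 1635 (BT.leaf cJ1635) (BT.leaf cJ1636))))))) (BT.node 1675 (BT.node 1656 (BT.node 1646 (BT.node 1641 (BT.node 1639 (BT.node 1638 (BT.node 1637 (BT.leaf cJ1637) (BT.leaf cJ1638)) (BT.leaf cJ1639)) (BT.node 1640 (BT.leaf cJ1640) (BT.leaf cJ1641))) (BT.node 1644 (BT.node 1643 (BT.node 1642 (BT.leaf cJ1642) (BT.leaf cJ1643)) (BT.leaf cJ1644)) (BT.node 1645 (BT.leaf cJ1645) (BT.leaf cJ1646)))) (BT.node 1651 (BT.node 1649 (BT.node 1648 (BT.node 1647 (BT.leaf cJ1647) (BT.leaf cJ1648)) (BT.leaf cJ1649)) (BT.node 1650 (BT.leaf cJ1650) (BT.leaf cJ1651)))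 (BT.node 1654 (BT.node 1653 (BT.node 1652 (BT.leaf cJ1652) (BT.leaf cJ1653)) (BT.leaf cJ1654)) (BT.node 1655 (BT.leaf cJ1655) (BT.leaf cJ1656))))) (BT.node 1666 (BT.node 1661 (BT.node 1659 (BT.node 1658 (BT.node 1657 (BT.leaf cJ1657) (BT.leaf cJ1658)) (BT.leaf cJ1659)) (BT.node 1660 (BT.leaf cJ1660) (BT.leaf cJ1661))) (BT.node 1664 (BT.node 1663 (BT.node 1662 (BT.leaf cJ1662) (BT.leaf cJ1663)) (BT.leaf cJ1664)) (BT.node 1665 (BT.leaf cJ1665) (BT.leaf cJ1666)))) (BT.node 1671 (BT.node 1669 (BT.node 1668 (BT.node 1667 (BT.leaf cJ1667) (BT.leaf cJ1668)) (BT.leaf cJ1669)) (BT.node 1670 (BT.leaf cJ1670) (BT.leaf cJ1671))) (BT.node 1673 (BT.node 1672 (BT.leaf cJ1672) (BT.leaf cJ1673)) (BT.node 1674 (BT.leaf cJ1674) (BT.leaf cJ1675)))))) (BT.node 1695 (BT.node 1685 (BT.node 1680 (BT.node 1678 (BT.node 1677 (BT.node 1676 (BT.leaf cJ1676) (BT.leaf cJ1677)) (BT.leaf cJ1678))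 (BT.node 1679 (BT.leaf cJ1679) (BT.leaf cJ1680))) (BT.node 1683 (BT.node 1682 (BT.node 1681 (BT.leaf cJ1681) (BT.leaf cJ1682)) (BT.leaf cJ1683)) (BT.node 1684 (BT.leaf cJ1684) (BT.leaf cJ1685)))) (BT.node 1690 (BT.node 1688 (BT.node 1687 (BT.node 1686 (BT.leaf cJ1686) (BT.leaf cJ1687)) (BT.leaf cJ1688)) (BT.node 1689 (BT.leaf cJ1689) (BT.leaf cJ1690))) (BT.node 1693 (BT.node 1692 (BT.node 1691 (BT.leaf cJ1691) (BT.leaf cJ1692)) (BT.leaf cJ1693)) (BT.node 1694 (BT.leaf cJ1694) (BT.leaf cJ1695))))) (BT.node 1705 (BT.node 1700 (BT.node 1698 (BT.node 1697 (BT.node 1696 (BT.leaf cJ1696) (BT.leaf cJ1697)) (BT.leaf cJ1698)) (BT.node 1699 (BT.leaf cJ1699) (BT.leaf cJ1700))) (BT.node 1703 (BT.node 1702 (BT.node 1701 (BT.leaf cJ1701) (BT.leaf cJ1702)) (BT.leaf cJ1703)) (BT.node 1704 (BT.leaf cJ1704) (BT.leaf cJ1705)))) (BT.node 1710 (BT.node 1708 (BT.node 1707 (BT.node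 1706 (BT.leaf cJ1706) (BT.leaf cJ1707)) (BT.leaf cJ1708)) (BT.node 1709 (BT.leaf cJ1709) (BT.leaf cJ1710))) (BT.node 1712 (BT.node 1711 (BT.leaf cJ1711) (BT.leaf cJ1712)) (BT.node 1713 (BT.leaf cJ1713) (BT.leaf cJ1714)))))))) (BT.node 1792 (BT.node 1753 (BT.node 1734 (BT.node 1724 (BT.node 1719 (BT.node 1717 (BT.node 1716 (BT.node 1715 (BT.leaf cJ1715) (BT.leaf cJ1716)) (BT.leaf cJ1717)) (BT.node 1718 (BT.leaf cJ1718) (BT.leaf cJ1719))) (BT.node 1722 (BT.node 1721 (BT.node 1720 (BT.leaf cJ1720) (BT.leaf cJ1721)) (BT.leaf cJ1722)) (BT.node 1723 (BT.leaf cJ1723) (BT.leaf cJ1724)))) (BT.node 1729 (BT.node 1727 (BT.node 1726 (BT.node 1725 (BT.leaf cJ1725) (BT.leaf cJ1726)) (BT.leaf cJ1727)) (BT.node 1728 (BT.leaf cJ1728) (BT.leaf cJ1729))) (BT.node 1732 (BT.node 1731 (BT.node 1730 (BT.leaf cJ1730) (BT.leaf cJ1731)) (BT.leaf cJ1732)) (BT.node 1733 (BT.leaf cJ1733)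 (BT.leaf cJ1734))))) (BT.node 1744 (BT.node 1739 (BT.node 1737 (BT.node 1736 (BT.node 1735 (BT.leaf cJ1735) (BT.leaf cJ1736)) (BT.leaf cJ1737)) (BT.node 1738 (BT.leaf cJ1738) (BT.leaf cJ1739))) (BT.node 1742 (BT.node 1741 (BT.node 1740 (BT.leaf cJ1740) (BT.leaf cJ1741)) (BT.leaf cJ1742)) (BT.node 1743 (BT.leaf cJ1743) (BT.leaf cJ1744)))) (BT.node 1749 (BT.node 1747 (BT.node 1746 (BT.node 1745 (BT.leaf cJ1745) (BT.leaf cJ1746)) (BT.leaf cJ1747)) (BT.node 1748 (BT.leaf cJ1748) (BT.leaf cJ1749))) (BT.node 1751 (BT.node 1750 (BT.leaf cJ1750) (BT.leaf cJ1751)) (BT.node 1752 (BT.leaf cJ1752) (BT.leaf cJ1753)))))) (BT.node 1773 (BT.node 1763 (BT.node 1758 (BT.node 1756 (BT.node 1755 (BT.node 1754 (BT.leaf cJ1754) (BT.leaf cJ1755)) (BT.leaf cJ1756)) (BT.node 1757 (BT.leaf cJ1757) (BT.leaf cJ1758))) (BT.node 1761 (BT.node 1760 (BT.node 1759 (BT.leaf cJ1759) (BT.leaf cJ1760))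 (BT.leaf cJ1761)) (BT.node 1762 (BT.leaf cJ1762) (BT.leaf cJ1763)))) (BT.node 1768 (BT.node 1766 (BT.node 1765 (BT.node 1764 (BT.leaf cJ1764) (BT.leaf cJ1765)) (BT.leaf cJ1766)) (BT.node 1767 (BT.leaf cJ1767) (BT.leaf cJ1768))) (BT.node 1771 (BT.node 1770 (BT.node 1769 (BT.leaf cJ1769) (BT.leaf cJ1770)) (BT.leaf cJ1771)) (BT.node 1772 (BT.leaf cJ1772) (BT.leaf cJ1773))))) (BT.node 1783 (BT.node 1778 (BT.node 1776 (BT.node 1775 (BT.node 1774 (BT.leaf cJ1774) (BT.leaf cJ1775)) (BT.leaf cJ1776)) (BT.node 1777 (BT.leaf cJ1777) (BT.leaf cJ1778))) (BT.node 1781 (BT.node 1780 (BT.node 1779 (BT.leaf cJ1779) (BT.leaf cJ1780)) (BT.leaf cJ1781)) (BT.node 1782 (BT.leaf cJ1782) (BT.leaf cJ1783)))) (BT.node 1788 (BT.node 1786 (BT.node 1785 (BT.node 1784 (BT.leaf cJ1784) (BT.leaf cJ1785)) (BT.leaf cJ1786)) (BT.node 1787 (BT.leaf cJ1787) (BT.leaf cJ1788))) (BT.node 1790 (BT.node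 1789 (BT.leaf cJ1789) (BT.leaf cJ1790)) (BT.node 1791 (BT.leaf cJ1791) (BT.leaf cJ1792))))))) (BT.node 1831 (BT.node 1812 (BT.node 1802 (BT.node 1797 (BT.node 1795 (BT.node 1794 (BT.node 1793 (BT.leaf cJ1793) (BT.leaf cJ1794)) (BT.leaf cJ1795)) (BT.node 1796 (BT.leaf cJ1796) (BT.leaf cJ1797))) (BT.node 1800 (BT.node 1799 (BT.node 1798 (BT.leaf cJ1798) (BT.leaf cJ1799)) (BT.leaf cJ1800)) (BT.node 1801 (BT.leaf cJ1801) (BT.leaf cJ1802)))) (BT.node 1807 (BT.node 1805 (BT.node 1804 (BT.node 1803 (BT.leaf cJ1803) (BT.leaf cJ1804)) (BT.leaf cJ1805)) (BT.node 1806 (BT.leaf cJ1806) (BT.leaf cJ1807))) (BT.node 1810 (BT.node 1809 (BT.node 1808 (BT.leaf cJ1808) (BT.leaf cJ1809)) (BT.leaf cJ1810)) (BT.node 1811 (BT.leaf cJ1811) (BT.leaf cJ1812))))) (BT.node 1822 (BT.node 1817 (BT.node 1815 (BT.node 1814 (BT.node 1813 (BT.leaf cJ1813) (BT.leaf cJ1814)) (BT.leaf cJ1815)) (BT.node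 1816 (BT.leaf cJ1816) (BT.leaf cJ1817))) (BT.node 1820 (BT.node 1819 (BT.node 1818 (BT.leaf cJ1818) (BT.leaf cJ1819)) (BT.leaf cJ1820)) (BT.node 1821 (BT.leaf cJ1821) (BT.leaf cJ1822)))) (BT.node 1827 (BT.node 1825 (BT.node 1824 (BT.node 1823 (BT.leaf cJ1823) (BT.leaf cJ1824)) (BT.leaf cJ1825)) (BT.node 1826 (BT.leaf cJ1826) (BT.leaf cJ1827))) (BT.node 1829 (BT.node 1828 (BT.leaf cJ1828) (BT.leaf cJ1829)) (BT.node 1830 (BT.leaf cJ1830) (BT.leaf cJ1831)))))) (BT.node 1850 (BT.node 1841 (BT.node 1836 (BT.node 1834 (BT.node 1833 (BT.node 1832 (BT.leaf cJ1832) (BT.leaf cJ1833)) (BT.leaf cJ1834)) (BT.node 1835 (BT.leaf cJ1835) (BT.leaf cJ1836))) (BT.node 1839 (BT.node 1838 (BT.node 1837 (BT.leaf cJ1837) (BT.leaf cJ1838)) (BT.leaf cJ1839)) (BT.node 1840 (BT.leaf cJ1840) (BT.leaf cJ1841)))) (BT.node 1846 (BT.node 1844 (BT.node 1843 (BT.node 1842 (BT.leaf cJ1842) (BT.leaf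 cJ1843)) (BT.leaf cJ1844)) (BT.node 1845 (BT.leaf cJ1845) (BT.leaf cJ1846))) (BT.node 1848 (BT.node 1847 (BT.leaf cJ1847) (BT.leaf cJ1848)) (BT.node 1849 (BT.leaf cJ1849) (BT.leaf cJ1850))))) (BT.node 1860 (BT.node 1855 (BT.node 1853 (BT.node 1852 (BT.node 1851 (BT.leaf cJ1851) (BT.leaf cJ1852)) (BT.leaf cJ1853)) (BT.node 1854 (BT.leaf cJ1854) (BT.leaf cJ1855))) (BT.node 1858 (BT.node 1857 (BT.node 1856 (BT.leaf cJ1856) (BT.leaf cJ1857)) (BT.leaf cJ1858)) (BT.node 1859 (BT.leaf cJ1859) (BT.leaf cJ1860)))) (BT.node 1865 (BT.node 1863 (BT.node 1862 (BT.node 1861 (BT.leaf cJ1861) (BT.leaf cJ1862)) (BT.leaf cJ1863)) (BT.node 1864 (BT.leaf cJ1864) (BT.leaf cJ1865))) (BT.node 1867 (BT.node 1866 (BT.leaf cJ1866) (BT.leaf cJ1867)) (BT.node 1868 (BT.leaf cJ1868) (BT.leaf cJ1869)))))))))) (BT.node 2181 (BT.node 2025 (BT.node 1947 (BT.node 1908 (BT.node 1889 (BT.node 1879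 (BT.node 1874 (BT.node 1872 (BT.node 1871 (BT.node 1870 (BT.leaf cJ1870) (BT.leaf cJ1871)) (BT.leaf cJ1872)) (BT.node 1873 (BT.leaf cJ1873) (BT.leaf cJ1874))) (BT.node 1877 (BT.node 1876 (BT.node 1875 (BT.leaf cJ1875) (BT.leaf cJ1876)) (BT.leaf cJ1877)) (BT.node 1878 (BT.leaf cJ1878) (BT.leaf cJ1879)))) (BT.node 1884 (BT.node 1882 (BT.node 1881 (BT.node 1880 (BT.leaf cJ1880) (BT.leaf cJ1881)) (BT.leaf cJ1882)) (BT.node 1883 (BT.leaf cJ1883) (BT.leaf cJ1884))) (BT.node 1887 (BT.node 1886 (BT.node 1885 (BT.leaf cJ1885) (BT.leaf cJ1886)) (BT.leaf cJ1887)) (BT.node 1888 (BT.leaf cJ1888) (BT.leaf cJ1889))))) (BT.node 1899 (BT.node 1894 (BT.node 1892 (BT.node 1891 (BT.node 1890 (BT.leaf cJ1890) (BT.leaf cJ1891)) (BT.leaf cJ1892)) (BT.node 1893 (BT.leaf cJ1893) (BT.leaf cJ1894))) (BT.node 1897 (BT.node 1896 (BT.node 1895 (BT.leaf cJ1895) (BT.leaf cJ1896)) (BT.leaf cJ1897))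 (BT.node 1898 (BT.leaf cJ1898) (BT.leaf cJ1899)))) (BT.node 1904 (BT.node 1902 (BT.node 1901 (BT.node 1900 (BT.leaf cJ1900) (BT.leaf cJ1901)) (BT.leaf cJ1902)) (BT.node 1903 (BT.leaf cJ1903) (BT.leaf cJ1904))) (BT.node 1906 (BT.node 1905 (BT.leaf cJ1905) (BT.leaf cJ1906)) (BT.node 1907 (BT.leaf cJ1907) (BT.leaf cJ1908)))))) (BT.node 1928 (BT.node 1918 (BT.node 1913 (BT.node 1911 (BT.node 1910 (BT.node 1909 (BT.leaf cJ1909) (BT.leaf cJ1910)) (BT.leaf cJ1911)) (BT.node 1912 (BT.leaf cJ1912) (BT.leaf cJ1913))) (BT.node 1916 (BT.node 1915 (BT.node 1914 (BT.leaf cJ1914) (BT.leaf cJ1915)) (BT.leaf cJ1916)) (BT.node 1917 (BT.leaf cJ1917) (BT.leaf cJ1918)))) (BT.node 1923 (BT.node 1921 (BT.node 1920 (BT.node 1919 (BT.leaf cJ1919) (BT.leaf cJ1920)) (BT.leaf cJ1921)) (BT.node 1922 (BT.leaf cJ1922) (BT.leaf cJ1923))) (BT.node 1926 (BT.node 1925 (BT.node 1924 (BT.leaf cJ1924)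 (BT.leaf cJ1925)) (BT.leaf cJ1926)) (BT.node 1927 (BT.leaf cJ1927) (BT.leaf cJ1928))))) (BT.node 1938 (BT.node 1933 (BT.node 1931 (BT.node 1930 (BT.node 1929 (BT.leaf cJ1929) (BT.leaf cJ1930)) (BT.leaf cJ1931)) (BT.node 1932 (BT.leaf cJ1932) (BT.leaf cJ1933))) (BT.node 1936 (BT.node 1935 (BT.node 1934 (BT.leaf cJ1934) (BT.leaf cJ1935)) (BT.leaf cJ1936)) (BT.node 1937 (BT.leaf cJ1937) (BT.leaf cJ1938)))) (BT.node 1943 (BT.node 1941 (BT.node 1940 (BT.node 1939 (BT.leaf cJ1939) (BT.leaf cJ1940)) (BT.leaf cJ1941)) (BT.node 1942 (BT.leaf cJ1942) (BT.leaf cJ1943))) (BT.node 1945 (BT.node 1944 (BT.leaf cJ1944) (BT.leaf cJ1945)) (BT.node 1946 (BT.leaf cJ1946) (BT.leaf cJ1947))))))) (BT.node 1986 (BT.node 1967 (BT.node 1957 (BT.node 1952 (BT.node 1950 (BT.node 1949 (BT.node 1948 (BT.leaf cJ1948) (BT.leaf cJ1949)) (BT.leaf cJ1950)) (BT.node 1951 (BT.leaf cJ1951) (BT.leaf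 cJ1952))) (BT.node 1955 (BT.node 1954 (BT.node 1953 (BT.leaf cJ1953) (BT.leaf cJ1954)) (BT.leaf cJ1955)) (BT.node 1956 (BT.leaf cJ1956) (BT.leaf cJ1957)))) (BT.node 1962 (BT.node 1960 (BT.node 1959 (BT.node 1958 (BT.leaf cJ1958) (BT.leaf cJ1959)) (BT.leaf cJ1960)) (BT.node 1961 (BT.leaf cJ1961) (BT.leaf cJ1962))) (BT.node 1965 (BT.node 1964 (BT.node 1963 (BT.leaf cJ1963) (BT.leaf cJ1964)) (BT.leaf cJ1965)) (BT.node 1966 (BT.leaf cJ1966) (BT.leaf cJ1967))))) (BT.node 1977 (BT.node 1972 (BT.node 1970 (BT.node 1969 (BT.node 1968 (BT.leaf cJ1968) (BT.leaf cJ1969)) (BT.leaf cJ1970)) (BT.node 1971 (BT.leaf cJ1971) (BT.leaf cJ1972))) (BT.node 1975 (BT.node 1974 (BT.node 1973 (BT.leaf cJ1973) (BT.leaf cJ1974)) (BT.leaf cJ1975)) (BT.node 1976 (BT.leaf cJ1976) (BT.leaf cJ1977)))) (BT.node 1982 (BT.node 1980 (BT.node 1979 (BT.node 1978 (BT.leaf cJ1978) (BT.leaf cJ1979))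 (BT.leaf cJ1980)) (BT.node 1981 (BT.leaf cJ1981) (BT.leaf cJ1982))) (BT.node 1984 (BT.node 1983 (BT.leaf cJ1983) (BT.leaf cJ1984)) (BT.node 1985 (BT.leaf cJ1985) (BT.leaf cJ1986)))))) (BT.node 2006 (BT.node 1996 (BT.node 1991 (BT.node 1989 (BT.node 1988 (BT.node 1987 (BT.leaf cJ1987) (BT.leaf cJ1988)) (BT.leaf cJ1989)) (BT.node 1990 (BT.leaf cJ1990) (BT.leaf cJ1991))) (BT.node 1994 (BT.node 1993 (BT.node 1992 (BT.leaf cJ1992) (BT.leaf cJ1993)) (BT.leaf cJ1994)) (BT.node 1995 (BT.leaf cJ1995) (BT.leaf cJ1996)))) (BT.node 2001 (BT.node 1999 (BT.node 1998 (BT.node 1997 (BT.leaf cJ1997) (BT.leaf cJ1998)) (BT.leaf cJ1999)) (BT.node 2000 (BT.leaf cJ2000) (BT.leaf cJ2001))) (BT.node 2004 (BT.node 2003 (BT.node 2002 (BT.leaf cJ2002) (BT.leaf cJ2003)) (BT.leaf cJ2004)) (BT.node 2005 (BT.leaf cJ2005) (BT.leaf cJ2006))))) (BT.node 2016 (BT.node 2011 (BT.node 2009 (BT.node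 2008 (BT.node 2007 (BT.leaf cJ2007) (BT.leaf cJ2008)) (BT.leaf cJ2009)) (BT.node 2010 (BT.leaf cJ2010) (BT.leaf cJ2011))) (BT.node 2014 (BT.node 2013 (BT.node 2012 (BT.leaf cJ2012) (BT.leaf cJ2013)) (BT.leaf cJ2014)) (BT.node 2015 (BT.leaf cJ2015) (BT.leaf cJ2016)))) (BT.node 2021 (BT.node 2019 (BT.node 2018 (BT.node 2017 (BT.leaf cJ2017) (BT.leaf cJ2018)) (BT.leaf cJ2019)) (BT.node 2020 (BT.leaf cJ2020) (BT.leaf cJ2021))) (BT.node 2023 (BT.node 2022 (BT.leaf cJ2022) (BT.leaf cJ2023)) (BT.node 2024 (BT.leaf cJ2024) (BT.leaf cJ2025)))))))) (BT.node 2103 (BT.node 2064 (BT.node 2045 (BT.node 2035 (BT.node 2030 (BT.node 2028 (BT.node 2027 (BT.node 2026 (BT.leaf cJ2026) (BT.leaf cJ2027)) (BT.leaf cJ2028)) (BT.node 2029 (BT.leaf cJ2029) (BT.leaf cJ2030))) (BT.node 2033 (BT.node 2032 (BT.node 2031 (BT.leaf cJ2031) (BT.leaf cJ2032)) (BT.leaf cJ2033)) (BT.node 2034 (BT.leaf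 cJ2034) (BT.leaf cJ2035)))) (BT.node 2040 (BT.node 2038 (BT.node 2037 (BT.node 2036 (BT.leaf cJ2036) (BT.leaf cJ2037)) (BT.leaf cJ2038)) (BT.node 2039 (BT.leaf cJ2039) (BT.leaf cJ2040))) (BT.node 2043 (BT.node 2042 (BT.node 2041 (BT.leaf cJ2041) (BT.leaf cJ2042)) (BT.leaf cJ2043)) (BT.node 2044 (BT.leaf cJ2044) (BT.leaf cJ2045))))) (BT.node 2055 (BT.node 2050 (BT.node 2048 (BT.node 2047 (BT.node 2046 (BT.leaf cJ2046) (BT.leaf cJ2047)) (BT.leaf cJ2048)) (BT.node 2049 (BT.leaf cJ2049) (BT.leaf cJ2050))) (BT.node 2053 (BT.node 2052 (BT.node 2051 (BT.leaf cJ2051) (BT.leaf cJ2052)) (BT.leaf cJ2053)) (BT.node 2054 (BT.leaf cJ2054) (BT.leaf cJ2055)))) (BT.node 2060 (BT.node 2058 (BT.node 2057 (BT.node 2056 (BT.leaf cJ2056) (BT.leaf cJ2057)) (BT.leaf cJ2058)) (BT.node 2059 (BT.leaf cJ2059) (BT.leaf cJ2060))) (BT.node 2062 (BT.node 2061 (BT.leaf cJ2061) (BT.leaf cJ2062))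 (BT.node 2063 (BT.leaf cJ2063) (BT.leaf cJ2064)))))) (BT.node 2084 (BT.node 2074 (BT.node 2069 (BT.node 2067 (BT.node 2066 (BT.node 2065 (BT.leaf cJ2065) (BT.leaf cJ2066)) (BT.leaf cJ2067)) (BT.node 2068 (BT.leaf cJ2068) (BT.leaf cJ2069))) (BT.node 2072 (BT.node 2071 (BT.node 2070 (BT.leaf cJ2070) (BT.leaf cJ2071)) (BT.leaf cJ2072)) (BT.node 2073 (BT.leaf cJ2073) (BT.leaf cJ2074)))) (BT.node 2079 (BT.node 2077 (BT.node 2076 (BT.node 2075 (BT.leaf cJ2075) (BT.leaf cJ2076)) (BT.leaf cJ2077)) (BT.node 2078 (BT.leaf cJ2078) (BT.leaf cJ2079))) (BT.node 2082 (BT.node 2081 (BT.node 2080 (BT.leaf cJ2080) (BT.leaf cJ2081)) (BT.leaf cJ2082)) (BT.node 2083 (BT.leaf cJ2083) (BT.leaf cJ2084))))) (BT.node 2094 (BT.node 2089 (BT.node 2087 (BT.node 2086 (BT.node 2085 (BT.leaf cJ2085) (BT.leaf cJ2086)) (BT.leaf cJ2087)) (BT.node 2088 (BT.leaf cJ2088) (BT.leaf cJ2089))) (BT.node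 2092 (BT.node 2091 (BT.node 2090 (BT.leaf cJ2090) (BT.leaf cJ2091)) (BT.leaf cJ2092)) (BT.node 2093 (BT.leaf cJ2093) (BT.leaf cJ2094)))) (BT.node 2099 (BT.node 2097 (BT.node 2096 (BT.node 2095 (BT.leaf cJ2095) (BT.leaf cJ2096)) (BT.leaf cJ2097)) (BT.node 2098 (BT.leaf cJ2098) (BT.leaf cJ2099))) (BT.node 2101 (BT.node 2100 (BT.leaf cJ2100) (BT.leaf cJ2101)) (BT.node 2102 (BT.leaf cJ2102) (BT.leaf cJ2103))))))) (BT.node 2142 (BT.node 2123 (BT.node 2113 (BT.node 2108 (BT.node 2106 (BT.node 2105 (BT.node 2104 (BT.leaf cJ2104) (BT.leaf cJ2105)) (BT.leaf cJ2106)) (BT.node 2107 (BT.leaf cJ2107) (BT.leaf cJ2108))) (BT.node 2111 (BT.node 2110 (BT.node 2109 (BT.leaf cJ2109) (BT.leaf cJ2110)) (BT.leaf cJ2111)) (BT.node 2112 (BT.leaf cJ2112) (BT.leaf cJ2113)))) (BT.node 2118 (BT.node 2116 (BT.node 2115 (BT.node 2114 (BT.leaf cJ2114) (BT.leaf cJ2115)) (BT.leaf cJ2116)) (BT.node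 2117 (BT.leaf cJ2117) (BT.leaf cJ2118))) (BT.node 2121 (BT.node 2120 (BT.node 2119 (BT.leaf cJ2119) (BT.leaf cJ2120)) (BT.leaf cJ2121)) (BT.node 2122 (BT.leaf cJ2122) (BT.leaf cJ2123))))) (BT.node 2133 (BT.node 2128 (BT.node 2126 (BT.node 2125 (BT.node 2124 (BT.leaf cJ2124) (BT.leaf cJ2125)) (BT.leaf cJ2126)) (BT.node 2127 (BT.leaf cJ2127) (BT.leaf cJ2128))) (BT.node 2131 (BT.node 2130 (BT.node 2129 (BT.leaf cJ2129) (BT.leaf cJ2130)) (BT.leaf cJ2131)) (BT.node 2132 (BT.leaf cJ2132) (BT.leaf cJ2133)))) (BT.node 2138 (BT.node 2136 (BT.node 2135 (BT.node 2134 (BT.leaf cJ2134) (BT.leaf cJ2135)) (BT.leaf cJ2136)) (BT.node 2137 (BT.leaf cJ2137) (BT.leaf cJ2138))) (BT.node 2140 (BT.node 2139 (BT.leaf cJ2139) (BT.leaf cJ2140)) (BT.node 2141 (BT.leaf cJ2141) (BT.leaf cJ2142)))))) (BT.node 2162 (BT.node 2152 (BT.node 2147 (BT.node 2145 (BT.node 2144 (BT.node 2143 (BT.leaf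 cJ2143) (BT.leaf cJ2144)) (BT.leaf cJ2145)) (BT.node 2146 (BT.leaf cJ2146) (BT.leaf cJ2147))) (BT.node 2150 (BT.node 2149 (BT.node 2148 (BT.leaf cJ2148) (BT.leaf cJ2149)) (BT.leaf cJ2150)) (BT.node 2151 (BT.leaf cJ2151) (BT.leaf cJ2152)))) (BT.node 2157 (BT.node 2155 (BT.node 2154 (BT.node 2153 (BT.leaf cJ2153) (BT.leaf cJ2154)) (BT.leaf cJ2155)) (BT.node 2156 (BT.leaf cJ2156) (BT.leaf cJ2157))) (BT.node 2160 (BT.node 2159 (BT.node 2158 (BT.leaf cJ2158) (BT.leaf cJ2159)) (BT.leaf cJ2160)) (BT.node 2161 (BT.leaf cJ2161) (BT.leaf cJ2162))))) (BT.node 2172 (BT.node 2167 (BT.node 2165 (BT.node 2164 (BT.node 2163 (BT.leaf cJ2163) (BT.leaf cJ2164)) (BT.leaf cJ2165)) (BT.node 2166 (BT.leaf cJ2166) (BT.leaf cJ2167))) (BT.node 2170 (BT.node 2169 (BT.node 2168 (BT.leaf cJ2168) (BT.leaf cJ2169)) (BT.leaf cJ2170)) (BT.node 2171 (BT.leaf cJ2171) (BT.leaf cJ2172)))) (BT.node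 2177 (BT.node 2175 (BT.node 2174 (BT.node 2173 (BT.leaf cJ2173) (BT.leaf cJ2174)) (BT.leaf cJ2175)) (BT.node 2176 (BT.leaf cJ2176) (BT.leaf cJ2177))) (BT.node 2179 (BT.node 2178 (BT.leaf cJ2178) (BT.leaf cJ2179)) (BT.node 2180 (BT.leaf cJ2180) (BT.leaf cJ2181))))))))) (BT.node 2337 (BT.node 2259 (BT.node 2220 (BT.node 2201 (BT.node 2191 (BT.node 2186 (BT.node 2184 (BT.node 2183 (BT.node 2182 (BT.leaf cJ2182) (BT.leaf cJ2183)) (BT.leaf cJ2184)) (BT.node 2185 (BT.leaf cJ2185) (BT.leaf cJ2186))) (BT.node 2189 (BT.node 2188 (BT.node 2187 (BT.leaf cJ2187) (BT.leaf cJ2188)) (BT.leaf cJ2189)) (BT.node 2190 (BT.leaf cJ2190) (BT.leaf cJ2191)))) (BT.node 2196 (BT.node 2194 (BT.node 2193 (BT.node 2192 (BT.leaf cJ2192) (BT.leaf cJ2193)) (BT.leaf cJ2194)) (BT.node 2195 (BT.leaf cJ2195) (BT.leaf cJ2196))) (BT.node 2199 (BT.node 2198 (BT.node 2197 (BT.leaf cJ2197) (BT.leaf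 cJ2198)) (BT.leaf cJ2199)) (BT.node 2200 (BT.leaf cJ2200) (BT.leaf cJ2201))))) (BT.node 2211 (BT.node 2206 (BT.node 2204 (BT.node 2203 (BT.node 2202 (BT.leaf cJ2202) (BT.leaf cJ2203)) (BT.leaf cJ2204)) (BT.node 2205 (BT.leaf cJ2205) (BT.leaf cJ2206))) (BT.node 2209 (BT.node 2208 (BT.node 2207 (BT.leaf cJ2207) (BT.leaf cJ2208)) (BT.leaf cJ2209)) (BT.node 2210 (BT.leaf cJ2210) (BT.leaf cJ2211)))) (BT.node 2216 (BT.node 2214 (BT.node 2213 (BT.node 2212 (BT.leaf cJ2212) (BT.leaf cJ2213)) (BT.leaf cJ2214)) (BT.node 2215 (BT.leaf cJ2215) (BT.leaf cJ2216))) (BT.node 2218 (BT.node 2217 (BT.leaf cJ2217) (BT.leaf cJ2218)) (BT.node 2219 (BT.leaf cJ2219) (BT.leaf cJ2220)))))) (BT.node 2240 (BT.node 2230 (BT.node 2225 (BT.node 2223 (BT.node 2222 (BT.node 2221 (BT.leaf cJ2221) (BT.leaf cJ2222)) (BT.leaf cJ2223)) (BT.node 2224 (BT.leaf cJ2224) (BT.leaf cJ2225))) (BT.node 2228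 (BT.node 2227 (BT.node 2226 (BT.leaf cJ2226) (BT.leaf cJ2227)) (BT.leaf cJ2228)) (BT.node 2229 (BT.leaf cJ2229) (BT.leaf cJ2230)))) (BT.node 2235 (BT.node 2233 (BT.node 2232 (BT.node 2231 (BT.leaf cJ2231) (BT.leaf cJ2232)) (BT.leaf cJ2233)) (BT.node 2234 (BT.leaf cJ2234) (BT.leaf cJ2235))) (BT.node 2238 (BT.node 2237 (BT.node 2236 (BT.leaf cJ2236) (BT.leaf cJ2237)) (BT.leaf cJ2238)) (BT.node 2239 (BT.leaf cJ2239) (BT.leaf cJ2240))))) (BT.node 2250 (BT.node 2245 (BT.node 2243 (BT.node 2242 (BT.node 2241 (BT.leaf cJ2241) (BT.leaf cJ2242)) (BT.leaf cJ2243)) (BT.node 2244 (BT.leaf cJ2244) (BT.leaf cJ2245))) (BT.node 2248 (BT.node 2247 (BT.node 2246 (BT.leaf cJ2246) (BT.leaf cJ2247)) (BT.leaf cJ2248)) (BT.node 2249 (BT.leaf cJ2249) (BT.leaf cJ2250)))) (BT.node 2255 (BT.node 2253 (BT.node 2252 (BT.node 2251 (BT.leaf cJ2251) (BT.leaf cJ2252)) (BT.leaf cJ2253)) (BT.node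 2254 (BT.leaf cJ2254) (BT.leaf cJ2255))) (BT.node 2257 (BT.node 2256 (BT.leaf cJ2256) (BT.leaf cJ2257)) (BT.node 2258 (BT.leaf cJ2258) (BT.leaf cJ2259))))))) (BT.node 2298 (BT.node 2279 (BT.node 2269 (BT.node 2264 (BT.node 2262 (BT.node 2261 (BT.node 2260 (BT.leaf cJ2260) (BT.leaf cJ2261)) (BT.leaf cJ2262)) (BT.node 2263 (BT.leaf cJ2263) (BT.leaf cJ2264))) (BT.node 2267 (BT.node 2266 (BT.node 2265 (BT.leaf cJ2265) (BT.leaf cJ2266)) (BT.leaf cJ2267)) (BT.node 2268 (BT.leaf cJ2268) (BT.leaf cJ2269)))) (BT.node 2274 (BT.node 2272 (BT.node 2271 (BT.node 2270 (BT.leaf cJ2270) (BT.leaf cJ2271)) (BT.leaf cJ2272)) (BT.node 2273 (BT.leaf cJ2273) (BT.leaf cJ2274))) (BT.node 2277 (BT.node 2276 (BT.node 2275 (BT.leaf cJ2275) (BT.leaf cJ2276)) (BT.leaf cJ2277)) (BT.node 2278 (BT.leaf cJ2278) (BT.leaf cJ2279))))) (BT.node 2289 (BT.node 2284 (BT.node 2282 (BT.node 2281 (BT.node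 2280 (BT.leaf cJ2280) (BT.leaf cJ2281)) (BT.leaf cJ2282)) (BT.node 2283 (BT.leaf cJ2283) (BT.leaf cJ2284))) (BT.node 2287 (BT.node 2286 (BT.node 2285 (BT.leaf cJ2285) (BT.leaf cJ2286)) (BT.leaf cJ2287)) (BT.node 2288 (BT.leaf cJ2288) (BT.leaf cJ2289)))) (BT.node 2294 (BT.node 2292 (BT.node 2291 (BT.node 2290 (BT.leaf cJ2290) (BT.leaf cJ2291)) (BT.leaf cJ2292)) (BT.node 2293 (BT.leaf cJ2293) (BT.leaf cJ2294))) (BT.node 2296 (BT.node 2295 (BT.leaf cJ2295) (BT.leaf cJ2296)) (BT.node 2297 (BT.leaf cJ2297) (BT.leaf cJ2298)))))) (BT.node 2318 (BT.node 2308 (BT.node 2303 (BT.node 2301 (BT.node 2300 (BT.node 2299 (BT.leaf cJ2299) (BT.leaf cJ2300)) (BT.leaf cJ2301)) (BT.node 2302 (BT.leaf cJ2302) (BT.leaf cJ2303))) (BT.node 2306 (BT.node 2305 (BT.node 2304 (BT.leaf cJ2304) (BT.leaf cJ2305)) (BT.leaf cJ2306)) (BT.node 2307 (BT.leaf cJ2307) (BT.leaf cJ2308)))) (BT.node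 2313 (BT.node 2311 (BT.node 2310 (BT.node 2309 (BT.leaf cJ2309) (BT.leaf cJ2310)) (BT.leaf cJ2311)) (BT.node 2312 (BT.leaf cJ2312) (BT.leaf cJ2313))) (BT.node 2316 (BT.node 2315 (BT.node 2314 (BT.leaf cJ2314) (BT.leaf cJ2315)) (BT.leaf cJ2316)) (BT.node 2317 (BT.leaf cJ2317) (BT.leaf cJ2318))))) (BT.node 2328 (BT.node 2323 (BT.node 2321 (BT.node 2320 (BT.node 2319 (BT.leaf cJ2319) (BT.leaf cJ2320)) (BT.leaf cJ2321)) (BT.node 2322 (BT.leaf cJ2322) (BT.leaf cJ2323))) (BT.node 2326 (BT.node 2325 (BT.node 2324 (BT.leaf cJ2324) (BT.leaf cJ2325)) (BT.leaf cJ2326)) (BT.node 2327 (BT.leaf cJ2327) (BT.leaf cJ2328)))) (BT.node 2333 (BT.node 2331 (BT.node 2330 (BT.node 2329 (BT.leaf cJ2329) (BT.leaf cJ2330)) (BT.leaf cJ2331)) (BT.node 2332 (BT.leaf cJ2332) (BT.leaf cJ2333))) (BT.node 2335 (BT.node 2334 (BT.leaf cJ2334) (BT.leaf cJ2335)) (BT.node 2336 (BT.leaf cJ2336) (BT.leaf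 cJ2337)))))))) (BT.node 2415 (BT.node 2376 (BT.node 2357 (BT.node 2347 (BT.node 2342 (BT.node 2340 (BT.node 2339 (BT.node 2338 (BT.leaf cJ2338) (BT.leaf cJ2339)) (BT.leaf cJ2340)) (BT.node 2341 (BT.leaf cJ2341) (BT.leaf cJ2342))) (BT.node 2345 (BT.node 2344 (BT.node 2343 (BT.leaf cJ2343) (BT.leaf cJ2344)) (BT.leaf cJ2345)) (BT.node 2346 (BT.leaf cJ2346) (BT.leaf cJ2347)))) (BT.node 2352 (BT.node 2350 (BT.node 2349 (BT.node 2348 (BT.leaf cJ2348) (BT.leaf cJ2349)) (BT.leaf cJ2350)) (BT.node 2351 (BT.leaf cJ2351) (BT.leaf cJ2352))) (BT.node 2355 (BT.node 2354 (BT.node 2353 (BT.leaf cJ2353) (BT.leaf cJ2354)) (BT.leaf cJ2355)) (BT.node 2356 (BT.leaf cJ2356) (BT.leaf cJ2357))))) (BT.node 2367 (BT.node 2362 (BT.node 2360 (BT.node 2359 (BT.node 2358 (BT.leaf cJ2358) (BT.leaf cJ2359)) (BT.leaf cJ2360)) (BT.node 2361 (BT.leaf cJ2361) (BT.leaf cJ2362))) (BT.node 2365 (BT.node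 2364 (BT.node 2363 (BT.leaf cJ2363) (BT.leaf cJ2364)) (BT.leaf cJ2365)) (BT.node 2366 (BT.leaf cJ2366) (BT.leaf cJ2367)))) (BT.node 2372 (BT.node 2370 (BT.node 2369 (BT.node 2368 (BT.leaf cJ2368) (BT.leaf cJ2369)) (BT.leaf cJ2370)) (BT.node 2371 (BT.leaf cJ2371) (BT.leaf cJ2372))) (BT.node 2374 (BT.node 2373 (BT.leaf cJ2373) (BT.leaf cJ2374)) (BT.node 2375 (BT.leaf cJ2375) (BT.leaf cJ2376)))))) (BT.node 2396 (BT.node 2386 (BT.node 2381 (BT.node 2379 (BT.node 2378 (BT.node 2377 (BT.leaf cJ2377) (BT.leaf cJ2378)) (BT.leaf cJ2379)) (BT.node 2380 (BT.leaf cJ2380) (BT.leaf cJ2381))) (BT.node 2384 (BT.node 2383 (BT.node 2382 (BT.leaf cJ2382) (BT.leaf cJ2383)) (BT.leaf cJ2384)) (BT.node 2385 (BT.leaf cJ2385) (BT.leaf cJ2386)))) (BT.node 2391 (BT.node 2389 (BT.node 2388 (BT.node 2387 (BT.leaf cJ2387) (BT.leaf cJ2388)) (BT.leaf cJ2389)) (BT.node 2390 (BT.leaf cJ2390)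 (BT.leaf cJ2391))) (BT.node 2394 (BT.node 2393 (BT.node 2392 (BT.leaf cJ2392) (BT.leaf cJ2393)) (BT.leaf cJ2394)) (BT.node 2395 (BT.leaf cJ2395) (BT.leaf cJ2396))))) (BT.node 2406 (BT.node 2401 (BT.node 2399 (BT.node 2398 (BT.node 2397 (BT.leaf cJ2397) (BT.leaf cJ2398)) (BT.leaf cJ2399)) (BT.node 2400 (BT.leaf cJ2400) (BT.leaf cJ2401))) (BT.node 2404 (BT.node 2403 (BT.node 2402 (BT.leaf cJ2402) (BT.leaf cJ2403)) (BT.leaf cJ2404)) (BT.node 2405 (BT.leaf cJ2405) (BT.leaf cJ2406)))) (BT.node 2411 (BT.node 2409 (BT.node 2408 (BT.node 2407 (BT.leaf cJ2407) (BT.leaf cJ2408)) (BT.leaf cJ2409)) (BT.node 2410 (BT.leaf cJ2410) (BT.leaf cJ2411))) (BT.node 2413 (BT.node 2412 (BT.leaf cJ2412) (BT.leaf cJ2413)) (BT.node 2414 (BT.leaf cJ2414) (BT.leaf cJ2415))))))) (BT.node 2454 (BT.node 2435 (BT.node 2425 (BT.node 2420 (BT.node 2418 (BT.node 2417 (BT.node 2416 (BT.leaf cJ2416)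 (BT.leaf cJ2417)) (BT.leaf cJ2418)) (BT.node 2419 (BT.leaf cJ2419) (BT.leaf cJ2420))) (BT.node 2423 (BT.node 2422 (BT.node 2421 (BT.leaf cJ2421) (BT.leaf cJ2422)) (BT.leaf cJ2423)) (BT.node 2424 (BT.leaf cJ2424) (BT.leaf cJ2425)))) (BT.node 2430 (BT.node 2428 (BT.node 2427 (BT.node 2426 (BT.leaf cJ2426) (BT.leaf cJ2427)) (BT.leaf cJ2428)) (BT.node 2429 (BT.leaf cJ2429) (BT.leaf cJ2430))) (BT.node 2433 (BT.node 2432 (BT.node 2431 (BT.leaf cJ2431) (BT.leaf cJ2432)) (BT.leaf cJ2433)) (BT.node 2434 (BT.leaf cJ2434) (BT.leaf cJ2435))))) (BT.node 2445 (BT.node 2440 (BT.node 2438 (BT.node 2437 (BT.node 2436 (BT.leaf cJ2436) (BT.leaf cJ2437)) (BT.leaf cJ2438)) (BT.node 2439 (BT.leaf cJ2439) (BT.leaf cJ2440))) (BT.node 2443 (BT.node 2442 (BT.node 2441 (BT.leaf cJ2441) (BT.leaf cJ2442)) (BT.leaf cJ2443)) (BT.node 2444 (BT.leaf cJ2444) (BT.leaf cJ2445)))) (BT.node 2450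 (BT.node 2448 (BT.node 2447 (BT.node 2446 (BT.leaf cJ2446) (BT.leaf cJ2447)) (BT.leaf cJ2448)) (BT.node 2449 (BT.leaf cJ2449) (BT.leaf cJ2450))) (BT.node 2452 (BT.node 2451 (BT.leaf cJ2451) (BT.leaf cJ2452)) (BT.node 2453 (BT.leaf cJ2453) (BT.leaf cJ2454)))))) (BT.node 2473 (BT.node 2464 (BT.node 2459 (BT.node 2457 (BT.node 2456 (BT.node 2455 (BT.leaf cJ2455) (BT.leaf cJ2456)) (BT.leaf cJ2457)) (BT.node 2458 (BT.leaf cJ2458) (BT.leaf cJ2459))) (BT.node 2462 (BT.node 2461 (BT.node 2460 (BT.leaf cJ2460) (BT.leaf cJ2461)) (BT.leaf cJ2462)) (BT.node 2463 (BT.leaf cJ2463) (BT.leaf cJ2464)))) (BT.node 2469 (BT.node 2467 (BT.node 2466 (BT.node 2465 (BT.leaf cJ2465) (BT.leaf cJ2466)) (BT.leaf cJ2467)) (BT.node 2468 (BT.leaf cJ2468) (BT.leaf cJ2469))) (BT.node 2471 (BT.node 2470 (BT.leaf cJ2470) (BT.leaf cJ2471)) (BT.node 2472 (BT.leaf cJ2472) (BT.leaf cJ2473))))) (BT.node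 2483 (BT.node 2478 (BT.node 2476 (BT.node 2475 (BT.node 2474 (BT.leaf cJ2474) (BT.leaf cJ2475)) (BT.leaf cJ2476)) (BT.node 2477 (BT.leaf cJ2477) (BT.leaf cJ2478))) (BT.node 2481 (BT.node 2480 (BT.node 2479 (BT.leaf cJ2479) (BT.leaf cJ2480)) (BT.leaf cJ2481)) (BT.node 2482 (BT.leaf cJ2482) (BT.leaf cJ2483)))) (BT.node 2488 (BT.node 2486 (BT.node 2485 (BT.node 2484 (BT.leaf cJ2484) (BT.leaf cJ2485)) (BT.leaf cJ2486)) (BT.node 2487 (BT.leaf cJ2487) (BT.leaf cJ2488))) (BT.node 2490 (BT.node 2489 (BT.leaf cJ2489) (BT.leaf cJ2490)) (BT.node 2491 (BT.leaf cJ2491) (BT.leaf cJ2492))))))))))))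
/-- parent chunks -/
def parCT : BT ℕ := (BT.node 138 (BT.node 69 (BT.node 34 (BT.node 17 (BT.node 8 (BT.node 4 (BT.node 2 (BT.node 1 (BT.node 0 (BT.leaf cP0) (BT.leaf cP1)) (BT.leaf cP2)) (BT.node 3 (BT.leaf cP3) (BT.leaf cP4))) (BT.node 6 (BT.node 5 (BT.leaf cP5) (BT.leaf cP6)) (BT.node 7 (BT.leaf cP7) (BT.leaf cP8)))) (BT.node 13 (BT.node 11 (BT.node 10 (BT.node 9 (BT.leaf cP9) (BT.leaf cP10)) (BT.leaf cP11)) (BT.node 12 (BT.leaf cP12) (BT.leaf cP13))) (BT.node 15 (BT.node 14 (BT.leaf cP14) (BT.leaf cP15)) (BT.node 16 (BT.leaf cP16) (BT.leaf cP17))))) (BT.node 26 (BT.node 22 (BT.node 20 (BT.node 19 (BT.node 18 (BT.leaf cP18) (BT.leaf cP19)) (BT.leaf cP20)) (BT.node 21 (BT.leaf cP21) (BT.leaf cP22))) (BT.node 24 (BT.node 23 (BT.leaf cP23) (BT.leaf cP24)) (BT.node 25 (BT.leaf cP25) (BT.leaf cP26)))) (BT.node 30 (BT.node 28 (BT.node 27 (BT.leaf cP27) (BT.leaf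 cP28)) (BT.node 29 (BT.leaf cP29) (BT.leaf cP30))) (BT.node 32 (BT.node 31 (BT.leaf cP31) (BT.leaf cP32)) (BT.node 33 (BT.leaf cP33) (BT.leaf cP34)))))) (BT.node 52 (BT.node 43 (BT.node 39 (BT.node 37 (BT.node 36 (BT.node 35 (BT.leaf cP35) (BT.leaf cP36)) (BT.leaf cP37)) (BT.node 38 (BT.leaf cP38) (BT.leaf cP39))) (BT.node 41 (BT.node 40 (BT.leaf cP40) (BT.leaf cP41)) (BT.node 42 (BT.leaf cP42) (BT.leaf cP43)))) (BT.node 48 (BT.node 46 (BT.node 45 (BT.node 44 (BT.leaf cP44) (BT.leaf cP45)) (BT.leaf cP46)) (BT.node 47 (BT.leaf cP47) (BT.leaf cP48))) (BT.node 50 (BT.node 49 (BT.leaf cP49) (BT.leaf cP50)) (BT.node 51 (BT.leaf cP51) (BT.leaf cP52))))) (BT.node 61 (BT.node 57 (BT.node 55 (BT.node 54 (BT.node 53 (BT.leaf cP53) (BT.leaf cP54)) (BT.leaf cP55)) (BT.node 56 (BT.leaf cP56) (BT.leaf cP57))) (BT.node 59 (BT.node 58 (BT.leaf cP58) (BT.leaf cP59)) (BT.node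 60 (BT.leaf cP60) (BT.leaf cP61)))) (BT.node 65 (BT.node 63 (BT.node 62 (BT.leaf cP62) (BT.leaf cP63)) (BT.node 64 (BT.leaf cP64) (BT.leaf cP65))) (BT.node 67 (BT.node 66 (BT.leaf cP66) (BT.leaf cP67)) (BT.node 68 (BT.leaf cP68) (BT.leaf cP69))))))) (BT.node 104 (BT.node 87 (BT.node 78 (BT.node 74 (BT.node 72 (BT.node 71 (BT.node 70 (BT.leaf cP70) (BT.leaf cP71)) (BT.leaf cP72)) (BT.node 73 (BT.leaf cP73) (BT.leaf cP74))) (BT.node 76 (BT.node 75 (BT.leaf cP75) (BT.leaf cP76)) (BT.node 77 (BT.leaf cP77) (BT.leaf cP78)))) (BT.node 83 (BT.node 81 (BT.node 80 (BT.node 79 (BT.leaf cP79) (BT.leaf cP80)) (BT.leaf cP81)) (BT.node 82 (BT.leaf cP82) (BT.leaf cP83))) (BT.node 85 (BT.node 84 (BT.leaf cP84) (BT.leaf cP85)) (BT.node 86 (BT.leaf cP86) (BT.leaf cP87))))) (BT.node 96 (BT.node 92 (BT.node 90 (BT.node 89 (BT.node 88 (BT.leaf cP88) (BT.leaf cP89)) (BT.leaf cP90))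 (BT.node 91 (BT.leaf cP91) (BT.leaf cP92))) (BT.node 94 (BT.node 93 (BT.leaf cP93) (BT.leaf cP94)) (BT.node 95 (BT.leaf cP95) (BT.leaf cP96)))) (BT.node 100 (BT.node 98 (BT.node 97 (BT.leaf cP97) (BT.leaf cP98)) (BT.node 99 (BT.leaf cP99) (BT.leaf cP100))) (BT.node 102 (BT.node 101 (BT.leaf cP101) (BT.leaf cP102)) (BT.node 103 (BT.leaf cP103) (BT.leaf cP104)))))) (BT.node 121 (BT.node 113 (BT.node 109 (BT.node 107 (BT.node 106 (BT.node 105 (BT.leaf cP105) (BT.leaf cP106)) (BT.leaf cP107)) (BT.node 108 (BT.leaf cP108) (BT.leaf cP109))) (BT.node 111 (BT.node 110 (BT.leaf cP110) (BT.leaf cP111)) (BT.node 112 (BT.leaf cP112) (BT.leaf cP113)))) (BT.node 117 (BT.node 115 (BT.node 114 (BT.leaf cP114) (BT.leaf cP115)) (BT.node 116 (BT.leaf cP116) (BT.leaf cP117))) (BT.node 119 (BT.node 118 (BT.leaf cP118) (BT.leaf cP119)) (BT.node 120 (BT.leaf cP120) (BT.leaf cP121)))))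 (BT.node 130 (BT.node 126 (BT.node 124 (BT.node 123 (BT.node 122 (BT.leaf cP122) (BT.leaf cP123)) (BT.leaf cP124)) (BT.node 125 (BT.leaf cP125) (BT.leaf cP126))) (BT.node 128 (BT.node 127 (BT.leaf cP127) (BT.leaf cP128)) (BT.node 129 (BT.leaf cP129) (BT.leaf cP130)))) (BT.node 134 (BT.node 132 (BT.node 131 (BT.leaf cP131) (BT.leaf cP132)) (BT.node 133 (BT.leaf cP133) (BT.leaf cP134))) (BT.node 136 (BT.node 135 (BT.leaf cP135) (BT.leaf cP136)) (BT.node 137 (BT.leaf cP137) (BT.leaf cP138)))))))) (BT.node 207 (BT.node 173 (BT.node 156 (BT.node 147 (BT.node 143 (BT.node 141 (BT.node 140 (BT.node 139 (BT.leaf cP139) (BT.leaf cP140)) (BT.leaf cP141)) (BT.node 142 (BT.leaf cP142) (BT.leaf cP143))) (BT.node 145 (BT.node 144 (BT.leaf cP144) (BT.leaf cP145)) (BT.node 146 (BT.leaf cP146) (BT.leaf cP147)))) (BT.node 152 (BT.node 150 (BT.node 149 (BT.node 148 (BT.leaf cP148)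 (BT.leaf cP149)) (BT.leaf cP150)) (BT.node 151 (BT.leaf cP151) (BT.leaf cP152))) (BT.node 154 (BT.node 153 (BT.leaf cP153) (BT.leaf cP154)) (BT.node 155 (BT.leaf cP155) (BT.leaf cP156))))) (BT.node 165 (BT.node 161 (BT.node 159 (BT.node 158 (BT.node 157 (BT.leaf cP157) (BT.leaf cP158)) (BT.leaf cP159)) (BT.node 160 (BT.leaf cP160) (BT.leaf cP161))) (BT.node 163 (BT.node 162 (BT.leaf cP162) (BT.leaf cP163)) (BT.node 164 (BT.leaf cP164) (BT.leaf cP165)))) (BT.node 169 (BT.node 167 (BT.node 166 (BT.leaf cP166) (BT.leaf cP167)) (BT.node 168 (BT.leaf cP168) (BT.leaf cP169))) (BT.node 171 (BT.node 170 (BT.leaf cP170) (BT.leaf cP171)) (BT.node 172 (BT.leaf cP172) (BT.leaf cP173)))))) (BT.node 190 (BT.node 182 (BT.node 178 (BT.node 176 (BT.node 175 (BT.node 174 (BT.leaf cP174) (BT.leaf cP175)) (BT.leaf cP176)) (BT.node 177 (BT.leaf cP177) (BT.leaf cP178))) (BT.node 180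 (BT.node 179 (BT.leaf cP179) (BT.leaf cP180)) (BT.node 181 (BT.leaf cP181) (BT.leaf cP182)))) (BT.node 186 (BT.node 184 (BT.node 183 (BT.leaf cP183) (BT.leaf cP184)) (BT.node 185 (BT.leaf cP185) (BT.leaf cP186))) (BT.node 188 (BT.node 187 (BT.leaf cP187) (BT.leaf cP188)) (BT.node 189 (BT.leaf cP189) (BT.leaf cP190))))) (BT.node 199 (BT.node 195 (BT.node 193 (BT.node 192 (BT.node 191 (BT.leaf cP191) (BT.leaf cP192)) (BT.leaf cP193)) (BT.node 194 (BT.leaf cP194) (BT.leaf cP195))) (BT.node 197 (BT.node 196 (BT.leaf cP196) (BT.leaf cP197)) (BT.node 198 (BT.leaf cP198) (BT.leaf cP199)))) (BT.node 203 (BT.node 201 (BT.node 200 (BT.leaf cP200) (BT.leaf cP201)) (BT.node 202 (BT.leaf cP202) (BT.leaf cP203))) (BT.node 205 (BT.node 204 (BT.leaf cP204) (BT.leaf cP205)) (BT.node 206 (BT.leaf cP206) (BT.leaf cP207))))))) (BT.node 242 (BT.node 225 (BT.node 216 (BT.node 212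 (BT.node 210 (BT.node 209 (BT.node 208 (BT.leaf cP208) (BT.leaf cP209)) (BT.leaf cP210)) (BT.node 211 (BT.leaf cP211) (BT.leaf cP212))) (BT.node 214 (BT.node 213 (BT.leaf cP213) (BT.leaf cP214)) (BT.node 215 (BT.leaf cP215) (BT.leaf cP216)))) (BT.node 221 (BT.node 219 (BT.node 218 (BT.node 217 (BT.leaf cP217) (BT.leaf cP218)) (BT.leaf cP219)) (BT.node 220 (BT.leaf cP220) (BT.leaf cP221))) (BT.node 223 (BT.node 222 (BT.leaf cP222) (BT.leaf cP223)) (BT.node 224 (BT.leaf cP224) (BT.leaf cP225))))) (BT.node 234 (BT.node 230 (BT.node 228 (BT.node 227 (BT.node 226 (BT.leaf cP226) (BT.leaf cP227)) (BT.leaf cP228)) (BT.node 229 (BT.leaf cP229) (BT.leaf cP230))) (BT.node 232 (BT.node 231 (BT.leaf cP231) (BT.leaf cP232)) (BT.node 233 (BT.leaf cP233) (BT.leaf cP234)))) (BT.node 238 (BT.node 236 (BT.node 235 (BT.leaf cP235) (BT.leaf cP236)) (BT.node 237 (BT.leaf cP237) (BT.leaf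 cP238))) (BT.node 240 (BT.node 239 (BT.leaf cP239) (BT.leaf cP240)) (BT.node 241 (BT.leaf cP241) (BT.leaf cP242)))))) (BT.node 259 (BT.node 251 (BT.node 247 (BT.node 245 (BT.node 244 (BT.node 243 (BT.leaf cP243) (BT.leaf cP244)) (BT.leaf cP245)) (BT.node 246 (BT.leaf cP246) (BT.leaf cP247))) (BT.node 249 (BT.node 248 (BT.leaf cP248) (BT.leaf cP249)) (BT.node 250 (BT.leaf cP250) (BT.leaf cP251)))) (BT.node 255 (BT.node 253 (BT.node 252 (BT.leaf cP252) (BT.leaf cP253)) (BT.node 254 (BT.leaf cP254) (BT.leaf cP255))) (BT.node 257 (BT.node 256 (BT.leaf cP256) (BT.leaf cP257)) (BT.node 258 (BT.leaf cP258) (BT.leaf cP259))))) (BT.node 268 (BT.node 264 (BT.node 262 (BT.node 261 (BT.node 260 (BT.leaf cP260) (BT.leaf cP261)) (BT.leaf cP262)) (BT.node 263 (BT.leaf cP263) (BT.leaf cP264))) (BT.node 266 (BT.node 265 (BT.leaf cP265) (BT.leaf cP266)) (BT.node 267 (BT.leaf cP267)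 (BT.leaf cP268)))) (BT.node 272 (BT.node 270 (BT.node 269 (BT.leaf cP269) (BT.leaf cP270)) (BT.node 271 (BT.leaf cP271) (BT.leaf cP272))) (BT.node 274 (BT.node 273 (BT.leaf cP273) (BT.leaf cP274)) (BT.node 275 (BT.leaf cP275) (BT.leaf cP276)))))))))
/-- the certificate -/
def data : Data where
  k := 8
  N := 141577
  W := 36
  MW := 68719476736
  B := 262144
  CH := 512
  NCH := 277
  colE := colET
  JW := 64
  MJ := 18446744073709551616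
  A := 1048576
  colJ := colJT
  PW := 27
  MP := 134217728
  parC := parCT
  inv := (BT.node 4 (BT.node 2 (BT.node 1 (BT.node 0 (BT.leaf 1) (BT.leaf 0)) (BT.leaf 3)) (BT.node 3 (BT.leaf 2) (BT.leaf 5))) (BT.node 6 (BT.node 5 (BT.leaf 4) (BT.leaf 7)) (BT.node 7 (BT.leaf 6) (BT.leaf 8))))
  rel := relT
  sub := subT
  fuel := 64

end Cfsg.Agent.Lib.Helper29.TCG23CData
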