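import Cfsg.Agent.Lib.Helper28.TC2Range
import Cfsg.Agent.Lib.Helper29.TCG23CData
import Cfsg.Agent.Lib.Helper29.TCG23CTable
set_option autoImplicit false
set_option maxRecDepth 100000
set_option maxHeartbeats 0

namespace Cfsg.Agent.Lib.Helper29.TCG23CM1
open Cfsg.Agent.Lib.Helper28.TC2Upper Cfsg.Agent.Lib.Helper28.TC2Lower Cfsg.Agent.Lib.Helper28.TC2Range Cfsg.Agent.Lib.Helper29.TCG23CData Cfsg.Agent.Lib.Helper29.TCG23CTable

theorem fin5 : Data.finalRange data 52080 10416 = true := by decide +kernel
theorem fin6 : Data.finalRange data 62496 10416 = true := by decide +kernel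
theorem fin7 : Data.finalRange data 72912 10416 = true := by decide +kernel
theorem fin8 : Data.finalRange data 83328 10416 = true := by decide +kernel
theorem fin9 : Data.finalRange data 93744 10416 = true := by decide +kernel

end Cfsg.Agent.Lib.Helper29.TCG23CM1
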