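import Cfsg.Agent.Lib.Helper28.TC2Range
import Cfsg.Agent.Lib.Helper29.TCG23CData
import Cfsg.Agent.Lib.Helper29.TCG23CTable
set_option autoImplicit false
set_option maxRecDepth 100000
set_option maxHeartbeats 0

namespace Cfsg.Agent.Lib.Helper29.TCG23CM2
open Cfsg.Agent.Lib.Helper28.TC2Upper Cfsg.Agent.Lib.Helper28.TC2Lower Cfsg.Agent.Lib.Helper28.TC2Range Cfsg.Agent.Lib.Helper29.TCG23CData Cfsg.Agent.Lib.Helper29.TCG23CTable

theorem fin10 : Data.finalRange data 104160 10416 = true := by decide +kernel
theorem fin11 : Data.finalRange data 114576 10416 = true := by decide +kernel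
theorem fin12 : Data.finalRange data 124992 10416 = true := by decide +kernel
theorem fin13 : Data.finalRange data 135408 6169 = true := by decide +kernel
theorem cnt0 : Data.countFrom data 0 40000 = 2266 := by decide +kernel

end Cfsg.Agent.Lib.Helper29.TCG23CM2
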