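import Cfsg.Agent.Lib.Helper29.TCG23CData
set_option autoImplicit false
set_option maxRecDepth 100000
set_option maxHeartbeats 0

namespace Cfsg.Agent.Lib.Helper29.TCG23CU7
open Cfsg.Agent.Lib.Helper28.TC2Upper Cfsg.Agent.Lib.Helper29.TCG23CData

theorem chk35 : data.checkRange 86555 5237 = true := by decide +kernel
theorem chk36 : data.checkRange 91792 4950 = true := by decide +kernel
theorem chk37 : data.checkRange 96742 4764 = true := by decide +kernel
theorem chk38 : data.checkRange 101506 5003 = true := by decide +kernel
theorem chk39 : data.checkRange 106509 5431 = true := by decide +kernel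

end Cfsg.Agent.Lib.Helper29.TCG23CU7
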