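import Cfsg.Agent.Lib.Helper28.TC2GlueOrb
import Cfsg.Agent.Lib.Helper28.TC2Range
import Cfsg.Agent.Lib.Helper29.TCG23CLink
import Cfsg.Agent.Lib.Helper29.TCG23CM
import Cfsg.Agent.Lib.Helper29.TCG23CM0
import Cfsg.Agent.Lib.Helper29.TCG23CM1
import Cfsg.Agent.Lib.Helper29.TCG23CM2
import Cfsg.Agent.Lib.Helper29.TCG23CM3
import Cfsg.Agent.Lib.Helper29.TCG23CU0
import Cfsg.Agent.Lib.Helper29.TCG23CU1
import Cfsg.Agent.Lib.Helper29.TCG23CU2
import Cfsg.Agent.Lib.Helper29.TCG23CU3
import Cfsg.Agent.Lib.Helper29.TCG23CU4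
import Cfsg.Agent.Lib.Helper29.TCG23CU5
import Cfsg.Agent.Lib.Helper29.TCG23CU6
import Cfsg.Agent.Lib.Helper29.TCG23CU7
import Cfsg.Agent.Lib.Helper29.TCG23CU8
import Cfsg.Agent.Lib.Helper29.TCG23CU9
import Cfsg.Agent.Lib.Helper29.TCG23CL0

set_option autoImplicit false
set_option maxRecDepth 100000
open Cfsg

namespace Cfsg.Agent.Lib.Helper29.TCG23CMain
open Cfsg.Agent.Lib.Helper28.TC2Upper Cfsg.Agent.Lib.Helper28.TC2Lower Cfsg.Agent.Lib.Helper28.TC2Glue Cfsg.Agent.Lib.Helper28.TC2GlueOrb Cfsg.Agent.Lib.Helper28.TC2Orbit Cfsg.Agent.Lib.Helper28.TC2Range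
open Cfsg.Agent.Lib.Helper29.TCG23CData Cfsg.Agent.Lib.Helper29.TCG23CTable Cfsg.Agent.Lib.Helper29.TCG23CLink Cfsg.Agent.Lib.Helper29.TCG23CM

theorem hchk : ∀ v, v < data.N → data.checkNode v = true := by
  intro v hv
  have hv' : v < 141577 := hv
  rcases Nat.lt_or_ge v 696 with h0 | h0
  · exact (data.checkRange_iff 0 696).mp Cfsg.Agent.Lib.Helper29.TCG23CU0.chk0 v (by omega) (by omega)
  rcases Nat.lt_or_ge v 1452 with h1 | h1
  · exact (data.checkRange_iff 696 756).mp Cfsg.Agent.Lib.Helper29.TCG23CU0.chk1 v (by omega) (by omega)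
  rcases Nat.lt_or_ge v 2261 with h2 | h2
  · exact (data.checkRange_iff 1452 809).mp Cfsg.Agent.Lib.Helper29.TCG23CU0.chk2 v (by omega) (by omega)
  rcases Nat.lt_or_ge v 3179 with h3 | h3
  · exact (data.checkRange_iff 2261 918).mp Cfsg.Agent.Lib.Helper29.TCG23CU0.chk3 v (by omega) (by omega)
  rcases Nat.lt_or_ge v 4153 with h4 | h4
  · exact (data.checkRange_iff 3179 974).mp Cfsg.Agent.Lib.Helper29.TCG23CU0.chk4 v (by omega) (by omega)
  rcases Nat.lt_or_ge v 5140 with h5 | h5
  · exact (data.checkRange_iff 4153 987).mp Cfsg.Agent.Lib.Helper29.TCG23CU1.chk5 v (by omega) (by omega)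
  rcases Nat.lt_or_ge v 6246 with h6 | h6
  · exact (data.checkRange_iff 5140 1106).mp Cfsg.Agent.Lib.Helper29.TCG23CU1.chk6 v (by omega) (by omega)
  rcases Nat.lt_or_ge v 7495 with h7 | h7
  · exact (data.checkRange_iff 6246 1249).mp Cfsg.Agent.Lib.Helper29.TCG23CU1.chk7 v (by omega) (by omega)
  rcases Nat.lt_or_ge v 8969 with h8 | h8
  · exact (data.checkRange_iff 7495 1474).mp Cfsg.Agent.Lib.Helper29.TCG23CU1.chk8 v (by omega) (by omega)
  rcases Nat.lt_or_ge v 10339 with h9 | h9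
  · exact (data.checkRange_iff 8969 1370).mp Cfsg.Agent.Lib.Helper29.TCG23CU1.chk9 v (by omega) (by omega)
  rcases Nat.lt_or_ge v 11929 with h10 | h10
  · exact (data.checkRange_iff 10339 1590).mp Cfsg.Agent.Lib.Helper29.TCG23CU2.chk10 v (by omega) (by omega)
  rcases Nat.lt_or_ge v 13421 with h11 | h11
  · exact (data.checkRange_iff 11929 1492).mp Cfsg.Agent.Lib.Helper29.TCG23CU2.chk11 v (by omega) (by omega)
  rcases Nat.lt_or_ge v 15099 with h12 | h12
  · exact (data.checkRange_iff 13421 1678).mp Cfsg.Agent.Lib.Helper29.TCG23CU2.chk12 v (by omega) (by omega)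
  rcases Nat.lt_or_ge v 16899 with h13 | h13
  · exact (data.checkRange_iff 15099 1800).mp Cfsg.Agent.Lib.Helper29.TCG23CU2.chk13 v (by omega) (by omega)
  rcases Nat.lt_or_ge v 18556 with h14 | h14
  · exact (data.checkRange_iff 16899 1657).mp Cfsg.Agent.Lib.Helper29.TCG23CU2.chk14 v (by omega) (by omega)
  rcases Nat.lt_or_ge v 20832 with h15 | h15
  · exact (data.checkRange_iff 18556 2276).mp Cfsg.Agent.Lib.Helper29.TCG23CU3.chk15 v (by omega) (by omega)
  rcases Nat.lt_or_ge v 23000 with h16 | h16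
  · exact (data.checkRange_iff 20832 2168).mp Cfsg.Agent.Lib.Helper29.TCG23CU3.chk16 v (by omega) (by omega)
  rcases Nat.lt_or_ge v 25892 with h17 | h17
  · exact (data.checkRange_iff 23000 2892).mp Cfsg.Agent.Lib.Helper29.TCG23CU3.chk17 v (by omega) (by omega)
  rcases Nat.lt_or_ge v 28075 with h18 | h18
  · exact (data.checkRange_iff 25892 2183).mp Cfsg.Agent.Lib.Helper29.TCG23CU3.chk18 v (by omega) (by omega)
  rcases Nat.lt_or_ge v 30496 with h19 | h19
  · exact (data.checkRange_iff 28075 2421).mp Cfsg.Agent.Lib.Helper29.TCG23CU3.chk19 v (by omega) (by omega)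
  rcases Nat.lt_or_ge v 33416 with h20 | h20
  · exact (data.checkRange_iff 30496 2920).mp Cfsg.Agent.Lib.Helper29.TCG23CU4.chk20 v (by omega) (by omega)
  rcases Nat.lt_or_ge v 36102 with h21 | h21
  · exact (data.checkRange_iff 33416 2686).mp Cfsg.Agent.Lib.Helper29.TCG23CU4.chk21 v (by omega) (by omega)
  rcases Nat.lt_or_ge v 38891 with h22 | h22
  · exact (data.checkRange_iff 36102 2789).mp Cfsg.Agent.Lib.Helper29.TCG23CU4.chk22 v (by omega) (by omega)
  rcases Nat.lt_or_ge v 41944 with h23 | h23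
  · exact (data.checkRange_iff 38891 3053).mp Cfsg.Agent.Lib.Helper29.TCG23CU4.chk23 v (by omega) (by omega)
  rcases Nat.lt_or_ge v 44614 with h24 | h24
  · exact (data.checkRange_iff 41944 2670).mp Cfsg.Agent.Lib.Helper29.TCG23CU4.chk24 v (by omega) (by omega)
  rcases Nat.lt_or_ge v 47841 with h25 | h25
  · exact (data.checkRange_iff 44614 3227).mp Cfsg.Agent.Lib.Helper29.TCG23CU5.chk25 v (by omega) (by omega)
  rcases Nat.lt_or_ge v 50937 with h26 | h26
  · exact (data.checkRange_iff 47841 3096).mp Cfsg.Agent.Lib.Helper29.TCG23CU5.chk26 v (by omega) (by omega)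
  rcases Nat.lt_or_ge v 55129 with h27 | h27
  · exact (data.checkRange_iff 50937 4192).mp Cfsg.Agent.Lib.Helper29.TCG23CU5.chk27 v (by omega) (by omega)
  rcases Nat.lt_or_ge v 59214 with h28 | h28
  · exact (data.checkRange_iff 55129 4085).mp Cfsg.Agent.Lib.Helper29.TCG23CU5.chk28 v (by omega) (by omega)
  rcases Nat.lt_or_ge v 63706 with h29 | h29
  · exact (data.checkRange_iff 59214 4492).mp Cfsg.Agent.Lib.Helper29.TCG23CU5.chk29 v (by omega) (by omega)
  rcases Nat.lt_or_ge v 68401 with h30 | h30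
  · exact (data.checkRange_iff 63706 4695).mp Cfsg.Agent.Lib.Helper29.TCG23CU6.chk30 v (by omega) (by omega)
  rcases Nat.lt_or_ge v 72978 with h31 | h31
  · exact (data.checkRange_iff 68401 4577).mp Cfsg.Agent.Lib.Helper29.TCG23CU6.chk31 v (by omega) (by omega)
  rcases Nat.lt_or_ge v 77258 with h32 | h32
  · exact (data.checkRange_iff 72978 4280).mp Cfsg.Agent.Lib.Helper29.TCG23CU6.chk32 v (by omega) (by omega)
  rcases Nat.lt_or_ge v 81954 with h33 | h33
  · exact (data.checkRange_iff 77258 4696).mp Cfsg.Agent.Lib.Helper29.TCG23CU6.chk33 v (by omega) (by omega)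
  rcases Nat.lt_or_ge v 86555 with h34 | h34
  · exact (data.checkRange_iff 81954 4601).mp Cfsg.Agent.Lib.Helper29.TCG23CU6.chk34 v (by omega) (by omega)
  rcases Nat.lt_or_ge v 91792 with h35 | h35
  · exact (data.checkRange_iff 86555 5237).mp Cfsg.Agent.Lib.Helper29.TCG23CU7.chk35 v (by omega) (by omega)
  rcases Nat.lt_or_ge v 96742 with h36 | h36
  · exact (data.checkRange_iff 91792 4950).mp Cfsg.Agent.Lib.Helper29.TCG23CU7.chk36 v (by omega) (by omega)
  rcases Nat.lt_or_ge v 101506 with h37 | h37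
  · exact (data.checkRange_iff 96742 4764).mp Cfsg.Agent.Lib.Helper29.TCG23CU7.chk37 v (by omega) (by omega)
  rcases Nat.lt_or_ge v 106509 with h38 | h38
  · exact (data.checkRange_iff 101506 5003).mp Cfsg.Agent.Lib.Helper29.TCG23CU7.chk38 v (by omega) (by omega)
  rcases Nat.lt_or_ge v 111940 with h39 | h39
  · exact (data.checkRange_iff 106509 5431).mp Cfsg.Agent.Lib.Helper29.TCG23CU7.chk39 v (by omega) (by omega)
  rcases Nat.lt_or_ge v 116784 with h40 | h40
  · exact (data.checkRange_iff 111940 4844).mp Cfsg.Agent.Lib.Helper29.TCG23CU8.chk40 v (by omega) (by omega)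
  rcases Nat.lt_or_ge v 121716 with h41 | h41
  · exact (data.checkRange_iff 116784 4932).mp Cfsg.Agent.Lib.Helper29.TCG23CU8.chk41 v (by omega) (by omega)
  rcases Nat.lt_or_ge v 127122 with h42 | h42
  · exact (data.checkRange_iff 121716 5406).mp Cfsg.Agent.Lib.Helper29.TCG23CU8.chk42 v (by omega) (by omega)
  rcases Nat.lt_or_ge v 132288 with h43 | h43
  · exact (data.checkRange_iff 127122 5166).mp Cfsg.Agent.Lib.Helper29.TCG23CU8.chk43 v (by omega) (by omega)
  rcases Nat.lt_or_ge v 137705 with h44 | h44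
  · exact (data.checkRange_iff 132288 5417).mp Cfsg.Agent.Lib.Helper29.TCG23CU8.chk44 v (by omega) (by omega)
  exact (data.checkRange_iff 137705 3872).mp Cfsg.Agent.Lib.Helper29.TCG23CU9.chk45 v (by omega) (by omega)

theorem hrows : ∀ v, v < data.N → Data.rowOK data v = true := by
  intro v hv
  have hv' : v < 141577 := hv
  rcases Nat.lt_or_ge v 10416 with h0 | h0
  · exact (Data.finalRange_iff data 0 10416).mp Cfsg.Agent.Lib.Helper29.TCG23CM0.fin0 v (by omega) (by omega)
  rcases Nat.lt_or_ge v 20832 with h1 | h1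
  · exact (Data.finalRange_iff data 10416 10416).mp Cfsg.Agent.Lib.Helper29.TCG23CM0.fin1 v (by omega) (by omega)
  rcases Nat.lt_or_ge v 31248 with h2 | h2
  · exact (Data.finalRange_iff data 20832 10416).mp Cfsg.Agent.Lib.Helper29.TCG23CM0.fin2 v (by omega) (by omega)
  rcases Nat.lt_or_ge v 41664 with h3 | h3
  · exact (Data.finalRange_iff data 31248 10416).mp Cfsg.Agent.Lib.Helper29.TCG23CM0.fin3 v (by omega) (by omega)
  rcases Nat.lt_or_ge v 52080 with h4 | h4
  · exact (Data.finalRange_iff data 41664 10416).mp Cfsg.Agent.Lib.Helper29.TCG23CM0.fin4 v (by omega) (by omega)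
  rcases Nat.lt_or_ge v 62496 with h5 | h5
  · exact (Data.finalRange_iff data 52080 10416).mp Cfsg.Agent.Lib.Helper29.TCG23CM1.fin5 v (by omega) (by omega)
  rcases Nat.lt_or_ge v 72912 with h6 | h6
  · exact (Data.finalRange_iff data 62496 10416).mp Cfsg.Agent.Lib.Helper29.TCG23CM1.fin6 v (by omega) (by omega)
  rcases Nat.lt_or_ge v 83328 with h7 | h7
  · exact (Data.finalRange_iff data 72912 10416).mp Cfsg.Agent.Lib.Helper29.TCG23CM1.fin7 v (by omega) (by omega)
  rcases Nat.lt_or_ge v 93744 with h8 | h8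
  · exact (Data.finalRange_iff data 83328 10416).mp Cfsg.Agent.Lib.Helper29.TCG23CM1.fin8 v (by omega) (by omega)
  rcases Nat.lt_or_ge v 104160 with h9 | h9
  · exact (Data.finalRange_iff data 93744 10416).mp Cfsg.Agent.Lib.Helper29.TCG23CM1.fin9 v (by omega) (by omega)
  rcases Nat.lt_or_ge v 114576 with h10 | h10
  · exact (Data.finalRange_iff data 104160 10416).mp Cfsg.Agent.Lib.Helper29.TCG23CM2.fin10 v (by omega) (by omega)
  rcases Nat.lt_or_ge v 124992 with h11 | h11
  · exact (Data.finalRange_iff data 114576 10416).mp Cfsg.Agent.Lib.Helper29.TCG23CM2.fin11 v (by omega) (by omega)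
  rcases Nat.lt_or_ge v 135408 with h12 | h12
  · exact (Data.finalRange_iff data 124992 10416).mp Cfsg.Agent.Lib.Helper29.TCG23CM2.fin12 v (by omega) (by omega)
  exact (Data.finalRange_iff data 135408 6169).mp Cfsg.Agent.Lib.Helper29.TCG23CM2.fin13 v (by omega) (by omega)

theorem hfin : data.finalOK = true := Data.finalOK_of_rows data hlive0 (by decide) hrows

theorem pc0 : Data.countFrom data 0 40000 = 2266 := Cfsg.Agent.Lib.Helper29.TCG23CM2.cnt0
theorem pc1 : Data.countFrom data 0 80000 = 2268 := Data.countFrom_step data pc0 Cfsg.Agent.Lib.Helper29.TCG23CM3.cnt1 (by norm_num) (by norm_num)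
theorem pc2 : Data.countFrom data 0 120000 = 2268 := Data.countFrom_step data pc1 Cfsg.Agent.Lib.Helper29.TCG23CM3.cnt2 (by norm_num) (by norm_num)
theorem pc3 : Data.countFrom data 0 141577 = 2268 := Data.countFrom_step data pc2 Cfsg.Agent.Lib.Helper29.TCG23CM3.cnt3 (by norm_num) (by norm_num)

theorem hcount : data.countLive = table.n := by
  rw [Data.countLive_eq]
  exact pc3

theorem hpermAll : ∀ p, p < table.n → Table.permRow table p = true := by
  intro p hp
  have hp' : p < 2268 := hp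
  exact (Table.permRange_iff table 0 2268).mp Cfsg.Agent.Lib.Helper29.TCG23CM3.prm0 p (by omega) (by omega)

theorem hT : table.OK := Table.ok_of_rows table hinvOK hpermAll

theorem htreeAll : ∀ i, i < Nat.pred table.n → Table.treeRow table i = true := by
  intro p hp
  have hp' : p < 2267 := hp
  exact (Table.treeRange_iff table 0 2267).mp Cfsg.Agent.Lib.Helper29.TCG23CM3.tre0 p (by omega) (by omega)

theorem htree : table.treeOK = true := Table.treeOK_of_rows table htreeAll

theorem hchkT : ∀ P ∈ chkPaths, ∀ p, p < table.n → table.walkT P p = p := by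
  intro P hm p hp
  have hp' : p < 2268 := hp
  rcases Nat.lt_or_ge p 1207 with h0 | h0
  · exact (Table.relOK_iff chkPaths 0 1207).mp Cfsg.Agent.Lib.Helper29.TCG23CL0.rel0 p (by omega) (by omega) _ hm
  exact (Table.relOK_iff chkPaths 1207 1061).mp Cfsg.Agent.Lib.Helper29.TCG23CL0.rel1 p (by omega) (by omega) _ hm

theorem hrelT : ∀ L ∈ relWords, ∀ p, p < table.n → table.walkT (pathOf lw L) p = p :=
  fun L hL => Table.fix_of_covered hT chkPaths hchkT _ (hcov _ (hrelmem L hL)).1 (hcov _ (hrelmem L hL)).2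

theorem hsubT : ∀ L ∈ subWords, table.walkT (pathOf lw L) 0 = 0 :=
  fun L hL => (Table.subOK_iff subPaths).mp hsub0 _ (hsubmem L hL)

theorem hn : 0 < table.n := by decide

theorem main : ((Subgroup.closure S).map (PresentedGroup.mk rels)).index = table.n ∧
    ∃ φ : PresentedGroup rels →* Equiv.Perm (Fin table.n),
      (∀ x, φ (PresentedGroup.of x) = Table.sigma hT (lw (x, true))) ∧
      ∃ f : PresentedGroup rels ⧸ (Subgroup.closure S).map (PresentedGroup.mk rels) → Fin table.n,
        Function.Bijective f ∧ (∀ g q, f (g • q) = φ g (f q)) ∧ f (QuotientGroup.mk 1) = ⟨0, hn⟩ :=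
  index_eq link hchk hfin hcount hT hn hrelT hsubT htree

end Cfsg.Agent.Lib.Helper29.TCG23CMain
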