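import Cfsg.Agent.Lib.Helper29.TitsSchurH
import Cfsg.Agent.Lib.Helper29.TCG23CMain
import Cfsg.Agent.Lib.Helper29.FoxG23CP2Chk
import Cfsg.Agent.Lib.Helper29.FoxG23CP3Chk
import Cfsg.Agent.Lib.Helper29.FoxG23CP7Chk
import Cfsg.Agent.Lib.Helper29.G23CPerm
import Cfsg.Agent.Lib.Helper28.TC2Simple
import Cfsg.Agent.Lib.Helper28.TC2Subst
import Cfsg.Agent.Lib.Helper10.G23Main

set_option autoImplicit false
set_option maxRecDepth 100000

/-!
# The triple cover of `G₂(3)` as a presented group, with trivial Schur multiplier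

The presented group `PG = ⟨a, b, t, z | …⟩` (`⟨a, b⟩ = L₃(3)` with the presentation of `TitsSchurH`, `z` central
of order 3, `t` an involution) has order at most `2268 * 5616 = 3 * 4245696`; it maps onto helper10's
permutation group `P ≅ G₂(3)` on 728 points with `z` in the kernel, and `z ≠ 1` by the coset table. So the kernel
is `⟨z⟩` of order 3. Fox-calculus certificates (helper28's `SchurFox`) over the 2268 cosets of `L₃(3)` for the
primes 2, 3 and 7, transfer for the others: every finite stem extension of `PG` is an isomorphism.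
-/

namespace Cfsg.Agent.Lib.Helper29.G23CSchur

open Cfsg.Agent.Lib.Helper28.SchurFox Cfsg.Agent.Lib.Helper28.TC2Lower Cfsg.Agent.Lib.Helper28.TC2Glue
open Cfsg.Agent.Lib.Helper28.TC2Tower Cfsg.Agent.Lib.Helper28.TC2Simple Cfsg.Agent.Lib.Helper28.TC2Subst
open Cfsg.Agent.Lib.Helper29.TCG23CLink Cfsg.Agent.Lib.Helper29.TCG23CTable
open Cfsg.Agent.Lib.Helper29.TCG23CMain
open Cfsg.Agent.Lib.Helper29.G23CDef (Gen)
open Cfsg.Agent.Lib.Helper29.TitsSchurH (PH)
open Cfsg.Agent.Lib.Helper10.SW Cfsg.Agent.Lib.Helper10.G23 Cfsg.Agent.Lib.Helper29.G23CPerm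

attribute [local irreducible] perm

/-- the presented group -/
abbrev PG : Type := PresentedGroup rels

/-- the subgroup generated by `a` and `b` -/
abbrev H : Subgroup PG := (Subgroup.closure S).map (PresentedGroup.mk rels)

/-- index of a generator -/
def gi : Gen → ℕ
  | .a => 0
  | .b => 1
  | .t => 2
  | .z => 3

theorem hlw : ∀ x b, lw (x, b) = 2 * gi x + cond b 0 1 := by
  rintro x b; cases x <;> cases b <;> rfl

theorem hgi : Function.Injective gi := by
  intro x y h; cases x <;> cases y <;> simp_all [gi]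

theorem hlwk : ∀ x, lw (x, true) < table.k := by
  intro x; cases x <;> decide

theorem hDd : ∀ k < 4, ∃ x, gi x = k := by
  intro k hk
  interval_cases k
  exacts [⟨.a, rfl⟩, ⟨.b, rfl⟩, ⟨.t, rfl⟩, ⟨.z, rfl⟩]

/-! ### the subgroup `⟨a, b⟩` is a quotient of the presented `L₃(3)` -/

/-- the generators of the presented `L₃(3)` as generators of the cover -/
def up : Cfsg.Agent.Lib.Helper29.TitsHDef.Gen → Gen
  | .a => .a
  | .b => .b

theorem up_rel : ∀ L ∈ Cfsg.Agent.Lib.Helper29.TCTitsHLink.relWords,
    upWord up L ∈ relWords := by decide +kernel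

theorem hrelmap : ∀ r ∈ Cfsg.Agent.Lib.Helper29.TCTitsHLink.rels,
    FreeGroup.map up r ∈ rels :=
  hrel_of_words rels Cfsg.Agent.Lib.Helper29.TCTitsHLink.rels up relWords
    Cfsg.Agent.Lib.Helper29.TCTitsHLink.relWords link.hrels Cfsg.Agent.Lib.Helper29.TCTitsHLink.link.hrels up_rel

theorem hψrel : ∀ r ∈ Cfsg.Agent.Lib.Helper29.TCTitsHLink.rels,
    FreeGroup.lift (fun g => (PresentedGroup.of (up g) : PG)) r = 1 := by
  intro r hr
  have key : FreeGroup.lift (fun g => (PresentedGroup.of (up g) : PG)) =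
      (PresentedGroup.mk rels).comp (FreeGroup.map up) := by
    ext g
    simp [PresentedGroup.of]
  rw [key]
  exact PresentedGroup.one_of_mem (hrelmap r hr)

/-- the map from the presented `L₃(3)` -/
noncomputable def ψ : PH →* PG := PresentedGroup.toGroup hψrel

theorem ψ_of (g : Cfsg.Agent.Lib.Helper29.TitsHDef.Gen) :
    ψ (PresentedGroup.of g) = PresentedGroup.of (up g) :=
  PresentedGroup.toGroup.of hψrel

theorem range_ψ : ψ.range = H := by
  rw [MonoidHom.range_eq_map, ← PresentedGroup.closure_range_of, MonoidHom.map_closure, ← Set.range_comp]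
  show _ = (Subgroup.closure {FreeGroup.of Gen.a, FreeGroup.of Gen.b}).map _
  rw [MonoidHom.map_closure]
  congr 1
  ext x
  constructor
  · rintro ⟨g, rfl⟩
    cases g
    · exact ⟨FreeGroup.of Gen.a, by simp, (ψ_of .a).symm⟩
    · exact ⟨FreeGroup.of Gen.b, by simp, (ψ_of .b).symm⟩
  · rintro ⟨y, hy, rfl⟩
    simp only [Set.mem_insert_iff, Set.mem_singleton_iff] at hy
    rcases hy with rfl | rfl
    · exact ⟨.a, ψ_of .a⟩
    · exact ⟨.b, ψ_of .b⟩

theorem index_H : H.index = 2268 := main.1

theorem card_H_le : Nat.card H ≤ 5616 := by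
  rw [← range_ψ]
  calc Nat.card ψ.range ≤ Nat.card PH := Nat.card_le_card_of_surjective ψ.rangeRestrict ψ.rangeRestrict_surjective
    _ ≤ 5616 := Cfsg.Agent.Lib.Helper29.TitsSchurH.card_le

theorem finite_H : Finite H := by
  rw [← range_ψ]
  exact Finite.of_surjective ψ.rangeRestrict ψ.rangeRestrict_surjective

instance finite_PG : Finite PG := by
  have := finite_H
  exact finite_of_index H (by rw [index_H]; norm_num)

theorem card_le : Nat.card PG ≤ 12737088 :=
  card_le_of_index H index_H card_H_le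

/-! ### the permutation representation on 728 points -/

theorem inv_ok : ∀ x : Gen, InvOf 728 (code (x, true)) (code (x, false)) ∧
    InvOf 728 (code (x, false)) (code (x, true)) := by
  intro x
  cases x <;> exact ⟨by decide +kernel, by decide +kernel⟩

theorem valid_code (xb : Gen × Bool) : Valid 728 (code xb) := by
  obtain ⟨x, b⟩ := xb
  cases b
  · exact valid_of_invOf (inv_ok x).2
  · exact valid_of_invOf (inv_ok x).1

/-- the permutations of the generators -/
noncomputable def pgen (x : Gen) : Equiv.Perm (Fin 728) := perm 728 (code (x, true))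

theorem perm_code (x : Gen) (b : Bool) : perm 728 (code (x, b)) = cond b (pgen x) (pgen x)⁻¹ := by
  cases b
  · exact perm_inv_of_invOf (inv_ok x).1 (valid_code (x, false))
  · rfl

theorem lift_eq_prodL (L : List (Gen × Bool)) :
    FreeGroup.lift pgen (FreeGroup.mk L) = prodL 728 (L.map code) := by
  rw [FreeGroup.lift_mk]
  unfold prodL
  rw [List.map_map]
  congr 1
  apply List.map_congr_left
  rintro ⟨x, b⟩ _
  exact (perm_code x b).symm

theorem valid_map_code (L : List (Gen × Bool)) : ∀ c ∈ L.map code, Valid 728 c := by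
  intro c hc
  rw [List.mem_map] at hc
  obtain ⟨xb, _, rfl⟩ := hc
  exact valid_code xb

theorem rels_ok : ∀ L ∈ relWords, ∀ p < 728, evalL 728 (L.map code) p = p := by
  decide +kernel

theorem lift_rel (L : List (Gen × Bool)) (hL : L ∈ relWords) :
    FreeGroup.lift pgen (FreeGroup.mk L) = 1 := by
  rw [lift_eq_prodL]
  ext i
  rw [prodL_apply_val _ (valid_map_code _), rels_ok L hL i.val i.isLt]
  rfl

theorem words_ok : ∀ i < 12, ∀ p < 728, evalL 728 ((gws.getD i []).map code) p = ap 728 (cX i) p := by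
  decide +kernel

theorem perm_eq_prodL {c : ℕ} (hc : Valid 728 c) (L : List (Gen × Bool))
    (h : ∀ p < 728, evalL 728 (L.map code) p = ap 728 c p) : perm 728 c = prodL 728 (L.map code) := by
  ext i
  rw [perm_apply_val hc, prodL_apply_val _ (valid_map_code _), h i.val i.isLt]

theorem pz_ok : ∀ p < 728, ap 728 pz p = p := by decide +kernel

theorem pgen_z_eq : pgen .z = perm 728 pz := rfl

theorem pgen_z : pgen .z = 1 := by
  have hv : Valid 728 pz := valid_code (.z, true)
  rw [pgen_z_eq]
  apply Equiv.ext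
  intro i
  apply Fin.ext
  rw [perm_apply_val hv, pz_ok i.val i.isLt]
  rfl

/-- the homomorphism onto `G₂(3)`, as permutations of the 728 points -/
theorem exists_hom : ∃ Ψ : PG →* Equiv.Perm (Fin 728), (∀ x, Ψ (PresentedGroup.of x) = pgen x) ∧ P ≤ Ψ.range := by
  obtain ⟨Ψ, hΨ⟩ := exists_hom_of_words rels pgen relWords (fun r hr => (link.hrels r).mp hr) lift_rel
  refine ⟨Ψ, hΨ, ?_⟩
  have hlift : ∀ L : List (Gen × Bool), Ψ (PresentedGroup.mk rels (FreeGroup.mk L)) =
      FreeGroup.lift pgen (FreeGroup.mk L) := by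
    intro L
    have : Ψ.comp (PresentedGroup.mk rels) = FreeGroup.lift pgen := by
      apply FreeGroup.ext_hom
      intro x
      rw [MonoidHom.comp_apply, FreeGroup.lift_apply_of]
      exact hΨ x
    exact DFunLike.congr_fun this _
  have hprod : ∀ L : List (Gen × Bool), prodL 728 (L.map code) ∈ Ψ.range := by
    intro L
    rw [← lift_eq_prodL, ← hlift]
    exact ⟨_, rfl⟩
  show grp 728 cXL ≤ _
  rw [grp_le_iff]
  intro c hc
  obtain ⟨r, rfl⟩ := exists_of_mem_cXL hc
  rw [perm_eq_prodL (valid_cX r.isLt) (gws.getD r.val []) (words_ok r.val r.isLt)]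
  exact hprod _

end Cfsg.Agent.Lib.Helper29.G23CSchur
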