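import Cfsg.Agent.Lib.Helper29.G23CSchur

set_option autoImplicit false
set_option maxRecDepth 100000

/-!
# The triple cover of `G₂(3)`: the kernel, the subgroup `L₃(3)`, the multiplier
-/

namespace Cfsg.Agent.Lib.Helper29.G23CSchur

open Cfsg.Agent.Lib.Helper28.SchurFox Cfsg.Agent.Lib.Helper28.TC2Lower Cfsg.Agent.Lib.Helper28.TC2Glue
open Cfsg.Agent.Lib.Helper28.TC2Tower Cfsg.Agent.Lib.Helper28.TC2Simple Cfsg.Agent.Lib.Helper28.TC2Subst
open Cfsg.Agent.Lib.Helper29.TCG23CLink Cfsg.Agent.Lib.Helper29.TCG23CTable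
open Cfsg.Agent.Lib.Helper29.TCG23CMain
open Cfsg.Agent.Lib.Helper29.G23CDef (Gen)
open Cfsg.Agent.Lib.Helper29.TitsSchurH (PH)
open Cfsg.Agent.Lib.Helper10.SW Cfsg.Agent.Lib.Helper10.G23 Cfsg.Agent.Lib.Helper29.G23CPerm

/-! ### the central element -/

/-- the central generator -/
noncomputable def zz : PG := PresentedGroup.of Gen.z

theorem mk_rel (L : List (Gen × Bool)) (hL : L ∈ relWords) :
    PresentedGroup.mk rels (FreeGroup.mk L) = 1 :=
  PresentedGroup.one_of_mem ⟨L, hL, rfl⟩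

theorem zz_pow : zz ^ 3 = 1 := by
  have h := mk_rel [(.z, true), (.z, true), (.z, true)] (by decide)
  rw [pow_succ, pow_two]
  exact h

theorem zz_comm (x : Gen) : zz * PresentedGroup.of x = PresentedGroup.of x * zz := by
  cases x
  · have h := mk_rel [(.z, false), (.a, false), (.z, true), (.a, true)] (by decide)
    have h' : zz⁻¹ * (PresentedGroup.of Gen.a : PG)⁻¹ * zz * PresentedGroup.of Gen.a = 1 := h
    calc zz * PresentedGroup.of Gen.a
        = PresentedGroup.of Gen.a * zz * (zz⁻¹ * (PresentedGroup.of Gen.a : PG)⁻¹ * zz * PresentedGroup.of Gen.a) := by group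
      _ = _ := by rw [h', mul_one]
  · have h := mk_rel [(.z, false), (.b, false), (.z, true), (.b, true)] (by decide)
    have h' : zz⁻¹ * (PresentedGroup.of Gen.b : PG)⁻¹ * zz * PresentedGroup.of Gen.b = 1 := h
    calc zz * PresentedGroup.of Gen.b
        = PresentedGroup.of Gen.b * zz * (zz⁻¹ * (PresentedGroup.of Gen.b : PG)⁻¹ * zz * PresentedGroup.of Gen.b) := by group
      _ = _ := by rw [h', mul_one]
  · have h := mk_rel [(.z, false), (.t, false), (.z, true), (.t, true)] (by decide)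
    have h' : zz⁻¹ * (PresentedGroup.of Gen.t : PG)⁻¹ * zz * PresentedGroup.of Gen.t = 1 := h
    calc zz * PresentedGroup.of Gen.t
        = PresentedGroup.of Gen.t * zz * (zz⁻¹ * (PresentedGroup.of Gen.t : PG)⁻¹ * zz * PresentedGroup.of Gen.t) := by group
      _ = _ := by rw [h', mul_one]
  · rfl

theorem zz_central : zz ∈ Subgroup.center PG := by
  have h : (⊤ : Subgroup PG) ≤ Subgroup.centralizer {zz} := by
    rw [← PresentedGroup.closure_range_of, Subgroup.closure_le]
    rintro _ ⟨x, rfl⟩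
    rw [SetLike.mem_coe, Subgroup.mem_centralizer_iff]
    intro h hh
    rw [Set.mem_singleton_iff] at hh
    rw [hh]
    exact zz_comm x
  rw [Subgroup.mem_center_iff]
  intro g
  have := Subgroup.mem_centralizer_iff.mp (h (Subgroup.mem_top g)) zz rfl
  exact this.symm

theorem tau_z : table.tau 6 0 = 2 := by decide +kernel

theorem zz_ne_one : zz ≠ 1 := by
  obtain ⟨_, φ, hφ, _⟩ := main
  intro h
  have h1 : φ zz = 1 := by rw [h, map_one]
  have h2 : φ zz = Table.sigma hT 6 := hφ Gen.z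
  have h3 : (Table.sigma hT 6 ⟨0, hn⟩).val = table.tau 6 0 := Table.sigma_apply hT (by decide) _
  rw [← h2, h1, tau_z] at h3
  exact absurd h3 (by decide)

theorem orderOf_zz : orderOf zz = 3 := by
  have : Fact (Nat.Prime 3) := ⟨Nat.prime_three⟩
  exact orderOf_eq_prime zz_pow zz_ne_one

/-! ### the homomorphism onto `G₂(3)` -/

/-- the homomorphism onto `G₂(3)`, as permutations of the 728 points -/
noncomputable def Ψ : PG →* Equiv.Perm (Fin 728) := Classical.choose exists_hom

theorem Ψ_of (x : Gen) : Ψ (PresentedGroup.of x) = pgen x := (Classical.choose_spec exists_hom).1 x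

theorem P_le : P ≤ Ψ.range := (Classical.choose_spec exists_hom).2

theorem zz_mem_ker : zz ∈ Ψ.ker := by
  rw [MonoidHom.mem_ker]
  exact (Ψ_of .z).trans pgen_z

theorem card_facts : Nat.card Ψ.ker = 3 ∧ Nat.card Ψ.range = 4245696 ∧ Nat.card PG = 12737088 := by
  have h1 : Nat.card Ψ.ker * Nat.card Ψ.range = Nat.card PG := by
    rw [← Subgroup.index_ker]
    exact Subgroup.card_mul_index _
  have h2 : 3 ≤ Nat.card Ψ.ker := by
    have h : Nat.card (Subgroup.zpowers zz) = 3 := by rw [Nat.card_zpowers, orderOf_zz]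
    rw [← h]
    exact Subgroup.card_le_of_le (Subgroup.zpowers_le.mpr zz_mem_ker)
  have h3 : 4245696 ≤ Nat.card Ψ.range := by
    rw [← card_P]
    exact Subgroup.card_le_of_le P_le
  have h4 := card_le
  have h5 : 3 * Nat.card Ψ.range ≤ Nat.card Ψ.ker * Nat.card Ψ.range := Nat.mul_le_mul_right _ h2
  have h6 : Nat.card Ψ.range = 4245696 := by omega
  rw [h6] at h1
  have h7 : Nat.card Ψ.ker * 4245696 ≤ 3 * 4245696 := by rw [h1]; exact h4
  have h8 : Nat.card Ψ.ker ≤ 3 := Nat.le_of_mul_le_mul_right h7 (by norm_num)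
  have h9 : Nat.card Ψ.ker = 3 := le_antisymm h8 h2
  refine ⟨h9, h6, ?_⟩
  rw [← h1, h9]

theorem ker_eq : Ψ.ker = Subgroup.zpowers zz := by
  symm
  apply Subgroup.eq_of_le_of_card_ge (Subgroup.zpowers_le.mpr zz_mem_ker)
  rw [card_facts.1, Nat.card_zpowers, orderOf_zz]

theorem range_eq : Ψ.range = P := by
  symm
  apply Subgroup.eq_of_le_of_card_ge P_le
  rw [card_facts.2.1, card_P]

theorem card_eq : Nat.card PG = 12737088 := card_facts.2.2

/-- the covering map onto helper10's `G₂(3)` -/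
noncomputable def σ : PG →* ↥P := Ψ.codRestrict P (fun x => by rw [← range_eq]; exact ⟨x, rfl⟩)

theorem σ_surjective : Function.Surjective σ := by
  rintro ⟨y, hy⟩
  rw [← range_eq] at hy
  obtain ⟨x, rfl⟩ := hy
  exact ⟨x, rfl⟩

theorem ker_σ : σ.ker = Subgroup.zpowers zz := by
  rw [← ker_eq]
  exact MonoidHom.ker_codRestrict _ _ _

theorem card_ker_σ : Nat.card σ.ker = 3 := by
  rw [ker_σ, Nat.card_zpowers, orderOf_zz]

/-! ### the subgroup is the presented `L₃(3)` -/

theorem card_H : Nat.card H = 5616 := by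
  have h := H.index_mul_card
  rw [index_H, card_eq] at h
  omega

/-- the subgroup is the presented group `L₃(3)` -/
noncomputable def eH : PH ≃* ↥H := by
  have hr : ∀ x, ψ x ∈ H := fun x => by rw [← range_ψ]; exact ⟨x, rfl⟩
  let ψ' : PH →* ↥H := ψ.codRestrict H hr
  have hs : Function.Surjective ψ' := by
    rintro ⟨y, hy⟩
    rw [← range_ψ] at hy
    obtain ⟨x, rfl⟩ := hy
    exact ⟨x, rfl⟩
  exact MulEquiv.ofBijective ψ' (hs.bijective_of_nat_card_le (by
    rw [card_H]; exact Cfsg.Agent.Lib.Helper29.TitsSchurH.card_le))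

theorem trivMult_H : TrivMult ↥H := Cfsg.Agent.Lib.Helper29.TitsSchurH.trivMult.congr eH

theorem perfect_H : ⁅H, H⁆ = H := by
  have h1 : H = (⊤ : Subgroup PH).map ψ := by rw [← MonoidHom.range_eq_map, range_ψ]
  rw [h1, ← Subgroup.map_commutator, ← commutator_def, Cfsg.Agent.Lib.Helper29.TitsSchurH.perfect]

theorem prime_dvd_2268 {p : ℕ} (hp : p.Prime) (h : p ∣ 2268) : p = 2 ∨ p = 3 ∨ p = 7 := by
  have h' : p ∣ 2 ^ 2 * 3 ^ 4 * 7 := h
  rcases (Nat.Prime.dvd_mul hp).mp h' with h1 | h1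
  · rcases (Nat.Prime.dvd_mul hp).mp h1 with h2 | h2
    · left; exact (Nat.prime_dvd_prime_iff_eq hp Nat.prime_two).mp (hp.dvd_of_dvd_pow h2)
    · right; left; exact (Nat.prime_dvd_prime_iff_eq hp Nat.prime_three).mp (hp.dvd_of_dvd_pow h2)
  · right; right; exact (Nat.prime_dvd_prime_iff_eq hp (by norm_num)).mp h1

theorem hpaths2 : FoxG23CP2.data.paths = relWords.map (pathOf lw) := by decide +kernel
theorem hpaths3 : FoxG23CP3.data.paths = relWords.map (pathOf lw) := by decide +kernel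
theorem hpaths7 : FoxG23CP7.data.paths = relWords.map (pathOf lw) := by decide +kernel

/-- every finite stem extension of the presented group is an isomorphism -/
theorem trivMult : TrivMult PG := by
  apply trivMult_of_exp
  intro p hp Γ _ _ σ' hσ hexp
  obtain ⟨hidx, φ, hφ, f, hf, hfe, _⟩ := main
  obtain ⟨R⟩ := retraction_of_perfect σ' hσ.1 hσ.2.1 H perfect_H trivMult_H
  by_cases hdiv : p ∣ 2268
  · rcases prime_dvd_2268 hp hdiv with rfl | rfl | rfl
    · exact ker_eq_bot_of_fox rels relWords lw gi link.hrels hlw hgi H table hT hlwk φ hφ f hf hfe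
        FoxG23CP2.data rfl hDd hpaths2 FoxG23CP2Chk.hstatic FoxG23CP2Chk.hcyc σ' hσ hexp R
    · exact ker_eq_bot_of_fox rels relWords lw gi link.hrels hlw hgi H table hT hlwk φ hφ f hf hfe
        FoxG23CP3.data rfl hDd hpaths3 FoxG23CP3Chk.hstatic FoxG23CP3Chk.hcyc σ' hσ hexp R
    · exact ker_eq_bot_of_fox rels relWords lw gi link.hrels hlw hgi H table hT hlwk φ hφ f hf hfe
        FoxG23CP7.data rfl hDd hpaths7 FoxG23CP7Chk.hstatic FoxG23CP7Chk.hcyc σ' hσ hexp R
  · have hi : (H.comap σ').index = 2268 := by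
      rw [Subgroup.index_comap_of_surjective H hσ.1]; exact index_H
    have : (H.comap σ').FiniteIndex := ⟨by rw [hi]; norm_num⟩
    refine ker_eq_bot_of_transfer σ' hσ p hexp (H.comap σ') ?_ R.comm_inter
    rw [hi]
    exact ((Nat.Prime.coprime_iff_not_dvd hp).mpr hdiv).symm

end Cfsg.Agent.Lib.Helper29.G23CSchur
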