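import Cfsg.Agent.Lib.Helper29.G23CSchur2
import Cfsg.Agent.Lib.Helper13.SchurPSL2
import Cfsg.Agent.Lib.Helper27.Schur5

set_option autoImplicit false
set_option maxRecDepth 100000

/-!
# The Schur multiplier of `G₂(3)` is cyclic of order 3
-/

namespace Cfsg.Agent.Lib.Helper29.G23CSchur

open Cfsg.Agent.Lib.Helper28.SchurFox
open Cfsg.Agent.Lib.Helper29.TCG23CLink
open Cfsg.Agent.Lib.Helper29.G23CDef (Gen)
open Cfsg.Agent.Lib.Helper29.TitsSchurH (PH)
open Cfsg.Agent.Lib.Helper10.G23

universe u v w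

/-! ### general facts on stem extensions -/

theorem isStem_comp_equiv {Γ' : Type u} {Γ : Type v} {G : Type w} [Group Γ'] [Group Γ] [Group G]
    (e : Γ' ≃* Γ) (τ : Γ →* G) (hτ : Cfsg.IsStemExtension τ) :
    Cfsg.IsStemExtension (τ.comp e.toMonoidHom) := by
  have hker : ∀ x, x ∈ (τ.comp e.toMonoidHom).ker ↔ e x ∈ τ.ker := fun x => Iff.rfl
  refine ⟨hτ.1.comp e.surjective, ?_, ?_⟩
  · intro x hx
    have h1 := hτ.2.1 ((hker x).mp hx)
    rw [Subgroup.mem_center_iff] at h1 ⊢
    intro y
    apply e.injective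
    rw [map_mul, map_mul]
    exact h1 (e y)
  · intro x hx
    have h1 : e x ∈ commutator Γ := hτ.2.2 ((hker x).mp hx)
    have h2 : commutator Γ = (commutator Γ').map e.toMonoidHom := by
      rw [commutator_def, commutator_def, Subgroup.map_commutator, ← MonoidHom.range_eq_map,
        MonoidHom.range_eq_top.mpr e.surjective]
    rw [h2] at h1
    obtain ⟨y, hy, hyx⟩ := h1
    have : y = x := e.injective hyx
    rwa [← this]

theorem ker_comp_equiv {Γ' : Type u} {Γ : Type v} {G : Type w} [Group Γ'] [Group Γ] [Group G]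
    (e : Γ' ≃* Γ) (τ : Γ →* G) (h : (τ.comp e.toMonoidHom).ker = ⊥) : τ.ker = ⊥ := by
  rw [eq_bot_iff]
  intro x hx
  have h1 : e.symm x ∈ (τ.comp e.toMonoidHom).ker := by
    rw [MonoidHom.mem_ker, MonoidHom.comp_apply]
    show τ (e (e.symm x)) = 1
    rw [e.apply_symm_apply]
    exact hx
  rw [h, Subgroup.mem_bot] at h1
  rw [Subgroup.mem_bot]
  have := congrArg e h1
  rwa [e.apply_symm_apply, map_one] at this

/-- triviality of the multiplier moves along isomorphisms, between universes -/
theorem trivMult_of_equiv {G : Type u} {G' : Type v} [Group G] [Group G'] (e : G ≃* G')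
    (h : TrivMult G) : TrivMult G' := by
  intro Γ _ _ τ hτ
  obtain ⟨Y, iY, ⟨eY⟩⟩ := Cfsg.Agent.Lib.Helper27.Schur.exists_mulEquiv_of_finite.{u} Γ
  have hfin : Finite Y := Finite.of_equiv Γ eY.symm.toEquiv
  have h1 : Cfsg.IsStemExtension (e.symm.toMonoidHom.comp τ) :=
    Cfsg.Agent.Lib.Helper13.SchurSL2.isStem_equiv_comp e.symm τ hτ
  have h2 := isStem_comp_equiv eY _ h1
  have h3 := h Y _ h2
  have h4 := ker_comp_equiv eY _ h3
  rwa [Cfsg.Agent.Lib.Helper13.SchurSL2.ker_equiv_comp] at h4

/-! ### the cover is perfect -/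

theorem ab_rel {A : Type*} [CommGroup A] (f : PG →* A) (L : List (Gen × Bool)) (hL : L ∈ relWords) :
    (L.map (fun xb => cond xb.2 (f (PresentedGroup.of xb.1)) (f (PresentedGroup.of xb.1))⁻¹)).prod = 1 := by
  have h1 : f.comp (PresentedGroup.mk rels) = FreeGroup.lift (fun x => f (PresentedGroup.of x)) := by
    apply FreeGroup.ext_hom
    intro x
    rw [FreeGroup.lift_apply_of]
    rfl
  have h2 : f (PresentedGroup.mk rels (FreeGroup.mk L)) = 1 := by rw [mk_rel L hL, map_one]
  have h3 := DFunLike.congr_fun h1 (FreeGroup.mk L)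
  rw [MonoidHom.comp_apply, h2, FreeGroup.lift_mk] at h3
  exact h3.symm

theorem of_mem_H (x : Cfsg.Agent.Lib.Helper29.TitsHDef.Gen) : (PresentedGroup.of (up x) : PG) ∈ H := by
  rw [← range_ψ]
  exact ⟨PresentedGroup.of x, ψ_of x⟩

theorem H_le_commutator : H ≤ commutator PG := by
  rw [← perfect_H, commutator_def]
  exact Subgroup.commutator_mono le_top le_top

theorem perfect_PG : commutator PG = ⊤ := by
  set f : PG →* Abelianization PG := Abelianization.of with hf
  have hker : ∀ g : PG, f g = 1 → g ∈ commutator PG := by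
    intro g hg
    have : g ∈ f.ker := hg
    rwa [hf, Abelianization.ker_of] at this
  have hof : ∀ g : PG, g ∈ commutator PG → f g = 1 := by
    intro g hg
    have : g ∈ f.ker := by rw [hf, Abelianization.ker_of]; exact hg
    exact this
  have ha : f (PresentedGroup.of Gen.a) = 1 := hof _ (H_le_commutator (of_mem_H .a))
  have hb : f (PresentedGroup.of Gen.b) = 1 := hof _ (H_le_commutator (of_mem_H .b))
  -- `t² = 1`
  have r1 := ab_rel f [(.t, true), (.t, true)] (by decide)
  -- `(t a⁻¹ b a⁻¹ b)³ = 1`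
  have r2 := ab_rel f [(.t, true), (.a, false), (.b, true), (.a, false), (.b, true), (.t, true), (.a, false),
    (.b, true), (.a, false), (.b, true), (.t, true), (.a, false), (.b, true), (.a, false), (.b, true)] (by decide)
  -- `t k t k'⁻¹ z = 1`
  have r3 := ab_rel f [(.t, true), (.a, true), (.b, true), (.a, true), (.b, false), (.a, false), (.t, true),
    (.b, false), (.a, true), (.b, false), (.a, false), (.b, true), (.a, false), (.b, false), (.a, true),
    (.b, true), (.a, false), (.b, true), (.z, true)] (by decide)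
  simp only [List.map_cons, List.map_nil, List.prod_cons, List.prod_nil, cond_true, cond_false, ha, hb,
    inv_one, mul_one, one_mul] at r1 r2 r3
  have ht : f (PresentedGroup.of Gen.t) = 1 := by
    have h : f (PresentedGroup.of Gen.t) * (f (PresentedGroup.of Gen.t) * f (PresentedGroup.of Gen.t)) = 1 := r2
    rw [r1, mul_one] at h
    exact h
  have hz : f (PresentedGroup.of Gen.z) = 1 := by
    rw [ht] at r3
    simpa using r3
  rw [eq_top_iff, ← PresentedGroup.closure_range_of, Subgroup.closure_le]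
  rintro _ ⟨x, rfl⟩
  cases x
  · exact hker _ ha
  · exact hker _ hb
  · exact hker _ ht
  · exact hker _ hz

theorem isStem_σ : Cfsg.IsStemExtension σ := by
  refine ⟨σ_surjective, ?_, ?_⟩
  · rw [ker_σ, Subgroup.zpowers_le]
    exact zz_central
  · rw [perfect_PG]
    exact le_top

/-- the Schur multiplier of helper10's `G₂(3)` is cyclic of order 3 -/
theorem schur_P : Cfsg.HasCyclicSchurMultiplier ↥P 3 := by
  have hP : Finite ↥P := Finite.of_surjective σ σ_surjective
  have hcardz : Nat.card (Multiplicative (ZMod 3)) = 3 := by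
    rw [Nat.card_congr Multiplicative.toAdd, Nat.card_zmod]
  have : Fact (Nat.Prime 3) := ⟨Nat.prime_three⟩
  exact Cfsg.Agent.Lib.Helper13.SchurSL2.hasSchurMultiplier_of_stem_trivial σ isStem_σ
    (hasCyclic_of_trivMult trivMult) (mulEquivOfPrimeCardEq card_ker_σ hcardz)

/-- the Schur multiplier of any group isomorphic to helper10's `G₂(3)`, in any universe -/
theorem schur_of_equiv {Q : Type u} [Group Q] (e : ↥P ≃* Q) : Cfsg.HasCyclicSchurMultiplier Q 3 := by
  have hQ : Finite Q := Finite.of_surjective (e.toMonoidHom.comp σ) (e.surjective.comp σ_surjective)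
  -- the cover in the universe of `Q`
  let Γ := ULift.{u} PG
  let eΓ : Γ ≃* PG := MulEquiv.ulift
  have h1 : Cfsg.IsStemExtension (e.toMonoidHom.comp σ) :=
    Cfsg.Agent.Lib.Helper13.SchurSL2.isStem_equiv_comp e σ isStem_σ
  have h2 : Cfsg.IsStemExtension ((e.toMonoidHom.comp σ).comp eΓ.toMonoidHom) := isStem_comp_equiv eΓ _ h1
  have hΓ : Cfsg.HasCyclicSchurMultiplier Γ 1 :=
    hasCyclic_of_trivMult (trivMult_of_equiv eΓ.symm trivMult)
  have hcard : Nat.card ((e.toMonoidHom.comp σ).comp eΓ.toMonoidHom).ker = 3 := by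
    have h3 := Subgroup.card_mul_index ((e.toMonoidHom.comp σ).comp eΓ.toMonoidHom).ker
    rw [Subgroup.index_ker, MonoidHom.range_eq_top.mpr h2.1, Subgroup.card_top,
      ← Nat.card_congr e.toEquiv, card_P, Nat.card_congr eΓ.toEquiv, card_eq] at h3
    omega
  have hcardz : Nat.card (Multiplicative (ZMod 3)) = 3 := by
    rw [Nat.card_congr Multiplicative.toAdd, Nat.card_zmod]
  have : Fact (Nat.Prime 3) := ⟨Nat.prime_three⟩
  exact Cfsg.Agent.Lib.Helper13.SchurSL2.hasSchurMultiplier_of_stem_trivial _ h2 hΓ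
    (mulEquivOfPrimeCardEq hcard hcardz)

end Cfsg.Agent.Lib.Helper29.G23CSchur
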