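import Mathlib
import Cfsg.Agent.Lib.Helper27.GGDefs
import Cfsg.Agent.Lib.Helper6.BNRedB
import Cfsg.Agent.Lib.Helper7.BNCount
import Cfsg.Agent.Lib.Helper3.BNSimple
import Cfsg.Agent.Lib.Helper29.GGB5Core

/-!
S2318 leaf B7 (planner helper27), core part: the extremality argument, with the statements of the leaves
B1 (`HMult`), B4 (`HLower`) and B6 (`HW0`) as hypotheses.
-/

set_option autoImplicit false

namespace Cfsg.Agent.Lib.Helper29.GG

open Cfsg Cfsg.Agent.Lib.Helper3.BN Cfsg.Agent.Lib.Helper3.WordLen Cfsg.Agent.Lib.Helper6.BNSt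
open Cfsg.Agent.Lib.Helper6.CoxRed Cfsg.Agent.Lib.Helper27.GG
open scoped ComplexConjugate

variable {G : Type*} [Group G] [Finite G] {P : Cfsg.BNPair G} {U : Subgroup G} {q : ℕ}

/-- the conclusion of leaf B4 (`sph_lower`) as a predicate -/
def HLower (P : Cfsg.BNPair G) (q : ℕ) (c : G → ℂ) : Prop :=
  ∀ (n : G) (hn : n ∈ P.N), 1 ≤ (q : ℝ) ^ (len (Sbar P) (mkW P n hn)) * ‖c n‖

/-- the conclusion of leaf B6 (`len_w0_mul`) as a predicate -/
def HW0 (P : Cfsg.BNPair G) : Prop :=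
  ∀ w : W P, len (Sbar P) (w0 P * w) + len (Sbar P) w = len (Sbar P) (w0 P)

theorem hq_of_splitBN (R : SplitBN P U q) :
    ∀ s, ∀ hs : s ∈ P.S, Nat.card (C P (sb P s hs)) = q * Nat.card P.B := by
  intro s hs
  have h := hs
  rw [R.hS] at h
  obtain ⟨i, rfl⟩ := h
  exact R.hcardC i hs

/-- the real form of the normalisation `Σ c(g) c(g⁻¹) = |G| / |U|` -/
theorem sum_norm_sq_eq {U : Subgroup G} {c : G → ℂ}
    (hinv : ∀ g, c g⁻¹ = conj (c g))
    (hnorm : ∑ᶠ g : G, c g * c g⁻¹ = (Nat.card G : ℂ) / (Nat.card U : ℂ)) :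
    ∑ᶠ g : G, ‖c g‖ ^ 2 = (Nat.card G : ℝ) / (Nat.card U : ℝ) := by
  classical
  let _ : Fintype G := Fintype.ofFinite G
  rw [finsum_eq_sum_of_fintype] at hnorm ⊢
  apply Complex.ofReal_injective
  rw [Complex.ofReal_sum, Complex.ofReal_div, Complex.ofReal_natCast, Complex.ofReal_natCast, ← hnorm]
  refine Finset.sum_congr rfl fun g _ => ?_
  rw [hinv g, Complex.mul_conj, Complex.normSq_eq_norm_sq]

theorem sph_extremal_core (R : SplitBN P U q) {c : G → ℂ} (hc : IsSph U c) (hH : HMult P c)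
    (hL : HLower P q c) (hW : HW0 P)
    (hnorm : ∑ᶠ g : G, c g * c g⁻¹ = (Nat.card G : ℂ) / (Nat.card U : ℂ)) (i : R.ι) :
    (q : ℝ) * ‖c (R.sOf i)‖ = 1 := by
  classical
  let _ : Fintype (W P) := Fintype.ofFinite _
  have hq := hq_of_splitBN R
  have hqpos : (0 : ℝ) < (q : ℝ) := by
    have := R.hq
    positivity
  have hBpos : (0 : ℝ) < (Nat.card P.B : ℝ) := by
    have : 0 < Nat.card P.B := Nat.card_pos
    exact_mod_cast this
  have hUpos : (0 : ℝ) < (Nat.card U : ℝ) := by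
    have : 0 < Nat.card U := Nat.card_pos
    exact_mod_cast this
  -- the real normalisation and the cell decomposition
  have hS := sum_norm_sq_eq (U := U) hc.inv hnorm
  rw [sph_sum_cells_core R hc hH] at hS
  -- notation
  set L := len (Sbar P) (w0 P) with hLdef
  set t : W P → ℝ := fun w => (q : ℝ) ^ (len (Sbar P) w) * ‖c (repW P w)‖ with htdef
  have ht1 : ∀ w, 1 ≤ t w := by
    intro w
    have := hL (repW P w) (repW_mem P w)
    rw [mkW_repW] at this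
    exact this
  -- `q^L * term_w = |B| q^{ℓ(w₀ w)} t_w²`
  have hterm : ∀ w : W P, (q : ℝ) ^ L * ((Nat.card (C P w) : ℝ) * ‖c (repW P w)‖ ^ 2)
      = (Nat.card P.B : ℝ) * (q : ℝ) ^ (len (Sbar P) (w0 P * w)) * t w ^ 2 := by
    intro w
    have h1 : Nat.card (C P w) = q ^ (len (Sbar P) w) * Nat.card P.B :=
      Cfsg.Agent.Lib.Helper7.card_C P q hq _ w rfl
    have h2 : (q : ℝ) ^ L = (q : ℝ) ^ (len (Sbar P) (w0 P * w)) * (q : ℝ) ^ (len (Sbar P) w) := by
      rw [← pow_add, hW w]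
    rw [h1, h2, htdef]
    push_cast
    ring
  -- `q^L * (|G|/|U|) = |G| = |B| Σ q^{ℓ(w₀ w)}`
  have hG : (Nat.card G : ℝ) = (Nat.card P.B : ℝ) * ∑ w : W P, (q : ℝ) ^ (len (Sbar P) (w0 P * w)) := by
    have h1 := Cfsg.Agent.Lib.Helper7.card_eq_sum_pow P q hq
    have h2 : ∑ w : W P, (q : ℝ) ^ (len (Sbar P) (w0 P * w)) = ∑ w : W P, (q : ℝ) ^ (len (Sbar P) w) :=
      Fintype.sum_equiv (Equiv.mulLeft (w0 P)) _ _ (fun w => rfl)
    rw [h2, h1]
    push_cast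
    rfl
  have hUcard : (Nat.card U : ℝ) = (q : ℝ) ^ L := by
    rw [R.hcardU]
    push_cast
    rfl
  have hmain : ∑ w : W P, (Nat.card P.B : ℝ) * (q : ℝ) ^ (len (Sbar P) (w0 P * w)) * (t w ^ 2 - 1) = 0 := by
    have h1 : (q : ℝ) ^ L * ∑ w : W P, (Nat.card (C P w) : ℝ) * ‖c (repW P w)‖ ^ 2
        = (q : ℝ) ^ L * ((Nat.card G : ℝ) / (Nat.card U : ℝ)) := by rw [hS]
    rw [Finset.mul_sum, Finset.sum_congr rfl fun w _ => hterm w] at h1
    have h2 : (q : ℝ) ^ L * ((Nat.card G : ℝ) / (Nat.card U : ℝ)) = (Nat.card G : ℝ) := by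
      rw [hUcard]
      field_simp
    rw [h2, hG, Finset.mul_sum] at h1
    have h3 : ∑ w : W P, (Nat.card P.B : ℝ) * (q : ℝ) ^ (len (Sbar P) (w0 P * w)) * (t w ^ 2 - 1)
        = ∑ w : W P, (Nat.card P.B : ℝ) * (q : ℝ) ^ (len (Sbar P) (w0 P * w)) * t w ^ 2
          - ∑ w : W P, (Nat.card P.B : ℝ) * (q : ℝ) ^ (len (Sbar P) (w0 P * w)) := by
      rw [← Finset.sum_sub_distrib]
      refine Finset.sum_congr rfl fun w _ => ?_
      ring
    rw [h3, h1, sub_self]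
  have hnonneg : ∀ w ∈ (Finset.univ : Finset (W P)),
      0 ≤ (Nat.card P.B : ℝ) * (q : ℝ) ^ (len (Sbar P) (w0 P * w)) * (t w ^ 2 - 1) := by
    intro w _
    have h1 := ht1 w
    have h2 : 0 ≤ t w ^ 2 - 1 := by nlinarith
    positivity
  have hzero := (Finset.sum_eq_zero_iff_of_nonneg hnonneg).mp hmain
  -- evaluate at `w = sb s_i`
  have hs : R.sOf i ∈ P.S := by
    rw [R.hS]
    exact ⟨i, rfl⟩
  have hw := hzero (sb P (R.sOf i) hs) (Finset.mem_univ _)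
  have hcoef : (Nat.card P.B : ℝ) * (q : ℝ) ^ (len (Sbar P) (w0 P * sb P (R.sOf i) hs)) ≠ 0 := by
    positivity
  have ht2 : t (sb P (R.sOf i) hs) ^ 2 - 1 = 0 := by
    rcases mul_eq_zero.mp hw with h | h
    · exact absurd h hcoef
    · exact h
  have ht3 : t (sb P (R.sOf i) hs) = 1 := by
    have h1 := ht1 (sb P (R.sOf i) hs)
    nlinarith
  have hlen : len (Sbar P) (sb P (R.sOf i) hs) = 1 := len_sb P hs
  have hcell : ‖c (R.sOf i)‖ = ‖c (repW P (sb P (R.sOf i) hs))‖ :=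
    sph_norm_const_on_cell R hc hH _ (self_mem_C P (P.subset hs))
  rw [htdef] at ht3
  simp only [hlen, pow_one] at ht3
  rw [hcell]
  exact ht3

end Cfsg.Agent.Lib.Helper29.GG
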