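import Mathlib
import Cfsg.Agent.Lib.Helper27.GGDefs
import Cfsg.Agent.Lib.Helper27.GGRankOne
import Cfsg.Agent.Lib.Helper20.GGB4
import Cfsg.Agent.Lib.Helper14.GGB6
import Cfsg.Agent.Lib.Helper29.GGB5
import Cfsg.Agent.Lib.Helper29.GGB7Core

/-!
S2318 leaf **B7** `sph_extremal` (planner helper27): exact signature of notes/S2318_leaves.lean.
Uses B1 (helper27 `sph_H`), B4 (helper20 `sph_lower`), B6 (helper14 `len_w0_mul`) and my B5 core.
-/

set_option autoImplicit false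

namespace Cfsg.Agent.Lib.Helper29.GG

open Cfsg Cfsg.Agent.Lib.Helper3.BN Cfsg.Agent.Lib.Helper3.WordLen Cfsg.Agent.Lib.Helper6.BNSt
open Cfsg.Agent.Lib.Helper6.CoxRed Cfsg.Agent.Lib.Helper27.GG
open scoped ComplexConjugate

variable {G : Type*} [Group G] [Finite G] {P : Cfsg.BNPair G} {U : Subgroup G} {q : ℕ}

/-- **B7** (extremality). `|G|/|U| = Σ_g ‖c g‖² = Σ_w q^{ℓ w} |B| ‖c(n_w)‖² ≥ |B| Σ_w q^{-ℓ w} =
|B| q^{-ℓ w₀} Σ_w q^{ℓ w} = |G|/|U|`, so every term is extremal; take `w = sb s`. -/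
theorem sph_extremal (R : SplitBN P U q) {c : G → ℂ} (hc : IsSph U c)
    (hnorm : ∑ᶠ g : G, c g * c g⁻¹ = (Nat.card G : ℂ) / (Nat.card U : ℂ)) (i : R.ι) :
    (q : ℝ) * ‖c (R.sOf i)‖ = 1 :=
  sph_extremal_core R hc (hMult_of_isSph R hc)
    (fun n hn => Cfsg.Agent.Lib.Helper20.GG.sph_lower R hc n hn)
    (fun w => Cfsg.Agent.Lib.Helper14.GG.len_w0_mul P w) hnorm i

end Cfsg.Agent.Lib.Helper29.GG
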