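/-
helper29: S4385 market "GLAUB2" (`notes/S4385_leaves.lean`, planner helper18), leaf DL2 = port of SIMS-L2
(helper23's `SIMSL2.exists_lam`) from `TSData` to `DData`: the parameter `l` (least index with `x 0`, `x l` not
commuting) exists, `1 ≤ l ≤ t`, and `x i` commutes with `x (i+k)` for `k < l`.
-/
import Mathlib
import Cfsg.Agent.Lib.Helper18.Glaub2Defs
import Cfsg.Agent.Lib.Helper23.SIMSAux
import Cfsg.Agent.Lib.Helper23.SIMSL2

set_option autoImplicit false

namespace Cfsg.Agent.Lib.Helper29.GLAUB2DL2

open Cfsg Cfsg.Agent.Lib.Helper18.Sims3 Cfsg.Agent.Lib.Helper18.Glaub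
open Cfsg.Agent.Lib.Helper23.SIMSAux

variable {G : Type*} [Group G]

/-- LEAF DL2 (port of SIMS-L2). -/
theorem exists_lam_d [Finite G] {g : G} {x : ℕ → G} {t : ℕ} (h : DData g x t) (h1 : 1 ≤ t) :
    ∃ l, 1 ≤ l ∧ l ≤ t ∧ CommLt x l ∧ ¬ Commute (x 0) (x l) := by
  classical
  -- the generators are involutions
  have hsq : ∀ i, x i * x i = 1 := by
    intro i
    have hc := h.pdata.card i i le_rfl (by omega)
    have hzp : Hx x i i = Subgroup.zpowers (x i) := by
      unfold Hx
      rw [Set.Icc_self, Set.image_singleton, Subgroup.zpowers_eq_closure]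
    rw [hzp, Nat.card_zpowers] at hc
    have : i - i + 1 = 1 := by omega
    rw [this, pow_one] at hc
    rw [← pow_two, ← hc]
    exact pow_orderOf_eq_one (x i)
  -- some `x l`, `1 ≤ l ≤ t`, does not commute with `x 0`
  have hex : ∃ l, ¬ Commute (x 0) (x l) ∧ l ≤ t := by
    by_contra hcon
    have hcon' : ∀ l, l ≤ t → Commute (x 0) (x l) := by
      intro l hl
      by_contra hc
      exact hcon ⟨l, hc, hl⟩
    apply h.notTwo
    unfold Hx
    apply Cfsg.Agent.Lib.Helper23.SIMSL2.isPGroup_two_closure
    · rintro _ ⟨a, ⟨-, ha⟩, rfl⟩ _ ⟨b, ⟨-, hb⟩, rfl⟩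
      rcases le_total a b with hab | hab
      · have := commute_shift h.pdata.shift a 0 (b - a) (hcon' (b - a) (by omega))
        have e : a + (b - a) = b := by omega
        rw [add_zero, e] at this
        exact this
      · have := commute_shift h.pdata.shift b 0 (a - b) (hcon' (a - b) (by omega))
        have e : b + (a - b) = a := by omega
        rw [add_zero, e] at this
        exact this.symm
    · rintro _ ⟨a, -, rfl⟩
      exact hsq a
  have hex' : ∃ l, ¬ Commute (x 0) (x l) := ⟨hex.choose, hex.choose_spec.1⟩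
  refine ⟨Nat.find hex', ?_, ?_, ?_, Nat.find_spec hex'⟩
  · by_contra hlt
    have h0 : Nat.find hex' = 0 := by omega
    have := Nat.find_spec hex'
    rw [h0] at this
    exact this (Commute.refl _)
  · obtain ⟨l, hl, hln⟩ := hex
    exact le_trans (Nat.find_min' hex' hl) hln
  · intro i k hk
    have hck : Commute (x 0) (x k) := by
      by_contra hnc
      exact absurd (Nat.find_min' hex' hnc) (by omega)
    have := commute_shift h.pdata.shift i 0 k hck
    rwa [add_zero] at this

end Cfsg.Agent.Lib.Helper29.GLAUB2DL2
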