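import Cfsg.Agent.Lib.Helper1.HB10

/-!
helper29: a relative, "acts commutatively" form of the quadratic case of Hall--Higman Theorem B.
-/

set_option autoImplicit false

namespace Cfsg.Agent.Lib.Helper29.HHDer

open scoped TensorProduct
open Module Cfsg.Agent.Lib.Helper1 Cfsg.Agent.Lib.Helper1.HB

theorem conj_pow_mem {G : Type*} [Group G] (Q : Subgroup G) (x : G)
    (h : ∀ f ∈ Q, x * f * x⁻¹ ∈ Q) : ∀ k : ℕ, ∀ f ∈ Q, x ^ k * f * (x ^ k)⁻¹ ∈ Q := by
  intro k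
  induction k with
  | zero => intro f hf; simpa using hf
  | succ k ih =>
    intro f hf
    have h1 := h _ (ih f hf)
    have e : x ^ (k + 1) * f * (x ^ (k + 1))⁻¹ = x * (x ^ k * f * (x ^ k)⁻¹) * x⁻¹ := by
      rw [pow_succ']; group
    rw [e]; exact h1

theorem mem_normalizer_of_conj {G : Type*} [Group G] (Q : Subgroup G) (x : G) (n : ℕ) (hn : 0 < n)
    (hx : x ^ n = 1) (h : ∀ f ∈ Q, x * f * x⁻¹ ∈ Q) : x ∈ Subgroup.normalizer (Q : Set G) := by
  rw [Subgroup.mem_normalizer_iff]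
  intro g
  refine ⟨h g, fun hg => ?_⟩
  have h1 := conj_pow_mem Q x h (n - 1) _ hg
  have hinv : x ^ (n - 1) = x⁻¹ := by
    apply eq_inv_of_mul_eq_one_left
    rw [← pow_succ, Nat.sub_add_cancel hn, hx]
  rw [hinv] at h1
  have e : x⁻¹ * (x * g * x⁻¹) * x⁻¹⁻¹ = g := by group
  rwa [e] at h1

set_option maxHeartbeats 1600000 in
/-- If `x` of order `p` acts quadratically on an invariant subspace `U` and does not centralize (on `U`)
the `x`-invariant `q`-group `Q`, then `p = 3`, `q = 2` and `Q` does not act commutatively on `U`. -/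
theorem quad_core_act {F : Type*} [Field F] {p q : ℕ} [Fact p.Prime] [Fact q.Prime] [CharP F p]
    (hpq : p ≠ q) (hp2 : p ≠ 2) {G : Type*} [Group G] [Finite G] {W : Type*} [AddCommGroup W]
    [Module F W] [Finite W] (ρ : Representation F G W) (U : Submodule F W) (Q : Subgroup G) (x : G)
    (hQ : IsPGroup q Q) (hxQ : ∀ f ∈ Q, x * f * x⁻¹ ∈ Q) (hx : x ^ p = 1)
    (hQU : ∀ f ∈ Q, ∀ u ∈ U, ρ f u ∈ U) (hxU : ∀ u ∈ U, ρ x u ∈ U)
    (hact : ∃ f ∈ Q, ∃ u ∈ U, ρ (f * x * f⁻¹ * x⁻¹) u ≠ u)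
    (hquad : ∀ u ∈ U, (ρ x - 1) ((ρ x - 1) u) = 0) :
    p = 3 ∧ q = 2 ∧ ∃ f ∈ Q, ∃ f' ∈ Q, ∃ u ∈ U, ρ (f * f') u ≠ ρ (f' * f) u := by
  classical
  have hp : p.Prime := Fact.out
  have hq : q.Prime := Fact.out
  have : Module.Finite F W := Module.Finite.of_finite
  set M : Subgroup G := stabSub ρ U with hM
  have hQM : Q ≤ M := fun f hf => hQU f hf
  have hxM : x ∈ M := hxU
  set ρ₀ : Representation F M W := ρ.comp M.subtype with hρ₀
  have hinv : ∀ g : M, U ≤ U.comap (ρ₀ g) := fun g u hu => g.2 u hu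
  set ρ₁ : Representation F M U := Representation.subrepresentation ρ₀ U hinv with hρ₁
  have hρ₁apply : ∀ (g : M) (u : U), ((ρ₁ g u : U) : W) = ρ (g : G) (u : W) := fun g u => rfl
  set ψ : M →* (Module.End F U)ˣ := MonoidHom.toHomUnits ρ₁ with hψ
  have hψc : ∀ g : M, ((ψ g : (Module.End F U)ˣ) : Module.End F U) = ρ₁ g := fun g => rfl
  have : Finite (Module.End F U) := Finite.of_injective (fun e : Module.End F U => (e : U → U))
    DFunLike.coe_injective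
  let K := AlgebraicClosure F
  let ρ' : Representation K (Module.End F U)ˣ (K ⊗[F] U) :=
    (MonoidHomClass.toMonoidHom (Module.End.baseChangeHom F K U)).comp (Units.coeHom (Module.End F U))
  have hρ' : ∀ g : (Module.End F U)ˣ, ρ' g = Module.End.baseChangeHom F K U (g : Module.End F U) :=
    fun g => rfl
  have hinj := baseChangeHom_injective (F := F) K (V := U)
  set Q' : Subgroup (Module.End F U)ˣ := (Q.subgroupOf M).map ψ with hQ'
  set x' : (Module.End F U)ˣ := ψ ⟨x, hxM⟩ with hx'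
  have hQ'p : IsPGroup q Q' := (hQ.comap_subtype).map ψ
  have hx'p : x' ^ p ^ (0 + 1) = 1 := by
    rw [zero_add, pow_one, hx', ← map_pow]
    have : (⟨x, hxM⟩ : M) ^ p = 1 := Subtype.ext (by simpa using hx)
    rw [this, map_one]
  have hx'Q : x' ∈ Subgroup.normalizer (Q' : Set (Module.End F U)ˣ) := by
    apply mem_normalizer_of_conj Q' x' p hp.pos (by simpa using hx'p)
    rintro _ ⟨f, hf, rfl⟩
    refine ⟨⟨x, hxM⟩ * f * ⟨x, hxM⟩⁻¹, ?_, by rw [map_mul, map_mul, map_inv]⟩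
    have hf' : f ∈ Q.subgroupOf M := hf
    rw [Subgroup.mem_subgroupOf] at hf'
    show ⟨x, hxM⟩ * f * ⟨x, hxM⟩⁻¹ ∈ Q.subgroupOf M
    rw [Subgroup.mem_subgroupOf]
    exact hxQ _ hf'
  obtain ⟨f, hf, u, hu, hfu⟩ := hact
  have hact' : ∃ f' ∈ Q', ∃ u' ∈ (⊤ : Submodule K (K ⊗[F] U)),
      ρ' (f' * x' ^ p ^ 0 * f'⁻¹ * (x' ^ p ^ 0)⁻¹) u' ≠ u' := by
    refine ⟨ψ ⟨f, hQM hf⟩, ⟨⟨f, hQM hf⟩, Subgroup.mem_subgroupOf.mpr hf, rfl⟩, ?_⟩
    by_contra hall
    push Not at hall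
    apply hfu
    have h1 : ρ' (ψ ⟨f, hQM hf⟩ * x' ^ p ^ 0 * (ψ ⟨f, hQM hf⟩)⁻¹ * (x' ^ p ^ 0)⁻¹) = 1 :=
      LinearMap.ext (fun u => hall u Submodule.mem_top)
    rw [pow_zero, pow_one, hx', ← map_inv, ← map_inv, ← map_mul, ← map_mul, ← map_mul, hρ', hψc] at h1
    have h2 : ρ₁ (⟨f, hQM hf⟩ * ⟨x, hxM⟩ * ⟨f, hQM hf⟩⁻¹ * ⟨x, hxM⟩⁻¹) = 1 :=
      hinj (by rw [h1, map_one])
    have h3 := LinearMap.congr_fun h2 ⟨u, hu⟩
    have h4 := congrArg Subtype.val h3
    rw [hρ₁apply] at h4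
    simpa using h4
  have hsq : (ρ' x' - 1) ^ 2 = 0 := by
    rw [hρ', hx', hψc]
    have h1 : (ρ₁ ⟨x, hxM⟩ - 1) ^ 2 = 0 := by
      apply LinearMap.ext
      intro u
      apply Subtype.ext
      rw [pow_two]
      have := hquad u u.2
      exact this
    have h2 : (Module.End.baseChangeHom F K U (ρ₁ ⟨x, hxM⟩) - 1) ^ 2 =
        Module.End.baseChangeHom F K U ((ρ₁ ⟨x, hxM⟩ - 1) ^ 2) := by
      rw [map_pow, map_sub, map_one]
    rw [h2, h1, map_zero]
  obtain ⟨r, hr2, hr⟩ := exists_nilIdx (ρ' x' - 1) ⊤ 2 (fun u _ => by rw [hsq]; rfl)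
  have hres := core (K := K) (p := p) (q := q) hpq _ (Module.End F U)ˣ (K ⊗[F] U) ρ' ⊤ Q' x' 0 r
    hQ'p hx'Q hx'p (fun _ _ _ _ => Submodule.mem_top) (fun _ _ => Submodule.mem_top) hact' rfl hr
  have hp3 : 3 ≤ p := by
    have := hp.two_le
    omega
  rcases hres with h | ⟨hQnc, n₀, m, h1, h2, h3, h4, h5⟩
  · exfalso
    rw [zero_add, pow_one] at h
    omega
  · have hn₀ : n₀ = 1 := by omega
    subst hn₀
    rw [pow_one] at h4 h5
    simp only [zero_add, Nat.sub_self, pow_zero, one_mul] at h5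
    have hp3' : p = 3 := by omega
    subst hp3'
    have hq2 : q = 2 := by
      have h6 : q ∣ 2 := by
        have : q ∣ q ^ m := dvd_pow_self q (by omega)
        rw [← h4] at this
        simpa using this
      exact (Nat.prime_dvd_prime_iff_eq hq Nat.prime_two).mp h6
    refine ⟨rfl, hq2, ?_⟩
    by_contra hcomm
    push Not at hcomm
    apply hQnc
    constructor
    constructor
    rintro ⟨_, ⟨a, ha, rfl⟩⟩ ⟨_, ⟨b, hb, rfl⟩⟩
    apply Subtype.ext
    apply Units.ext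
    show ((ψ a * ψ b : (Module.End F U)ˣ) : Module.End F U) = ((ψ b * ψ a : (Module.End F U)ˣ) : Module.End F U)
    rw [← map_mul, ← map_mul, hψc, hψc]
    apply LinearMap.ext
    intro u
    apply Subtype.ext
    rw [hρ₁apply, hρ₁apply]
    exact hcomm _ (Subgroup.mem_subgroupOf.mp ha) _ (Subgroup.mem_subgroupOf.mp hb) u u.2

end Cfsg.Agent.Lib.Helper29.HHDer
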