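import Mathlib

/-!
helper29: a minimal invariant `2`-subgroup not centralized by a central element `a` of order `3`
of the acting group `N`.
-/

set_option autoImplicit false

namespace Cfsg.Agent.Lib.Helper29.HHDer

variable {Γ : Type*} [Group Γ]

theorem conj_eq_of_comm {y a : Γ} (h : y * a = a * y) : a * y * a⁻¹ = y := by
  rw [← h]; group

theorem conj_inv_eq_of_comm {y a : Γ} (h : y * a = a * y) : a⁻¹ * y * a = y := by
  rw [mul_assoc, h]; group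

theorem conj_comm_of_commute {n a : Γ} (h : n * a = a * n) (r : Γ) :
    n * (r * a * r⁻¹ * a⁻¹) * n⁻¹ = (n * r * n⁻¹) * a * (n * r * n⁻¹)⁻¹ * a⁻¹ := by
  have hna : n * a * n⁻¹ = a := by rw [h]; group
  calc n * (r * a * r⁻¹ * a⁻¹) * n⁻¹
      = (n * r * n⁻¹) * (n * a * n⁻¹) * (n * r * n⁻¹)⁻¹ * (n * a * n⁻¹)⁻¹ := by group
    _ = (n * r * n⁻¹) * a * (n * r * n⁻¹)⁻¹ * a⁻¹ := by rw [hna]

/-- the fixed points of `a` on `R`. -/
def Zs (R : Subgroup Γ) (a : Γ) : Subgroup Γ := R ⊓ Subgroup.centralizer {a}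

theorem mem_Zs {R : Subgroup Γ} {a z : Γ} : z ∈ Zs R a ↔ z ∈ R ∧ z * a = a * z := by
  unfold Zs
  rw [Subgroup.mem_inf, Subgroup.mem_centralizer_singleton_iff]

theorem Zs_le (R : Subgroup Γ) (a : Γ) : Zs R a ≤ R := inf_le_left

/-- the data of a minimal configuration. -/
structure MinData (N : Subgroup Γ) (a : Γ) (R : Subgroup Γ) : Prop where
  haN : a ∈ N
  hcen : ∀ n ∈ N, n * a = a * n
  ha3 : a ^ 3 = 1
  hR2 : IsPGroup 2 R
  hinv : ∀ n ∈ N, ∀ r ∈ R, n * r * n⁻¹ ∈ R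
  hnc : ∃ r ∈ R, r * a ≠ a * r
  hmin : ∀ R' : Subgroup Γ, R' ≤ R → R' ≠ R → (∀ n ∈ N, ∀ r ∈ R', n * r * n⁻¹ ∈ R') →
    ∀ r ∈ R', r * a = a * r

theorem exists_minData [Finite Γ] (N : Subgroup Γ) (a : Γ) (haN : a ∈ N)
    (hcen : ∀ n ∈ N, n * a = a * n) (ha3 : a ^ 3 = 1) (Q : Subgroup Γ) (hQ2 : IsPGroup 2 Q)
    (hinv : ∀ n ∈ N, ∀ r ∈ Q, n * r * n⁻¹ ∈ Q) (hnc : ∃ r ∈ Q, r * a ≠ a * r) :
    ∃ R : Subgroup Γ, R ≤ Q ∧ MinData N a R := by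
  classical
  let 𝒮 : Set (Subgroup Γ) := {R | R ≤ Q ∧ (∀ n ∈ N, ∀ r ∈ R, n * r * n⁻¹ ∈ R) ∧
    ∃ r ∈ R, r * a ≠ a * r}
  have h𝒮 : 𝒮.Nonempty := ⟨Q, le_rfl, hinv, hnc⟩
  obtain ⟨R, ⟨hRQ, hRinv, hRnc⟩, hRmin⟩ := wellFounded_lt.has_min 𝒮 h𝒮
  refine ⟨R, hRQ, haN, hcen, ha3, hQ2.to_le hRQ, hRinv, hRnc, ?_⟩
  intro R' hle hne hinv' r hr
  by_contra hcon
  exact hRmin R' ⟨hle.trans hRQ, hinv', r, hr, hcon⟩ (lt_of_le_of_ne hle hne)

section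

variable {N : Subgroup Γ} {a : Γ} {R : Subgroup Γ}

theorem MinData.conj_a_mem (D : MinData N a R) {r : Γ} (hr : r ∈ R) : a * r * a⁻¹ ∈ R :=
  D.hinv a D.haN r hr

theorem MinData.conj_a_inv_mem (D : MinData N a R) {r : Γ} (hr : r ∈ R) : a⁻¹ * r * a ∈ R := by
  have := D.hinv a⁻¹ (N.inv_mem D.haN) r hr
  rwa [inv_inv] at this

theorem MinData.comm_mem (D : MinData N a R) {r : Γ} (hr : r ∈ R) : r * a * r⁻¹ * a⁻¹ ∈ R := by
  have h1 : r * a * r⁻¹ * a⁻¹ = r * (a * r⁻¹ * a⁻¹) := by group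
  rw [h1]
  exact R.mul_mem hr (D.conj_a_mem (R.inv_mem hr))

theorem MinData.le_Zs (D : MinData N a R) {R' : Subgroup Γ} (hle : R' ≤ R) (hne : R' ≠ R)
    (hinv : ∀ n ∈ N, ∀ r ∈ R', n * r * n⁻¹ ∈ R') : R' ≤ Zs R a := fun r hr =>
  mem_Zs.mpr ⟨hle hr, D.hmin R' hle hne hinv r hr⟩

theorem MinData.Zs_inv (D : MinData N a R) : ∀ n ∈ N, ∀ z ∈ Zs R a, n * z * n⁻¹ ∈ Zs R a := by
  intro n hn z hz
  rw [mem_Zs] at hz ⊢
  refine ⟨D.hinv n hn z hz.1, ?_⟩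
  have h1 := D.hcen n hn
  have h2 : n⁻¹ * a = a * n⁻¹ := by
    have : n⁻¹ * (n * a) * n⁻¹ = n⁻¹ * (a * n) * n⁻¹ := by rw [h1]
    calc n⁻¹ * a = n⁻¹ * (a * n) * n⁻¹ := by group
      _ = n⁻¹ * (n * a) * n⁻¹ := by rw [h1]
      _ = a * n⁻¹ := by group
  calc n * z * n⁻¹ * a = n * z * (n⁻¹ * a) := by group
    _ = n * (z * a) * n⁻¹ := by rw [h2]; group
    _ = n * a * z * n⁻¹ := by rw [hz.2]; group
    _ = a * (n * z * n⁻¹) := by rw [h1]; group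

theorem MinData.Zs_ne (D : MinData N a R) : Zs R a ≠ R := by
  intro h
  obtain ⟨r, hr, hne⟩ := D.hnc
  rw [← h] at hr
  exact hne (mem_Zs.mp hr).2

theorem MinData.exists_not_mem_Zs (D : MinData N a R) : ∃ r ∈ R, r ∉ Zs R a := by
  obtain ⟨r, hr, hne⟩ := D.hnc
  exact ⟨r, hr, fun h => hne (mem_Zs.mp h).2⟩

/-- `R = [R, a]`. -/
theorem MinData.gen (D : MinData N a R) (X : Subgroup Γ)
    (hX : ∀ r ∈ R, r * a * r⁻¹ * a⁻¹ ∈ X) : R ≤ X := by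
  set S : Set Γ := {c | ∃ r ∈ R, c = r * a * r⁻¹ * a⁻¹} with hS
  set C : Subgroup Γ := Subgroup.closure S with hC
  have hCR : C ≤ R := by
    rw [hC, Subgroup.closure_le]
    rintro c ⟨r, hr, rfl⟩
    exact D.comm_mem hr
  have hCX : C ≤ X := by
    rw [hC, Subgroup.closure_le]
    rintro c ⟨r, hr, rfl⟩
    exact hX r hr
  have hCinv : ∀ n ∈ N, ∀ c ∈ C, n * c * n⁻¹ ∈ C := by
    intro n hn
    have h1 : C ≤ C.comap (MulAut.conj n).toMonoidHom := by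
      rw [hC, Subgroup.closure_le]
      rintro c ⟨r, hr, rfl⟩
      show (MulAut.conj n) (r * a * r⁻¹ * a⁻¹) ∈ Subgroup.closure S
      apply Subgroup.subset_closure
      refine ⟨n * r * n⁻¹, D.hinv n hn r hr, ?_⟩
      rw [MulAut.conj_apply]
      exact conj_comm_of_commute (D.hcen n hn) r
    intro c hc
    have := h1 hc
    rwa [Subgroup.mem_comap, MulEquiv.coe_toMonoidHom, MulAut.conj_apply] at this
  by_cases hCeq : C = R
  · rw [← hCeq]; exact hCX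
  · exfalso
    have hcent := D.hmin C hCR hCeq hCinv
    obtain ⟨r, hr, hne⟩ := D.hnc
    apply hne
    set c := r * a * r⁻¹ * a⁻¹ with hc
    have hcC : c ∈ C := Subgroup.subset_closure ⟨r, hr, rfl⟩
    have hca : c * a = a * c := hcent c hcC
    have hcar : c * a = r * a * r⁻¹ := by rw [hc]; group
    have h3 : (c * a) ^ 3 = 1 := by
      rw [hcar]
      rw [conj_pow, D.ha3]; group
    have h4 : c ^ 3 = 1 := by
      have : (c * a) ^ 3 = c ^ 3 * a ^ 3 := (Commute.mul_pow hca 3)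
      rw [this, D.ha3, mul_one] at h3
      exact h3
    obtain ⟨k, hk⟩ := D.hR2 ⟨c, hCR hcC⟩
    have hk' : c ^ 2 ^ k = 1 := congrArg Subtype.val hk
    have h5 : orderOf c ∣ Nat.gcd 3 (2 ^ k) :=
      Nat.dvd_gcd (orderOf_dvd_of_pow_eq_one h4) (orderOf_dvd_of_pow_eq_one hk')
    have h6 : Nat.gcd 3 (2 ^ k) = 1 := Nat.Coprime.pow_right k (by norm_num)
    rw [h6, Nat.dvd_one, orderOf_eq_one_iff] at h5
    have : r * a * r⁻¹ * a⁻¹ = 1 := h5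
    calc r * a = (r * a * r⁻¹ * a⁻¹) * a * r := by group
      _ = a * r := by rw [this, one_mul]

theorem MinData.ne_bot (D : MinData N a R) : R ≠ ⊥ := by
  intro h
  obtain ⟨r, hr, hne⟩ := D.hnc
  rw [h, Subgroup.mem_bot] at hr
  apply hne
  rw [hr, one_mul, mul_one]

/-- commutators of `R` are fixed by `a`. -/
theorem MinData.commutator_mem_Zs [Finite Γ] (D : MinData N a R) {r s : Γ} (hr : r ∈ R) (hs : s ∈ R) :
    r * s * r⁻¹ * s⁻¹ ∈ Zs R a := by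
  have hle : ⁅R, R⁆ ≤ R := Subgroup.commutator_le.mpr (fun g₁ h₁ g₂ h₂ => by
    rw [commutatorElement_def]
    exact R.mul_mem (R.mul_mem (R.mul_mem h₁ h₂) (R.inv_mem h₁)) (R.inv_mem h₂))
  have hne : ⁅R, R⁆ ≠ R := by
    intro h
    have : Fact (Nat.Prime 2) := ⟨Nat.prime_two⟩
    have : Group.IsNilpotent R := D.hR2.isNilpotent
    have : Nontrivial R := (Subgroup.nontrivial_iff_ne_bot R).mpr D.ne_bot
    have h1 := Group.IsSolvable.commutator_lt_top_of_nontrivial R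
    have h2 : (_root_.commutator R).map R.subtype = (⊤ : Subgroup R).map R.subtype := by
      rw [Subgroup.map_subtype_commutator, h, ← MonoidHom.range_eq_map, Subgroup.range_subtype]
    have h3 := Subgroup.map_injective R.subtype_injective h2
    exact h1.ne h3
  have hinv : ∀ n ∈ N, ∀ c ∈ ⁅R, R⁆, n * c * n⁻¹ ∈ ⁅R, R⁆ := by
    intro n hn
    have h1 : ⁅R, R⁆ ≤ (⁅R, R⁆).comap (MulAut.conj n).toMonoidHom := by
      rw [Subgroup.commutator_le]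
      intro g₁ h₁ g₂ h₂
      rw [Subgroup.mem_comap, map_commutatorElement]
      exact Subgroup.commutator_mem_commutator (D.hinv n hn g₁ h₁) (D.hinv n hn g₂ h₂)
    intro c hc
    have := h1 hc
    rwa [Subgroup.mem_comap, MulEquiv.coe_toMonoidHom, MulAut.conj_apply] at this
  have := D.le_Zs hle hne hinv (Subgroup.commutator_mem_commutator hr hs)
  rwa [commutatorElement_def] at this

/-- the fixed points of `a` are central in `R`. -/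
theorem MinData.Zs_central [Finite Γ] (D : MinData N a R) {z r : Γ} (hz : z ∈ Zs R a) (hr : r ∈ R) :
    z * r = r * z := by
  have hzR := (mem_Zs.mp hz).1
  have hza := (mem_Zs.mp hz).2
  have hle := D.gen (Subgroup.centralizer {z}) (by
    intro r hr
    rw [Subgroup.mem_centralizer_singleton_iff]
    -- `r⁻¹ z r ∈ Z`
    have h0 : r⁻¹ * z * r ∈ Zs R a := by
      have h1 : z⁻¹ * r⁻¹ * z⁻¹⁻¹ * r⁻¹⁻¹ ∈ Zs R a :=
        D.commutator_mem_Zs (R.inv_mem hzR) (R.inv_mem hr)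
      have h2 : r⁻¹ * z * r = z * (z⁻¹ * r⁻¹ * z⁻¹⁻¹ * r⁻¹⁻¹) := by group
      rw [h2]
      exact (Zs R a).mul_mem hz h1
    have h1 : a⁻¹ * z * a = z := conj_inv_eq_of_comm hza
    have h2 : a * (r⁻¹ * z * r) * a⁻¹ = r⁻¹ * z * r := conj_eq_of_comm (mem_Zs.mp h0).2
    have h3 : (r * a * r⁻¹ * a⁻¹) * z * (r * a * r⁻¹ * a⁻¹)⁻¹ = z := by
      calc (r * a * r⁻¹ * a⁻¹) * z * (r * a * r⁻¹ * a⁻¹)⁻¹
          = r * (a * (r⁻¹ * (a⁻¹ * z * a) * r) * a⁻¹) * r⁻¹ := by group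
        _ = z := by rw [h1, h2]; group
    calc r * a * r⁻¹ * a⁻¹ * z = ((r * a * r⁻¹ * a⁻¹) * z * (r * a * r⁻¹ * a⁻¹)⁻¹) * (r * a * r⁻¹ * a⁻¹) := by
          group
      _ = z * (r * a * r⁻¹ * a⁻¹) := by rw [h3])
  have := hle hr
  rw [Subgroup.mem_centralizer_singleton_iff] at this
  exact this.symm

/-- `a` acts fixed-point-freely on `R / Z`. -/
theorem MinData.fpf [Finite Γ] (D : MinData N a R) {r : Γ} (hr : r ∈ R)
    (h : r * a * r⁻¹ * a⁻¹ ∈ Zs R a) : r ∈ Zs R a := by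
  let D' : Subgroup Γ :=
    { carrier := {r | r ∈ R ∧ r * a * r⁻¹ * a⁻¹ ∈ Zs R a}
      one_mem' := ⟨R.one_mem, by simpa using (Zs R a).one_mem⟩
      mul_mem' := by
        rintro r s ⟨hr, hr'⟩ ⟨hs, hs'⟩
        refine ⟨R.mul_mem hr hs, ?_⟩
        have h1 : r * s * a * (r * s)⁻¹ * a⁻¹ = r * (s * a * s⁻¹ * a⁻¹) * r⁻¹ * (r * a * r⁻¹ * a⁻¹) := by
          group
        rw [h1, ← D.Zs_central hs' hr]
        have h2 : s * a * s⁻¹ * a⁻¹ * r * r⁻¹ = s * a * s⁻¹ * a⁻¹ := by group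
        rw [h2]
        exact (Zs R a).mul_mem hs' hr'
      inv_mem' := by
        rintro r ⟨hr, hr'⟩
        refine ⟨R.inv_mem hr, ?_⟩
        have h1 : r⁻¹ * a * r⁻¹⁻¹ * a⁻¹ = r⁻¹ * (r * a * r⁻¹ * a⁻¹)⁻¹ * r := by group
        rw [h1, mul_assoc, D.Zs_central ((Zs R a).inv_mem hr') hr]
        have h2 : r⁻¹ * (r * (r * a * r⁻¹ * a⁻¹)⁻¹) = (r * a * r⁻¹ * a⁻¹)⁻¹ := by group
        rw [h2]
        exact (Zs R a).inv_mem hr' }
  have hD'R : D' ≤ R := fun r hr => hr.1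
  have hD'inv : ∀ n ∈ N, ∀ r ∈ D', n * r * n⁻¹ ∈ D' := by
    rintro n hn r ⟨hr, hr'⟩
    refine ⟨D.hinv n hn r hr, ?_⟩
    have h2 : n * r * n⁻¹ * a * (n * r * n⁻¹)⁻¹ * a⁻¹ = n * (r * a * r⁻¹ * a⁻¹) * n⁻¹ :=
      (conj_comm_of_commute (D.hcen n hn) r).symm
    rw [h2]
    exact D.Zs_inv n hn _ hr'
  have hD'ne : D' ≠ R := by
    intro heq
    apply D.Zs_ne
    apply le_antisymm (Zs_le R a)
    apply D.gen
    intro r hr
    have : r ∈ D' := by rw [heq]; exact hr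
    exact this.2
  exact D.le_Zs hD'R hD'ne hD'inv ⟨hr, h⟩

/-- squares lie in `Z`. -/
theorem MinData.sq_mem [Finite Γ] (D : MinData N a R) {r : Γ} (hr : r ∈ R) : r * r ∈ Zs R a := by
  let R₂ : Subgroup Γ :=
    { carrier := {r | r ∈ R ∧ r * r ∈ Zs R a}
      one_mem' := ⟨R.one_mem, by simp⟩
      mul_mem' := by
        rintro r s ⟨hr, hr'⟩ ⟨hs, hs'⟩
        refine ⟨R.mul_mem hr hs, ?_⟩
        have hc : s⁻¹ * r⁻¹ * s⁻¹⁻¹ * r⁻¹⁻¹ ∈ Zs R a :=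
          D.commutator_mem_Zs (R.inv_mem hs) (R.inv_mem hr)
        have h1 : r * s * (r * s) = r * r * (s * ((s⁻¹ * r⁻¹ * s⁻¹⁻¹ * r⁻¹⁻¹) * s)) := by group
        rw [h1, D.Zs_central hc hs]
        have h2 : s * (s * (s⁻¹ * r⁻¹ * s⁻¹⁻¹ * r⁻¹⁻¹)) = s * s * (s⁻¹ * r⁻¹ * s⁻¹⁻¹ * r⁻¹⁻¹) := by
          group
        rw [h2]
        exact (Zs R a).mul_mem hr' ((Zs R a).mul_mem hs' hc)
      inv_mem' := by
        rintro r ⟨hr, hr'⟩
        refine ⟨R.inv_mem hr, ?_⟩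
        have h1 : r⁻¹ * r⁻¹ = (r * r)⁻¹ := by group
        rw [h1]
        exact (Zs R a).inv_mem hr' }
  have hR₂R : R₂ ≤ R := fun r hr => hr.1
  have hR₂inv : ∀ n ∈ N, ∀ r ∈ R₂, n * r * n⁻¹ ∈ R₂ := by
    rintro n hn r ⟨hr, hr'⟩
    refine ⟨D.hinv n hn r hr, ?_⟩
    have h2 : n * r * n⁻¹ * (n * r * n⁻¹) = n * (r * r) * n⁻¹ := by group
    rw [h2]
    exact D.Zs_inv n hn _ hr'
  by_cases heq : R₂ = R
  · have : r ∈ R₂ := by rw [heq]; exact hr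
    exact this.2
  · exfalso
    have hle := D.le_Zs hR₂R heq hR₂inv
    obtain ⟨x, hx, hxZ⟩ := D.exists_not_mem_Zs
    have hstep : ∀ y ∈ R, y ∉ Zs R a → y * y ∉ Zs R a := fun y hy hyZ hyy => hyZ (hle ⟨hy, hyy⟩)
    have hall : ∀ k : ℕ, x ^ 2 ^ k ∈ R ∧ x ^ 2 ^ k ∉ Zs R a := by
      intro k
      induction k with
      | zero => simpa using ⟨hx, hxZ⟩
      | succ k ih =>
        have e : x ^ 2 ^ (k + 1) = x ^ 2 ^ k * x ^ 2 ^ k := by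
          rw [pow_succ, pow_mul, pow_two]
        rw [e]
        exact ⟨R.mul_mem ih.1 ih.1, hstep _ ih.1 ih.2⟩
    obtain ⟨k, hk⟩ := D.hR2 ⟨x, hx⟩
    have hk' : x ^ 2 ^ k = 1 := congrArg Subtype.val hk
    apply (hall k).2
    rw [hk']
    exact (Zs R a).one_mem

/-- the "trace" of an element lies in `Z`. -/
theorem MinData.triple_mem [Finite Γ] (D : MinData N a R) {r : Γ} (hr : r ∈ R) :
    r * (a * r * a⁻¹) * (a * (a * r * a⁻¹) * a⁻¹) ∈ Zs R a := by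
  have hu : a * r * a⁻¹ ∈ R := D.conj_a_mem hr
  have hv : a * (a * r * a⁻¹) * a⁻¹ ∈ R := D.conj_a_mem hu
  have hw : a * (a * (a * r * a⁻¹) * a⁻¹) * a⁻¹ = r := by
    have haa : a * a = a⁻¹ := by
      apply eq_inv_of_mul_eq_one_left
      have := D.ha3
      rwa [pow_succ, pow_two] at this
    calc a * (a * (a * r * a⁻¹) * a⁻¹) * a⁻¹ = (a * a) * (a * r * a⁻¹) * (a * a)⁻¹ := by group
      _ = r := by rw [haa]; group
  obtain ⟨u, hu'⟩ : ∃ u, u = a * r * a⁻¹ := ⟨_, rfl⟩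
  rw [← hu'] at hu hv hw ⊢
  obtain ⟨v, hv'⟩ : ∃ v, v = a * u * a⁻¹ := ⟨_, rfl⟩
  rw [← hv'] at hv hw ⊢
  apply D.fpf (R.mul_mem (R.mul_mem hr hu) hv)
  have h1 : r * u * v * a * (r * u * v)⁻¹ * a⁻¹ = r * (u * v) * r⁻¹ * (u * v)⁻¹ := by
    calc r * u * v * a * (r * u * v)⁻¹ * a⁻¹
        = r * u * v * ((a * r * a⁻¹) * (a * u * a⁻¹) * (a * v * a⁻¹))⁻¹ := by group
      _ = r * u * v * (u * v * r)⁻¹ := by rw [← hu', ← hv', hw]
      _ = r * (u * v) * r⁻¹ * (u * v)⁻¹ := by group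
  rw [h1]
  exact D.commutator_mem_Zs hr (R.mul_mem hu hv)

end

end Cfsg.Agent.Lib.Helper29.HHDer
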