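import Cfsg.Agent.Lib.Helper29.HHDerB

/-!
helper29: an anisotropic invariant form on `R / Z` forces `|R / Z| = 4`, which is impossible when
`a` is a product of commutators of `N`.
-/

set_option autoImplicit false

namespace Cfsg.Agent.Lib.Helper29.HHDer

variable {Γ : Type*} [Group Γ] {F : Type*} [Field F]

/-- a `±1`-valued invariant bimultiplicative form on `R`. -/
structure FormData (N : Subgroup Γ) (a : Γ) (R : Subgroup Γ) (B : Γ → Γ → F) : Prop where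
  val : ∀ r ∈ R, ∀ s ∈ R, B r s = 1 ∨ B r s = -1
  mul_left : ∀ r ∈ R, ∀ r' ∈ R, ∀ s ∈ R, B (r * r') s = B r s * B r' s
  symm : ∀ r ∈ R, ∀ s ∈ R, B s r = B r s
  zs : ∀ z ∈ Zs R a, ∀ s ∈ R, B z s = 1
  conj : ∀ g ∈ N, ∀ r ∈ R, ∀ s ∈ R, B (g * r * g⁻¹) (g * s * g⁻¹) = B r s

section

variable {N : Subgroup Γ} {a : Γ} {R : Subgroup Γ} {B : Γ → Γ → F}

theorem FormData.mul_right (FD : FormData N a R B) {r s s' : Γ} (hr : r ∈ R) (hs : s ∈ R)
    (hs' : s' ∈ R) : B r (s * s') = B r s * B r s' := by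
  rw [FD.symm _ (R.mul_mem hs hs') _ hr, FD.mul_left s hs s' hs' r hr, FD.symm r hr s hs,
    FD.symm r hr s' hs']

theorem FormData.sq (FD : FormData N a R B) {r s : Γ} (hr : r ∈ R) (hs : s ∈ R) :
    B r s * B r s = 1 := by
  rcases FD.val r hr s hs with h | h <;> rw [h] <;> ring

theorem FormData.zs_right (FD : FormData N a R B) {r z : Γ} (hr : r ∈ R) (hz : z ∈ Zs R a) :
    B r z = 1 := by
  rw [FD.symm z (Zs_le R a hz) r hr]
  exact FD.zs z hz r hr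

theorem FormData.inv_right (FD : FormData N a R B) {r s : Γ} (hr : r ∈ R) (hs : s ∈ R) :
    B r s⁻¹ = B r s := by
  have h1 : B r (s * s⁻¹) = B r s * B r s⁻¹ := FD.mul_right hr hs (R.inv_mem hs)
  rw [mul_inv_cancel, FD.zs_right hr (Zs R a).one_mem] at h1
  have h2 := FD.sq hr hs
  calc B r s⁻¹ = (B r s * B r s) * B r s⁻¹ := by rw [h2, one_mul]
    _ = B r s * (B r s * B r s⁻¹) := by ring
    _ = B r s := by rw [← h1, mul_one]

/-- polarization: `q(xy) = q(x) q(y) B(x,y)`. -/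
theorem FormData.polar [Finite Γ] (D : MinData N a R) (FD : FormData N a R B) {x y : Γ}
    (hx : x ∈ R) (hy : y ∈ R) :
    B (x * y) (a * (x * y) * a⁻¹) = B x (a * x * a⁻¹) * B y (a * y * a⁻¹) * B x y := by
  have hxa : a * x * a⁻¹ ∈ R := D.conj_a_mem hx
  have hya : a * y * a⁻¹ ∈ R := D.conj_a_mem hy
  have hxaa : a * (a * x * a⁻¹) * a⁻¹ ∈ R := D.conj_a_mem hxa
  have e : a * (x * y) * a⁻¹ = (a * x * a⁻¹) * (a * y * a⁻¹) := by group
  rw [e, FD.mul_left x hx y hy _ (R.mul_mem hxa hya), FD.mul_right hx hxa hya,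
    FD.mul_right hy hxa hya]
  -- `B y x^a = B x y^a * B x y`
  have key : B y (a * x * a⁻¹) = B x (a * y * a⁻¹) * B x y := by
    have h1 : B y (a * x * a⁻¹) = B (a * y * a⁻¹) (a * (a * x * a⁻¹) * a⁻¹) :=
      (FD.conj a D.haN y hy _ hxa).symm
    have hz := D.triple_mem hx
    set z := x * (a * x * a⁻¹) * (a * (a * x * a⁻¹) * a⁻¹) with hzdef
    have h2 : a * (a * x * a⁻¹) * a⁻¹ = (x * (a * x * a⁻¹))⁻¹ * z := by rw [hzdef]; group
    rw [h1, h2, FD.mul_right hya (R.inv_mem (R.mul_mem hx hxa)) (Zs_le R a hz),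
      FD.zs_right hya hz, mul_one, FD.inv_right hya (R.mul_mem hx hxa), FD.mul_right hya hx hxa,
      FD.conj a D.haN y hy x hx, FD.symm x hx _ hya, FD.symm x hx y hy]
  rw [key]
  have h3 := FD.sq hx hya
  calc B x (a * x * a⁻¹) * B x (a * y * a⁻¹) * (B x (a * y * a⁻¹) * B x y * B y (a * y * a⁻¹))
      = B x (a * x * a⁻¹) * B y (a * y * a⁻¹) * B x y * (B x (a * y * a⁻¹) * B x (a * y * a⁻¹)) := by
        ring
    _ = B x (a * x * a⁻¹) * B y (a * y * a⁻¹) * B x y := by rw [h3, mul_one]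

theorem FormData.neg_one_of_not_mem [Finite Γ] (D : MinData N a R) (FD : FormData N a R B)
    (haniso : ∀ r ∈ R, r ∉ Zs R a → B r (a * r * a⁻¹) = -1)
    {x y : Γ} (hx : x ∈ R) (hy : y ∈ R) (hxZ : x ∉ Zs R a) (hyZ : y ∉ Zs R a)
    (hxyZ : x * y ∉ Zs R a) : B x y = -1 := by
  have h := FD.polar D hx hy
  rw [haniso x hx hxZ, haniso y hy hyZ, haniso _ (R.mul_mem hx hy) hxyZ] at h
  calc B x y = -1 * -1 * B x y := by ring
    _ = -1 := h.symm

theorem MinData.conj_a_not_mem (D : MinData N a R) {r : Γ} (hr : r ∉ Zs R a) :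
    a * r * a⁻¹ ∉ Zs R a := by
  intro h
  apply hr
  have := D.Zs_inv a⁻¹ (N.inv_mem D.haN) _ h
  have e : a⁻¹ * (a * r * a⁻¹) * a⁻¹⁻¹ = r := by group
  rwa [e] at this

theorem comm_central {b b' g h : Γ} (h1 : Commute b g) (h2 : Commute b h) (h3 : Commute b' g)
    (h4 : Commute b' h) (h5 : Commute b b') :
    (b * g) * (b' * h) * (b * g)⁻¹ * (b' * h)⁻¹ = g * h * g⁻¹ * h⁻¹ := by
  have hc : Commute (b * b') (g * h * g⁻¹ * h⁻¹) := by
    apply Commute.mul_left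
    · exact ((h1.mul_right h2).mul_right h1.inv_right).mul_right h2.inv_right
    · exact ((h3.mul_right h4).mul_right h3.inv_right).mul_right h4.inv_right
  have e1 : (b * g) * (b' * h) = (b * b') * (g * h) := by
    rw [mul_assoc, ← mul_assoc g, ← h3.eq]; group
  have e2 : (b * g)⁻¹ * (b' * h)⁻¹ = (h * g)⁻¹ * (b * b')⁻¹ := by
    rw [← mul_inv_rev, ← mul_inv_rev]
    congr 1
    calc b' * h * (b * g) = b' * (h * b) * g := by group
      _ = b' * (b * h) * g := by rw [h2.eq]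
      _ = (b' * b) * (h * g) := by group
      _ = b * b' * (h * g) := by rw [h5.eq]
  calc (b * g) * (b' * h) * (b * g)⁻¹ * (b' * h)⁻¹
      = ((b * g) * (b' * h)) * ((b * g)⁻¹ * (b' * h)⁻¹) := by group
    _ = (b * b') * (g * h * g⁻¹ * h⁻¹) * (b * b')⁻¹ := by rw [e1, e2]; group
    _ = g * h * g⁻¹ * h⁻¹ := by rw [hc.eq]; group

/-- the final contradiction. -/
theorem form_contra [Finite Γ] (D : MinData N a R) (FD : FormData N a R B)
    (haniso : ∀ r ∈ R, r ∉ Zs R a → B r (a * r * a⁻¹) = -1) (h2 : (2 : F) ≠ 0)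
    (haNN : a ∈ ⁅N, N⁆) : False := by
  obtain ⟨u, hu, huZ⟩ := D.exists_not_mem_Zs
  have hu₁ : a * u * a⁻¹ ∈ R := D.conj_a_mem hu
  have hu₂ : a * (a * u * a⁻¹) * a⁻¹ ∈ R := D.conj_a_mem hu₁
  have hu₁Z : a * u * a⁻¹ ∉ Zs R a := D.conj_a_not_mem huZ
  have hu₂Z : a * (a * u * a⁻¹) * a⁻¹ ∉ Zs R a := D.conj_a_not_mem hu₁Z
  have hne : (1 : F) ≠ -1 := by
    intro h
    apply h2
    have : (2 : F) = 1 + 1 := by norm_num
    rw [this]
    nth_rewrite 2 [h]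
    ring
  -- every conjugate of `u` under `N` is congruent to one of `u, u^a, u^(a^2)`
  have hclaim : ∀ g ∈ N, g * u * g⁻¹ * u ∈ Zs R a ∨ g * u * g⁻¹ * (a * u * a⁻¹) ∈ Zs R a ∨
      g * u * g⁻¹ * (a * (a * u * a⁻¹) * a⁻¹) ∈ Zs R a := by
    intro g hg
    by_contra hcon
    push Not at hcon
    obtain ⟨c0, c1, c2⟩ := hcon
    have hx : g * u * g⁻¹ ∈ R := D.hinv g hg u hu
    have hxZ : g * u * g⁻¹ ∉ Zs R a := by
      intro h
      apply huZ
      have := D.Zs_inv g⁻¹ (N.inv_mem hg) _ h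
      have e : g⁻¹ * (g * u * g⁻¹) * g⁻¹⁻¹ = u := by group
      rwa [e] at this
    have b0 := FD.neg_one_of_not_mem D haniso hx hu hxZ huZ c0
    have b1 := FD.neg_one_of_not_mem D haniso hx hu₁ hxZ hu₁Z c1
    have b2 := FD.neg_one_of_not_mem D haniso hx hu₂ hxZ hu₂Z c2
    have hz := D.triple_mem hu
    set z := u * (a * u * a⁻¹) * (a * (a * u * a⁻¹) * a⁻¹) with hzdef
    have e : u * (a * u * a⁻¹) = z * (a * (a * u * a⁻¹) * a⁻¹)⁻¹ := by rw [hzdef]; group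
    have h3 : B (g * u * g⁻¹) (u * (a * u * a⁻¹)) = 1 := by
      rw [FD.mul_right hx hu hu₁, b0, b1]; ring
    rw [e, FD.mul_right hx (Zs_le R a hz) (R.inv_mem hu₂), FD.zs_right hx hz,
      FD.inv_right hx hu₂, b2, one_mul] at h3
    exact hne h3.symm
  -- the subgroup of `N` fixing `u` modulo `Z`
  let A : Subgroup Γ :=
    { carrier := {g | g ∈ N ∧ g * u * g⁻¹ * u⁻¹ ∈ Zs R a}
      one_mem' := ⟨N.one_mem, by simp [Subgroup.one_mem]⟩
      mul_mem' := by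
        rintro g h ⟨hg, hg'⟩ ⟨hh, hh'⟩
        refine ⟨N.mul_mem hg hh, ?_⟩
        have e : g * h * u * (g * h)⁻¹ * u⁻¹ = g * (h * u * h⁻¹ * u⁻¹) * g⁻¹ * (g * u * g⁻¹ * u⁻¹) := by
          group
        rw [e]
        exact (Zs R a).mul_mem (D.Zs_inv g hg _ hh') hg'
      inv_mem' := by
        rintro g ⟨hg, hg'⟩
        refine ⟨N.inv_mem hg, ?_⟩
        have e : g⁻¹ * u * g⁻¹⁻¹ * u⁻¹ = g⁻¹ * (g * u * g⁻¹ * u⁻¹)⁻¹ * g⁻¹⁻¹ := by group
        rw [e]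
        exact D.Zs_inv g⁻¹ (N.inv_mem hg) _ ((Zs R a).inv_mem hg') }
  have hAN : A ≤ N := fun g hg => hg.1
  have hcenN : ∀ k : ℕ, ∀ n ∈ N, Commute (a ^ k)⁻¹ n := by
    intro k n hn
    have : Commute a n := (D.hcen n hn).symm
    exact (this.pow_left k).inv_left
  -- decomposition
  have hdec : ∀ g ∈ N, ∃ k : ℕ, ∃ g' ∈ A, g = (a ^ k)⁻¹⁻¹ * g' := by
    intro g hg
    have hx : g * u * g⁻¹ ∈ R := D.hinv g hg u hu
    have hmain : ∀ k : ℕ, g * u * g⁻¹ * (a ^ k * u * (a ^ k)⁻¹) ∈ Zs R a →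
        ∃ k : ℕ, ∃ g' ∈ A, g = (a ^ k)⁻¹⁻¹ * g' := by
      intro k hk
      have hakN : (a ^ k)⁻¹ ∈ N := N.inv_mem (N.pow_mem D.haN k)
      refine ⟨k, (a ^ k)⁻¹ * g, ⟨N.mul_mem hakN hg, ?_⟩, by group⟩
      have h1 := D.Zs_inv _ hakN _ hk
      have e1 : (a ^ k)⁻¹ * (g * u * g⁻¹ * (a ^ k * u * (a ^ k)⁻¹)) * (a ^ k)⁻¹⁻¹ =
          ((a ^ k)⁻¹ * g) * u * ((a ^ k)⁻¹ * g)⁻¹ * u := by group
      rw [e1] at h1
      have h2 : ((a ^ k)⁻¹ * g) * u * ((a ^ k)⁻¹ * g)⁻¹ * u⁻¹ =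
          (((a ^ k)⁻¹ * g) * u * ((a ^ k)⁻¹ * g)⁻¹ * u) * (u * u)⁻¹ := by group
      rw [h2]
      exact (Zs R a).mul_mem h1 ((Zs R a).inv_mem (D.sq_mem hu))
    rcases hclaim g hg with h | h | h
    · apply hmain 0
      simpa using h
    · apply hmain 1
      simpa using h
    · apply hmain 2
      have e : a ^ 2 * u * (a ^ 2)⁻¹ = a * (a * u * a⁻¹) * a⁻¹ := by rw [pow_two]; group
      rw [e]
      exact h
  have hle : ⁅N, N⁆ ≤ A := by
    rw [Subgroup.commutator_le]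
    intro g hg h hh
    obtain ⟨k, g', hg', rfl⟩ := hdec g hg
    obtain ⟨l, h', hh', rfl⟩ := hdec h hh
    rw [commutatorElement_def]
    have hb : ∀ k : ℕ, ∀ n ∈ N, Commute (a ^ k)⁻¹⁻¹ n := fun k n hn => (hcenN k n hn).inv_left
    rw [comm_central (hb k g' (hAN hg')) (hb k h' (hAN hh')) (hb l g' (hAN hg')) (hb l h' (hAN hh'))
      (hb k _ (N.inv_mem (N.inv_mem (N.pow_mem D.haN l))))]
    exact A.mul_mem (A.mul_mem (A.mul_mem hg' hh') (A.inv_mem hg')) (A.inv_mem hh')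
  have haA : a ∈ A := hle haNN
  apply huZ
  apply D.fpf hu
  have e : u * a * u⁻¹ * a⁻¹ = (a * u * a⁻¹ * u⁻¹)⁻¹ := by group
  rw [e]
  exact (Zs R a).inv_mem haA.2

end

end Cfsg.Agent.Lib.Helper29.HHDer
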