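import Cfsg.Agent.Lib.Helper29.HHDerA
import Cfsg.Agent.Lib.Helper29.HHDerC

/-!
helper29: common eigenvectors of elementary abelian `2`-groups and invariance of the eigenvalue
function under a group acting "cubically".
-/

set_option autoImplicit false

namespace Cfsg.Agent.Lib.Helper29.HHDer

open Module Cfsg.Agent.Lib.Helper1 Cfsg.Agent.Lib.Helper1.HB

variable {Γ : Type*} [Group Γ] {F : Type*} [Field F] {W : Type*} [AddCommGroup W] [Module F W]

theorem exists_common_eig [FiniteDimensional F W] (h2 : (2 : F) ≠ 0) (ρ : Representation F Γ W)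
    (T : Subgroup Γ) (hTc : ∀ t ∈ T, ∀ t' ∈ T, t * t' = t' * t) (hT2 : ∀ t ∈ T, t * t = 1)
    (t₀ : Γ) (ht₀ : t₀ ∈ T) (hne : ρ t₀ ≠ 1) :
    ∃ μ : Γ → F, (∀ t ∈ T, μ t = 1 ∨ μ t = -1) ∧ μ t₀ = -1 ∧ ∃ w, w ≠ 0 ∧ w ∈ eigSub ρ T μ := by
  classical
  obtain ⟨v, hv⟩ : ∃ v, ρ t₀ v ≠ v := by
    by_contra h
    push Not at h
    exact hne (LinearMap.ext h)
  have hsq : ∀ t ∈ T, ∀ x, ρ t (ρ t x) = x := by
    intro t ht x
    rw [← Module.End.mul_apply, ← map_mul, hT2 t ht, map_one]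
    rfl
  have hcomm : ∀ t ∈ T, ∀ t' ∈ T, ∀ x, ρ t (ρ t' x) = ρ t' (ρ t x) := by
    intro t ht t' ht' x
    rw [← Module.End.mul_apply, ← map_mul, hTc t ht t' ht', map_mul]
    rfl
  let 𝒮 : Set (Submodule F W) := {U | U ≠ ⊥ ∧ (∀ u ∈ U, ρ t₀ u = -u) ∧ ∀ t ∈ T, ∀ u ∈ U, ρ t u ∈ U}
  have h𝒮 : 𝒮.Nonempty := by
    refine ⟨LinearMap.ker (ρ t₀ + 1), ?_, ?_, ?_⟩
    · intro h
      have : ρ t₀ v - v ∈ LinearMap.ker (ρ t₀ + 1) := by
        rw [LinearMap.mem_ker, LinearMap.add_apply, map_sub, hsq t₀ ht₀]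
        simp
      rw [h, Submodule.mem_bot] at this
      exact hv (sub_eq_zero.mp this)
    · intro u hu
      rw [LinearMap.mem_ker, LinearMap.add_apply] at hu
      exact eq_neg_of_add_eq_zero_left hu
    · intro t ht u hu
      rw [LinearMap.mem_ker, LinearMap.add_apply] at hu ⊢
      rw [hcomm t₀ ht₀ t ht]
      have : ρ t₀ u = -u := eq_neg_of_add_eq_zero_left hu
      rw [this, map_neg]
      simp
  obtain ⟨U₀, ⟨hU₀ne, hU₀m, hU₀inv⟩, hU₀min⟩ := wellFounded_lt.has_min 𝒮 h𝒮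
  have hdich : ∀ t ∈ T, (∀ u ∈ U₀, ρ t u = u) ∨ (∀ u ∈ U₀, ρ t u = -u) := by
    intro t ht
    set U₁ : Submodule F W := U₀ ⊓ LinearMap.ker (ρ t - 1) with hU₁
    have hU₁mem : ∀ u, u ∈ U₁ ↔ u ∈ U₀ ∧ ρ t u = u := by
      intro u
      rw [hU₁, Submodule.mem_inf, LinearMap.mem_ker, LinearMap.sub_apply, sub_eq_zero]
      rfl
    by_cases hbot : U₁ = ⊥
    · right
      intro u hu
      have h1 : ρ t u + u ∈ U₁ := by
        rw [hU₁mem]
        refine ⟨U₀.add_mem (hU₀inv t ht u hu) hu, ?_⟩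
        rw [map_add, hsq t ht, add_comm]
      rw [hbot, Submodule.mem_bot] at h1
      exact eq_neg_of_add_eq_zero_left h1
    · left
      have hmem : U₁ ∈ 𝒮 := by
        refine ⟨hbot, fun u hu => hU₀m u ((hU₁mem u).mp hu).1, ?_⟩
        intro t' ht' u hu
        rw [hU₁mem] at hu ⊢
        refine ⟨hU₀inv t' ht' u hu.1, ?_⟩
        rw [hcomm t ht t' ht', hu.2]
      have hle : U₁ ≤ U₀ := inf_le_left
      have heq : U₁ = U₀ := eq_of_le_of_not_lt hle (hU₀min U₁ hmem)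
      intro u hu
      rw [← heq] at hu
      exact ((hU₁mem u).mp hu).2
  obtain ⟨w, hwU, hw0⟩ := Submodule.exists_mem_ne_zero_of_ne_bot hU₀ne
  refine ⟨fun t => if ∀ u ∈ U₀, ρ t u = u then 1 else -1, ?_, ?_, w, hw0, ?_⟩
  · intro t _
    by_cases h : ∀ u ∈ U₀, ρ t u = u
    · left; exact if_pos h
    · right; exact if_neg h
  · have h : ¬ ∀ u ∈ U₀, ρ t₀ u = u := by
      intro h
      have h1 := h w hwU
      rw [hU₀m w hwU] at h1
      have h3 : (2 : F) • w = 0 := by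
        have : (2 : F) • w = w - (-w) := by module
        rw [this, h1, sub_self]
      rcases smul_eq_zero.mp h3 with h4 | h4
      · exact h2 h4
      · exact hw0 h4
    exact if_neg h
  · intro t ht
    show ρ t w = (if ∀ u ∈ U₀, ρ t u = u then (1 : F) else -1) • w
    by_cases h : ∀ u ∈ U₀, ρ t u = u
    · rw [if_pos h, one_smul]
      exact h w hwU
    · rw [if_neg h, neg_smul, one_smul]
      rcases hdich t ht with h' | h'
      · exact absurd h' h
      · exact h' w hwU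

theorem mu_conj_eq [CharP F 3] (ρ : Representation F Γ W) (T : Subgroup Γ) (μ : Γ → F)
    (hμ : ∀ t ∈ T, μ t = 1 ∨ μ t = -1) (n : Γ) (hnT : ∀ t ∈ T, n⁻¹ * t * n ∈ T) (w : W)
    (hw0 : w ≠ 0) (hw : w ∈ eigSub ρ T μ) (hquad : (ρ n - 1) ((ρ n - 1) w) = 0) :
    ∀ t ∈ T, μ (n⁻¹ * t * n) = μ t := by
  intro t ht
  have h3 : (3 : F) = 0 := by
    have := CharP.cast_eq_zero F 3
    exact_mod_cast this
  have h2 : (2 : F) ≠ 0 := by
    intro h
    have h1 : ((2 : ℕ) : F) = 0 := by exact_mod_cast h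
    rw [CharP.cast_eq_zero_iff F 3] at h1
    omega
  have hinjn : ∀ x, ρ n x = 0 → x = 0 := by
    intro x hx
    have : ρ n⁻¹ (ρ n x) = x := by
      rw [← Module.End.mul_apply, ← map_mul, inv_mul_cancel, map_one]
      rfl
    rw [← this, hx, map_zero]
  have hconj : ∀ s x, ρ s (ρ n x) = ρ n (ρ (n⁻¹ * s * n) x) := by
    intro s x
    rw [← Module.End.mul_apply, ← Module.End.mul_apply, ← map_mul, ← map_mul]
    congr 2
    group
  set y := ρ n w with hy
  set z := ρ n y with hz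
  have hrel : z + y + w = 0 := by
    have h1 : (ρ n - 1) ((ρ n - 1) w) = z - y - (y - w) := by
      simp only [LinearMap.sub_apply, Module.End.one_apply, map_sub]
      rfl
    rw [h1] at hquad
    have : z + y + w = (z - y - (y - w)) + (3 : F) • y := by module
    rw [this, hquad, h3, zero_smul, add_zero]
  have ht' : n⁻¹ * t * n ∈ T := hnT t ht
  have ht'' : n⁻¹ * (n⁻¹ * t * n) * n ∈ T := hnT _ ht'
  have e0 : ρ t w = μ t • w := hw t ht
  have e1 : ρ t y = μ (n⁻¹ * t * n) • y := by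
    rw [hy, hconj, hw _ ht', map_smul]
  have e2 : ρ t z = μ (n⁻¹ * (n⁻¹ * t * n) * n) • z := by
    rw [hz, hconj, hy, hconj, hw _ ht'', map_smul, map_smul]
  have hrel' : μ (n⁻¹ * (n⁻¹ * t * n) * n) • z + μ (n⁻¹ * t * n) • y + μ t • w = 0 := by
    rw [← e0, ← e1, ← e2, ← map_add, ← map_add, hrel, map_zero]
  by_contra hne
  have hy0 : y ≠ 0 := fun h => hw0 (hinjn w h)
  have kill : ∀ x : W, (2 : F) • x = 0 → x = 0 := by
    intro x hx
    rcases smul_eq_zero.mp hx with h | h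
    · exact absurd h h2
    · exact h
  rcases hμ t ht with a0 | a0 <;> rcases hμ _ ht' with a1 | a1 <;> rcases hμ _ ht'' with a2 | a2
  · exact hne (by rw [a0, a1])
  · exact hne (by rw [a0, a1])
  · -- `z - y + w = 0`
    rw [a0, a1, a2] at hrel'
    apply hy0
    apply kill
    have : (2 : F) • y = (z + y + w) - ((1 : F) • z + (-1 : F) • y + (1 : F) • w) := by module
    rw [this, hrel, hrel', sub_zero]
  · -- `- z - y + w = 0`
    rw [a0, a1, a2] at hrel'
    apply hw0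
    apply kill
    have : (2 : F) • w = (z + y + w) + ((-1 : F) • z + (-1 : F) • y + (1 : F) • w) := by module
    rw [this, hrel, hrel', add_zero]
  · -- `z + y - w = 0`
    rw [a0, a1, a2] at hrel'
    apply hw0
    apply kill
    have : (2 : F) • w = (z + y + w) - ((1 : F) • z + (1 : F) • y + (-1 : F) • w) := by module
    rw [this, hrel, hrel', sub_zero]
  · -- `- z + y - w = 0`
    rw [a0, a1, a2] at hrel'
    apply hy0
    apply kill
    have : (2 : F) • y = (z + y + w) + ((-1 : F) • z + (1 : F) • y + (-1 : F) • w) := by module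
    rw [this, hrel, hrel', add_zero]
  · exact hne (by rw [a0, a1])
  · exact hne (by rw [a0, a1])

end Cfsg.Agent.Lib.Helper29.HHDer
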