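import Cfsg.Agent.Lib.Helper29.HHDerD

/-!
helper29: the `p = 3` contradiction: a central commutator element acting quadratically cannot move a
`2`-group.
-/

set_option autoImplicit false

namespace Cfsg.Agent.Lib.Helper29.HHDer

open Module Cfsg.Agent.Lib.Helper1 Cfsg.Agent.Lib.Helper1.HB

variable {Γ : Type*} [Group Γ] {F : Type*} [Field F] {W : Type*} [AddCommGroup W] [Module F W]

theorem comm_sq_eq_one {r s : Γ} (hc : (r * s * r⁻¹ * s⁻¹) * r = r * (r * s * r⁻¹ * s⁻¹))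
    (hrr : (r * r) * s = s * (r * r)) : (r * s * r⁻¹ * s⁻¹) * (r * s * r⁻¹ * s⁻¹) = 1 := by
  calc (r * s * r⁻¹ * s⁻¹) * (r * s * r⁻¹ * s⁻¹)
      = ((r * s * r⁻¹ * s⁻¹) * r) * (s * r⁻¹ * s⁻¹) := by group
    _ = (r * (r * s * r⁻¹ * s⁻¹)) * (s * r⁻¹ * s⁻¹) := by rw [hc]
    _ = ((r * r) * s) * (r * r)⁻¹ * s⁻¹ := by group
    _ = 1 := by rw [hrr]; group

theorem comm_mul_left_eq {r r' s : Γ}
    (hc : r * (r' * s * r'⁻¹ * s⁻¹) = (r' * s * r'⁻¹ * s⁻¹) * r) :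
    (r * r') * s * (r * r')⁻¹ * s⁻¹ = (r' * s * r'⁻¹ * s⁻¹) * (r * s * r⁻¹ * s⁻¹) := by
  calc (r * r') * s * (r * r')⁻¹ * s⁻¹ = (r * (r' * s * r'⁻¹ * s⁻¹)) * (s * r⁻¹ * s⁻¹) := by group
    _ = ((r' * s * r'⁻¹ * s⁻¹) * r) * (s * r⁻¹ * s⁻¹) := by rw [hc]
    _ = _ := by group

/-- the pointwise stabilizer of a subspace. -/
def fixSub (ρ : Representation F Γ W) (U : Submodule F W) : Subgroup Γ where
  carrier := {g | ∀ u ∈ U, ρ g u = u}
  one_mem' := fun u _ => by rw [map_one]; rfl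
  mul_mem' := fun {g h} hg hh u hu => by
    rw [map_mul, Module.End.mul_apply, hh u hu, hg u hu]
  inv_mem' := fun {g} hg u hu => by
    have h1 : ρ g⁻¹ (ρ g u) = u := by
      rw [← Module.End.mul_apply, ← map_mul, inv_mul_cancel, map_one]; rfl
    rw [hg u hu] at h1
    exact h1

theorem mem_fixSub {ρ : Representation F Γ W} {U : Submodule F W} {g : Γ} :
    g ∈ fixSub ρ U ↔ ∀ u ∈ U, ρ g u = u := Iff.rfl

set_option maxHeartbeats 1600000 in
theorem p3_contra [Finite Γ] [CharP F 3] [Finite W] (ρ : Representation F Γ W)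
    (hρ : ∀ g, ρ g = 1 → g = 1) (N : Subgroup Γ) (a : Γ) (R : Subgroup Γ) (D : MinData N a R)
    (haNN : a ∈ ⁅N, N⁆) (H1 : ∀ w, (ρ a - 1) ((ρ a - 1) w) = 0)
    (H2 : ∀ n ∈ N, ∀ w, (ρ n - 1) ((ρ n - 1) ((ρ a - 1) w)) = 0) : False := by
  classical
  haveI : Fact (Nat.Prime 3) := ⟨Nat.prime_three⟩
  haveI : Fact (Nat.Prime 2) := ⟨Nat.prime_two⟩
  have hfin : Module.Finite F W := Module.Finite.of_finite
  have h2 : (2 : F) ≠ 0 := by
    intro h
    have h1 : ((2 : ℕ) : F) = 0 := by exact_mod_cast h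
    rw [CharP.cast_eq_zero_iff F 3] at h1
    omega
  have hne1 : (1 : F) ≠ -1 := by
    intro h
    apply h2
    have : (2 : F) = 1 + 1 := by norm_num
    rw [this]
    nth_rewrite 2 [h]
    ring
  have hρmul : ∀ g h x, ρ (g * h) x = ρ g (ρ h x) := fun g h x => by
    rw [map_mul]; rfl
  -- Step 1: `R` is nonabelian
  have hact0 : ∃ f ∈ R, ∃ u ∈ (⊤ : Submodule F W), ρ (f * a * f⁻¹ * a⁻¹) u ≠ u := by
    obtain ⟨r, hr, hne⟩ := D.hnc
    refine ⟨r, hr, ?_⟩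
    by_contra hall
    push Not at hall
    apply hne
    have h1 : ρ (r * a * r⁻¹ * a⁻¹) = 1 := LinearMap.ext (fun u => hall u Submodule.mem_top)
    have h3 := hρ _ h1
    calc r * a = (r * a * r⁻¹ * a⁻¹) * a * r := by group
      _ = a * r := by rw [h3, one_mul]
  obtain ⟨-, -, r₀, hr₀, s₀, hs₀, u₀, -, hne₀⟩ := quad_core_act (F := F) (p := 3) (q := 2)
    (by norm_num) (by norm_num) ρ ⊤ R a D.hR2 (fun f hf => D.conj_a_mem hf) D.ha3
    (fun _ _ _ _ => Submodule.mem_top) (fun _ _ => Submodule.mem_top) hact0 (fun u _ => H1 u)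
  have ht₀ne : ρ (r₀ * s₀ * r₀⁻¹ * s₀⁻¹) ≠ 1 := by
    intro h
    apply hne₀
    have h1 : r₀ * s₀ = (r₀ * s₀ * r₀⁻¹ * s₀⁻¹) * (s₀ * r₀) := by group
    rw [h1, map_mul, h]
    rfl
  -- Step 2: the elementary abelian group `T`
  let T : Subgroup Γ :=
    { carrier := {t | t ∈ Zs R a ∧ t * t = 1}
      one_mem' := ⟨(Zs R a).one_mem, by simp⟩
      mul_mem' := by
        rintro t t' ⟨ht, ht2⟩ ⟨ht', ht'2⟩
        refine ⟨(Zs R a).mul_mem ht ht', ?_⟩
        have hc : t' * t = t * t' := D.Zs_central ht' (Zs_le R a ht)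
        calc t * t' * (t * t') = t * (t' * t) * t' := by group
          _ = (t * t) * (t' * t') := by rw [hc]; group
          _ = 1 := by rw [ht2, ht'2, one_mul]
      inv_mem' := by
        rintro t ⟨ht, ht2⟩
        refine ⟨(Zs R a).inv_mem ht, ?_⟩
        have : t⁻¹ * t⁻¹ = (t * t)⁻¹ := by group
        rw [this, ht2, inv_one] }
  have hTmem : ∀ t, t ∈ T ↔ t ∈ Zs R a ∧ t * t = 1 := fun t => Iff.rfl
  have hTR : T ≤ R := fun t ht => Zs_le R a ht.1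
  have hTcen : ∀ t ∈ T, ∀ r ∈ R, t * r = r * t := fun t ht r hr => D.Zs_central ht.1 hr
  have hTcomm : ∀ t ∈ T, ∀ t' ∈ T, t * t' = t' * t := fun t ht t' ht' => hTcen t ht t' (hTR ht')
  have hT2 : ∀ t ∈ T, t * t = 1 := fun t ht => ht.2
  have hTa : ∀ t ∈ T, t * a = a * t := fun t ht => (mem_Zs.mp ht.1).2
  have hTinv : ∀ n ∈ N, ∀ t ∈ T, n * t * n⁻¹ ∈ T := by
    intro n hn t ht
    refine ⟨D.Zs_inv n hn t ht.1, ?_⟩
    have : n * t * n⁻¹ * (n * t * n⁻¹) = n * (t * t) * n⁻¹ := by group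
    rw [this, ht.2]; group
  have hcomT : ∀ r ∈ R, ∀ s ∈ R, r * s * r⁻¹ * s⁻¹ ∈ T := by
    intro r hr s hs
    have hc := D.commutator_mem_Zs hr hs
    exact ⟨hc, comm_sq_eq_one (D.Zs_central hc hr) (D.Zs_central (D.sq_mem hr) hs)⟩
  -- Step 3: the eigenvalue function
  obtain ⟨μ, hμv, hμt₀, wμ, hwμ0, hwμ⟩ := exists_common_eig h2 ρ T hTcomm hT2 _ (hcomT r₀ hr₀ s₀ hs₀)
    ht₀ne
  set Vμ : Submodule F W := eigSub ρ T μ with hVμ
  -- Step 4
  have hμmul : ∀ t ∈ T, ∀ t' ∈ T, μ (t * t') = μ t * μ t' := by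
    intro t ht t' ht'
    have h1 : ρ (t * t') wμ = μ (t * t') • wμ := hwμ _ (T.mul_mem ht ht')
    rw [hρmul, hwμ t' ht', map_smul, hwμ t ht, smul_smul] at h1
    have h3 := smul_left_injective F hwμ0 h1
    rw [← h3, mul_comm]
  have hμone : μ 1 = 1 := by
    have h1 : ρ 1 wμ = μ 1 • wμ := hwμ 1 T.one_mem
    rw [map_one] at h1
    have h3 : (1 : F) • wμ = μ 1 • wμ := by rw [one_smul]; exact h1
    exact (smul_left_injective F hwμ0 h3).symm
  have hμinv : ∀ t ∈ T, μ t⁻¹ = μ t := by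
    intro t ht
    rw [inv_eq_of_mul_eq_one_right (hT2 t ht)]
  have hVinv : ∀ g, (∀ t ∈ T, t * g = g * t) → ∀ v ∈ Vμ, ρ g v ∈ Vμ := by
    intro g hg v hv t ht
    rw [← hρmul, hg t ht, hρmul, hv t ht, map_smul]
  have hVR : ∀ r ∈ R, ∀ v ∈ Vμ, ρ r v ∈ Vμ := fun r hr => hVinv r (fun t ht => hTcen t ht r hr)
  have hVa : ∀ v ∈ Vμ, ρ a v ∈ Vμ := hVinv a hTa
  have hXT : ∀ t ∈ T, t ∈ fixSub ρ Vμ → μ t = 1 := by
    intro t ht htX
    have h1 : ρ t wμ = wμ := htX wμ hwμ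
    rw [hwμ t ht] at h1
    have h3 : μ t • wμ = (1 : F) • wμ := by rw [one_smul]; exact h1
    exact smul_left_injective F hwμ0 h3
  have hXR : ∀ x ∈ fixSub ρ Vμ, ∀ s ∈ R, x * s * x⁻¹ * s⁻¹ ∈ fixSub ρ Vμ := by
    intro x hx s hs v hv
    have h1 : ρ s⁻¹ v ∈ Vμ := hVR _ (R.inv_mem hs) v hv
    have h3 : ρ x⁻¹ (ρ s⁻¹ v) = ρ s⁻¹ v := (fixSub ρ Vμ).inv_mem hx _ h1
    rw [hρmul, hρmul, hρmul, h3, ← hρmul s, mul_inv_cancel, map_one]
    exact hx v hv
  -- Step 5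
  have hex : ∃ w₀ ∈ Vμ, (ρ a - 1) w₀ ≠ 0 := by
    by_contra hcon
    push Not at hcon
    have haX : a ∈ fixSub ρ Vμ := by
      intro v hv
      have := hcon v hv
      rw [LinearMap.sub_apply, Module.End.one_apply, sub_eq_zero] at this
      exact this
    have hle : R ≤ fixSub ρ Vμ := by
      apply D.gen
      intro r hr
      have h1 : r * a * r⁻¹ ∈ fixSub ρ Vμ := by
        intro v hv
        have h1 : ρ r⁻¹ v ∈ Vμ := hVR _ (R.inv_mem hr) v hv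
        rw [hρmul, hρmul, haX _ h1, ← hρmul, mul_inv_cancel, map_one]
        rfl
      exact (fixSub ρ Vμ).mul_mem h1 ((fixSub ρ Vμ).inv_mem haX)
    have h1 := hXT _ (hcomT r₀ hr₀ s₀ hs₀) (hle (hTR (hcomT r₀ hr₀ s₀ hs₀)))
    rw [hμt₀] at h1
    exact hne1 h1.symm
  obtain ⟨w₀, hw₀V, hw₀⟩ := hex
  have hwV : (ρ a - 1) w₀ ∈ Vμ := by
    rw [LinearMap.sub_apply, Module.End.one_apply]
    exact Vμ.sub_mem (hVa w₀ hw₀V) hw₀V
  -- Step 6
  have hμN : ∀ g ∈ N, ∀ t ∈ T, μ (g * t * g⁻¹) = μ t := by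
    intro g hg t ht
    have h1 := mu_conj_eq ρ T μ hμv g⁻¹ (fun t ht => by
      have := hTinv g hg t ht
      rwa [inv_inv]) _ hw₀ hwV (H2 g⁻¹ (N.inv_mem hg) w₀) t ht
    rwa [inv_inv] at h1
  -- Step 8: the form
  let B : Γ → Γ → F := fun r s => μ (r * s * r⁻¹ * s⁻¹)
  have hBdef : ∀ r s, B r s = μ (r * s * r⁻¹ * s⁻¹) := fun r s => rfl
  have FD : FormData N a R B := by
    refine ⟨fun r hr s hs => hμv _ (hcomT r hr s hs), ?_, ?_, ?_, ?_⟩
    · intro r hr r' hr' s hs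
      rw [hBdef, hBdef, hBdef, comm_mul_left_eq ((hTcen _ (hcomT r' hr' s hs) r hr).symm),
        hμmul _ (hcomT r' hr' s hs) _ (hcomT r hr s hs), mul_comm]
    · intro r hr s hs
      rw [hBdef, hBdef]
      have : s * r * s⁻¹ * r⁻¹ = (r * s * r⁻¹ * s⁻¹)⁻¹ := by group
      rw [this, hμinv _ (hcomT r hr s hs)]
    · intro z hz s hs
      rw [hBdef]
      have : z * s * z⁻¹ * s⁻¹ = 1 := by
        rw [D.Zs_central hz hs]; group
      rw [this, hμone]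
    · intro g hg r hr s hs
      rw [hBdef, hBdef]
      have : g * r * g⁻¹ * (g * s * g⁻¹) * (g * r * g⁻¹)⁻¹ * (g * s * g⁻¹)⁻¹ =
          g * (r * s * r⁻¹ * s⁻¹) * g⁻¹ := by group
      rw [this, hμN g hg _ (hcomT r hr s hs)]
  have hB₀ : B r₀ s₀ = -1 := hμt₀
  have hBself : ∀ r, B r r = 1 := by
    intro r
    rw [hBdef]
    have : r * r * r⁻¹ * r⁻¹ = 1 := by group
    rw [this, hμone]
  -- Step 9: nondegeneracy
  have hnondeg : ∀ r ∈ R, (∀ s ∈ R, B r s = 1) → r ∈ Zs R a := by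
    let Z' : Subgroup Γ :=
      { carrier := {r | r ∈ R ∧ ∀ s ∈ R, B r s = 1}
        one_mem' := ⟨R.one_mem, fun s hs => FD.zs 1 (Zs R a).one_mem s hs⟩
        mul_mem' := by
          rintro r r' ⟨hr, hr1⟩ ⟨hr', hr'1⟩
          refine ⟨R.mul_mem hr hr', fun s hs => ?_⟩
          rw [FD.mul_left r hr r' hr' s hs, hr1 s hs, hr'1 s hs, one_mul]
        inv_mem' := by
          rintro r ⟨hr, hr1⟩
          refine ⟨R.inv_mem hr, fun s hs => ?_⟩
          rw [FD.symm s hs _ (R.inv_mem hr), FD.inv_right hs hr, FD.symm r hr s hs]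
          exact hr1 s hs }
    have hZ'R : Z' ≤ R := fun r hr => hr.1
    have hZ'inv : ∀ n ∈ N, ∀ r ∈ Z', n * r * n⁻¹ ∈ Z' := by
      rintro n hn r ⟨hr, hr1⟩
      refine ⟨D.hinv n hn r hr, fun s hs => ?_⟩
      have hs' : n⁻¹ * s * n ∈ R := by
        have := D.hinv n⁻¹ (N.inv_mem hn) s hs
        rwa [inv_inv] at this
      have e : s = n * (n⁻¹ * s * n) * n⁻¹ := by group
      rw [e, FD.conj n hn r hr _ hs']
      exact hr1 _ hs'
    have hZ'ne : Z' ≠ R := by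
      intro h
      have : r₀ ∈ Z' := by rw [h]; exact hr₀
      have h1 := this.2 s₀ hs₀
      rw [hB₀] at h1
      exact hne1 h1.symm
    intro r hr hr1
    exact D.le_Zs hZ'R hZ'ne hZ'inv ⟨hr, hr1⟩
  -- Step 10: anisotropy
  have haniso : ∀ r ∈ R, r ∉ Zs R a → B r (a * r * a⁻¹) = -1 := by
    intro r hr hrZ
    have hu : a * r * a⁻¹ ∈ R := D.conj_a_mem hr
    have hv : a * (a * r * a⁻¹) * a⁻¹ ∈ R := D.conj_a_mem hu
    have hw : a * (a * (a * r * a⁻¹) * a⁻¹) * a⁻¹ = r := by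
      have haa : a * a = a⁻¹ := by
        apply eq_inv_of_mul_eq_one_left
        have := D.ha3
        rwa [pow_succ, pow_two] at this
      calc a * (a * (a * r * a⁻¹) * a⁻¹) * a⁻¹ = (a * a) * (a * r * a⁻¹) * (a * a)⁻¹ := by group
        _ = r := by rw [haa]; group
    rcases FD.val r hr _ hu with h1 | h1
    swap
    · exact h1
    exfalso
    obtain ⟨u, hu'⟩ : ∃ u, u = a * r * a⁻¹ := ⟨_, rfl⟩
    rw [← hu'] at hu hv hw h1
    obtain ⟨v, hv'⟩ : ∃ v, v = a * u * a⁻¹ := ⟨_, rfl⟩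
    rw [← hv'] at hv hw
    have hruv : B u v = 1 := by
      rw [hv', hu', FD.conj a D.haN r hr _ (D.conj_a_mem hr), ← hu']
      exact h1
    have hrvr : B v r = 1 := by
      have : B v r = B (a * u * a⁻¹) (a * v * a⁻¹) := by rw [← hv', hw]
      rw [this, FD.conj a D.haN u hu v hv]
      exact hruv
    set Y : Subgroup Γ := Subgroup.closure {r, u, v} with hY
    let orth : Γ → Subgroup Γ := fun y =>
      { carrier := {g | g ∈ R ∧ (y ∈ R → B g y = 1)}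
        one_mem' := ⟨R.one_mem, fun hy => FD.zs 1 (Zs R a).one_mem y hy⟩
        mul_mem' := by
          rintro g g' ⟨hg, hg1⟩ ⟨hg', hg'1⟩
          refine ⟨R.mul_mem hg hg', fun hy => ?_⟩
          rw [FD.mul_left g hg g' hg' y hy, hg1 hy, hg'1 hy, one_mul]
        inv_mem' := by
          rintro g ⟨hg, hg1⟩
          refine ⟨R.inv_mem hg, fun hy => ?_⟩
          rw [FD.symm y hy _ (R.inv_mem hg), FD.inv_right hy hg, FD.symm g hg y hy]
          exact hg1 hy }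
    have horth : ∀ y g, g ∈ orth y ↔ g ∈ R ∧ (y ∈ R → B g y = 1) := fun y g => Iff.rfl
    have hYgen : ∀ X : Subgroup Γ, r ∈ X → u ∈ X → v ∈ X → Y ≤ X := by
      intro X h1 h2 h3
      rw [hY, Subgroup.closure_le]
      intro g hg
      rcases hg with rfl | rfl | rfl
      · exact h1
      · exact h2
      · exact h3
    have hrY : r ∈ Y := Subgroup.subset_closure (by simp)
    have huY : u ∈ Y := Subgroup.subset_closure (by simp)
    have hvY : v ∈ Y := Subgroup.subset_closure (by simp)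
    have hYR : Y ≤ R := hYgen R hr hu hv
    have hY1 : ∀ y ∈ Y, B y r = 1 ∧ B y u = 1 ∧ B y v = 1 := by
      intro y hy
      have e1 : Y ≤ orth r := hYgen _ ⟨hr, fun _ => hBself r⟩
        ⟨hu, fun _ => by rw [FD.symm r hr u hu]; exact h1⟩ ⟨hv, fun _ => hrvr⟩
      have e2 : Y ≤ orth u := hYgen _ ⟨hr, fun _ => h1⟩ ⟨hu, fun _ => hBself u⟩
        ⟨hv, fun _ => by rw [FD.symm u hu v hv]; exact hruv⟩
      have e3 : Y ≤ orth v := hYgen _ ⟨hr, fun _ => by rw [FD.symm v hv r hr]; exact hrvr⟩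
        ⟨hu, fun _ => hruv⟩ ⟨hv, fun _ => hBself v⟩
      exact ⟨(e1 hy).2 hr, (e2 hy).2 hu, (e3 hy).2 hv⟩
    have hY2 : ∀ y ∈ Y, ∀ y' ∈ Y, B y' y = 1 := by
      intro y hy y' hy'
      have hyR := hYR hy
      obtain ⟨b1, b2, b3⟩ := hY1 y hy
      have e : Y ≤ orth y := hYgen _ ⟨hr, fun _ => by rw [FD.symm y hyR r hr]; exact b1⟩
        ⟨hu, fun _ => by rw [FD.symm y hyR u hu]; exact b2⟩
        ⟨hv, fun _ => by rw [FD.symm y hyR v hv]; exact b3⟩
      exact (e hy').2 hyR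
    have hYa : ∀ f ∈ Y, a * f * a⁻¹ ∈ Y := by
      have h1 : Y ≤ Y.comap (MulAut.conj a).toMonoidHom := by
        apply hYgen
        · show (MulAut.conj a) r ∈ Y
          rw [MulAut.conj_apply, ← hu']; exact huY
        · show (MulAut.conj a) u ∈ Y
          rw [MulAut.conj_apply, ← hv']; exact hvY
        · show (MulAut.conj a) v ∈ Y
          rw [MulAut.conj_apply, hw]; exact hrY
      intro f hf
      have := h1 hf
      rwa [Subgroup.mem_comap, MulEquiv.coe_toMonoidHom, MulAut.conj_apply] at this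
    have hactY : ∃ f ∈ Y, ∃ u' ∈ Vμ, ρ (f * a * f⁻¹ * a⁻¹) u' ≠ u' := by
      refine ⟨r, hrY, ?_⟩
      by_contra hall
      push Not at hall
      have hcX : r * a * r⁻¹ * a⁻¹ ∈ fixSub ρ Vμ := hall
      have hcR : r * a * r⁻¹ * a⁻¹ ∈ R := D.comm_mem hr
      apply hrZ
      apply D.fpf hr
      apply hnondeg _ hcR
      intro s hs
      exact hXT _ (hcomT _ hcR s hs) (hXR _ hcX s hs)
    obtain ⟨-, -, f, hf, f', hf', u', hu'V, hne⟩ := quad_core_act (F := F) (p := 3) (q := 2)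
      (by norm_num) (by norm_num) ρ Vμ Y a (D.hR2.to_le hYR) hYa D.ha3
      (fun f hf => hVR f (hYR hf)) hVa hactY (fun u _ => H1 u)
    apply hne
    have hfR := hYR hf
    have hf'R := hYR hf'
    have e : f * f' = (f * f' * f⁻¹ * f'⁻¹) * (f' * f) := by group
    have hmem : ρ (f' * f) u' ∈ Vμ := hVR _ (R.mul_mem hf'R hfR) u' hu'V
    rw [e, hρmul, hmem _ (hcomT f hfR f' hf'R)]
    have : μ (f * f' * f⁻¹ * f'⁻¹) = 1 := hY2 f' hf' f hf
    rw [this, one_smul]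
  exact form_contra D FD haniso h2 haNN

end Cfsg.Agent.Lib.Helper29.HHDer
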