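import Cfsg.Agent.Lib.Helper29.HHDerE
import Cfsg.Agent.Lib.Helper29.QuadPairAct
import Cfsg.Agent.Lib.Helper12.Basic

/-!
helper29: the key lemma for `l_p ≤ d_p`: in a `p`-soluble group `Γ` with `O_p(Γ) = 1` acting faithfully
on an elementary abelian `p`-group, a `p`-subgroup `N` whose derived group acts "quadratically" in the
appropriate sense is abelian.
-/

set_option autoImplicit false

namespace Cfsg.Agent.Lib.Helper29.HHDer

open scoped Pointwise
open Module Cfsg.Agent.Lib.Helper1 Cfsg.Agent.Lib.Helper1.HB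

universe u

section Select

variable {Γ : Type*} [Group Γ] [Finite Γ]

set_option maxHeartbeats 800000 in
/-- an `N`-invariant `q`-subgroup not centralized by `a`. -/
theorem exists_inv_qsub (p : ℕ) [Fact p.Prime] (hsol : Cfsg.IsPSolvable p Γ)
    (hOp : Cfsg.pCore p Γ = ⊥) (N : Subgroup Γ) (hN : IsPGroup p N) (a : Γ) (hap : a ^ p = 1)
    (ha1 : a ≠ 1) :
    ∃ (q : ℕ) (_ : q.Prime) (Q : Subgroup Γ), q ≠ p ∧ IsPGroup q Q ∧
      (∀ n ∈ N, ∀ f ∈ Q, n * f * n⁻¹ ∈ Q) ∧ ∃ f ∈ Q, f * a ≠ a * f := by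
  classical
  have hp : p.Prime := Fact.out
  set N₀ : Subgroup Γ := Cfsg.pPrimeCore p Γ with hN₀
  haveI hN₀n : N₀.Normal := Cfsg.Agent.Lib.Helper24.pPrimeCore_normal' p
  have hcop : (Nat.card N₀).Coprime p := Cfsg.Agent.Lib.Helper12.pPrimeCore_coprime p
  have haN₀ : a ∉ N₀ := by
    intro hmem
    have h1 : orderOf a ∣ p := orderOf_dvd_of_pow_eq_one hap
    have h2 : orderOf a ∣ Nat.card N₀ := by
      have := orderOf_dvd_natCard (⟨a, hmem⟩ : N₀)
      rwa [Subgroup.orderOf_mk] at this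
    have h3 : orderOf a ∣ 1 := by
      have := Nat.dvd_gcd h2 h1
      rwa [hcop.gcd_eq_one] at this
    exact ha1 (orderOf_eq_one_iff.mp (Nat.dvd_one.mp h3))
  have haC : a ∉ Subgroup.centralizer (N₀ : Set Γ) := fun h =>
    haN₀ (Cfsg.Agent.Lib.Helper8.DualHH.centralizer_pPrimeCore_le p hsol hOp h)
  set C : Subgroup N₀ := (Subgroup.centralizer ({a} : Set Γ)).subgroupOf N₀ with hC
  have hCmem : ∀ g : N₀, g ∈ C ↔ a * (g : Γ) = (g : Γ) * a := by
    intro g
    rw [hC, Subgroup.mem_subgroupOf, Subgroup.mem_centralizer_iff]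
    constructor
    · intro h
      exact h a (Set.mem_singleton _)
    · intro h y hy
      rw [Set.mem_singleton_iff] at hy
      rw [hy]
      exact h
  have hCtop : C ≠ ⊤ := by
    intro h
    apply haC
    rw [Subgroup.mem_centralizer_iff]
    intro g hg
    have : (⟨g, hg⟩ : N₀) ∈ C := by rw [h]; exact Subgroup.mem_top _
    exact ((hCmem _).mp this).symm
  have hCdvd : Nat.card C ∣ Nat.card N₀ := Subgroup.card_subgroup_dvd_card C
  have hCcard : Nat.card C ≠ Nat.card N₀ := fun h => hCtop (Subgroup.card_eq_iff_eq_top C |>.mp h)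
  have hN₀pos : Nat.card N₀ ≠ 0 := Nat.card_pos.ne'
  have hCpos : Nat.card C ≠ 0 := Nat.card_pos.ne'
  obtain ⟨q, hq, hqC⟩ : ∃ q : ℕ, q.Prime ∧ ¬ q ^ (Nat.card N₀).factorization q ∣ Nat.card C := by
    by_contra hall
    push Not at hall
    apply hCcard
    apply Nat.dvd_antisymm hCdvd
    rw [← Nat.factorization_le_iff_dvd hN₀pos hCpos]
    intro q
    by_cases hq : q.Prime
    · exact (hq.pow_dvd_iff_le_factorization hCpos).mp (hall q hq)
    · rw [Nat.factorization_eq_zero_of_not_prime _ hq]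
      exact Nat.zero_le _
  have hqN₀ : q ∣ Nat.card N₀ := by
    by_contra hnd
    apply hqC
    rw [Nat.factorization_eq_zero_of_not_dvd hnd, pow_zero]
    exact one_dvd _
  have hqp : q ≠ p := by
    rintro rfl
    exact (Nat.Prime.coprime_iff_not_dvd hq).mp hcop.symm hqN₀
  haveI : Fact q.Prime := ⟨hq⟩
  -- the automorphisms induced by `N`
  set A : Subgroup (MulAut N₀) := N.map (MulAut.conjNormal (H := N₀)) with hA
  have hAp : IsPGroup p A := hN.map _
  have hndvd : ¬ p ∣ Nat.card (Sylow q N₀) := by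
    intro hdvd
    obtain ⟨P⟩ : Nonempty (Sylow q N₀) := inferInstance
    have h1 : Nat.card (Sylow q N₀) ∣ Nat.card N₀ :=
      (Sylow.card_dvd_index P).trans (Subgroup.index_dvd_card _)
    exact (Nat.Prime.coprime_iff_not_dvd hp).mp hcop.symm (hdvd.trans h1)
  obtain ⟨S, hS⟩ := hAp.nonempty_fixed_point_of_prime_not_dvd_card (Sylow q N₀) hndvd
  rw [MulAction.mem_fixedPoints] at hS
  have hkey : ∀ n ∈ N, ∀ s : N₀, s ∈ (S : Subgroup N₀) →
      (MulAut.conjNormal n : MulAut N₀) s ∈ (S : Subgroup N₀) := by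
    intro n hn s hs
    have hk : (MulAut.conjNormal n : MulAut N₀) ∈ A := ⟨n, hn, rfl⟩
    have h1 : (MulAut.conjNormal n : MulAut N₀) • S = S := hS ⟨_, hk⟩
    have h2 : ((MulAut.conjNormal n : MulAut N₀) • S : Sylow q N₀).toSubgroup = (S : Subgroup N₀) := by
      rw [h1]
    rw [Sylow.pointwise_smul_def] at h2
    have h3 : (MulAut.conjNormal n : MulAut N₀) • s ∈ (MulAut.conjNormal n : MulAut N₀) • (S : Subgroup N₀) :=
      Subgroup.smul_mem_pointwise_smul s _ _ hs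
    rw [h2] at h3
    exact h3
  set Q : Subgroup Γ := (S : Subgroup N₀).map N₀.subtype with hQ
  have hQmem : ∀ g (hg : g ∈ N₀), g ∈ Q ↔ (⟨g, hg⟩ : N₀) ∈ (S : Subgroup N₀) := by
    intro g hg
    constructor
    · rintro ⟨g', hg', hgg'⟩
      have : g' = ⟨g, hg⟩ := Subtype.ext hgg'
      rw [← this]
      exact hg'
    · intro h
      exact ⟨⟨g, hg⟩, h, rfl⟩
  have hQN₀ : Q ≤ N₀ := Subgroup.map_subtype_le _
  refine ⟨q, hq, Q, hqp, S.isPGroup'.map _, ?_, ?_⟩
  · intro n hn g hg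
    have hgN := hQN₀ hg
    have h1 := hkey n hn ⟨g, hgN⟩ ((hQmem g hgN).mp hg)
    have h2 : ((MulAut.conjNormal n : MulAut N₀) ⟨g, hgN⟩ : Γ) = n * g * n⁻¹ :=
      MulAut.conjNormal_apply _ _
    rw [← h2]
    exact ⟨_, h1, rfl⟩
  · have hScard : Nat.card (S : Subgroup N₀) = q ^ (Nat.card N₀).factorization q :=
      Sylow.card_eq_multiplicity S
    have hSC : ¬ (S : Subgroup N₀) ≤ C := by
      intro hle
      apply hqC
      rw [← hScard]
      exact Subgroup.card_dvd_of_le hle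
    obtain ⟨s, hs, hsC⟩ := SetLike.not_le_iff_exists.mp hSC
    refine ⟨(s : Γ), ⟨s, hs, rfl⟩, ?_⟩
    intro h1
    apply hsC
    rw [hCmem]
    exact h1.symm

end Select

section Key

variable {Γ : Type*} [Group Γ] [Finite Γ]

set_option maxHeartbeats 800000 in
/-- the key lemma, for a representation. -/
theorem key_rep {p : ℕ} [Fact p.Prime] (hp2 : p ≠ 2) {F : Type*} [Field F] [CharP F p]
    {W : Type*} [AddCommGroup W] [Module F W] [Finite W] (ρ : Representation F Γ W)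
    (hρ : ∀ g, ρ g = 1 → g = 1) (hsol : Cfsg.IsPSolvable p Γ) (hOp : Cfsg.pCore p Γ = ⊥)
    (N : Subgroup Γ) (hN : IsPGroup p N)
    (H1 : ∀ a ∈ ⁅N, N⁆, ∀ a' ∈ ⁅N, N⁆, ∀ w, (ρ a - 1) ((ρ a' - 1) w) = 0)
    (H2 : ∀ n₁ ∈ N, ∀ n₂ ∈ N, ∀ a ∈ ⁅N, N⁆, ∀ w, (ρ a - 1) ((ρ n₂ - 1) ((ρ n₁ - 1) w)) = 0) :
    ⁅N, N⁆ = ⊥ := by
  classical
  have hp : p.Prime := Fact.out
  by_contra hne
  -- a nontrivial central element of `N` in `[N, N]`
  have hcomm_ne : _root_.commutator N ≠ ⊥ := by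
    intro h
    apply hne
    rw [← Subgroup.map_subtype_commutator, h, Subgroup.map_bot]
  obtain ⟨x, hxc, hx1, hxz⟩ := Cfsg.Agent.Lib.Helper12.exists_ne_one_mem_center_of_normal hN
    (_root_.commutator N) hcomm_ne
  set a : Γ := (x : Γ) with ha
  have haN : a ∈ N := x.2
  have haNN : a ∈ ⁅N, N⁆ := by
    rw [← Subgroup.map_subtype_commutator]
    exact ⟨x, hxc, rfl⟩
  have ha1 : a ≠ 1 := by
    intro h
    apply hx1
    exact Subtype.ext h
  have hcen : ∀ n ∈ N, n * a = a * n := by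
    intro n hn
    have := Subgroup.mem_center_iff.mp hxz ⟨n, hn⟩
    exact congrArg Subtype.val this
  -- `a ^ p = 1`
  have hnn : (ρ a - 1) * (ρ a - 1) = 0 := LinearMap.ext (fun w => H1 a haNN a haNN w)
  have hap : a ^ p = 1 := by
    apply hρ
    obtain ⟨n, hn⟩ : ∃ n : Module.End F W, n = ρ a - 1 := ⟨_, rfl⟩
    have e : ρ a = 1 + n := by rw [hn]; abel
    have hnn' : n * n = 0 := by rw [hn]; exact hnn
    have hpow : ∀ k : ℕ, (1 + n) ^ k = 1 + k • n := by
      intro k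
      induction k with
      | zero => simp
      | succ k ih =>
        rw [pow_succ, ih, mul_add, mul_one, add_mul, one_mul, smul_mul_assoc, hnn', smul_zero,
          add_zero, succ_nsmul]
        abel
    rw [map_pow, e, hpow, ← Nat.cast_smul_eq_nsmul F, CharP.cast_eq_zero F p, zero_smul, add_zero]
  -- an invariant `q`-subgroup
  obtain ⟨q, hq, Q, hqp, hQq, hQinv, f, hf, hfa⟩ := exists_inv_qsub p hsol hOp N hN a hap ha1
  haveI : Fact q.Prime := ⟨hq⟩
  have hact0 : ∃ f ∈ Q, ∃ u ∈ (⊤ : Submodule F W), ρ (f * a * f⁻¹ * a⁻¹) u ≠ u := by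
    refine ⟨f, hf, ?_⟩
    by_contra hall
    push Not at hall
    apply hfa
    have h1 : ρ (f * a * f⁻¹ * a⁻¹) = 1 := LinearMap.ext (fun u => hall u Submodule.mem_top)
    have h3 := hρ _ h1
    calc f * a = (f * a * f⁻¹ * a⁻¹) * a * f := by group
      _ = a * f := by rw [h3, one_mul]
  obtain ⟨hp3, hq2, -⟩ := quad_core_act (F := F) (p := p) (q := q) hqp.symm hp2 ρ ⊤ Q a hQq
    (fun f hf => hQinv a haN f hf) hap (fun _ _ _ _ => Submodule.mem_top)
    (fun _ _ => Submodule.mem_top) hact0 (fun u _ => H1 a haNN a haNN u)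
  subst hp3
  subst hq2
  have ha3 : a ^ 3 = 1 := hap
  obtain ⟨R, -, D⟩ := exists_minData N a haN hcen ha3 Q hQq hQinv ⟨f, hf, hfa⟩
  refine p3_contra ρ hρ N a R D haNN (fun w => H1 a haNN a haNN w) ?_
  intro n hn w
  have hc : Commute (ρ a - 1) (ρ n - 1) := by
    have h0 : Commute (ρ a) (ρ n) := by
      show ρ a * ρ n = ρ n * ρ a
      rw [← map_mul, ← map_mul, hcen n hn]
    exact (h0.sub_left (Commute.one_left _)).sub_right (Commute.one_right _)
  have h1 : (ρ n - 1) * (ρ n - 1) * (ρ a - 1) = (ρ a - 1) * ((ρ n - 1) * (ρ n - 1)) :=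
    ((hc.mul_right hc).eq).symm
  have h2 := LinearMap.congr_fun h1 w
  simp only [Module.End.mul_apply] at h2
  rw [h2]
  exact H2 n hn n hn a haNN w

/-- the key lemma, for an action on an elementary abelian group. -/
theorem key_act {p : ℕ} [Fact p.Prime] (hp2 : p ≠ 2) {E : Type u} [CommGroup E] [Finite E]
    (hE : ∀ x : E, x ^ p = 1) (act : Γ →* MulAut E) (hinj : Function.Injective act)
    (hsol : Cfsg.IsPSolvable p Γ) (hOp : Cfsg.pCore p Γ = ⊥) (N : Subgroup Γ) (hN : IsPGroup p N)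
    (H1 : ∀ a ∈ ⁅N, N⁆, ∀ a' ∈ ⁅N, N⁆, ∀ v : E, act a (act a' v / v) = act a' v / v)
    (H2 : ∀ n₁ ∈ N, ∀ n₂ ∈ N, ∀ a ∈ ⁅N, N⁆, ∀ v : E,
      act a (act n₂ (act n₁ v / v) / (act n₁ v / v)) = act n₂ (act n₁ v / v) / (act n₁ v / v)) :
    ⁅N, N⁆ = ⊥ := by
  obtain ⟨iM, ρ₀, hρ₀⟩ := Cfsg.Agent.Lib.Helper29.QuadPair.exists_rep (p := p) hE act
  have hsub : ∀ (g : Γ) (x : Additive E),
      (ρ₀ g - 1) x = Additive.ofMul (act g (Additive.toMul x) / Additive.toMul x) := by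
    intro g x
    rw [LinearMap.sub_apply, Module.End.one_apply, hρ₀]
    rfl
  refine key_rep hp2 ρ₀ ?_ hsol hOp N hN ?_ ?_
  · intro g hg
    apply hinj
    rw [map_one]
    ext v
    have h1 := LinearMap.congr_fun hg (Additive.ofMul v)
    rw [hρ₀] at h1
    exact Additive.ofMul.injective h1
  · intro a ha a' ha' w
    rw [hsub a' w, hsub a, toMul_ofMul, H1 a ha a' ha', div_self']
    rfl
  · intro n₁ hn₁ n₂ hn₂ a ha w
    rw [hsub n₁ w, hsub n₂, toMul_ofMul, hsub a, toMul_ofMul, H2 n₁ hn₁ n₂ hn₂ a ha, div_self']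
    rfl

end Key

end Cfsg.Agent.Lib.Helper29.HHDer
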