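import Cfsg.Agent.Lib.Helper29.HHDerF
import Cfsg.Agent.Lib.Helper1.HW6
import Cfsg.Agent.Lib.Helper1.DerivedSub
import Cfsg.Agent.Lib.Helper20.ExpPLenF

/-!
helper29: `p`-length is at most the derived length of the Sylow `p`-subgroups, `p` odd
(Hall--Higman).
-/

set_option autoImplicit false

namespace Cfsg.Agent.Lib.Helper29.HHDer

open Cfsg Cfsg.Agent.Lib.Helper1.PLen Cfsg.Agent.Lib.Helper20.ExpPLen
open scoped commutatorElement

universe u

section Dser

variable {X : Type*} [Group X]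

theorem comm_self_le (H : Subgroup X) : ⁅H, H⁆ ≤ H :=
  Subgroup.commutator_le.mpr (fun g₁ h₁ g₂ h₂ => by
    rw [commutatorElement_def]
    exact H.mul_mem (H.mul_mem (H.mul_mem h₁ h₂) (H.inv_mem h₁)) (H.inv_mem h₂))

theorem dser_succ_le (H : Subgroup X) (n : ℕ) : dser H (n + 1) ≤ dser H n := by
  rw [dser_succ]
  exact comm_self_le _

theorem dser_le (H : Subgroup X) (n : ℕ) : dser H n ≤ H := by
  induction n with
  | zero => exact le_rfl
  | succ n ih => exact (dser_succ_le H n).trans ih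

theorem dser_conj_mem (H : Subgroup X) (n : ℕ) {g x : X} (hg : g ∈ H) (hx : x ∈ dser H n) :
    g * x * g⁻¹ ∈ dser H n := by
  have h0 : H.map (MulAut.conj g).toMonoidHom = H := by
    ext y
    constructor
    · rintro ⟨z, hz, rfl⟩
      show (MulAut.conj g) z ∈ H
      rw [MulAut.conj_apply]
      exact H.mul_mem (H.mul_mem hg hz) (H.inv_mem hg)
    · intro hy
      refine ⟨g⁻¹ * y * g, H.mul_mem (H.mul_mem (H.inv_mem hg) hy) hg, ?_⟩
      show (MulAut.conj g) (g⁻¹ * y * g) = y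
      rw [MulAut.conj_apply]
      group
  have h1 : (dser H n).map (MulAut.conj g).toMonoidHom = dser H n := by
    rw [map_dser, h0]
  rw [← h1]
  exact ⟨x, hx, by rw [MulEquiv.coe_toMonoidHom, MulAut.conj_apply]⟩

end Dser

section Step

variable {X : Type u} [Group X] [Finite X]

set_option maxHeartbeats 1600000 in
/-- the derived length step -/
theorem der_core_step (p : ℕ) [hp : Fact p.Prime] (hp2 : p ≠ 2) [hn : (pCore p X).Normal]
    (hsol : IsPSolvable p X) (hO : pPrimeCore p X = ⊥) (P : Sylow p X) (d : ℕ)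
    (hd : dser (P : Subgroup X) (d + 1) = ⊥) : dser (P : Subgroup X) d ≤ pCore p X := by
  have hR : IsPGroup p ↥(pCore p X) := Cfsg.Agent.Lib.Helper1.pCore_isPGroup p X
  have hRP : pCore p X ≤ (P : Subgroup X) := Cfsg.Agent.Lib.Helper1.pCore_le_sylow P
  rcases d with _ | d
  · rw [dser_zero]
    intro g hg
    apply Cfsg.Agent.Lib.Helper12.centralizer_pCore_le_pCore p hsol hO
    rw [Subgroup.mem_centralizer_iff]
    intro r hr
    have h1 : ⁅r, g⁆ ∈ ⁅(P : Subgroup X), (P : Subgroup X)⁆ :=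
      Subgroup.commutator_mem_commutator (hRP hr) hg
    rw [zero_add, dser_succ, dser_zero] at hd
    rw [hd, Subgroup.mem_bot] at h1
    exact commutatorElement_eq_one_iff_mul_comm.mp h1
  · letI := Cfsg.Agent.Lib.Helper26.fqCommGroup hR
    have hsol' : IsPSolvable p (X ⧸ pCore p X) :=
      Cfsg.Agent.Lib.Helper24.isPSolvable_of_surjective p _ (QuotientGroup.mk'_surjective _) hsol
    have hOp' : pCore p (X ⧸ pCore p X) = ⊥ := pcore_quot_eq_bot p
    set NX : Subgroup X := dser (P : Subgroup X) d with hNX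
    set AX : Subgroup X := dser (P : Subgroup X) (d + 1) with hAX
    have hAXeq : AX = ⁅NX, NX⁆ := dser_succ _ _
    have hAA : ⁅AX, AX⁆ = ⊥ := by rw [← dser_succ]; exact hd
    have hNXP : NX ≤ (P : Subgroup X) := dser_le _ _
    have hAXN : AX ≤ NX := dser_succ_le _ _
    have hAXP : AX ≤ (P : Subgroup X) := dser_le _ _
    have hcommAX : ∀ x ∈ AX, ∀ y ∈ AX, x * y = y * x := by
      intro x hx y hy
      have h1 : ⁅x, y⁆ ∈ ⁅AX, AX⁆ := Subgroup.commutator_mem_commutator hx hy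
      rw [hAA, Subgroup.mem_bot] at h1
      exact commutatorElement_eq_one_iff_mul_comm.mp h1
    set π : X →* X ⧸ pCore p X := QuotientGroup.mk' (pCore p X) with hπ
    set N : Subgroup (X ⧸ pCore p X) := NX.map π with hN
    have hNN : ⁅N, N⁆ = AX.map π := by
      rw [hN, ← Subgroup.map_commutator, ← hAXeq]
    have hNp : IsPGroup p N := (P.isPGroup'.to_le hNXP).map π
    have hconj : ∀ (g : X) (r : ↥(pCore p X)),
        fqAct p (π g) (QuotientGroup.mk r) = QuotientGroup.mk ((MulAut.conjNormal (H := pCore p X) g) r) :=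
      fun g r => fqAct_mk p g r
    have hdiv : ∀ (g : X) (r : ↥(pCore p X)),
        fqAct p (π g) (QuotientGroup.mk r) / QuotientGroup.mk r =
          (QuotientGroup.mk ((MulAut.conjNormal (H := pCore p X) g) r / r) :
            ↥(pCore p X) ⧸ frattini ↥(pCore p X)) := by
      intro g r
      rw [hconj]
      rfl
    have hcval : ∀ (g : X) (r : ↥(pCore p X)),
        (((MulAut.conjNormal (H := pCore p X) g) r / r : ↥(pCore p X)) : X) = g * r * g⁻¹ * (r : X)⁻¹ := by
      intro g r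
      rw [Subgroup.coe_div, MulAut.conjNormal_apply, div_eq_mul_inv]
    have hfix : ∀ (g : X) (c : ↥(pCore p X)), g * (c : X) = (c : X) * g →
        fqAct p (π g) (QuotientGroup.mk c) = QuotientGroup.mk c := by
      intro g c hgc
      rw [hconj]
      congr 1
      apply Subtype.ext
      rw [MulAut.conjNormal_apply, hgc]
      group
    have key := key_act hp2 (E := ↥(pCore p X) ⧸ frattini ↥(pCore p X))
      (Cfsg.Agent.Lib.Helper26.fq_pow hR) (fqAct p) (Cfsg.Agent.Lib.Helper1.HW.fqAct_injective p hsol hO)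
      hsol' hOp' N hNp
      (by
        intro a ha a' ha' v
        rw [hNN] at ha ha'
        obtain ⟨α, hα, rfl⟩ := ha
        obtain ⟨α', hα', rfl⟩ := ha'
        obtain ⟨r, rfl⟩ := QuotientGroup.mk_surjective v
        rw [hdiv]
        apply hfix
        rw [hcval]
        have hc : α' * r * α'⁻¹ * (r : X)⁻¹ ∈ AX := by
          have e : α' * r * α'⁻¹ * (r : X)⁻¹ = α' * ((r : X) * α'⁻¹ * (r : X)⁻¹) := by group
          rw [e]
          exact AX.mul_mem hα' (dser_conj_mem _ _ (hRP r.2) (AX.inv_mem hα'))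
        exact hcommAX α hα _ hc)
      (by
        intro n₁ hn₁ n₂ hn₂ a ha v
        rw [hNN] at ha
        obtain ⟨α, hα, rfl⟩ := ha
        obtain ⟨ν₁, hν₁, rfl⟩ := hn₁
        obtain ⟨ν₂, hν₂, rfl⟩ := hn₂
        obtain ⟨r, rfl⟩ := QuotientGroup.mk_surjective v
        rw [hdiv, hdiv]
        apply hfix
        rw [hcval, hcval]
        have hc₁ : ν₁ * r * ν₁⁻¹ * (r : X)⁻¹ ∈ NX := by
          have e : ν₁ * r * ν₁⁻¹ * (r : X)⁻¹ = ν₁ * ((r : X) * ν₁⁻¹ * (r : X)⁻¹) := by group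
          rw [e]
          exact NX.mul_mem hν₁ (dser_conj_mem _ _ (hRP r.2) (NX.inv_mem hν₁))
        have hc₂ : ν₂ * (ν₁ * r * ν₁⁻¹ * (r : X)⁻¹) * ν₂⁻¹ * (ν₁ * r * ν₁⁻¹ * (r : X)⁻¹)⁻¹ ∈ AX := by
          rw [hAXeq, ← commutatorElement_def]
          exact Subgroup.commutator_mem_commutator hν₂ hc₁
        exact hcommAX α hα _ hc₂)
    intro x hx
    have h1 : π x ∈ AX.map π := ⟨x, hx, rfl⟩
    rw [← hNN, key, Subgroup.mem_bot] at h1
    exact (QuotientGroup.eq_one_iff x).mp h1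

end Step

section Main

theorem plength_le_der (p : ℕ) [hp : Fact p.Prime] (hp2 : p ≠ 2) :
    ∀ (d : ℕ) (G : Type u) [Group G] [Finite G], IsPSolvable p G →
      (∃ P : Sylow p G, dser (P : Subgroup G) d = ⊥) → PLengthLE p d G := by
  intro d
  induction d with
  | zero =>
    intro G _ _ _ hP
    obtain ⟨P, hP⟩ := hP
    rw [dser_zero] at hP
    apply Cfsg.Agent.Lib.Helper1.PLen.pLengthLE_zero_of_coprime p
    rw [Nat.coprime_comm, Nat.Prime.coprime_iff_not_dvd hp.out]
    intro hdvd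
    exact P.ne_bot_of_dvd_card hdvd hP
  | succ d ih =>
    intro G _ _ hsol hP
    obtain ⟨P, hP⟩ := hP
    haveI hU : (pPrimeCore p G).Normal := Cfsg.Agent.Lib.Helper24.pPrimeCore_normal' p
    have hsolX : IsPSolvable p (G ⧸ pPrimeCore p G) :=
      Cfsg.Agent.Lib.Helper24.isPSolvable_of_surjective p _ (QuotientGroup.mk'_surjective _) hsol
    have hOX : pPrimeCore p (G ⧸ pPrimeCore p G) = ⊥ :=
      Cfsg.Agent.Lib.Helper24.pPrimeCore_quotient_eq_bot' p
    haveI hPn : (pCore p (G ⧸ pPrimeCore p G)).Normal := Cfsg.Agent.Lib.Helper24.pCore_normal' p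
    set P' : Sylow p (G ⧸ pPrimeCore p G) :=
      P.mapSurjective (QuotientGroup.mk'_surjective (pPrimeCore p G)) with hP'
    have hP'd : dser (P' : Subgroup (G ⧸ pPrimeCore p G)) (d + 1) = ⊥ := by
      rw [hP', Sylow.coe_mapSurjective, ← map_dser, hP, Subgroup.map_bot]
    have h1 := der_core_step p hp2 hsolX hOX P' d hP'd
    set P'' : Sylow p ((G ⧸ pPrimeCore p G) ⧸ pCore p (G ⧸ pPrimeCore p G)) :=
      P'.mapSurjective (QuotientGroup.mk'_surjective (pCore p (G ⧸ pPrimeCore p G))) with hP''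
    have hP''d : dser (P'' : Subgroup ((G ⧸ pPrimeCore p G) ⧸ pCore p (G ⧸ pPrimeCore p G))) d = ⊥ := by
      rw [hP'', Sylow.coe_mapSurjective, ← map_dser, eq_bot_iff]
      rintro _ ⟨x, hx, rfl⟩
      rw [Subgroup.mem_bot]
      exact (QuotientGroup.eq_one_iff x).mpr (h1 hx)
    have h2 : PLengthLE p d ((G ⧸ pPrimeCore p G) ⧸ pCore p (G ⧸ pPrimeCore p G)) :=
      ih _ (Cfsg.Agent.Lib.Helper24.isPSolvable_of_surjective p _ (QuotientGroup.mk'_surjective _) hsolX)
        ⟨P'', hP''d⟩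
    have h3 : PLengthLE p 1 ↥(pCore p (G ⧸ pPrimeCore p G)) :=
      Cfsg.Agent.Lib.Helper1.PLen.pLengthLE_one_of_isPGroup p (Cfsg.Agent.Lib.Helper1.pCore_isPGroup p _)
    have h4 : PLengthLE p (1 + d) (G ⧸ pPrimeCore p G) :=
      Cfsg.Agent.Lib.Helper1.PLen.pLengthLE_of_extension p (pCore p (G ⧸ pPrimeCore p G)) h3 h2
    have h5 : PLengthLE p 0 ↥(pPrimeCore p G) :=
      Cfsg.Agent.Lib.Helper1.PLen.pLengthLE_zero_of_coprime p (Cfsg.Agent.Lib.Helper12.pPrimeCore_coprime p)
    have h6 : PLengthLE p (0 + (1 + d)) G :=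
      Cfsg.Agent.Lib.Helper1.PLen.pLengthLE_of_extension p (pPrimeCore p G) h5 h4
    have e : 0 + (1 + d) = d + 1 := by omega
    rw [e] at h6
    exact h6

end Main

end Cfsg.Agent.Lib.Helper29.HHDer
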