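import Mathlib
import Cfsg.Agent.Lib.Helper24.HKKDefs
import Cfsg.Agent.Lib.Helper24.HKKBasic

/-!
# Higman–Kreknin–Kostrikin, leaf HKD (helper29, for S3779 of helper24)

`ZMod 2`- and `ZMod 3`-graded Lie rings with zero `0`-component are abelian, resp. nilpotent of
class at most `2`.
-/

set_option autoImplicit false

open Cfsg.Agent.Lib.Helper24.HKK

namespace Cfsg.Agent.Lib.Helper29.HKKLeaf

section general

variable {p : ℕ} [NeZero p] {L : Type*} [LieRing L]

/-- Homogeneous elements of opposite degrees commute (the `0`-component is zero). -/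
theorem lie_pi_eq_zero (gr : Grading p L) (a b : ZMod p) (h : a + b = 0) (x y : L) :
    ⁅gr.π a x, gr.π b y⁆ = 0 := by
  rw [← gr.lie a b x y, h, gr.zero]

/-- A double bracket of homogeneous elements of total degree `0` vanishes. -/
theorem lie_lie_pi_eq_zero (gr : Grading p L) (a b c : ZMod p) (h : a + b + c = 0) (x y z : L) :
    ⁅⁅gr.π a x, gr.π b y⁆, gr.π c z⁆ = 0 := by
  rw [← gr.lie a b x y]
  exact lie_pi_eq_zero gr (a + b) c h _ z

/-- Expansion of a double bracket into homogeneous components. -/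
theorem lie_lie_eq_sum (gr : Grading p L) (x y z : L) :
    ⁅⁅x, y⁆, z⁆ = ∑ a, ∑ b, ∑ c, ⁅⁅gr.π a x, gr.π b y⁆, gr.π c z⁆ := by
  rw [gr.lie_eq_sum x y, sum_lie]
  refine Finset.sum_congr rfl fun a _ => ?_
  rw [sum_lie]
  refine Finset.sum_congr rfl fun b _ => ?_
  conv_lhs => rw [← gr.sum z]
  rw [lie_sum]

end general

/-- KD2: `p = 2`. -/
theorem lcs_two {L : Type*} [LieRing L] (gr : Grading 2 L) : lcs (⊤ : AddSubgroup L) 1 = ⊥ := by
  have key : ∀ a b : ZMod 2, a = 0 ∨ b = 0 ∨ a + b = 0 := by decide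
  show brk (⊤ : AddSubgroup L) ⊤ = ⊥
  refine le_bot_iff.1 (brk_le fun x _ y _ => ?_)
  rw [AddSubgroup.mem_bot, gr.lie_eq_sum x y]
  refine Finset.sum_eq_zero fun a _ => Finset.sum_eq_zero fun b _ => ?_
  rcases key a b with h | h | h
  · rw [h, gr.zero, zero_lie]
  · rw [h, gr.zero, lie_zero]
  · exact lie_pi_eq_zero gr a b h x y

/-- KD3: `p = 3`. -/
theorem lcs_three {L : Type*} [LieRing L] (gr : Grading 3 L) : lcs (⊤ : AddSubgroup L) 2 = ⊥ := by
  have key : ∀ a b c : ZMod 3, a = 0 ∨ b = 0 ∨ c = 0 ∨ a + b = 0 ∨ a + b + c = 0 ∨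
      (b + c = 0 ∧ a + c = 0) := by decide
  have h3 : ∀ x y z : L, ⁅⁅x, y⁆, z⁆ = 0 := by
    intro x y z
    rw [lie_lie_eq_sum gr x y z]
    refine Finset.sum_eq_zero fun a _ => Finset.sum_eq_zero fun b _ =>
      Finset.sum_eq_zero fun c _ => ?_
    rcases key a b c with h | h | h | h | h | ⟨h1, h2⟩
    · rw [h, gr.zero, zero_lie, zero_lie]
    · rw [h, gr.zero, lie_zero, zero_lie]
    · rw [h, gr.zero, lie_zero]
    · rw [lie_pi_eq_zero gr a b h, zero_lie]
    · exact lie_lie_pi_eq_zero gr a b c h x y z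
    · rw [lie_lie, lie_pi_eq_zero gr b c h1, lie_pi_eq_zero gr a c h2, lie_zero, lie_zero,
        sub_zero]
  show brk (brk (⊤ : AddSubgroup L) ⊤) ⊤ = ⊥
  refine le_bot_iff.1 (brk_le fun w hw z _ => ?_)
  rw [AddSubgroup.mem_bot]
  unfold brk at hw
  induction hw using AddSubgroup.closure_induction with
  | mem w hw =>
    obtain ⟨x, _, y, _, rfl⟩ := hw
    exact h3 x y z
  | zero => exact zero_lie z
  | add a b _ _ ha hb => rw [add_lie, ha, hb, add_zero]
  | neg a _ ha => rw [neg_lie, ha, neg_zero]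

end Cfsg.Agent.Lib.Helper29.HKKLeaf
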