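import Mathlib
import Cfsg.Prelude.Def_KGroupFacts
import Cfsg.Prelude.Def_Spor_HN

/-!
# S2082 leaf S (helper29): the automorphism `σ : x ↦ x, y ↦ y, z ↦ z x², t ↦ t²` of `Spor.HN`
-/

set_option autoImplicit false
set_option linter.unusedVariables false

namespace Cfsg.Agent.Lib.Helper29.HnO

open Cfsg Cfsg.Spor

/-- the relators of `Spor.HN` as a set -/
abbrev hnRels : Set (FreeGroup HN.Gen) := coxRelators HN.edges ∪ {r | r ∈ HN.extra}

/-- the images of the generators under `σ` -/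
def sigGen (gx gy gz gt : Spor.HN) : HN.Gen → Spor.HN
  | HN.Gen.x => gx
  | HN.Gen.y => gy
  | HN.Gen.z => gz * (gx * gx)
  | HN.Gen.t => gt ^ 2

section
variable {G : Type*} [Group G]

/-- relators 7-10, 12, 13 for the images, in an arbitrary group -/
theorem rel7 {z a : G} (haz : a * z = z * a) (ha2 : a * a = 1) (h : z ^ 2 = 1) : (z * a) ^ 2 = 1 := by
  have hc : Commute z a := haz.symm
  rw [hc.mul_pow, h, pow_two, ha2, one_mul]

theorem rel8 {x z a : G} (hax : a * x = x * a) (haz : a * z = z * a) (ha2 : a * a = 1)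
    (h : (z * x) ^ 2 = 1) : (z * a * x) ^ 2 = 1 := by
  have hc : Commute a (z * x) := (show Commute a z from haz).mul_right (show Commute a x from hax)
  have e : z * a * x = a * (z * x) := by rw [← haz, mul_assoc]
  rw [e, hc.mul_pow, h, pow_two, ha2, one_mul]

theorem rel9 {z a W X : G} (haz : a * z = z * a) (haW : a * W = W * a) (haX : a * X = X * a)
    (h : z⁻¹ * W⁻¹ * z * W * X⁻¹ = 1) : (z * a)⁻¹ * W⁻¹ * (z * a) * W * X⁻¹ = 1 := by
  have e : (z * a)⁻¹ * W⁻¹ * (z * a) * W * X⁻¹ = a⁻¹ * (z⁻¹ * W⁻¹ * z * W * X⁻¹) * a := by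
    have h1 : a * W * X⁻¹ = W * X⁻¹ * a := by
      have hX : Commute a X⁻¹ := (show Commute a X from haX).inv_right
      rw [haW, mul_assoc, hX.eq, ← mul_assoc]
    calc (z * a)⁻¹ * W⁻¹ * (z * a) * W * X⁻¹
        = a⁻¹ * z⁻¹ * W⁻¹ * z * (a * W * X⁻¹) := by group
      _ = a⁻¹ * z⁻¹ * W⁻¹ * z * (W * X⁻¹ * a) := by rw [h1]
      _ = a⁻¹ * (z⁻¹ * W⁻¹ * z * W * X⁻¹) * a := by group
  rw [e, h, mul_one, inv_mul_cancel]

theorem rel10 {x z a V : G} (hax : a * x = x * a) (haz : a * z = z * a) (haV : a * V = V * a)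
    (ha2 : a * a = 1) (h : z * ((V⁻¹ * z * V) * x) ^ 3 = 1) :
    (z * a) * ((V⁻¹ * (z * a) * V) * x) ^ 3 = 1 := by
  have hV : Commute a V := haV
  have hQ : Commute a ((V⁻¹ * z * V) * x) :=
    (((hV.inv_right).mul_right (show Commute a z from haz)).mul_right hV).mul_right
      (show Commute a x from hax)
  have e1 : (V⁻¹ * (z * a) * V) * x = a * ((V⁻¹ * z * V) * x) := by
    have : V⁻¹ * (z * a) * V = a * (V⁻¹ * z * V) := by
      have h1 : z * a = a * z := haz.symm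
      have h2 : V⁻¹ * a = a * V⁻¹ := (hV.inv_right).eq.symm
      rw [h1, ← mul_assoc, h2]
      group
    rw [this, mul_assoc]
  have ha3 : a ^ 3 = a := by
    rw [pow_succ, pow_two, ha2, one_mul]
  rw [e1, hQ.mul_pow, ha3]
  calc z * a * (a * ((V⁻¹ * z * V) * x) ^ 3)
      = z * (a * a) * ((V⁻¹ * z * V) * x) ^ 3 := by group
    _ = 1 := by rw [ha2, mul_one, h]

theorem rel12 {x t : G} (h : x⁻¹ * t * x * t ^ 2 = 1) : x⁻¹ * t ^ 2 * x * (t ^ 2) ^ 2 = 1 := by
  have h1 : x⁻¹ * t * x = (t ^ 2)⁻¹ := eq_inv_of_mul_eq_one_left h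
  have h2 : x⁻¹ * t ^ 2 * x = (x⁻¹ * t * x) ^ 2 := by
    rw [pow_two, pow_two]; group
  rw [h2, h1, inv_pow, inv_mul_cancel]

theorem rel13 {y t : G} (h : t⁻¹ * y⁻¹ * t * y = 1) : (t ^ 2)⁻¹ * y⁻¹ * t ^ 2 * y = 1 := by
  have hc : Commute t y := by
    show t * y = y * t
    have h1 : t⁻¹ * y⁻¹ * (t * y) = 1 := by rw [← h]; group
    have h2 : t * y = (t⁻¹ * y⁻¹)⁻¹ := eq_inv_of_mul_eq_one_right h1
    rw [h2]; group
  have hc2 : Commute (t ^ 2) y := hc.pow_left 2
  calc (t ^ 2)⁻¹ * y⁻¹ * t ^ 2 * y = (t ^ 2)⁻¹ * y⁻¹ * (t ^ 2 * y) := by group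
    _ = (t ^ 2)⁻¹ * y⁻¹ * (y * t ^ 2) := by rw [hc2.eq]
    _ = 1 := by group

end

/-- membership of the `i`-th extra relator -/
theorem mk_extra_eq_one {r : FreeGroup HN.Gen} (hr : r ∈ HN.extra) :
    PresentedGroup.mk hnRels r = 1 :=
  PresentedGroup.one_of_mem (Or.inr hr)

/-- **LEAF S** (`σ` exists). -/
theorem exists_sigma [Finite Spor.HN]
    (gx gy gz gt : Spor.HN) (hgx : gx = PresentedGroup.mk hnRels HN.x)
    (hgy : gy = PresentedGroup.mk hnRels HN.y) (hgz : gz = PresentedGroup.mk hnRels HN.z)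
    (hgt : gt = PresentedGroup.mk hnRels HN.t)
    (hay : gx * gx * gy = gy * (gx * gx)) (haz : gx * gx * gz = gz * (gx * gx))
    (ha2 : gx * gx * (gx * gx) = 1)
    (hrel : (gz * (gx * gx) * gt ^ 2) ^ 3 = 1) :
    ∃ σ : MulAut Spor.HN, σ gx = gx ∧ σ gy = gy ∧ σ gz = gz * (gx * gx) ∧ σ gt = gt ^ 2 := by
  -- the defining relations, for `gx gy gz gt`
  have key : ∀ r ∈ HN.extra, (PresentedGroup.mk hnRels r : Spor.HN) = 1 :=
    fun r hr => mk_extra_eq_one hr
  have R1 := key (HN.y ^ 6) (by simp [HN.extra])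
  have R2 := key ((HN.x ^ 2) * HN.y * (HN.x ^ 2) * (HN.y⁻¹)) (by simp [HN.extra])
  have R3 := key ((HN.x⁻¹ * HN.y⁻¹ * HN.x * HN.y) ^ 3) (by simp [HN.extra])
  have R4 := key (((HN.x⁻¹) * (HN.y ^ 2) * HN.x * (HN.y ^ 3)) ^ 3) (by simp [HN.extra])
  have R5 := key ((HN.x * HN.y) ^ 8) (by simp [HN.extra])
  have R6 := key ((HN.x * HN.y * HN.x * (HN.y ^ 3)) ^ 4) (by simp [HN.extra])
  have R7 := key (HN.z ^ 2) (by simp [HN.extra])
  have R8 := key ((HN.z * HN.x) ^ 2) (by simp [HN.extra])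
  have R9 := key ((HN.z⁻¹ * (HN.y * HN.x * HN.y * HN.x * (HN.y ^ 2) * HN.x * (HN.y⁻¹))⁻¹ * HN.z *
      (HN.y * HN.x * HN.y * HN.x * (HN.y ^ 2) * HN.x * (HN.y⁻¹))) * ((HN.x ^ 2)⁻¹)) (by simp [HN.extra])
  have R10 := key (HN.z * (((((HN.y ^ 3) * HN.x * HN.y * HN.x * HN.y)⁻¹ * HN.z *
      ((HN.y ^ 3) * HN.x * HN.y * HN.x * HN.y)) * HN.x) ^ 3)) (by simp [HN.extra])
  have R11 := key (HN.t ^ 5) (by simp [HN.extra])
  have R12 := key ((HN.x⁻¹ * HN.t * HN.x) * (HN.t ^ 2)) (by simp [HN.extra])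
  have R13 := key (HN.t⁻¹ * HN.y⁻¹ * HN.t * HN.y) (by simp [HN.extra])
  have R14 := key ((HN.z * HN.t) ^ 3) (by simp [HN.extra])
  simp only [map_mul, map_pow, map_inv, ← hgx, ← hgy, ← hgz, ← hgt]
    at R1 R2 R3 R4 R5 R6 R7 R8 R9 R10 R11 R12 R13 R14
  have hax : gx * gx * gx = gx * (gx * gx) := mul_assoc gx gx gx
  have cax : Commute (gx * gx) gx := hax
  have cay : Commute (gx * gx) gy := hay
  -- the images of the generators satisfy the relators
  have hlift : ∀ r ∈ hnRels, FreeGroup.lift (sigGen gx gy gz gt) r = 1 := by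
    rintro r (hr | hr)
    · obtain ⟨u, hu, _⟩ := hr
      simp [coxNodes, HN.edges] at hu
    · have hr' : r ∈ HN.extra := hr
      simp only [HN.extra, List.mem_cons, List.not_mem_nil, or_false] at hr'
      rcases hr' with rfl | rfl | rfl | rfl | rfl | rfl | rfl | rfl | rfl | rfl | rfl | rfl | rfl | rfl
      · simp only [map_pow, HN.y, FreeGroup.lift_apply_of, sigGen]; exact R1
      · simp only [map_mul, map_pow, map_inv, HN.x, HN.y, FreeGroup.lift_apply_of, sigGen]; exact R2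
      · simp only [map_mul, map_pow, map_inv, HN.x, HN.y, FreeGroup.lift_apply_of, sigGen]; exact R3
      · simp only [map_mul, map_pow, map_inv, HN.x, HN.y, FreeGroup.lift_apply_of, sigGen]; exact R4
      · simp only [map_mul, map_pow, HN.x, HN.y, FreeGroup.lift_apply_of, sigGen]; exact R5
      · simp only [map_mul, map_pow, HN.x, HN.y, FreeGroup.lift_apply_of, sigGen]; exact R6
      · simp only [map_pow, HN.z, FreeGroup.lift_apply_of, sigGen]
        exact rel7 haz ha2 R7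
      · simp only [map_mul, map_pow, HN.x, HN.z, FreeGroup.lift_apply_of, sigGen]
        exact rel8 hax haz ha2 R8
      · simp only [map_mul, map_pow, map_inv, HN.x, HN.y, HN.z, FreeGroup.lift_apply_of, sigGen]
        have cW : Commute (gx * gx) (gy * gx * gy * gx * gy ^ 2 * gx * gy⁻¹) :=
          ((((((cay.mul_right cax).mul_right cay).mul_right cax).mul_right
            (cay.pow_right 2)).mul_right cax).mul_right cay.inv_right)
        have cX : Commute (gx * gx) (gx ^ 2) := cax.pow_right 2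
        exact rel9 haz cW.eq cX.eq R9
      · simp only [map_mul, map_pow, map_inv, HN.x, HN.y, HN.z, FreeGroup.lift_apply_of, sigGen]
        have cV : Commute (gx * gx) (gy ^ 3 * gx * gy * gx * gy) :=
          (((((cay.pow_right 3).mul_right cax).mul_right cay).mul_right cax).mul_right cay)
        exact rel10 hax haz cV.eq ha2 R10
      · simp only [map_pow, HN.t, FreeGroup.lift_apply_of, sigGen]
        rw [← pow_mul, mul_comm, pow_mul, R11, one_pow]
      · simp only [map_mul, map_pow, map_inv, HN.x, HN.t, FreeGroup.lift_apply_of, sigGen]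
        exact rel12 R12
      · simp only [map_mul, map_inv, HN.y, HN.t, FreeGroup.lift_apply_of, sigGen]
        exact rel13 R13
      · simp only [map_mul, map_pow, HN.z, HN.t, FreeGroup.lift_apply_of, sigGen]
        exact hrel
  let σ₀ : Spor.HN →* Spor.HN := PresentedGroup.toGroup hlift
  have hσx : σ₀ gx = gx := by
    calc σ₀ gx = σ₀ (PresentedGroup.of HN.Gen.x) := by rw [hgx]; rfl
      _ = sigGen gx gy gz gt HN.Gen.x := PresentedGroup.toGroup.of hlift
      _ = gx := rfl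
  have hσy : σ₀ gy = gy := by
    calc σ₀ gy = σ₀ (PresentedGroup.of HN.Gen.y) := by rw [hgy]; rfl
      _ = sigGen gx gy gz gt HN.Gen.y := PresentedGroup.toGroup.of hlift
      _ = gy := rfl
  have hσz : σ₀ gz = gz * (gx * gx) := by
    calc σ₀ gz = σ₀ (PresentedGroup.of HN.Gen.z) := by rw [hgz]; rfl
      _ = sigGen gx gy gz gt HN.Gen.z := PresentedGroup.toGroup.of hlift
      _ = gz * (gx * gx) := rfl
  have hσt : σ₀ gt = gt ^ 2 := by
    calc σ₀ gt = σ₀ (PresentedGroup.of HN.Gen.t) := by rw [hgt]; rfl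
      _ = sigGen gx gy gz gt HN.Gen.t := PresentedGroup.toGroup.of hlift
      _ = gt ^ 2 := rfl
  -- surjectivity
  have hsurj : Function.Surjective σ₀ := by
    rw [← MonoidHom.range_eq_top, eq_top_iff, ← PresentedGroup.closure_range_of hnRels,
      Subgroup.closure_le]
    rintro _ ⟨g, rfl⟩
    cases g
    · exact ⟨gx, by rw [hσx, hgx]; rfl⟩
    · exact ⟨gy, by rw [hσy, hgy]; rfl⟩
    · refine ⟨gz * (gx * gx)⁻¹, ?_⟩
      rw [map_mul, map_inv, map_mul, hσz, hσx, mul_inv_cancel_right, hgz]; rfl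
    · refine ⟨gt ^ 3, ?_⟩
      rw [map_pow, hσt, ← pow_mul]
      have : gt ^ (2 * 3) = gt := by
        rw [show 2 * 3 = 5 + 1 from rfl, pow_succ, R11, one_mul]
      rw [this, hgt]; rfl
  have hinj : Function.Injective σ₀ := Finite.injective_iff_surjective.2 hsurj
  refine ⟨MulEquiv.ofBijective σ₀ ⟨hinj, hsurj⟩, ?_, ?_, ?_, ?_⟩
  · exact hσx
  · exact hσy
  · exact hσz
  · exact hσt


end Cfsg.Agent.Lib.Helper29.HnO
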