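/-
helper29: S4715 leaves (NM) `sum_irr_conj_secFun`, `sum_secFun_conj_secFun`, `contrib_diag_nonneg`
(frozen statements `notes/S4715_leaves.lean`): the class function `θ = secFun p z C (decFun C e z χ)` of the
subsection `(z, e)` satisfies `⟨χ, θ⟩ = ⟨θ, θ⟩ = μ_{χχ}` (unnormalised: times `|G|`), and the diagonal
contribution `μ_{χχ}` is a non-negative real.
-/
import Mathlib
import Cfsg.Agent.Lib.Helper6.HtBoundDefs
import Cfsg.Agent.Lib.Helper23.MajSubLI
import Cfsg.Agent.Lib.Helper6.StabIndex

set_option autoImplicit false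
set_option linter.unusedSectionVars false
set_option linter.unusedVariables false

namespace Cfsg.Agent.Lib.Helper29.HtBoundNM

open Cfsg Cfsg.Agent.CharLib Cfsg.Agent.Lib.Helper24 Cfsg.Agent.Lib.Helper6 Cfsg.Agent.Lib.Helper23
open Cfsg.Agent.Lib.Helper23.Subsec Cfsg.Agent.Lib.Helper27.MajSub
open Cfsg.Agent.Lib.Helper23.MajSubOM Cfsg.Agent.Lib.Helper23.MajSubH5
open Cfsg.Agent.Lib.Helper6.HtBound
open scoped ComplexConjugate

universe u w

variable {G : Type u} [Group G] [Fintype G] {M : Ideal AlgInt} {p : ℕ} [hpp : Fact p.Prime]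

/-- complex conjugation commutes with `secFun` -/
theorem conj_secFun (z : G) (C : Subgroup G) [Fintype C] (F : C → ℂ) (g : G) :
    conj (secFun p z C F g) = secFun p z C (fun s => conj (F s)) g := by
  classical
  unfold secFun
  rw [map_mul, map_inv₀, Complex.conj_natCast, map_sum]
  congr 1
  apply Finset.sum_congr rfl
  intro x _
  rw [map_sum]
  apply Finset.sum_congr rfl
  intro s _
  split_ifs
  · rfl
  · exact map_zero _

theorem conj_isClassFunction {X : Type u} [Group X] (F : X → ℂ) (hF : IsClassFunction X F) :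
    IsClassFunction X (fun s => conj (F s)) := by
  intro g h
  show conj (F (h * g * h⁻¹)) = conj (F g)
  rw [hF g h]

/-! ## (NM) the class function of a subsection: norms -/
theorem sum_irr_conj_secFun (hM : IsPModular p M) (z : G) (hz : ∃ k : ℕ, orderOf z = p ^ k)
    (C : Subgroup G) [Fintype C] (hC : C = Subgroup.centralizer ({z} : Set G))
    (e : Set (IrrCharacter C)) (he : IsPBlock M e) (χ : IrrCharacter G) :
    ∑ g : G, (χ : G → ℂ) g * conj (secFun p z C (decFun C e z χ) g) =
      (Nat.card G : ℂ) * contrib p C e z χ χ := by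
  have hcomm : ∀ c ∈ C, c * z = z * c := by
    intro c hc
    rw [hC, Subgroup.mem_centralizer_singleton_iff] at hc
    exact hc
  have hΦ : IsClassFunction G (χ : G → ℂ) := fun g h => irr_conj χ g h
  have h1 : ∑ g : G, (χ : G → ℂ) g * conj (secFun p z C (decFun C e z χ) g) =
      ∑ g : G, secFun p z C (fun s => conj (decFun C e z χ s)) g * (χ : G → ℂ) g := by
    apply Finset.sum_congr rfl
    intro g _
    rw [conj_secFun, mul_comm]
  rw [h1, sum_secFun_mul z C _ (χ : G → ℂ) hΦ, contrib_eq_sum_left hM z C hcomm e he χ χ]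
  congr 2
  apply Finset.sum_congr rfl
  intro s _
  split_ifs
  · rfl
  · ring

theorem sum_secFun_conj_secFun (hM : IsPModular p M) (z : G) (hz : ∃ k : ℕ, orderOf z = p ^ k)
    (C : Subgroup G) [Fintype C] (hC : C = Subgroup.centralizer ({z} : Set G))
    (e : Set (IrrCharacter C)) (he : IsPBlock M e) (χ : IrrCharacter G) :
    ∑ g : G, secFun p z C (decFun C e z χ) g * conj (secFun p z C (decFun C e z χ) g) =
      (Nat.card G : ℂ) * contrib p C e z χ χ := by
  have hFcls : IsClassFunction C (decFun C e z χ) := blockPart_isClassFunction e _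
  have hΦ : IsClassFunction G (fun g => conj (secFun p z C (decFun C e z χ) g)) :=
    conj_isClassFunction _ (secFun_isClassFunction z C _)
  rw [sum_secFun_mul z C (decFun C e z χ)
    (fun g => conj (secFun p z C (decFun C e z χ) g)) hΦ]
  unfold contrib
  congr 2
  apply Finset.sum_congr rfl
  intro s _
  split_ifs with hs
  · rfl
  · have h2 : secFun p z C (decFun C e z χ) (z * (s : G)) = decFun C e z χ s := by
      have h3 := secFun_eq_of_conj z hz C hC (decFun C e z χ) hFcls 1 s hs
      rwa [one_mul, inv_one, mul_one] at h3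
    show decFun C e z χ s * conj (secFun p z C (decFun C e z χ) (z * (s : G))) = _
    rw [h2]

theorem contrib_diag_nonneg (z : G) (C : Subgroup G) [Fintype C] (e : Set (IrrCharacter C))
    (χ : IrrCharacter G) :
    0 ≤ (contrib p C e z χ χ).re ∧ (contrib p C e z χ χ).im = 0 := by
  have hterm : ∀ s : C, (if p ∣ orderOf s then (0 : ℂ)
      else decFun C e z χ s * conj (decFun C e z χ s)) =
      (((if p ∣ orderOf s then (0 : ℝ) else Complex.normSq (decFun C e z χ s)) : ℝ) : ℂ) := by
    intro s
    split_ifs
    · exact Complex.ofReal_zero.symm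
    · exact Complex.mul_conj _
  have h : contrib p C e z χ χ = (((Nat.card C : ℝ)⁻¹ *
      ∑ s : C, (if p ∣ orderOf s then (0 : ℝ) else Complex.normSq (decFun C e z χ s)) : ℝ) : ℂ) := by
    unfold contrib
    rw [Finset.sum_congr rfl (fun s _ => hterm s), Complex.ofReal_mul, Complex.ofReal_inv,
      Complex.ofReal_natCast, Complex.ofReal_sum]
  rw [h]
  constructor
  · rw [Complex.ofReal_re]
    apply mul_nonneg (inv_nonneg.mpr (Nat.cast_nonneg _))
    apply Finset.sum_nonneg
    intro s _
    split_ifs
    · exact le_rfl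
    · exact Complex.normSq_nonneg _
  · exact Complex.ofReal_im _

end Cfsg.Agent.Lib.Helper29.HtBoundNM
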