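/-
helper29: S3928 leaf G (planner helper25), twin: Brauer–Fowler for a nonabelian minimal normal
subgroup.  `|N| ≤ (c (c+1))!` where `c ≥ |C_H(a)|`, `a` an involution (or `a = 1`).
-/
import Cfsg.Agent.Lib.Helper25.InvAutDefs
import Cfsg.Agent.Lib.Helper29.DCG6a
import Cfsg.Agent.Lib.Helper7.DCG1

set_option autoImplicit false

universe u

namespace Cfsg.Agent.Lib.Helper29.IAG

open Cfsg Cfsg.Agent.S0233 Cfsg.Agent.Lib.Helper29.DCG6a
open scoped commutatorElement

/-- Brauer–Fowler for a perfect minimal normal subgroup with trivial centralizer. -/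
theorem card_minimal_normal_le_of_involution {Y : Type u} [Group Y] [Finite Y] (S : Subgroup Y)
    [S.Normal] (hminS : ∀ M : Subgroup Y, M.Normal → M ≤ S → M = ⊥ ∨ M = S)
    (hperf : ⁅S, S⁆ = S)
    (hcent : Subgroup.centralizer (S : Set Y) = ⊥) (t : Y) (ht : orderOf t = 2) (c : ℕ)
    (hc : Nat.card (Subgroup.centralizer ({t} : Set Y)) ≤ c) :
    Nat.card S ≤ (c * (c + 1)).factorial := by
  classical
  have : Fintype Y := Fintype.ofFinite Y
  have hinv : (invs Y).Nonempty := ⟨t, (mem_invs t).mpr ht⟩
  obtain ⟨x, hx1, -, hlt⟩ := core (G := Y) hinv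
  have hcardI : Nat.card {s : Y // orderOf s = 2} = (invs Y).card := by
    rw [Nat.card_eq_fintype_card, Fintype.card_subtype]
    rfl
  have hk := Cfsg.Agent.S0212.card_le_invs_mul_cent t ht
  rw [hcardI] at hk
  set n := (invs Y).card with hn
  set m := Nat.card Y with hm
  set h := (extCent x).index with hh
  have hnpos : 0 < n := Finset.card_pos.mpr hinv
  have hk' : m ≤ n * c := le_trans hk (Nat.mul_le_mul_left _ hc)
  have h4 : m * (m + n) ≤ n ^ 2 * (c * (c + 1)) := by
    calc m * (m + n) ≤ (n * c) * (n * c + n) :=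
          Nat.mul_le_mul hk' (Nat.add_le_add_right hk' n)
      _ = n ^ 2 * (c * (c + 1)) := by ring
  have h5 : h ≤ c * (c + 1) := by
    have h6 : n ^ 2 * (2 * h) < n ^ 2 * (c * (c + 1)) := by
      calc n ^ 2 * (2 * h) = 2 * h * n ^ 2 := by ring
        _ < m * (m + n) := hlt
        _ ≤ _ := h4
    have := lt_of_mul_lt_mul_left h6 (Nat.zero_le _)
    omega
  -- `S` is not contained in `C*(x)`
  have hnle : ¬ S ≤ extCent x := by
    intro hle
    have h7 := le_cent_of_le_extCent S hperf x hle
    have hx : x ∈ Subgroup.centralizer (S : Set Y) := by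
      rw [Subgroup.mem_centralizer_iff]
      intro s hs
      have := h7 hs
      rw [Subgroup.mem_centralizer_iff] at this
      exact (this x rfl).symm
    rw [hcent, Subgroup.mem_bot] at hx
    exact hx1 hx
  -- the core of `C*(x)` meets `S` trivially
  have hcore : S ⊓ (extCent x).normalCore = ⊥ := by
    have hnorm : (S ⊓ (extCent x).normalCore).Normal := inferInstance
    rcases hminS _ hnorm inf_le_left with h0 | h0
    · exact h0
    · exfalso
      apply hnle
      have : S ≤ (extCent x).normalCore := by
        rw [← h0]; exact inf_le_right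
      exact le_trans this (Subgroup.normalCore_le _)
  -- `S` embeds in the symmetric group of the cosets
  let f : S →* Equiv.Perm (Y ⧸ extCent x) := (MulAction.toPermHom Y (Y ⧸ extCent x)).comp S.subtype
  have hf : Function.Injective f := by
    rw [injective_iff_map_eq_one]
    intro s hs
    have h1 : (s : Y) ∈ (MulAction.toPermHom Y (Y ⧸ extCent x)).ker := by
      rw [MonoidHom.mem_ker]
      exact hs
    rw [← Subgroup.normalCore_eq_ker] at h1
    have h2 : (s : Y) ∈ S ⊓ (extCent x).normalCore := ⟨s.2, h1⟩
    rw [hcore, Subgroup.mem_bot] at h2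
    exact Subtype.ext h2
  have h8 := Nat.card_le_card_of_injective f hf
  rw [Nat.card_perm, ← Subgroup.index_eq_card] at h8
  exact le_trans h8 (Nat.factorial_le h5)

/-- LEAF G. -/
theorem card_le_of_minimal_normal_nonabelian {H : Type u} [Group H] [Finite H] (a : H)
    (ha : a * a = 1) (c : ℕ) (hc : Nat.card (Subgroup.centralizer ({a} : Set H)) ≤ c)
    (N : Subgroup H) [N.Normal]
    (hmin : ∀ M : Subgroup H, M.Normal → M ≤ N → M = ⊥ ∨ M = N)
    (hnc : ¬ ∀ x ∈ N, ∀ y ∈ N, x * y = y * x) :
    Nat.card N ≤ (c * (c + 1)).factorial := by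
  classical
  set C := Subgroup.centralizer (N : Set H) with hC
  have hCn : C.Normal := inferInstance
  -- `N ⊓ C = ⊥`
  have hNC : N ⊓ C = ⊥ := by
    have hnorm : (N ⊓ C).Normal := inferInstance
    rcases hmin _ hnorm inf_le_left with h0 | h0
    · exact h0
    · exfalso
      apply hnc
      intro x hx y hy
      have hy' : y ∈ C := by
        have : y ∈ N ⊓ C := by rw [h0]; exact hy
        exact this.2
      rw [hC, Subgroup.mem_centralizer_iff] at hy'
      exact hy' x hx
  -- `N` is perfect
  have hperfN : ⁅N, N⁆ = N := by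
    have hnorm : (⁅N, N⁆ : Subgroup H).Normal := inferInstance
    rcases hmin _ hnorm (Subgroup.commutator_le_left N N) with h0 | h0
    · exfalso
      apply hnc
      intro x hx y hy
      have h1 : ⁅x, y⁆ ∈ (⁅N, N⁆ : Subgroup H) := Subgroup.commutator_mem_commutator hx hy
      rw [h0, Subgroup.mem_bot, commutatorElement_eq_one_iff_mul_comm] at h1
      exact h1
    · exact h0
  -- trivial case: `c` is at most the bound
  have hcle : c ≤ (c * (c + 1)).factorial := by
    calc c ≤ c * (c + 1) := Nat.le_mul_of_pos_right c (Nat.succ_pos c)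
      _ ≤ (c * (c + 1)).factorial := Nat.self_le_factorial _
  by_cases haC : a ∈ C
  · -- `N` centralizes `a`
    have hle : N ≤ Subgroup.centralizer ({a} : Set H) := by
      intro n hn
      rw [Subgroup.mem_centralizer_iff]
      intro y hy
      rw [Set.mem_singleton_iff] at hy
      subst hy
      rw [hC, Subgroup.mem_centralizer_iff] at haC
      exact (haC n hn).symm
    have h1 : Nat.card N ≤ Nat.card (Subgroup.centralizer ({a} : Set H)) :=
      Subgroup.card_le_of_le hle
    exact le_trans h1 (le_trans hc hcle)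
  · -- the quotient `Y = H ⧸ C`
    set π := QuotientGroup.mk' C with hπ
    have hπs : Function.Surjective π := QuotientGroup.mk'_surjective C
    set S := N.map π with hS
    have hSn : S.Normal := Subgroup.Normal.map inferInstance π hπs
    have hperfS : ⁅S, S⁆ = S := by
      rw [hS, ← Subgroup.map_commutator, hperfN]
    -- `C_Y(S) = 1`
    have hcentS : Subgroup.centralizer (S : Set (H ⧸ C)) = ⊥ := by
      rw [eq_bot_iff]
      intro ybar hy
      obtain ⟨y, rfl⟩ := hπs ybar
      rw [Subgroup.mem_bot]
      have hyC : y ∈ C := by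
        rw [hC, Subgroup.mem_centralizer_iff]
        intro n hn
        -- the commutator lies in `N ⊓ C`
        have h1 : n * y * n⁻¹ * y⁻¹ ∈ N := by
          have h2 : y * n⁻¹ * y⁻¹ ∈ N := by
            have := (inferInstance : N.Normal).conj_mem n⁻¹ (N.inv_mem hn) y
            exact this
          have h3 : n * y * n⁻¹ * y⁻¹ = n * (y * n⁻¹ * y⁻¹) := by group
          rw [h3]
          exact N.mul_mem hn h2
        have h4 : n * y * n⁻¹ * y⁻¹ ∈ C := by
          rw [← QuotientGroup.eq_one_iff, ← QuotientGroup.mk'_apply, ← hπ]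
          rw [Subgroup.mem_centralizer_iff] at hy
          have h5 := hy (π n) ⟨n, hn, rfl⟩
          simp only [map_mul, map_inv]
          rw [h5]
          group
        have h6 : n * y * n⁻¹ * y⁻¹ ∈ N ⊓ C := ⟨h1, h4⟩
        rw [hNC, Subgroup.mem_bot] at h6
        have h7 : n * y = (n * y * n⁻¹ * y⁻¹) * (y * n) := by group
        rw [h7, h6, one_mul]
      rw [hπ, QuotientGroup.mk'_apply, QuotientGroup.eq_one_iff]
      exact hyC
    -- minimality of `S`
    have hminS : ∀ M : Subgroup (H ⧸ C), M.Normal → M ≤ S → M = ⊥ ∨ M = S := by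
      intro Mb hMb hle
      have hnorm : (Mb.comap π ⊓ N).Normal := by
        have : (Mb.comap π).Normal := hMb.comap π
        infer_instance
      rcases hmin _ hnorm inf_le_right with h0 | h0
      · left
        rw [eq_bot_iff]
        intro mb hmb
        obtain ⟨n, hn, rfl⟩ := hle hmb
        have h1 : n ∈ Mb.comap π ⊓ N := ⟨hmb, hn⟩
        rw [h0, Subgroup.mem_bot] at h1
        rw [Subgroup.mem_bot, h1, map_one]
      · right
        apply le_antisymm hle
        rintro _ ⟨n, hn, rfl⟩
        have h1 : n ∈ Mb.comap π ⊓ N := by rw [h0]; exact hn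
        exact h1.1
    -- the involution
    have hta : π a ≠ 1 := by
      intro h1
      apply haC
      rw [hπ, QuotientGroup.mk'_apply, QuotientGroup.eq_one_iff] at h1
      exact h1
    have ht2 : orderOf (π a) = 2 := by
      apply orderOf_eq_prime
      · rw [pow_two, ← map_mul, ha, map_one]
      · exact hta
    have hcY : Nat.card (Subgroup.centralizer ({π a} : Set (H ⧸ C))) ≤ c :=
      le_trans (Cfsg.Agent.Lib.Helper7.DCG1.card_centralizer_quotient_singleton_le C a) hc
    have hSle := card_minimal_normal_le_of_involution S hminS hperfS hcentS (π a) ht2 c hcY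
    -- `|N| ≤ |S|`
    have hNS : Nat.card N ≤ Nat.card S := by
      let g : N → S := fun n => ⟨π n, ⟨n, n.2, rfl⟩⟩
      apply Nat.card_le_card_of_injective g
      intro n n' hnn
      have h1 : π (n : H) = π (n' : H) := congrArg Subtype.val hnn
      have h2 : (n : H)⁻¹ * (n' : H) ∈ C := by
        rw [← QuotientGroup.eq_one_iff, ← QuotientGroup.mk'_apply, ← hπ, map_mul, map_inv, h1]
        group
      have h3 : (n : H)⁻¹ * (n' : H) ∈ N ⊓ C := ⟨N.mul_mem (N.inv_mem n.2) n'.2, h2⟩
      rw [hNC, Subgroup.mem_bot] at h3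
      apply Subtype.ext
      calc (n : H) = n * ((n : H)⁻¹ * n') := by rw [h3, mul_one]
        _ = n' := by group
    exact le_trans hNS hSle

end Cfsg.Agent.Lib.Helper29.IAG
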