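import Mathlib
import Cfsg.Agent.Lib.Helper7.SimpleTools

set_option autoImplicit false
set_option linter.style.haveILetI false
set_option linter.unusedSectionVars false

open Equiv

namespace Cfsg.Agent.Lib.Helper29.ImprimMax

variable {Ω : Type*} [Fintype Ω] [DecidableEq Ω] {a b : ℕ}

omit [Fintype Ω] [DecidableEq Ω] in
theorem inv_apply_self' (g : Perm Ω) (x : Ω) : g⁻¹ (g x) = x := g.symm_apply_apply x

omit [Fintype Ω] [DecidableEq Ω] in
theorem apply_inv_self' (g : Perm Ω) (x : Ω) : g (g⁻¹ x) = x := g.apply_symm_apply x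

/-- permutations preserving the partition into fibres of `f` -/
def W (f : Ω → Fin b) : Subgroup (Perm Ω) where
  carrier := {g | ∀ x y : Ω, f x = f y ↔ f (g x) = f (g y)}
  mul_mem' := by
    intro g h hg hh x y
    exact (hh x y).trans (hg (h x) (h y))
  one_mem' := fun x y => Iff.rfl
  inv_mem' := by
    intro g hg x y
    have := hg (g⁻¹ x) (g⁻¹ y)
    simpa using this.symm

theorem mem_W (f : Ω → Fin b) (g : Perm Ω) :
    g ∈ W f ↔ ∀ x y : Ω, f x = f y ↔ f (g x) = f (g y) := Iff.rfl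

theorem closure_eq_W (f : Ω → Fin b) :
    Subgroup.closure {g : Perm Ω | ∀ x y : Ω, f x = f y ↔ f (g x) = f (g y)} = W f :=
  Subgroup.closure_eq (W f)

theorem mem_W_of_comp (f : Ω → Fin b) (g : Perm Ω) (σ : Perm (Fin b))
    (h : ∀ u, f (g u) = σ (f u)) : g ∈ W f := by
  intro x y
  rw [h x, h y]
  exact σ.injective.eq_iff.symm

/-- the subgroup `H = W ∩ A` -/
def H (f : Ω → Fin b) : Subgroup (Perm Ω) := W f ⊓ alternatingGroup Ω

theorem mem_H_of_comp (f : Ω → Fin b) (g : Perm Ω) (σ : Perm (Fin b))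
    (h : ∀ u, f (g u) = σ (f u)) (hs : Perm.sign g = 1) : g ∈ H f :=
  ⟨mem_W_of_comp f g σ h, Perm.mem_alternatingGroup.2 hs⟩

theorem mem_H_of_fp (f : Ω → Fin b) (g : Perm Ω)
    (h : ∀ u, f (g u) = f u) (hs : Perm.sign g = 1) : g ∈ H f :=
  mem_H_of_comp f g 1 (by simpa using h) hs

/-- fibre-preserving property of a swap inside a fibre -/
theorem swap_fp (f : Ω → Fin b) {x y : Ω} (hxy : f x = f y) (u : Ω) : f (swap x y u) = f u := by
  rcases eq_or_ne u x with rfl | h1
  · rw [swap_apply_left]; exact hxy.symm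
  rcases eq_or_ne u y with rfl | h2
  · rw [swap_apply_right]; exact hxy
  rw [swap_apply_of_ne_of_ne h1 h2]

/-- product of two swaps inside fibres lies in `H` -/
theorem swap_mul_swap_mem_H (f : Ω → Fin b) {x y z w : Ω} (hxy : f x = f y) (hzw : f z = f w)
    (h1 : x ≠ y) (h2 : z ≠ w) : swap x y * swap z w ∈ H f := by
  apply mem_H_of_fp
  · intro u
    rw [Perm.mul_apply, swap_fp f hxy, swap_fp f hzw]
  · rw [Perm.sign_mul, Perm.sign_swap h1, Perm.sign_swap h2]; rfl

section fibres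

variable (f : Ω → Fin b) (hf : ∀ i : Fin b, Nat.card {x : Ω // f x = i} = a)

include hf

/-- any permutation of the labels lifts to a permutation of `Ω` -/
theorem exists_lift (σ : Perm (Fin b)) : ∃ s : Perm Ω, ∀ u, f (s u) = σ (f u) := by
  classical
  have e : ∀ c : Fin b, {u : Ω // (σ ∘ f) u = c} ≃ {u : Ω // f u = c} := by
    intro c
    apply Fintype.equivOfCardEq
    have h1 : Fintype.card {u : Ω // f u = c} = a := by
      rw [← Nat.card_eq_fintype_card]; exact hf c
    have h2 : Fintype.card {u : Ω // (σ ∘ f) u = c} = a := by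
      rw [← hf (σ.symm c), Nat.card_eq_fintype_card]
      apply Fintype.card_congr
      apply Equiv.subtypeEquivRight
      intro u
      show σ (f u) = c ↔ f u = σ.symm c
      rw [Equiv.eq_symm_apply]
    rw [h1, h2]
  refine ⟨Equiv.ofFiberEquiv e, fun u => ?_⟩
  exact Equiv.ofFiberEquiv_map e u

theorem exists_pair (ha : 2 ≤ a) (i : Fin b) : ∃ x y : Ω, x ≠ y ∧ f x = i ∧ f y = i := by
  have h1 : 1 < Nat.card {x : Ω // f x = i} := by rw [hf i]; omega
  rw [Finite.one_lt_card_iff_nontrivial] at h1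
  obtain ⟨⟨x, hx⟩, ⟨y, hy⟩, hne⟩ := h1
  exact ⟨x, y, fun h => hne (Subtype.ext h), hx, hy⟩

/-- any permutation of the labels lifts to an element of `H` -/
theorem exists_lift_H (ha : 2 ≤ a) (hb : 0 < b) (σ : Perm (Fin b)) :
    ∃ h ∈ H f, ∀ u, f (h u) = σ (f u) := by
  obtain ⟨s, hs⟩ := exists_lift f hf σ
  rcases Int.units_eq_one_or (Perm.sign s) with h1 | h1
  · exact ⟨s, mem_H_of_comp f s σ hs h1, hs⟩
  · obtain ⟨x, y, hxy, hx, hy⟩ := exists_pair f hf ha ⟨0, hb⟩
    refine ⟨s * swap x y, mem_H_of_comp f _ σ ?_ ?_, ?_⟩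
    · intro u
      rw [Perm.mul_apply, hs, swap_fp f (hx.trans hy.symm)]
    · rw [Perm.sign_mul, h1, Perm.sign_swap hxy]; rfl
    · intro u
      rw [Perm.mul_apply, hs, swap_fp f (hx.trans hy.symm)]

end fibres

section prim

variable (f : Ω → Fin b) (hf : ∀ i : Fin b, Nat.card {x : Ω // f x = i} = a)

include hf

theorem exists_third (ha : 3 ≤ a) (x z : Ω) : ∃ z' : Ω, f z' = f x ∧ z' ≠ x ∧ z' ≠ z := by
  classical
  have h1 : (Finset.univ.filter (fun u => f u = f x)).card = a := by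
    rw [← hf (f x), Nat.card_eq_fintype_card, Fintype.card_subtype]
  have h2 : ({x, z} : Finset Ω).card < (Finset.univ.filter (fun u => f u = f x)).card := by
    rw [h1]
    exact lt_of_le_of_lt (Finset.card_le_two) (by omega)
  obtain ⟨e, he, hne⟩ := Finset.exists_mem_notMem_of_card_lt_card h2
  simp only [Finset.mem_filter, Finset.mem_univ, true_and] at he
  simp only [Finset.mem_insert, Finset.mem_singleton, not_or] at hne
  exact ⟨e, he, hne.1, hne.2⟩

omit hf in
theorem exists_ne_ne_fin (hb : 3 ≤ b) (i₁ i₂ : Fin b) : ∃ j : Fin b, j ≠ i₁ ∧ j ≠ i₂ := by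
  classical
  have h2 : ({i₁, i₂} : Finset (Fin b)).card < (Finset.univ : Finset (Fin b)).card := by
    rw [Finset.card_univ, Fintype.card_fin]
    exact lt_of_le_of_lt (Finset.card_le_two) (by omega)
  obtain ⟨e, -, hne⟩ := Finset.exists_mem_notMem_of_card_lt_card h2
  simp only [Finset.mem_insert, Finset.mem_singleton, not_or] at hne
  exact ⟨e, hne.1, hne.2⟩

omit hf in
theorem exists_ne_fin (hb : 2 ≤ b) (i₁ : Fin b) : ∃ j : Fin b, j ≠ i₁ := by
  classical
  have h2 : ({i₁} : Finset (Fin b)).card < (Finset.univ : Finset (Fin b)).card := by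
    rw [Finset.card_univ, Fintype.card_fin, Finset.card_singleton]
    omega
  obtain ⟨e, -, hne⟩ := Finset.exists_mem_notMem_of_card_lt_card h2
  simp only [Finset.mem_singleton] at hne
  exact ⟨e, hne⟩

/-- moving inside a fibre by an element of `H` -/
theorem exists_move (ha : 2 ≤ a) (hb : 2 ≤ b) {x y : Ω} (hxy : x ≠ y) (hfxy : f x = f y) :
    ∃ g ∈ H f, g x = y := by
  obtain ⟨j, hj⟩ := exists_ne_fin hb (f x)
  obtain ⟨w, w', hww', hw, hw'⟩ := exists_pair f hf ha j
  refine ⟨swap x y * swap w w', swap_mul_swap_mem_H f hfxy (hw.trans hw'.symm) hxy hww', ?_⟩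
  have h1 : x ≠ w := fun h => hj (by rw [← hw, h])
  have h2 : x ≠ w' := fun h => hj (by rw [← hw', h])
  rw [Perm.mul_apply, swap_apply_of_ne_of_ne h1 h2, swap_apply_left]

/-- moving inside a fibre by an element of `H` fixing a point outside the fibre -/
theorem exists_move_fix (ha : 2 ≤ a) (hab : 3 ≤ a ∨ 3 ≤ b) {x z y₀ : Ω} (hxz : x ≠ z)
    (hfxz : f x = f z) (hy₀ : f y₀ ≠ f x) : ∃ g ∈ H f, g x = z ∧ g y₀ = y₀ := by
  rcases hab with h3 | h3
  · obtain ⟨z', hz', hz'x, hz'z⟩ := exists_third f hf h3 x z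
    refine ⟨swap x z * swap z z', swap_mul_swap_mem_H f hfxz (hfxz.symm.trans hz'.symm) hxz
      hz'z.symm, ?_, ?_⟩
    · rw [Perm.mul_apply, swap_apply_of_ne_of_ne hxz hz'x.symm, swap_apply_left]
    · have h1 : y₀ ≠ x := fun h => hy₀ (by rw [h])
      have h2 : y₀ ≠ z := fun h => hy₀ (by rw [h, hfxz])
      have h3 : y₀ ≠ z' := fun h => hy₀ (by rw [h, hz'])
      rw [Perm.mul_apply, swap_apply_of_ne_of_ne h2 h3, swap_apply_of_ne_of_ne h1 h2]
  · obtain ⟨j, hj1, hj2⟩ := exists_ne_ne_fin h3 (f x) (f y₀)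
    obtain ⟨w, w', hww', hw, hw'⟩ := exists_pair f hf ha j
    refine ⟨swap x z * swap w w', swap_mul_swap_mem_H f hfxz (hw.trans hw'.symm) hxz hww', ?_, ?_⟩
    · have h1 : x ≠ w := fun h => hj1 (by rw [← hw, h])
      have h2 : x ≠ w' := fun h => hj1 (by rw [← hw', h])
      rw [Perm.mul_apply, swap_apply_of_ne_of_ne h1 h2, swap_apply_left]
    · have h1 : y₀ ≠ w := fun h => hj2 (by rw [← hw, h])
      have h2 : y₀ ≠ w' := fun h => hj2 (by rw [← hw', h])
      have h3 : y₀ ≠ x := fun h => hy₀ (by rw [h])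
      have h4 : y₀ ≠ z := fun h => hy₀ (by rw [h, hfxz])
      rw [Perm.mul_apply, swap_apply_of_ne_of_ne h1 h2, swap_apply_of_ne_of_ne h3 h4]

/-- `H` is transitive -/
theorem exists_H_apply_eq (ha : 2 ≤ a) (hb : 2 ≤ b) (x y : Ω) : ∃ g ∈ H f, g x = y := by
  obtain ⟨h, hh, hfh⟩ := exists_lift_H f hf ha (by omega) (swap (f x) (f y))
  have h1 : f (h x) = f y := by rw [hfh, swap_apply_left]
  rcases eq_or_ne (h x) y with h2 | h2
  · exact ⟨h, hh, h2⟩
  · obtain ⟨g, hg, hgx⟩ := exists_move f hf ha hb h2 h1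
    exact ⟨g * h, (H f).mul_mem hg hh, by rw [Perm.mul_apply, hgx]⟩

omit hf in
theorem block_apply_mem {K : Subgroup (Perm Ω)} {B : Set Ω} (hB : MulAction.IsBlock K B)
    {g : Perm Ω} (hg : g ∈ K) {x y : Ω} (hx : x ∈ B) (hgx : g x ∈ B) (hy : y ∈ B) : g y ∈ B := by
  have h := hB.smul_eq_of_mem (g := ⟨g, hg⟩) hx hgx
  rw [← h]
  exact Set.smul_mem_smul_set (a := (⟨g, hg⟩ : K)) hy

theorem isPreprimitive (ha : 2 ≤ a) (hb : 2 ≤ b) (hab : 3 ≤ a ∨ 3 ≤ b)
    (K : Subgroup (Perm Ω)) (hHK : H f ≤ K) (hKW : ¬ K ≤ W f) :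
    MulAction.IsPreprimitive K Ω := by
  haveI : MulAction.IsPretransitive K Ω := ⟨fun x y => by
    obtain ⟨g, hg, h⟩ := exists_H_apply_eq f hf ha hb x y
    exact ⟨⟨g, hHK hg⟩, h⟩⟩
  obtain ⟨x₀, -, -, -, -⟩ := exists_pair f hf ha ⟨0, by omega⟩
  apply MulAction.IsPreprimitive.of_isTrivialBlock_base x₀
  intro B hx₀ hB
  by_cases hsub : ∀ y ∈ B, f y = f x₀
  · left
    by_contra hns
    rw [Set.not_subsingleton_iff] at hns
    obtain ⟨y, hy, hyx⟩ : ∃ y ∈ B, y ≠ x₀ := by
      obtain ⟨u, hu, v, hv, huv⟩ := hns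
      by_cases h : u = x₀
      · exact ⟨v, hv, fun h' => huv (h.trans h'.symm)⟩
      · exact ⟨u, hu, h⟩
    have hfib : ∀ z, f z = f x₀ → z ∈ B := by
      intro z hz
      rcases eq_or_ne z x₀ with rfl | h1
      · exact hx₀
      rcases eq_or_ne z y with rfl | h2
      · exact hy
      have hc : swap x₀ y * swap y z ∈ K :=
        hHK (swap_mul_swap_mem_H f (hsub y hy).symm ((hsub y hy).trans hz.symm) hyx.symm h2.symm)
      have h3 : (swap x₀ y * swap y z) x₀ = y := by
        rw [Perm.mul_apply, swap_apply_of_ne_of_ne hyx.symm h1.symm, swap_apply_left]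
      have h4 : (swap x₀ y * swap y z) y = z := by
        rw [Perm.mul_apply, swap_apply_left, swap_apply_of_ne_of_ne h1 h2]
      have := block_apply_mem hB hc hx₀ (by rw [h3]; exact hy) hy
      rwa [h4] at this
    apply hKW
    -- forward implication for all elements of K
    have key : ∀ k ∈ K, ∀ u v, f u = f v → f (k u) = f (k v) := by
      intro k hk u v huv
      obtain ⟨h₁, hh₁, h₁x⟩ := exists_H_apply_eq f hf ha hb x₀ u
      obtain ⟨h₂, hh₂, h₂x⟩ := exists_H_apply_eq f hf ha hb x₀ (k u)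
      have hg : h₂⁻¹ * k * h₁ ∈ K :=
        K.mul_mem (K.mul_mem (K.inv_mem (hHK hh₂)) hk) (hHK hh₁)
      have hgx : (h₂⁻¹ * k * h₁) x₀ = x₀ := by
        rw [Perm.mul_apply, Perm.mul_apply, h₁x, ← h₂x, inv_apply_self']
      have hv' : f (h₁⁻¹ v) = f x₀ := by
        have := (hh₁.1 x₀ (h₁⁻¹ v))
        rw [h₁x, apply_inv_self'] at this
        exact (this.2 huv).symm
      have hv'B : h₁⁻¹ v ∈ B := hfib _ hv'
      have h5 := block_apply_mem hB hg hx₀ (hgx.symm ▸ hx₀) hv'B
      have h6 := hsub _ h5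
      rw [Perm.mul_apply, Perm.mul_apply, apply_inv_self'] at h6
      -- f (h₂⁻¹ (k v)) = f x₀ = f (h₂⁻¹ (k u))
      have h7 : f (h₂⁻¹ (k u)) = f x₀ := by rw [← h₂x, inv_apply_self']
      have h8 := ((H f).inv_mem hh₂).1 (k u) (k v)
      exact h8.2 (h7.trans h6.symm)
    intro k hk u v
    refine ⟨key k hk u v, fun h => ?_⟩
    have := key k⁻¹ (K.inv_mem hk) (k u) (k v) h
    rwa [inv_apply_self', inv_apply_self'] at this
  · right
    push Not at hsub
    obtain ⟨y', hy', hfy'⟩ := hsub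
    have P : ∀ y ∈ B, ∀ y'' ∈ B, f y ≠ f y'' → ∀ z, f z = f y'' → z ∈ B := by
      intro y hy y'' hy'' hne z hz
      rcases eq_or_ne y'' z with rfl | h1
      · exact hy''
      obtain ⟨g, hg, hgz, hgy⟩ := exists_move_fix f hf ha hab h1 hz.symm hne
      have := block_apply_mem hB (hHK hg) hy (hgy.symm ▸ hy) hy''
      rwa [hgz] at this
    apply Set.eq_univ_of_forall
    intro z
    by_cases h1 : f z = f y'
    · exact P x₀ hx₀ y' hy' (Ne.symm hfy') z h1
    by_cases h2 : f z = f x₀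
    · exact P y' hy' x₀ hx₀ hfy' z h2
    obtain ⟨h, hh, hfh⟩ := exists_lift_H f hf ha (by omega) (swap (f x₀) (f z))
    have h3 : f (h y') = f y' := by
      rw [hfh, swap_apply_of_ne_of_ne hfy' (Ne.symm h1)]
    have h4 : h y' ∈ B := P x₀ hx₀ y' hy' (Ne.symm hfy') _ h3
    have h5 : h x₀ ∈ B := block_apply_mem hB (hHK hh) hy' h4 hx₀
    have h6 : f (h x₀) = f z := by rw [hfh, swap_apply_left]
    exact P y' hy' (h x₀) h5 (by rw [h6]; exact Ne.symm h1) z h6.symm

end prim

section threecycle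

variable (f : Ω → Fin b)

/-- for fibres of size at least three, `H` contains a three-cycle -/
theorem exists_isThreeCycle_mem_H (hf : ∀ i : Fin b, Nat.card {x : Ω // f x = i} = a)
    (ha : 3 ≤ a) (hb : 0 < b) : ∃ c ∈ H f, Perm.IsThreeCycle c := by
  obtain ⟨x, y, hxy, hx, hy⟩ := exists_pair f hf (by omega) ⟨0, hb⟩
  obtain ⟨z, hz, hzx, hzy⟩ := exists_third f hf ha x y
  refine ⟨swap y x * swap y z, ?_, Perm.isThreeCycle_swap_mul_swap_same hxy.symm hzy.symm hzx.symm⟩
  exact swap_mul_swap_mem_H f (hy.trans hx.symm) ((hy.trans hx.symm).trans hz.symm) hxy.symm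
    hzy.symm

end threecycle

section two

variable (f : Ω → Fin b) (hf : ∀ i : Fin b, Nat.card {x : Ω // f x = i} = 2)

include hf

/-- the partner map for fibres of size two -/
theorem exists_partner : ∃ ι : Ω → Ω, (∀ x, ι x ≠ x) ∧ (∀ x, f (ι x) = f x) ∧
    (∀ x z, f z = f x → z = x ∨ z = ι x) := by
  classical
  have key : ∀ x : Ω, ∃ y : Ω, y ≠ x ∧ f y = f x ∧ ∀ z, f z = f x → z = x ∨ z = y := by
    intro x
    have h1 : (Finset.univ.filter (fun u => f u = f x)).card = 2 := by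
      rw [← hf (f x), Nat.card_eq_fintype_card, Fintype.card_subtype]
    rw [Finset.card_eq_two] at h1
    obtain ⟨p, q, hpq, hS⟩ := h1
    have hmem : ∀ z, f z = f x ↔ z = p ∨ z = q := by
      intro z
      have : z ∈ Finset.univ.filter (fun u => f u = f x) ↔ z ∈ ({p, q} : Finset Ω) := by rw [hS]
      simpa using this
    rcases (hmem x).1 rfl with rfl | rfl
    · exact ⟨q, hpq.symm, (hmem q).2 (Or.inr rfl), fun z hz => (hmem z).1 hz⟩
    · exact ⟨p, hpq, (hmem p).2 (Or.inl rfl), fun z hz => ((hmem z).1 hz).symm⟩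
  choose ι h1 h2 h3 using key
  exact ⟨ι, h1, h2, h3⟩

end two

section twoι

variable (f : Ω → Fin b) (ι : Ω → Ω) (h1 : ∀ x, ι x ≠ x) (h2 : ∀ x, f (ι x) = f x)
  (h3 : ∀ x z, f z = f x → z = x ∨ z = ι x)

include h1 h2 h3

theorem ι_ι (x : Ω) : ι (ι x) = x := by
  rcases h3 (ι x) x (h2 x).symm with h | h
  · exact absurd h.symm (h1 x)
  · exact h.symm

theorem ι_inj {x y : Ω} (h : ι x = ι y) : x = y := by
  rw [← ι_ι f ι h1 h2 h3 x, h, ι_ι f ι h1 h2 h3 y]

theorem apply_ι_of_mem_W {g : Perm Ω} (hg : g ∈ W f) (x : Ω) : g (ι x) = ι (g x) := by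
  have := (hg (ι x) x).1 (h2 x)
  rcases h3 (g x) (g (ι x)) this with h | h
  · exact absurd (g.injective h) (h1 x)
  · exact h

theorem exists_of_not_mem_W {k : Perm Ω} (hk : k ∉ W f) : ∃ p, k (ι p) ≠ ι (k p) := by
  by_contra hcon
  push Not at hcon
  apply hk
  intro x y
  constructor
  · intro hxy
    rcases h3 x y hxy.symm with rfl | rfl
    · rfl
    · rw [hcon, h2]
  · intro hxy
    rcases h3 (k x) (k y) hxy.symm with h | h
    · rw [k.injective h]
    · rw [← hcon] at h
      rw [k.injective h, h2]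

omit [Fintype Ω] h1 h2 h3 in
theorem double_swap_apply_of_ne {r s u v w : Ω} (hr : w ≠ r) (hs : w ≠ s) (hu : w ≠ u)
    (hv : w ≠ v) : (swap r s * swap u v) w = w := by
  rw [Perm.mul_apply, swap_apply_of_ne_of_ne hu hv, swap_apply_of_ne_of_ne hr hs]

/-- key lemma: the case of at least five fibres of size two -/
theorem exists_isThreeCycle_of_two (hsurj : ∀ i : Fin b, ∃ x, f x = i) (hb : 5 ≤ b)
    (K : Subgroup (Perm Ω)) (hHK : H f ≤ K)
    {k : Perm Ω} (hk : k ∈ K) (hkW : k ∉ W f) : ∃ c ∈ K, Perm.IsThreeCycle c := by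
  classical
  have ιι := ι_ι f ι h1 h2 h3
  have ιinj : ∀ {x y : Ω}, ι x = ι y → x = y := fun h => ι_inj f ι h1 h2 h3 h
  obtain ⟨p, hp⟩ := exists_of_not_mem_W f ι h1 h2 h3 hkW
  set r := k p with hr
  set s := k (ι p) with hs
  have hrs : r ≠ s := fun h => h1 p (k.injective h).symm
  -- the conjugated double swaps
  have hρK : ∀ q, swap r s * swap (k q) (k (ι q)) ∈ K := by
    intro q
    have h4 : swap p (ι p) * swap q (ι q) ∈ K :=
      hHK (swap_mul_swap_mem_H f (h2 p).symm (h2 q).symm (h1 p).symm (h1 q).symm)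
    have h5 : k * (swap p (ι p) * swap q (ι q)) * k⁻¹ ∈ K :=
      K.mul_mem (K.mul_mem hk h4) (K.inv_mem hk)
    have h6 : k * (swap p (ι p) * swap q (ι q)) * k⁻¹ = swap r s * swap (k q) (k (ι q)) := by
      rw [hr, hs, swap_apply_apply, swap_apply_apply]
      group
    rwa [h6] at h5
  have hdist : ∀ q, f q ≠ f p → r ≠ k q ∧ r ≠ k (ι q) ∧ s ≠ k q ∧ s ≠ k (ι q) := by
    intro q hq
    refine ⟨fun h => hq (by rw [k.injective h]), fun h => hq ?_, fun h => hq ?_, fun h => hq ?_⟩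
    · rw [k.injective h, h2]
    · rw [← k.injective h, h2]
    · rw [← h2 q, ← k.injective h, h2]
  -- one of them is not in W
  have hex : ∃ q, f q ≠ f p ∧ swap r s * swap (k q) (k (ι q)) ∉ W f := by
    by_contra hcon
    push Not at hcon
    have hsub : ∀ q, f q ≠ f p → ι r = k q ∨ ι r = k (ι q) := by
      intro q hq
      obtain ⟨d1, d2, d3, d4⟩ := hdist q hq
      have hW := hcon q hq
      have e1 := apply_ι_of_mem_W f ι h1 h2 h3 hW r
      have e2 : (swap r s * swap (k q) (k (ι q))) r = s := by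
        rw [Perm.mul_apply, swap_apply_of_ne_of_ne d1 d2, swap_apply_left]
      rw [e2] at e1
      by_contra hne
      push Not at hne
      rw [double_swap_apply_of_ne (h1 r) hp.symm hne.1 hne.2] at e1
      exact hrs (ιinj e1)
    obtain ⟨j₁, hj₁⟩ := exists_ne_fin (by omega : 2 ≤ b) (f p)
    obtain ⟨j₂, hj₂, hj₂'⟩ := exists_ne_ne_fin (by omega : 3 ≤ b) (f p) j₁
    obtain ⟨q₁, hq₁⟩ := hsurj j₁
    obtain ⟨q₂, hq₂⟩ := hsurj j₂
    have e1 := hsub q₁ (by rw [hq₁]; exact hj₁)
    have e2 := hsub q₂ (by rw [hq₂]; exact hj₂)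
    apply hj₂'
    rcases e1 with e1 | e1 <;> rcases e2 with e2 | e2
    · rw [← hq₁, ← hq₂, k.injective (e1.symm.trans e2)]
    · rw [← hq₁, ← hq₂, k.injective (e1.symm.trans e2), h2]
    · rw [← hq₁, ← hq₂, ← h2 q₁, k.injective (e1.symm.trans e2)]
    · rw [← hq₁, ← hq₂, ← h2 q₁, k.injective (e1.symm.trans e2), h2]
  obtain ⟨q, hq, hρW⟩ := hex
  obtain ⟨d1, d2, d3, d4⟩ := hdist q hq
  set u := k q with hu
  set v := k (ι q) with hv
  have huv : u ≠ v := fun h => h1 q (k.injective h).symm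
  set ρ := swap r s * swap u v with hρ
  have hρmem : ρ ∈ K := hρK q
  -- values of ρ
  have ρr : ρ r = s := by rw [hρ, Perm.mul_apply, swap_apply_of_ne_of_ne d1 d2, swap_apply_left]
  have ρs : ρ s = r := by rw [hρ, Perm.mul_apply, swap_apply_of_ne_of_ne d3 d4, swap_apply_right]
  have ρu : ρ u = v := by
    rw [hρ, Perm.mul_apply, swap_apply_left, swap_apply_of_ne_of_ne d2.symm d4.symm]
  have ρv : ρ v = u := by
    rw [hρ, Perm.mul_apply, swap_apply_right, swap_apply_of_ne_of_ne d1.symm d3.symm]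
  have ρcases : ∀ w, ρ w = w ∨ (f w = f r ∨ f w = f s ∨ f w = f u ∨ f w = f v) ∧
      (f (ρ w) = f r ∨ f (ρ w) = f s ∨ f (ρ w) = f u ∨ f (ρ w) = f v) := by
    intro w
    by_cases c1 : w = r
    · right; rw [c1, ρr]; exact ⟨Or.inl rfl, Or.inr (Or.inl rfl)⟩
    by_cases c2 : w = s
    · right; rw [c2, ρs]; exact ⟨Or.inr (Or.inl rfl), Or.inl rfl⟩
    by_cases c3 : w = u
    · right; rw [c3, ρu]; exact ⟨Or.inr (Or.inr (Or.inl rfl)), Or.inr (Or.inr (Or.inr rfl))⟩
    by_cases c4 : w = v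
    · right; rw [c4, ρv]; exact ⟨Or.inr (Or.inr (Or.inr rfl)), Or.inr (Or.inr (Or.inl rfl))⟩
    left
    exact double_swap_apply_of_ne c1 c2 c3 c4
  have ρfix : ∀ w, f w ≠ f r → f w ≠ f s → f w ≠ f u → f w ≠ f v → ρ w = w := by
    intro w c1 c2 c3 c4
    exact double_swap_apply_of_ne (fun h => c1 (by rw [h])) (fun h => c2 (by rw [h]))
      (fun h => c3 (by rw [h])) (fun h => c4 (by rw [h]))
  -- a fibre away from r s u v
  obtain ⟨j, hj⟩ : ∃ j : Fin b, j ∉ ({f r, f s, f u, f v} : Finset (Fin b)) := by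
    have h2' : ({f r, f s, f u, f v} : Finset (Fin b)).card < (Finset.univ : Finset (Fin b)).card := by
      rw [Finset.card_univ, Fintype.card_fin]
      exact lt_of_le_of_lt (Finset.card_le_four) (by omega)
    obtain ⟨e, -, hne⟩ := Finset.exists_mem_notMem_of_card_lt_card h2'
    exact ⟨e, hne⟩
  simp only [Finset.mem_insert, Finset.mem_singleton, not_or] at hj
  obtain ⟨y, hy⟩ := hsurj j
  obtain ⟨x₀, hx₀⟩ := exists_of_not_mem_W f ι h1 h2 h3 hρW
  have hyfix : ρ y = y := ρfix y (hy ▸ hj.1) (hy ▸ hj.2.1) (hy ▸ hj.2.2.1) (hy ▸ hj.2.2.2)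
  have hιyfix : ρ (ι y) = ι y := by
    apply ρfix <;> rw [h2, hy]
    · exact hj.1
    · exact hj.2.1
    · exact hj.2.2.1
    · exact hj.2.2.2
  have hx₀S : f x₀ = f r ∨ f x₀ = f s ∨ f x₀ = f u ∨ f x₀ = f v := by
    by_contra hcon
    push Not at hcon
    apply hx₀
    rw [ρfix x₀ hcon.1 hcon.2.1 hcon.2.2.1 hcon.2.2.2]
    apply ρfix <;> rw [h2]
    · exact hcon.1
    · exact hcon.2.1
    · exact hcon.2.2.1
    · exact hcon.2.2.2
  have hρx₀S : f (ρ x₀) = f r ∨ f (ρ x₀) = f s ∨ f (ρ x₀) = f u ∨ f (ρ x₀) = f v := by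
    rcases ρcases x₀ with h | h
    · rw [h]; exact hx₀S
    · exact h.2
  have hyx₀ : f y ≠ f x₀ := by
    rw [hy]; rcases hx₀S with h | h | h | h <;> rw [h]
    · exact hj.1
    · exact hj.2.1
    · exact hj.2.2.1
    · exact hj.2.2.2
  have hyρx₀ : f y ≠ f (ρ x₀) := by
    rw [hy]; rcases hρx₀S with h | h | h | h <;> rw [h]
    · exact hj.1
    · exact hj.2.1
    · exact hj.2.2.1
    · exact hj.2.2.2
  -- the two elements
  have t₁ : swap x₀ (ι x₀) * swap y (ι y) ∈ K :=
    hHK (swap_mul_swap_mem_H f (h2 x₀).symm (h2 y).symm (h1 x₀).symm (h1 y).symm)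
  have t₂ : swap (ρ x₀) (ι (ρ x₀)) * swap y (ι y) ∈ K :=
    hHK (swap_mul_swap_mem_H f (h2 _).symm (h2 y).symm (h1 _).symm (h1 y).symm)
  have t₁' : swap (ρ x₀) (ρ (ι x₀)) * swap y (ι y) ∈ K := by
    have h5 : ρ * (swap x₀ (ι x₀) * swap y (ι y)) * ρ⁻¹ ∈ K :=
      K.mul_mem (K.mul_mem hρmem t₁) (K.inv_mem hρmem)
    have h6 : ρ * (swap x₀ (ι x₀) * swap y (ι y)) * ρ⁻¹ =
        swap (ρ x₀) (ρ (ι x₀)) * swap y (ι y) := by
      have e : swap y (ι y) = swap (ρ y) (ρ (ι y)) := by rw [hyfix, hιyfix]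
      conv_rhs => rw [e]
      rw [swap_apply_apply, swap_apply_apply]
      group
    rwa [h6] at h5
  set A := ρ x₀ with hA
  set B := ρ (ι x₀) with hB
  set C := ι (ρ x₀) with hC
  set y' := ι y with hy'
  have hAB : A ≠ B := fun h => h1 x₀ (ρ.injective h).symm
  have hAC : A ≠ C := (h1 A).symm
  have hBC : B ≠ C := hx₀
  have hyA : y ≠ A := fun h => hyρx₀ (by rw [h])
  have hyC : y ≠ C := fun h => hyρx₀ (by rw [h, hC, h2])
  have hy'A : y' ≠ A := fun h => hyρx₀ (by rw [← h, hy', h2])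
  have hy'C : y' ≠ C := fun h => hyρx₀ (by rw [← h2 y, ← hy', h, hC, h2])
  have hyy' : y ≠ y' := (h1 y).symm
  have hcomm : Commute (swap y y') (swap A C) := by
    apply Perm.Disjoint.commute
    apply Perm.disjoint_swap_swap
    simp [hyy', hyA, hyC, hy'A, hy'C, hAC]
  refine ⟨(swap A B * swap y y') * (swap A C * swap y y'), K.mul_mem t₁' t₂, ?_⟩
  have hc : (swap A B * swap y y') * (swap A C * swap y y') = swap A B * swap A C := by
    calc (swap A B * swap y y') * (swap A C * swap y y')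
        = swap A B * (swap y y' * swap A C) * swap y y' := by group
      _ = swap A B * (swap A C * swap y y') * swap y y' := by rw [hcomm.eq]
      _ = swap A B * swap A C * (swap y y' * swap y y') := by group
      _ = swap A B * swap A C := by rw [swap_mul_self, mul_one]
  rw [hc]
  exact Perm.isThreeCycle_swap_mul_swap_same hAB hAC hBC

end twoι

section small

variable (f : Ω → Fin b) (hf : ∀ i : Fin b, Nat.card {x : Ω // f x = i} = a)

include hf

theorem card_eq_mul : Fintype.card Ω = a * b := by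
  classical
  have h := Finset.card_eq_sum_card_fiberwise (s := (Finset.univ : Finset Ω))
    (t := (Finset.univ : Finset (Fin b))) (f := f) (fun x _ => Finset.mem_univ _)
  rw [Finset.card_univ] at h
  rw [h]
  have h1 : ∀ i ∈ (Finset.univ : Finset (Fin b)),
      (Finset.univ.filter (fun u => f u = i)).card = a := by
    intro i _
    rw [← hf i, Nat.card_eq_fintype_card, Fintype.card_subtype]
  rw [Finset.sum_congr rfl h1, Finset.sum_const, Finset.card_univ, Fintype.card_fin, smul_eq_mul,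
    mul_comm]

/-- the stabiliser in `H` of `x` is transitive on the complement of the fibre of `x` -/
theorem exists_H_fix_apply_eq (ha : 2 ≤ a) (hb : 2 ≤ b) (hab : 3 ≤ a ∨ 3 ≤ b) {x y w : Ω}
    (hy : f y ≠ f x) (hw : f w ≠ f x) : ∃ g ∈ H f, g x = x ∧ g y = w := by
  obtain ⟨h, hh, hfh⟩ := exists_lift_H f hf ha (by omega) (swap (f y) (f w))
  have e1 : f (h x) = f x := by rw [hfh, swap_apply_of_ne_of_ne (Ne.symm hy) (Ne.symm hw)]
  have e2 : f (h y) = f w := by rw [hfh, swap_apply_left]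
  obtain ⟨m, hm, hmx, hmy⟩ : ∃ m ∈ H f, m (h x) = x ∧ m (h y) = h y := by
    rcases eq_or_ne (h x) x with e | e
    · exact ⟨1, (H f).one_mem, by simpa using e, rfl⟩
    · exact exists_move_fix f hf ha hab e e1 (by rw [e1, e2]; exact hw)
  obtain ⟨m₂, hm₂, hm₂y, hm₂x⟩ : ∃ m₂ ∈ H f, m₂ (h y) = w ∧ m₂ x = x := by
    rcases eq_or_ne (h y) w with e | e
    · exact ⟨1, (H f).one_mem, by simpa using e, rfl⟩
    · exact exists_move_fix f hf ha hab e e2 (by rw [e2]; exact Ne.symm hw)
  refine ⟨m₂ * m * h, (H f).mul_mem ((H f).mul_mem hm₂ hm) hh, ?_, ?_⟩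
  · rw [Perm.mul_apply, Perm.mul_apply, hmx, hm₂x]
  · rw [Perm.mul_apply, Perm.mul_apply, hmy, hm₂y]

theorem card_dvd_card_H (ha : 2 ≤ a) (hb : 2 ≤ b) : Fintype.card Ω ∣ Nat.card (H f) := by
  obtain ⟨x, -, -, -, -⟩ := exists_pair f hf ha ⟨0, by omega⟩
  haveI : MulAction.IsPretransitive (H f) Ω := ⟨fun x y => by
    obtain ⟨g, hg, h⟩ := exists_H_apply_eq f hf ha hb x y
    exact ⟨⟨g, hg⟩, h⟩⟩
  have h1 : (MulAction.stabilizer (H f) x).index = Nat.card Ω :=
    MulAction.index_stabilizer_of_transitive ..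
  rw [← Nat.card_eq_fintype_card, ← h1]
  exact Subgroup.index_dvd_card _

theorem card_mul_dvd_card_H (ha : 2 ≤ a) (hb : 2 ≤ b) (hab : 3 ≤ a ∨ 3 ≤ b) :
    Fintype.card Ω * (Fintype.card Ω - a) ∣ Nat.card (H f) := by
  classical
  obtain ⟨x, -, -, -, -⟩ := exists_pair f hf ha ⟨0, by omega⟩
  haveI : MulAction.IsPretransitive (H f) Ω := ⟨fun x y => by
    obtain ⟨g, hg, h⟩ := exists_H_apply_eq f hf ha hb x y
    exact ⟨⟨g, hg⟩, h⟩⟩
  have h1 : (MulAction.stabilizer (H f) x).index = Nat.card Ω :=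
    MulAction.index_stabilizer_of_transitive ..
  obtain ⟨j, hj⟩ := exists_ne_fin hb (f x)
  obtain ⟨y, -, -, hy, -⟩ := exists_pair f hf ha j
  have hyx : f y ≠ f x := by rw [hy]; exact hj
  set S := MulAction.stabilizer (H f) x with hS
  have horb : MulAction.orbit S y = {w | f w = f x}ᶜ := by
    ext w
    constructor
    · rintro ⟨⟨⟨g, hg⟩, hgx⟩, rfl⟩
      have hgx' : g x = x := hgx
      show ¬ f (g y) = f x
      intro h
      apply hyx
      have := (hg.1 y x).2 (by rw [hgx']; exact h)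
      exact this
    · intro hw
      obtain ⟨g, hg, hgx, hgy⟩ := exists_H_fix_apply_eq f hf ha hb hab hyx hw
      exact ⟨⟨⟨g, hg⟩, hgx⟩, hgy⟩
  have h2 : (MulAction.stabilizer S y).index = (MulAction.orbit S y).ncard :=
    MulAction.index_stabilizer ..
  have h3 : (MulAction.orbit S y).ncard = Fintype.card Ω - a := by
    rw [horb, Set.ncard_compl, Nat.card_eq_fintype_card]
    congr 1
    rw [← hf (f x), ← Nat.card_coe_set_eq]
    rfl
  have h4 : (Fintype.card Ω - a) ∣ Nat.card S := by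
    rw [← h3, ← h2]
    exact Subgroup.index_dvd_card _
  have h5 : S.index * Nat.card S = Nat.card (H f) := Subgroup.index_mul_card S
  rw [← h5, h1, Nat.card_eq_fintype_card]
  exact Nat.mul_dvd_mul_left _ h4

end small

section main

theorem relIndex_mul_card_eq {G : Type*} [Group G] (K A : Subgroup G) (h : K ≤ A) :
    K.relIndex A * Nat.card K = Nat.card A := by
  have h1 := Subgroup.relIndex_mul_relIndex ⊥ K A bot_le h
  rw [Subgroup.relIndex_bot_left, Subgroup.relIndex_bot_left] at h1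
  rw [mul_comm]; exact h1

theorem num_two_two (nH nK : ℕ) (h4 : 4 ∣ nH) (h5 : nH ∣ nK) (h6 : nK ∣ 12) (h7 : nK ≠ nH) :
    nK = 12 := by
  have hle : nK ≤ 12 := Nat.le_of_dvd (by norm_num) h6
  have hK0 : 0 < nK := Nat.pos_of_dvd_of_pos h6 (by norm_num)
  have hHle : nH ≤ nK := Nat.le_of_dvd hK0 h5
  have hH0 : 0 < nH := Nat.pos_of_dvd_of_pos h5 hK0
  interval_cases nK <;> interval_cases nH <;> omega

variable (f : Ω → Fin b) (hf : ∀ i : Fin b, Nat.card {x : Ω // f x = i} = a)

include hf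

/-- the case of two fibres of size two -/
theorem eq_of_two_two (ha : a = 2) (hb : b = 2) (K : Subgroup (Perm Ω)) (hHK : H f ≤ K)
    (hKA : K ≤ alternatingGroup Ω) (hne : K ≠ H f) : K = alternatingGroup Ω := by
  have hcard : Fintype.card Ω = 4 := by rw [card_eq_mul f hf, ha, hb]
  haveI : Nontrivial Ω := by
    rw [← Fintype.one_lt_card_iff_nontrivial, hcard]; norm_num
  have hA : Nat.card (alternatingGroup Ω) = 12 := by
    rw [nat_card_alternatingGroup, Nat.card_eq_fintype_card, hcard]; rfl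
  have h4 : 4 ∣ Nat.card (H f) := by
    rw [← hcard]; exact card_dvd_card_H f hf (by omega) (by omega)
  have h5 : Nat.card (H f) ∣ Nat.card K := Subgroup.card_dvd_of_le hHK
  have h6 : Nat.card K ∣ 12 := by rw [← hA]; exact Subgroup.card_dvd_of_le hKA
  have h7 : Nat.card K ≠ Nat.card (H f) := by
    intro h
    exact hne (Subgroup.eq_of_le_of_card_ge hHK (le_of_eq h)).symm
  have h8 : Nat.card K = 12 := num_two_two _ _ h4 h5 h6 h7
  exact Subgroup.eq_of_le_of_card_ge hKA (by rw [hA, h8])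

/-- the case of three fibres of size two -/
theorem eq_of_two_three (ha : a = 2) (hb : b = 3) (K : Subgroup (Perm Ω)) (hHK : H f ≤ K)
    (hKA : K ≤ alternatingGroup Ω) (hne : K ≠ H f) : K = alternatingGroup Ω := by
  have hcard : Fintype.card Ω = 6 := by rw [card_eq_mul f hf, ha, hb]
  haveI : Nontrivial Ω := by
    rw [← Fintype.one_lt_card_iff_nontrivial, hcard]; norm_num
  have hA : Nat.card (alternatingGroup Ω) = 360 := by
    rw [nat_card_alternatingGroup, Nat.card_eq_fintype_card, hcard]; rfl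
  have h4 : 24 ∣ Nat.card (H f) := by
    have := card_mul_dvd_card_H f hf (by omega) (by omega) (Or.inr (by omega))
    rw [hcard, ha] at this
    exact this
  have h5 : Nat.card (H f) ∣ Nat.card K := Subgroup.card_dvd_of_le hHK
  have h6 : Nat.card K ∣ 360 := by rw [← hA]; exact Subgroup.card_dvd_of_le hKA
  have h7 : Nat.card K ≠ Nat.card (H f) := by
    intro h
    exact hne (Subgroup.eq_of_le_of_card_ge hHK (le_of_eq h)).symm
  by_contra hKne
  -- K is a proper subgroup of the simple group A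
  haveI : IsSimpleGroup (alternatingGroup Ω) :=
    alternatingGroup.isSimpleGroup (by rw [Nat.card_eq_fintype_card, hcard]; norm_num)
  have hproper : K.subgroupOf (alternatingGroup Ω) ≠ ⊤ := by
    rw [Ne, Subgroup.subgroupOf_eq_top]
    exact fun h => hKne (le_antisymm hKA h)
  have hfact := Cfsg.Agent.Lib.Helper7.card_dvd_factorial_index
    (K.subgroupOf (alternatingGroup Ω)) hproper
  have hrel := relIndex_mul_card_eq K (alternatingGroup Ω) hKA
  rw [hA] at hfact hrel
  change 360 ∣ (K.relIndex (alternatingGroup Ω)).factorial at hfact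
  -- numerics
  have hle : Nat.card K ≤ 360 := Nat.le_of_dvd (by norm_num) h6
  have hHle : Nat.card (H f) ≤ Nat.card K := Nat.le_of_dvd Nat.card_pos h5
  have hlt : Nat.card (H f) < Nat.card K := lt_of_le_of_ne hHle (Ne.symm h7)
  have h24 : 24 ∣ Nat.card K := h4.trans h5
  have h48 : 48 ≤ Nat.card K := by
    obtain ⟨c, hc⟩ := h4
    obtain ⟨d, hd⟩ := h5
    have hc0 : 0 < c := by
      rcases Nat.eq_zero_or_pos c with h | h
      · rw [h] at hc; have := Nat.card_pos (α := H f); omega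
      · exact h
    have hd2 : 2 ≤ d := by
      by_contra hcon
      push Not at hcon
      interval_cases d
      · rw [mul_zero] at hd; have := Nat.card_pos (α := K); omega
      · rw [mul_one] at hd; exact h7 hd
    nlinarith
  set i := K.relIndex (alternatingGroup Ω) with hi
  have hi7 : i ≤ 7 := by
    by_contra hcon
    push Not at hcon
    have : 8 * 48 ≤ i * Nat.card K := Nat.mul_le_mul hcon h48
    omega
  have hi1 : i ≠ 1 := by
    intro h1
    rw [h1, one_mul] at hrel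
    apply hKne
    exact Subgroup.eq_of_le_of_card_ge hKA (by rw [hA, hrel])
  have hi0 : i ≠ 0 := by
    intro h0
    rw [h0, zero_mul] at hrel
    omega
  obtain ⟨e, he⟩ := h24
  rw [he] at hrel
  interval_cases i
  · exact hi0 rfl
  · exact hi1 rfl
  · norm_num [Nat.factorial] at hfact
  · norm_num [Nat.factorial] at hfact
  · norm_num [Nat.factorial] at hfact
  · norm_num [Nat.factorial] at hfact
  · omega
  · omega

/-- main maximality statement inside the symmetric group -/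
theorem eq_alternatingGroup (ha : 2 ≤ a) (hb : 2 ≤ b) (h8 : Fintype.card Ω ≠ 8)
    (K : Subgroup (Perm Ω)) (hHK : H f ≤ K) (hKA : K ≤ alternatingGroup Ω) (hne : K ≠ H f) :
    K = alternatingGroup Ω := by
  have hKW : ¬ K ≤ W f := by
    intro h
    exact hne (le_antisymm (le_inf h hKA) hHK)
  have hsurj : ∀ i : Fin b, ∃ x, f x = i := fun i => by
    obtain ⟨x, -, -, hx, -⟩ := exists_pair f hf ha i
    exact ⟨x, hx⟩
  have hcard := card_eq_mul f hf
  rcases Nat.lt_or_ge a 3 with ha3 | ha3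
  · have ha2 : a = 2 := by omega
    subst ha2
    rcases Nat.lt_or_ge b 5 with hb5 | hb5
    · have hb4 : b ≠ 4 := by
        rintro rfl
        exact h8 hcard
      have : b = 2 ∨ b = 3 := by omega
      rcases this with rfl | rfl
      · exact eq_of_two_two f hf rfl rfl K hHK hKA hne
      · exact eq_of_two_three f hf rfl rfl K hHK hKA hne
    · have hprim := isPreprimitive f hf ha hb (Or.inr (by omega)) K hHK hKW
      obtain ⟨k, hk, hkW⟩ := SetLike.not_le_iff_exists.1 hKW
      obtain ⟨ι, h1, h2, h3⟩ := exists_partner f hf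
      obtain ⟨c, hc, hc3⟩ := exists_isThreeCycle_of_two f ι h1 h2 h3 hsurj hb5 K hHK hk hkW
      exact le_antisymm hKA
        (Perm.alternatingGroup_le_of_isPreprimitive_of_isThreeCycle_mem hprim hc3 hc)
  · have hprim := isPreprimitive f hf ha hb (Or.inl ha3) K hHK hKW
    obtain ⟨c, hc, hc3⟩ := exists_isThreeCycle_mem_H f hf ha3 (by omega)
    exact le_antisymm hKA
      (Perm.alternatingGroup_le_of_isPreprimitive_of_isThreeCycle_mem hprim hc3 (hHK hc))

/-- `H` is a proper subgroup of the alternating group -/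
theorem not_alternatingGroup_le (ha : 2 ≤ a) (hb : 2 ≤ b) : ¬ alternatingGroup Ω ≤ H f := by
  intro hle
  obtain ⟨x, y, hxy, hx, hy⟩ := exists_pair f hf ha ⟨0, by omega⟩
  obtain ⟨j, hj⟩ := exists_ne_fin hb (⟨0, by omega⟩ : Fin b)
  obtain ⟨z, -, -, hz, -⟩ := exists_pair f hf ha j
  have hzx : z ≠ x := fun h => hj (by rw [← hz, h, hx])
  have hzy : z ≠ y := fun h => hj (by rw [← hz, h, hy])
  have hc : swap x y * swap y z ∈ alternatingGroup Ω := by
    rw [Perm.mem_alternatingGroup, Perm.sign_mul, Perm.sign_swap hxy, Perm.sign_swap hzy.symm]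
    rfl
  have hW := (hle hc).1 x y
  have e1 : (swap x y * swap y z) x = y := by
    rw [Perm.mul_apply, swap_apply_of_ne_of_ne hxy hzx.symm, swap_apply_left]
  have e2 : (swap x y * swap y z) y = z := by
    rw [Perm.mul_apply, swap_apply_left, swap_apply_of_ne_of_ne hzx hzy]
  rw [e1, e2] at hW
  exact hj (by rw [← hz, ← hW.1 (hx.trans hy.symm), hy])

/-- the final statement -/
theorem isCoatom (h8 : Fintype.card Ω ≠ 8) (ha : 2 ≤ a) (hb : 2 ≤ b) :
    IsCoatom ((Subgroup.closure {g : Perm Ω | ∀ x y : Ω, f x = f y ↔ f (g x) = f (g y)} ⊓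
      alternatingGroup Ω).subgroupOf (alternatingGroup Ω)) := by
  rw [closure_eq_W]
  change IsCoatom ((H f).subgroupOf (alternatingGroup Ω))
  constructor
  · rw [Ne, Subgroup.subgroupOf_eq_top]
    exact not_alternatingGroup_le f hf ha hb
  · intro K' hlt
    set K : Subgroup (Perm Ω) := K'.map (alternatingGroup Ω).subtype with hK
    have hK' : K.subgroupOf (alternatingGroup Ω) = K' := by
      rw [hK, Subgroup.subgroupOf]
      exact Subgroup.comap_map_eq_self_of_injective (Subgroup.subtype_injective _) K'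
    have hKA : K ≤ alternatingGroup Ω := by
      rw [hK]; exact Subgroup.map_subtype_le K'
    have hHK : H f ≤ K := by
      intro x hx
      have hxA : x ∈ alternatingGroup Ω := hx.2
      have : (⟨x, hxA⟩ : alternatingGroup Ω) ∈ (H f).subgroupOf (alternatingGroup Ω) := hx
      exact ⟨⟨x, hxA⟩, hlt.le this, rfl⟩
    have hne : K ≠ H f := by
      intro h
      rw [← hK', h] at hlt
      exact lt_irrefl _ hlt
    have := eq_alternatingGroup f hf ha hb h8 K hHK hKA hne
    rw [← hK', this, Subgroup.subgroupOf_self]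

end main

end Cfsg.Agent.Lib.Helper29.ImprimMax
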