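import Mathlib
import Cfsg.Agent.Lib.Helper26.ZStarFusion
import Cfsg.Agent.Lib.Helper23.AbelianAvg
import Cfsg.Agent.Lib.Helper12.Cores

set_option autoImplicit false
open Cfsg Subgroup
open scoped commutatorElement
open Cfsg.Agent.Lib.Helper29.ZStar (ZStarStmt)

namespace Cfsg.Agent.Lib.Helper29.InnerAut

universe u
variable {Γ : Type u} [Group Γ]

/-- the subgroup `P₀ ⟨a⟩` for `a` commuting with `P₀` -/
def mulZpowers (P₀ : Subgroup Γ) (a : Γ) (hacomm : ∀ x ∈ P₀, a * x = x * a) : Subgroup Γ where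
  carrier := {x | ∃ p ∈ P₀, ∃ k : ℤ, x = p * a ^ k}
  one_mem' := ⟨1, P₀.one_mem, 0, by simp⟩
  mul_mem' := by
    rintro _ _ ⟨p, hp, k, rfl⟩ ⟨q, hq, l, rfl⟩
    refine ⟨p * q, P₀.mul_mem hp hq, k + l, ?_⟩
    have hc : Commute (a ^ k) q := (show Commute a q from hacomm q hq).zpow_left k
    calc p * a ^ k * (q * a ^ l) = p * (a ^ k * q) * a ^ l := by group
      _ = p * (q * a ^ k) * a ^ l := by rw [hc.eq]
      _ = p * q * a ^ (k + l) := by rw [zpow_add]; group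
  inv_mem' := by
    rintro _ ⟨p, hp, k, rfl⟩
    refine ⟨p⁻¹, P₀.inv_mem hp, -k, ?_⟩
    have hc : Commute (a ^ (-k)) p⁻¹ := ((show Commute a p from hacomm p hp).inv_right).zpow_left (-k)
    calc (p * a ^ k)⁻¹ = a ^ (-k) * p⁻¹ := by group
      _ = p⁻¹ * a ^ (-k) := hc.eq

theorem mem_mulZpowers {P₀ : Subgroup Γ} {a : Γ} {hacomm : ∀ x ∈ P₀, a * x = x * a} {x : Γ} :
    x ∈ mulZpowers P₀ a hacomm ↔ ∃ p ∈ P₀, ∃ k : ℤ, x = p * a ^ k := Iff.rfl

theorem isPGroup_mulZpowers {P₀ : Subgroup Γ} {a : Γ} (hacomm : ∀ x ∈ P₀, a * x = x * a)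
    (hP₀2 : IsPGroup 2 P₀) (ha2 : ∃ j : ℕ, orderOf a = 2 ^ j) :
    IsPGroup 2 (mulZpowers P₀ a hacomm) := by
  rintro ⟨x, p, hp, k, rfl⟩
  obtain ⟨n, hn⟩ := hP₀2 ⟨p, hp⟩
  obtain ⟨j, hj⟩ := ha2
  have hn' : p ^ 2 ^ n = 1 := by
    have := congrArg Subtype.val hn
    simpa using this
  refine ⟨n + j, Subtype.ext ?_⟩
  have hc : Commute p (a ^ k) := ((show Commute a p from hacomm p hp).zpow_left k).symm
  show (p * a ^ k) ^ 2 ^ (n + j) = 1
  rw [hc.mul_pow]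
  have h1 : p ^ 2 ^ (n + j) = 1 := by rw [pow_add, pow_mul, hn', one_pow]
  have h2 : (a ^ k) ^ 2 ^ (n + j) = 1 := by
    rw [← zpow_natCast, ← zpow_mul, mul_comm, zpow_mul, zpow_natCast]
    have : a ^ 2 ^ (n + j) = 1 := by
      rw [pow_add, mul_comm, pow_mul, ← hj, pow_orderOf_eq_one, one_pow]
    rw [this, one_zpow]
  rw [h1, h2, one_mul]

theorem exists_mul_mem_center [Finite Γ] (hZ : ZStarStmt.{u})
    (I : Subgroup Γ) [hI : I.Normal] (a : Γ) (ha2 : ∃ j : ℕ, orderOf a = 2 ^ j)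
    (hgen : ∀ γ : Γ, ∃ i ∈ I, ∃ k : ℤ, γ = i * a ^ k)
    (P₀ : Subgroup Γ) (hP₀I : P₀ ≤ I) (hP₀2 : IsPGroup 2 P₀)
    (hP₀ab : ∀ x ∈ P₀, ∀ y ∈ P₀, x * y = y * x)
    (hP₀max : ∀ Q : Subgroup Γ, Q ≤ I → IsPGroup 2 Q → P₀ ≤ Q → Q = P₀)
    (hacomm : ∀ x ∈ P₀, a * x = x * a)
    (hO : Cfsg.oddCore Γ = ⊥) :
    ∃ i₀ ∈ I, a * i₀ ∈ center Γ := by
  have : Fact (Nat.Prime 2) := ⟨Nat.prime_two⟩
  set T := mulZpowers P₀ a hacomm with hT
  have hT2 : IsPGroup 2 T := isPGroup_mulZpowers hacomm hP₀2 ha2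
  obtain ⟨T', hTT'⟩ := hT2.exists_le_sylow
  have hP₀T : P₀ ≤ T := fun p hp => ⟨p, hp, 0, by simp⟩
  have haT : a ∈ T := ⟨1, P₀.one_mem, 1, by simp⟩
  -- `T' = T`
  have hT'T : (T' : Subgroup Γ) ≤ T := by
    intro x hx
    obtain ⟨i, hi, k, rfl⟩ := hgen x
    have hak : a ^ k ∈ (T' : Subgroup Γ) := hTT' (T.zpow_mem haT k)
    have hiT' : i ∈ (T' : Subgroup Γ) := by
      have := (T' : Subgroup Γ).mul_mem hx ((T' : Subgroup Γ).inv_mem hak)
      simpa using this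
    have hQ := hP₀max ((T' : Subgroup Γ) ⊓ I) inf_le_right (T'.2.to_le inf_le_left)
      (le_inf (hP₀T.trans hTT') hP₀I)
    have hiP₀ : i ∈ P₀ := by rw [← hQ]; exact ⟨hiT', hi⟩
    exact ⟨i, hiP₀, k, rfl⟩
  -- `T'` is abelian
  have hcommT : ∀ x ∈ T, ∀ y ∈ T, x * y = y * x := by
    rintro _ ⟨p, hp, k, rfl⟩ _ ⟨q, hq, l, rfl⟩
    have h1 : Commute p q := hP₀ab p hp q hq
    have h2 : Commute (a ^ k) q := (show Commute a q from hacomm q hq).zpow_left k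
    have h3 : Commute p (a ^ l) := ((show Commute a p from hacomm p hp).zpow_left l).symm
    have h4 : Commute (a ^ k) (a ^ l) := (Commute.refl a).zpow_zpow k l
    exact ((h1.mul_right h3).mul_left (h2.mul_right h4)).eq
  haveI hT'comm : IsMulCommutative (T' : Subgroup Γ) :=
    ⟨⟨fun x y => Subtype.ext (hcommT x (hT'T x.2) y (hT'T y.2))⟩⟩
  have hcop : (Nat.card (T' : Subgroup Γ)).Coprime
      ((T' : Subgroup Γ).relIndex (normalizer ((T' : Subgroup Γ) : Set Γ))) := by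
    obtain ⟨n, hn⟩ := T'.2.exists_card_eq
    rw [hn]
    apply Nat.Coprime.pow_left
    rw [Nat.Prime.coprime_iff_not_dvd Nat.prime_two]
    intro h
    exact T'.not_dvd_index (h.trans (relIndex_dvd_index_of_le le_normalizer))
  have hdec := Cfsg.Agent.Lib.Helper23.le_centralizer_sup_commutator_of_coprime
    (T' : Subgroup Γ) hcop (hTT' haT)
  -- commutators lie in `I`
  have hcommI : ∀ x y : Γ, ⁅x, y⁆ ∈ I := by
    intro x y
    obtain ⟨i, hi, k, rfl⟩ := hgen x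
    obtain ⟨i', hi', l, rfl⟩ := hgen y
    have hq : ∀ z : Γ, z ∈ I → (QuotientGroup.mk' I) z = 1 :=
      fun z hz => (QuotientGroup.eq_one_iff z).mpr hz
    have h1 : (QuotientGroup.mk' I) (i * a ^ k) = (QuotientGroup.mk' I a) ^ k := by
      rw [map_mul, hq i hi, one_mul, map_zpow]
    have h2 : (QuotientGroup.mk' I) (i' * a ^ l) = (QuotientGroup.mk' I a) ^ l := by
      rw [map_mul, hq i' hi', one_mul, map_zpow]
    have h3 : (QuotientGroup.mk' I) ⁅i * a ^ k, i' * a ^ l⁆ = 1 := by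
      rw [map_commutatorElement, h1, h2, commutatorElement_eq_one_iff_commute]
      exact (Commute.refl _).zpow_zpow k l
    exact (QuotientGroup.eq_one_iff _).mp h3
  have hle : ⁅(T' : Subgroup Γ), normalizer ((T' : Subgroup Γ) : Set Γ)⁆ ≤ I := by
    rw [commutator_le]
    intro x _ y _
    exact hcommI x y
  have hmem : a ∈ ((T' : Subgroup Γ) ⊓
      centralizer ((normalizer ((T' : Subgroup Γ) : Set Γ) : Subgroup Γ) : Set Γ)) ⊔ I :=
    (sup_le_sup_left hle _) hdec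
  obtain ⟨b, hb, i, hi, hbi⟩ := mem_sup_of_normal_right.mp hmem
  obtain ⟨hbT', hbC⟩ := Subgroup.mem_inf.mp hb
  -- `b` is isolated
  have hiso : Cfsg.Agent.Lib.Helper26.IsolatedIn (T' : Subgroup Γ) b := by
    refine ⟨hbT', fun g hg => ?_⟩
    obtain ⟨n, hn, hn'⟩ := T'.conj_eq_normalizer_conj_of_mem b g⁻¹ hbT' (by
      have : g⁻¹⁻¹ * b * g⁻¹ = g * b * g⁻¹ := by group
      rw [this]; exact hg)
    have h1 := (Subgroup.mem_centralizer_iff.mp hbC) n hn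
    have h2 : g * b * g⁻¹ = n⁻¹ * b * n := by simpa using hn'
    rw [h2, mul_assoc, ← h1]; group
  refine ⟨i⁻¹, I.inv_mem hi, ?_⟩
  have hab : a * i⁻¹ = b := by rw [← hbi]; group
  rw [hab, Subgroup.mem_center_iff]
  intro g
  have h3 := Cfsg.Agent.Lib.Helper26.IsolatedIn.comm_mem_oddCore hZ T' hiso g
  rw [hO, Subgroup.mem_bot] at h3
  calc g * b = (b * g * b⁻¹ * g⁻¹)⁻¹ * (b * g) := by group
    _ = b * g := by rw [h3]; group

section Instantiate

variable {G : Type u} [Group G]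

theorem conj_mul_conj_inv (φ : MulAut G) (g : G) :
    φ * MulAut.conj g * φ⁻¹ = MulAut.conj (φ g) := by
  ext x
  simp [MulAut.conj_apply, MulAut.mul_apply]

instance conj_range_normal : (MulAut.conj : G →* MulAut G).range.Normal := by
  refine ⟨?_⟩
  rintro _ ⟨g, rfl⟩ φ
  exact ⟨φ g, (conj_mul_conj_inv φ g).symm⟩

theorem conj_injective (hZ : Subgroup.center G = ⊥) :
    Function.Injective (MulAut.conj : G →* MulAut G) := by
  intro g h hgh
  have h1 : h⁻¹ * g ∈ Subgroup.center G := by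
    rw [Subgroup.mem_center_iff]
    intro x
    have := DFunLike.congr_fun hgh x
    simp only [MulAut.conj_apply] at this
    calc x * (h⁻¹ * g) = h⁻¹ * (h * x * h⁻¹) * g := by group
      _ = h⁻¹ * (g * x * g⁻¹) * g := by rw [this]
      _ = h⁻¹ * g * x := by group
  rw [hZ, Subgroup.mem_bot] at h1
  calc g = h * (h⁻¹ * g) := by group
    _ = h := by rw [h1, mul_one]

/-- Glauberman: with `Z(G) = O(G) = 1` and abelian Sylow `2`-subgroup `P`, an automorphism of `2`-power order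
fixing `P` elementwise is inner (given the `Z*`-theorem). -/
theorem inner_of_fix_sylow (hZs : ZStarStmt.{u}) [Finite G] (hZ : Subgroup.center G = ⊥)
    (hcore : Cfsg.pPrimeCore 2 G = ⊥) (P : Sylow 2 G) (hab : IsMulCommutative (P : Subgroup G))
    (α : MulAut G) (h2 : ∃ j : ℕ, orderOf α = 2 ^ j) (hfix : ∀ x ∈ (P : Subgroup G), α x = x) :
    ∃ g : G, ∀ x : G, α x = g * x * g⁻¹ := by
  have : Fact (Nat.Prime 2) := ⟨Nat.prime_two⟩
  set I₀ : Subgroup (MulAut G) := (MulAut.conj : G →* MulAut G).range with hI₀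
  set Γ₀ : Subgroup (MulAut G) := I₀ ⊔ zpowers α with hΓ₀
  have hIΓ : I₀ ≤ Γ₀ := le_sup_left
  have hαΓ : α ∈ Γ₀ := (le_sup_right : zpowers α ≤ Γ₀) (mem_zpowers α)
  let ι : G →* Γ₀ := (MulAut.conj : G →* MulAut G).codRestrict Γ₀ (fun g => hIΓ ⟨g, rfl⟩)
  have hι : ∀ g, ((ι g : Γ₀) : MulAut G) = MulAut.conj g := fun g => rfl
  have hιinj : Function.Injective ι := by
    intro g h hgh
    exact conj_injective hZ (congrArg Subtype.val hgh)
  set I : Subgroup Γ₀ := I₀.subgroupOf Γ₀ with hI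
  have hImem : ∀ x : Γ₀, x ∈ I ↔ ∃ g, ι g = x := by
    intro x
    rw [hI, mem_subgroupOf]
    constructor
    · rintro ⟨g, hg⟩
      exact ⟨g, Subtype.ext hg⟩
    · rintro ⟨g, rfl⟩
      exact ⟨g, rfl⟩
  set a : Γ₀ := ⟨α, hαΓ⟩ with ha
  set P₀ : Subgroup Γ₀ := (P : Subgroup G).map ι with hP₀
  -- hypotheses of the abstract theorem
  have ha2 : ∃ j : ℕ, orderOf a = 2 ^ j := by
    obtain ⟨j, hj⟩ := h2
    exact ⟨j, by rw [ha, Subgroup.orderOf_mk]; exact hj⟩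
  have hgen : ∀ γ : Γ₀, ∃ i ∈ I, ∃ k : ℤ, γ = i * a ^ k := by
    intro γ
    obtain ⟨y, hy, z, hz, hyz⟩ := mem_sup_of_normal_left.mp γ.2
    obtain ⟨k, rfl⟩ := hz
    refine ⟨⟨y, hIΓ hy⟩, ?_, k, ?_⟩
    · rw [hI, mem_subgroupOf]; exact hy
    · apply Subtype.ext
      rw [← hyz]
      simp [ha]
  have hP₀I : P₀ ≤ I := by
    rintro _ ⟨p, _, rfl⟩
    exact (hImem _).mpr ⟨p, rfl⟩
  have hP₀2 : IsPGroup 2 P₀ := P.2.map ι
  have hPcomm : ∀ p ∈ (P : Subgroup G), ∀ q ∈ (P : Subgroup G), p * q = q * p := by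
    intro p hp q hq
    have := mul_comm' (⟨p, hp⟩ : (P : Subgroup G)) ⟨q, hq⟩
    exact congrArg Subtype.val this
  have hP₀ab : ∀ x ∈ P₀, ∀ y ∈ P₀, x * y = y * x := by
    rintro _ ⟨p, hp, rfl⟩ _ ⟨q, hq, rfl⟩
    rw [← map_mul, ← map_mul, hPcomm p hp q hq]
  have hP₀max : ∀ Q : Subgroup Γ₀, Q ≤ I → IsPGroup 2 Q → P₀ ≤ Q → Q = P₀ := by
    intro Q hQI hQ2 hPQ
    have h1 : IsPGroup 2 (Q.comap ι) := hQ2.comap_of_injective ι hιinj
    have h2' : (P : Subgroup G) ≤ Q.comap ι := fun p hp => hPQ ⟨p, hp, rfl⟩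
    have h3 := P.is_maximal' h1 h2'
    apply le_antisymm _ hPQ
    intro q hq
    obtain ⟨g, rfl⟩ := (hImem q).mp (hQI hq)
    have hg : g ∈ Q.comap ι := hq
    rw [h3] at hg
    exact ⟨g, hg, rfl⟩
  have hacomm : ∀ x ∈ P₀, a * x = x * a := by
    rintro _ ⟨p, hp, rfl⟩
    apply Subtype.ext
    show α * MulAut.conj p = MulAut.conj p * α
    ext x
    simp [MulAut.conj_apply, MulAut.mul_apply, hfix p hp]
  -- `O(Γ₀) = 1`
  have hO : Cfsg.oddCore Γ₀ = ⊥ := by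
    rw [eq_bot_iff]
    intro x hx
    rw [Subgroup.mem_bot]
    have hNcop : (Nat.card (Cfsg.oddCore Γ₀)).Coprime 2 :=
      Cfsg.Agent.Lib.Helper12.pPrimeCore_coprime 2
    -- `x ∈ I`
    have hxI : x ∈ I := by
      obtain ⟨i, hi, k, hxe⟩ := hgen x
      obtain ⟨j, hj⟩ := ha2
      have hord : orderOf x ∣ Nat.card (Cfsg.oddCore Γ₀) := by
        have := orderOf_dvd_natCard (⟨x, hx⟩ : Cfsg.oddCore Γ₀)
        rwa [Subgroup.orderOf_mk] at this
      have h1 : (QuotientGroup.mk' I x) ^ orderOf x = 1 := by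
        rw [← map_pow, pow_orderOf_eq_one, map_one]
      have hq : (QuotientGroup.mk' I) i = 1 := (QuotientGroup.eq_one_iff i).mpr hi
      have haj : (QuotientGroup.mk' I a) ^ 2 ^ j = 1 := by
        rw [← map_pow, ← hj, pow_orderOf_eq_one, map_one]
      have h2 : (QuotientGroup.mk' I x) ^ 2 ^ j = 1 := by
        rw [hxe, map_mul, hq, one_mul, map_zpow, ← zpow_natCast, ← zpow_mul, mul_comm, zpow_mul,
          zpow_natCast, haj, one_zpow]
      have hcop : Nat.Coprime (orderOf x) (2 ^ j) :=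
        Nat.Coprime.pow_right j (Nat.Coprime.coprime_dvd_left hord hNcop)
      have h3 : (QuotientGroup.mk' I x) ^ Nat.gcd (orderOf x) (2 ^ j) = 1 :=
        pow_gcd_eq_one.mpr ⟨h1, h2⟩
      rw [hcop, pow_one] at h3
      exact (QuotientGroup.eq_one_iff x).mp h3
    obtain ⟨g, rfl⟩ := (hImem x).mp hxI
    have hMn : ((Cfsg.oddCore Γ₀).comap ι).Normal := Subgroup.Normal.comap inferInstance ι
    have hMcop : (Nat.card ((Cfsg.oddCore Γ₀).comap ι)).Coprime 2 :=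
      Nat.Coprime.coprime_dvd_left (Subgroup.card_comap_dvd_of_injective _ ι hιinj) hNcop
    have hMle := Cfsg.Agent.Lib.Helper12.le_pPrimeCore 2 _ hMn hMcop
    have hg : g ∈ (Cfsg.oddCore Γ₀).comap ι := hx
    have hg' := hMle hg
    rw [hcore, Subgroup.mem_bot] at hg'
    rw [hg', map_one]
  have hInorm : I.Normal := by rw [hI]; infer_instance
  obtain ⟨i₀, hi₀, hcen⟩ := exists_mul_mem_center hZs I a ha2 hgen P₀ hP₀I hP₀2 hP₀ab hP₀max hacomm hO
  obtain ⟨g₀, rfl⟩ := (hImem i₀).mp hi₀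
  -- `β = α ∘ conj g₀` is the identity
  have hβ : ∀ g : G, α (g₀ * g * g₀⁻¹) = g := by
    intro g
    have h1 := (Subgroup.mem_center_iff.mp hcen) (ι g)
    have h2 := congrArg Subtype.val h1
    have h3 : MulAut.conj g * (α * MulAut.conj g₀) = (α * MulAut.conj g₀) * MulAut.conj g := h2
    have h4 : (α * MulAut.conj g₀) * MulAut.conj g * (α * MulAut.conj g₀)⁻¹ = MulAut.conj g := by
      rw [← h3]; group
    rw [conj_mul_conj_inv] at h4
    have h5 := conj_injective hZ h4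
    simpa [MulAut.mul_apply, MulAut.conj_apply] using h5
  refine ⟨g₀⁻¹, fun x => ?_⟩
  have := hβ (g₀⁻¹ * x * g₀)
  have e : g₀ * (g₀⁻¹ * x * g₀) * g₀⁻¹ = x := by group
  rw [e] at this
  rw [this, inv_inv]

end Instantiate

end Cfsg.Agent.Lib.Helper29.InnerAut
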