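import Mathlib
import Cfsg.Agent.Lib.Helper29.KInfH
import Cfsg.Agent.Lib.Helper1.PGroup
import Cfsg.Agent.S2003

/-!
# Glauberman's Theorem C for the K-infinity subgroups: the core statement (helper29)

If the lower or the upper K-infinity subgroup of a Sylow `p`-subgroup `S` of `G` is not normal in `G`, then some
`g ∈ S` outside `T = O_p(G)` satisfies `[X, g, g, g, g] ≤ Y` for every chief factor `X / Y` of `G` with `X ≤ T`, and
`[Z(T), g, g] = 1`.
-/

set_option autoImplicit false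
set_option linter.style.haveILetI false
set_option linter.unusedSectionVars false
set_option linter.unusedVariables false
open scoped commutatorElement

namespace Cfsg.Agent.Lib.Helper29.KInfN

open Cfsg.Agent.Lib.Helper27.KQ (Cfg0)
open Cfsg.Agent.Lib.Helper12.KInfDeg

universe u

variable {G : Type u} [Group G] [Finite G] {p : ℕ} [Fact p.Prime]

/-- a critical subgroup of `O_p(G)`, in the form of the hypotheses of `S1982` / `S2003` -/
theorem exists_critical (p : ℕ) [Fact p.Prime] (G : Type u) [Group G] [Finite G] :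
    ∃ A : Subgroup G, A ≤ Cfsg.pCore p G ∧ (A.subgroupOf (Cfsg.pCore p G)).Characteristic ∧
      (∀ a ∈ A, a ^ p ∈ A ⊓ Subgroup.centralizer ((A : Subgroup G) : Set G)) ∧
      ⁅A, A⁆ ≤ Subgroup.centralizer ((A : Subgroup G) : Set G) ∧
      ⁅Cfsg.pCore p G, A⁆ ≤ A ⊓ Subgroup.centralizer ((A : Subgroup G) : Set G) ∧
      Cfsg.pCore p G ⊓ Subgroup.centralizer ((A : Subgroup G) : Set G) =
        A ⊓ Subgroup.centralizer ((A : Subgroup G) : Set G) ∧
      (∀ φ : MulAut ↥(Cfsg.pCore p G), (orderOf φ).Coprime p →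
        (∀ a : ↥(Cfsg.pCore p G), (a : G) ∈ A → φ a = a) → φ = 1) := by
  have hHp : IsPGroup p (Cfsg.pCore p G) := Cfsg.Agent.Lib.Helper16.pCore_isPGroup
  haveI hHn : (Cfsg.pCore p G).Normal := inferInstance
  obtain ⟨C, hCc, h1, h2, h3⟩ := Cfsg.Agent.S0093.result hHp
  have hinj := (Cfsg.pCore p G).subtype_injective
  have hcls' : ⁅C, C⁆ ≤ Subgroup.centralizer (C : Set ↥(Cfsg.pCore p G)) :=
    (Subgroup.commutator_mono le_rfl le_top).trans (h2.trans inf_le_right)
  have htop : (⊤ : Subgroup ↥(Cfsg.pCore p G)).map (Cfsg.pCore p G).subtype = Cfsg.pCore p G := by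
    rw [← MonoidHom.range_eq_map, Subgroup.range_subtype]
  have hsub : (C.map (Cfsg.pCore p G).subtype).subgroupOf (Cfsg.pCore p G) = C := by
    unfold Subgroup.subgroupOf
    exact Subgroup.comap_map_eq_self_of_injective hinj C
  have hZ := Cfsg.Agent.Lib.Helper12.map_center_eq (Cfsg.pCore p G).subtype hinj C
  refine ⟨C.map (Cfsg.pCore p G).subtype, Subgroup.map_subtype_le _, ?_, ?_, ?_, ?_, ?_, ?_⟩
  · rw [hsub]; exact hCc
  · rintro _ ⟨c, hc, rfl⟩
    rw [hZ]
    refine ⟨c ^ p, Subgroup.mem_inf.mpr ⟨Subgroup.pow_mem _ hc p, ?_⟩, by simp⟩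
    apply h1
    have hCp : IsPGroup p ↥C := hHp.to_subgroup C
    have := Cfsg.Agent.Lib.Helper1.IsPGroup.pow_mem_frattini hCp (⟨c, hc⟩ : ↥C)
    exact ⟨_, this, rfl⟩
  · rw [← Subgroup.map_commutator,
      Cfsg.Agent.Lib.Helper12.map_le_centralizer_map_iff _ hinj]
    exact hcls'
  · rw [hZ]
    have e : ⁅Cfsg.pCore p G, C.map (Cfsg.pCore p G).subtype⁆ =
        (⁅(⊤ : Subgroup ↥(Cfsg.pCore p G)), C⁆).map (Cfsg.pCore p G).subtype := by
      rw [Subgroup.map_commutator, htop]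
    rw [e, Subgroup.commutator_comm]
    exact Subgroup.map_mono h2
  · apply le_antisymm
    · rintro x ⟨hxT, hxC⟩
      refine Subgroup.mem_inf.mpr ⟨?_, hxC⟩
      refine ⟨⟨x, hxT⟩, ?_, rfl⟩
      apply h3
      rw [Subgroup.mem_centralizer_iff]
      intro c hc
      apply Subtype.ext
      exact Subgroup.mem_centralizer_iff.mp hxC (c : G) ⟨c, hc, rfl⟩
    · exact inf_le_inf_right _ (Subgroup.map_subtype_le _)
  · intro φ hφ hfix
    apply Cfsg.Agent.S0121.result hHp C hCc h1 h2 h3 φ hφ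
    intro x hx
    exact hfix x ⟨x, hx, rfl⟩

/-- the degree of `g` on the chief factors inside `A` -/
theorem iter_three_le_of_chief {A U V : Subgroup G} [hAn : A.Normal] (g : G)
    (h3 : ⁅⁅⁅A, Subgroup.zpowers g⁆, Subgroup.zpowers g⁆, Subgroup.zpowers g⁆ ≤
      A ⊓ Subgroup.centralizer (A : Set G))
    (h2 : ⁅⁅A ⊓ Subgroup.centralizer (A : Set G), Subgroup.zpowers g⁆, Subgroup.zpowers g⁆ = ⊥)
    (hch : Cfsg.IsChiefFactor U V) (hUA : U ≤ A) :
    Cfsg.iterCommutator U (Subgroup.zpowers g) 3 ≤ V := by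
  obtain ⟨hVU, hUn, hVn, hmin⟩ := hch
  haveI := hUn
  haveI := hVn
  haveI hZn : (A ⊓ Subgroup.centralizer (A : Set G)).Normal := inferInstance
  have hCU : Subgroup.zpowers g ≤ Subgroup.normalizer (U : Set G) := by
    rw [Subgroup.normalizer_eq_top]; exact le_top
  by_cases hcase : U ⊓ (A ⊓ Subgroup.centralizer (A : Set G)) ≤ V
  · refine le_trans ?_ hcase
    apply le_inf (iter_le_self U _ hCU 3)
    exact le_trans (iter_mono hUA _ 3) h3
  · have hNn : ((U ⊓ (A ⊓ Subgroup.centralizer (A : Set G))) ⊔ V).Normal := inferInstance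
    have hle : (U ⊓ (A ⊓ Subgroup.centralizer (A : Set G))) ⊔ V ≤ U := sup_le inf_le_left hVU.le
    rcases hmin _ hNn le_sup_right hle with h | h
    · exact absurd (h ▸ le_sup_left) hcase
    · have h4 : Cfsg.iterCommutator U (Subgroup.zpowers g) 2 ≤ V := by
        apply iter_le_of_sup_eq h 2
        have : Cfsg.iterCommutator (U ⊓ (A ⊓ Subgroup.centralizer (A : Set G)))
            (Subgroup.zpowers g) 2 ≤ ⊥ := by
          rw [← h2]
          exact iter_mono inf_le_right _ 2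
        exact this.trans bot_le
      exact le_trans (iter_antitone U _ hCU (by norm_num : 2 ≤ 3)) h4

/-- **Theorem C, core.** -/
theorem theoremC_core (S : Sylow p G)
    (hK : ¬ (Cfsg.inducedFunctor Cfsg.kInfLower (S : Subgroup G)).Normal ∨
      ¬ (Cfsg.inducedFunctor Cfsg.kInfUpper (S : Subgroup G)).Normal) :
    ∃ g : G, g ∈ (S : Subgroup G) ∧ g ∉ Cfsg.pCore p G ∧
      (∀ U V : Subgroup G, Cfsg.IsChiefFactor U V → U ≤ Cfsg.pCore p G →
        Cfsg.iterCommutator U (Subgroup.zpowers g) 4 ≤ V) ∧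
      ⁅⁅Cfsg.pCore p G ⊓ Subgroup.centralizer ((Cfsg.pCore p G : Subgroup G) : Set G),
        Subgroup.zpowers g⁆, Subgroup.zpowers g⁆ = ⊥ := by
  have hHp : IsPGroup p (Cfsg.pCore p G) := Cfsg.Agent.Lib.Helper16.pCore_isPGroup
  haveI hHn : (Cfsg.pCore p G).Normal := inferInstance
  obtain ⟨A, hAT, hAchar, hA1, hA2, hA3, hA4, hA5⟩ := exists_critical p G
  haveI hAn : A.Normal := by
    have h1 := Cfsg.Agent.Lib.Helper1.normalizer_le_normalizer_map_subtype_of_characteristic
      (Cfsg.pCore p G) (A.subgroupOf (Cfsg.pCore p G))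
    rw [Subgroup.subgroupOf_map_subtype, inf_eq_left.mpr hAT, Subgroup.normalizer_eq_top] at h1
    exact Subgroup.normalizer_eq_top_iff.mp (top_le_iff.mp h1)
  have hcfg : Cfg0 p A := ⟨hAn, hAT, hA2, by rw [Subgroup.commutator_comm]; exact hA3⟩
  obtain ⟨g, hgS, hgT, h3, h2⟩ := exists_cubic_of_not_normal hcfg S hK
  refine ⟨g, hgS, hgT, ?_, ?_⟩
  · have := Cfsg.Agent.S2003.result (Cfsg.pCore p G) hHp A hAT hAchar hA1 hA2 hA3 hA4 hA5 g 3 2
      (by norm_num) (by norm_num)
      (fun U V hch hUA => iter_three_le_of_chief g h3 h2 hch hUA)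
      (fun U V hch hUZ => by
        have : Cfsg.iterCommutator U (Subgroup.zpowers g) 2 ≤ ⊥ := by
          rw [← h2]
          exact iter_mono hUZ _ 2
        exact this.trans bot_le)
    exact this
  · rw [eq_bot_iff, ← h2]
    have hle : Cfsg.pCore p G ⊓ Subgroup.centralizer ((Cfsg.pCore p G : Subgroup G) : Set G) ≤
        A ⊓ Subgroup.centralizer (A : Set G) := by
      rw [← hA4]
      exact inf_le_inf_left _ (Subgroup.centralizer_le hAT)
    exact Subgroup.commutator_mono (Subgroup.commutator_mono hle le_rfl) le_rfl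

end Cfsg.Agent.Lib.Helper29.KInfN
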