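import Mathlib
import Cfsg.Agent.Lib.Helper29.KInfH
import Cfsg.Agent.Lib.Helper12.KInfDegA

/-!
# Glauberman's Theorem C, part (b): chief factors with quadratic action (helper29)

Preparations: elements centralizing all chief factors inside a critical subgroup lie in `O_p(G)`.
-/

set_option autoImplicit false
set_option linter.style.haveILetI false
set_option linter.unusedSectionVars false
set_option linter.unusedVariables false
open scoped commutatorElement

namespace Cfsg.Agent.Lib.Helper29.KInfN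

open Cfsg.Agent.Lib.Helper27.KQ (Cfg0)
open Cfsg.Agent.Lib.Helper29.CFun (le_normalizer_of_conj_mem commutator_le_right_of_le_normalizer
  commutator_le_left_of_le_normalizer)

universe u

variable {G : Type u} [Group G] [Finite G] {p : ℕ} [Fact p.Prime]

/-- the critical configuration: `Cfg0` together with the faithful action of `p'`-elements -/
structure Crit (p : ℕ) [Fact p.Prime] (A : Subgroup G) : Prop where
  cfg : Cfg0 p A
  faithful : ∀ d : G, (orderOf d).Coprime p → d ∈ Subgroup.centralizer (A : Set G) →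
    d ∈ Subgroup.centralizer ((Cfsg.pCore p G : Subgroup G) : Set G)

theorem crit_of_hyps (A : Subgroup G) (hAT : A ≤ Cfsg.pCore p G)
    (hAchar : (A.subgroupOf (Cfsg.pCore p G)).Characteristic)
    (hA2 : ⁅A, A⁆ ≤ Subgroup.centralizer ((A : Subgroup G) : Set G))
    (hA3 : ⁅Cfsg.pCore p G, A⁆ ≤ A ⊓ Subgroup.centralizer ((A : Subgroup G) : Set G))
    (hA5 : ∀ φ : MulAut ↥(Cfsg.pCore p G), (orderOf φ).Coprime p →
      (∀ a : ↥(Cfsg.pCore p G), (a : G) ∈ A → φ a = a) → φ = 1) : Crit p A := by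
  haveI hTn : (Cfsg.pCore p G).Normal := inferInstance
  have hAn : A.Normal := by
    have h1 := Cfsg.Agent.Lib.Helper1.normalizer_le_normalizer_map_subtype_of_characteristic
      (Cfsg.pCore p G) (A.subgroupOf (Cfsg.pCore p G))
    rw [Subgroup.subgroupOf_map_subtype, inf_eq_left.mpr hAT, Subgroup.normalizer_eq_top] at h1
    exact Subgroup.normalizer_eq_top_iff.mp (top_le_iff.mp h1)
  refine ⟨⟨hAn, hAT, hA2, by rw [Subgroup.commutator_comm]; exact hA3⟩, ?_⟩
  intro d hd hdA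
  have hφ : (orderOf (MulAut.conjNormal (H := Cfsg.pCore p G) d)).Coprime p :=
    Nat.Coprime.coprime_dvd_left (orderOf_map_dvd _ d) hd
  have h1 := hA5 (MulAut.conjNormal (H := Cfsg.pCore p G) d) hφ (by
    intro a ha
    apply Subtype.ext
    rw [MulAut.conjNormal_apply]
    have := Subgroup.mem_centralizer_iff.mp hdA (a : G) ha
    rw [← this]; group)
  rw [Subgroup.mem_centralizer_iff]
  intro t ht
  have h2 := congrArg (fun φ : MulAut ↥(Cfsg.pCore p G) => ((φ ⟨t, ht⟩ : ↥(Cfsg.pCore p G)) : G)) h1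
  simp only [MulAut.conjNormal_apply, MulAut.one_apply] at h2
  -- h2 : d * t * d⁻¹ = t
  calc t * d = (d * t * d⁻¹) * d := by rw [h2]
    _ = d * t := by group

/-- a `p'`-element centralizing the chief factors between `X₀` and `X₁` and centralizing `X₀` centralizes `X₁` -/
theorem centralizes_of_chief {X₀ X₁ : Subgroup G} [hX₀ : X₀.Normal] (hX₁p : IsPGroup p X₁) {d : G}
    (hd : (orderOf d).Coprime p) (h0 : ∀ k ∈ X₀, ⁅k, d⁆ = 1)
    (hch : ∀ U V : Subgroup G, Cfsg.IsChiefFactor U V → X₀ ≤ V → U ≤ X₁ → ∀ u ∈ U, ⁅u, d⁆ ∈ V) :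
    ∀ X : Subgroup G, X.Normal → X₀ ≤ X → X ≤ X₁ → ∀ k ∈ X, ⁅k, d⁆ = 1 := by
  intro X
  induction X using WellFoundedLT.induction with
  | ind X ih =>
  intro hXn hX0 hX1
  by_cases hXX : X = X₀
  · rw [hXX]; exact h0
  have hlt : X₀ < X := lt_of_le_of_ne hX0 (Ne.symm hXX)
  obtain ⟨Y, -, hYmax⟩ := Finite.exists_le_maximal
    (p := fun Y : Subgroup G => Y.Normal ∧ X₀ ≤ Y ∧ Y < X) (a := X₀) ⟨hX₀, le_rfl, hlt⟩
  obtain ⟨⟨hYn, hX0Y, hYX⟩, hYle⟩ := hYmax
  have hchief : Cfsg.IsChiefFactor X Y := by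
    refine ⟨hYX, hXn, hYn, fun N hN hYN hNX => ?_⟩
    by_cases h : N = X
    · right; exact h
    · left
      have hNlt : N < X := lt_of_le_of_ne hNX h
      exact le_antisymm (hYle ⟨hN, hX0Y.trans hYN, hNlt⟩ hYN) hYN
  have hYc := ih Y hYX hYn hX0Y (hYX.le.trans hX1)
  exact centralizes_of_coprime (hX₁p.to_le hX1) hYX.le hd (hch X Y hchief hX0Y hX1) hYc

/-- the normal closure of elements centralizing a normal section centralizes it -/
theorem nclIn_top_commutator_mem {U V : Subgroup G} [hU : U.Normal] [hV : V.Normal] {𝒜 : Set G}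
    (h : ∀ a ∈ 𝒜, ∀ u ∈ U, ⁅u, a⁆ ∈ V) : ∀ d ∈ nclIn ⊤ 𝒜, ∀ u ∈ U, ⁅u, d⁆ ∈ V := by
  intro d hd
  unfold nclIn at hd
  induction hd using Subgroup.closure_induction with
  | mem x hx =>
    obtain ⟨l, -, a, ha, rfl⟩ := hx
    intro u hu
    have e : ⁅u, l * a * l⁻¹⁆ = l * ⁅l⁻¹ * u * l, a⁆ * l⁻¹ := by
      simp only [commutatorElement_def]; group
    rw [e]
    apply hV.conj_mem
    apply h a ha
    have := hU.conj_mem u hu l⁻¹
    simpa using this
  | one =>
    intro u hu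
    rw [commutatorElement_one_right]; exact one_mem _
  | mul x y _ _ hx hy =>
    intro u hu
    have e : ⁅u, x * y⁆ = ⁅u, x⁆ * (x * ⁅u, y⁆ * x⁻¹) := by
      simp only [commutatorElement_def]; group
    rw [e]
    exact mul_mem (hx u hu) (hV.conj_mem _ (hy u hu) x)
  | inv x _ hx =>
    intro u hu
    have e : ⁅u, x⁻¹⁆ = x⁻¹ * (⁅u, x⁆)⁻¹ * x := by
      simp only [commutatorElement_def]; group
    rw [e]
    have := hV.conj_mem _ (inv_mem (hx u hu)) x⁻¹
    simpa using this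

/-- **Stabilizers of chief series.** If `C_G(O_p(G)) ≤ O_p(G)` and `x` centralizes every chief factor of `G` inside
the critical subgroup `A` that lies below or above `Z₀`, then `x ∈ O_p(G)`. -/
theorem mem_pCore_of_chief {A : Subgroup G} (hA : Crit p A)
    (hΓ : Subgroup.centralizer ((Cfsg.pCore p G : Subgroup G) : Set G) ≤ Cfsg.pCore p G)
    (Z₀ : Subgroup G) [hZ₀n : Z₀.Normal] (hZ₀ : Z₀ ≤ A) (x : G)
    (hx : ∀ U V : Subgroup G, Cfsg.IsChiefFactor U V → U ≤ A → (U ≤ Z₀ ∨ Z₀ ≤ V) →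
      ⁅U, Subgroup.zpowers x⁆ ≤ V) : x ∈ Cfsg.pCore p G := by
  haveI hAn := hA.cfg.normal
  have hTp : IsPGroup p (Cfsg.pCore p G) := Cfsg.Agent.Lib.Helper16.pCore_isPGroup
  have hAp : IsPGroup p A := hTp.to_le hA.cfg.le
  have hNn : (nclIn ⊤ ({x} : Set G)).Normal := by
    rw [← Subgroup.normalizer_eq_top_iff, eq_top_iff]
    exact le_normalizer_nclIn ⊤ _
  have hxN : x ∈ nclIn ⊤ ({x} : Set G) := subset_nclIn ⊤ _ rfl
  have hNp : IsPGroup p (nclIn ⊤ ({x} : Set G)) := by
    apply isPGroup_of_coprime_trivial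
    intro d hd hc
    have hchief : ∀ U V : Subgroup G, Cfsg.IsChiefFactor U V → U ≤ A → (U ≤ Z₀ ∨ Z₀ ≤ V) →
        ∀ u ∈ U, ⁅u, d⁆ ∈ V := by
      intro U V hch hUA hal
      haveI := hch.2.1
      haveI := hch.2.2.1
      apply nclIn_top_commutator_mem (𝒜 := {x}) _ d hd
      intro a ha u hu
      rw [Set.mem_singleton_iff] at ha
      subst ha
      exact hx U V hch hUA hal (Subgroup.commutator_mem_commutator hu (Subgroup.mem_zpowers a))
    have h1 : ∀ k ∈ Z₀, ⁅k, d⁆ = 1 :=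
      centralizes_of_chief (X₀ := ⊥) (X₁ := Z₀) (hAp.to_le hZ₀) hc
        (by intro k hk; rw [Subgroup.mem_bot.mp hk, commutatorElement_one_left])
        (fun U V hch _ hUZ => hchief U V hch (hUZ.trans hZ₀) (Or.inl hUZ)) Z₀ hZ₀n bot_le le_rfl
    have h2 : ∀ k ∈ A, ⁅k, d⁆ = 1 :=
      centralizes_of_chief (X₀ := Z₀) (X₁ := A) hAp hc h1
        (fun U V hch hZV hUA => hchief U V hch hUA (Or.inr hZV)) A hAn hZ₀ le_rfl
    have hdA : d ∈ Subgroup.centralizer (A : Set G) := by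
      rw [Subgroup.mem_centralizer_iff]
      intro a ha
      have := h2 a ha
      rw [commutatorElement_eq_one_iff_commute] at this
      exact this.eq
    exact eq_one_of_coprime_of_mem hTp (hΓ (hA.faithful d hc hdA)) hc
  exact Cfsg.Agent.Lib.Helper16.le_pCore hNn hNp hxN

end Cfsg.Agent.Lib.Helper29.KInfN
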