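import Mathlib
import Cfsg.Agent.Lib.Helper29.KInfK
import Cfsg.Agent.Lib.Helper19.Clifford
import Cfsg.Agent.Lib.Helper8.ChiefP
import Cfsg.Agent.Lib.Helper1.NilpotentAction
import Cfsg.Agent.Lib.Helper26.FSPStableGroup

/-!
# Glauberman's Theorem C, part (b): Clifford's theorem for subnormal subgroups and quadratic action (helper29)
-/

set_option autoImplicit false
set_option linter.style.haveILetI false
set_option linter.unusedSectionVars false
set_option linter.unusedVariables false
open scoped commutatorElement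

namespace Cfsg.Agent.Lib.Helper29.KInfN

open Cfsg.Agent.Lib.Helper19 (Inv inv_iff_le_normalizer clifford_complement)
open Cfsg.Agent.Lib.Helper29.CFun (le_normalizer_of_conj_mem commutator_le_right_of_le_normalizer
  commutator_le_left_of_le_normalizer)

universe u

variable {G : Type u} [Group G] [Finite G] {p : ℕ} [Fact p.Prime]

omit [Finite G] in
theorem le_normalizer_of_abelian {W X N : Subgroup G} (hab : ∀ x ∈ W, ∀ y ∈ W, x * y = y * x)
    (hX : X ≤ W) (hN : N ≤ W) : X ≤ Subgroup.normalizer (N : Set G) := by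
  apply le_normalizer_of_conj_mem
  intro y hy a ha
  have : y * a * y⁻¹ = a := by
    rw [hab y (hX hy) a (hN ha)]; group
  rw [this]; exact ha

/-- **Clifford's theorem along a subnormal subgroup, applied to quadratic action.**
If `b` lies in a subnormal subgroup `H` normalizing `F`, and `b` acts quadratically on `F` and on `U` modulo `F`,
then `b` acts quadratically on the chief factor `U / V`. -/
theorem quad_of_subnormal {U V F H : Subgroup G} (hch : Cfsg.IsChiefFactor U V) (hUp : IsPGroup p U)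
    (hH : H.IsSubnormal) {b : G} (hbH : b ∈ H) (hHF : H ≤ Subgroup.normalizer (F : Set G))
    (hF : ⁅⁅F, Subgroup.zpowers b⁆, Subgroup.zpowers b⁆ ≤ ⊥)
    (hUF : ⁅⁅U, Subgroup.zpowers b⁆, Subgroup.zpowers b⁆ ≤ F) :
    ⁅⁅U, Subgroup.zpowers b⁆, Subgroup.zpowers b⁆ ≤ V := by
  have hcomm := Cfsg.Agent.Lib.Helper8.TraceArg.commutator_le_of_chief hch hUp
  obtain ⟨hVU, hUn, hVn, hmin⟩ := hch
  haveI := hUn
  haveI := hVn
  set π := QuotientGroup.mk' V with hπ
  have hπs : Function.Surjective π := QuotientGroup.mk'_surjective V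
  have key : ∀ X : Subgroup G, X ≤ V ↔ X.map π = ⊥ := by
    intro X
    rw [Subgroup.map_eq_bot_iff, QuotientGroup.ker_mk']
  haveI hUbn : (U.map π).Normal := Subgroup.Normal.map hUn π hπs
  have hUab : ∀ x ∈ U.map π, ∀ y ∈ U.map π, x * y = y * x := by
    have h1 : ⁅U.map π, U.map π⁆ = ⊥ := by
      rw [← Subgroup.map_commutator]; exact (key _).mp hcomm
    rw [Subgroup.commutator_eq_bot_iff_le_centralizer] at h1
    intro x hx y hy
    exact (Subgroup.mem_centralizer_iff.mp (h1 hy) x hx)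
  have hInvU : ∀ K : Subgroup (G ⧸ V), Inv K (U.map π) := by
    intro K
    rw [inv_iff_le_normalizer, Subgroup.normalizer_eq_top]; exact le_top
  -- semisimplicity along subnormal subgroups
  have hss : ∀ K : Subgroup G, K.IsSubnormal → ∀ X : Subgroup (G ⧸ V), X ≤ U.map π →
      Inv (K.map π) X →
      ∃ W : Subgroup (G ⧸ V), W ≤ U.map π ∧ Inv (K.map π) W ∧ X ⊓ W = ⊥ ∧ X ⊔ W = U.map π := by
    intro K hK
    induction hK with
    | top =>
      intro X hXU hXinv
      rw [Subgroup.map_top_of_surjective π hπs, inv_iff_le_normalizer, top_le_iff,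
        Subgroup.normalizer_eq_top_iff] at hXinv
      have hcn : (X.comap π).Normal := hXinv.comap π
      have hVc : V ≤ X.comap π := by
        intro v hv
        rw [Subgroup.mem_comap]
        have : π v = 1 := by rw [hπ, QuotientGroup.mk'_apply, QuotientGroup.eq_one_iff]; exact hv
        rw [this]; exact one_mem _
      have hcU : X.comap π ≤ U := by
        have h1 : X.comap π ≤ (U.map π).comap π := Subgroup.comap_mono hXU
        rw [Subgroup.comap_map_eq, QuotientGroup.ker_mk', sup_eq_left.mpr hVU.le] at h1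
        exact h1
      have hXeq : X = (X.comap π).map π := (Subgroup.map_comap_eq_self_of_surjective hπs X).symm
      rcases hmin _ hcn hVc hcU with h | h
      · refine ⟨U.map π, le_rfl, hInvU _, ?_, ?_⟩
        · rw [hXeq, h, (key V).mp le_rfl, bot_inf_eq]
        · rw [hXeq, h, (key V).mp le_rfl, bot_sup_eq]
      · refine ⟨⊥, bot_le, Cfsg.Agent.Lib.Helper19.inv_bot _, inf_bot_eq _, ?_⟩
        rw [hXeq, h, sup_bot_eq]
    | step H' K' hle hK' hN ih =>
      intro X hXU hXinv
      have hKN : K' ≤ Subgroup.normalizer (H' : Set G) :=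
        (Subgroup.normal_subgroupOf_iff_le_normalizer hle).mp hN
      exact clifford_complement (K'.map π) (H'.map π) (U.map π) hUab (hInvU _)
        (Subgroup.map_mono hle)
        ((Subgroup.map_mono hKN).trans (Subgroup.le_normalizer_map π)) ih X hXU hXinv
  -- the image of `F ⊓ U`
  have hHFU : H ≤ Subgroup.normalizer ((F ⊓ U : Subgroup G) : Set G) := by
    rw [← inv_iff_le_normalizer]
    apply Cfsg.Agent.Lib.Helper19.Inv.inf ((inv_iff_le_normalizer H F).mpr hHF)
    rw [inv_iff_le_normalizer, Subgroup.normalizer_eq_top]; exact le_top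
  have hFinv : Inv (H.map π) ((F ⊓ U).map π) := by
    rw [inv_iff_le_normalizer]
    exact (Subgroup.map_mono hHFU).trans (Subgroup.le_normalizer_map π)
  obtain ⟨W, hWU, hWinv, hFW, hFWsup⟩ := hss H hH ((F ⊓ U).map π)
    (Subgroup.map_mono inf_le_right) hFinv
  have hCeq : Subgroup.zpowers (π b) = (Subgroup.zpowers b).map π := by
    rw [MonoidHom.map_zpowers]
  have hbK : Subgroup.zpowers (π b) ≤ H.map π := by
    rw [Subgroup.zpowers_le]; exact ⟨b, hbH, rfl⟩
  have hCW : Subgroup.zpowers (π b) ≤ Subgroup.normalizer (W : Set (G ⧸ V)) :=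
    hbK.trans ((inv_iff_le_normalizer _ _).mp hWinv)
  have hCFb : Subgroup.zpowers (π b) ≤ Subgroup.normalizer (((F ⊓ U).map π : Subgroup (G ⧸ V)) : Set (G ⧸ V)) :=
    hbK.trans ((inv_iff_le_normalizer _ _).mp hFinv)
  have hUU : ⁅⁅U, Subgroup.zpowers b⁆, Subgroup.zpowers b⁆ ≤ U :=
    (Subgroup.commutator_mono (Subgroup.commutator_le_left U _) le_rfl).trans
      (Subgroup.commutator_le_left U _)
  have hq1 : ⁅⁅(F ⊓ U).map π, Subgroup.zpowers (π b)⁆, Subgroup.zpowers (π b)⁆ ≤ ⊥ := by
    rw [hCeq, ← Subgroup.map_commutator, ← Subgroup.map_commutator, le_bot_iff, ← key]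
    exact ((Subgroup.commutator_mono (Subgroup.commutator_mono inf_le_left le_rfl) le_rfl).trans
      hF).trans bot_le
  have hq0 : ⁅⁅U.map π, Subgroup.zpowers (π b)⁆, Subgroup.zpowers (π b)⁆ ≤ (F ⊓ U).map π := by
    rw [hCeq, ← Subgroup.map_commutator, ← Subgroup.map_commutator]
    exact Subgroup.map_mono (le_inf hUF hUU)
  have hq2 : ⁅⁅W, Subgroup.zpowers (π b)⁆, Subgroup.zpowers (π b)⁆ ≤ ⊥ := by
    rw [← hFW]
    apply le_inf
    · exact (Subgroup.commutator_mono (Subgroup.commutator_mono hWU le_rfl) le_rfl).trans hq0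
    · exact (Subgroup.commutator_mono (commutator_le_left_of_le_normalizer hCW) le_rfl).trans
        (commutator_le_left_of_le_normalizer hCW)
  have hN₁U : ⁅(F ⊓ U).map π, Subgroup.zpowers (π b)⁆ ⊔ ⁅W, Subgroup.zpowers (π b)⁆ ≤ U.map π :=
    sup_le ((commutator_le_left_of_le_normalizer hCFb).trans (Subgroup.map_mono inf_le_right))
      ((commutator_le_left_of_le_normalizer hCW).trans hWU)
  have hstep1 : ⁅(F ⊓ U).map π ⊔ W, Subgroup.zpowers (π b)⁆ ≤
      ⁅(F ⊓ U).map π, Subgroup.zpowers (π b)⁆ ⊔ ⁅W, Subgroup.zpowers (π b)⁆ := by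
    apply Cfsg.Agent.Lib.Helper12.KInfDeg.sup_commutator_le_of
      (le_normalizer_of_abelian hUab (Subgroup.map_mono inf_le_right) hN₁U)
      (le_normalizer_of_abelian hUab hWU hN₁U) le_sup_left le_sup_right
  have hstep2 : ⁅⁅(F ⊓ U).map π, Subgroup.zpowers (π b)⁆ ⊔ ⁅W, Subgroup.zpowers (π b)⁆,
      Subgroup.zpowers (π b)⁆ ≤ ⊥ := by
    apply Cfsg.Agent.Lib.Helper12.KInfDeg.sup_commutator_le_of _ _ hq1 hq2
    · rw [Subgroup.normalizer_eq_top]; exact le_top
    · rw [Subgroup.normalizer_eq_top]; exact le_top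
  rw [key, ← le_bot_iff, Subgroup.map_commutator, Subgroup.map_commutator, ← hCeq, ← hFWsup]
  exact (Subgroup.commutator_mono hstep1 le_rfl).trans hstep2

/-- the group induced on a minimal normal `p`-subgroup has trivial `O_p` -/
theorem pCore_quotient_centralizer_eq_bot {Q : Type u} [Group Q] [Finite Q] (P : Subgroup Q)
    [hPn : P.Normal] (hP : IsPGroup p P) (hPne : P ≠ ⊥)
    (hmin : ∀ X : Subgroup Q, X.Normal → X ≤ P → X = ⊥ ∨ X = P) :
    Cfsg.pCore p (Q ⧸ Subgroup.centralizer (P : Set Q)) = ⊥ := by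
  set C := Subgroup.centralizer (P : Set Q) with hC
  set π := QuotientGroup.mk' C with hπ
  have hπs : Function.Surjective π := QuotientGroup.mk'_surjective C
  obtain ⟨Sy⟩ : Nonempty (Sylow p Q) := inferInstance
  have hSy : Cfsg.pCore p (Q ⧸ C) ≤ (Sy : Subgroup Q).map π := by
    have := Cfsg.Agent.Lib.Helper16.pCore_le_sylow (Sy.mapSurjective hπs)
    rwa [Sylow.coe_mapSurjective] at this
  set R := (Cfsg.pCore p (Q ⧸ C)).comap π with hR
  haveI hRn : R.Normal := Subgroup.Normal.comap inferInstance π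
  have hPSy : (Sy : Subgroup Q) ≤ Subgroup.normalizer (P : Set Q) := by
    rw [Subgroup.normalizer_eq_top]; exact le_top
  have hlt := Cfsg.Agent.Lib.Helper1.IsPGroup.commutator_lt hP Sy.isPGroup' hPSy hPne
  have hle : ⁅P, R⁆ ≤ ⁅P, (Sy : Subgroup Q)⁆ := by
    rw [Subgroup.commutator_le]
    intro x hx r hr
    have hr' : π r ∈ (Sy : Subgroup Q).map π := hSy hr
    obtain ⟨s, hs, hsr⟩ := hr'
    have hc : s⁻¹ * r ∈ C := by
      rw [← QuotientGroup.eq]; exact hsr
    have hxc : ⁅x, s⁻¹ * r⁆ = 1 := by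
      rw [commutatorElement_eq_one_iff_commute]
      exact (Subgroup.mem_centralizer_iff.mp hc x hx)
    have e : ⁅x, r⁆ = ⁅x, s⁆ * (s * ⁅x, s⁻¹ * r⁆ * s⁻¹) := by
      simp only [commutatorElement_def]; group
    rw [e, hxc]
    simp only [mul_one, mul_inv_cancel]
    exact Subgroup.commutator_mem_commutator hx hs
  have hn : (⁅P, R⁆).Normal := inferInstance
  have hbot : ⁅P, R⁆ = ⊥ := by
    rcases hmin _ hn (Subgroup.commutator_le_left P R) with h | h
    · exact h
    · exfalso
      rw [h] at hle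
      exact lt_irrefl _ (lt_of_le_of_lt hle hlt)
  have hRC : R ≤ C := by
    rw [Subgroup.commutator_comm, Subgroup.commutator_eq_bot_iff_le_centralizer] at hbot
    exact hbot
  rw [eq_bot_iff]
  intro y hy
  obtain ⟨r, rfl⟩ := hπs y
  have hr : r ∈ R := hy
  rw [Subgroup.mem_bot]
  rw [hπ, QuotientGroup.mk'_apply, QuotientGroup.eq_one_iff]
  exact hRC hr

/-- **A chief factor with quadratic nontrivial action gives a quotient that is not `p`-stable.** -/
theorem not_normalizerPStable_of_quadChief {U V : Subgroup G} (hch : Cfsg.IsChiefFactor U V)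
    (hUp : IsPGroup p U) [hVn : V.Normal] (g : G)
    (h2 : ⁅⁅U, Subgroup.zpowers g⁆, Subgroup.zpowers g⁆ ≤ V)
    (h1 : ¬ ⁅U, Subgroup.zpowers g⁆ ≤ V) : ¬ Cfsg.IsNormalizerPStable p (G ⧸ V) := by
  intro hst
  obtain ⟨hVU, hUn, -, hmin⟩ := hch
  haveI := hUn
  set π := QuotientGroup.mk' V with hπ
  have hπs : Function.Surjective π := QuotientGroup.mk'_surjective V
  have key : ∀ X : Subgroup G, X ≤ V ↔ X.map π = ⊥ := by
    intro X
    rw [Subgroup.map_eq_bot_iff, QuotientGroup.ker_mk']
  haveI hPn : (U.map π).Normal := Subgroup.Normal.map hUn π hπs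
  have hPp : IsPGroup p (U.map π) := hUp.map π
  have hPne : U.map π ≠ ⊥ := by
    intro h
    exact lt_irrefl _ (lt_of_lt_of_le hVU ((key U).mpr h))
  have hPmin : ∀ X : Subgroup (G ⧸ V), X.Normal → X ≤ U.map π → X = ⊥ ∨ X = U.map π := by
    intro X hXn hXU
    have hcn : (X.comap π).Normal := hXn.comap π
    have hVc : V ≤ X.comap π := by
      intro v hv
      rw [Subgroup.mem_comap]
      have : π v = 1 := by rw [hπ, QuotientGroup.mk'_apply, QuotientGroup.eq_one_iff]; exact hv
      rw [this]; exact one_mem _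
    have hcU : X.comap π ≤ U := by
      have h1 : X.comap π ≤ (U.map π).comap π := Subgroup.comap_mono hXU
      rw [Subgroup.comap_map_eq, QuotientGroup.ker_mk', sup_eq_left.mpr hVU.le] at h1
      exact h1
    have hXeq : X = (X.comap π).map π := (Subgroup.map_comap_eq_self_of_surjective hπs X).symm
    rcases hmin _ hcn hVc hcU with h | h
    · left; rw [hXeq, h]; exact (key V).mp le_rfl
    · right; rw [hXeq, h]
  have hCeq : Subgroup.zpowers (π g) = (Subgroup.zpowers g).map π := by
    rw [MonoidHom.map_zpowers]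
  have hgN : π g ∈ Subgroup.normalizer ((U.map π : Subgroup (G ⧸ V)) : Set (G ⧸ V)) := by
    rw [Subgroup.normalizer_eq_top]; exact Subgroup.mem_top _
  have hquad : ⁅⁅U.map π, Subgroup.zpowers (π g)⁆, Subgroup.zpowers (π g)⁆ = ⊥ := by
    rw [hCeq, ← Subgroup.map_commutator, ← Subgroup.map_commutator, ← key]
    exact h2
  have hmem := hst (U.map π) hPp (π g) hgN hquad
  -- transfer to the quotient by the centralizer
  have hNtop : Subgroup.normalizer ((U.map π : Subgroup (G ⧸ V)) : Set (G ⧸ V)) = ⊤ :=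
    Subgroup.normalizer_eq_top _
  let f : ↥(Subgroup.normalizer ((U.map π : Subgroup (G ⧸ V)) : Set (G ⧸ V))) →*
      (G ⧸ V) ⧸ Subgroup.centralizer ((U.map π : Subgroup (G ⧸ V)) : Set (G ⧸ V)) :=
    (QuotientGroup.mk' _).comp (Subgroup.subtype _)
  have hfs : Function.Surjective f := by
    intro y
    obtain ⟨x, rfl⟩ := QuotientGroup.mk'_surjective _ y
    exact ⟨⟨x, hNtop ▸ Subgroup.mem_top x⟩, rfl⟩
  have hker : (Subgroup.centralizer ((U.map π : Subgroup (G ⧸ V)) : Set (G ⧸ V))).subgroupOf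
      (Subgroup.normalizer ((U.map π : Subgroup (G ⧸ V)) : Set (G ⧸ V))) = f.ker := by
    ext x
    rw [Subgroup.mem_subgroupOf, MonoidHom.mem_ker]
    show _ ↔ QuotientGroup.mk' _ (x : G ⧸ V) = 1
    rw [QuotientGroup.mk'_apply, QuotientGroup.eq_one_iff]
  have h3 := (Cfsg.Agent.Lib.Helper26.mk_mem_pCore_iff (p := p) f hfs _ hker ⟨π g, hgN⟩).mp hmem
  rw [pCore_quotient_centralizer_eq_bot (U.map π) hPp hPne hPmin, Subgroup.mem_bot] at h3
  have h4 : π g ∈ Subgroup.centralizer ((U.map π : Subgroup (G ⧸ V)) : Set (G ⧸ V)) := by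
    have : QuotientGroup.mk' (Subgroup.centralizer ((U.map π : Subgroup (G ⧸ V)) : Set (G ⧸ V)))
        (π g) = 1 := h3
    rwa [QuotientGroup.mk'_apply, QuotientGroup.eq_one_iff] at this
  apply h1
  rw [key, Subgroup.map_commutator, ← hCeq, Subgroup.commutator_eq_bot_iff_le_centralizer]
  rw [Subgroup.mem_centralizer_iff] at h4
  intro x hx
  rw [Subgroup.mem_centralizer_iff]
  intro y hy
  obtain ⟨k, rfl⟩ := Subgroup.mem_zpowers_iff.mp hy
  have hc : Commute (π g) x := (h4 x hx).symm
  exact (hc.zpow_left k).eq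

end Cfsg.Agent.Lib.Helper29.KInfN
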