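import Mathlib
import Cfsg.Agent.Lib.Helper29.KInfL

/-!
# Glauberman's Theorem C, part (b): the element with a quadratic chief factor (helper29)

If the lower or the upper K-infinity subgroup of a Sylow `p`-subgroup `S` of `G` is not normal in `G` and `A` is a critical
subgroup of `O_p(G)`, then some `g ∈ S` outside `O_p(G)` acts cubically on `A / Z(A)`, quadratically on `Z(A)`, and,
if `C_G(O_p(G)) ≤ O_p(G)`, quadratically and nontrivially on some chief factor of `G` inside `A`.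
-/

set_option autoImplicit false
set_option linter.style.haveILetI false
set_option linter.unusedSectionVars false
set_option linter.unusedVariables false
open scoped commutatorElement

namespace Cfsg.Agent.Lib.Helper29.KInfN

open Cfsg.Agent.Lib.Helper16 (OpOf)
open Cfsg.Agent.Lib.Helper27.KQ (Cfg0)
open Cfsg.Agent.Lib.Helper29.CFun (le_normalizer_of_conj_mem commutator_le_right_of_le_normalizer
  commutator_le_left_of_le_normalizer)

universe u

variable {G : Type u} [Group G] [Finite G] {p : ℕ} [Fact p.Prime] {A : Subgroup G}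

/-- the structure of a member `B` of the lower star family over `A` whose normal closure acts on `Z(A)` as a
`p`-group: a subnormal subgroup `H ≥ B` and an `H`-invariant `F ≤ A` with `B` quadratic on `F` and on `A / F` -/
theorem lowerStar_struct (hA : Cfg0 p A) {B Q : Subgroup G}
    (hAQ : A ≤ Q) (hB : B ∈ Cfsg.kLowerStarFamily Q)
    (hZBH : B ⊓ Subgroup.centralizer (B : Set G) ≤ Cfsg.pCore p G)
    (hNZA : ∀ d ∈ nclIn ⊤ (B : Set G), (orderOf d).Coprime p →
      ∀ z ∈ A ⊓ Subgroup.centralizer (A : Set G), ⁅z, d⁆ = 1) :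
    ∃ F H : Subgroup G, H.IsSubnormal ∧ B ≤ H ∧ H ≤ Subgroup.normalizer (F : Set G) ∧
      (∀ b ∈ B, ⁅⁅F, Subgroup.zpowers b⁆, Subgroup.zpowers b⁆ ≤ ⊥) ∧
      (∀ b ∈ B, ⁅⁅A, Subgroup.zpowers b⁆, Subgroup.zpowers b⁆ ≤ F) := by
  classical
  obtain ⟨hB2, hQB, hBt⟩ := hB
  haveI hAn := hA.normal
  haveI hZn : (A ⊓ Subgroup.centralizer (A : Set G)).Normal := inferInstance
  have hHp : IsPGroup p (Cfsg.pCore p G) := Cfsg.Agent.Lib.Helper16.pCore_isPGroup
  have hAp : IsPGroup p A := hHp.to_le hA.le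
  have hANB : A ≤ Subgroup.normalizer (B : Set G) := hAQ.trans hQB
  have hBNA : B ≤ Subgroup.normalizer (A : Set G) := by
    rw [Subgroup.normalizer_eq_top]; exact le_top
  have hZBB : ⁅B ⊓ Subgroup.centralizer (B : Set G), B⁆ = ⊥ := by
    rw [Subgroup.commutator_eq_bot_iff_le_centralizer]; exact inf_le_right
  -- the simplified test
  have hZAA : ⁅A ⊓ Subgroup.centralizer (A : Set G), A⁆ = ⊥ := by
    rw [Subgroup.commutator_eq_bot_iff_le_centralizer]; exact inf_le_right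
  have test : ∀ X : Subgroup G, X ≤ A → B ≤ Subgroup.normalizer (X : Set G) →
      ⁅B, ⁅X, X⁆⁆ = ⊥ → ⁅B, X⁆ ≤ B ⊓ Subgroup.centralizer (B : Set G) := by
    intro X hXA hBX hBXX
    apply hBt X ?_ (hXA.trans hAQ) hBX hBXX ?_
    · show ⁅X, X⁆ ≤ Subgroup.centralizer (X : Set G)
      calc ⁅X, X⁆ ≤ ⁅A, A⁆ := Subgroup.commutator_mono hXA hXA
        _ ≤ Subgroup.centralizer (A : Set G) := hA.cls
        _ ≤ Subgroup.centralizer (X : Set G) := Subgroup.centralizer_le hXA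
    · rw [eq_bot_iff]
      calc ⁅⁅B ⊓ Subgroup.centralizer (B : Set G), X⁆, X⁆
          ≤ ⁅⁅Cfsg.pCore p G, A⁆, A⁆ :=
            Subgroup.commutator_mono (Subgroup.commutator_mono hZBH hXA) hXA
        _ ≤ ⁅A ⊓ Subgroup.centralizer (A : Set G), A⁆ :=
            Subgroup.commutator_mono (by rw [Subgroup.commutator_comm]; exact hA.comm) le_rfl
        _ = ⊥ := hZAA
  -- `B` is quadratic on `Z(A)`
  have hBZA : ⁅B, A ⊓ Subgroup.centralizer (A : Set G)⁆ ≤ B ⊓ Subgroup.centralizer (B : Set G) := by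
    apply test _ inf_le_left (by rw [Subgroup.normalizer_eq_top]; exact le_top)
    have : ⁅A ⊓ Subgroup.centralizer (A : Set G), A ⊓ Subgroup.centralizer (A : Set G)⁆ = ⊥ := by
      rw [Subgroup.commutator_eq_bot_iff_le_centralizer]
      exact inf_le_right.trans (Subgroup.centralizer_le inf_le_left)
    rw [this]
    exact Subgroup.commutator_bot_right B
  have hquadZA : ∀ b ∈ (B : Set G), ⁅⁅A ⊓ Subgroup.centralizer (A : Set G), Subgroup.zpowers b⁆,
      Subgroup.zpowers b⁆ ≤ ⊥ := by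
    intro b hb
    have hzb : Subgroup.zpowers b ≤ B := by rw [Subgroup.zpowers_le]; exact hb
    calc _ ≤ ⁅⁅A ⊓ Subgroup.centralizer (A : Set G), B⁆, B⁆ :=
          Subgroup.commutator_mono (Subgroup.commutator_mono le_rfl hzb) hzb
      _ ≤ ⁅B ⊓ Subgroup.centralizer (B : Set G), B⁆ :=
          Subgroup.commutator_mono (by rw [Subgroup.commutator_comm]; exact hBZA) le_rfl
      _ = ⊥ := hZBB
  have hNn : (nclIn ⊤ (B : Set G)).Normal := by
    rw [← Subgroup.normalizer_eq_top_iff, eq_top_iff]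
    exact le_normalizer_nclIn ⊤ _
  have hBN : B ≤ nclIn ⊤ (B : Set G) := subset_nclIn ⊤ _
  -- `M = O^p(⟨B^G⟩)` centralizes `Z(A)`
  have hMN : OpOf p (nclIn ⊤ (B : Set G)) ≤ nclIn ⊤ (B : Set G) :=
    Cfsg.Agent.Lib.Helper16.OpOf_le _
  haveI hMn : (OpOf p (nclIn ⊤ (B : Set G))).Normal := OpOf_normal _
  have hMZA : OpOf p (nclIn ⊤ (B : Set G)) ≤
      Subgroup.centralizer ((A ⊓ Subgroup.centralizer (A : Set G) : Subgroup G) : Set G) := by
    unfold Cfsg.Agent.Lib.Helper16.OpOf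
    rw [Subgroup.closure_le]
    rintro d ⟨hdN, hc⟩
    rw [SetLike.mem_coe, Subgroup.mem_centralizer_iff]
    intro z hz
    have := hNZA d hdN hc z hz
    rw [commutatorElement_eq_one_iff_commute] at this
    exact this.eq
  -- `R = [A, B, B]`
  have hAB_B : ⁅A, B⁆ ≤ B := commutator_le_right_of_le_normalizer hANB
  have hAB_A : ⁅A, B⁆ ≤ A := Subgroup.commutator_le_left A B
  have hRA : ⁅⁅A, B⁆, B⁆ ≤ A :=
    (Subgroup.commutator_mono hAB_A le_rfl).trans (Subgroup.commutator_le_left A B)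
  have hRZB : ⁅⁅A, B⁆, B⁆ ≤ B ⊓ Subgroup.centralizer (B : Set G) := by
    have h1 : ⁅⁅A, B⁆, B⁆ ≤ ⁅B, B⁆ := Subgroup.commutator_mono hAB_B le_rfl
    exact h1.trans (le_inf (commutator_le_right_of_le_normalizer Subgroup.le_normalizer) hB2)
  have hF3 : ∀ r ∈ ⁅⁅A, B⁆, B⁆, ∀ a ∈ A, ⁅r, a⁆ ∈ Subgroup.centralizer (A : Set G) ⊓
      Subgroup.centralizer (B : Set G) := by
    intro r hr a ha
    have hra : ⁅r, a⁆ ∈ Subgroup.centralizer (A : Set G) :=
      hA.cls (Subgroup.commutator_mem_commutator (hRA hr) ha)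
    refine Subgroup.mem_inf.mpr ⟨hra, ?_⟩
    rw [Subgroup.mem_centralizer_iff]
    intro b hb
    have hrZ := hRZB hr
    have hrb : b * r = r * b := Subgroup.mem_centralizer_iff.mp hrZ.2 b hb
    have hc : ⁅b, a⁆ ∈ ⁅A, B⁆ := by
      rw [Subgroup.commutator_comm]; exact Subgroup.commutator_mem_commutator hb ha
    have hcB : ⁅b, a⁆ ∈ B := hAB_B hc
    have hcA : ⁅b, a⁆ ∈ A := hAB_A hc
    have hrc : ⁅b, a⁆ * r = r * ⁅b, a⁆ := Subgroup.mem_centralizer_iff.mp hrZ.2 _ hcB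
    have hcra : ⁅b, a⁆ * ⁅r, a⁆ = ⁅r, a⁆ * ⁅b, a⁆ := Subgroup.mem_centralizer_iff.mp hra _ hcA
    have h1 : b * ⁅r, a⁆ * b⁻¹ = ⁅b * r * b⁻¹, b * a * b⁻¹⁆ := by
      simp only [commutatorElement_def]; group
    have h2 : b * r * b⁻¹ = r := by rw [hrb]; group
    have h3 : b * a * b⁻¹ = ⁅b, a⁆ * a := by simp only [commutatorElement_def]; group
    have h4 : ∀ c : G, ⁅r, c * a⁆ = ⁅r, c⁆ * (c * ⁅r, a⁆ * c⁻¹) := by
      intro c; simp only [commutatorElement_def]; group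
    have h5 : ⁅r, ⁅b, a⁆⁆ = 1 := commutatorElement_eq_one_iff_commute.mpr hrc.symm
    have h6 : ⁅b, a⁆ * ⁅r, a⁆ * (⁅b, a⁆)⁻¹ = ⁅r, a⁆ := by rw [hcra]; group
    have h7 : b * ⁅r, a⁆ * b⁻¹ = ⁅r, a⁆ := by
      rw [h1, h2, h3, h4, h5, h6, one_mul]
    exact mul_inv_eq_iff_eq_mul.mp h7
  -- the test subgroup `F`
  have hFA : flat A B ≤ A := flat_le A B
  have hZAF : A ⊓ Subgroup.centralizer (A : Set G) ≤ flat A B := by
    intro z hz
    refine ⟨hz.1, fun a ha => ?_⟩
    have : ⁅z, a⁆ = 1 := by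
      rw [commutatorElement_eq_one_iff_commute]
      exact (Subgroup.mem_centralizer_iff.mp hz.2 a ha).symm
    rw [this]; exact one_mem _
  have hRF : ⁅⁅A, B⁆, B⁆ ≤ flat A B := fun r hr => ⟨hRA hr, hF3 r hr⟩
  have hBNF : B ≤ Subgroup.normalizer (flat A B : Set G) := by
    apply le_normalizer_of_conj_mem
    intro b hb x hx
    apply conj_mem_flat (hBNA hb) hx
    intro a ha
    have := Subgroup.mem_centralizer_iff.mp (hx.2 a ha).2 b hb
    rw [this]; group
  have hHNF : Cfsg.pCore p G ≤ Subgroup.normalizer (flat A B : Set G) := by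
    apply le_normalizer_of_conj_mem
    intro h hh x hx
    have e : h * x * h⁻¹ = ⁅h, x⁆ * x := by simp only [commutatorElement_def]; group
    rw [e]
    refine mul_mem (hZAF (hA.comm ?_)) hx
    rw [Subgroup.commutator_comm]
    exact Subgroup.commutator_mem_commutator hh hx.1
  have hMNF : OpOf p (nclIn ⊤ (B : Set G)) ≤ Subgroup.normalizer (flat A B : Set G) := by
    apply le_normalizer_of_conj_mem
    intro m hm x hx
    apply conj_mem_flat (by rw [Subgroup.normalizer_eq_top]; exact Subgroup.mem_top m) hx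
    intro a ha
    have hxa : ⁅x, a⁆ ∈ A ⊓ Subgroup.centralizer (A : Set G) :=
      ⟨(Subgroup.commutator_le_left A A) (Subgroup.commutator_mem_commutator hx.1 ha),
        (hx.2 a ha).1⟩
    have := Subgroup.mem_centralizer_iff.mp (hMZA hm) _ hxa
    rw [← this]; group
  have hFF : ⁅B, ⁅flat A B, flat A B⁆⁆ = ⊥ := by
    rw [Subgroup.commutator_eq_bot_iff_le_centralizer, Subgroup.le_centralizer_iff,
      Subgroup.commutator_le]
    intro x hx y hy
    exact (hx.2 y (hFA hy)).2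
  have hBF : ⁅B, flat A B⁆ ≤ B ⊓ Subgroup.centralizer (B : Set G) := test _ hFA hBNF hFF
  have hquadF : ∀ b ∈ (B : Set G), ⁅⁅flat A B, Subgroup.zpowers b⁆, Subgroup.zpowers b⁆ ≤ ⊥ := by
    intro b hb
    have hzb : Subgroup.zpowers b ≤ B := by rw [Subgroup.zpowers_le]; exact hb
    calc _ ≤ ⁅⁅flat A B, B⁆, B⁆ :=
          Subgroup.commutator_mono (Subgroup.commutator_mono le_rfl hzb) hzb
      _ ≤ ⁅B ⊓ Subgroup.centralizer (B : Set G), B⁆ :=
          Subgroup.commutator_mono (by rw [Subgroup.commutator_comm]; exact hBF) le_rfl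
      _ = ⊥ := hZBB
  have hquadA : ∀ b ∈ (B : Set G), ⁅⁅A, Subgroup.zpowers b⁆, Subgroup.zpowers b⁆ ≤ flat A B := by
    intro b hb
    have hzb : Subgroup.zpowers b ≤ B := by rw [Subgroup.zpowers_le]; exact hb
    exact (Subgroup.commutator_mono (Subgroup.commutator_mono le_rfl hzb) hzb).trans hRF
  -- the subgroup `G₂ = O_p(G) M B`
  have hFG₂ : flat A B ≤ Cfsg.pCore p G ⊔ OpOf p (nclIn ⊤ (B : Set G)) ⊔ B :=
    hFA.trans (hA.le.trans (le_sup_left.trans le_sup_left))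
  have hAG₂ : A ≤ Cfsg.pCore p G ⊔ OpOf p (nclIn ⊤ (B : Set G)) ⊔ B :=
    hA.le.trans (le_sup_left.trans le_sup_left)
  have hG₂NF : Cfsg.pCore p G ⊔ OpOf p (nclIn ⊤ (B : Set G)) ⊔ B ≤
      Subgroup.normalizer (flat A B : Set G) := sup_le (sup_le hHNF hMNF) hBNF
  have hG₂NA : Cfsg.pCore p G ⊔ OpOf p (nclIn ⊤ (B : Set G)) ⊔ B ≤
      Subgroup.normalizer (A : Set G) := by rw [Subgroup.normalizer_eq_top]; exact le_top
  have hBG₂ : (B : Set G) ⊆ ((Cfsg.pCore p G ⊔ OpOf p (nclIn ⊤ (B : Set G)) ⊔ B : Subgroup G) : Set G) :=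
    fun _ hb => (le_sup_right : B ≤ _) hb
  -- subnormality of `G₂`
  have hG₂NH : Cfsg.pCore p G ⊔ OpOf p (nclIn ⊤ (B : Set G)) ⊔ B ≤
      nclIn ⊤ (B : Set G) ⊔ Cfsg.pCore p G :=
    sup_le (sup_le le_sup_right (hMN.trans le_sup_left)) (hBN.trans le_sup_left)
  have hEG₂ : OpOf p (nclIn ⊤ (B : Set G)) ⊔ Cfsg.pCore p G ≤
      Cfsg.pCore p G ⊔ OpOf p (nclIn ⊤ (B : Set G)) ⊔ B := by
    rw [sup_comm]; exact le_sup_left
  have hG₂sn : (Cfsg.pCore p G ⊔ OpOf p (nclIn ⊤ (B : Set G)) ⊔ B).IsSubnormal :=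
    isSubnormal_of_between (nclIn ⊤ (B : Set G)) (Cfsg.pCore p G) _ hEG₂ hG₂NH
  exact ⟨flat A B, Cfsg.pCore p G ⊔ OpOf p (nclIn ⊤ (B : Set G)) ⊔ B, hG₂sn, le_sup_right, hG₂NF,
    fun b hb => hquadF b hb, fun b hb => hquadA b hb⟩

/-- `g` acts quadratically and nontrivially on some chief factor of `G` inside `A` -/
def QuadChief (A : Subgroup G) (g : G) : Prop :=
  ∃ U V : Subgroup G, Cfsg.IsChiefFactor U V ∧ U ≤ A ∧
    ⁅⁅U, Subgroup.zpowers g⁆, Subgroup.zpowers g⁆ ≤ V ∧ ¬ ⁅U, Subgroup.zpowers g⁆ ≤ V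

/-- no element of `S` outside `O_p(G)` has all the properties of Theorem C -/
def NoCubG (p : ℕ) (A S : Subgroup G) : Prop :=
  ∀ g ∈ S, ⁅⁅⁅A, Subgroup.zpowers g⁆, Subgroup.zpowers g⁆, Subgroup.zpowers g⁆ ≤
      A ⊓ Subgroup.centralizer (A : Set G) →
    ⁅⁅A ⊓ Subgroup.centralizer (A : Set G), Subgroup.zpowers g⁆, Subgroup.zpowers g⁆ = ⊥ →
    (Subgroup.centralizer ((Cfsg.pCore p G : Subgroup G) : Set G) ≤ Cfsg.pCore p G → QuadChief A g) →
    g ∈ Cfsg.pCore p G

variable {S : Subgroup G}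

theorem mem_of_quadG (hA : Crit p A) (hN : NoCubG p A S) {x : G} (hx : x ∈ S)
    (h1 : ⁅⁅A, Subgroup.zpowers x⁆, Subgroup.zpowers x⁆ ≤ A ⊓ Subgroup.centralizer (A : Set G))
    (h2 : ⁅⁅A ⊓ Subgroup.centralizer (A : Set G), Subgroup.zpowers x⁆, Subgroup.zpowers x⁆ = ⊥) :
    x ∈ Cfsg.pCore p G := by
  haveI := hA.cfg.normal
  haveI hZn : (A ⊓ Subgroup.centralizer (A : Set G)).Normal := inferInstance
  by_contra hxT
  apply hxT
  apply hN x hx
  · exact (Subgroup.commutator_mono h1 le_rfl).trans (Subgroup.commutator_le_left _ _)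
  · exact h2
  · intro hΓ
    by_contra hnq
    apply hxT
    apply mem_pCore_of_chief hA hΓ (A ⊓ Subgroup.centralizer (A : Set G)) inf_le_left x
    intro U V hch hUA hal
    by_contra hne
    apply hnq
    refine ⟨U, V, hch, hUA, ?_, hne⟩
    rcases hal with hal | hal
    · calc ⁅⁅U, Subgroup.zpowers x⁆, Subgroup.zpowers x⁆
          ≤ ⁅⁅A ⊓ Subgroup.centralizer (A : Set G), Subgroup.zpowers x⁆, Subgroup.zpowers x⁆ :=
            Subgroup.commutator_mono (Subgroup.commutator_mono hal le_rfl) le_rfl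
        _ = ⊥ := h2
        _ ≤ V := bot_le
    · calc ⁅⁅U, Subgroup.zpowers x⁆, Subgroup.zpowers x⁆
          ≤ ⁅⁅A, Subgroup.zpowers x⁆, Subgroup.zpowers x⁆ :=
            Subgroup.commutator_mono (Subgroup.commutator_mono hUA le_rfl) le_rfl
        _ ≤ A ⊓ Subgroup.centralizer (A : Set G) := h1
        _ ≤ V := hal

theorem mem_of_quad0G (hA : Crit p A) (hN : NoCubG p A S) {b : G} (hb : b ∈ S)
    (h0 : ⁅⁅A, Subgroup.zpowers b⁆, Subgroup.zpowers b⁆ = ⊥) : b ∈ Cfsg.pCore p G := by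
  apply mem_of_quadG hA hN hb
  · rw [h0]; exact bot_le
  · rw [eq_bot_iff, ← h0]
    exact Subgroup.commutator_mono (Subgroup.commutator_mono inf_le_left le_rfl) le_rfl

theorem upperStar_le_pCoreG (hA : Crit p A) (hN : NoCubG p A S) {B Q : Subgroup G} (hBS : B ≤ S)
    (hAQ : A ≤ Q) (hB : ⁅B, Q⁆ ≤ B ⊓ Subgroup.centralizer (B : Set G)) : B ≤ Cfsg.pCore p G := by
  intro b hb
  have hzb : Subgroup.zpowers b ≤ B := by rw [Subgroup.zpowers_le]; exact hb
  have h0 : ⁅⁅A, Subgroup.zpowers b⁆, Subgroup.zpowers b⁆ = ⊥ := by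
    rw [eq_bot_iff]
    calc ⁅⁅A, Subgroup.zpowers b⁆, Subgroup.zpowers b⁆ ≤ ⁅⁅Q, B⁆, B⁆ :=
          Subgroup.commutator_mono (Subgroup.commutator_mono hAQ hzb) hzb
      _ ≤ ⁅B ⊓ Subgroup.centralizer (B : Set G), B⁆ := by
          rw [Subgroup.commutator_comm Q B]
          exact Subgroup.commutator_mono hB le_rfl
      _ ≤ ⊥ := by
          rw [le_bot_iff, Subgroup.commutator_eq_bot_iff_le_centralizer]
          exact inf_le_right
  exact mem_of_quad0G hA hN (hBS hb) h0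

theorem mem_lowerStarG (hA : Crit p A) (hN : NoCubG p A S) (Q : Subgroup G) (hQS : Q ≤ S) :
    A ∈ Cfsg.kLowerStarFamily Q := by
  haveI := hA.cfg.normal
  haveI hZn : (A ⊓ Subgroup.centralizer (A : Set G)).Normal := inferInstance
  refine ⟨hA.cfg.cls, by rw [Subgroup.normalizer_eq_top]; exact le_top, ?_⟩
  intro X _ hXQ hAX h1 h2
  have hXX : ⁅X, X⁆ ≤ Subgroup.centralizer (A : Set G) := by
    rw [Subgroup.commutator_eq_bot_iff_le_centralizer] at h1
    exact Subgroup.le_centralizer_iff.mp h1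
  have hXH : X ≤ Cfsg.pCore p G := by
    intro x hx
    have hzx : Subgroup.zpowers x ≤ X := by rw [Subgroup.zpowers_le]; exact hx
    apply mem_of_quadG hA hN (hQS (hXQ hx))
    · apply le_inf
      · exact (Subgroup.commutator_mono (Subgroup.commutator_le_left A _) le_rfl).trans
          (Subgroup.commutator_le_left A _)
      · calc ⁅⁅A, Subgroup.zpowers x⁆, Subgroup.zpowers x⁆ ≤ ⁅⁅A, X⁆, X⁆ :=
              Subgroup.commutator_mono (Subgroup.commutator_mono le_rfl hzx) hzx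
          _ ≤ ⁅X, X⁆ :=
              Subgroup.commutator_mono (commutator_le_right_of_le_normalizer hAX) le_rfl
          _ ≤ _ := hXX
    · rw [eq_bot_iff, ← h2]
      exact Subgroup.commutator_mono (Subgroup.commutator_mono le_rfl hzx) hzx
  calc ⁅A, X⁆ ≤ ⁅A, Cfsg.pCore p G⁆ := Subgroup.commutator_mono le_rfl hXH
    _ ≤ _ := hA.cfg.comm

theorem lowerStar_le_pCoreG (hA : Crit p A) (hN : NoCubG p A S) {B Q : Subgroup G} (hBS : B ≤ S)
    (hAQ : A ≤ Q) (hB : B ∈ Cfsg.kLowerStarFamily Q) : B ≤ Cfsg.pCore p G := by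
  have hB' := hB
  obtain ⟨hB2, hQB, hBt⟩ := hB
  haveI hAn := hA.cfg.normal
  haveI hZn : (A ⊓ Subgroup.centralizer (A : Set G)).Normal := inferInstance
  have hTp : IsPGroup p (Cfsg.pCore p G) := Cfsg.Agent.Lib.Helper16.pCore_isPGroup
  have hAp : IsPGroup p A := hTp.to_le hA.cfg.le
  have hANB : A ≤ Subgroup.normalizer (B : Set G) := hAQ.trans hQB
  -- `Z(B) ≤ O_p(G)`
  have hANZB : A ≤ Subgroup.normalizer ((B ⊓ Subgroup.centralizer (B : Set G) : Subgroup G) : Set G) := by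
    apply le_normalizer_of_conj_mem
    intro a ha x hx
    exact ⟨(Subgroup.mem_normalizer_iff.mp (hANB ha) x).mp hx.1,
      conj_centralizer_mem (hANB ha) hx.2⟩
  have hZBB : ⁅B ⊓ Subgroup.centralizer (B : Set G), B⁆ = ⊥ := by
    rw [Subgroup.commutator_eq_bot_iff_le_centralizer]; exact inf_le_right
  have hZBH : B ⊓ Subgroup.centralizer (B : Set G) ≤ Cfsg.pCore p G := by
    intro x hx
    have hzx : Subgroup.zpowers x ≤ B ⊓ Subgroup.centralizer (B : Set G) := by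
      rw [Subgroup.zpowers_le]; exact hx
    have h0 : ⁅⁅A, Subgroup.zpowers x⁆, Subgroup.zpowers x⁆ = ⊥ := by
      rw [eq_bot_iff]
      calc ⁅⁅A, Subgroup.zpowers x⁆, Subgroup.zpowers x⁆
          ≤ ⁅⁅A, B ⊓ Subgroup.centralizer (B : Set G)⁆, B⁆ :=
            Subgroup.commutator_mono (Subgroup.commutator_mono le_rfl hzx)
              (hzx.trans inf_le_left)
        _ ≤ ⁅B ⊓ Subgroup.centralizer (B : Set G), B⁆ :=
            Subgroup.commutator_mono (commutator_le_right_of_le_normalizer hANZB) le_rfl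
        _ = ⊥ := hZBB
    exact mem_of_quad0G hA hN (hBS hx.1) h0
  -- the test on `Z(A)`
  have hZAA : ⁅A ⊓ Subgroup.centralizer (A : Set G), A⁆ = ⊥ := by
    rw [Subgroup.commutator_eq_bot_iff_le_centralizer]; exact inf_le_right
  have hBZA : ⁅B, A ⊓ Subgroup.centralizer (A : Set G)⁆ ≤ B ⊓ Subgroup.centralizer (B : Set G) := by
    apply hBt (A ⊓ Subgroup.centralizer (A : Set G)) ?_ (inf_le_left.trans hAQ)
      (by rw [Subgroup.normalizer_eq_top]; exact le_top) ?_ ?_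
    · show ⁅A ⊓ Subgroup.centralizer (A : Set G), A ⊓ Subgroup.centralizer (A : Set G)⁆ ≤
        Subgroup.centralizer ((A ⊓ Subgroup.centralizer (A : Set G) : Subgroup G) : Set G)
      have : ⁅A ⊓ Subgroup.centralizer (A : Set G), A ⊓ Subgroup.centralizer (A : Set G)⁆ = ⊥ := by
        rw [Subgroup.commutator_eq_bot_iff_le_centralizer]
        exact inf_le_right.trans (Subgroup.centralizer_le inf_le_left)
      rw [this]; exact bot_le
    · have : ⁅A ⊓ Subgroup.centralizer (A : Set G), A ⊓ Subgroup.centralizer (A : Set G)⁆ = ⊥ := by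
        rw [Subgroup.commutator_eq_bot_iff_le_centralizer]
        exact inf_le_right.trans (Subgroup.centralizer_le inf_le_left)
      rw [this]
      exact Subgroup.commutator_bot_right B
    · rw [eq_bot_iff]
      calc ⁅⁅B ⊓ Subgroup.centralizer (B : Set G), A ⊓ Subgroup.centralizer (A : Set G)⁆,
            A ⊓ Subgroup.centralizer (A : Set G)⁆
          ≤ ⁅⁅Cfsg.pCore p G, A⁆, A⁆ :=
            Subgroup.commutator_mono (Subgroup.commutator_mono hZBH inf_le_left) inf_le_left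
        _ ≤ ⁅A ⊓ Subgroup.centralizer (A : Set G), A⁆ :=
            Subgroup.commutator_mono (by rw [Subgroup.commutator_comm]; exact hA.cfg.comm) le_rfl
        _ = ⊥ := hZAA
  have hBBB : ⁅⁅B, B⁆, B⁆ = ⊥ := by
    rw [Subgroup.commutator_eq_bot_iff_le_centralizer]; exact hB2
  have hcub : ∀ b ∈ B, ⁅⁅⁅A, Subgroup.zpowers b⁆, Subgroup.zpowers b⁆, Subgroup.zpowers b⁆ ≤
      A ⊓ Subgroup.centralizer (A : Set G) := by
    intro b hb
    have hzb : Subgroup.zpowers b ≤ B := by rw [Subgroup.zpowers_le]; exact hb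
    have : ⁅⁅⁅A, Subgroup.zpowers b⁆, Subgroup.zpowers b⁆, Subgroup.zpowers b⁆ ≤ ⊥ := by
      calc ⁅⁅⁅A, Subgroup.zpowers b⁆, Subgroup.zpowers b⁆, Subgroup.zpowers b⁆
          ≤ ⁅⁅⁅A, B⁆, B⁆, B⁆ :=
            Subgroup.commutator_mono (Subgroup.commutator_mono
              (Subgroup.commutator_mono le_rfl hzb) hzb) hzb
        _ ≤ ⁅⁅B, B⁆, B⁆ :=
            Subgroup.commutator_mono (Subgroup.commutator_mono
              (commutator_le_right_of_le_normalizer hANB) le_rfl) le_rfl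
        _ = ⊥ := hBBB
    exact this.trans bot_le
  have hqz : ∀ b ∈ B, ⁅⁅A ⊓ Subgroup.centralizer (A : Set G), Subgroup.zpowers b⁆,
      Subgroup.zpowers b⁆ = ⊥ := by
    intro b hb
    have hzb : Subgroup.zpowers b ≤ B := by rw [Subgroup.zpowers_le]; exact hb
    rw [eq_bot_iff]
    calc _ ≤ ⁅⁅A ⊓ Subgroup.centralizer (A : Set G), B⁆, B⁆ :=
          Subgroup.commutator_mono (Subgroup.commutator_mono le_rfl hzb) hzb
      _ ≤ ⁅B ⊓ Subgroup.centralizer (B : Set G), B⁆ :=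
          Subgroup.commutator_mono (by rw [Subgroup.commutator_comm]; exact hBZA) le_rfl
      _ = ⊥ := hZBB
  intro b hb
  by_contra hbT
  by_cases h3a : ∃ b' ∈ B, ∃ U V : Subgroup G, Cfsg.IsChiefFactor U V ∧
      U ≤ A ⊓ Subgroup.centralizer (A : Set G) ∧ ¬ ⁅U, Subgroup.zpowers b'⁆ ≤ V
  · obtain ⟨b', hb', U, V, hch, hUZ, hne⟩ := h3a
    have hb'T : b' ∈ Cfsg.pCore p G := by
      apply hN b' (hBS hb') (hcub b' hb') (hqz b' hb')
      intro _
      refine ⟨U, V, hch, hUZ.trans inf_le_left, ?_, hne⟩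
      calc ⁅⁅U, Subgroup.zpowers b'⁆, Subgroup.zpowers b'⁆
          ≤ ⁅⁅A ⊓ Subgroup.centralizer (A : Set G), Subgroup.zpowers b'⁆, Subgroup.zpowers b'⁆ :=
            Subgroup.commutator_mono (Subgroup.commutator_mono hUZ le_rfl) le_rfl
        _ = ⊥ := hqz b' hb'
        _ ≤ V := bot_le
    apply hne
    have h1 := Cfsg.Agent.Lib.Helper12.KInfDeg.commutator_le_of_chief_of_normal_pGroup hch hTp
      (hUZ.trans (inf_le_left.trans hA.cfg.le))
    refine le_trans (Subgroup.commutator_mono le_rfl ?_) h1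
    rw [Subgroup.zpowers_le]; exact hb'T
  · push Not at h3a
    apply hbT
    apply hN b (hBS hb) (hcub b hb) (hqz b hb)
    intro hΓ
    have hNZA : ∀ d ∈ nclIn ⊤ (B : Set G), (orderOf d).Coprime p →
        ∀ z ∈ A ⊓ Subgroup.centralizer (A : Set G), ⁅z, d⁆ = 1 := by
      intro d hd hc
      exact centralizes_of_chief (X₀ := ⊥) (X₁ := A ⊓ Subgroup.centralizer (A : Set G))
        (hAp.to_le inf_le_left) hc
        (by intro k hk; rw [Subgroup.mem_bot.mp hk, commutatorElement_one_left])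
        (fun U V hch _ hUZ => by
          haveI := hch.2.1
          haveI := hch.2.2.1
          apply nclIn_top_commutator_mem (𝒜 := (B : Set G)) _ d hd
          intro a ha u hu
          exact h3a a ha U V hch hUZ
            (Subgroup.commutator_mem_commutator hu (Subgroup.mem_zpowers a)))
        (A ⊓ Subgroup.centralizer (A : Set G)) hZn bot_le le_rfl
    obtain ⟨F, H, hHsub, hBH, hHF, hqF, hqA⟩ := lowerStar_struct hA.cfg hAQ hB' hZBH hNZA
    obtain ⟨U, V, hch, hUA, hne⟩ : ∃ U V : Subgroup G, Cfsg.IsChiefFactor U V ∧ U ≤ A ∧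
        ¬ ⁅U, Subgroup.zpowers b⁆ ≤ V := by
      by_contra h
      push Not at h
      exact hbT (mem_pCore_of_chief hA hΓ ⊥ bot_le b (fun U V hch hUA _ => h U V hch hUA))
    refine ⟨U, V, hch, hUA, ?_, hne⟩
    exact quad_of_subnormal hch (hAp.to_le hUA) hHsub (hBH hb) hHF (hqF b hb)
      ((Subgroup.commutator_mono (Subgroup.commutator_mono hUA le_rfl) le_rfl).trans (hqA b hb))

end Cfsg.Agent.Lib.Helper29.KInfN
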