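import Mathlib
import Cfsg.Agent.Lib.Helper29.KInfM

/-!
# Glauberman's Theorem C with part (b) (helper29)
-/

set_option autoImplicit false
set_option linter.style.haveILetI false
set_option linter.unusedSectionVars false
set_option linter.unusedVariables false
open scoped commutatorElement

namespace Cfsg.Agent.Lib.Helper29.KInfN

open Cfsg.Agent.Lib.Helper27.KQ (Cfg0)

universe u

variable {G : Type u} [Group G] [Finite G] {p : ℕ} [Fact p.Prime] {A : Subgroup G}

section main

theorem kSeq_le_pCoreG (hA : Crit p A) (S : Sylow p G) (hN : NoCubG p A (S : Subgroup G)) :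
    ∀ n : ℕ, (A ≤ (Cfsg.kSeqOdd ↥(S : Subgroup G) n).map (S : Subgroup G).subtype ∧
      (Cfsg.kSeqEven ↥(S : Subgroup G) n).map (S : Subgroup G).subtype ≤ Cfsg.pCore p G) ∧
      (Cfsg.kSeqOdd ↥(S : Subgroup G) (n + 1)).map (S : Subgroup G).subtype ≤ Cfsg.pCore p G := by
  have hinj := (S : Subgroup G).subtype_injective
  have hHS : Cfsg.pCore p G ≤ S := Cfsg.Agent.Lib.Helper16.pCore_le_sylow S
  have hAS : A ≤ S := hA.cfg.le.trans hHS
  have hAmap : (A.subgroupOf S).map (S : Subgroup G).subtype = A :=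
    Subgroup.map_subgroupOf_eq_of_le hAS
  have hmapS : ∀ X : Subgroup ↥(S : Subgroup G), X.map (S : Subgroup G).subtype ≤ S :=
    fun X => Subgroup.map_subtype_le X
  have step1 : ∀ n, A ≤ (Cfsg.kSeqOdd ↥(S : Subgroup G) n).map (S : Subgroup G).subtype →
      (Cfsg.kSeqEven ↥(S : Subgroup G) n).map (S : Subgroup G).subtype ≤ Cfsg.pCore p G := by
    intro n hAn
    unfold Cfsg.kSeqEven
    rw [Subgroup.map_le_iff_le_comap]
    apply sSup_le
    intro B hB
    rw [← Subgroup.map_le_iff_le_comap]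
    exact lowerStar_le_pCoreG hA hN (hmapS B) hAn
      ((Cfsg.Agent.Lib.Helper12.lowerStar_map_iff _ hinj B _).mpr hB)
  have step2 : ∀ n, (Cfsg.kSeqEven ↥(S : Subgroup G) n).map (S : Subgroup G).subtype ≤
      Cfsg.pCore p G →
      A ≤ (Cfsg.kSeqOdd ↥(S : Subgroup G) (n + 1)).map (S : Subgroup G).subtype := by
    intro n hn
    have hmem : A.subgroupOf S ∈ Cfsg.kUpperStarFamily (Cfsg.kSeqEven ↥(S : Subgroup G) n) := by
      rw [← Cfsg.Agent.Lib.Helper12.upperStar_map_iff _ hinj, hAmap]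
      exact ⟨hA.cfg.cls, (Subgroup.commutator_mono le_rfl hn).trans hA.cfg.comm⟩
    have h1 : A.subgroupOf S ≤ Cfsg.kSeqOdd ↥(S : Subgroup G) (n + 1) := le_sSup hmem
    rw [← hAmap]
    exact Subgroup.map_mono h1
  have step3 : ∀ n, (Cfsg.kSeqOdd ↥(S : Subgroup G) (n + 1)).map (S : Subgroup G).subtype ≤
      Cfsg.pCore p G := by
    intro n
    have hmem : A.subgroupOf S ∈ Cfsg.kLowerStarFamily (Cfsg.kSeqOdd ↥(S : Subgroup G) n) := by
      rw [← Cfsg.Agent.Lib.Helper12.lowerStar_map_iff _ hinj, hAmap]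
      exact mem_lowerStarG hA hN _ (hmapS _)
    have hAE : A ≤ (Cfsg.kSeqEven ↥(S : Subgroup G) n).map (S : Subgroup G).subtype := by
      rw [← hAmap]
      exact Subgroup.map_mono (le_sSup hmem)
    show (sSup (Cfsg.kUpperStarFamily (Cfsg.kSeqEven ↥(S : Subgroup G) n))).map
      (S : Subgroup G).subtype ≤ _
    rw [Subgroup.map_le_iff_le_comap]
    apply sSup_le
    intro B hB
    rw [← Subgroup.map_le_iff_le_comap]
    have hB' := (Cfsg.Agent.Lib.Helper12.upperStar_map_iff _ hinj B _).mpr hB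
    exact upperStar_le_pCoreG hA hN (hmapS B) hAE hB'.2
  intro n
  induction n with
  | zero =>
    have h0 : A ≤ (Cfsg.kSeqOdd ↥(S : Subgroup G) 0).map (S : Subgroup G).subtype := by
      show A ≤ (⊤ : Subgroup ↥(S : Subgroup G)).map (S : Subgroup G).subtype
      rw [← MonoidHom.range_eq_map, Subgroup.range_subtype]
      exact hAS
    exact ⟨⟨h0, step1 0 h0⟩, step3 0⟩
  | succ n ih =>
    have h1 := step2 n ih.1.2
    exact ⟨⟨h1, step1 (n + 1) h1⟩, step3 (n + 1)⟩

/-- Both K-infinity subgroups of `S` coincide with those of `O_p(G)`. -/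
theorem kInf_eq_of_noCubG (hA : Crit p A) (S : Sylow p G) (hN : NoCubG p A (S : Subgroup G)) :
    Cfsg.inducedFunctor Cfsg.kInfLower (S : Subgroup G) =
      Cfsg.inducedFunctor Cfsg.kInfLower (Cfsg.pCore p G) ∧
    Cfsg.inducedFunctor Cfsg.kInfUpper (S : Subgroup G) =
      Cfsg.inducedFunctor Cfsg.kInfUpper (Cfsg.pCore p G) := by
  have hHS : Cfsg.pCore p G ≤ S := Cfsg.Agent.Lib.Helper16.pCore_le_sylow S
  have hHp : IsPGroup p (Cfsg.pCore p G) := Cfsg.Agent.Lib.Helper16.pCore_isPGroup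
  have hP : IsPGroup p ↥(S : Subgroup G) := S.isPGroup'
  have hseq := kSeq_le_pCoreG hA S hN
  have hQ' : ∀ n, Cfsg.kSeqEven ↥(S : Subgroup G) n ≤ (Cfsg.pCore p G).subgroupOf S ∧
      Cfsg.kSeqOdd ↥(S : Subgroup G) (n + 1) ≤ (Cfsg.pCore p G).subgroupOf S := by
    intro n
    exact ⟨Subgroup.map_le_iff_le_comap.mp (hseq n).1.2,
      Subgroup.map_le_iff_le_comap.mp (hseq n).2⟩
  have h79 := Cfsg.Agent.S1979.result hP _ hQ'
  let e : ↥((Cfsg.pCore p G).subgroupOf (S : Subgroup G)) ≃* ↥(Cfsg.pCore p G) :=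
    Subgroup.subgroupOfEquivOfLe hHS
  have hcomp : (Cfsg.pCore p G).subtype.comp e.toMonoidHom =
      (S : Subgroup G).subtype.comp ((Cfsg.pCore p G).subgroupOf (S : Subgroup G)).subtype := by
    ext x
    rfl
  constructor
  · have he := kInfLower_map e.toMonoidHom e.injective e.surjective
    unfold Cfsg.inducedFunctor
    rw [← h79.1, ← he, Subgroup.map_map, Subgroup.map_map, hcomp]
  · have he := kInfUpper_map e.toMonoidHom e.injective e.surjective
    unfold Cfsg.inducedFunctor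
    rw [← h79.2, ← he, Subgroup.map_map, Subgroup.map_map, hcomp]


/-- **Theorem C with the quadratic chief factor.** -/
theorem exists_good_of_not_normal (hA : Crit p A) (S : Sylow p G)
    (hK : ¬ (Cfsg.inducedFunctor Cfsg.kInfLower (S : Subgroup G)).Normal ∨
      ¬ (Cfsg.inducedFunctor Cfsg.kInfUpper (S : Subgroup G)).Normal) :
    ∃ g : G, g ∈ (S : Subgroup G) ∧ g ∉ Cfsg.pCore p G ∧
      ⁅⁅⁅A, Subgroup.zpowers g⁆, Subgroup.zpowers g⁆, Subgroup.zpowers g⁆ ≤
        A ⊓ Subgroup.centralizer (A : Set G) ∧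
      ⁅⁅A ⊓ Subgroup.centralizer (A : Set G), Subgroup.zpowers g⁆, Subgroup.zpowers g⁆ = ⊥ ∧
      (Subgroup.centralizer ((Cfsg.pCore p G : Subgroup G) : Set G) ≤ Cfsg.pCore p G →
        QuadChief A g) := by
  by_contra hcon
  have hN : NoCubG p A (S : Subgroup G) := by
    intro g hg h3 h2 hq
    by_contra hgT
    exact hcon ⟨g, hg, hgT, h3, h2, hq⟩
  obtain ⟨h1, h2⟩ := kInf_eq_of_noCubG hA S hN
  haveI hTn : (Cfsg.pCore p G).Normal := inferInstance
  rcases hK with hK | hK
  · apply hK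
    rw [h1]
    unfold Cfsg.inducedFunctor
    haveI : (Cfsg.kInfLower ↥(Cfsg.pCore p G)).Characteristic := kInfLower_characteristic _
    exact ConjAct.normal_of_characteristic_of_normal
  · apply hK
    rw [h2]
    unfold Cfsg.inducedFunctor
    haveI : (Cfsg.kInfUpper ↥(Cfsg.pCore p G)).Characteristic := kInfUpper_characteristic _
    exact ConjAct.normal_of_characteristic_of_normal

end main

end Cfsg.Agent.Lib.Helper29.KInfN
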