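/-
helper29: S5286 leaf (NS).  GENERAL: a subgroup `K` of `N' ⋊[φ] Γ`, `N'` free, `Γ` finite, has a free normal
subgroup of index dividing `|Γ|`: the kernel of `rightHom` restricted to `K`, which embeds into `N'` by
`n ↦ n.left` (Nielsen–Schreier).
-/
import Mathlib

set_option autoImplicit false

namespace Cfsg.Agent.Lib.Helper29.LSNS

/-- (NS) free normal subgroup of finite index. -/
theorem exists_free_normal {N' Γ : Type*} [Group N'] [Group Γ] [IsFreeGroup N'] [Finite Γ]
    (φ : Γ →* MulAut N') (K : Subgroup (N' ⋊[φ] Γ)) :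
    ∃ N : Subgroup ↥K, N.Normal ∧ IsFreeGroup ↥N ∧ N.index ∣ Nat.card Γ := by
  let f : ↥K →* Γ := (SemidirectProduct.rightHom (N := N') (G := Γ) (φ := φ)).comp K.subtype
  refine ⟨f.ker, MonoidHom.normal_ker f, ?_, ?_⟩
  · -- the embedding into `N'`
    have hright : ∀ n : f.ker, ((n : ↥K) : N' ⋊[φ] Γ).right = 1 := by
      intro n
      have h := n.2
      rw [MonoidHom.mem_ker] at h
      exact h
    let g : ↥f.ker →* N' :=
      { toFun := fun n => ((n : ↥K) : N' ⋊[φ] Γ).left
        map_one' := rfl
        map_mul' := by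
          intro a b
          show (((a : ↥K) : N' ⋊[φ] Γ) * ((b : ↥K) : N' ⋊[φ] Γ)).left = _
          rw [SemidirectProduct.mul_left, hright a, map_one]
          rfl }
    have hg : Function.Injective g := by
      intro a b hab
      apply Subtype.ext
      apply Subtype.ext
      apply SemidirectProduct.ext
      · exact hab
      · rw [hright a, hright b]
    have e : ↥g.range ≃* ↥f.ker := (MonoidHom.ofInjective hg).symm
    have : IsFreeGroup ↥g.range := subgroupIsFreeOfIsFree g.range
    exact IsFreeGroup.ofMulEquiv e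
  · rw [Subgroup.index_ker]
    exact Subgroup.card_subgroup_dvd_card f.range

end Cfsg.Agent.Lib.Helper29.LSNS
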