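/-
helper29: S4539 leaf (H5) `contrib_5H` (planner helper27), twin.
Brauer's (5H) for a major subsection: for `χ` of height zero and every `ψ ∈ B`,
`p^d μ_{χψ} / p^{ht ψ}` and `p^d μ_{ψχ} / p^{ht ψ}` are local units.
`contrib_5H_of` takes the four omega-congruences (OM1-OM4, instantiated) as explicit hypotheses.
-/
import Cfsg.Agent.Lib.Helper27.MajSubDefs
import Cfsg.Agent.Lib.Helper6.DefectOrder
import Cfsg.Agent.Lib.Helper6.Osima
import Cfsg.Agent.Lib.Helper6.SepClassesC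
import Cfsg.Agent.Lib.Lead.BlockBasic
import Cfsg.Agent.Lib.Helper23.MajSubOM

set_option autoImplicit false

namespace Cfsg.Agent.Lib.Helper29.MajSubH5

open Cfsg Cfsg.Agent.CharLib Cfsg.Agent.Lib.Helper24 Cfsg.Agent.Lib.Helper6 Cfsg.Agent.Lib.Helper23
open Cfsg.Agent.Lib.Helper23.Subsec Cfsg.Agent.Lib.Helper27.MajSub
open scoped ComplexConjugate

universe u w

section units

variable {M : Ideal AlgInt} {p : ℕ}

theorem locUnit_mul [hp : M.IsPrime] {x y : ℂ} (hx : LocUnit M x) (hy : LocUnit M y) :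
    LocUnit M (x * y) :=
  ⟨memLocalRing_mul hx.1 hy.1, not_memLocalIdeal_mul hx.1 hy.1 hx.2 hy.2⟩

theorem locUnit_natCast [hpp : Fact p.Prime] (hM : IsPModular p M) {k : ℕ} (hk : ¬ p ∣ k) :
    LocUnit M (k : ℂ) := by
  have hprime : M.IsPrime := isPrime_of_isPModular hM
  exact ⟨memLocalRing_natCast k,
    Cfsg.Agent.Lib.Helper6.SepClasses.not_memLocalIdeal_natCast_of_not_dvd hM hk⟩

/-- the pure field identity behind `mul_card_div_degree`. -/
theorem scale_identity (P c g' d' : ℂ) (a m v : ℕ) (hma : m ≤ a) (hmv : m ≤ v) (hP : P ≠ 0)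
    (hd' : d' ≠ 0) :
    c * (P ^ a * g') / (P ^ v * d') = (P ^ (a - m) * c / P ^ (v - m)) * (g' * d'⁻¹) := by
  have h1 : P ^ a = P ^ (a - m) * P ^ m := by rw [← pow_add, Nat.sub_add_cancel hma]
  have h2 : P ^ v = P ^ (v - m) * P ^ m := by rw [← pow_add, Nat.sub_add_cancel hmv]
  have e1 : P ^ (a - m) ≠ 0 := pow_ne_zero _ hP
  have e2 : P ^ (v - m) ≠ 0 := pow_ne_zero _ hP
  have e3 : P ^ m ≠ 0 := pow_ne_zero _ hP
  rw [h1, h2]
  field_simp

theorem locUnit_inv [hp : M.IsPrime] {x : ℂ} (hx : LocUnit M x) : LocUnit M x⁻¹ := by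
  refine ⟨memLocalRing_inv hx.1 hx.2, fun h => ?_⟩
  have hx0 : x ≠ 0 := by
    rintro rfl
    exact hx.2 (memLocalIdeal_zero hp.one_notMem)
  have h1 := memLocalIdeal_mul_left hx.1 h
  rw [mul_inv_cancel₀ hx0] at h1
  exact not_memLocalIdeal_one h1

/-- a local integer congruent to a local unit is a local unit. -/
theorem locUnit_of_sub [hp : M.IsPrime] {x y : ℂ} (hx : MemLocalRing M x)
    (hxy : MemLocalIdeal M (x - y)) (hy : LocUnit M y) : LocUnit M x := by
  refine ⟨hx, fun h => hy.2 ?_⟩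
  have h1 := memLocalIdeal_sub h hxy
  have h2 : x - (x - y) = y := by ring
  rwa [h2] at h1

end units

section main

variable {G : Type u} [Group G] [Fintype G] {M : Ideal AlgInt} {p : ℕ} [hpp : Fact p.Prime]

/-- `c |G| / ψ(1) = (p^d c / p^{ht ψ}) (|G|_{p'} / ψ(1)_{p'})` for `ψ ∈ B`. -/
theorem mul_card_div_degree (B : Set (IrrCharacter G)) {ψ : IrrCharacter G} (hψ : ψ ∈ B) (c : ℂ) :
    c * (Nat.card G : ℂ) / (charDegree (ψ : G → ℂ) : ℂ) =
      ((p : ℂ) ^ blockDefect p B * c / (p : ℂ) ^ blockHeight p B (ψ : G → ℂ)) *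
        (((Nat.card G / p ^ (Nat.card G).factorization p : ℕ) : ℂ) *
          (((charDegree (ψ : G → ℂ) / p ^ (charDegree (ψ : G → ℂ)).factorization p : ℕ) : ℂ))⁻¹) := by
  have hp : p.Prime := hpp.out
  have hp0 : (p : ℂ) ≠ 0 := Nat.cast_ne_zero.mpr hp.ne_zero
  set a := (Nat.card G).factorization p with ha
  set m := minVal p B with hm
  set v := (charDegree (ψ : G → ℂ)).factorization p with hv
  have hma : m ≤ a := minVal_le_factorization_card ⟨ψ, hψ⟩
  have hmv : m ≤ v := minVal_le hψ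
  have hd : blockDefect p B = a - m := blockDefect_eq B
  have hh : blockHeight p B (ψ : G → ℂ) = v - m := rfl
  have hG : p ^ a * (Nat.card G / p ^ a) = Nat.card G := Nat.ordProj_mul_ordCompl_eq_self _ p
  have hD : p ^ v * (charDegree (ψ : G → ℂ) / p ^ v) = charDegree (ψ : G → ℂ) :=
    Nat.ordProj_mul_ordCompl_eq_self _ p
  have hdpos : 0 < charDegree (ψ : G → ℂ) := irr_charDegree_pos ψ
  have hD'0 : ((charDegree (ψ : G → ℂ) / p ^ v : ℕ) : ℂ) ≠ 0 := by
    apply Nat.cast_ne_zero.mpr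
    intro h0
    rw [h0, mul_zero] at hD
    omega
  have hGc : (Nat.card G : ℂ) = (p : ℂ) ^ a * ((Nat.card G / p ^ a : ℕ) : ℂ) := by
    exact_mod_cast hG.symm
  have hDc : (charDegree (ψ : G → ℂ) : ℂ) =
      (p : ℂ) ^ v * ((charDegree (ψ : G → ℂ) / p ^ v : ℕ) : ℂ) := by
    exact_mod_cast hD.symm
  rw [hd, hh, hGc, hDc]
  exact scale_identity (p : ℂ) c _ _ a m v hma hmv hp0 hD'0

theorem locUnit_ordCompl_ratio (hM : IsPModular p M) (ψ : IrrCharacter G) :
    LocUnit M (((Nat.card G / p ^ (Nat.card G).factorization p : ℕ) : ℂ) *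
      (((charDegree (ψ : G → ℂ) / p ^ (charDegree (ψ : G → ℂ)).factorization p : ℕ) : ℂ))⁻¹) := by
  have hprime : M.IsPrime := isPrime_of_isPModular hM
  have hp : p.Prime := hpp.out
  apply locUnit_mul
  · exact locUnit_natCast hM (Nat.not_dvd_ordCompl hp Nat.card_pos.ne')
  · exact locUnit_inv (locUnit_natCast hM (Nat.not_dvd_ordCompl hp (irr_charDegree_pos ψ).ne'))

/-- `c |G| / ψ(1)` is a local unit iff `p^d c / p^{ht ψ}` is. -/
theorem locUnit_scaled_of_locUnit (hM : IsPModular p M) (B : Set (IrrCharacter G))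
    {ψ : IrrCharacter G} (hψ : ψ ∈ B) (c : ℂ)
    (h : LocUnit M (c * (Nat.card G : ℂ) / (charDegree (ψ : G → ℂ) : ℂ))) :
    LocUnit M ((p : ℂ) ^ blockDefect p B * c / (p : ℂ) ^ blockHeight p B (ψ : G → ℂ)) := by
  have hprime : M.IsPrime := isPrime_of_isPModular hM
  have hu := locUnit_ordCompl_ratio hM ψ
  have hu0 : (((Nat.card G / p ^ (Nat.card G).factorization p : ℕ) : ℂ) *
      (((charDegree (ψ : G → ℂ) / p ^ (charDegree (ψ : G → ℂ)).factorization p : ℕ) : ℂ))⁻¹) ≠ 0 := by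
    intro h0
    rw [h0] at hu
    exact hu.2 (memLocalIdeal_zero hprime.one_notMem)
  have h1 := mul_card_div_degree (p := p) B hψ c
  have h2 := locUnit_mul h (locUnit_inv hu)
  rw [h1, mul_assoc, mul_inv_cancel₀ hu0, mul_one] at h2
  exact h2

theorem locUnit_of_locUnit_scaled (hM : IsPModular p M) (B : Set (IrrCharacter G))
    {ψ : IrrCharacter G} (hψ : ψ ∈ B) (c : ℂ)
    (h : LocUnit M ((p : ℂ) ^ blockDefect p B * c / (p : ℂ) ^ blockHeight p B (ψ : G → ℂ))) :
    LocUnit M (c * (Nat.card G : ℂ) / (charDegree (ψ : G → ℂ) : ℂ)) := by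
  have hprime : M.IsPrime := isPrime_of_isPModular hM
  rw [mul_card_div_degree (p := p) B hψ c]
  exact locUnit_mul h (locUnit_ordCompl_ratio hM ψ)

/-- (H5) from the omega-congruences as explicit hypotheses. -/
theorem contrib_5H_of (hM : IsPModular p M) (z : G) (hz : ∃ k : ℕ, orderOf z = p ^ k)
    (C : Subgroup G) [Fintype C] (hC : C = Subgroup.centralizer ({z} : Set G))
    (B : Set (IrrCharacter G)) (e : Set (IrrCharacter C)) (hind : IsInducedBlock M C e B)
    (hdef : blockDefect p e = blockDefect p B) (χ ψ : IrrCharacter G) (hχ : χ ∈ B)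
    (hχ0 : blockHeight p B (χ : G → ℂ) = 0) (hψ : ψ ∈ B)
    (hOM1 : MemLocalRing M
      (contrib p C e z χ ψ * (Nat.card G : ℂ) / (charDegree (ψ : G → ℂ) : ℂ)))
    (hOM2 : MemLocalIdeal M
      (contrib p C e z χ ψ * (Nat.card G : ℂ) / (charDegree (ψ : G → ℂ) : ℂ) -
        contrib p C e z χ χ * (Nat.card G : ℂ) / (charDegree (χ : G → ℂ) : ℂ)))
    (hOM3 : MemLocalRing M
      (contrib p C e z ψ χ * (Nat.card G : ℂ) / (charDegree (ψ : G → ℂ) : ℂ)))
    (hOM4 : MemLocalIdeal M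
      (contrib p C e z ψ χ * (Nat.card G : ℂ) / (charDegree (ψ : G → ℂ) : ℂ) -
        contrib p C e z χ χ * (Nat.card G : ℂ) / (charDegree (χ : G → ℂ) : ℂ))) :
    LocUnit M ((p : ℂ) ^ blockDefect p B * contrib p C e z χ ψ /
        (p : ℂ) ^ blockHeight p B (ψ : G → ℂ)) ∧
      LocUnit M ((p : ℂ) ^ blockDefect p B * contrib p C e z ψ χ /
        (p : ℂ) ^ blockHeight p B (ψ : G → ℂ)) := by
  have hprime : M.IsPrime := isPrime_of_isPModular hM
  -- `z` as a central element of `C`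
  have hzC : z ∈ C := by
    rw [hC, Subgroup.mem_centralizer_iff]
    intro y hy
    rw [Set.mem_singleton_iff] at hy
    rw [hy]
  have hcen : (⟨z, hzC⟩ : C) ∈ Subgroup.center C := by
    rw [Subgroup.mem_center_iff]
    intro c
    have hc : (c : G) ∈ Subgroup.centralizer ({z} : Set G) := hC ▸ c.2
    rw [Subgroup.mem_centralizer_iff] at hc
    have := hc z (Set.mem_singleton z)
    apply Subtype.ext
    simp only [Subgroup.coe_mul]
    exact this.symm
  obtain ⟨k, hk⟩ := hz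
  have hw : ∃ k : ℕ, (⟨⟨z, hzC⟩, hcen⟩ : Subgroup.center C) ^ (p ^ k) = 1 := by
    refine ⟨k, ?_⟩
    apply Subtype.ext
    apply Subtype.ext
    simp only [Subgroup.coe_pow, Subgroup.coe_one]
    rw [← hk]
    exact pow_orderOf_eq_one z
  -- the diagonal contribution is a unit
  have hdiag := contrib_unit hM C e B hind ⟨⟨z, hzC⟩, hcen⟩ hw χ χ hχ hχ0 hχ hχ0
  have hdiag' : LocUnit M ((p : ℂ) ^ blockDefect p B * contrib p C e z χ χ /
      (p : ℂ) ^ blockHeight p B (χ : G → ℂ)) := by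
    rw [hχ0, pow_zero, div_one, ← hdef]
    exact ⟨hdiag.1, hdiag.2⟩
  have hX : LocUnit M (contrib p C e z χ χ * (Nat.card G : ℂ) / (charDegree (χ : G → ℂ) : ℂ)) :=
    locUnit_of_locUnit_scaled hM B hχ _ hdiag'
  exact ⟨locUnit_scaled_of_locUnit hM B hψ _ (locUnit_of_sub hOM1 hOM2 hX),
    locUnit_scaled_of_locUnit hM B hψ _ (locUnit_of_sub hOM3 hOM4 hX)⟩

/-- (H5) Brauer's (5H) for a major subsection, all heights, both index orders: the frozen leaf. -/
theorem contrib_5H (hM : IsPModular p M) (z : G) (hz : ∃ k : ℕ, orderOf z = p ^ k)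
    (C : Subgroup G) [Fintype C] (hC : C = Subgroup.centralizer ({z} : Set G))
    (B : Set (IrrCharacter G)) (e : Set (IrrCharacter C)) (hind : IsInducedBlock M C e B)
    (hdef : blockDefect p e = blockDefect p B) (χ ψ : IrrCharacter G) (hχ : χ ∈ B)
    (hχ0 : blockHeight p B (χ : G → ℂ) = 0) (hψ : ψ ∈ B) :
    LocUnit M ((p : ℂ) ^ blockDefect p B * contrib p C e z χ ψ /
        (p : ℂ) ^ blockHeight p B (ψ : G → ℂ)) ∧
      LocUnit M ((p : ℂ) ^ blockDefect p B * contrib p C e z ψ χ /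
        (p : ℂ) ^ blockHeight p B (ψ : G → ℂ)) := by
  have hB : IsPBlock M B := hind.2.1
  have he : IsPBlock M e := hind.1
  have hsb : SameBlock M (ψ : G → ℂ) (χ : G → ℂ) := sameBlock_of_mem hM hB hψ hχ
  exact contrib_5H_of hM z hz C hC B e hind hdef χ ψ hχ hχ0 hψ
    (Cfsg.Agent.Lib.Helper23.MajSubOM.contrib_div_right hM z hz C hC e he χ ψ)
    (Cfsg.Agent.Lib.Helper23.MajSubOM.contrib_div_right_sub hM z hz C hC e he χ ψ χ hsb)
    (Cfsg.Agent.Lib.Helper23.MajSubOM.contrib_div_left hM z hz C hC e he ψ χ)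
    (Cfsg.Agent.Lib.Helper23.MajSubOM.contrib_div_left_sub hM z hz C hC e he ψ χ χ hsb)

end main

end Cfsg.Agent.Lib.Helper29.MajSubH5
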