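import Mathlib.Data.Nat.Notation
set_option autoImplicit false

/-!
# Data for the point stabiliser of the McLaughlin group on 275 points

Words in the generators `A, A⁻¹, B, B⁻¹` (letters `0, 1, 2, 3`, head applied last) of helper4's group `P` for three elements
`a, b, c` of the stabiliser of the point `0` that satisfy helper3's presentation of `PSU₄(3)`; an orbit of `⟨a, b⟩` (as a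
bit mask) that `c` does not preserve; words moving the point `0` to every point.
-/

namespace Cfsg.Agent.Lib.Helper29.McLStabData

/-- the word of `a` -/
def wa : List ℕ := [2, 1, 2, 0, 3, 3, 0, 3, 3, 0, 2, 2, 0, 0, 3, 0, 0, 3, 3, 3, 1, 3, 0, 0, 3, 1, 3, 0, 3, 3, 3, 1, 3, 3, 0, 0, 2, 1, 1, 3, 0, 0, 3, 0, 3, 1, 3, 3, 3, 1, 1, 2, 0, 0, 3, 3, 1, 3, 0, 0, 0, 3, 0, 0, 2, 0, 3, 3, 3, 3, 0, 0, 3, 3, 1, 1, 3, 0, 3, 1, 1, 1, 3, 3, 0, 2, 1, 2, 2, 2, 2, 0, 0, 3, 1, 2, 1, 2, 0, 3, 0, 0, 2, 2, 1, 2, 2, 2, 0, 1, 3, 3, 3, 0, 3, 3, 1, 1, 2, 1, 3, 0, 3, 0, 2, 1, 1, 3, 3, 3, 3, 0, 3, 1, 2, 2, 0, 3, 0, 0, 3, 1, 3, 0, 3, 3, 3, 1, 3, 3, 0, 0, 2, 1, 1, 3, 0, 0, 3, 0, 3, 1, 3, 3, 3, 1, 1, 3, 3, 3, 0, 3, 3, 1, 1, 2, 1,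 3, 0, 3, 0, 2, 1, 1, 3, 3, 3, 3, 0, 3, 1, 2, 2, 0, 3, 0, 0, 3, 1, 3, 0, 3, 3, 3, 1, 3, 3, 0, 0, 2, 1, 1, 3, 0, 0, 3, 0, 3, 1, 3, 3, 3, 1]

/-- the word of `b` -/
def wb : List ℕ := [3, 1, 3, 1, 3, 0, 3, 0, 3, 3, 1, 1, 3, 1, 2, 0, 3, 0, 0, 2, 1, 2, 0, 2, 0, 2, 0, 3, 3, 3, 3, 1, 1, 2, 0, 0, 3, 3, 0, 2, 1, 2, 2, 0, 3, 1, 2, 0, 0, 3, 3, 1, 3, 0, 0, 0, 3, 0, 0, 2, 0, 3, 3, 3, 3, 0, 0, 3, 3, 1, 1, 3, 0, 3, 1, 1, 1, 3, 3, 0, 2, 1, 2, 2, 2, 2, 0, 0, 3, 1, 2, 1, 2, 0, 3, 0, 0, 2, 2, 1, 2, 2, 2, 0, 1, 3, 3, 3, 0, 3, 3, 1, 1, 2, 1, 3, 0, 3, 0, 2, 1, 1, 3, 3, 3, 3, 0, 3, 1, 2, 2, 0, 3, 0, 0, 3, 1, 3, 0, 3, 3, 3, 1, 3, 3, 0, 0, 2, 1, 1, 3, 0, 0, 3, 0, 3, 1, 3, 3, 3, 1, 1, 3, 3, 3, 0, 3, 3, 1, 1, 2, 1, 3, 0, 3,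 0, 2, 1, 1, 3, 3, 3, 3, 0, 3, 1, 2, 2, 0, 3, 0, 0, 3, 1, 3, 0, 3, 3, 3, 1, 3, 3, 0, 0, 2, 1, 1, 3, 0, 0, 3, 0, 3, 1, 3, 3, 3, 1]

/-- the word of `c` -/
def wc : List ℕ := [0, 0, 0, 3, 1, 2, 1, 2, 3, 1, 1, 2, 1, 3, 3, 3, 0, 3, 0, 0, 3, 2, 1, 3, 3, 0, 3, 1, 2, 2, 1, 1, 3, 0, 0, 2, 2, 2, 2, 1, 3, 1, 3, 1, 3, 0, 3, 1, 2, 2, 2, 0, 2, 1, 2, 1, 1, 2, 0, 0, 3, 1, 1, 2, 2, 0, 2, 2, 2, 1, 2, 0, 2, 1, 1, 2, 2, 0, 0, 3, 3, 1, 3, 0, 0, 0, 3, 0, 0, 2, 0, 3, 3, 3, 3, 0, 0, 3, 3, 1, 1, 3, 0, 3, 1]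

/-- an orbit of `⟨a, b⟩`, as a bit mask -/
def mask : ℕ := 0x204410000000000000010010600004001000103402115000425104010828450009820

/-- a point of the orbit that `c` moves out of it -/
def wit : ℕ := 5

/-- words moving the point `0` to the point `i` -/
def tr : List (List ℕ) := [[], [0], [1, 1, 1], [0, 0], [0, 3, 1, 3], [1, 1], [1, 3, 1, 3], [0, 0, 0], [0, 0, 0, 0, 0], [0, 0, 3, 1, 3], [2, 0, 0, 0], [1], [1, 1, 1, 1], [3, 1, 3], [1, 1, 3, 1, 3], [0, 0, 0, 0], [1, 2, 0, 0, 0], [1, 1, 1, 1, 1], [0, 2, 1, 1, 1, 1], [1, 1, 2, 0, 0, 0], [2, 1, 1, 1, 1], [0, 2, 0, 0, 0], [1, 2, 1, 1, 2, 1], [1, 3, 0, 0], [3, 3, 0, 2, 2, 0], [0, 0, 3, 0], [0, 0, 3, 0, 3], [3, 1, 1], [1, 1, 1, 3], [3, 0, 0, 3], [1, 3,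 1, 3, 0, 0], [1, 2, 1, 1, 1, 3], [0, 3, 0, 3], [1, 3, 1, 2, 1], [1, 3, 1, 1], [3, 3, 0, 3, 3], [1, 1, 2, 0], [0, 3, 0, 3, 3], [1, 3, 1, 3, 0], [3, 3, 3], [2, 1, 2, 0, 0], [3, 0, 3], [2, 2, 0, 0], [1, 1, 3, 0], [2, 2, 0, 0, 3, 0], [2, 0, 0, 0, 3], [2, 1, 3, 3, 3, 3], [2, 1, 2, 0, 2, 0], [3, 1, 2, 1, 3], [1, 2, 1, 3, 0], [0, 3, 0, 0, 0], [3, 1, 2, 0, 0], [2, 1, 2, 0], [0, 3, 1, 2, 1], [3, 0, 2, 2, 1], [1, 3, 3, 3, 3], [1, 1, 1, 2, 0, 0], [1, 1, 3, 0, 0], [1, 2, 2, 1], [3, 0, 2, 1, 2, 1], [1, 1, 1, 2, 1], [3, 3], [3, 1, 1, 2, 0, 0], [0, 3, 0], [0, 0, 0, 2, 0], [3, 1, 1, 1], [1, 3, 0, 0, 0], [1, 1, 3, 1, 1], [0, 2, 0, 2, 0], [3, 0, 2, 2, 1, 3], [3, 0, 3, 3], [1, 2, 2, 1, 2, 0], [3, 0, 0, 2, 0], [0, 0,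 3, 0, 0], [0, 2, 2, 1, 3], [1, 1, 1, 2, 0], [3, 0, 2, 2, 0], [2, 2, 1, 1, 3, 0], [2, 2, 0, 3, 1, 1], [3, 1, 3, 0, 0], [3, 1, 2, 1], [2, 1, 3, 0], [1, 2, 1, 2, 0], [3, 0, 0, 0, 3], [1, 3, 0], [0, 3, 3, 3], [3, 0, 0, 0], [3, 3, 3, 3], [2, 2, 1, 2, 0], [2, 2, 1, 1], [0, 3, 1, 1], [3, 3, 3, 1, 2, 0], [2, 1, 1, 2, 1], [0, 0, 0, 3, 0], [3, 0, 0], [2, 1, 1, 1, 3], [1, 1, 3], [0, 3, 0, 0, 3], [1, 2, 0], [1, 3, 0, 3, 1, 1], [1, 1, 1, 3, 0, 0], [2, 2, 1], [0, 3, 3], [3, 3, 3, 0, 3], [0, 3, 1, 1, 1], [1, 1, 2, 2, 0, 0], [3, 1, 3, 0], [2, 0, 2, 2, 0], [0, 2, 2, 0, 0], [1, 1, 2, 0, 0], [2, 0, 0, 3, 0], [1, 1, 2, 2, 1], [1, 2, 1, 3], [2, 0, 3, 0, 3], [0, 2, 1, 2, 0], [0, 0, 3, 1, 2, 1], [1, 1, 2, 1], [1, 3, 3,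 3], [2, 0, 2, 0, 0, 0], [2, 1, 3], [3, 1, 1, 3, 0], [0, 2, 1, 3, 0], [2, 0, 3, 1, 1], [2, 1, 1, 3], [2, 0], [3, 3, 1, 3], [3, 3, 1, 1, 1, 1], [0, 2, 0, 0], [2, 0, 0], [0, 0, 3, 3, 0, 0], [2, 0, 2, 0], [0, 2, 2, 0, 2, 0], [2, 2, 1, 1, 3], [0, 2, 0], [0, 0, 0, 3], [0, 3, 1, 1, 3, 0], [3, 0, 2, 0, 3], [3, 0, 3, 0], [3, 0, 2, 1], [3, 0, 3, 3, 1, 1], [3, 1, 1, 1, 1], [2, 1, 1], [2, 1], [2, 2, 2, 1, 2, 0], [0, 0, 3], [2, 2, 1, 2, 1], [2, 2, 2, 1], [1, 3, 0, 3, 3], [3, 0, 3, 1, 1], [1, 2, 1], [0, 3, 0, 0], [2, 1, 1, 1], [0, 0, 3, 3], [1, 1, 3, 3], [1, 2, 2, 1, 3], [0, 3, 0, 0, 0, 3], [3, 0], [1, 3], [2, 1, 2, 0, 0, 0], [1, 2, 0, 0], [0, 0, 0, 0, 3, 0], [0, 3, 3, 3, 0, 3], [1, 2, 2, 0, 0], [0, 2, 2, 1],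 [0, 3, 1, 3, 0], [0, 2, 1, 3], [0, 3, 3, 1, 3], [0, 0, 2, 0, 0], [0, 3, 1, 1, 1, 1], [0, 2, 1], [2, 2, 1, 3], [2, 0, 3, 1, 2, 1], [0, 0, 3, 0, 2, 1], [1, 3, 3, 0, 0], [2, 2, 1, 1, 1, 1], [0, 3], [1, 3, 0, 2, 2, 0], [2, 2, 0, 2, 0], [0, 0, 2, 0], [2, 1, 1, 2, 0], [2, 2, 2, 1, 1], [1, 2, 2, 1, 2, 1], [1, 1, 1, 1, 2, 0], [1, 2, 0, 2, 0], [0, 2, 1, 1], [0, 3, 0, 2, 1], [2, 0, 0, 0, 0], [1, 3, 3], [3, 0, 3, 3, 3], [0, 0, 2, 1, 1], [3, 3, 0, 0], [3], [1, 1, 1, 3, 0], [3, 1, 1, 3, 3], [0, 0, 2, 1], [0, 3, 3, 0, 0], [0, 0, 2, 1, 3], [1, 3, 0, 2, 1], [0, 3, 3, 3, 1, 1], [2, 2, 0, 0, 0, 0], [3, 1, 3, 0, 0, 3, 0], [3, 1, 2, 1, 3, 0], [1, 1, 2, 2, 0], [2, 0, 2, 1, 2, 1], [3, 1, 3, 3, 0, 3], [0, 2, 0, 0, 3],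 [3, 3, 0, 0, 0], [1, 3, 0, 0, 3, 0], [3, 3, 0, 2, 2, 1], [0, 3, 3, 1, 1], [3, 3, 3, 1, 1], [3, 0, 0, 3, 0], [2, 0, 2, 0, 3, 0], [3, 1, 1, 1, 2, 0], [2, 0, 2, 2, 0, 0], [1, 3, 3, 0, 3], [3, 1, 1, 2, 2, 1], [2, 0, 0, 3], [1, 3, 0, 3, 0, 3], [0, 2, 1, 1, 3, 0], [2, 0, 0, 2, 0, 0], [3, 0, 0, 2, 1, 1], [3, 1, 2, 0], [1, 1, 1, 2, 2, 0], [2, 0, 3, 1, 2, 0], [0, 2, 0, 2, 0, 3], [2, 1, 2, 2, 0], [2, 2, 0, 3, 0], [1, 1, 2, 1, 2, 1], [3, 0, 3, 1, 2, 0], [0, 3, 1, 2, 0], [1, 3, 3, 0, 0, 0], [3, 0, 3, 0, 3], [3, 1, 1, 3, 0, 0], [3, 3, 1, 1], [3, 0, 2, 0, 2, 0], [0, 3, 1, 1, 2, 1], [0, 2, 2, 0], [3, 3, 3, 3, 1, 1], [2, 1, 2, 1], [3, 3, 1, 2, 0], [2, 0, 2, 0, 3], [2, 2, 0], [0, 0, 2, 1, 2, 1], [2, 1, 3, 3, 3],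 [0, 0, 2, 0, 3], [2, 0, 3], [2, 2, 1, 3, 0], [2, 1, 3, 0, 0, 0], [2, 1, 1, 3, 0], [1, 3, 1, 2, 0], [3, 1, 1, 2, 1], [2, 0, 3, 0], [2, 2, 0, 2, 0, 3], [1, 3, 1, 1, 2, 1], [1, 3, 3, 1, 2, 0], [2, 2, 0, 2, 1, 3], [2, 0, 2, 1, 3], [0, 3, 0, 0, 3, 0], [1, 2, 0, 3], [3, 3, 0, 3], [3, 3, 1, 2, 1], [1, 2, 1, 2, 1], [0, 2, 0, 3], [0, 2, 0, 3, 0], [0, 2, 2, 1, 3, 0], [0, 3, 3, 0, 0, 0], [1, 2, 2, 0], [3, 3, 0], [0, 2, 1, 2, 1], [0, 3, 3, 0, 3], [2, 0, 0, 0, 0, 0], [1, 2, 2, 1, 3, 0], [2, 1, 3, 3, 0, 0], [1, 2, 1, 1, 3, 0]]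

end Cfsg.Agent.Lib.Helper29.McLStabData
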