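import Cfsg.Agent.Lib.Helper4.McL.Iso
import Cfsg.Agent.Lib.Helper3.Cover.U43Iso
import Cfsg.Agent.Lib.Helper29.McLStabData

set_option autoImplicit false

/-!
# The point stabiliser of the McLaughlin group on 275 points is `PSU₄(3)`

In helper4's permutation group `P ≅ McL` on 275 points, three explicit words `a, b, c` fix the point `0` and satisfy
helper3's presentation of `PSU₄(3)`.  The resulting homomorphism from the presented group to `P` is injective: the
preimage of the stabiliser of an `⟨a, b⟩`-orbit of length 36 contains the maximal subgroup `⟨a, b⟩` and not `c`, so it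
equals `⟨a, b⟩`, which is core-free.  The group `P` is transitive on the 275 points, so the stabiliser has order
`898128000 / 275 = 3265920`, the order of the presented group.
-/

namespace Cfsg.Agent.Lib.Helper29.McLStab

open Cfsg
open Cfsg.Agent.Lib.Helper4.McL
open Cfsg.Agent.Lib.Helper3.Cover
open Cfsg.Agent.Lib.Helper29.McLStabData

noncomputable section

/-- the stabiliser of the point `0` -/
def St : Subgroup ↥P := MulAction.stabilizer ↥P (fpt 0)

/-! ### transitivity and the order of the stabiliser -/

set_option maxRecDepth 100000 in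
theorem tr_ok : ∀ i < 275, evW (tr.getD i []) 0 = i := by decide +kernel

theorem exists_smul (i : Fin 275) : ∃ g : ↥P, g • fpt 0 = i := by
  refine ⟨gw (tr.getD i.val []), Fin.ext ?_⟩
  rw [gw_smul_val, fpt_val (by norm_num), tr_ok i.val i.isLt]

instance pretransitive_P : MulAction.IsPretransitive ↥P (Fin 275) := by
  constructor
  intro x y
  obtain ⟨g, hg⟩ := exists_smul x
  obtain ⟨h, hh⟩ := exists_smul y
  refine ⟨h * g⁻¹, ?_⟩
  rw [mul_smul, ← hg, inv_smul_smul, hh]

theorem card_St : Nat.card ↥St = 3265920 := by
  have h1 : St.index = 275 := by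
    rw [St, MulAction.index_stabilizer_of_transitive, Nat.card_eq_fintype_card, Fintype.card_fin]
  have h2 := Subgroup.card_mul_index St
  rw [h1, card_P] at h2
  have h3 : Nat.card ↥St * 275 = 3265920 * 275 := h2
  exact Nat.eq_of_mul_eq_mul_right (by norm_num) h3

/-! ### the three generators -/

/-- the words of the generators -/
def wgen : EU4Def.Gen → List ℕ
  | .a => wa
  | .b => wb
  | .c => wc

/-- the images of the generators -/
def genP (x : EU4Def.Gen) : ↥P := gw (wgen x)

/-- the word in `A`, `B` of a word in `a`, `b`, `c` -/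
def wordOf : List (EU4Def.Gen × Bool) → List ℕ
  | [] => []
  | (x, true) :: L => wgen x ++ wordOf L
  | (x, false) :: L => winv (wgen x) ++ wordOf L

theorem lift_mk (L : List (EU4Def.Gen × Bool)) :
    FreeGroup.lift genP (FreeGroup.mk L) = gw (wordOf L) := by
  rw [FreeGroup.lift_mk]
  induction L with
  | nil => exact gw_nil.symm
  | cons p L ih =>
    obtain ⟨x, b⟩ := p
    rw [List.map_cons, List.prod_cons, ih]
    cases b
    · show (genP x)⁻¹ * _ = gw (winv (wgen x) ++ wordOf L)
      rw [gw_append, gw_winv]
      rfl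
    · show genP x * _ = gw (wgen x ++ wordOf L)
      rw [gw_append]
      rfl

set_option maxRecDepth 1000000 in
theorem rel_ok : ∀ L ∈ EU4Def.R, ∀ b < 5, evW (wordOf L) b = b := by decide +kernel

theorem hrel : ∀ r ∈ PU4Link.rels, FreeGroup.lift genP r = 1 := by
  rintro r ⟨L, hL, rfl⟩
  rw [lift_mk]
  apply rigid
  intro b hb
  apply Fin.ext
  rw [gw_smul_val, fpt_val (by omega), rel_ok L hL b hb]

/-- the homomorphism from the presented group -/
def psiP : U43Iso.P →* ↥P := PresentedGroup.toGroup hrel

theorem psiP_of (x : EU4Def.Gen) : psiP (PresentedGroup.of x) = genP x :=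
  PresentedGroup.toGroup.of hrel

/-! ### the stabiliser of an orbit of `⟨a, b⟩` -/

/-- the points of the orbit -/
def Q (i : Fin 275) : Prop := mask.testBit i.val = true

/-- the stabiliser of the orbit -/
def T : Subgroup ↥P where
  carrier := {g | ∀ i : Fin 275, Q (g • i) ↔ Q i}
  one_mem' := fun i => by rw [one_smul]
  mul_mem' := by
    intro g h hg hh i
    rw [mul_smul, hg, hh]
  inv_mem' := by
    intro g hg i
    have := hg (g⁻¹ • i)
    rw [smul_inv_smul] at this
    exact this.symm

set_option maxRecDepth 100000 in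
theorem mask_a : ∀ i < 275, mask.testBit (evW wa i) = mask.testBit i := by decide +kernel

set_option maxRecDepth 100000 in
theorem mask_b : ∀ i < 275, mask.testBit (evW wb i) = mask.testBit i := by decide +kernel

set_option maxRecDepth 100000 in
theorem mask_c : mask.testBit (evW wc wit) ≠ mask.testBit wit := by decide +kernel

theorem wit_lt : wit < 275 := by decide

theorem gw_mem_T {w : List ℕ} (h : ∀ i < 275, mask.testBit (evW w i) = mask.testBit i) : gw w ∈ T := by
  intro i
  show mask.testBit (gw w • i).val = true ↔ mask.testBit i.val = true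
  rw [gw_smul_val, h i.val i.isLt]

theorem gc_not_mem : gw wc ∉ T := by
  intro h
  have h1 : mask.testBit (gw wc • fpt wit).val = true ↔ mask.testBit (fpt wit).val = true := h (fpt wit)
  rw [gw_smul_val, fpt_val wit_lt] at h1
  exact mask_c (Bool.eq_iff_iff.mpr h1)

theorem H_le : U43Iso.H ≤ T.comap psiP := by
  rw [Subgroup.map_le_iff_le_comap, Subgroup.closure_le]
  intro s hs
  simp only [PU4Link.S, Set.mem_insert_iff, Set.mem_singleton_iff] at hs
  rcases hs with rfl | rfl
  · show psiP (PresentedGroup.of .a) ∈ T
    rw [psiP_of]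
    exact gw_mem_T mask_a
  · show psiP (PresentedGroup.of .b) ∈ T
    rw [psiP_of]
    exact gw_mem_T mask_b

theorem comap_ne_top : T.comap psiP ≠ ⊤ := by
  intro e
  have h : (PresentedGroup.of EU4Def.Gen.c : U43Iso.P) ∈ T.comap psiP := by
    rw [e]; exact Subgroup.mem_top _
  rw [Subgroup.mem_comap, psiP_of] at h
  exact gc_not_mem h

theorem psiP_injective : Function.Injective psiP := by
  obtain ⟨-, hcore, -, hmax⟩ := U43Iso.struct
  rw [← MonoidHom.ker_eq_bot_iff, eq_bot_iff, ← hcore]
  apply Subgroup.normal_le_normalCore.mpr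
  have hS : T.comap psiP = U43Iso.H := (hmax _ H_le).resolve_right comap_ne_top
  rw [← hS]
  intro x hx
  rw [Subgroup.mem_comap, MonoidHom.mem_ker.mp hx]
  exact T.one_mem

/-! ### the image is the stabiliser -/

theorem fix_a : evW wa 0 = 0 := by decide +kernel
theorem fix_b : evW wb 0 = 0 := by decide +kernel
theorem fix_c : evW wc 0 = 0 := by decide +kernel

theorem genP_mem (x : EU4Def.Gen) : genP x ∈ St := by
  rw [St, MulAction.mem_stabilizer_iff]
  apply Fin.ext
  show (gw (wgen x) • fpt 0).val = _
  rw [gw_smul_val, fpt_val (by norm_num)]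
  cases x
  · exact fix_a
  · exact fix_b
  · exact fix_c

theorem range_le : psiP.range ≤ St := by
  rw [MonoidHom.range_eq_map, ← PresentedGroup.closure_range_of, MonoidHom.map_closure, Subgroup.closure_le]
  rintro _ ⟨_, ⟨x, rfl⟩, rfl⟩
  rw [psiP_of]
  exact genP_mem x

theorem range_eq : psiP.range = St := by
  have : Finite ↥P := finite_P
  apply Subgroup.eq_of_le_of_card_ge range_le
  rw [card_St, ← Nat.card_congr (MonoidHom.ofInjective psiP_injective).toEquiv, U43Iso.struct.1]

/-- the presented group is the stabiliser -/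
def stIso : U43Iso.P ≃* ↥St :=
  (MonoidHom.ofInjective psiP_injective).trans (MulEquiv.subgroupCongr range_eq)

/-- the stabiliser of a point of the McLaughlin group on 275 points is `PSU₄(3)` -/
theorem St_iso_PSU : Nonempty (↥St ≃* PSU 4 Cfsg.Agent.Lib.Helper19.PSU33Spec.K9 3) := by
  obtain ⟨e⟩ := U43Iso.iso_PSU
  exact ⟨stIso.symm.trans e⟩

end

end Cfsg.Agent.Lib.Helper29.McLStab
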