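import Cfsg.Agent.Lib.Helper29.McLStab
import Cfsg.Agent.Lib.Helper14.LeechMcL
import Cfsg.Agent.Lib.Helper19.SUCongr
import Cfsg.Agent.Lib.Helper19.PSU33Spec

set_option autoImplicit false

/-!
# The stabiliser of a McLaughlin triple of Leech vectors is `PSU₄(3)`

For lattice vectors `u` (norm 48), `v` (norm 32, `u - v` of norm 32) and `x` among the 275 vectors of the McLaughlin
graph of `(u, v)`, the joint stabiliser in `Co0` is conjugate to that of the standard triple (helper14's normal form of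
a triple), which helper4's isomorphism of the McLaughlin group with a permutation group on 275 points maps onto a
point stabiliser, isomorphic to `PSU₄(3)`.
-/

namespace Cfsg.Agent.Lib.Helper29.McLStabLeech

open Cfsg MulAction
open Cfsg.Agent.Lib.Helper4.McL
open Cfsg.Agent.Lib.Helper29.McLStab
open Cfsg.Agent.Lib.Helper14.LeechMono (smul_coe)

noncomputable section

/-- the standard point -/
def x0 : ↥leechLattice := ((eXS (fpt 0) : ↥XS) : ↥leechLattice)

theorem x0_mem : x0 ∈ X := (eXS (fpt 0)).2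

/-- the stabiliser of the standard triple -/
abbrev G0 : Subgroup ↥Co0 :=
  stabilizer ↥Co0 (-Spor.leechV) ⊓ stabilizer ↥Co0 Spor.leechU ⊓ stabilizer ↥Co0 x0

theorem mclIso_mem_St (m : ↥Spor.McL) :
    mclIso m ∈ St ↔ (m : Equiv.Perm ↥leechLattice) x0 = x0 := by
  rw [St, mem_stabilizer_iff]
  have h1 : mclIso m • fpt 0 = psi m (fpt 0) := by
    show ((mclIso m : ↥P) : Equiv.Perm (Fin 275)) (fpt 0) = _
    rw [mclIso_apply]
  rw [h1, ← eXS.apply_eq_iff_eq, psi_apply]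
  constructor
  · intro h
    have h2 := congrArg (fun y : ↥XS => (y : ↥leechLattice)) h
    exact h2
  · intro h
    apply Subtype.ext
    exact h

theorem mem1 (g : ↥G0) : (g.1 : Equiv.Perm ↥leechLattice) ∈ Spor.McL := by
  rw [mem_McL_iff]
  refine ⟨g.1.2, ?_, ?_⟩
  · have h : (g.1 : Equiv.Perm ↥leechLattice) (-Spor.leechV) = -Spor.leechV := g.2.1.1
    rw [map_neg_of_mem g.1.2, neg_inj] at h
    exact h
  · exact g.2.1.2

theorem mem2 (g : ↥G0) : mclIso ⟨(g.1 : Equiv.Perm ↥leechLattice), mem1 g⟩ ∈ St :=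
  (mclIso_mem_St _).mpr g.2.2

theorem mem3 (s : ↥St) : ((mclIso.symm s.1 : ↥Spor.McL) : Equiv.Perm ↥leechLattice) ∈ Co0 :=
  ((mem_McL_iff _).mp (mclIso.symm s.1).2).1

theorem mem4 (s : ↥St) : (⟨((mclIso.symm s.1 : ↥Spor.McL) : Equiv.Perm ↥leechLattice), mem3 s⟩ : ↥Co0) ∈ G0 := by
  obtain ⟨h0, h1, h2⟩ := (mem_McL_iff _).mp (mclIso.symm s.1).2
  refine ⟨⟨?_, ?_⟩, ?_⟩
  · show ((mclIso.symm s.1 : ↥Spor.McL) : Equiv.Perm ↥leechLattice) (-Spor.leechV) = -Spor.leechV
    rw [map_neg_of_mem h0, h1]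
  · exact h2
  · show ((mclIso.symm s.1 : ↥Spor.McL) : Equiv.Perm ↥leechLattice) x0 = x0
    rw [← mclIso_mem_St, MulEquiv.apply_symm_apply]
    exact s.2

/-- the stabiliser of the standard triple is the point stabiliser in the group on 275 points -/
def theta : ↥G0 ≃* ↥St where
  toFun g := ⟨mclIso ⟨(g.1 : Equiv.Perm ↥leechLattice), mem1 g⟩, mem2 g⟩
  invFun s := ⟨⟨((mclIso.symm s.1 : ↥Spor.McL) : Equiv.Perm ↥leechLattice), mem3 s⟩, mem4 s⟩
  left_inv g := by
    apply Subtype.ext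
    apply Subtype.ext
    show ((mclIso.symm (mclIso ⟨(g.1 : Equiv.Perm ↥leechLattice), mem1 g⟩) : ↥Spor.McL) :
      Equiv.Perm ↥leechLattice) = g.1
    rw [MulEquiv.symm_apply_apply]
  right_inv s := by
    apply Subtype.ext
    exact mclIso.apply_symm_apply s.1
  map_mul' g h := by
    apply Subtype.ext
    show mclIso ⟨((g * h).1 : Equiv.Perm ↥leechLattice), mem1 (g * h)⟩ =
      mclIso ⟨(g.1 : Equiv.Perm ↥leechLattice), mem1 g⟩ * mclIso ⟨(h.1 : Equiv.Perm ↥leechLattice), mem1 h⟩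
    rw [← map_mul]
    rfl

/-! ### conjugation -/

theorem stab3_conj {G α : Type*} [Group G] [MulAction G α] (g : G) (a b c : α) :
    stabilizer G (g • a) ⊓ stabilizer G (g • b) ⊓ stabilizer G (g • c) =
      (stabilizer G a ⊓ stabilizer G b ⊓ stabilizer G c).map (MulAut.conj g).toMonoidHom := by
  rw [Subgroup.map_inf _ _ _ (MulAut.conj g).injective, Subgroup.map_inf _ _ _ (MulAut.conj g).injective,
    stabilizer_smul_eq_stabilizer_map_conj, stabilizer_smul_eq_stabilizer_map_conj,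
    stabilizer_smul_eq_stabilizer_map_conj]

/-- the stabilisers of conjugate triples are isomorphic -/
def stab3Equiv {G α : Type*} [Group G] [MulAction G α] (g : G) (a b c : α) :
    ↥(stabilizer G (g • a) ⊓ stabilizer G (g • b) ⊓ stabilizer G (g • c)) ≃*
      ↥(stabilizer G a ⊓ stabilizer G b ⊓ stabilizer G c) :=
  (MulEquiv.subgroupCongr (stab3_conj g a b c)).trans
    ((MulAut.conj g).subgroupMap (stabilizer G a ⊓ stabilizer G b ⊓ stabilizer G c)).symm

/-- every triple is conjugate to the standard one -/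
theorem exists_conj (u v x : ↥leechLattice) (hu : sqNorm (u : GolayPt → ℤ) = 48)
    (hv : sqNorm (v : GolayPt → ℤ) = 32) (hx : sqNorm (x : GolayPt → ℤ) = 32)
    (huv : dotInt (u : GolayPt → ℤ) (v : GolayPt → ℤ) = 24)
    (hux : dotInt (u : GolayPt → ℤ) (x : GolayPt → ℤ) = 24)
    (hvx : dotInt (v : GolayPt → ℤ) (x : GolayPt → ℤ) = 16) :
    ∃ g : ↥Co0, g • (-Spor.leechV) = u ∧ g • Spor.leechU = v ∧ g • x0 = x := by
  obtain ⟨ga, ha1, ha2, ha3⟩ :=
    Cfsg.Agent.Lib.Helper14.LeechMcL.triple_normal275 u v x hu hv hx huv hux hvx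
  obtain ⟨h1, h2, h3⟩ := x0_mem
  obtain ⟨gb, hb1, hb2, hb3⟩ :=
    Cfsg.Agent.Lib.Helper14.LeechMcL.triple_normal275 (-Spor.leechV) Spor.leechU x0 normV normU h1 dotVU
      (by
        show dotInt (-Spor.vecV) _ = 24
        rw [dotInt_neg_left, h2]
        rfl) h3
  refine ⟨ga⁻¹ * gb, ?_, ?_, ?_⟩
  · rw [mul_smul, hb1, ← ha1, inv_smul_smul]
  · rw [mul_smul, hb2, ← ha2, inv_smul_smul]
  · rw [mul_smul, inv_smul_eq_iff]
    apply Subtype.ext
    rw [hb3, ha3]

/-- the stabiliser of a triple is `PSU₄(3)` -/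
theorem triple_stab (u v x : ↥leechLattice) (hu : sqNorm (u : GolayPt → ℤ) = 48)
    (hv : sqNorm (v : GolayPt → ℤ) = 32) (hx : sqNorm (x : GolayPt → ℤ) = 32)
    (huv : dotInt (u : GolayPt → ℤ) (v : GolayPt → ℤ) = 24)
    (hux : dotInt (u : GolayPt → ℤ) (x : GolayPt → ℤ) = 24)
    (hvx : dotInt (v : GolayPt → ℤ) (x : GolayPt → ℤ) = 16)
    (F : Type) [Field F] [Fintype F] (hF : Fintype.card F = 9) :
    Nonempty (↥(stabilizer ↥Co0 u ⊓ stabilizer ↥Co0 v ⊓ stabilizer ↥Co0 x) ≃* PSU 4 F 3) := by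
  obtain ⟨g, rfl, rfl, rfl⟩ := exists_conj u v x hu hv hx huv hux hvx
  obtain ⟨e⟩ := St_iso_PSU
  exact ⟨(((stab3Equiv g (-Spor.leechV) Spor.leechU x0).trans theta).trans e).trans
    (Cfsg.Agent.Lib.Helper19.SUCongr.psuCongr (Cfsg.Agent.Lib.Helper19.PSU33Spec.phi hF))⟩

end

end Cfsg.Agent.Lib.Helper29.McLStabLeech
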