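import Cfsg.Agent.Lib.Helper10.NDMax4
import Cfsg.Agent.Lib.Helper5.NDMinus

/-!
helper29, S5825 conjunct (5): stabiliser of a nondegenerate 4-space `W` in `Ω₈⁻(q)` (`W ⟂ W'`, both of
dimension `≥ 4`, any characteristic).  Symmetric setup `NS44` + the star lemmas (copied from helper10's
`NDMax4`, which are characteristic free).
-/

set_option autoImplicit false
set_option linter.unusedSectionVars false
set_option linter.unusedVariables false
set_option linter.unusedSimpArgs false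

namespace Cfsg.Agent.Lib.Helper29.ND44

open Module QuadraticMap Matrix Cfsg.Agent.Lib.Helper25.CD Cfsg.Agent.Lib.Helper25.Spin
  Cfsg.Agent.Lib.Helper25.Fam Cfsg.Agent.Lib.Helper25.Siegel
  Cfsg.Agent.Lib.Helper25.PS Cfsg.Agent.Lib.Helper25.OGeom Cfsg.Agent.Lib.Helper15
  Cfsg.Agent.Lib.Helper5.TSMax Cfsg.Agent.Lib.Helper5.NSMax Cfsg.Agent.Lib.Helper5.PairMax
  Cfsg.Agent.Lib.Helper5.NDMax Cfsg.Agent.Lib.Helper10.NDMax4

variable {ι : Type} [Fintype ι] [DecidableEq ι] {F : Type*} [Field F] [Fintype F]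
  (Q : QuadraticForm F (ι → F))

/-- Two orthogonal complementary subspaces `W`, `W'`, both of dimension at least four, such that the
stabiliser of `W` in `Ω` lies in `M ≤ Ω`. -/
structure NS44 (M : Subgroup ↥(Cfsg.isometryGroup F ⇑Q)) (W W' : Submodule F (ι → F)) :
    Prop where
  nd : (polarBilin Q).Nondegenerate
  card : 7 ≤ Fintype.card ι
  orth : ∀ x ∈ W, ∀ y ∈ W', polar Q x y = 0
  disj : W ⊓ W' = ⊥
  sup : W ⊔ W' = ⊤
  big : 4 ≤ finrank F W
  big' : 4 ≤ finrank F W'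
  stab : ∀ g ∈ Cfsg.Omega F ⇑Q, (∀ x ∈ W, toOG Q g x ∈ W) → g ∈ M
  le : M ≤ Cfsg.Omega F ⇑Q

variable {Q}

section setup

variable {M : Subgroup ↥(Cfsg.isometryGroup F ⇑Q)} {W W' : Submodule F (ι → F)}

theorem NS44.exc (hS : NS44 Q M W W') :
    ¬ (Fintype.card F ≤ 3 ∧ finrank F W' = 2 ∧ ∃ e ∈ W', e ≠ 0 ∧ Q e = 0) := by
  rintro ⟨-, h, -⟩
  have := hS.big'
  omega

theorem NS44.dec (hS : NS44 Q M W W') (v : ι → F) : ∃ a ∈ W, ∃ b ∈ W', v = a + b := by
  have hv : v ∈ W ⊔ W' := by rw [hS.sup]; exact Submodule.mem_top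
  obtain ⟨a, ha, b, hb, h⟩ := Submodule.mem_sup.1 hv
  exact ⟨a, ha, b, hb, h.symm⟩

theorem NS44.ndW (hS : NS44 Q M W W') : NdOn Q W := by
  intro w hw hall
  apply hS.nd.1 w
  intro y
  rw [polarBilin_apply_apply]
  obtain ⟨a, ha, b, hb, rfl⟩ := hS.dec y
  rw [polar_add_right, hall a ha, hS.orth w hw b hb, add_zero]

theorem NS44.ndW' (hS : NS44 Q M W W') : NdOn Q W' := by
  intro w hw hall
  apply hS.nd.1 w
  intro y
  rw [polarBilin_apply_apply]
  obtain ⟨a, ha, b, hb, rfl⟩ := hS.dec y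
  rw [polar_add_right, hall b hb, polar_comm Q w a, hS.orth a ha w hw, add_zero]

theorem NS44.inA_W (hS : NS44 Q M W W') {u x : ι → F} (hu : u ∈ W) (hu0 : u ≠ 0)
    (hQu : Q u = 0) (hx : x ∈ W) (hux : polar Q u x = 0) : InA Q M u x := by
  intro c
  obtain ⟨g, hgΩ, hg⟩ := exists_egen Q hS.nd hS.card hu0 hQu (y := c • x)
    (by rw [polar_smul_right, hux, smul_zero])
  refine ⟨g, hS.stab g hgΩ (fun v hv => ?_), hg⟩
  rw [hg]
  unfold egen
  exact W.sub_mem (W.sub_mem (W.add_mem hv (W.smul_mem _ (W.smul_mem _ hx)))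
    (W.smul_mem _ hu)) (W.smul_mem _ hu)

theorem NS44.inA_all_of_star (hS : NS44 Q M W W') {u y : ι → F} (hu : u ∈ W) (hu0 : u ≠ 0)
    (hQu : Q u = 0) (hy : y ∈ W') (hy0 : y ≠ 0) (h : InA Q M u y) :
    ∀ v, polar Q u v = 0 → InA Q M u v := by
  have hQ := hS.nd
  have hn := hS.card
  have huW' : ∀ z ∈ W', polar Q u z = 0 := fun z hz => hS.orth u hu z hz
  obtain ⟨A, hAmem⟩ : ∃ A : Submodule F (ι → F), ∀ z, z ∈ A ↔ z ∈ W' ∧ InA Q M u z :=
    ⟨{ carrier := {z | z ∈ W' ∧ InA Q M u z}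
       add_mem' := fun {a b} ha hb => ⟨W'.add_mem ha.1 hb.1,
         InA.add hQu (huW' a ha.1) (huW' b hb.1) ha.2 hb.2⟩
       zero_mem' := ⟨W'.zero_mem, inA_zero M u⟩
       smul_mem' := fun c {a} ha => ⟨W'.smul_mem c ha.1, ha.2.smul c⟩ }, fun z => Iff.rfl⟩
  have hAW' : A ≤ W' := fun z hz => ((hAmem z).1 hz).1
  have hA0 : A ≠ ⊥ := by
    intro h0
    have h1 : y ∈ A := (hAmem y).2 ⟨hy, h⟩
    rw [h0, Submodule.mem_bot] at h1
    exact hy0 h1
  obtain ⟨f, hfW, hQf, huf⟩ := exists_hyp_partner Q W hS.ndW hu hu0 hQu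
  have hNnd := perpPair_nd Q W hS.ndW hu hfW hQu hQf huf
  have hNfr := perpPair_finrank Q W hu hfW hQu hQf huf
  have hbig := hS.big
  have hrefl : ∀ x ∈ A, ∀ w ∈ W', Q w ≠ 0 → polar Q w x ≠ 0 → w ∈ A := by
    intro x hxA w hwW' hQw hwx
    obtain ⟨hxW', hxin⟩ := (hAmem x).1 hxA
    obtain ⟨z, hzN, hQz⟩ := universal Q hNnd (by omega) (Q w)
    rw [mem_perpPair] at hzN
    obtain ⟨hzW, huz, -⟩ := hzN
    have hmΩ : reflM Q w * reflM Q z ∈ Cfsg.Omega F ⇑Q :=
      refl_pair_mem_omega Q hQ hn hQw rfl hQz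
    have hmapply : ∀ v, toOG Q (reflM Q w * reflM Q z) v = reflE Q w (reflE Q z v) := by
      intro v
      rw [map_mul, LinearEquiv.mul_apply, toOG_reflM, toOG_reflM]
    have hmM : reflM Q w * reflM Q z ∈ M := by
      apply hS.stab _ hmΩ
      intro v hv
      rw [hmapply, reflE_apply Q z v]
      have h1 : v - ((Q z)⁻¹ * polar Q z v) • z ∈ W := W.sub_mem hv (W.smul_mem _ hzW)
      rw [reflE_apply, polar_comm Q w _, hS.orth _ h1 w hwW']
      simpa using h1
    have h1 := InA.conj hmM hxin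
    rw [hmapply, hmapply] at h1
    have e1 : reflE Q w (reflE Q z u) = u := by
      have e0 : reflE Q z u = u := by
        rw [reflE_apply, polar_comm Q z u, huz]
        simp
      rw [e0, reflE_apply, polar_comm Q w u, huW' w hwW']
      simp
    have e2 : reflE Q w (reflE Q z x) = x - ((Q w)⁻¹ * polar Q w x) • w := by
      have e0 : reflE Q z x = x := by
        rw [reflE_apply, hS.orth z hzW x hxW']
        simp
      rw [e0, reflE_apply]
    rw [e1, e2] at h1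
    obtain ⟨κ, hκ⟩ : ∃ κ, κ = (Q w)⁻¹ * polar Q w x := ⟨_, rfl⟩
    have hκ0 : κ ≠ 0 := by
      rw [hκ]
      exact mul_ne_zero (inv_ne_zero hQw) hwx
    rw [← hκ] at h1
    have h2 := InA.add hQu (huW' x hxW') (by
      rw [polar_smul_right, polar_sub_right, polar_smul_right, huW' x hxW', huW' w hwW']
      simp) hxin (h1.smul (-1))
    have e3 : x + (-1 : F) • (x - κ • w) = κ • w := by module
    rw [e3] at h2
    have h3 := h2.smul κ⁻¹
    rw [smul_smul, inv_mul_cancel₀ hκ0, one_smul] at h3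
    exact (hAmem w).2 ⟨hwW', h3⟩
  have hegen : ∀ x ∈ A, ∀ p ∈ W', Q p = 0 → ∀ z ∈ W', polar Q p z = 0 →
      egen Q p z x ∈ A := by
    intro x hxA p hpW' hQp z hzW' hpz
    obtain ⟨hxW', hxin⟩ := (hAmem x).1 hxA
    by_cases hp0 : p = 0
    · have e : egen Q p z x = x := by
        rw [hp0]
        unfold egen
        simp
      rw [e]
      exact hxA
    obtain ⟨g, hgΩ, hg⟩ := exists_egen Q hQ hn hp0 hQp hpz
    have hfix : ∀ v ∈ W, toOG Q g v = v := by
      intro v hv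
      rw [hg]
      exact egen_fix Q (by rw [polar_comm]; exact hS.orth v hv p hpW')
        (by rw [polar_comm]; exact hS.orth v hv z hzW')
    have hgM : g ∈ M := hS.stab g hgΩ (fun v hv => by rw [hfix v hv]; exact hv)
    have h1 := InA.conj hgM hxin
    rw [hfix u hu, hg] at h1
    refine (hAmem _).2 ⟨?_, h1⟩
    unfold egen
    exact W'.sub_mem (W'.sub_mem (W'.add_mem hxW' (W'.smul_mem _ hzW')) (W'.smul_mem _ hpW'))
      (W'.smul_mem _ hpW')
  have hall := irred Q hS.ndW' hAW' hA0 hrefl hegen hS.exc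
  intro v huv
  obtain ⟨a, ha, b, hb, rfl⟩ := hS.dec v
  have hub : polar Q u b = 0 := huW' b hb
  have hua : polar Q u a = 0 := by
    rw [polar_add_right, hub, add_zero] at huv
    exact huv
  exact InA.add hQu hua hub (hS.inA_W hu hu0 hQu ha hua) ((hAmem b).1 (hall hb)).2

theorem NS44.eq_omega_of_star (hS : NS44 Q M W W') {u y : ι → F} (hu : u ∈ W) (hu0 : u ≠ 0)
    (hQu : Q u = 0) (hy : y ∈ W') (hy0 : y ≠ 0) (h : InA Q M u y) :
    M = Cfsg.Omega F ⇑Q := by
  have hQ := hS.nd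
  have hn := hS.card
  have hbig := hS.big
  have hg1 : Good Q M (mk' Q u hu0 hQu) :=
    good_of_all hu0 hQu (hS.inA_all_of_star hu hu0 hQu hy hy0 h)
  obtain ⟨u2, hu2W, hQu2, huu2⟩ := exists_hyp_partner Q W hS.ndW hu hu0 hQu
  have hNnd := perpPair_nd Q W hS.ndW hu hu2W hQu hQu2 huu2
  have hNfr := perpPair_finrank Q W hu hu2W hQu hQu2 huu2
  have hQd : Q (u - u2) = -1 := by
    have e1 : Q (u - u2) = Q u + Q u2 - polar Q u u2 := by
      rw [sub_eq_add_neg, QuadraticMap.map_add (⇑Q), QuadraticMap.map_neg, polar_neg_right]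
      ring
    rw [e1, hQu, hQu2, huu2]
    ring
  obtain ⟨z, hzN, hQz⟩ := universal Q hNnd (by omega) (-1 : F)
  rw [mem_perpPair] at hzN
  obtain ⟨hzW, huz, hu2z⟩ := hzN
  have hmΩ : reflM Q (u - u2) * reflM Q z ∈ Cfsg.Omega F ⇑Q :=
    refl_pair_mem_omega Q hQ hn (neg_ne_zero.2 one_ne_zero) hQd hQz
  have hmM : reflM Q (u - u2) * reflM Q z ∈ M := by
    apply hS.stab _ hmΩ
    intro v hv
    rw [map_mul, LinearEquiv.mul_apply, toOG_reflM, toOG_reflM, reflE_apply Q z v, reflE_apply]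
    exact W.sub_mem (W.sub_mem hv (W.smul_mem _ hzW)) (W.smul_mem _ (W.sub_mem hu hu2W))
  have hmu : toOG Q (reflM Q (u - u2) * reflM Q z) u = u2 := by
    rw [map_mul, LinearEquiv.mul_apply, toOG_reflM, toOG_reflM]
    have e0 : reflE Q z u = u := reflE_of_perp Q (by rw [polar_comm]; exact huz)
    rw [e0]
    exact reflE_swap Q (by rw [hQu, hQu2]) (by rw [hQd]; exact neg_ne_zero.2 one_ne_zero)
  have hg2 := good_smul Q hmM hg1
  rw [smul_mk'] at hg2
  apply eq_omega_of_all_good Q hQ hn M hS.le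
  refine all_good_of_opposite Q hQ (by omega) M hg1 hg2 ?_
  rw [ort_mk']
  rw [hmu, huu2]
  exact one_ne_zero


end setup

end Cfsg.Agent.Lib.Helper29.ND44
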