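import Cfsg.Agent.Lib.Helper29.ND44Defs

/-!
helper29, ND44: the predicate `Mixed` (third alternative of the trichotomy), in an importable module.
-/

set_option autoImplicit false
set_option linter.unusedSectionVars false
set_option linter.unusedVariables false

namespace Cfsg.Agent.Lib.Helper29.ND44

open Module QuadraticMap Matrix Cfsg.Agent.Lib.Helper25.CD

variable {ι : Type} [Fintype ι] [DecidableEq ι] {F : Type*} [Field F] [Fintype F]

/-- the third alternative of the trichotomy: `q = 2` and `p = a1 + b1` with `a1, b1 ∈ W` nonsingular,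
`g a1 ∈ W`, `g b1 ∈ W'`. -/
def Mixed (Q : QuadraticForm F (ι → F)) (W W' : Submodule F (ι → F))
    (g : ↥(Cfsg.isometryGroup F ⇑Q)) (p : ι → F) : Prop :=
  Fintype.card F = 2 ∧ ∃ a1 b1 : ι → F, a1 ∈ W ∧ b1 ∈ W ∧ p = a1 + b1 ∧ toOG Q g a1 ∈ W ∧
    toOG Q g b1 ∈ W' ∧ Q a1 ≠ 0 ∧ Q b1 ≠ 0

end Cfsg.Agent.Lib.Helper29.ND44
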