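import Cfsg.Agent.Lib.Helper29.ND44Defs
import Cfsg.Agent.Lib.Helper29.ND44Mixed
import Cfsg.Agent.Lib.Helper12.ND44G12

/-!
helper29, ND44 (S5825 conjunct (5)): G5 `plus_of_aniso` and B8 `plus_of_mixed` (the `q = 2` endgame).
-/

set_option autoImplicit false
set_option linter.unusedSectionVars false
set_option linter.unusedVariables false
set_option linter.unusedSimpArgs false

namespace Cfsg.Agent.Lib.Helper29.ND44Leaf

open Module QuadraticMap Matrix Cfsg.Agent.Lib.Helper25.CD Cfsg.Agent.Lib.Helper25.Spin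
  Cfsg.Agent.Lib.Helper25.Fam Cfsg.Agent.Lib.Helper25.Siegel
  Cfsg.Agent.Lib.Helper25.PS Cfsg.Agent.Lib.Helper25.OGeom Cfsg.Agent.Lib.Helper15
  Cfsg.Agent.Lib.Helper5.TSMax Cfsg.Agent.Lib.Helper5.NSMax Cfsg.Agent.Lib.Helper5.PairMax
  Cfsg.Agent.Lib.Helper5.NDMax Cfsg.Agent.Lib.Helper10.NDMax4 Cfsg.Agent.Lib.Helper29.ND44

variable {ι : Type} [Fintype ι] [DecidableEq ι] {F : Type*} [Field F] [Fintype F]
  {Q : QuadraticForm F (ι → F)}

theorem zero_or_one_of_card_two (hF2 : Fintype.card F = 2) (c : F) : c = 0 ∨ c = 1 := by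
  classical
  by_contra hcon
  push Not at hcon
  have hsub : ({0, 1, c} : Finset F) ⊆ Finset.univ := Finset.subset_univ _
  have h3 : ({0, 1, c} : Finset F).card = 3 := by
    rw [Finset.card_insert_of_notMem, Finset.card_insert_of_notMem, Finset.card_singleton]
    · simp only [Finset.mem_singleton]
      exact fun h => hcon.2 h.symm
    · simp only [Finset.mem_insert, Finset.mem_singleton, not_or]
      exact ⟨zero_ne_one, fun h => hcon.1 h.symm⟩
  have := Finset.card_le_card hsub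
  rw [h3, Finset.card_univ, hF2] at this
  omega

theorem two_eq_zero_of_card_two (hF2 : Fintype.card F = 2) : (2 : F) = 0 := by
  rcases zero_or_one_of_card_two hF2 (2 : F) with h | h
  · exact h
  · exfalso
    have e : (2 : F) = 1 + 1 := by norm_num
    rw [e] at h
    have : (1 : F) = 0 := by
      have := congrArg (fun t => t - 1) h
      simp at this
    exact one_ne_zero this

theorem plus_of_aniso (hF2 : Fintype.card F = 2) {W : Submodule F (ι → F)} (hW : NdOn Q W)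
    (hfr : finrank F W = 4) (X Y : Submodule F (ι → F)) (hXW : X ≤ W) (hYW : Y ≤ W)
    (hXY : ∀ x ∈ X, ∀ y ∈ Y, polar Q x y = 0) (hdisj : ∀ x ∈ X, x ∈ Y → x = 0)
    (hXa : ∀ x ∈ X, Q x = 0 → x = 0) (hYa : ∀ y ∈ Y, Q y = 0 → y = 0)
    (hdec : ∀ p ∈ W, Q p = 0 → ∃ a1 ∈ X, ∃ b1 ∈ Y, p = a1 + b1) :
    Cfsg.Geo.IsPlusTypeOn ⇑Q W := by
  have h01 := zero_or_one_of_card_two hF2
  have h2 := two_eq_zero_of_card_two hF2
  have hone : ∀ c : F, c ≠ 0 → c = 1 := fun c hc => (h01 c).resolve_left hc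
  have hWle : W ≤ X ⊔ Y := by
    apply Cfsg.Agent.Lib.Helper12.ND44Leaf.sing_span hW (by omega)
    intro p hp hQp
    obtain ⟨a1, ha1, b1, hb1, rfl⟩ := hdec p hp hQp
    exact Submodule.add_mem_sup ha1 hb1
  have hinf : X ⊓ Y = ⊥ := by
    rw [eq_bot_iff]
    rintro x ⟨hx, hy⟩
    rw [Submodule.mem_bot]
    exact hdisj x hx hy
  have hsupW : X ⊔ Y = W := le_antisymm (sup_le hXW hYW) hWle
  have hsum : finrank F X + finrank F Y = 4 := by
    have h3 := Submodule.finrank_sup_add_finrank_inf_eq X Y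
    rw [hinf, finrank_bot, add_zero, hsupW, hfr] at h3
    exact h3.symm
  have hX2 : finrank F X ≤ 2 := by
    by_contra hcon
    obtain ⟨e, heX, he0, hQe⟩ := exists_singular_in Q X (by omega)
    exact he0 (hXa e heX hQe)
  have hY2 : finrank F Y ≤ 2 := by
    by_contra hcon
    obtain ⟨e, heY, he0, hQe⟩ := exists_singular_in Q Y (by omega)
    exact he0 (hYa e heY hQe)
  have hXnd : NdOn Q X := by
    intro x hx hall
    apply hW x (hXW hx)
    intro w hw
    have hw' : w ∈ X ⊔ Y := hWle hw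
    obtain ⟨x', hx', y', hy', rfl⟩ := Submodule.mem_sup.1 hw'
    rw [polar_add_right, hall x' hx', hXY x hx y' hy', add_zero]
  have hYnd : NdOn Q Y := by
    intro y hy hall
    apply hW y (hYW hy)
    intro w hw
    have hw' : w ∈ X ⊔ Y := hWle hw
    obtain ⟨x', hx', y', hy', rfl⟩ := Submodule.mem_sup.1 hw'
    rw [polar_add_right, hall y' hy', polar_comm, hXY x' hx' y hy, add_zero]
  have hXne : X ≠ ⊥ := by
    intro h
    rw [h, finrank_bot] at hsum
    omega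
  have hYne : Y ≠ ⊥ := by
    intro h
    rw [h, finrank_bot] at hsum
    omega
  obtain ⟨x1, hx1, hx10⟩ := (Submodule.ne_bot_iff X).1 hXne
  obtain ⟨y1, hy1, hy10⟩ := (Submodule.ne_bot_iff Y).1 hYne
  obtain ⟨x2, hx2, hx12⟩ : ∃ x2 ∈ X, polar Q x1 x2 ≠ 0 := by
    by_contra hcon
    push Not at hcon
    exact hx10 (hXnd x1 hx1 hcon)
  obtain ⟨y2, hy2, hy12⟩ : ∃ y2 ∈ Y, polar Q y1 y2 ≠ 0 := by
    by_contra hcon
    push Not at hcon
    exact hy10 (hYnd y1 hy1 hcon)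
  have hx20 : x2 ≠ 0 := by
    rintro rfl
    simp at hx12
  have hy20 : y2 ≠ 0 := by
    rintro rfl
    simp at hy12
  have eQx1 : Q x1 = 1 := hone _ (fun h => hx10 (hXa x1 hx1 h))
  have eQx2 : Q x2 = 1 := hone _ (fun h => hx20 (hXa x2 hx2 h))
  have eQy1 : Q y1 = 1 := hone _ (fun h => hy10 (hYa y1 hy1 h))
  have eQy2 : Q y2 = 1 := hone _ (fun h => hy20 (hYa y2 hy2 h))
  have ex12 : polar Q x1 x2 = 1 := hone _ hx12
  have ey12 : polar Q y1 y2 = 1 := hone _ hy12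
  have e11 : (1 : F) + 1 = 0 := by
    have e : (1 : F) + 1 = 2 := by norm_num
    rw [e, h2]
  have hQv1 : Q (x1 + y1) = 0 := by
    rw [Cfsg.Agent.Lib.Helper25.MaxTS.Q_add, eQx1, eQy1, hXY x1 hx1 y1 hy1, add_zero, e11]
  have hQv2 : Q (x2 + y2) = 0 := by
    rw [Cfsg.Agent.Lib.Helper25.MaxTS.Q_add, eQx2, eQy2, hXY x2 hx2 y2 hy2, add_zero, e11]
  have hpol : polar Q (x1 + y1) (x2 + y2) = 0 := by
    rw [polar_add_left, polar_add_right, polar_add_right, ex12, ey12, hXY x1 hx1 y2 hy2,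
      polar_comm Q y1 x2, hXY x2 hx2 y1 hy1, add_zero, zero_add, e11]
  have hli : LinearIndependent F ![x1 + y1, x2 + y2] := by
    rw [LinearIndependent.pair_iff]
    intro s t hst
    have hz : s • x1 + t • x2 = 0 := by
      apply hdisj _ (X.add_mem (X.smul_mem _ hx1) (X.smul_mem _ hx2))
      have e : s • x1 + t • x2 = -(s • y1 + t • y2) := by
        rw [eq_neg_iff_add_eq_zero]
        rw [← hst]
        module
      rw [e]
      exact Y.neg_mem (Y.add_mem (Y.smul_mem _ hy1) (Y.smul_mem _ hy2))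
    have hs : s = 0 := by
      have h5 : polar Q (s • x1 + t • x2) x2 = 0 := by rw [hz]; simp
      rw [polar_add_left, polar_smul_left, polar_smul_left, ex12, polar_self, eQx2] at h5
      simp only [smul_eq_mul, mul_one] at h5
      rw [nsmul_eq_mul] at h5
      have e2 : ((2 : ℕ) : F) = 0 := by exact_mod_cast h2
      rw [e2, zero_mul, mul_zero, add_zero] at h5
      exact h5
    have ht : t = 0 := by
      have h5 : polar Q x1 (s • x1 + t • x2) = 0 := by rw [hz]; simp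
      rw [hs, zero_smul, zero_add, polar_smul_right, ex12] at h5
      simpa using h5
    exact ⟨hs, ht⟩
  refine ⟨Submodule.span F (Set.range ![x1 + y1, x2 + y2]), ?_, ?_, ?_⟩
  · rw [Submodule.span_le]
    rintro _ ⟨i, rfl⟩
    fin_cases i
    · exact W.add_mem (hXW hx1) (hYW hy1)
    · exact W.add_mem (hXW hx2) (hYW hy2)
  · intro w hw
    have hw' : w ∈ Submodule.span F {x1 + y1, x2 + y2} := by
      have e : Set.range ![x1 + y1, x2 + y2] = {x1 + y1, x2 + y2} := by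
        rw [Matrix.range_cons, Matrix.range_cons, Matrix.range_empty]
        simp [Set.pair_comm]
      rw [e] at hw
      exact hw
    obtain ⟨s, t, rfl⟩ := Submodule.mem_span_pair.1 hw'
    show Q (s • (x1 + y1) + t • (x2 + y2)) = 0
    rw [Cfsg.Agent.Lib.Helper25.MaxTS.Q_add, QuadraticMap.map_smul, QuadraticMap.map_smul, hQv1,
      hQv2, polar_smul_left, polar_smul_right, hpol]
    simp
  · rw [finrank_span_eq_card hli, hfr]
    simp

section setup

variable {M : Subgroup ↥(Cfsg.isometryGroup F ⇑Q)} {W W' : Submodule F (ι → F)}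

theorem plus_of_mixed (hS : NS44 Q M W W') (hfr : finrank F W = 4)
    {g : ↥(Cfsg.isometryGroup F ⇑Q)}
    (hX : ∀ p ∈ W, p ≠ 0 → Q p = 0 → toOG Q g p ∉ W)
    (hY : ∀ p ∈ W, p ≠ 0 → Q p = 0 → toOG Q g p ∉ W')
    (hmix : ∀ p ∈ W, p ≠ 0 → Q p = 0 → Mixed Q W W' g p) : Cfsg.Geo.IsPlusTypeOn ⇑Q W := by
  obtain ⟨p0, hp0W, hp00, hQp0⟩ := exists_singular_in Q W (by omega)
  have hF2 := (hmix p0 hp0W hp00 hQp0).1
  obtain ⟨X, hXdef⟩ : ∃ X : Submodule F (ι → F), X =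
      W ⊓ W.comap ((toOG Q g : (ι → F) ≃ₗ[F] (ι → F)) : (ι → F) →ₗ[F] (ι → F)) := ⟨_, rfl⟩
  obtain ⟨Y, hYdef⟩ : ∃ Y : Submodule F (ι → F), Y =
      W ⊓ W'.comap ((toOG Q g : (ι → F) ≃ₗ[F] (ι → F)) : (ι → F) →ₗ[F] (ι → F)) := ⟨_, rfl⟩
  have hXmem : ∀ x, x ∈ X ↔ x ∈ W ∧ toOG Q g x ∈ W := by
    intro x
    rw [hXdef]
    exact Iff.rfl
  have hYmem : ∀ x, x ∈ Y ↔ x ∈ W ∧ toOG Q g x ∈ W' := by
    intro x
    rw [hYdef]
    exact Iff.rfl
  refine plus_of_aniso hF2 hS.ndW hfr X Y (fun x hx => ((hXmem x).1 hx).1)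
    (fun x hx => ((hYmem x).1 hx).1) ?_ ?_ ?_ ?_ ?_
  · intro x hx y hy
    rw [← polar_toOG Q g x y]
    exact hS.orth _ ((hXmem x).1 hx).2 _ ((hYmem y).1 hy).2
  · intro x hx hy
    have h1 : toOG Q g x ∈ W ⊓ W' := ⟨((hXmem x).1 hx).2, ((hYmem x).1 hy).2⟩
    rw [hS.disj, Submodule.mem_bot] at h1
    exact (toOG Q g).injective (by rw [h1, map_zero])
  · intro x hx hQx
    by_contra hx0
    exact hX x ((hXmem x).1 hx).1 hx0 hQx ((hXmem x).1 hx).2
  · intro y hy hQy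
    by_contra hy0
    exact hY y ((hYmem y).1 hy).1 hy0 hQy ((hYmem y).1 hy).2
  · intro p hp hQp
    by_cases hp0 : p = 0
    · exact ⟨0, X.zero_mem, 0, Y.zero_mem, by rw [hp0, add_zero]⟩
    · obtain ⟨-, a1, b1, ha1, hb1, hpab, hga1, hgb1, -, -⟩ := hmix p hp hp0 hQp
      exact ⟨a1, (hXmem a1).2 ⟨ha1, hga1⟩, b1, (hYmem b1).2 ⟨hb1, hgb1⟩, hpab⟩

end setup

end Cfsg.Agent.Lib.Helper29.ND44Leaf
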