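import Cfsg.Agent.Lib.Helper29.ND44Trick
import Cfsg.Agent.Lib.Helper29.ND44Mixed
import Cfsg.Agent.Lib.Helper29.ND44Plus
import Cfsg.Agent.Lib.Helper12.ND44G12
import Cfsg.Agent.Lib.Helper1.ND44B1
import Cfsg.Agent.Lib.Helper1.ND44B23
import Cfsg.Agent.Lib.Helper1.ND44B4
import Cfsg.Agent.Lib.Helper5.NDMinus

/-!
helper29, ND44 = S5825 conjunct (5): the stabiliser of a nondegenerate 4-space `W` of the 8-dimensional
minus-type orthogonal space is maximal in `Ω₈⁻(q)`, ALL `q`.  Assembly: `tri` (B5), `stab_of_one` (B7),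
`swap_of_one` (B7'), `le_stab`, `isMaximalIn_nd44` (C1), `plus_top_of_plus_plus` (C3), `nd44_max` (TOP).
Leaves: helper1 (B0-B4), helper12 (G1-G4), helper29 (A0-A6, B6, B8, G5).  Paper proof: notes/ND44_plan.md.
-/

set_option autoImplicit false
set_option linter.unusedSectionVars false
set_option linter.unusedVariables false
set_option linter.unusedSimpArgs false

namespace Cfsg.Agent.Lib.Helper29.ND44Main

open Module QuadraticMap Matrix Cfsg.Agent.Lib.Helper25.CD Cfsg.Agent.Lib.Helper25.Spin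
  Cfsg.Agent.Lib.Helper25.Fam Cfsg.Agent.Lib.Helper25.Siegel
  Cfsg.Agent.Lib.Helper25.PS Cfsg.Agent.Lib.Helper25.OGeom Cfsg.Agent.Lib.Helper15
  Cfsg.Agent.Lib.Helper5.TSMax Cfsg.Agent.Lib.Helper5.NSMax Cfsg.Agent.Lib.Helper5.PairMax
  Cfsg.Agent.Lib.Helper5.NDMax Cfsg.Agent.Lib.Helper10.NDMax4 Cfsg.Agent.Lib.Helper29.ND44
  Cfsg.Agent.Lib.Helper29.ND44Leaf

variable {ι : Type} [Fintype ι] [DecidableEq ι] {F : Type*} [Field F] [Fintype F]
  {Q : QuadraticForm F (ι → F)}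

section setup

variable {M : Subgroup ↥(Cfsg.isometryGroup F ⇑Q)} {W W' : Submodule F (ι → F)}

theorem toOG_inv_apply (g : ↥(Cfsg.isometryGroup F ⇑Q)) (y : ι → F) :
    toOG Q g (toOG Q g⁻¹ y) = y := toOG_mul_inv_apply g y

theorem tri (hS : NS44 Q M W W') (hne : M ≠ Cfsg.Omega F ⇑Q)
    {g : ↥(Cfsg.isometryGroup F ⇑Q)} (hg : g ∈ M) {p : ι → F} (hp : p ∈ W) (hp0 : p ≠ 0)
    (hQp : Q p = 0) : toOG Q g p ∈ W ∨ toOG Q g p ∈ W' ∨ Mixed Q W W' g p := by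
  obtain ⟨a, ha, b, hb, hab⟩ := hS.dec (toOG Q g p)
  by_cases hb0 : b = 0
  · left
    rw [hab, hb0, add_zero]
    exact ha
  by_cases ha0 : a = 0
  · right; left
    rw [hab, ha0, zero_add]
    exact hb
  right; right
  by_cases hQa : Q a = 0
  · exact (Cfsg.Agent.Lib.Helper1.ND44Leaf.case_sing hS hne hg hp hp0 hQp ha hb hab ha0 hb0 hQa).elim
  by_cases hq : (2 : F) ≠ 0 ∨ 4 ≤ Fintype.card F
  · exact (Cfsg.Agent.Lib.Helper1.ND44Leaf.case_ns hS hne hq hg hp hp0 hQp ha hb hab hQa).elim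
  push Not at hq
  obtain ⟨h2, h4⟩ := hq
  have hF2 : Fintype.card F = 2 := by
    have h1 : 1 < Fintype.card F := Fintype.one_lt_card
    rcases (by omega : Fintype.card F = 2 ∨ Fintype.card F = 3) with h | h
    · exact h
    · exfalso
      -- a field with three elements has 2 ≠ 0
      have hc : (Fintype.card F : F) = 0 := Nat.cast_card_eq_zero F
      rw [h] at hc
      have h3 : (3 : F) = 0 := by exact_mod_cast hc
      have : (1 : F) = 0 := by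
        have e : (3 : F) = 2 + 1 := by norm_num
        rw [e, h2, zero_add] at h3
        exact h3
      exact one_ne_zero this
  obtain ⟨h1, h2'⟩ := Cfsg.Agent.Lib.Helper1.ND44Leaf.case_two hS hne hF2 hg hp hp0 hQp ha hb hab hQa
  have hQab : Q (a + b) = 0 := by rw [← hab, Q_toOG, hQp]
  have hQb : Q b ≠ 0 := by
    intro hQb
    rw [Cfsg.Agent.Lib.Helper25.MaxTS.Q_add, hQb, hS.orth a ha b hb, add_zero, add_zero] at hQab
    exact hQa hQab
  refine ⟨hF2, toOG Q g⁻¹ a, toOG Q g⁻¹ b, h1, h2', ?_, ?_, ?_, ?_, ?_⟩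
  · apply (toOG Q g).injective
    rw [map_add, toOG_inv_apply, toOG_inv_apply, hab]
  · rw [toOG_inv_apply]; exact ha
  · rw [toOG_inv_apply]; exact hb
  · rw [Q_toOG]; exact hQa
  · rw [Q_toOG]; exact hQb

theorem stab_of_one (hS : NS44 Q M W W') (hne : M ≠ Cfsg.Omega F ⇑Q)
    {g : ↥(Cfsg.isometryGroup F ⇑Q)} (hg : g ∈ M) {p : ι → F} (hp : p ∈ W) (hp0 : p ≠ 0)
    (hQp : Q p = 0) (hgp : toOG Q g p ∈ W) : ∀ x ∈ W, toOG Q g x ∈ W := by
  obtain ⟨f, hfW, hQf, hpf⟩ := exists_hyp_partner Q W hS.ndW hp hp0 hQp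
  have hf0 : f ≠ 0 := by
    rintro rfl
    simp at hpf
  have hgf : toOG Q g f ∈ W := by
    rcases tri hS hne hg hfW hf0 hQf with h | h | h
    · exact h
    · exfalso
      have h1 := polar_toOG Q g p f
      rw [hS.orth _ hgp _ h, hpf] at h1
      exact zero_ne_one h1
    · exfalso
      obtain ⟨-, a1, b1, ha1, hb1, hfab, hga1, hgb1, hQa1, hQb1⟩ := h
      obtain ⟨s, hs⟩ := Cfsg.Agent.Lib.Helper12.ND44Leaf.perp_perp hS.ndW hp hb1
        (fun x hx hpx => by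
          have h1 := rigid hS hne hg hp hp0 hQp hgp hx hpx
          have h2 := polar_toOG Q g b1 x
          rw [polar_comm, hS.orth _ h1 _ hgb1] at h2
          exact h2.symm)
      rw [hs, QuadraticMap.map_smul, hQp, smul_zero] at hQb1
      exact hQb1 rfl
  intro x hx
  have e : x = (x - polar Q p x • f) + polar Q p x • f := by abel
  rw [e, map_add, map_smul]
  refine W.add_mem (rigid hS hne hg hp hp0 hQp hgp (W.sub_mem hx (W.smul_mem _ hfW)) ?_)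
    (W.smul_mem _ hgf)
  rw [polar_sub_right, polar_smul_right, hpf]
  simp

theorem swap_of_one (hS : NS44 Q M W W') (hne : M ≠ Cfsg.Omega F ⇑Q)
    {g : ↥(Cfsg.isometryGroup F ⇑Q)} (hg : g ∈ M) {p : ι → F} (hp : p ∈ W) (hp0 : p ≠ 0)
    (hQp : Q p = 0) (hgp : toOG Q g p ∈ W') : ∀ x ∈ W, toOG Q g x ∈ W' := by
  obtain ⟨f, hfW, hQf, hpf⟩ := exists_hyp_partner Q W hS.ndW hp hp0 hQp
  have hf0 : f ≠ 0 := by
    rintro rfl
    simp at hpf
  have hgf : toOG Q g f ∈ W' := by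
    rcases tri hS hne hg hfW hf0 hQf with h | h | h
    · exfalso
      have h1 := polar_toOG Q g p f
      rw [polar_comm, hS.orth _ h _ hgp, hpf] at h1
      exact zero_ne_one h1
    · exact h
    · exfalso
      obtain ⟨-, a1, b1, ha1, hb1, hfab, hga1, hgb1, hQa1, hQb1⟩ := h
      obtain ⟨s, hs⟩ := Cfsg.Agent.Lib.Helper12.ND44Leaf.perp_perp hS.ndW hp ha1
        (fun x hx hpx => by
          have h1 := rigid' hS hne hg hp hp0 hQp hgp hx hpx
          have h2 := polar_toOG Q g a1 x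
          rw [hS.orth _ hga1 _ h1] at h2
          exact h2.symm)
      rw [hs, QuadraticMap.map_smul, hQp, smul_zero] at hQa1
      exact hQa1 rfl
  intro x hx
  have e : x = (x - polar Q p x • f) + polar Q p x • f := by abel
  rw [e, map_add, map_smul]
  refine W'.add_mem (rigid' hS hne hg hp hp0 hQp hgp (W.sub_mem hx (W.smul_mem _ hfW)) ?_)
    (W'.smul_mem _ hgf)
  rw [polar_sub_right, polar_smul_right, hpf]
  simp

/-- ASSEMBLY: `M ≠ Ω` stabilises `W`. -/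
theorem le_stab (hS : NS44 Q M W W') (hne : M ≠ Cfsg.Omega F ⇑Q) (hfr : finrank F W = 4)
    (hnp : ¬ Cfsg.Geo.IsPlusTypeOn ⇑Q W)
    (hns : ∀ g ∈ Cfsg.Omega F ⇑Q, ¬ ∀ x ∈ W, toOG Q g x ∈ W')
    {g : ↥(Cfsg.isometryGroup F ⇑Q)} (hg : g ∈ M) : ∀ x ∈ W, toOG Q g x ∈ W := by
  by_contra hnot
  have hX : ∀ p ∈ W, p ≠ 0 → Q p = 0 → toOG Q g p ∉ W := fun p hp hp0 hQp hgp =>
    hnot (stab_of_one hS hne hg hp hp0 hQp hgp)
  have hY : ∀ p ∈ W, p ≠ 0 → Q p = 0 → toOG Q g p ∉ W' := fun p hp hp0 hQp hgp =>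
    hns g (hS.le hg) (swap_of_one hS hne hg hp hp0 hQp hgp)
  refine hnp (plus_of_mixed hS hfr hX hY (fun p hp hp0 hQp => ?_))
  rcases tri hS hne hg hp hp0 hQp with h | h | h
  · exact absurd h (hX p hp hp0 hQp)
  · exact absurd h (hY p hp hp0 hQp)
  · exact h

end setup

theorem isMaximalIn_nd44 (Q : QuadraticForm F (ι → F)) (hQ : (polarBilin Q).Nondegenerate)
    (hcard : 7 ≤ Fintype.card ι) {W W' : Submodule F (ι → F)}
    (horth : ∀ x ∈ W, ∀ y ∈ W', polar Q x y = 0) (hdisj : W ⊓ W' = ⊥) (hsup : W ⊔ W' = ⊤)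
    (hfr : finrank F W = 4) (hfr' : finrank F W' = 4) (hnp : ¬ Cfsg.Geo.IsPlusTypeOn ⇑Q W)
    (hns : ∀ g ∈ Cfsg.Omega F ⇑Q, ¬ ∀ x ∈ W, toOG Q g x ∈ W') :
    Cfsg.Geo.IsMaximalIn (Cfsg.Geo.omegaGL ⇑Q)
      (Cfsg.Geo.subspaceStabilizer W ⊓ Cfsg.Geo.omegaGL ⇑Q) := by
  have e1 : Cfsg.Geo.subspaceStabilizer W ⊓ Cfsg.Geo.omegaGL ⇑Q =
      (stabSub Q W ⊓ Cfsg.Omega F ⇑Q).map (Cfsg.isometryGroup F ⇑Q).subtype := by
    ext x
    constructor
    · rintro ⟨hx1, g, hg, rfl⟩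
      exact ⟨g, ⟨hx1, hg⟩, rfl⟩
    · rintro ⟨g, ⟨hg1, hg2⟩, rfl⟩
      exact ⟨hg1, g, hg2, rfl⟩
  rw [e1]
  have hW'0 : W' ≠ ⊥ := by
    intro h
    rw [h, finrank_bot] at hfr'
    omega
  have hlt : stabSub Q W ⊓ Cfsg.Omega F ⇑Q < Cfsg.Omega F ⇑Q := by
    refine lt_of_le_of_ne inf_le_right (fun heq => ?_)
    have hS0 : NS44 Q (Cfsg.Omega F ⇑Q) W W' :=
      ⟨hQ, hcard, horth, hdisj, hsup, by omega, by omega, fun g hg _ => hg, le_rfl⟩
    obtain ⟨u, huW, hu0, hQu⟩ := exists_singular_in Q W (by omega)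
    obtain ⟨f, hfW, hQf, huf⟩ := exists_hyp_partner Q W hS0.ndW huW hu0 hQu
    obtain ⟨y, hyW', hy0⟩ := (Submodule.ne_bot_iff W').1 hW'0
    obtain ⟨g, hgΩ, hg⟩ := exists_egen Q hQ hcard hu0 hQu (y := y) (horth u huW y hyW')
    have hgS : g ∈ stabSub Q W := by
      have h5 : g ∈ stabSub Q W ⊓ Cfsg.Omega F ⇑Q := by
        rw [heq]
        exact hgΩ
      exact h5.1
    have h1 : toOG Q g f ∈ W := by
      have h5 := (mem_stabSub Q).1 hgS
      rw [← h5]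
      exact Submodule.mem_map_of_mem hfW
    rw [hg] at h1
    unfold egen at h1
    rw [huf, polar_comm Q y f, horth f hfW y hyW'] at h1
    have h2 : y ∈ W := by
      have e : y = (f + (1 : F) • y - (0 : F) • u - (Q y * 1) • u) - f + Q y • u := by module
      rw [e]
      exact W.add_mem (W.sub_mem h1 hfW) (W.smul_mem _ huW)
    have h3 : y ∈ W ⊓ W' := ⟨h2, hyW'⟩
    rw [hdisj, Submodule.mem_bot] at h3
    exact hy0 h3
  refine isMaximalIn_map _ (Subgroup.subtype_injective _) hlt (fun M h1 h2 => ?_)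
  by_cases hM : M = Cfsg.Omega F ⇑Q
  · exact Or.inr hM
  · left
    have hS : NS44 Q M W W' :=
      ⟨hQ, hcard, horth, hdisj, hsup, by omega, by omega,
        fun g hg hx => h1 ⟨mem_stabSub_of_le Q hx, hg⟩, h2⟩
    apply le_antisymm _ h1
    intro g hg
    exact ⟨mem_stabSub_of_le Q (le_stab hS hM hfr hnp hns hg), h2 hg⟩

theorem plus_top_of_plus_plus (Q : QuadraticForm F (ι → F)) {W W' : Submodule F (ι → F)}
    (hdisj : W ⊓ W' = ⊥) (horth : ∀ x ∈ W, ∀ y ∈ W', polar Q x y = 0)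
    (hfr : finrank F W + finrank F W' = Fintype.card ι)
    (h1 : Cfsg.Geo.IsPlusTypeOn ⇑Q W) (h2 : Cfsg.Geo.IsPlusTypeOn ⇑Q W') :
    Cfsg.Geo.IsPlusTypeOn ⇑Q ⊤ := by
  obtain ⟨U1, hU1W, hU1, hf1⟩ := h1
  obtain ⟨U2, hU2W, hU2, hf2⟩ := h2
  refine ⟨U1 ⊔ U2, le_top, ?_, ?_⟩
  · intro w hw
    obtain ⟨u1, hu1, u2, hu2, rfl⟩ := Submodule.mem_sup.1 hw
    have e : Q (u1 + u2) = Q u1 + Q u2 + polar Q u1 u2 :=
      Cfsg.Agent.Lib.Helper25.MaxTS.Q_add u1 u2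
    show Q (u1 + u2) = 0
    rw [e, hU1 u1 hu1, hU2 u2 hu2, horth u1 (hU1W hu1) u2 (hU2W hu2)]
    simp
  · have hinf : U1 ⊓ U2 = ⊥ := by
      rw [eq_bot_iff]
      exact le_trans (inf_le_inf hU1W hU2W) (le_of_eq hdisj)
    have h3 := Submodule.finrank_sup_add_finrank_inf_eq U1 U2
    rw [hinf, finrank_bot, add_zero] at h3
    rw [finrank_top, Module.finrank_fintype_fun_eq_card]
    omega

theorem nd44_max (Q : QuadraticForm F (ι → F)) (hQ : (polarBilin Q).Nondegenerate)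
    (hcard : Fintype.card ι = 8) (hminus : ¬ Cfsg.Geo.IsPlusTypeOn ⇑Q ⊤)
    {W : Submodule F (ι → F)} (hdim : Module.finrank F W = 4)
    (hW : Cfsg.Geo.IsNondegenerateOn (QuadraticMap.polar ⇑Q) W) :
    Cfsg.Geo.IsMaximalIn (Cfsg.Geo.omegaGL ⇑Q)
      (Cfsg.Geo.subspaceStabilizer W ⊓ Cfsg.Geo.omegaGL ⇑Q) := by
  have hWnd := ndOn_of_isNondegenerateOn Q hW
  have hW'nd := ndOn_perp Q hQ hWnd
  have hfr' : finrank F (Cfsg.Agent.Lib.Helper25.MaxTS.perp Q W) = 4 := by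
    rw [Cfsg.Agent.Lib.Helper25.MaxTS.finrank_perp hQ W, Module.finrank_fintype_fun_eq_card, hcard,
      hdim]
  have horth := perp_orth Q W
  have hdisj := perp_disj Q hWnd
  have hsup := perp_sup Q hQ hWnd
  by_cases hp : Cfsg.Geo.IsPlusTypeOn ⇑Q W
  · have hp' : ¬ Cfsg.Geo.IsPlusTypeOn ⇑Q (Cfsg.Agent.Lib.Helper25.MaxTS.perp Q W) := fun h =>
      hminus (plus_top_of_plus_plus Q hdisj horth (by omega) hp h)
    rw [← stab_perp_inf_eq Q hQ W]
    refine isMaximalIn_nd44 Q hQ (by omega) (fun x hx y hy => ?_) ?_ ?_ hfr' hdim hp' ?_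
    · rw [polar_comm]
      exact horth y hy x hx
    · rw [inf_comm]
      exact hdisj
    · rw [sup_comm]
      exact hsup
    · intro g _ hg
      refine hminus (plus_of_map_perp Q hW'nd (m := 2) (by omega) (by omega) g (fun x hx => ?_))
      rw [Cfsg.Agent.Lib.Helper25.MaxTS.perp_perp hQ]
      exact hg x hx
  · refine isMaximalIn_nd44 Q hQ (by omega) horth hdisj hsup hdim hfr' hp ?_
    intro g _ hg
    exact hminus (plus_of_map_perp Q hWnd (m := 2) (by omega) (by omega) g hg)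

end Cfsg.Agent.Lib.Helper29.ND44Main
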