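import Mathlib
import Cfsg.Prelude.Def_LocalStructure
import Cfsg.Agent.Lib.Helper13.PSL2

/-!
# Groups of least order with a non-normal Sylow `p`-subgroup (helper29; S3875), the two examples:
the Frobenius group `F_m ⋊ μ_p` of order `p m` and `PSL₂(p)` of order `p (p² - 1) / 2`
-/

set_option autoImplicit false

namespace Cfsg.Agent.Lib.Helper29.NPC

open Subgroup

/-- the group of the maps `x ↦ a x + b`, `a ∈ μ` -/
@[ext] structure Af {E : Type*} [Field E] (μ : Subgroup Eˣ) where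
  a : ↥μ
  b : E

namespace Af

variable {E : Type*} [Field E] {μ : Subgroup Eˣ}

instance : Mul (Af μ) := ⟨fun g h => ⟨g.a * h.a, g.b + ((g.a : Eˣ) : E) * h.b⟩⟩
instance : One (Af μ) := ⟨⟨1, 0⟩⟩
instance : Inv (Af μ) := ⟨fun g => ⟨g.a⁻¹, -((((g.a)⁻¹ : ↥μ) : Eˣ) : E) * g.b⟩⟩

@[simp] theorem mul_a (g h : Af μ) : (g * h).a = g.a * h.a := rfl
@[simp] theorem mul_b (g h : Af μ) : (g * h).b = g.b + ((g.a : Eˣ) : E) * h.b := rfl
@[simp] theorem one_a : (1 : Af μ).a = 1 := rfl
@[simp] theorem one_b : (1 : Af μ).b = 0 := rfl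
@[simp] theorem inv_a (g : Af μ) : (g⁻¹).a = g.a⁻¹ := rfl
@[simp] theorem inv_b (g : Af μ) : (g⁻¹).b = -((((g.a)⁻¹ : ↥μ) : Eˣ) : E) * g.b := rfl

instance : Group (Af μ) where
  mul_assoc g h k := by
    ext <;> simp [mul_assoc, mul_add, add_assoc]
  one_mul g := by ext <;> simp
  mul_one g := by ext <;> simp
  inv_mul_cancel g := by
    ext <;> simp

/-- the underlying set -/
def equivProd : Af μ ≃ ↥μ × E where
  toFun g := (g.a, g.b)
  invFun x := ⟨x.1, x.2⟩
  left_inv _ := rfl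
  right_inv _ := rfl

/-- the linear maps `x ↦ a x` -/
def lin : ↥μ →* Af μ where
  toFun a := ⟨a, 0⟩
  map_one' := rfl
  map_mul' _ _ := by ext <;> simp

theorem lin_injective : Function.Injective (lin : ↥μ →* Af μ) := fun _ _ h => congrArg Af.a h

end Af

/-- the Frobenius group of order `p m` -/
theorem exists_frobenius (p : ℕ) [Fact p.Prime] (m : ℕ) (hm : IsPrimePow m) (hm1 : m % p = 1) :
    ∃ (H : Type) (_ : Group H) (_ : Finite H), Nat.card H = p * m ∧ ¬ Cfsg.IsPClosed p H := by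
  classical
  have hprime : p.Prime := Fact.out
  obtain ⟨r, k, hr, hk, hrk⟩ := (isPrimePow_nat_iff m).mp hm
  have : Fact r.Prime := ⟨hr⟩
  have hcE : Nat.card (GaloisField r k) = m := by rw [GaloisField.card r k hk.ne', hrk]
  have : Finite (GaloisField r k) := Nat.finite_of_card_ne_zero (by rw [hcE]; exact hm.pos.ne')
  have hcU : Nat.card (GaloisField r k)ˣ = m - 1 := by rw [Nat.card_units, hcE]
  have hpd : p ∣ Nat.card (GaloisField r k)ˣ := by
    rw [hcU]
    apply Nat.dvd_of_mod_eq_zero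
    apply Nat.sub_mod_eq_zero_of_mod_eq
    rw [hm1, Nat.one_mod_eq_one.mpr hprime.one_lt.ne']
  obtain ⟨ζ, hζ⟩ := exists_prime_orderOf_dvd_card' p hpd
  have hcμ : Nat.card ↥(zpowers ζ) = p := by rw [Nat.card_zpowers, hζ]
  have : Finite (Af (zpowers ζ)) := Finite.of_equiv _ Af.equivProd.symm
  have hcard : Nat.card (Af (zpowers ζ)) = p * m := by
    rw [Nat.card_congr Af.equivProd, Nat.card_prod, hcμ, hcE]
  refine ⟨Af (zpowers ζ), inferInstance, inferInstance, hcard, ?_⟩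
  -- the Sylow subgroup of the linear maps
  have hcK : Nat.card ↥(Af.lin (μ := zpowers ζ)).range = p := by
    rw [← hcμ]
    exact Nat.card_congr (MonoidHom.ofInjective Af.lin_injective).toEquiv.symm
  have hKp : IsPGroup p ↥(Af.lin (μ := zpowers ζ)).range := IsPGroup.of_card (n := 1) (by rw [hcK, pow_one])
  have hpm : ¬ p ∣ m := by
    intro h
    have := Nat.mod_eq_zero_of_dvd h
    omega
  have hidx : ¬ p ∣ (Af.lin (μ := zpowers ζ)).range.index := by
    have h1 := Subgroup.card_mul_index (Af.lin (μ := zpowers ζ)).range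
    rw [hcK, hcard] at h1
    have h2 := Nat.eq_of_mul_eq_mul_left hprime.pos h1
    rw [h2]
    exact hpm
  intro hcl
  have hn : ((hKp.toSylow hidx : Sylow p (Af (zpowers ζ))) : Subgroup (Af (zpowers ζ))).Normal := hcl _
  have hζm : ζ ∈ zpowers ζ := mem_zpowers ζ
  have hmem : (⟨⟨ζ, hζm⟩, 0⟩ : Af (zpowers ζ)) ∈
      ((hKp.toSylow hidx : Sylow p (Af (zpowers ζ))) : Subgroup (Af (zpowers ζ))) :=
    ⟨⟨ζ, hζm⟩, rfl⟩
  have hconj := hn.conj_mem _ hmem ⟨1, 1⟩
  obtain ⟨c, hc⟩ := hconj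
  have hb := congrArg Af.b hc
  simp only [Af.lin, MonoidHom.coe_mk, OneHom.coe_mk, Af.mul_b, Af.mul_a, Af.inv_b, inv_one,
    OneMemClass.coe_one, Units.val_one, one_mul, mul_zero, add_zero, mul_neg, mul_one] at hb
  have h1 : ((ζ : (GaloisField r k)ˣ) : GaloisField r k) = 1 := by
    have h0 : (1 : GaloisField r k) - (ζ : GaloisField r k) = 0 := by
      rw [sub_eq_add_neg]
      exact hb.symm
    exact (sub_eq_zero.mp h0).symm
  have h2 : ζ = 1 := Units.ext h1
  rw [h2, orderOf_one] at hζ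
  exact hprime.one_lt.ne' hζ.symm

/-- `PSL₂(p)` is not `p`-closed for `p ≥ 5` -/
theorem exists_psl (p : ℕ) [Fact p.Prime] (hp5 : 5 ≤ p) :
    ∃ (H : Type) (_ : Group H) (_ : Finite H), Nat.card H = p * (p ^ 2 - 1) / 2 ∧ ¬ Cfsg.IsPClosed p H := by
  classical
  have hprime : p.Prime := Fact.out
  have hodd : Odd p := hprime.odd_of_ne_two (by omega)
  have hcF : Fintype.card (ZMod p) = p := ZMod.card p
  have h2F : (2 : ZMod p) ≠ 0 := by
    intro h2
    obtain ⟨k, hk⟩ := hodd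
    have h0 : ((2 * k + 1 : ℕ) : ZMod p) = 0 := by
      rw [← hk]
      exact ZMod.natCast_self p
    push_cast at h0
    rw [h2, zero_mul, zero_add] at h0
    exact one_ne_zero h0
  have h1 := Cfsg.Agent.Lib.Helper13.card_PSL2_mul_two h2F
  rw [hcF] at h1
  have hcard : Nat.card (Matrix.ProjectiveSpecialLinearGroup (Fin 2) (ZMod p)) = p * (p ^ 2 - 1) / 2 := by
    rw [← h1, Nat.mul_div_cancel _ (by norm_num : 0 < 2)]
  have hsimple : IsSimpleGroup (Matrix.ProjectiveSpecialLinearGroup (Fin 2) (ZMod p)) :=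
    Matrix.ProjectiveSpecialLinearGroup.rank_two_simple (by rw [Nat.card_eq_fintype_card, hcF]; omega)
  refine ⟨Matrix.ProjectiveSpecialLinearGroup (Fin 2) (ZMod p), inferInstance, inferInstance, hcard, ?_⟩
  intro hcl
  obtain ⟨P⟩ : Nonempty (Sylow p (Matrix.ProjectiveSpecialLinearGroup (Fin 2) (ZMod p))) := inferInstance
  have hn : (P : Subgroup (Matrix.ProjectiveSpecialLinearGroup (Fin 2) (ZMod p))).Normal := hcl P
  have hpd : p ∣ Nat.card (Matrix.ProjectiveSpecialLinearGroup (Fin 2) (ZMod p)) := by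
    have h3 : p ∣ Nat.card (Matrix.ProjectiveSpecialLinearGroup (Fin 2) (ZMod p)) * 2 := h1 ▸ dvd_mul_right _ _
    rcases (Nat.Prime.dvd_mul hprime).mp h3 with h | h
    · exact h
    · have := Nat.le_of_dvd (by norm_num) h
      omega
  rcases hsimple.eq_bot_or_eq_top_of_normal _ hn with h | h
  · exact P.ne_bot_of_dvd_card hpd h
  · -- the whole group is a `p`-group
    obtain ⟨k, hk⟩ := IsPGroup.iff_card.mp P.2
    rw [h, Subgroup.card_top] at hk
    rw [hk] at h1
    -- `p ^ k * 2 = p * (p ^ 2 - 1)`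
    have hpp : p ^ 2 - 1 = (p - 1) * (p + 1) := by
      obtain ⟨t, rfl⟩ : ∃ t, p = t + 1 := ⟨p - 1, by omega⟩
      have : (t + 1) ^ 2 = (t + 1 - 1) * (t + 1 + 1) + 1 := by
        simp only [Nat.add_sub_cancel]
        ring
      omega
    have hnd : ¬ p ∣ p ^ 2 - 1 := by
      intro hd
      have h4 : p ∣ p ^ 2 := dvd_pow_self p (by norm_num)
      have h5 : p ∣ p ^ 2 - (p ^ 2 - 1) := Nat.dvd_sub h4 hd
      have h6 : p ^ 2 - (p ^ 2 - 1) = 1 := by
        have : 1 ≤ p ^ 2 := Nat.one_le_pow _ _ hprime.pos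
        omega
      rw [h6] at h5
      exact hprime.one_lt.ne' (Nat.dvd_one.mp h5)
    rcases Nat.lt_or_ge k 2 with hk2 | hk2
    · have hk01 : k = 0 ∨ k = 1 := by omega
      rcases hk01 with rfl | rfl
      · rw [pow_zero, one_mul] at h1
        have : 24 ≤ p ^ 2 - 1 := by
          have : 25 ≤ p ^ 2 := by nlinarith
          omega
        nlinarith
      · rw [pow_one] at h1
        have h7 := Nat.eq_of_mul_eq_mul_left hprime.pos h1
        have : 25 ≤ p ^ 2 := by nlinarith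
        omega
    · apply hnd
      obtain ⟨j, rfl⟩ : ∃ j, k = j + 2 := ⟨k - 2, by omega⟩
      have h8 : p * (p ^ (j + 1) * 2) = p * (p ^ 2 - 1) := by
        rw [← h1]
        ring
      have h9 := Nat.eq_of_mul_eq_mul_left hprime.pos h8
      rw [← h9]
      exact Dvd.dvd.mul_right (dvd_pow_self p (by omega)) 2

end Cfsg.Agent.Lib.Helper29.NPC
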