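import Mathlib
import Cfsg.Prelude.Def_LocalStructure

/-!
# Groups of least order with a non-normal Sylow `p`-subgroup (helper29; S3875), the lower bound

`H` of least order among the groups that are not `p`-closed: either `H` is simple (and non-cyclic, of order divisible
by `p`), or `Nat.card H = Nat.card N * Nat.card P` with `N` a minimal normal subgroup of prime power order
`≡ 1 (mod p)` and `P` a nontrivial Sylow `p`-subgroup.
-/

set_option autoImplicit false

namespace Cfsg.Agent.Lib.Helper29.NPC

open Subgroup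

section general
variable {G : Type*} [Group G] [Finite G] {p : ℕ} [Fact p.Prime]

theorem exists_min_normal [Nontrivial G] :
    ∃ N : Subgroup G, N.Normal ∧ N ≠ ⊥ ∧ ∀ K : Subgroup G, K.Normal → K ≠ ⊥ → K ≤ N → K = N := by
  obtain ⟨N, ⟨hN, hN0⟩, hmin⟩ := WellFounded.has_min (measure (fun N : Subgroup G => Nat.card N)).wf
    {N : Subgroup G | N.Normal ∧ N ≠ ⊥} ⟨⊤, ⟨inferInstance, top_ne_bot⟩⟩
  refine ⟨N, hN, hN0, fun K hK hK0 hKN => ?_⟩
  have h := hmin K ⟨hK, hK0⟩
  exact Subgroup.eq_of_le_of_card_ge hKN (not_lt.mp h)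

/-- if `G ⧸ N` is `p`-closed then `P ⊔ N` is normal -/
theorem sup_normal_of_quotient (P : Sylow p G) (N : Subgroup G) [N.Normal]
    (h : Cfsg.IsPClosed p (G ⧸ N)) : ((P : Subgroup G) ⊔ N).Normal := by
  have h1 : ((P : Subgroup G).map (QuotientGroup.mk' N)).Normal := by
    have := h (P.mapSurjective (QuotientGroup.mk'_surjective N))
    rwa [Sylow.coe_mapSurjective] at this
  have h2 := h1.comap (QuotientGroup.mk' N)
  rwa [Subgroup.comap_map_eq, QuotientGroup.ker_mk'] at h2

/-- a Sylow `p`-subgroup inside a normal `p`-closed subgroup is normal -/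
theorem sylow_normal_of_le (P : Sylow p G) (M : Subgroup G) [M.Normal] (hPM : (P : Subgroup G) ≤ M)
    (h : Cfsg.IsPClosed p ↥M) : (P : Subgroup G).Normal := by
  have h1 : ((P.subtype hPM : Sylow p ↥M) : Subgroup ↥M).Normal := h _
  have h2 : ((P.subtype hPM : Sylow p ↥M) : Subgroup ↥M).Characteristic :=
    Sylow.characteristic_of_normal _ h1
  have h3 : (((P.subtype hPM : Sylow p ↥M) : Subgroup ↥M).map M.subtype).Normal := inferInstance
  rwa [Sylow.coe_subtype, Subgroup.subgroupOf_map_subtype, inf_of_le_left hPM] at h3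

theorem card_lt_of_ne_top (K : Subgroup G) (hK : K ≠ ⊤) : Nat.card ↥K < Nat.card G := by
  refine lt_of_le_of_ne (Subgroup.card_le_card_group K) fun h => hK ?_
  exact (Subgroup.card_eq_iff_eq_top K).mp h

theorem card_quotient_lt (N : Subgroup G) [N.Normal] (hN : N ≠ ⊥) : Nat.card (G ⧸ N) < Nat.card G := by
  have h1 := Subgroup.card_eq_card_quotient_mul_card_subgroup N
  have h2 : 1 < Nat.card ↥N := by
    rw [Subgroup.one_lt_card_iff_ne_bot]
    exact hN
  have h3 : 0 < Nat.card (G ⧸ N) := Nat.card_pos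
  nlinarith

end general

section complement
variable {G : Type*} [Group G] [Finite G] {p : ℕ} [Fact p.Prime]

/-- the complement case: `H = N ⋊ P` with `N` a minimal normal `p'`-subgroup -/
theorem card_of_complement (P : Sylow p G) (hP : ¬ (P : Subgroup G).Normal) (N : Subgroup G) [hNn : N.Normal]
    (hN0 : N ≠ ⊥) (hNmin : ∀ K : Subgroup G, K.Normal → K ≠ ⊥ → K ≤ N → K = N)
    (hPN : (P : Subgroup G) ⊔ N = ⊤) (hpN : ¬ p ∣ Nat.card ↥N)
    (hsub : ∀ K : Subgroup G, K ≠ ⊤ → Cfsg.IsPClosed p ↥K) :
    Nat.card G = Nat.card ↥N * Nat.card ↥(P : Subgroup G) ∧ IsPrimePow (Nat.card ↥N) ∧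
      Nat.card ↥N % p = 1 ∧ p ≤ Nat.card ↥(P : Subgroup G) := by
  classical
  have hprime : p.Prime := Fact.out
  obtain ⟨k, hk⟩ := IsPGroup.iff_card.mp P.2
  have hcop : Nat.Coprime (Nat.card ↥(P : Subgroup G)) (Nat.card ↥N) := by
    rw [hk]
    exact Nat.Coprime.pow_left k ((Nat.Prime.coprime_iff_not_dvd hprime).mpr hpN)
  have hdisj : (P : Subgroup G) ⊓ N = ⊥ := (Subgroup.disjoint_of_coprime_natCard hcop).eq_bot
  have hidx : N.index = Nat.card ↥(P : Subgroup G) := by
    have h1 := Subgroup.relIndex_sup_right (H := (P : Subgroup G)) (K := N)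
    rw [hPN, relIndex_top_right] at h1
    rw [h1, ← inf_relIndex_right, inf_comm, hdisj, relIndex_bot_left]
  have hcard : Nat.card G = Nat.card ↥N * Nat.card ↥(P : Subgroup G) := by
    rw [← hidx]
    exact (Subgroup.card_mul_index N).symm
  have hP0 : (P : Subgroup G) ≠ ⊥ := by
    intro h
    apply hP
    rw [h]
    infer_instance
  have hk0 : k ≠ 0 := by
    rintro rfl
    rw [pow_zero] at hk
    exact hP0 ((Subgroup.card_eq_one).mp hk)
  have hpP : p ≤ Nat.card ↥(P : Subgroup G) := by
    rw [hk]
    exact Nat.le_self_pow hk0 p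
  -- every proper `P`-invariant subgroup of `N` is centralized by `P`
  have star : ∀ A : Subgroup G, A ≤ N → A ≠ N → (P : Subgroup G) ≤ normalizer (A : Set G) →
      A ≤ centralizer ((P : Subgroup G) : Set G) := by
    intro A hAN hA hnorm
    have hne : A ⊔ (P : Subgroup G) ≠ ⊤ := by
      intro htop
      apply hA
      apply le_antisymm hAN
      intro n hn
      have hn' : n ∈ ((A ⊔ (P : Subgroup G) : Subgroup G) : Set G) := by
        rw [htop]
        trivial
      rw [coe_mul_of_right_le_normalizer_left A P hnorm] at hn'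
      obtain ⟨a, ha, x, hx, rfl⟩ := hn'
      have hxN : x ∈ N := by
        have := N.mul_mem (N.inv_mem (hAN ha)) hn
        simpa using this
      have hx1 : x ∈ (P : Subgroup G) ⊓ N := ⟨hx, hxN⟩
      rw [hdisj, mem_bot] at hx1
      subst hx1
      simpa using ha
    have hcl := hsub _ hne
    have hPn : ((P.subtype (le_sup_right : (P : Subgroup G) ≤ A ⊔ (P : Subgroup G)) :
        Sylow p ↥(A ⊔ (P : Subgroup G))) : Subgroup ↥(A ⊔ (P : Subgroup G))).Normal := hcl _
    intro a ha
    rw [mem_centralizer_iff]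
    intro x hx
    have h1 : a * x * a⁻¹ ∈ (P : Subgroup G) := by
      have hxm : (⟨x, (le_sup_right : (P : Subgroup G) ≤ A ⊔ (P : Subgroup G)) hx⟩ :
          ↥(A ⊔ (P : Subgroup G))) ∈ ((P.subtype (le_sup_right : (P : Subgroup G) ≤ A ⊔ (P : Subgroup G)) :
          Sylow p ↥(A ⊔ (P : Subgroup G))) : Subgroup ↥(A ⊔ (P : Subgroup G))) := by
        rw [Sylow.coe_subtype, mem_subgroupOf]
        exact hx
      have := hPn.conj_mem _ hxm ⟨a, (le_sup_left : A ≤ A ⊔ (P : Subgroup G)) ha⟩
      rw [Sylow.coe_subtype, mem_subgroupOf] at this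
      exact this
    have h2 : x * a⁻¹ * x⁻¹ ∈ A := (mem_normalizer_iff.mp (hnorm hx) a⁻¹).mp (A.inv_mem ha)
    have h3 : a * x * a⁻¹ * x⁻¹ ∈ (P : Subgroup G) ⊓ N := by
      refine ⟨(P : Subgroup G).mul_mem h1 ((P : Subgroup G).inv_mem hx), ?_⟩
      have := N.mul_mem (hAN ha) (hAN h2)
      simpa [mul_assoc] using this
    rw [hdisj, mem_bot] at h3
    have h4 : a * x = x * a := by
      have := congrArg (fun z => z * x * a) h3
      simpa [mul_assoc] using this
    exact h4.symm
  -- `P` does not centralize `N`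
  have hnc : ¬ N ≤ centralizer ((P : Subgroup G) : Set G) := by
    intro h
    apply hP
    rw [← normalizer_eq_top_iff, eq_top_iff, ← hPN]
    exact sup_le le_normalizer (h.trans (centralizer_le_normalizer _))
  have hN1 : 0 < Nat.card ↥N := Nat.card_pos
  have hP1 : 0 < Nat.card ↥(P : Subgroup G) := Nat.card_pos
  -- `N` has prime power order
  have hpow : ∃ r : ℕ, r.Prime ∧ IsPGroup r ↥N := by
    by_contra hno
    apply hnc
    have hC : Nat.card ↥N ∣ Nat.card ↥(N ⊓ centralizer ((P : Subgroup G) : Set G)) := by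
      rw [← Nat.factorization_le_iff_dvd hN1.ne' Nat.card_pos.ne']
      intro r
      by_cases hr : r.Prime
      swap
      · rw [Nat.factorization_eq_zero_of_not_prime _ hr]
        exact Nat.zero_le _
      by_cases hrp : r = p
      · subst hrp
        rw [Nat.factorization_eq_zero_of_not_dvd hpN]
        exact Nat.zero_le _
      have : Fact r.Prime := ⟨hr⟩
      have hcopr : Nat.Coprime r p := (Nat.coprime_primes hr hprime).mpr hrp
      -- Sylow `r`-subgroups lie in `N`
      have hRN : ∀ R : Sylow r G, (R : Subgroup G) ≤ N := by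
        intro R
        rw [← relIndex_eq_one]
        obtain ⟨a, ha⟩ := IsPGroup.iff_card.mp R.2
        have h1 : N.relIndex (R : Subgroup G) ∣ r ^ a := ha ▸ Subgroup.relIndex_dvd_card N (R : Subgroup G)
        have h2 : N.relIndex (R : Subgroup G) ∣ p ^ k := by
          rw [← hk, ← hidx]
          exact relIndex_dvd_index_of_normal N (R : Subgroup G)
        exact Nat.eq_one_of_dvd_coprimes (Nat.Coprime.pow a k hcopr) h1 h2
      -- the number of Sylow `r`-subgroups is prime to `p`
      have hnd : ¬ p ∣ Nat.card (Sylow r G) := by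
        obtain ⟨R₀⟩ : Nonempty (Sylow r G) := inferInstance
        have hcs : Nat.card (Sylow r G) = (normalizer ((R₀ : Subgroup G) : Set G)).index :=
          Sylow.card_eq_index_normalizer R₀
        rw [hcs]
        have hL : normalizer ((R₀ : Subgroup G) : Set G) ⊔ N = ⊤ := Sylow.normalizer_sup_eq_top' R₀ (hRN R₀)
        have h1 := Subgroup.relIndex_sup_right (H := normalizer ((R₀ : Subgroup G) : Set G)) (K := N)
        rw [hL, relIndex_top_right, hidx] at h1
        have h2 : Nat.card ↥(P : Subgroup G) ∣ Nat.card ↥(normalizer ((R₀ : Subgroup G) : Set G)) :=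
          h1 ▸ Subgroup.relIndex_dvd_card N _
        obtain ⟨t, ht⟩ := h2
        intro hdvd
        obtain ⟨s, hs⟩ := hdvd
        have h3 := Subgroup.card_mul_index (normalizer ((R₀ : Subgroup G) : Set G))
        rw [hcard, ht, hs] at h3
        apply hpN
        refine ⟨t * s, ?_⟩
        have h4 : Nat.card ↥(P : Subgroup G) * (t * (p * s)) = Nat.card ↥(P : Subgroup G) * Nat.card ↥N := by
          rw [← mul_assoc, h3, mul_comm]
        have h5 := Nat.eq_of_mul_eq_mul_left hP1 h4
        rw [← h5]
        ring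
      obtain ⟨R, hR⟩ := P.2.nonempty_fixed_point_of_prime_not_dvd_card (Sylow r G) hnd
      have hPR : (P : Subgroup G) ≤ normalizer ((R : Subgroup G) : Set G) := by
        intro x hx
        have := hR ⟨x, hx⟩
        exact Sylow.smul_eq_iff_mem_normalizer.mp this
      have hRne : (R : Subgroup G) ≠ N := by
        intro h
        apply hno
        exact ⟨r, hr, h ▸ R.2⟩
      have hRC := star (R : Subgroup G) (hRN R) hRne hPR
      have hRle : (R : Subgroup G) ≤ N ⊓ centralizer ((P : Subgroup G) : Set G) := le_inf (hRN R) hRC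
      have h6 := Subgroup.card_dvd_of_le hRle
      rw [Sylow.card_eq_multiplicity, hcard, Nat.factorization_mul hN1.ne' hP1.ne', hk,
        Nat.factorization_pow] at h6
      have h7 : (Nat.factorization p) r = 0 := by
        rw [Nat.Prime.factorization hprime]
        simp [Ne.symm hrp]
      simp only [Finsupp.coe_add, Finsupp.coe_smul, Pi.add_apply, Pi.smul_apply, h7, smul_eq_mul,
        mul_zero, add_zero] at h6
      exact (Nat.Prime.pow_dvd_iff_le_factorization hr Nat.card_pos.ne').mp h6
    have hCN : N ⊓ centralizer ((P : Subgroup G) : Set G) = N :=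
      Subgroup.eq_of_le_of_card_ge inf_le_left (Nat.le_of_dvd Nat.card_pos hC)
    rw [← hCN]
    exact inf_le_right
  obtain ⟨r, hr, hNr⟩ := hpow
  have : Fact r.Prime := ⟨hr⟩
  have : Nontrivial ↥N := (Subgroup.nontrivial_iff_ne_bot N).mpr hN0
  -- `N` is abelian
  have hcomm : ∀ a ∈ N, ∀ b ∈ N, a * b = b * a := by
    have hZ : Nontrivial ↥(center ↥N) := hNr.center_nontrivial
    have hZn : ((center ↥N).map N.subtype).Normal := inferInstance
    have hZ0 : (center ↥N).map N.subtype ≠ ⊥ := by
      rw [Ne, Subgroup.map_eq_bot_iff_of_injective _ N.subtype_injective]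
      exact (Subgroup.nontrivial_iff_ne_bot _).mp hZ
    have hZN := hNmin _ hZn hZ0 (map_subtype_le _)
    intro a ha b hb
    rw [← hZN] at ha
    obtain ⟨z, hz, rfl⟩ := ha
    have := (mem_center_iff.mp hz) ⟨b, hb⟩
    exact (congrArg Subtype.val this).symm
  -- `C_N(P) = 1`
  have hC : N ⊓ centralizer ((P : Subgroup G) : Set G) = ⊥ := by
    by_contra hne
    apply hnc
    have hcen : ∀ c ∈ N ⊓ centralizer ((P : Subgroup G) : Set G), ∀ g : G, g * c = c * g := by
      intro c hc g
      have hg : g ∈ (((P : Subgroup G) ⊔ N : Subgroup G) : Set G) := by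
        rw [hPN]
        trivial
      rw [mul_normal] at hg
      obtain ⟨x, hx, n, hn, rfl⟩ := hg
      have h1 : x * c = c * x := (mem_centralizer_iff.mp hc.2) x hx
      have h2 : n * c = c * n := hcomm n hn c hc.1
      rw [mul_assoc, h2, ← mul_assoc, h1, mul_assoc]
    have hnorm : (N ⊓ centralizer ((P : Subgroup G) : Set G)).Normal := by
      refine ⟨fun c hc g => ?_⟩
      rw [hcen c hc g, mul_inv_cancel_right]
      exact hc
    rw [← hNmin _ hnorm hne inf_le_left]
    exact inf_le_right
  -- `P` is self-normalizing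
  have hNP : normalizer ((P : Subgroup G) : Set G) = P := by
    apply le_antisymm _ le_normalizer
    intro g hg
    have hg' : g ∈ (((P : Subgroup G) ⊔ N : Subgroup G) : Set G) := by
      rw [hPN]
      trivial
    rw [mul_normal] at hg'
    obtain ⟨x, hx, n, hn, rfl⟩ := hg'
    have hnn : n ∈ normalizer ((P : Subgroup G) : Set G) := by
      have := (normalizer ((P : Subgroup G) : Set G)).mul_mem
        ((normalizer ((P : Subgroup G) : Set G)).inv_mem (le_normalizer hx)) hg
      simpa using this
    have hnC : n ∈ N ⊓ centralizer ((P : Subgroup G) : Set G) := by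
      refine Subgroup.mem_inf.mpr ⟨hn, ?_⟩
      rw [mem_centralizer_iff]
      intro y hy
      have h1 : n * y * n⁻¹ ∈ (P : Subgroup G) := (mem_normalizer_iff.mp hnn y).mp hy
      have h2 : n * y * n⁻¹ * y⁻¹ ∈ (P : Subgroup G) ⊓ N := by
        refine ⟨(P : Subgroup G).mul_mem h1 ((P : Subgroup G).inv_mem hy), ?_⟩
        have : n * (y * n⁻¹ * y⁻¹) ∈ N := N.mul_mem hn (hNn.conj_mem _ (N.inv_mem hn) y)
        simpa [mul_assoc] using this
      rw [hdisj, mem_bot] at h2
      have h4 : n * y = y * n := by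
        have := congrArg (fun z => z * y * n) h2
        simpa [mul_assoc] using this
      exact h4.symm
    rw [hC, mem_bot] at hnC
    subst hnC
    show x * 1 ∈ (P : Subgroup G)
    rw [mul_one]
    exact hx
  have hmod : Nat.card ↥N % p = 1 := by
    have h1 : Nat.card (Sylow p G) ≡ 1 [MOD p] := card_sylow_modEq_one p G
    have hcs : Nat.card (Sylow p G) = (normalizer ((P : Subgroup G) : Set G)).index :=
      Sylow.card_eq_index_normalizer P
    rw [hcs, hNP] at h1
    have h2 : (P : Subgroup G).index = Nat.card ↥N := by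
      have h3 := Subgroup.card_mul_index (P : Subgroup G)
      rw [hcard, mul_comm] at h3
      exact Nat.eq_of_mul_eq_mul_right hP1 h3
    rw [h2] at h1
    have h4 : 1 % p = 1 := Nat.one_mod_eq_one.mpr hprime.one_lt.ne'
    rw [Nat.ModEq, h4] at h1
    exact h1
  refine ⟨hcard, ?_, hmod, hpP⟩
  obtain ⟨j, hj⟩ := IsPGroup.iff_card.mp hNr
  rw [isPrimePow_nat_iff]
  refine ⟨r, j, hr, ?_, hj.symm⟩
  rcases Nat.eq_zero_or_pos j with rfl | hjpos
  · rw [pow_zero] at hj
    exact absurd ((Subgroup.card_eq_one).mp hj) hN0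
  · exact hjpos

end complement

end Cfsg.Agent.Lib.Helper29.NPC
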