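import Mathlib
import Cfsg.Prelude.Def_LocalStructure
import Cfsg.Agent.Lib.Helper29.NPCLow
import Cfsg.Agent.Lib.Helper13.PSL2

/-!
# Groups of least order with a non-normal Sylow `p`-subgroup (helper29; S3875), the lower bound from
the Brauer–Reynolds theorem (S0999, taken as a hypothesis `BR`)
-/

set_option autoImplicit false

namespace Cfsg.Agent.Lib.Helper29.NPC

open Subgroup

/-- the Brauer–Reynolds statement (the text of S0999) for groups in `Type` -/
def BR : Prop :=
  ∀ (G : Type) [Group G] [Finite G] [IsSimpleGroup G], ¬ IsCyclic G → ∀ p : ℕ, p.Prime → p ∣ Nat.card G →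
    Nat.card G < p ^ 3 →
    (∃ (F : Type) (_ : Field F) (_ : Fintype F), Fintype.card F = p ∧ 3 < p ∧
      Nonempty (G ≃* Matrix.ProjectiveSpecialLinearGroup (Fin 2) F)) ∨
    (∃ (m : ℕ) (F : Type) (_ : Field F) (_ : Fintype F), Fintype.card F = 2 ^ m ∧ p = 2 ^ m + 1 ∧ 3 < p ∧
      Nonempty (G ≃* Matrix.ProjectiveSpecialLinearGroup (Fin 2) F))

section psl
variable {F : Type*} [Field F] [Fintype F]

theorem card_PSL2_char_two (h2 : (2 : F) = 0) :
    Nat.card (Matrix.ProjectiveSpecialLinearGroup (Fin 2) F) = Fintype.card F * (Fintype.card F ^ 2 - 1) := by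
  have hc : Subgroup.center (Matrix.SpecialLinearGroup (Fin 2) F) = ⊥ := by
    rw [eq_bot_iff]
    intro A hA
    rw [Matrix.SpecialLinearGroup.mem_center_iff] at hA
    obtain ⟨r, hr, hA⟩ := hA
    rw [Fintype.card_fin] at hr
    have hr1 : r = 1 := by
      have : (r - 1) ^ 2 = 0 := by linear_combination hr - r * h2 + h2
      exact sub_eq_zero.mp (pow_eq_zero_iff (two_ne_zero) |>.mp this)
    rw [Subgroup.mem_bot]
    apply Subtype.ext
    rw [← hA, hr1]
    simp
  have h := Subgroup.card_eq_card_quotient_mul_card_subgroup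
    (Subgroup.center (Matrix.SpecialLinearGroup (Fin 2) F))
  have hcc : Nat.card (Subgroup.center (Matrix.SpecialLinearGroup (Fin 2) F)) = 1 := by
    rw [hc, Subgroup.card_bot]
  rw [hcc, mul_one, Cfsg.Agent.Lib.Helper13.card_SL2] at h
  exact h.symm

theorem two_ne_zero_of_odd_card (h : Odd (Fintype.card F)) : (2 : F) ≠ 0 := by
  intro h2
  obtain ⟨k, hk⟩ := h
  have h0 : ((Fintype.card F : ℕ) : F) = 0 := Nat.cast_card_eq_zero F
  rw [hk] at h0
  push_cast at h0
  rw [h2, zero_mul, zero_add] at h0
  exact one_ne_zero h0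

theorem two_eq_zero_of_card {j : ℕ} (hj : j ≠ 0) (h : Fintype.card F = 2 ^ j) : (2 : F) = 0 := by
  have h0 : ((Fintype.card F : ℕ) : F) = 0 := Nat.cast_card_eq_zero F
  rw [h] at h0
  push_cast at h0
  exact (pow_eq_zero_iff hj).mp h0

end psl

/-- the lower bound for a group of least order among those that are not `p`-closed -/
theorem bound_of_minimal (hBR : BR) {p : ℕ} [Fact p.Prime] (hp2 : p ≠ 2) {m : ℕ}
    (hleast : ∀ k : ℕ, IsPrimePow k → k % p = 1 → m ≤ k)
    (H : Type) [Group H] [Finite H] (hH : ¬ Cfsg.IsPClosed p H)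
    (hmin : ∀ (K : Type) [Group K] [Finite K], Nat.card K < Nat.card H → Cfsg.IsPClosed p K) :
    min (p * m) (p * (p ^ 2 - 1) / 2) ≤ Nat.card H := by
  classical
  have hprime : p.Prime := Fact.out
  have hodd : Odd p := hprime.odd_of_ne_two hp2
  obtain ⟨P, hP⟩ := not_forall.mp hH
  have hnt : Nontrivial H := by
    by_contra hnt
    rw [not_nontrivial_iff_subsingleton] at hnt
    exact hP ⟨fun n hn g => by rwa [Subsingleton.elim (g * n * g⁻¹) n]⟩
  obtain ⟨N, hN, hN0, hNmin⟩ := exists_min_normal (G := H)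
  have hsub : ∀ K : Subgroup H, K ≠ ⊤ → Cfsg.IsPClosed p ↥K :=
    fun K hK => hmin ↥K (card_lt_of_ne_top K hK)
  have hquo : Cfsg.IsPClosed p (H ⧸ N) := hmin (H ⧸ N) (card_quotient_lt N hN0)
  have hPN : (P : Subgroup H) ⊔ N = ⊤ := by
    by_contra hne
    have hn : ((P : Subgroup H) ⊔ N).Normal := sup_normal_of_quotient P N hquo
    exact hP (sylow_normal_of_le P _ le_sup_left (hsub _ hne))
  by_cases hpN : p ∣ Nat.card ↥N
  · -- `H` is simple
    have hNtop : N = ⊤ := by
      by_contra hne
      have hcl := hsub N hne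
      obtain ⟨Q⟩ : Nonempty (Sylow p ↥N) := inferInstance
      have hQn : (Q : Subgroup ↥N).Normal := hcl Q
      have hQc : (Q : Subgroup ↥N).Characteristic := Sylow.characteristic_of_normal Q hQn
      have hQm : ((Q : Subgroup ↥N).map N.subtype).Normal := inferInstance
      have hQ0 : (Q : Subgroup ↥N).map N.subtype ≠ ⊥ := by
        rw [Ne, Subgroup.map_eq_bot_iff_of_injective _ N.subtype_injective]
        exact Q.ne_bot_of_dvd_card hpN
      have hQN := hNmin _ hQm hQ0 (Subgroup.map_subtype_le _)
      have hNp : IsPGroup p ↥N := by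
        have := Q.2.map N.subtype
        rwa [hQN] at this
      have hPNp : IsPGroup p ↥((P : Subgroup H) ⊔ N) := P.2.to_sup_of_normal_right hNp
      have h1 := P.is_maximal' hPNp le_sup_left
      rw [hPN] at h1
      apply hP
      rw [← h1]
      infer_instance
    have hsimple : IsSimpleGroup H :=
      { exists_pair_ne := hnt.exists_pair_ne
        eq_bot_or_eq_top_of_normal := fun K hK => by
          by_cases hK0 : K = ⊥
          · exact Or.inl hK0
          · right
            have := hNmin K hK hK0 (by rw [hNtop]; exact le_top)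
            rw [this, hNtop] }
    have hncyc : ¬ IsCyclic H := by
      intro hc
      apply hP
      refine ⟨fun n hn g => ?_⟩
      have : g * n = n * g := (IsMulCommutative.is_comm (M := H)).comm g n
      rw [this, mul_inv_cancel_right]
      exact hn
    have hpH : p ∣ Nat.card H := by
      have := hpN
      rwa [hNtop, Subgroup.card_top] at this
    have hp1 : 1 < p := hprime.one_lt
    apply le_trans (min_le_right _ _)
    by_cases hbig : Nat.card H < p ^ 3
    · rcases hBR H hncyc p hprime hpH hbig with ⟨F, _, _, hF, h3, ⟨e⟩⟩ | ⟨j, F, _, _, hF, hpj, h3, ⟨e⟩⟩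
      · have hc := Nat.card_congr e.toEquiv
        have h2F : (2 : F) ≠ 0 := two_ne_zero_of_odd_card (hF ▸ hodd)
        have h1 := Cfsg.Agent.Lib.Helper13.card_PSL2_mul_two h2F
        rw [← hc, hF] at h1
        rw [← h1, Nat.mul_div_cancel _ (by norm_num : 0 < 2)]
      · have hc := Nat.card_congr e.toEquiv
        have hj0 : j ≠ 0 := by
          rintro rfl
          omega
        have h2F : (2 : F) = 0 := two_eq_zero_of_card hj0 hF
        have h1 := card_PSL2_char_two h2F
        rw [← hc, hF] at h1
        rw [h1]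
        apply Nat.div_le_of_le_mul
        have hj2 : 2 ≤ j := by
          by_contra hlt
          have : j = 1 := by omega
          subst this
          omega
        have hq : 4 ≤ 2 ^ j := by
          have := Nat.pow_le_pow_right (by norm_num : 0 < 2) hj2
          simpa using this
        rw [hpj]
        generalize 2 ^ j = q at hq
        obtain ⟨t, rfl⟩ : ∃ t, q = t + 4 := ⟨q - 4, by omega⟩
        have e1 : (t + 4 + 1) ^ 2 - 1 = (t + 4) * (t + 6) := by
          have : (t + 4 + 1) ^ 2 = (t + 4) * (t + 6) + 1 := by ring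
          omega
        have e2 : (t + 4) ^ 2 - 1 = (t + 3) * (t + 5) := by
          have : (t + 4) ^ 2 = (t + 3) * (t + 5) + 1 := by ring
          omega
        rw [e1, e2]
        nlinarith [sq_nonneg t]
    · have h1 : p * (p ^ 2 - 1) / 2 ≤ p * (p ^ 2 - 1) := Nat.div_le_self _ _
      have h2 : p * (p ^ 2 - 1) ≤ p ^ 3 := by
        have : p ^ 3 = p * p ^ 2 := by ring
        rw [this]
        exact Nat.mul_le_mul_left _ (Nat.sub_le _ _)
      omega
  · -- the complement case
    obtain ⟨hcard, hpp, hmod, hpP⟩ := card_of_complement P hP N hN0 hNmin hPN hpN hsub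
    apply le_trans (min_le_left _ _)
    rw [hcard, mul_comm]
    exact Nat.mul_le_mul (hleast _ hpp hmod) hpP

/-- every group which is not `p`-closed has at least the order in question -/
theorem lower_bound (hBR : BR) {p : ℕ} [Fact p.Prime] (hp2 : p ≠ 2) {m : ℕ}
    (hleast : ∀ k : ℕ, IsPrimePow k → k % p = 1 → m ≤ k) :
    ∀ (H : Type) [Group H] [Finite H], ¬ Cfsg.IsPClosed p H →
      min (p * m) (p * (p ^ 2 - 1) / 2) ≤ Nat.card H := by
  have key : ∀ n : ℕ, ∀ (H : Type) [Group H] [Finite H], Nat.card H = n → ¬ Cfsg.IsPClosed p H →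
      min (p * m) (p * (p ^ 2 - 1) / 2) ≤ n := by
    intro n
    induction n using Nat.strong_induction_on with
    | _ n ih =>
      intro H _ _ hn hH
      by_cases hex : ∃ (K : Type) (_ : Group K) (_ : Finite K), Nat.card K < Nat.card H ∧ ¬ Cfsg.IsPClosed p K
      · obtain ⟨K, _, _, hlt, hK⟩ := hex
        exact le_trans (ih (Nat.card K) (hn ▸ hlt) K rfl hK) (hn ▸ hlt).le
      · rw [← hn]
        apply bound_of_minimal hBR hp2 hleast H hH
        intro K _ _ hlt
        by_contra hK
        exact hex ⟨K, inferInstance, inferInstance, hlt, hK⟩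
  intro H _ _ hH
  exact key _ H rfl hH

end Cfsg.Agent.Lib.Helper29.NPC
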