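import Mathlib
import Cfsg.Prelude.Def_LocalStructure
import Cfsg.Agent.Lib.Helper29.NPCMin
import Cfsg.Agent.Lib.Helper29.NPCEx

/-!
# Groups of least order with a non-normal Sylow `p`-subgroup (helper29): the statement of S3875 from the
Brauer–Reynolds theorem (the text of S0999 for groups in `Type`, hypothesis `BR`)
-/

set_option autoImplicit false

namespace Cfsg.Agent.Lib.Helper29.NPC

/-- the statement of S3875, given the Brauer–Reynolds theorem -/
theorem s3875_of (hBR : BR) (p : ℕ) [Fact p.Prime] (hp : p ≠ 2) (m : ℕ) (hm : IsPrimePow m) (hm1 : m % p = 1)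
    (hleast : ∀ k : ℕ, IsPrimePow k → k % p = 1 → m ≤ k) :
    (∀ (H : Type) [Group H] [Finite H], ¬ Cfsg.IsPClosed p H →
        min (p * m) (p * (p ^ 2 - 1) / 2) ≤ Nat.card H) ∧
      ∃ (H : Type) (_ : Group H) (_ : Finite H), Nat.card H = min (p * m) (p * (p ^ 2 - 1) / 2) ∧
        ¬ Cfsg.IsPClosed p H := by
  have hprime : p.Prime := Fact.out
  refine ⟨lower_bound hBR hp hleast, ?_⟩
  by_cases hle : p * m ≤ p * (p ^ 2 - 1) / 2
  · rw [min_eq_left hle]
    exact exists_frobenius p m hm hm1
  · rw [min_eq_right (le_of_not_ge hle)]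
    have hp5 : 5 ≤ p := by
      by_contra hlt
      have h2 := hprime.two_le
      have hp34 : p = 3 ∨ p = 4 := by omega
      rcases hp34 with rfl | rfl
      · have h4 : IsPrimePow 4 := by
          rw [isPrimePow_nat_iff]
          exact ⟨2, 2, Nat.prime_two, by norm_num, by norm_num⟩
        have := hleast 4 h4 (by norm_num)
        apply hle
        norm_num
        omega
      · exact absurd hprime (by norm_num)
    exact exists_psl p hp5

end Cfsg.Agent.Lib.Helper29.NPC
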