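import Mathlib

/-!
helper29, leaf B4 of helper18's S3894 market: over a field of characteristic `≠ 2`, a unipotent
`u ≠ 1` of `GL₂(F)` does not normalise the commutant `T = C(y)` of an irreducible `2 × 2` matrix `y`
(`T` is a quadratic field extension of the scalars; a normalising `u` induces the identity or the
Galois involution on it, so `u²` lies in `T`; but `u² - 1 = 2 (u - 1)` is a nonzero nilpotent).
Everything is stated at the level of matrices, with a `GL`-level corollary.
-/

set_option autoImplicit false

namespace Cfsg.Agent.Lib.Helper29.NilCovB4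

open Matrix

variable {F : Type*} [Field F]

/-- Cayley–Hamilton for `2 × 2` matrices -/
theorem cayley_two (w : Matrix (Fin 2) (Fin 2) F) :
    w * w - w.trace • w + w.det • (1 : Matrix (Fin 2) (Fin 2) F) = 0 := by
  ext i j
  fin_cases i <;> fin_cases j <;>
    simp [Matrix.mul_apply, Fin.sum_univ_two, Matrix.trace_fin_two, Matrix.det_fin_two] <;> ring

/-- `y` has no eigenvector: then every nonzero matrix commuting with `y` is invertible -/
theorem det_ne_zero_of_comm (y : Matrix (Fin 2) (Fin 2) F)
    (hirr : ∀ v : Fin 2 → F, v ≠ 0 → ∀ c : F, y.mulVec v ≠ c • v)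
    (z : Matrix (Fin 2) (Fin 2) F) (hz : z * y = y * z) (hz0 : z ≠ 0) : z.det ≠ 0 := by
  intro hdet
  obtain ⟨v, hv, hzv⟩ := Matrix.exists_mulVec_eq_zero_iff.mpr hdet
  set w := y.mulVec v with hw
  have hzw : z.mulVec w = 0 := by
    rw [hw, Matrix.mulVec_mulVec, hz, ← Matrix.mulVec_mulVec, hzv, Matrix.mulVec_zero]
  have e1 : ∀ i, z i 0 * v 0 + z i 1 * v 1 = 0 := by
    intro i
    have := congrFun hzv i
    simpa [Matrix.mulVec, dotProduct, Fin.sum_univ_two] using this
  have e2 : ∀ i, z i 0 * w 0 + z i 1 * w 1 = 0 := by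
    intro i
    have := congrFun hzw i
    simpa [Matrix.mulVec, dotProduct, Fin.sum_univ_two] using this
  by_cases hD : v 0 * w 1 - v 1 * w 0 = 0
  · -- `w` is a multiple of `v`
    by_cases hv0 : v 0 = 0
    · have hv1 : v 1 ≠ 0 := by
        intro h1
        apply hv
        ext i
        fin_cases i
        · exact hv0
        · exact h1
      apply hirr v hv (w 1 / v 1)
      ext i
      fin_cases i
      · show w 0 = (w 1 / v 1) * v 0
        rw [hv0, mul_zero]
        rw [hv0, zero_mul, zero_sub, neg_eq_zero] at hD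
        rcases mul_eq_zero.mp hD with h | h
        · exact absurd h hv1
        · exact h
      · show w 1 = (w 1 / v 1) * v 1
        field_simp
    · apply hirr v hv (w 0 / v 0)
      ext i
      fin_cases i
      · show w 0 = (w 0 / v 0) * v 0
        field_simp
      · show w 1 = (w 0 / v 0) * v 1
        field_simp
        linear_combination hD
  · apply hz0
    have k0 : ∀ i, z i 0 = 0 := by
      intro i
      have : z i 0 * (v 0 * w 1 - v 1 * w 0) = 0 := by
        linear_combination (w 1) * e1 i - (v 1) * e2 i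
      rcases mul_eq_zero.mp this with h | h
      · exact h
      · exact absurd h hD
    have k1 : ∀ i, z i 1 = 0 := by
      intro i
      have : z i 1 * (v 0 * w 1 - v 1 * w 0) = 0 := by
        linear_combination (v 0) * e2 i - (w 0) * e1 i
      rcases mul_eq_zero.mp this with h | h
      · exact h
      · exact absurd h hD
    ext i j
    fin_cases j
    · exact k0 i
    · exact k1 i

/-- a square-zero `2 × 2` matrix has determinant zero -/
theorem det_eq_zero_of_sq_zero (N : Matrix (Fin 2) (Fin 2) F) (hN : N * N = 0) : N.det = 0 := by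
  have := congrArg Matrix.det hN
  rw [Matrix.det_mul, Matrix.det_zero] at this
  exact mul_self_eq_zero.mp this

/-- **B4**, matrix form: if the commutant of `y` is a "field" (all nonzero elements invertible),
`2 ≠ 0`, and `u ≠ 1` is unipotent with inverse `u'`, then `u y u⁻¹` does not commute with `y`;
in particular `u` does not normalise the commutant of `y`. -/
theorem not_comm_conj (h2 : (2 : F) ≠ 0) (y : Matrix (Fin 2) (Fin 2) F)
    (hT : ∀ z : Matrix (Fin 2) (Fin 2) F, z * y = y * z → z ≠ 0 → z.det ≠ 0)
    (u u' : Matrix (Fin 2) (Fin 2) F) (huu' : u * u' = 1) (hu'u : u' * u = 1)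
    (hN : (u - 1) * (u - 1) = 0) (hu1 : u ≠ 1) :
    (u * y * u') * y ≠ y * (u * y * u') := by
  intro hcomm
  set w := u * y * u' with hw
  have hN0 : u - 1 ≠ 0 := sub_ne_zero.mpr hu1
  have hdetN : (u - 1).det = 0 := det_eq_zero_of_sq_zero _ hN
  have htr : w.trace = y.trace := by
    rw [hw, Matrix.trace_mul_comm, ← mul_assoc, hu'u, one_mul]
  have hdet : w.det = y.det := by
    have h1 : u.det * u'.det = 1 := by rw [← Matrix.det_mul, huu', Matrix.det_one]
    rw [hw, Matrix.det_mul, Matrix.det_mul]
    calc u.det * y.det * u'.det = (u.det * u'.det) * y.det := by ring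
      _ = y.det := by rw [h1, one_mul]
  have chw := cayley_two w
  have chy := cayley_two y
  rw [htr, hdet] at chw
  -- the product of the two candidate differences vanishes
  have hprod : (w - y) * (w - y.trace • (1 : Matrix (Fin 2) (Fin 2) F) + y) = 0 := by
    have e : (w - y) * (w - y.trace • (1 : Matrix (Fin 2) (Fin 2) F) + y) =
        (w * w - y.trace • w + y.det • (1 : Matrix (Fin 2) (Fin 2) F)) -
          (y * y - y.trace • y + y.det • (1 : Matrix (Fin 2) (Fin 2) F)) + (w * y - y * w) := by
      simp only [sub_mul, mul_sub, mul_add, Matrix.mul_smul, mul_one]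
      abel
    rw [e, chw, chy, hcomm, sub_self, sub_self, add_zero]
  have hc1 : (w - y) * y = y * (w - y) := by
    rw [sub_mul, mul_sub, hcomm]
  have hc2 : (w - y.trace • (1 : Matrix (Fin 2) (Fin 2) F) + y) * y =
      y * (w - y.trace • (1 : Matrix (Fin 2) (Fin 2) F) + y) := by
    simp only [sub_mul, mul_sub, mul_add, add_mul, Matrix.mul_smul, Matrix.smul_mul, mul_one,
      one_mul, hcomm]
  have hcases : w - y = 0 ∨ w - y.trace • (1 : Matrix (Fin 2) (Fin 2) F) + y = 0 := by
    by_contra hne0
    have hne := not_or.mp hne0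
    have d1 := hT _ hc1 hne.1
    have d2 := hT _ hc2 hne.2
    have := congrArg Matrix.det hprod
    rw [Matrix.det_mul, Matrix.det_zero] at this
    rcases mul_eq_zero.mp this with h | h
    · exact d1 h
    · exact d2 h
  rcases hcases with h | h
  · -- `u` commutes with `y`
    have hwy : u * y * u' = y := by rw [← hw]; exact sub_eq_zero.mp h
    have huy : u * y = y * u := by
      calc u * y = u * y * (u' * u) := by rw [hu'u, mul_one]
        _ = (u * y * u') * u := by simp only [mul_assoc]
        _ = y * u := by rw [hwy]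
    have hNc : (u - 1) * y = y * (u - 1) := by
      rw [sub_mul, mul_sub, huy, one_mul, mul_one]
    exact hT _ hNc hN0 hdetN
  · -- `u` inverts: then `u²` commutes with `y`
    have hwy : u * y * u' = y.trace • (1 : Matrix (Fin 2) (Fin 2) F) - y := by
      rw [← hw]
      have := h
      rw [sub_add_eq_add_sub, sub_eq_zero] at this
      rw [← this]; abel
    have huy : u * y = (y.trace • (1 : Matrix (Fin 2) (Fin 2) F) - y) * u := by
      calc u * y = u * y * (u' * u) := by rw [hu'u, mul_one]
        _ = (u * y * u') * u := by simp only [mul_assoc]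
        _ = _ := by rw [hwy]
    have huuy : u * u * y = y * (u * u) := by
      calc u * u * y = u * (u * y) := by rw [mul_assoc]
        _ = u * ((y.trace • (1 : Matrix (Fin 2) (Fin 2) F) - y) * u) := by rw [huy]
        _ = (y.trace • u - u * y) * u := by
            simp only [sub_mul, mul_sub, Matrix.mul_smul, Matrix.smul_mul, one_mul,
              mul_assoc]
        _ = (y.trace • u - (y.trace • (1 : Matrix (Fin 2) (Fin 2) F) - y) * u) * u := by rw [huy]
        _ = y * (u * u) := by
            simp only [sub_mul, Matrix.smul_mul, one_mul, mul_assoc]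
            abel
    have hM : u * u - 1 = (2 : F) • (u - 1) := by
      have e : u * u - 1 = (u - 1) * (u - 1) + (2 : F) • (u - 1) := by
        simp only [sub_mul, mul_sub, mul_one, one_mul, two_smul]
        abel
      rw [e, hN, zero_add]
    have hMc : (u * u - 1) * y = y * (u * u - 1) := by
      rw [sub_mul, mul_sub, huuy, one_mul, mul_one]
    have hM0 : u * u - 1 ≠ 0 := by
      rw [hM]
      exact smul_ne_zero h2 hN0
    have hMdet : (u * u - 1).det = 0 := by
      rw [hM, Matrix.det_smul, hdetN, mul_zero]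
    exact hT _ hMc hM0 hMdet

/-- **B4**, with the irreducibility hypothesis "no eigenvector". -/
theorem not_comm_conj_of_irreducible (h2 : (2 : F) ≠ 0) (y : Matrix (Fin 2) (Fin 2) F)
    (hirr : ∀ v : Fin 2 → F, v ≠ 0 → ∀ c : F, y.mulVec v ≠ c • v)
    (u u' : Matrix (Fin 2) (Fin 2) F) (huu' : u * u' = 1) (hu'u : u' * u = 1)
    (hN : (u - 1) * (u - 1) = 0) (hu1 : u ≠ 1) :
    (u * y * u') * y ≠ y * (u * y * u') :=
  not_comm_conj h2 y (det_ne_zero_of_comm y hirr) u u' huu' hu'u hN hu1

/-- **B4**, `GL₂` form: a unipotent `u ≠ 1` does not conjugate an irreducible `g` into its own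
centralizer; so `u` does not normalise `C(g)`. -/
theorem conj_not_mem_centralizer (h2 : (2 : F) ≠ 0) (g u : GL (Fin 2) F)
    (hirr : ∀ v : Fin 2 → F, v ≠ 0 → ∀ c : F, (g : Matrix (Fin 2) (Fin 2) F).mulVec v ≠ c • v)
    (hN : ((u : Matrix (Fin 2) (Fin 2) F) - 1) * ((u : Matrix (Fin 2) (Fin 2) F) - 1) = 0)
    (hu1 : u ≠ 1) :
    u * g * u⁻¹ ∉ Subgroup.centralizer ({g} : Set (GL (Fin 2) F)) := by
  intro hmem
  rw [Subgroup.mem_centralizer_singleton_iff] at hmem
  have huu' : (u : Matrix (Fin 2) (Fin 2) F) * ((u⁻¹ : GL (Fin 2) F) : Matrix (Fin 2) (Fin 2) F) = 1 := by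
    rw [← Units.val_mul, mul_inv_cancel]; rfl
  have hu'u : ((u⁻¹ : GL (Fin 2) F) : Matrix (Fin 2) (Fin 2) F) * (u : Matrix (Fin 2) (Fin 2) F) = 1 := by
    rw [← Units.val_mul, inv_mul_cancel]; rfl
  have hu1' : (u : Matrix (Fin 2) (Fin 2) F) ≠ 1 := by
    intro h
    apply hu1
    apply Units.ext
    exact h
  apply not_comm_conj_of_irreducible h2 (g : Matrix (Fin 2) (Fin 2) F) hirr
    (u : Matrix (Fin 2) (Fin 2) F) ((u⁻¹ : GL (Fin 2) F) : Matrix (Fin 2) (Fin 2) F) huu' hu'u hN hu1'
  have := congrArg (fun x : GL (Fin 2) F => (x : Matrix (Fin 2) (Fin 2) F)) hmem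
  simp only [Units.val_mul] at this
  exact this

end Cfsg.Agent.Lib.Helper29.NilCovB4
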