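import Cfsg.Agent.Lib.Helper29.O73CTabA
import Cfsg.Agent.Lib.Helper29.O73CTabA
set_option autoImplicit false
set_option maxRecDepth 100000
set_option maxHeartbeats 0

namespace Cfsg.Agent.Lib.Helper29.O73CChkA0
open Cfsg.Agent.Lib.Helper28.TC2Upper Cfsg.Agent.Lib.Helper28.TC2Lower

theorem rel0 : Cfsg.Agent.Lib.Helper29.O73CTabA.table.relOK Cfsg.Agent.Lib.Helper29.O73CTabA.relPaths 0 255 = true := by decide +kernel
theorem rel1 : Cfsg.Agent.Lib.Helper29.O73CTabA.table.relOK Cfsg.Agent.Lib.Helper29.O73CTabA.relPaths 255 255 = true := by decide +kernel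
theorem rel2 : Cfsg.Agent.Lib.Helper29.O73CTabA.table.relOK Cfsg.Agent.Lib.Helper29.O73CTabA.relPaths 510 255 = true := by decide +kernel
theorem rel3 : Cfsg.Agent.Lib.Helper29.O73CTabA.table.relOK Cfsg.Agent.Lib.Helper29.O73CTabA.relPaths 765 255 = true := by decide +kernel
theorem rel4 : Cfsg.Agent.Lib.Helper29.O73CTabA.table.relOK Cfsg.Agent.Lib.Helper29.O73CTabA.relPaths 1020 255 = true := by decide +kernel

end Cfsg.Agent.Lib.Helper29.O73CChkA0
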