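import Cfsg.Agent.Lib.Helper29.O73CTabA
import Cfsg.Agent.Lib.Helper29.O73CTabA
set_option autoImplicit false
set_option maxRecDepth 100000
set_option maxHeartbeats 0

namespace Cfsg.Agent.Lib.Helper29.O73CChkA1
open Cfsg.Agent.Lib.Helper28.TC2Upper Cfsg.Agent.Lib.Helper28.TC2Lower

theorem rel5 : Cfsg.Agent.Lib.Helper29.O73CTabA.table.relOK Cfsg.Agent.Lib.Helper29.O73CTabA.relPaths 1275 255 = true := by decide +kernel
theorem rel6 : Cfsg.Agent.Lib.Helper29.O73CTabA.table.relOK Cfsg.Agent.Lib.Helper29.O73CTabA.relPaths 1530 255 = true := by decide +kernel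
theorem rel7 : Cfsg.Agent.Lib.Helper29.O73CTabA.table.relOK Cfsg.Agent.Lib.Helper29.O73CTabA.relPaths 1785 255 = true := by decide +kernel
theorem rel8 : Cfsg.Agent.Lib.Helper29.O73CTabA.table.relOK Cfsg.Agent.Lib.Helper29.O73CTabA.relPaths 2040 120 = true := by decide +kernel

end Cfsg.Agent.Lib.Helper29.O73CChkA1
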