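import Cfsg.Agent.Lib.Helper28.TC2Range
import Cfsg.Agent.Lib.Helper29.O73CTabA
set_option autoImplicit false
set_option maxRecDepth 100000
set_option maxHeartbeats 0

namespace Cfsg.Agent.Lib.Helper29.O73CChkAP
open Cfsg.Agent.Lib.Helper28.TC2Upper Cfsg.Agent.Lib.Helper28.TC2Lower Cfsg.Agent.Lib.Helper28.TC2Range Cfsg.Agent.Lib.Helper29.O73CTabA

theorem hinvOK : table.invOK = true := by decide +kernel
theorem prm0 : Table.permRange table 0 2160 = true := by decide +kernel
theorem tre0 : Table.treeRange table 0 2159 = true := by decide +kernel
theorem hsub0 : table.subOK subPaths = true := by decide +kernel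

theorem hpermAll : ∀ p, p < table.n → Table.permRow table p = true := by
  intro p hp
  have hp' : p < 2160 := hp
  exact (Table.permRange_iff table 0 2160).mp prm0 p (by omega) (by omega)

theorem hT : table.OK := Table.ok_of_rows table hinvOK hpermAll

theorem htreeAll : ∀ i, i < Nat.pred table.n → Table.treeRow table i = true := by
  intro p hp
  have hp' : p < 2159 := hp
  exact (Table.treeRange_iff table 0 2159).mp tre0 p (by omega) (by omega)

theorem htree : table.treeOK = true := Table.treeOK_of_rows table htreeAll

end Cfsg.Agent.Lib.Helper29.O73CChkAP
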