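import Cfsg.Agent.Lib.Helper29.O73CTabB
import Cfsg.Agent.Lib.Helper29.O73CTabA
set_option autoImplicit false
set_option maxRecDepth 100000
set_option maxHeartbeats 0

namespace Cfsg.Agent.Lib.Helper29.O73CChkB2
open Cfsg.Agent.Lib.Helper28.TC2Upper Cfsg.Agent.Lib.Helper28.TC2Lower

theorem rel10 : Cfsg.Agent.Lib.Helper29.O73CTabB.table.relOK Cfsg.Agent.Lib.Helper29.O73CTabA.relPaths 2550 255 = true := by decide +kernel
theorem rel11 : Cfsg.Agent.Lib.Helper29.O73CTabB.table.relOK Cfsg.Agent.Lib.Helper29.O73CTabA.relPaths 2805 255 = true := by decide +kernel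
theorem rel12 : Cfsg.Agent.Lib.Helper29.O73CTabB.table.relOK Cfsg.Agent.Lib.Helper29.O73CTabA.relPaths 3060 255 = true := by decide +kernel
theorem rel13 : Cfsg.Agent.Lib.Helper29.O73CTabB.table.relOK Cfsg.Agent.Lib.Helper29.O73CTabA.relPaths 3315 255 = true := by decide +kernel
theorem rel14 : Cfsg.Agent.Lib.Helper29.O73CTabB.table.relOK Cfsg.Agent.Lib.Helper29.O73CTabA.relPaths 3570 255 = true := by decide +kernel

end Cfsg.Agent.Lib.Helper29.O73CChkB2
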