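import Cfsg.Agent.Lib.Helper29.O73CTabB
import Cfsg.Agent.Lib.Helper29.O73CTabA
set_option autoImplicit false
set_option maxRecDepth 100000
set_option maxHeartbeats 0

namespace Cfsg.Agent.Lib.Helper29.O73CChkB3
open Cfsg.Agent.Lib.Helper28.TC2Upper Cfsg.Agent.Lib.Helper28.TC2Lower

theorem rel15 : Cfsg.Agent.Lib.Helper29.O73CTabB.table.relOK Cfsg.Agent.Lib.Helper29.O73CTabA.relPaths 3825 255 = true := by decide +kernel
theorem rel16 : Cfsg.Agent.Lib.Helper29.O73CTabB.table.relOK Cfsg.Agent.Lib.Helper29.O73CTabA.relPaths 4080 255 = true := by decide +kernel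
theorem rel17 : Cfsg.Agent.Lib.Helper29.O73CTabB.table.relOK Cfsg.Agent.Lib.Helper29.O73CTabA.relPaths 4335 255 = true := by decide +kernel
theorem rel18 : Cfsg.Agent.Lib.Helper29.O73CTabB.table.relOK Cfsg.Agent.Lib.Helper29.O73CTabA.relPaths 4590 255 = true := by decide +kernel
theorem rel19 : Cfsg.Agent.Lib.Helper29.O73CTabB.table.relOK Cfsg.Agent.Lib.Helper29.O73CTabA.relPaths 4845 255 = true := by decide +kernel

end Cfsg.Agent.Lib.Helper29.O73CChkB3
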