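import Cfsg.Agent.Lib.Helper29.O73CTabB
import Cfsg.Agent.Lib.Helper29.O73CTabA
set_option autoImplicit false
set_option maxRecDepth 100000
set_option maxHeartbeats 0

namespace Cfsg.Agent.Lib.Helper29.O73CChkB4
open Cfsg.Agent.Lib.Helper28.TC2Upper Cfsg.Agent.Lib.Helper28.TC2Lower

theorem rel20 : Cfsg.Agent.Lib.Helper29.O73CTabB.table.relOK Cfsg.Agent.Lib.Helper29.O73CTabA.relPaths 5100 255 = true := by decide +kernel
theorem rel21 : Cfsg.Agent.Lib.Helper29.O73CTabB.table.relOK Cfsg.Agent.Lib.Helper29.O73CTabA.relPaths 5355 255 = true := by decide +kernel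
theorem rel22 : Cfsg.Agent.Lib.Helper29.O73CTabB.table.relOK Cfsg.Agent.Lib.Helper29.O73CTabA.relPaths 5610 255 = true := by decide +kernel
theorem rel23 : Cfsg.Agent.Lib.Helper29.O73CTabB.table.relOK Cfsg.Agent.Lib.Helper29.O73CTabA.relPaths 5865 255 = true := by decide +kernel
theorem rel24 : Cfsg.Agent.Lib.Helper29.O73CTabB.table.relOK Cfsg.Agent.Lib.Helper29.O73CTabA.relPaths 6120 255 = true := by decide +kernel

end Cfsg.Agent.Lib.Helper29.O73CChkB4
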