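import Cfsg.Agent.Lib.Helper28.TC2Range
import Cfsg.Agent.Lib.Helper29.O73CTabB
set_option autoImplicit false
set_option maxRecDepth 100000
set_option maxHeartbeats 0

namespace Cfsg.Agent.Lib.Helper29.O73CChkBP
open Cfsg.Agent.Lib.Helper28.TC2Upper Cfsg.Agent.Lib.Helper28.TC2Lower Cfsg.Agent.Lib.Helper28.TC2Range Cfsg.Agent.Lib.Helper29.O73CTabB

theorem hinvOK : table.invOK = true := by decide +kernel
theorem prm0 : Table.permRange table 0 2500 = true := by decide +kernel
theorem prm1 : Table.permRange table 2500 2500 = true := by decide +kernel
theorem prm2 : Table.permRange table 5000 2500 = true := by decide +kernel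
theorem prm3 : Table.permRange table 7500 1977 = true := by decide +kernel

theorem hpermAll : ∀ p, p < table.n → Table.permRow table p = true := by
  intro p hp
  have hp' : p < 9477 := hp
  rcases Nat.lt_or_ge p 2500 with h0 | h0
  · exact (Table.permRange_iff table 0 2500).mp prm0 p (by omega) (by omega)
  rcases Nat.lt_or_ge p 5000 with h1 | h1
  · exact (Table.permRange_iff table 2500 2500).mp prm1 p (by omega) (by omega)
  rcases Nat.lt_or_ge p 7500 with h2 | h2
  · exact (Table.permRange_iff table 5000 2500).mp prm2 p (by omega) (by omega)
  exact (Table.permRange_iff table 7500 1977).mp prm3 p (by omega) (by omega)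

theorem hT : table.OK := Table.ok_of_rows table hinvOK hpermAll

end Cfsg.Agent.Lib.Helper29.O73CChkBP
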