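import Mathlib
set_option autoImplicit false
set_option maxRecDepth 100000

namespace Cfsg.Agent.Lib.Helper29.O73CDef

/-- the generators -/
inductive Gen
  | a
  | b
  | t
  | z
  | wb
  | wc
  | wd
  | we
  | wf
  | wg
  | wh
  | wi
  | y
  deriving DecidableEq

/-- the relators -/
def relWords : List (List (Gen × Bool)) := [
  [(.a, true), (.a, true), (.a, true)],
  [(.b, true), (.b, true), (.b, true)],
  [(.a, true), (.b, false), (.a, true), (.b, false), (.a, true), (.b, false), (.a, true), (.b, false)],
  [(.a, true), (.b, true), (.a, true), (.b, true), (.a, true), (.b, true), (.a, true), (.b, true), (.a, true), (.b, true), (.a, true), (.b, true), (.a, true), (.b, true), (.a, true), (.b, true)],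
  [(.a, true), (.b, true), (.a, false), (.b, true), (.a, true), (.b, false), (.a, false), (.b, true), (.a, true), (.b, true), (.a, false), (.b, true), (.a, true), (.b, false), (.a, false), (.b, true), (.a, true), (.b, true), (.a, false), (.b, true), (.a, true), (.b, false), (.a, false), (.b, true)],
  [(.a, true), (.b, true), (.a, true), (.b, true), (.a, true), (.b, false), (.a, true), (.b, true), (.a, true), (.b, true), (.a, true), (.b, false), (.a, true), (.b, true), (.a, true), (.b, true), (.a, true), (.b, false), (.a, true), (.b, true), (.a, true), (.b, true), (.a, true), (.b, false), (.a, true), (.b, true), (.a, true), (.b, true), (.a, true), (.b, false), (.a, true), (.b, true), (.a, true), (.b, true), (.a, true), (.b, false), (.a, true), (.b, true), (.a, true), (.b, true), (.a, true), (.b, false), (.a, true), (.b, true), (.a, true), (.b, true), (.a, true), (.b, false), (.a, true), (.b, true), (.a, true), (.b, true), (.a, true), (.b, false), (.a, true), (.b, true), (.a, true), (.b, true), (.a, true), (.b, false), (.a, true), (.b, true), (.a, true), (.b, true), (.a, true), (.b, false), (.a, true), (.b, true),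 (.a, true), (.b, true), (.a, true), (.b, false), (.a, true), (.b, true), (.a, true), (.b, true), (.a, true), (.b, false)],
  [(.z, true), (.z, true), (.z, true)],
  [(.z, false), (.a, false), (.z, true), (.a, true)],
  [(.z, false), (.b, false), (.z, true), (.b, true)],
  [(.z, false), (.t, false), (.z, true), (.t, true)],
  [(.t, true), (.t, true)],
  [(.t, true), (.b, false), (.a, false), (.b, false), (.a, false), (.b, true), (.t, true), (.a, false), (.b, false), (.a, false), (.b, false), (.a, true)],
  [(.t, true), (.a, true), (.b, true), (.a, true), (.b, false), (.a, false), (.t, true), (.b, false), (.a, true), (.b, false), (.a, false), (.b, true), (.a, false), (.b, false), (.a, true), (.b, true), (.a, false), (.b, true), (.z, true)],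
  [(.t, true), (.a, true), (.t, true), (.a, true), (.t, true), (.a, true), (.t, true), (.a, true), (.t, true), (.a, true), (.t, true), (.a, true)],
  [(.t, true), (.a, false), (.b, true), (.a, false), (.b, true), (.t, true), (.a, false), (.b, true), (.a, false), (.b, true), (.t, true), (.a, false), (.b, true), (.a, false), (.b, true)],
  [(.y, true), (.y, true)],
  [(.y, false), (.a, false), (.y, true), (.a, true)],
  [(.y, false), (.b, false), (.y, true), (.b, true)],
  [(.y, false), (.t, false), (.y, true), (.t, true)],
  [(.y, false), (.z, false), (.y, true), (.z, true)],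
  [(.y, false), (.wb, false), (.y, true), (.wb, true)],
  [(.y, false), (.wc, false), (.y, true), (.wc, true)],
  [(.y, false), (.wd, false), (.y, true), (.wd, true)],
  [(.y, false), (.we, false), (.y, true), (.we, true)],
  [(.y, false), (.wf, false), (.y, true), (.wf, true)],
  [(.y, false), (.wg, false), (.y, true), (.wg, true)],
  [(.y, false), (.wh, false), (.y, true), (.wh, true)],
  [(.y, false), (.wi, false), (.y, true), (.wi, true)],
  [(.z, false), (.wb, false), (.z, true), (.wb, true)],
  [(.z, false), (.wc, false), (.z, true), (.wc, true)],
  [(.z, false), (.wd, false), (.z, true), (.wd, true)],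
  [(.z, false), (.we, false), (.z, true), (.we, true)],
  [(.z, false), (.wf, false), (.z, true), (.wf, true)],
  [(.z, false), (.wg, false), (.z, true), (.wg, true)],
  [(.z, false), (.wh, false), (.z, true), (.wh, true)],
  [(.z, false), (.wi, false), (.z, true), (.wi, true)],
  [(.wb, true), (.wb, true), (.y, true)],
  [(.wb, true), (.wc, true), (.wb, true), (.wc, true), (.wb, true), (.wc, true)],
  [(.wb, true), (.wd, true), (.wb, true), (.wd, true), (.y, true)],
  [(.wb, true), (.we, true), (.wb, true), (.we, true), (.y, true)],
  [(.wb, true), (.wf, true), (.wb, true), (.wf, true), (.y, true)],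
  [(.wb, true), (.wg, true), (.wb, true), (.wg, true), (.y, true)],
  [(.wb, true), (.wh, true), (.wb, true), (.wh, true), (.y, true)],
  [(.wb, true), (.wi, true), (.wb, true), (.wi, true), (.y, true)],
  [(.wc, true), (.wb, true), (.wc, true), (.wb, true), (.wc, true), (.wb, true)],
  [(.wc, true), (.wc, true), (.y, true)],
  [(.wc, true), (.wd, true), (.wc, true), (.wd, true), (.wc, true), (.wd, true)],
  [(.wc, true), (.we, true), (.wc, true), (.we, true), (.y, true)],
  [(.wc, true), (.wf, true), (.wc, true), (.wf, true), (.y, true)],
  [(.wc, true), (.wg, true), (.wc, true), (.wg, true), (.y, true)],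
  [(.wc, true), (.wh, true), (.wc, true), (.wh, true), (.y, true)],
  [(.wc, true), (.wi, true), (.wc, true), (.wi, true), (.y, true)],
  [(.wd, true), (.wb, true), (.wd, true), (.wb, true), (.y, true)],
  [(.wd, true), (.wc, true), (.wd, true), (.wc, true), (.wd, true), (.wc, true)],
  [(.wd, true), (.wd, true), (.y, true)],
  [(.wd, true), (.we, true), (.wd, true), (.we, true), (.wd, true), (.we, true)],
  [(.wd, true), (.wf, true), (.wd, true), (.wf, true), (.y, true)],
  [(.wd, true), (.wg, true), (.wd, true), (.wg, true), (.y, true)],
  [(.wd, true), (.wh, true), (.wd, true), (.wh, true), (.wd, true), (.wh, true)],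
  [(.wd, true), (.wi, true), (.wd, true), (.wi, true), (.y, true)],
  [(.we, true), (.wb, true), (.we, true), (.wb, true), (.y, true)],
  [(.we, true), (.wc, true), (.we, true), (.wc, true), (.y, true)],
  [(.we, true), (.wd, true), (.we, true), (.wd, true), (.we, true), (.wd, true)],
  [(.we, true), (.we, true), (.y, true)],
  [(.we, true), (.wf, true), (.we, true), (.wf, true), (.we, true), (.wf, true)],
  [(.we, true), (.wg, true), (.we, true), (.wg, true), (.y, true)],
  [(.we, true), (.wh, true), (.we, true), (.wh, true), (.y, true)],
  [(.we, true), (.wi, true), (.we, true), (.wi, true), (.y, true)],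
  [(.wf, true), (.wb, true), (.wf, true), (.wb, true), (.y, true)],
  [(.wf, true), (.wc, true), (.wf, true), (.wc, true), (.y, true)],
  [(.wf, true), (.wd, true), (.wf, true), (.wd, true), (.y, true)],
  [(.wf, true), (.we, true), (.wf, true), (.we, true), (.wf, true), (.we, true)],
  [(.wf, true), (.wf, true), (.y, true)],
  [(.wf, true), (.wg, true), (.wf, true), (.wg, true), (.wf, true), (.wg, true)],
  [(.wf, true), (.wh, true), (.wf, true), (.wh, true), (.y, true)],
  [(.wf, true), (.wi, true), (.wf, true), (.wi, true), (.y, true)],
  [(.wg, true), (.wb, true), (.wg, true), (.wb, true), (.y, true)],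
  [(.wg, true), (.wc, true), (.wg, true), (.wc, true), (.y, true)],
  [(.wg, true), (.wd, true), (.wg, true), (.wd, true), (.y, true)],
  [(.wg, true), (.we, true), (.wg, true), (.we, true), (.y, true)],
  [(.wg, true), (.wf, true), (.wg, true), (.wf, true), (.wg, true), (.wf, true)],
  [(.wg, true), (.wg, true), (.y, true)],
  [(.wg, true), (.wh, true), (.wg, true), (.wh, true), (.y, true)],
  [(.wg, true), (.wi, true), (.wg, true), (.wi, true), (.y, true)],
  [(.wh, true), (.wb, true), (.wh, true), (.wb, true), (.y, true)],
  [(.wh, true), (.wc, true), (.wh, true), (.wc, true), (.y, true)],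
  [(.wh, true), (.wd, true), (.wh, true), (.wd, true), (.wh, true), (.wd, true)],
  [(.wh, true), (.we, true), (.wh, true), (.we, true), (.y, true)],
  [(.wh, true), (.wf, true), (.wh, true), (.wf, true), (.y, true)],
  [(.wh, true), (.wg, true), (.wh, true), (.wg, true), (.y, true)],
  [(.wh, true), (.wh, true), (.y, true)],
  [(.wh, true), (.wi, true), (.wh, true), (.wi, true), (.wh, true), (.wi, true)],
  [(.wi, true), (.wb, true), (.wi, true), (.wb, true), (.y, true)],
  [(.wi, true), (.wc, true), (.wi, true), (.wc, true), (.y, true)],
  [(.wi, true), (.wd, true), (.wi, true), (.wd, true), (.y, true)],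
  [(.wi, true), (.we, true), (.wi, true), (.we, true), (.y, true)],
  [(.wi, true), (.wf, true), (.wi, true), (.wf, true), (.y, true)],
  [(.wi, true), (.wg, true), (.wi, true), (.wg, true), (.y, true)],
  [(.wi, true), (.wh, true), (.wi, true), (.wh, true), (.wi, true), (.wh, true)],
  [(.wi, true), (.wi, true), (.y, true)],
  [(.wd, true), (.wc, true), (.wb, true), (.wd, true), (.we, true), (.wf, true), (.wd, true), (.wh, true), (.wi, true), (.wd, true), (.wc, true), (.wb, true), (.wd, true), (.we, true), (.wf, true), (.wd, true), (.wh, true), (.wi, true), (.wd, true), (.wc, true), (.wb, true), (.wd, true), (.we, true), (.wf, true), (.wd, true), (.wh, true), (.wi, true), (.wd, true), (.wc, true), (.wb, true), (.wd, true), (.we, true), (.wf, true), (.wd, true), (.wh, true), (.wi, true), (.wd, true), (.wc, true), (.wb, true), (.wd, true), (.we, true), (.wf, true), (.wd, true), (.wh, true), (.wi, true), (.wd, true), (.wc, true), (.wb, true), (.wd, true), (.we, true), (.wf, true), (.wd, true), (.wh, true), (.wi, true), (.wd, true), (.wc, true), (.wb, true), (.wd, true), (.we, true), (.wf, true), (.wd, true), (.wh,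 true), (.wi, true), (.wd, true), (.wc, true), (.wb, true), (.wd, true), (.we, true), (.wf, true), (.wd, true), (.wh, true), (.wi, true), (.wd, true), (.wc, true), (.wb, true), (.wd, true), (.we, true), (.wf, true), (.wd, true), (.wh, true), (.wi, true), (.wd, true), (.wc, true), (.wb, true), (.wd, true), (.we, true), (.wf, true), (.wd, true), (.wh, true), (.wi, true), (.y, true), (.z, true)],
  [(.wb, true), (.wc, true), (.wd, true), (.we, true), (.wf, true), (.wg, true), (.wh, true), (.wb, true), (.wc, true), (.wd, true), (.we, true), (.wf, true), (.wg, true), (.wh, true), (.wb, true), (.wc, true), (.wd, true), (.we, true), (.wf, true), (.wg, true), (.wh, true), (.wb, true), (.wc, true), (.wd, true), (.we, true), (.wf, true), (.wg, true), (.wh, true), (.wb, true), (.wc, true), (.wd, true), (.we, true), (.wf, true), (.wg, true), (.wh, true), (.wb, true), (.wc, true), (.wd, true), (.we, true), (.wf, true), (.wg, true), (.wh, true), (.wb, true), (.wc, true), (.wd, true), (.we, true), (.wf, true), (.wg, true), (.wh, true), (.wb, true), (.wc, true), (.wd, true), (.we, true), (.wf, true), (.wg, true), (.wh, true), (.wb,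 true), (.wc, true), (.wd, true), (.we, true), (.wf, true), (.wg, true), (.wh, true)],
  [(.a, false), (.wb, true), (.wc, true), (.wd, true), (.wh, true), (.wi, true), (.wh, true), (.wd, true), (.we, true), (.wc, true), (.wd, true), (.wh, true), (.wb, true), (.wc, true), (.wd, true), (.we, true), (.wf, true), (.we, true), (.wd, true), (.wc, true), (.wb, true), (.wh, true), (.wd, true), (.wc, true), (.wf, true), (.we, true), (.wd, true), (.wc, true), (.wh, true), (.wd, true), (.we, true), (.wf, true), (.wi, true), (.wh, true), (.wd, true), (.wc, true), (.we, true), (.wd, true), (.wh, true), (.wi, true), (.wb, true), (.wc, true), (.wd, true), (.wh, true), (.we, true), (.wf, true), (.wd, true), (.we, true), (.wc, true), (.wd, true), (.wh, true), (.wb, true), (.wc, true), (.wd, true), (.we, true), (.wf, true), (.wi, true), (.z, true), (.z, true)],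
  [(.b, false), (.wf, true), (.we, true), (.wd, true), (.wh, true), (.wi, true), (.wg, true), (.wf, true), (.we, true), (.wc, true), (.wd, true), (.wh, true), (.wb, true), (.wc, true), (.wd, true), (.we, true), (.wf, true), (.wg, true), (.we, true), (.wc, true), (.wd, true), (.wh, true), (.wi, true), (.we, true), (.wf, true), (.wd, true), (.we, true), (.wc, true), (.wd, true), (.wh, true), (.wb, true), (.wc, true), (.wd, true), (.we, true), (.wf, true), (.wd, true), (.we, true), (.wh, true), (.wf, true), (.we, true), (.wd, true), (.wc, true), (.wb, true), (.wh, true), (.wd, true), (.wc, true), (.we, true), (.wd, true), (.wh, true), (.wi, true), (.wh, true), (.wd, true), (.wc, true), (.wb, true), (.we, true), (.wd, true), (.wc, true), (.wf, true), (.we, true), (.wd, true), (.wh, true), (.wd, true), (.we, true), (.wf, true), (.wc, true), (.wd, true), (.we, true), (.wb, true), (.wc, true), (.wd, true), (.wh, true), (.wi, true), (.wh, true), (.wd, true), (.we, true), (.wc, true), (.wd, true), (.wh, true), (.wb, true), (.wc, true), (.wd, true), (.we, true), (.wf, true), (.we, true), (.wd, true), (.wc, true), (.wh, true),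 (.wd, true), (.wi, true)],
  [(.t, false), (.wh, true), (.wi, true), (.wf, true), (.wd, true), (.we, true), (.wc, true), (.wd, true), (.wh, true), (.wb, true), (.wc, true), (.wd, true), (.we, true), (.wf, true), (.wg, true), (.wc, true), (.wd, true), (.wh, true), (.wi, true), (.wf, true), (.we, true), (.wd, true), (.wh, true), (.wc, true), (.wd, true), (.we, true), (.wf, true), (.wd, true), (.we, true), (.wd, true), (.wi, true), (.wf, true), (.we, true), (.wd, true), (.wc, true), (.wb, true), (.wh, true), (.wd, true), (.wc, true), (.we, true), (.wd, true), (.wf, true), (.we, true), (.wh, true), (.wd, true), (.wi, true), (.wh, true), (.wc, true), (.wd, true), (.we, true), (.wb, true), (.wc, true), (.wd, true), (.wh, true), (.wi, true), (.wf, true), (.we, true), (.wd, true), (.wh, true), (.wc, true), (.wd, true), (.we, true), (.wf, true), (.wb, true), (.wc, true), (.wd, true), (.we, true), (.z, true)] ]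

end Cfsg.Agent.Lib.Helper29.O73CDef
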