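import Cfsg.Agent.Lib.Helper28.TC2Glue
import Cfsg.Agent.Lib.Helper29.O73CDef
import Cfsg.Agent.Lib.Helper29.O73CTabA
import Cfsg.Agent.Lib.Helper29.O73CTabB
set_option autoImplicit false
set_option maxRecDepth 100000

namespace Cfsg.Agent.Lib.Helper29.O73CLink
open Cfsg.Agent.Lib.Helper28.TC2Upper Cfsg.Agent.Lib.Helper28.TC2Lower Cfsg.Agent.Lib.Helper28.TC2Glue

/-- all relators in list form -/
abbrev relWords : List (List (Cfsg.Agent.Lib.Helper29.O73CDef.Gen × Bool)) := Cfsg.Agent.Lib.Helper29.O73CDef.relWords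

/-- the subgroup generators in list form -/
def subWords : List (List (Cfsg.Agent.Lib.Helper29.O73CDef.Gen × Bool)) := [
  [(.a, true)],
  [(.b, true)],
  [(.t, true)],
  [(.z, true)] ]

/-- coding of the letters -/
def lw : Cfsg.Agent.Lib.Helper29.O73CDef.Gen × Bool → ℕ
  | (.a, true) => 0
  | (.a, false) => 1
  | (.b, true) => 2
  | (.b, false) => 3
  | (.t, true) => 4
  | (.t, false) => 5
  | (.z, true) => 6
  | (.z, false) => 7
  | (.wb, true) => 8
  | (.wb, false) => 9
  | (.wc, true) => 10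
  | (.wc, false) => 11
  | (.wd, true) => 12
  | (.wd, false) => 13
  | (.we, true) => 14
  | (.we, false) => 15
  | (.wf, true) => 16
  | (.wf, false) => 17
  | (.wg, true) => 18
  | (.wg, false) => 19
  | (.wh, true) => 20
  | (.wh, false) => 21
  | (.wi, true) => 22
  | (.wi, false) => 23
  | (.y, true) => 24
  | (.y, false) => 25

/-- decoding of the letters -/
def dec : ℕ → Cfsg.Agent.Lib.Helper29.O73CDef.Gen × Bool
  | 0 => (.a, true)
  | 1 => (.a, false)
  | 2 => (.b, true)
  | 3 => (.b, false)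
  | 4 => (.t, true)
  | 5 => (.t, false)
  | 6 => (.z, true)
  | 7 => (.z, false)
  | 8 => (.wb, true)
  | 9 => (.wb, false)
  | 10 => (.wc, true)
  | 11 => (.wc, false)
  | 12 => (.wd, true)
  | 13 => (.wd, false)
  | 14 => (.we, true)
  | 15 => (.we, false)
  | 16 => (.wf, true)
  | 17 => (.wf, false)
  | 18 => (.wg, true)
  | 19 => (.wg, false)
  | 20 => (.wh, true)
  | 21 => (.wh, false)
  | 22 => (.wi, true)
  | 23 => (.wi, false)
  | 24 => (.y, true)
  | _ => (.y, false)

/-- the relators -/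
abbrev rels : Set (FreeGroup Cfsg.Agent.Lib.Helper29.O73CDef.Gen) := {r | ∃ L ∈ relWords, r = FreeGroup.mk L}

/-- the subgroup generators -/
abbrev S : Set (FreeGroup Cfsg.Agent.Lib.Helper29.O73CDef.Gen) := {FreeGroup.of Cfsg.Agent.Lib.Helper29.O73CDef.Gen.a, FreeGroup.of Cfsg.Agent.Lib.Helper29.O73CDef.Gen.b, FreeGroup.of Cfsg.Agent.Lib.Helper29.O73CDef.Gen.t, FreeGroup.of Cfsg.Agent.Lib.Helper29.O73CDef.Gen.z}

theorem hrels : ∀ r, r ∈ rels ↔ ∃ L ∈ relWords, r = FreeGroup.mk L := fun _ => Iff.rfl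

theorem hS : ∀ s, s ∈ S ↔ ∃ L ∈ subWords, s = FreeGroup.mk L := by
  intro s
  simp only [S, subWords, Set.mem_insert_iff, Set.mem_singleton_iff, List.mem_cons, List.not_mem_nil,
    or_false, exists_eq_or_imp, exists_eq_left]
  try rfl

theorem hlwkA : ∀ xb, lw xb < O73CTabA.table.k := by rintro ⟨x, b⟩; cases x <;> cases b <;> decide
theorem hlwkB : ∀ xb, lw xb < O73CTabB.table.k := by rintro ⟨x, b⟩; cases x <;> cases b <;> decide
theorem hlwinvA : ∀ x, lw (x, false) = O73CTabA.table.invl (lw (x, true)) := by intro x; cases x <;> decide +kernel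
theorem hlwinvB : ∀ x, lw (x, false) = O73CTabB.table.invl (lw (x, true)) := by intro x; cases x <;> decide +kernel
theorem hd1 : ∀ l, l < 26 → lw (dec l) = l := by intro l hl; interval_cases l <;> rfl
theorem hrelmem : ∀ L ∈ relWords, pathOf lw L ∈ O73CTabA.relPaths := by decide +kernel
theorem hsubmem : ∀ L ∈ subWords, pathOf lw L ∈ O73CTabA.subPaths := by decide +kernel

end Cfsg.Agent.Lib.Helper29.O73CLink
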