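import Cfsg.Agent.Lib.Helper28.TC2Range
import Cfsg.Agent.Lib.Helper29.O73CLink
import Cfsg.Agent.Lib.Helper29.O73CChkA0
import Cfsg.Agent.Lib.Helper29.O73CChkA1
import Cfsg.Agent.Lib.Helper29.O73CChkAP
set_option autoImplicit false
set_option maxRecDepth 100000

namespace Cfsg.Agent.Lib.Helper29.O73CRelA
open Cfsg.Agent.Lib.Helper28.TC2Upper Cfsg.Agent.Lib.Helper28.TC2Lower Cfsg.Agent.Lib.Helper28.TC2Glue Cfsg.Agent.Lib.Helper28.TC2Range Cfsg.Agent.Lib.Helper29.O73CLink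

theorem hrelP : ∀ P ∈ Cfsg.Agent.Lib.Helper29.O73CTabA.relPaths, ∀ p, p < Cfsg.Agent.Lib.Helper29.O73CTabA.table.n → Cfsg.Agent.Lib.Helper29.O73CTabA.table.walkT P p = p := by
  intro P hm p hp
  have hp' : p < 2160 := hp
  rcases Nat.lt_or_ge p 255 with h0 | h0
  · exact (Table.relOK_iff Cfsg.Agent.Lib.Helper29.O73CTabA.relPaths 0 255).mp Cfsg.Agent.Lib.Helper29.O73CChkA0.rel0 p (by omega) (by omega) _ hm
  rcases Nat.lt_or_ge p 510 with h1 | h1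
  · exact (Table.relOK_iff Cfsg.Agent.Lib.Helper29.O73CTabA.relPaths 255 255).mp Cfsg.Agent.Lib.Helper29.O73CChkA0.rel1 p (by omega) (by omega) _ hm
  rcases Nat.lt_or_ge p 765 with h2 | h2
  · exact (Table.relOK_iff Cfsg.Agent.Lib.Helper29.O73CTabA.relPaths 510 255).mp Cfsg.Agent.Lib.Helper29.O73CChkA0.rel2 p (by omega) (by omega) _ hm
  rcases Nat.lt_or_ge p 1020 with h3 | h3
  · exact (Table.relOK_iff Cfsg.Agent.Lib.Helper29.O73CTabA.relPaths 765 255).mp Cfsg.Agent.Lib.Helper29.O73CChkA0.rel3 p (by omega) (by omega) _ hm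
  rcases Nat.lt_or_ge p 1275 with h4 | h4
  · exact (Table.relOK_iff Cfsg.Agent.Lib.Helper29.O73CTabA.relPaths 1020 255).mp Cfsg.Agent.Lib.Helper29.O73CChkA0.rel4 p (by omega) (by omega) _ hm
  rcases Nat.lt_or_ge p 1530 with h5 | h5
  · exact (Table.relOK_iff Cfsg.Agent.Lib.Helper29.O73CTabA.relPaths 1275 255).mp Cfsg.Agent.Lib.Helper29.O73CChkA1.rel5 p (by omega) (by omega) _ hm
  rcases Nat.lt_or_ge p 1785 with h6 | h6
  · exact (Table.relOK_iff Cfsg.Agent.Lib.Helper29.O73CTabA.relPaths 1530 255).mp Cfsg.Agent.Lib.Helper29.O73CChkA1.rel6 p (by omega) (by omega) _ hm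
  rcases Nat.lt_or_ge p 2040 with h7 | h7
  · exact (Table.relOK_iff Cfsg.Agent.Lib.Helper29.O73CTabA.relPaths 1785 255).mp Cfsg.Agent.Lib.Helper29.O73CChkA1.rel7 p (by omega) (by omega) _ hm
  exact (Table.relOK_iff Cfsg.Agent.Lib.Helper29.O73CTabA.relPaths 2040 120).mp Cfsg.Agent.Lib.Helper29.O73CChkA1.rel8 p (by omega) (by omega) _ hm

theorem hrelT : ∀ L ∈ relWords, ∀ p, p < Cfsg.Agent.Lib.Helper29.O73CTabA.table.n → Cfsg.Agent.Lib.Helper29.O73CTabA.table.walkT (pathOf lw L) p = p :=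
  fun L hL => hrelP _ (hrelmem L hL)

end Cfsg.Agent.Lib.Helper29.O73CRelA
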