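import Cfsg.Agent.Lib.Helper28.TC2Range
import Cfsg.Agent.Lib.Helper29.O73CLink
import Cfsg.Agent.Lib.Helper29.O73CChkB0
import Cfsg.Agent.Lib.Helper29.O73CChkB1
import Cfsg.Agent.Lib.Helper29.O73CChkB2
import Cfsg.Agent.Lib.Helper29.O73CChkB3
import Cfsg.Agent.Lib.Helper29.O73CChkB4
import Cfsg.Agent.Lib.Helper29.O73CChkB5
import Cfsg.Agent.Lib.Helper29.O73CChkB6
import Cfsg.Agent.Lib.Helper29.O73CChkB7
import Cfsg.Agent.Lib.Helper29.O73CChkBP
set_option autoImplicit false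
set_option maxRecDepth 100000

namespace Cfsg.Agent.Lib.Helper29.O73CRelB
open Cfsg.Agent.Lib.Helper28.TC2Upper Cfsg.Agent.Lib.Helper28.TC2Lower Cfsg.Agent.Lib.Helper28.TC2Glue Cfsg.Agent.Lib.Helper28.TC2Range Cfsg.Agent.Lib.Helper29.O73CLink

theorem hrelP : ∀ P ∈ Cfsg.Agent.Lib.Helper29.O73CTabA.relPaths, ∀ p, p < Cfsg.Agent.Lib.Helper29.O73CTabB.table.n → Cfsg.Agent.Lib.Helper29.O73CTabB.table.walkT P p = p := by
  intro P hm p hp
  have hp' : p < 9477 := hp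
  rcases Nat.lt_or_ge p 255 with h0 | h0
  · exact (Table.relOK_iff Cfsg.Agent.Lib.Helper29.O73CTabA.relPaths 0 255).mp Cfsg.Agent.Lib.Helper29.O73CChkB0.rel0 p (by omega) (by omega) _ hm
  rcases Nat.lt_or_ge p 510 with h1 | h1
  · exact (Table.relOK_iff Cfsg.Agent.Lib.Helper29.O73CTabA.relPaths 255 255).mp Cfsg.Agent.Lib.Helper29.O73CChkB0.rel1 p (by omega) (by omega) _ hm
  rcases Nat.lt_or_ge p 765 with h2 | h2
  · exact (Table.relOK_iff Cfsg.Agent.Lib.Helper29.O73CTabA.relPaths 510 255).mp Cfsg.Agent.Lib.Helper29.O73CChkB0.rel2 p (by omega) (by omega) _ hm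
  rcases Nat.lt_or_ge p 1020 with h3 | h3
  · exact (Table.relOK_iff Cfsg.Agent.Lib.Helper29.O73CTabA.relPaths 765 255).mp Cfsg.Agent.Lib.Helper29.O73CChkB0.rel3 p (by omega) (by omega) _ hm
  rcases Nat.lt_or_ge p 1275 with h4 | h4
  · exact (Table.relOK_iff Cfsg.Agent.Lib.Helper29.O73CTabA.relPaths 1020 255).mp Cfsg.Agent.Lib.Helper29.O73CChkB0.rel4 p (by omega) (by omega) _ hm
  rcases Nat.lt_or_ge p 1530 with h5 | h5
  · exact (Table.relOK_iff Cfsg.Agent.Lib.Helper29.O73CTabA.relPaths 1275 255).mp Cfsg.Agent.Lib.Helper29.O73CChkB1.rel5 p (by omega) (by omega) _ hm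
  rcases Nat.lt_or_ge p 1785 with h6 | h6
  · exact (Table.relOK_iff Cfsg.Agent.Lib.Helper29.O73CTabA.relPaths 1530 255).mp Cfsg.Agent.Lib.Helper29.O73CChkB1.rel6 p (by omega) (by omega) _ hm
  rcases Nat.lt_or_ge p 2040 with h7 | h7
  · exact (Table.relOK_iff Cfsg.Agent.Lib.Helper29.O73CTabA.relPaths 1785 255).mp Cfsg.Agent.Lib.Helper29.O73CChkB1.rel7 p (by omega) (by omega) _ hm
  rcases Nat.lt_or_ge p 2295 with h8 | h8
  · exact (Table.relOK_iff Cfsg.Agent.Lib.Helper29.O73CTabA.relPaths 2040 255).mp Cfsg.Agent.Lib.Helper29.O73CChkB1.rel8 p (by omega) (by omega) _ hm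
  rcases Nat.lt_or_ge p 2550 with h9 | h9
  · exact (Table.relOK_iff Cfsg.Agent.Lib.Helper29.O73CTabA.relPaths 2295 255).mp Cfsg.Agent.Lib.Helper29.O73CChkB1.rel9 p (by omega) (by omega) _ hm
  rcases Nat.lt_or_ge p 2805 with h10 | h10
  · exact (Table.relOK_iff Cfsg.Agent.Lib.Helper29.O73CTabA.relPaths 2550 255).mp Cfsg.Agent.Lib.Helper29.O73CChkB2.rel10 p (by omega) (by omega) _ hm
  rcases Nat.lt_or_ge p 3060 with h11 | h11
  · exact (Table.relOK_iff Cfsg.Agent.Lib.Helper29.O73CTabA.relPaths 2805 255).mp Cfsg.Agent.Lib.Helper29.O73CChkB2.rel11 p (by omega) (by omega) _ hm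
  rcases Nat.lt_or_ge p 3315 with h12 | h12
  · exact (Table.relOK_iff Cfsg.Agent.Lib.Helper29.O73CTabA.relPaths 3060 255).mp Cfsg.Agent.Lib.Helper29.O73CChkB2.rel12 p (by omega) (by omega) _ hm
  rcases Nat.lt_or_ge p 3570 with h13 | h13
  · exact (Table.relOK_iff Cfsg.Agent.Lib.Helper29.O73CTabA.relPaths 3315 255).mp Cfsg.Agent.Lib.Helper29.O73CChkB2.rel13 p (by omega) (by omega) _ hm
  rcases Nat.lt_or_ge p 3825 with h14 | h14
  · exact (Table.relOK_iff Cfsg.Agent.Lib.Helper29.O73CTabA.relPaths 3570 255).mp Cfsg.Agent.Lib.Helper29.O73CChkB2.rel14 p (by omega) (by omega) _ hm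
  rcases Nat.lt_or_ge p 4080 with h15 | h15
  · exact (Table.relOK_iff Cfsg.Agent.Lib.Helper29.O73CTabA.relPaths 3825 255).mp Cfsg.Agent.Lib.Helper29.O73CChkB3.rel15 p (by omega) (by omega) _ hm
  rcases Nat.lt_or_ge p 4335 with h16 | h16
  · exact (Table.relOK_iff Cfsg.Agent.Lib.Helper29.O73CTabA.relPaths 4080 255).mp Cfsg.Agent.Lib.Helper29.O73CChkB3.rel16 p (by omega) (by omega) _ hm
  rcases Nat.lt_or_ge p 4590 with h17 | h17
  · exact (Table.relOK_iff Cfsg.Agent.Lib.Helper29.O73CTabA.relPaths 4335 255).mp Cfsg.Agent.Lib.Helper29.O73CChkB3.rel17 p (by omega) (by omega) _ hm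
  rcases Nat.lt_or_ge p 4845 with h18 | h18
  · exact (Table.relOK_iff Cfsg.Agent.Lib.Helper29.O73CTabA.relPaths 4590 255).mp Cfsg.Agent.Lib.Helper29.O73CChkB3.rel18 p (by omega) (by omega) _ hm
  rcases Nat.lt_or_ge p 5100 with h19 | h19
  · exact (Table.relOK_iff Cfsg.Agent.Lib.Helper29.O73CTabA.relPaths 4845 255).mp Cfsg.Agent.Lib.Helper29.O73CChkB3.rel19 p (by omega) (by omega) _ hm
  rcases Nat.lt_or_ge p 5355 with h20 | h20
  · exact (Table.relOK_iff Cfsg.Agent.Lib.Helper29.O73CTabA.relPaths 5100 255).mp Cfsg.Agent.Lib.Helper29.O73CChkB4.rel20 p (by omega) (by omega) _ hm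
  rcases Nat.lt_or_ge p 5610 with h21 | h21
  · exact (Table.relOK_iff Cfsg.Agent.Lib.Helper29.O73CTabA.relPaths 5355 255).mp Cfsg.Agent.Lib.Helper29.O73CChkB4.rel21 p (by omega) (by omega) _ hm
  rcases Nat.lt_or_ge p 5865 with h22 | h22
  · exact (Table.relOK_iff Cfsg.Agent.Lib.Helper29.O73CTabA.relPaths 5610 255).mp Cfsg.Agent.Lib.Helper29.O73CChkB4.rel22 p (by omega) (by omega) _ hm
  rcases Nat.lt_or_ge p 6120 with h23 | h23
  · exact (Table.relOK_iff Cfsg.Agent.Lib.Helper29.O73CTabA.relPaths 5865 255).mp Cfsg.Agent.Lib.Helper29.O73CChkB4.rel23 p (by omega) (by omega) _ hm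
  rcases Nat.lt_or_ge p 6375 with h24 | h24
  · exact (Table.relOK_iff Cfsg.Agent.Lib.Helper29.O73CTabA.relPaths 6120 255).mp Cfsg.Agent.Lib.Helper29.O73CChkB4.rel24 p (by omega) (by omega) _ hm
  rcases Nat.lt_or_ge p 6630 with h25 | h25
  · exact (Table.relOK_iff Cfsg.Agent.Lib.Helper29.O73CTabA.relPaths 6375 255).mp Cfsg.Agent.Lib.Helper29.O73CChkB5.rel25 p (by omega) (by omega) _ hm
  rcases Nat.lt_or_ge p 6885 with h26 | h26
  · exact (Table.relOK_iff Cfsg.Agent.Lib.Helper29.O73CTabA.relPaths 6630 255).mp Cfsg.Agent.Lib.Helper29.O73CChkB5.rel26 p (by omega) (by omega) _ hm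
  rcases Nat.lt_or_ge p 7140 with h27 | h27
  · exact (Table.relOK_iff Cfsg.Agent.Lib.Helper29.O73CTabA.relPaths 6885 255).mp Cfsg.Agent.Lib.Helper29.O73CChkB5.rel27 p (by omega) (by omega) _ hm
  rcases Nat.lt_or_ge p 7395 with h28 | h28
  · exact (Table.relOK_iff Cfsg.Agent.Lib.Helper29.O73CTabA.relPaths 7140 255).mp Cfsg.Agent.Lib.Helper29.O73CChkB5.rel28 p (by omega) (by omega) _ hm
  rcases Nat.lt_or_ge p 7650 with h29 | h29
  · exact (Table.relOK_iff Cfsg.Agent.Lib.Helper29.O73CTabA.relPaths 7395 255).mp Cfsg.Agent.Lib.Helper29.O73CChkB5.rel29 p (by omega) (by omega) _ hm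
  rcases Nat.lt_or_ge p 7905 with h30 | h30
  · exact (Table.relOK_iff Cfsg.Agent.Lib.Helper29.O73CTabA.relPaths 7650 255).mp Cfsg.Agent.Lib.Helper29.O73CChkB6.rel30 p (by omega) (by omega) _ hm
  rcases Nat.lt_or_ge p 8160 with h31 | h31
  · exact (Table.relOK_iff Cfsg.Agent.Lib.Helper29.O73CTabA.relPaths 7905 255).mp Cfsg.Agent.Lib.Helper29.O73CChkB6.rel31 p (by omega) (by omega) _ hm
  rcases Nat.lt_or_ge p 8415 with h32 | h32
  · exact (Table.relOK_iff Cfsg.Agent.Lib.Helper29.O73CTabA.relPaths 8160 255).mp Cfsg.Agent.Lib.Helper29.O73CChkB6.rel32 p (by omega) (by omega) _ hm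
  rcases Nat.lt_or_ge p 8670 with h33 | h33
  · exact (Table.relOK_iff Cfsg.Agent.Lib.Helper29.O73CTabA.relPaths 8415 255).mp Cfsg.Agent.Lib.Helper29.O73CChkB6.rel33 p (by omega) (by omega) _ hm
  rcases Nat.lt_or_ge p 8925 with h34 | h34
  · exact (Table.relOK_iff Cfsg.Agent.Lib.Helper29.O73CTabA.relPaths 8670 255).mp Cfsg.Agent.Lib.Helper29.O73CChkB6.rel34 p (by omega) (by omega) _ hm
  rcases Nat.lt_or_ge p 9180 with h35 | h35
  · exact (Table.relOK_iff Cfsg.Agent.Lib.Helper29.O73CTabA.relPaths 8925 255).mp Cfsg.Agent.Lib.Helper29.O73CChkB7.rel35 p (by omega) (by omega) _ hm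
  rcases Nat.lt_or_ge p 9435 with h36 | h36
  · exact (Table.relOK_iff Cfsg.Agent.Lib.Helper29.O73CTabA.relPaths 9180 255).mp Cfsg.Agent.Lib.Helper29.O73CChkB7.rel36 p (by omega) (by omega) _ hm
  exact (Table.relOK_iff Cfsg.Agent.Lib.Helper29.O73CTabA.relPaths 9435 42).mp Cfsg.Agent.Lib.Helper29.O73CChkB7.rel37 p (by omega) (by omega) _ hm

theorem hrelT : ∀ L ∈ relWords, ∀ p, p < Cfsg.Agent.Lib.Helper29.O73CTabB.table.n → Cfsg.Agent.Lib.Helper29.O73CTabB.table.walkT (pathOf lw L) p = p :=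
  fun L hL => hrelP _ (hrelmem L hL)

end Cfsg.Agent.Lib.Helper29.O73CRelB
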