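import Cfsg.Agent.Lib.Helper28.TCFi22W1Def
set_option autoImplicit false

namespace Cfsg.Agent.Lib.Helper29.O73CWords

/-- the generator `a` of `G₂(3)` as a word in the generators of `O₇(3)` -/
def wordA : List (Cfsg.Agent.Lib.Helper28.TCFi22W1Def.Gen × Bool) := [(.b, true), (.c, true), (.d, true), (.h, true), (.i, true), (.h, true), (.d, true), (.e, true), (.c, true), (.d, true), (.h, true), (.b, true), (.c, true), (.d, true), (.e, true), (.f, true), (.e, true), (.d, true), (.c, true), (.b, true), (.h, true), (.d, true), (.c, true), (.f, true), (.e, true), (.d, true), (.c, true), (.h, true), (.d, true), (.e, true), (.f, true), (.i, true), (.h, true), (.d, true), (.c, true), (.e, true), (.d, true), (.h, true), (.i, true), (.b, true), (.c, true), (.d, true), (.h, true), (.e, true), (.f, true), (.d, true), (.e, true), (.c, true), (.d, true), (.h, true), (.b, true), (.c, true), (.d, true), (.e, true), (.f, true), (.i, true)]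

/-- the generator `b` -/
def wordB : List (Cfsg.Agent.Lib.Helper28.TCFi22W1Def.Gen × Bool) := [(.f, true), (.e, true), (.d, true), (.h, true), (.i, true), (.g, true), (.f, true), (.e, true), (.c, true), (.d, true), (.h, true), (.b, true), (.c, true), (.d, true), (.e, true), (.f, true), (.g, true), (.e, true), (.c, true), (.d, true), (.h, true), (.i, true), (.e, true), (.f, true), (.d, true), (.e, true), (.c, true), (.d, true), (.h, true), (.b, true), (.c, true), (.d, true), (.e, true), (.f, true), (.d, true), (.e, true), (.h, true), (.f, true), (.e, true), (.d, true), (.c, true), (.b, true), (.h, true), (.d, true), (.c, true), (.e, true), (.d, true), (.h, true), (.i, true), (.h, true), (.d, true), (.c, true), (.b, true), (.e, true), (.d, true), (.c, true), (.f, true), (.e, true), (.d, true), (.h, true), (.d, true), (.e, true), (.f, true), (.c, true), (.d, true), (.e, true), (.b, true), (.c, true), (.d, true), (.h, true), (.i, true), (.h, true), (.d, true), (.e, true), (.c, true), (.d, true), (.h, true), (.b, true), (.c, true), (.d, true), (.e, true), (.f, true), (.e, true), (.d, true), (.c, true), (.h, true), (.d, true), (.i, true)]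

/-- the generator `t` -/
def wordT : List (Cfsg.Agent.Lib.Helper28.TCFi22W1Def.Gen × Bool) := [(.h, true), (.i, true), (.f, true), (.d, true), (.e, true), (.c, true), (.d, true), (.h, true), (.b, true), (.c, true), (.d, true), (.e, true), (.f, true), (.g, true), (.c, true), (.d, true), (.h, true), (.i, true), (.f, true), (.e, true), (.d, true), (.h, true), (.c, true), (.d, true), (.e, true), (.f, true), (.d, true), (.e, true), (.d, true), (.i, true), (.f, true), (.e, true), (.d, true), (.c, true), (.b, true), (.h, true), (.d, true), (.c, true), (.e, true), (.d, true), (.f, true), (.e, true), (.h, true), (.d, true), (.i, true), (.h, true), (.c, true), (.d, true), (.e, true), (.b, true), (.c, true), (.d, true), (.h, true), (.i, true), (.f, true), (.e, true), (.d, true), (.h, true), (.c, true), (.d, true), (.e, true), (.f, true), (.b, true), (.c, true), (.d, true), (.e, true)]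

end Cfsg.Agent.Lib.Helper29.O73CWords
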