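import Cfsg.Agent.Lib.Helper29.TabHom
import Cfsg.Agent.Lib.Helper29.O73CLink
import Cfsg.Agent.Lib.Helper29.O73CWords
import Cfsg.Agent.Lib.Helper28.TCFi22Tower
import Cfsg.Agent.Lib.Helper28.TC2Tower

set_option autoImplicit false
set_option maxRecDepth 100000

/-!
# The sextuple cover of `O₇(3)` as a presented group: central elements and the bound for the order

`G = ⟨a, b, t, z, wb, …, wi, y | …⟩`: the relators of the triple cover of `G₂(3)` on `a, b, t, z`, the relators of
helper28's presentation of `O₇(3)` on `wb, …, wi` twisted by the central elements `y` (of order 2) and `z` (of order 3),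
and relators expressing `a, b, t` as words in `wb, …, wi`.  Modulo `⟨z y⟩` the group is a quotient of the presented
`O₇(3)`, which gives `|G| ≤ 6 |O₇(3)|`.
-/

namespace Cfsg.Agent.Lib.Helper29.O73CSchur

open Cfsg.Agent.Lib.Helper28.TC2Lower Cfsg.Agent.Lib.Helper28.TC2Glue Cfsg.Agent.Lib.Helper28.TC2Tower
open Cfsg.Agent.Lib.Helper29.O73CLink
open Cfsg.Agent.Lib.Helper29.O73CDef (Gen)

/-- the presented group -/
abbrev G : Type := PresentedGroup rels

/-- the subgroup generated by `a, b, t, z` -/
abbrev H : Subgroup G := (Subgroup.closure S).map (PresentedGroup.mk rels)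

theorem mk_rel (L : List (Gen × Bool)) (hL : L ∈ relWords) :
    PresentedGroup.mk rels (FreeGroup.mk L) = 1 :=
  PresentedGroup.one_of_mem ⟨L, hL, rfl⟩

/-- value of a letter -/
def lv (xb : Gen × Bool) : G := cond xb.2 (PresentedGroup.of xb.1) (PresentedGroup.of xb.1)⁻¹

theorem mk_eq_prod (L : List (Gen × Bool)) :
    PresentedGroup.mk rels (FreeGroup.mk L) = (L.map lv).prod := by
  have h1 : PresentedGroup.mk rels = FreeGroup.lift (fun x => (PresentedGroup.of x : G)) := by
    apply FreeGroup.ext_hom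
    intro x
    rw [FreeGroup.lift_apply_of]
    rfl
  rw [h1, FreeGroup.lift_mk]
  rfl

theorem mk_append (L₁ L₂ : List (Gen × Bool)) :
    PresentedGroup.mk rels (FreeGroup.mk (L₁ ++ L₂)) =
      PresentedGroup.mk rels (FreeGroup.mk L₁) * PresentedGroup.mk rels (FreeGroup.mk L₂) := by
  rw [mk_eq_prod, mk_eq_prod, mk_eq_prod, List.map_append, List.prod_append]

/-! ### the central elements -/

/-- the central element of order 3 -/
noncomputable def zc : G := PresentedGroup.of Gen.z
/-- the central element of order 2 -/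
noncomputable def yc : G := PresentedGroup.of Gen.y

theorem comm_of_rel (u x : Gen) (h : [(u, false), (x, false), (u, true), (x, true)] ∈ relWords) :
    (PresentedGroup.of u : G) * PresentedGroup.of x = PresentedGroup.of x * PresentedGroup.of u := by
  have h1 := mk_rel _ h
  rw [mk_eq_prod] at h1
  have h' : (PresentedGroup.of u : G)⁻¹ * ((PresentedGroup.of x)⁻¹ * (PresentedGroup.of u * (PresentedGroup.of x * 1))) = 1 := h1
  calc (PresentedGroup.of u : G) * PresentedGroup.of x
      = PresentedGroup.of x * PresentedGroup.of u * ((PresentedGroup.of u : G)⁻¹ * ((PresentedGroup.of x)⁻¹ * (PresentedGroup.of u * (PresentedGroup.of x * 1)))) := by group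
    _ = _ := by rw [h', mul_one]

theorem zc_comm (x : Gen) : zc * PresentedGroup.of x = PresentedGroup.of x * zc := by
  cases x
  case z => rfl
  case y => exact (comm_of_rel .y .z (by decide)).symm
  all_goals exact comm_of_rel .z _ (by decide)

theorem yc_comm (x : Gen) : yc * PresentedGroup.of x = PresentedGroup.of x * yc := by
  cases x
  case y => rfl
  all_goals exact comm_of_rel .y _ (by decide)

theorem central_of_comm (c : G) (h : ∀ x : Gen, c * PresentedGroup.of x = PresentedGroup.of x * c) :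
    c ∈ Subgroup.center G := by
  have h1 : (⊤ : Subgroup G) ≤ Subgroup.centralizer {c} := by
    rw [← PresentedGroup.closure_range_of, Subgroup.closure_le]
    rintro _ ⟨x, rfl⟩
    rw [SetLike.mem_coe, Subgroup.mem_centralizer_iff]
    intro k hk
    rw [Set.mem_singleton_iff] at hk
    rw [hk]
    exact h x
  rw [Subgroup.mem_center_iff]
  intro g
  have := Subgroup.mem_centralizer_iff.mp (h1 (Subgroup.mem_top g)) c rfl
  exact this.symm

theorem zc_central : zc ∈ Subgroup.center G := central_of_comm zc zc_comm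
theorem yc_central : yc ∈ Subgroup.center G := central_of_comm yc yc_comm

theorem zc_pow : zc ^ 3 = 1 := by
  have h := mk_rel [(.z, true), (.z, true), (.z, true)] (by decide)
  rw [mk_eq_prod] at h
  have h' : zc * (zc * (zc * 1)) = 1 := h
  rw [pow_succ, pow_two, mul_assoc]
  rwa [mul_one] at h'

theorem yc_pow : yc ^ 2 = 1 := by
  have h := mk_rel [(.y, true), (.y, true)] (by decide)
  rw [mk_eq_prod] at h
  have h' : yc * (yc * 1) = 1 := h
  rw [pow_two]
  rwa [mul_one] at h'

theorem zy_comm : Commute zc yc := by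
  have := (Subgroup.mem_center_iff.mp zc_central) yc
  exact this.symm

/-- the generator of the kernel -/
noncomputable def wc : G := zc * yc

theorem wc_central : wc ∈ Subgroup.center G := Subgroup.mul_mem _ zc_central yc_central

theorem wc_pow : wc ^ 6 = 1 := by
  unfold wc
  rw [zy_comm.mul_pow, show (6 : ℕ) = 3 * 2 from rfl, pow_mul, zc_pow, one_pow, one_mul, mul_comm 3 2, pow_mul, yc_pow,
    one_pow]

/-- the central subgroup of order (at most) 6 -/
noncomputable def N : Subgroup G := Subgroup.zpowers wc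

theorem N_le_center : N ≤ Subgroup.center G := Subgroup.zpowers_le.mpr wc_central

theorem zc_mem_N : zc ∈ N := by
  have h : wc ^ 4 = zc := by
    unfold wc
    rw [zy_comm.mul_pow, show (4 : ℕ) = 3 + 1 from rfl, pow_add, zc_pow, one_mul, pow_one,
      show (3 + 1 : ℕ) = 2 * 2 from rfl, pow_mul, yc_pow, one_pow, mul_one]
  rw [← h]
  exact Subgroup.pow_mem _ (Subgroup.mem_zpowers wc) 4

theorem yc_mem_N : yc ∈ N := by
  have h : wc ^ 3 = yc := by
    unfold wc
    rw [zy_comm.mul_pow, zc_pow, one_mul, show (3 : ℕ) = 2 + 1 from rfl, pow_add, yc_pow, one_mul, pow_one]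
  rw [← h]
  exact Subgroup.pow_mem _ (Subgroup.mem_zpowers wc) 3

theorem card_N_le : Nat.card N ≤ 6 := by
  unfold N
  rw [Nat.card_zpowers]
  exact orderOf_le_of_pow_eq_one (by norm_num) wc_pow

instance N_normal : N.Normal := ⟨fun n hn g => by
  have hc := Subgroup.mem_center_iff.mp (N_le_center hn) g
  rw [hc, mul_inv_cancel_right]
  exact hn⟩

/-! ### the presented `O₇(3)` maps onto the quotient -/

/-- the generators of helper28's presentation -/
abbrev W1Gen : Type := Cfsg.Agent.Lib.Helper28.TCFi22W1Def.Gen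

/-- helper28's presented `O₇(3)` -/
abbrev W1 : Type := PresentedGroup Cfsg.Agent.Lib.Helper28.TCFi22W1Link.rels

/-- the generators of `O₇(3)` as generators of the cover -/
def upW : W1Gen → Gen
  | .b => .wb
  | .c => .wc
  | .d => .wd
  | .e => .we
  | .f => .wf
  | .g => .wg
  | .h => .wh
  | .i => .wi

/-- the central words by which the relators are twisted -/
def cwords : List (List (Gen × Bool)) := [[], [(.y, true)], [(.y, true), (.z, true)]]

theorem w1_rel : ∀ L ∈ Cfsg.Agent.Lib.Helper28.TCFi22W1Link.relWords,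
    ∃ c ∈ cwords, upWord upW L ++ c ∈ relWords := by decide +kernel

theorem cword_mem_N (c : List (Gen × Bool)) (hc : c ∈ cwords) :
    PresentedGroup.mk rels (FreeGroup.mk c) ∈ N := by
  simp only [cwords, List.mem_cons, List.not_mem_nil, or_false] at hc
  rcases hc with rfl | rfl | rfl
  · rw [mk_eq_prod]
    exact Subgroup.one_mem _
  · rw [mk_eq_prod]
    show yc * 1 ∈ N
    rw [mul_one]
    exact yc_mem_N
  · rw [mk_eq_prod]
    show yc * (zc * 1) ∈ N
    rw [mul_one]
    exact Subgroup.mul_mem _ yc_mem_N zc_mem_N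

theorem upWord_mem_N (L : List (W1Gen × Bool)) (hL : L ∈ Cfsg.Agent.Lib.Helper28.TCFi22W1Link.relWords) :
    PresentedGroup.mk rels (FreeGroup.mk (upWord upW L)) ∈ N := by
  obtain ⟨c, hc, hm⟩ := w1_rel L hL
  have h1 := mk_rel _ hm
  rw [mk_append] at h1
  have h2 : PresentedGroup.mk rels (FreeGroup.mk (upWord upW L)) =
      (PresentedGroup.mk rels (FreeGroup.mk c))⁻¹ := eq_inv_of_mul_eq_one_left h1
  rw [h2]
  exact Subgroup.inv_mem _ (cword_mem_N c hc)

/-- the images of the generators of `O₇(3)` in the quotient -/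
noncomputable def fθ (x : W1Gen) : G ⧸ N := QuotientGroup.mk (PresentedGroup.of (upW x))

theorem lift_fθ : FreeGroup.lift fθ =
    (QuotientGroup.mk' N).comp ((PresentedGroup.mk rels).comp (FreeGroup.map upW)) := by
  apply FreeGroup.ext_hom
  intro x
  rw [FreeGroup.lift_apply_of]
  rfl

theorem lift_fθ_mk (L : List (W1Gen × Bool)) :
    FreeGroup.lift fθ (FreeGroup.mk L) =
      (QuotientGroup.mk (PresentedGroup.mk rels (FreeGroup.mk (upWord upW L))) : G ⧸ N) := by
  rw [lift_fθ]
  rfl

theorem hθrel : ∀ r ∈ Cfsg.Agent.Lib.Helper28.TCFi22W1Link.rels, FreeGroup.lift fθ r = 1 := by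
  intro r hr
  obtain ⟨L, hL, rfl⟩ := (Cfsg.Agent.Lib.Helper28.TCFi22W1Link.link.hrels r).mp hr
  rw [lift_fθ_mk]
  exact (QuotientGroup.eq_one_iff _).mpr (upWord_mem_N L hL)

/-- the homomorphism from the presented `O₇(3)` onto the quotient -/
noncomputable def θ : W1 →* G ⧸ N := PresentedGroup.toGroup hθrel

theorem θ_of (x : W1Gen) : θ (PresentedGroup.of x) = fθ x := PresentedGroup.toGroup.of hθrel

theorem θ_mk (L : List (W1Gen × Bool)) :
    θ (PresentedGroup.mk _ (FreeGroup.mk L)) =
      (QuotientGroup.mk (PresentedGroup.mk rels (FreeGroup.mk (upWord upW L))) : G ⧸ N) := by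
  rw [← lift_fθ_mk]
  rfl

open Cfsg.Agent.Lib.Helper29.O73CWords in
theorem link_rels :
    ((.a, false) :: (upWord upW wordA ++ [(.z, true), (.z, true)])) ∈ relWords ∧
    ((.b, false) :: (upWord upW wordB ++ [])) ∈ relWords ∧
    ((.t, false) :: (upWord upW wordT ++ [(.z, true)])) ∈ relWords := by decide +kernel

theorem of_eq_of_link (x : Gen) (L c : List (Gen × Bool)) (h : ((x, false) :: (L ++ c)) ∈ relWords)
    (hc : PresentedGroup.mk rels (FreeGroup.mk c) ∈ N) :
    (QuotientGroup.mk (PresentedGroup.of x) : G ⧸ N) =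
      QuotientGroup.mk (PresentedGroup.mk rels (FreeGroup.mk L)) := by
  have h1 := mk_rel _ h
  have h2 : PresentedGroup.mk rels (FreeGroup.mk ((x, false) :: (L ++ c))) =
      (PresentedGroup.of x : G)⁻¹ * (PresentedGroup.mk rels (FreeGroup.mk L) * PresentedGroup.mk rels (FreeGroup.mk c)) := by
    rw [← mk_append, mk_eq_prod, mk_eq_prod, List.map_cons, List.prod_cons]
    rfl
  rw [h2] at h1
  have h3 : (PresentedGroup.of x : G) =
      PresentedGroup.mk rels (FreeGroup.mk L) * PresentedGroup.mk rels (FreeGroup.mk c) :=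
    inv_injective (eq_inv_of_mul_eq_one_left h1)
  rw [h3, QuotientGroup.mk_mul, (QuotientGroup.eq_one_iff _).mpr hc, mul_one]

theorem θ_surjective : Function.Surjective θ := by
  rw [← MonoidHom.range_eq_top]
  have hgen : ∀ x : Gen, (QuotientGroup.mk (PresentedGroup.of x) : G ⧸ N) ∈ θ.range := by
    have hN1 : PresentedGroup.mk rels (FreeGroup.mk ([] : List (Gen × Bool))) ∈ N := by
      rw [mk_eq_prod]; exact Subgroup.one_mem _
    have hNz : PresentedGroup.mk rels (FreeGroup.mk [(Gen.z, true)]) ∈ N := by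
      rw [mk_eq_prod]
      show zc * 1 ∈ N
      rw [mul_one]; exact zc_mem_N
    have hNzz : PresentedGroup.mk rels (FreeGroup.mk [(Gen.z, true), (Gen.z, true)]) ∈ N := by
      rw [mk_eq_prod]
      show zc * (zc * 1) ∈ N
      rw [mul_one]; exact Subgroup.mul_mem _ zc_mem_N zc_mem_N
    intro x
    cases x
    case a => exact ⟨_, (θ_mk _).trans (of_eq_of_link _ _ _ link_rels.1 hNzz).symm⟩
    case b => exact ⟨_, (θ_mk _).trans (of_eq_of_link _ _ _ link_rels.2.1 hN1).symm⟩
    case t => exact ⟨_, (θ_mk _).trans (of_eq_of_link _ _ _ link_rels.2.2 hNz).symm⟩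
    case z => exact ⟨1, by rw [map_one]; exact ((QuotientGroup.eq_one_iff _).mpr zc_mem_N).symm⟩
    case y => exact ⟨1, by rw [map_one]; exact ((QuotientGroup.eq_one_iff _).mpr yc_mem_N).symm⟩
    case wb => exact ⟨PresentedGroup.of .b, θ_of .b⟩
    case wc => exact ⟨PresentedGroup.of .c, θ_of .c⟩
    case wd => exact ⟨PresentedGroup.of .d, θ_of .d⟩
    case we => exact ⟨PresentedGroup.of .e, θ_of .e⟩
    case wf => exact ⟨PresentedGroup.of .f, θ_of .f⟩
    case wg => exact ⟨PresentedGroup.of .g, θ_of .g⟩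
    case wh => exact ⟨PresentedGroup.of .h, θ_of .h⟩
    case wi => exact ⟨PresentedGroup.of .i, θ_of .i⟩
  have h1 : (⊤ : Subgroup G) ≤ θ.range.comap (QuotientGroup.mk' N) := by
    rw [← PresentedGroup.closure_range_of, Subgroup.closure_le]
    rintro _ ⟨x, rfl⟩
    exact hgen x
  rw [eq_top_iff]
  intro q _
  obtain ⟨g, rfl⟩ := QuotientGroup.mk_surjective q
  exact h1 (Subgroup.mem_top g)

instance finite_W1 : Finite W1 := Cfsg.Agent.Lib.Helper28.TCFi22Tower.card1.1

instance finite_quot : Finite (G ⧸ N) := Finite.of_surjective θ θ_surjective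

theorem card_quot_le : Nat.card (G ⧸ N) ≤ 4585351680 :=
  le_trans (Nat.card_le_card_of_surjective θ θ_surjective) Cfsg.Agent.Lib.Helper28.TCFi22Tower.card1.2

instance finite_N : Finite N := by
  unfold N
  have : orderOf wc ≠ 0 := by
    intro h
    have := orderOf_le_of_pow_eq_one (by norm_num : 0 < 6) wc_pow
    have hpos : 0 < orderOf wc := orderOf_pos_iff.mpr (isOfFinOrder_iff_pow_eq_one.mpr ⟨6, by norm_num, wc_pow⟩)
    omega
  exact Nat.finite_of_card_ne_zero (by rw [Nat.card_zpowers]; exact this)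

instance finite_G : Finite G := by
  apply Nat.finite_of_card_ne_zero
  rw [← N.index_mul_card]
  refine Nat.mul_ne_zero ?_ Nat.card_pos.ne'
  show Nat.card (G ⧸ N) ≠ 0
  exact Nat.card_pos.ne'

theorem card_le : Nat.card G ≤ 27512110080 := by
  rw [← N.index_mul_card]
  have h1 : N.index ≤ 4585351680 := card_quot_le
  calc N.index * Nat.card N ≤ 4585351680 * 6 := Nat.mul_le_mul h1 card_N_le
    _ = 27512110080 := by norm_num

end Cfsg.Agent.Lib.Helper29.O73CSchur
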