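import Cfsg.Agent.Lib.Helper29.O73CSchurA
import Cfsg.Agent.Lib.Helper29.O73CRelA
import Cfsg.Agent.Lib.Helper29.O73CRelB
import Cfsg.Agent.Lib.Helper29.G23CSchur3
import Cfsg.Agent.S1055

set_option autoImplicit false
set_option maxRecDepth 100000

/-!
# The sextuple cover of `O₇(3)`: the two permutation representations, the subgroup `3.G₂(3)`, the order

* on 9477 points the central element `z` acts nontrivially;
* the presented triple cover of `G₂(3)` embeds (its only normal subgroups are `1`, `⟨z⟩` and itself);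
* on 2160 points the subgroup `⟨a, b, t, z⟩` fixes the point `0`; by the bound for the order of the group this is the
  action on the cosets of that subgroup, and `|G| = 2160 · 3 · |G₂(3)| = 6 |O₇(3)|`.
-/

namespace Cfsg.Agent.Lib.Helper29.O73CSchur

open Cfsg.Agent.Lib.Helper28.TC2Lower Cfsg.Agent.Lib.Helper28.TC2Glue Cfsg.Agent.Lib.Helper28.TC2Tower
open Cfsg.Agent.Lib.Helper28.SchurFox
open Cfsg.Agent.Lib.Helper29.O73CLink
open Cfsg.Agent.Lib.Helper29.O73CDef (Gen)
open Cfsg.Agent.Lib.Helper29.G23CSchur (PG)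

/-! ### the representation on 9477 points -/

theorem exists_homB : ∃ φ : G →* Equiv.Perm (Fin O73CTabB.table.n),
    ∀ x, φ (PresentedGroup.of x) = Table.sigma O73CChkBP.hT (lw (x, true)) := by
  obtain ⟨φ, h, _⟩ := TabHom.exists_hom rels relWords lw O73CTabB.table hrels O73CChkBP.hT hlwkB hlwinvB
    O73CRelB.hrelT
  exact ⟨φ, h⟩

theorem tauB_z : O73CTabB.table.tau 6 0 = 6 := by decide +kernel

theorem hnB : 0 < O73CTabB.table.n := by decide

theorem zc_ne_one : zc ≠ 1 := by
  obtain ⟨φ, hφ⟩ := exists_homB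
  intro h
  have h1 : φ zc = 1 := by rw [h, map_one]
  have h2 : φ zc = Table.sigma O73CChkBP.hT 6 := hφ Gen.z
  have h3 : (Table.sigma O73CChkBP.hT 6 ⟨0, hnB⟩).val = O73CTabB.table.tau 6 0 :=
    Table.sigma_apply O73CChkBP.hT (by decide) _
  rw [← h2, h1, tauB_z] at h3
  exact absurd h3 (by decide)

theorem orderOf_zc : orderOf zc = 3 := by
  have : Fact (Nat.Prime 3) := ⟨Nat.prime_three⟩
  exact orderOf_eq_prime zc_pow zc_ne_one

/-! ### the triple cover of `G₂(3)` inside -/

/-- the generators of the presented `3.G₂(3)` as generators of the cover -/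
def up : Cfsg.Agent.Lib.Helper29.G23CDef.Gen → Gen
  | .a => .a
  | .b => .b
  | .t => .t
  | .z => .z

theorem up_rel : ∀ L ∈ Cfsg.Agent.Lib.Helper29.TCG23CLink.relWords, upWord up L ∈ relWords := by
  decide +kernel

theorem hrelmap : ∀ r ∈ Cfsg.Agent.Lib.Helper29.TCG23CLink.rels, FreeGroup.map up r ∈ rels :=
  hrel_of_words rels Cfsg.Agent.Lib.Helper29.TCG23CLink.rels up relWords
    Cfsg.Agent.Lib.Helper29.TCG23CLink.relWords hrels Cfsg.Agent.Lib.Helper29.TCG23CLink.link.hrels up_rel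

theorem hψrel : ∀ r ∈ Cfsg.Agent.Lib.Helper29.TCG23CLink.rels,
    FreeGroup.lift (fun g => (PresentedGroup.of (up g) : G)) r = 1 := by
  intro r hr
  have key : FreeGroup.lift (fun g => (PresentedGroup.of (up g) : G)) =
      (PresentedGroup.mk rels).comp (FreeGroup.map up) := by
    ext g
    simp [PresentedGroup.of]
  rw [key]
  exact PresentedGroup.one_of_mem (hrelmap r hr)

/-- the map from the presented `3.G₂(3)` -/
noncomputable def ψ : PG →* G := PresentedGroup.toGroup hψrel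

theorem ψ_of (g : Cfsg.Agent.Lib.Helper29.G23CDef.Gen) :
    ψ (PresentedGroup.of g) = PresentedGroup.of (up g) :=
  PresentedGroup.toGroup.of hψrel

theorem range_ψ : ψ.range = H := by
  rw [MonoidHom.range_eq_map, ← PresentedGroup.closure_range_of, MonoidHom.map_closure, ← Set.range_comp]
  show _ = (Subgroup.closure {FreeGroup.of Gen.a, FreeGroup.of Gen.b, FreeGroup.of Gen.t, FreeGroup.of Gen.z}).map _
  rw [MonoidHom.map_closure]
  congr 1
  ext x
  constructor
  · rintro ⟨g, rfl⟩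
    cases g
    · exact ⟨FreeGroup.of Gen.a, by simp, (ψ_of .a).symm⟩
    · exact ⟨FreeGroup.of Gen.b, by simp, (ψ_of .b).symm⟩
    · exact ⟨FreeGroup.of Gen.t, by simp, (ψ_of .t).symm⟩
    · exact ⟨FreeGroup.of Gen.z, by simp, (ψ_of .z).symm⟩
  · rintro ⟨y, hy, rfl⟩
    simp only [Set.mem_insert_iff, Set.mem_singleton_iff] at hy
    rcases hy with rfl | rfl | rfl | rfl
    · exact ⟨.a, ψ_of .a⟩
    · exact ⟨.b, ψ_of .b⟩
    · exact ⟨.t, ψ_of .t⟩
    · exact ⟨.z, ψ_of .z⟩

theorem ψ_zz : ψ Cfsg.Agent.Lib.Helper29.G23CSchur.zz = zc := ψ_of .z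

theorem simple_P : IsSimpleGroup ↥Cfsg.Agent.Lib.Helper10.G23.P := by
  have h1 : IsSimpleGroup ↥(Cfsg.Lie.chevG2.group (ZMod 3)) :=
    (Cfsg.Agent.S1055.result (F := ZMod 3) ⟨2, by decide, by decide⟩).1
  have h2 : IsSimpleGroup ↥Cfsg.Agent.Lib.Helper10.G23.G14 := h1
  exact Cfsg.Agent.Lib.Helper10.G23.g23Equiv.symm.isSimpleGroup

theorem ψ_injective : Function.Injective ψ := by
  rw [← MonoidHom.ker_eq_bot_iff]
  have hsimple := simple_P
  set σ := Cfsg.Agent.Lib.Helper29.G23CSchur.σ with hσ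
  have hsurj : Function.Surjective σ := Cfsg.Agent.Lib.Helper29.G23CSchur.σ_surjective
  have hnorm : (ψ.ker.map σ).Normal := Subgroup.Normal.map inferInstance σ hsurj
  rcases hnorm.eq_bot_or_eq_top with h | h
  · -- the kernel lies in `⟨z⟩`
    rw [eq_bot_iff]
    intro k hk
    have h1 : σ k ∈ ψ.ker.map σ := ⟨k, hk, rfl⟩
    rw [h, Subgroup.mem_bot] at h1
    have h2 : k ∈ σ.ker := h1
    rw [hσ, Cfsg.Agent.Lib.Helper29.G23CSchur.ker_σ] at h2
    obtain ⟨n, rfl⟩ := Subgroup.mem_zpowers_iff.mp h2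
    have h3 : zc ^ n = 1 := by
      have := hk
      rw [MonoidHom.mem_ker, map_zpow, ψ_zz] at this
      exact this
    have h4 : (3 : ℤ) ∣ n := by
      have := (orderOf_dvd_iff_zpow_eq_one).mpr h3
      rwa [orderOf_zc] at this
    obtain ⟨m, rfl⟩ := h4
    rw [Subgroup.mem_bot, zpow_mul]
    have : Cfsg.Agent.Lib.Helper29.G23CSchur.zz ^ (3 : ℤ) = 1 := by
      have := Cfsg.Agent.Lib.Helper29.G23CSchur.zz_pow
      exact_mod_cast this
    rw [this, one_zpow]
  · -- the kernel covers `G₂(3)`: the image is abelian, so the perfect group is killed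
    exfalso
    have h1 : ∀ g : PG, ψ g ∈ Subgroup.zpowers zc := by
      intro g
      have hg : σ g ∈ ψ.ker.map σ := by rw [h]; exact Subgroup.mem_top _
      obtain ⟨k, hk, hkg⟩ := hg
      have h2 : k⁻¹ * g ∈ σ.ker := by
        rw [MonoidHom.mem_ker, map_mul, map_inv, hkg, inv_mul_cancel]
      rw [hσ, Cfsg.Agent.Lib.Helper29.G23CSchur.ker_σ] at h2
      obtain ⟨n, hn⟩ := Subgroup.mem_zpowers_iff.mp h2
      have h3 : ψ g = zc ^ n := by
        have h4 : g = k * (k⁻¹ * g) := by group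
        rw [h4, map_mul, MonoidHom.mem_ker.mp hk, one_mul, ← hn, map_zpow, ψ_zz]
      rw [h3]
      exact Subgroup.zpow_mem _ (Subgroup.mem_zpowers zc) n
    have h2 : commutator PG ≤ ψ.ker := by
      rw [commutator_def, Subgroup.commutator_le]
      intro x _ y _
      rw [MonoidHom.mem_ker, map_commutatorElement]
      obtain ⟨i, hi⟩ := Subgroup.mem_zpowers_iff.mp (h1 x)
      obtain ⟨j, hj⟩ := Subgroup.mem_zpowers_iff.mp (h1 y)
      rw [← hi, ← hj, commutatorElement_eq_one_iff_commute]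
      exact (Commute.refl zc).zpow_zpow i j
    rw [Cfsg.Agent.Lib.Helper29.G23CSchur.perfect_PG] at h2
    have h3 : ψ Cfsg.Agent.Lib.Helper29.G23CSchur.zz = 1 := MonoidHom.mem_ker.mp (h2 (Subgroup.mem_top _))
    rw [ψ_zz] at h3
    exact zc_ne_one h3

theorem card_H : Nat.card H = 12737088 := by
  rw [← range_ψ, Nat.card_congr (MonoidHom.ofInjective ψ_injective).symm.toEquiv]
  exact Cfsg.Agent.Lib.Helper29.G23CSchur.card_eq

/-- the subgroup is the presented `3.G₂(3)` -/
noncomputable def eH : PG ≃* ↥H :=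
  (MonoidHom.ofInjective ψ_injective).trans (MulEquiv.subgroupCongr range_ψ)

theorem trivMult_H : TrivMult ↥H := Cfsg.Agent.Lib.Helper29.G23CSchur.trivMult.congr eH

theorem perfect_H : ⁅H, H⁆ = H := by
  have h1 : H = (⊤ : Subgroup PG).map ψ := by rw [← MonoidHom.range_eq_map, range_ψ]
  rw [h1, ← Subgroup.map_commutator, ← commutator_def, Cfsg.Agent.Lib.Helper29.G23CSchur.perfect_PG]

/-! ### the representation on 2160 points -/

theorem hsubT : ∀ L ∈ subWords, O73CTabA.table.walkT (pathOf lw L) 0 = 0 :=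
  fun L hL => (Table.subOK_iff O73CTabA.subPaths).mp O73CChkAP.hsub0 _ (hsubmem L hL)

theorem hnA : 0 < O73CTabA.table.n := by decide

theorem index_H_le : H.index ≤ 2160 := by
  have h1 := H.index_mul_card
  rw [card_H] at h1
  have h2 := card_le
  rw [← h1] at h2
  have h3 : H.index * 12737088 ≤ 2160 * 12737088 := by
    calc H.index * 12737088 ≤ 27512110080 := h2
      _ = 2160 * 12737088 := by norm_num
  exact Nat.le_of_mul_le_mul_right h3 (by norm_num)

theorem mainA : H.index = O73CTabA.table.n ∧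
    ∃ φ : G →* Equiv.Perm (Fin O73CTabA.table.n),
      (∀ x, φ (PresentedGroup.of x) = Table.sigma O73CChkAP.hT (lw (x, true))) ∧
      ∃ f : G ⧸ H → Fin O73CTabA.table.n,
        Function.Bijective f ∧ (∀ g q, f (g • q) = φ g (f q)) ∧ f (QuotientGroup.mk 1) = ⟨0, hnA⟩ := by
  obtain ⟨φ, hφ, f, hsurj, hequiv, h0⟩ := TabHom.lower rels S relWords subWords lw dec O73CTabA.table hrels hS
    O73CChkAP.hT hnA hlwkA hlwinvA hd1 O73CRelA.hrelT hsubT O73CChkAP.htree
  have hle : Nat.card (G ⧸ H) ≤ Nat.card (Fin O73CTabA.table.n) := by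
    rw [Nat.card_fin]
    exact index_H_le
  have hbij := hsurj.bijective_of_nat_card_le hle
  refine ⟨?_, φ, hφ, f, hbij, hequiv, h0⟩
  have := Nat.card_congr (Equiv.ofBijective f hbij)
  rw [Nat.card_fin] at this
  exact this

theorem index_H : H.index = 2160 := mainA.1

theorem card_eq : Nat.card G = 27512110080 := by
  rw [← H.index_mul_card, index_H, card_H]

end Cfsg.Agent.Lib.Helper29.O73CSchur
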