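import Cfsg.Agent.Lib.Helper29.O73CSchurB
import Cfsg.Agent.Lib.Helper29.SchurCyclicSylow
import Cfsg.Agent.Lib.Helper29.FoxO73CS2Chk
import Cfsg.Agent.Lib.Helper29.FoxO73CS3Chk

set_option autoImplicit false
set_option maxRecDepth 100000

/-!
# The sextuple cover of `O₇(3)` has trivial Schur multiplier

Sparse Fox-calculus certificates over the 2160 cosets of `3.G₂(3)` for the primes 2 and 3; the prime 5 divides the order
once; transfer for the other primes.
-/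

namespace Cfsg.Agent.Lib.Helper29.O73CSchur

open Cfsg.Agent.Lib.Helper28.TC2Lower Cfsg.Agent.Lib.Helper28.TC2Glue Cfsg.Agent.Lib.Helper28.TC2Tower
open Cfsg.Agent.Lib.Helper28.SchurFox Cfsg.Agent.Lib.Helper29.SchurFoxSparse
open Cfsg.Agent.Lib.Helper29.O73CLink
open Cfsg.Agent.Lib.Helper29.O73CDef (Gen)

/-- index of a generator -/
def gi : Gen → ℕ
  | .a => 0
  | .b => 1
  | .t => 2
  | .z => 3
  | .wb => 4
  | .wc => 5
  | .wd => 6
  | .we => 7
  | .wf => 8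
  | .wg => 9
  | .wh => 10
  | .wi => 11
  | .y => 12

theorem hlw : ∀ x b, lw (x, b) = 2 * gi x + cond b 0 1 := by
  rintro x b; cases x <;> cases b <;> rfl

theorem hgi : Function.Injective gi := by
  intro x y h; cases x <;> cases y <;> simp_all [gi]

theorem hlwk : ∀ x, lw (x, true) < O73CTabA.table.k := fun x => hlwkA (x, true)

theorem hDd : ∀ k < 13, ∃ x, gi x = k := by
  intro k hk
  interval_cases k
  exacts [⟨.a, rfl⟩, ⟨.b, rfl⟩, ⟨.t, rfl⟩, ⟨.z, rfl⟩, ⟨.wb, rfl⟩, ⟨.wc, rfl⟩, ⟨.wd, rfl⟩, ⟨.we, rfl⟩, ⟨.wf, rfl⟩,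
    ⟨.wg, rfl⟩, ⟨.wh, rfl⟩, ⟨.wi, rfl⟩, ⟨.y, rfl⟩]

theorem hpaths2 : FoxO73CS2.data.paths = relWords.map (pathOf lw) := by decide +kernel
theorem hpaths3 : FoxO73CS3.data.paths = relWords.map (pathOf lw) := by decide +kernel

theorem prime_dvd_2160 {p : ℕ} (hp : p.Prime) (h : p ∣ 2160) : p = 2 ∨ p = 3 ∨ p = 5 := by
  have h' : p ∣ 2 ^ 4 * 3 ^ 3 * 5 := h
  rcases (Nat.Prime.dvd_mul hp).mp h' with h1 | h1
  · rcases (Nat.Prime.dvd_mul hp).mp h1 with h2 | h2
    · left; exact (Nat.prime_dvd_prime_iff_eq hp Nat.prime_two).mp (hp.dvd_of_dvd_pow h2)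
    · right; left; exact (Nat.prime_dvd_prime_iff_eq hp Nat.prime_three).mp (hp.dvd_of_dvd_pow h2)
  · right; right; exact (Nat.prime_dvd_prime_iff_eq hp (by norm_num)).mp h1

/-- every finite stem extension of the presented group is an isomorphism -/
theorem trivMult : TrivMult G := by
  apply trivMult_of_exp
  intro p hp Γ _ _ σ' hσ hexp
  obtain ⟨hidx, φ, hφ, f, hf, hfe, _⟩ := mainA
  by_cases hdiv : p ∣ 2160
  · rcases prime_dvd_2160 hp hdiv with rfl | rfl | rfl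
    · obtain ⟨R⟩ := retraction_of_perfect σ' hσ.1 hσ.2.1 H perfect_H trivMult_H
      exact ker_eq_bot_of_fox_sparse rels relWords lw gi hrels hlw hgi H O73CTabA.table O73CChkAP.hT hlwk φ hφ f hf hfe
        FoxO73CS2.data rfl hDd hpaths2 FoxO73CS2Chk.hstatic FoxO73CS2Chk.CY FoxO73CS2Chk.hcyc σ' hσ hexp R
    · obtain ⟨R⟩ := retraction_of_perfect σ' hσ.1 hσ.2.1 H perfect_H trivMult_H
      exact ker_eq_bot_of_fox_sparse rels relWords lw gi hrels hlw hgi H O73CTabA.table O73CChkAP.hT hlwk φ hφ f hf hfe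
        FoxO73CS3.data rfl hDd hpaths3 FoxO73CS3Chk.hstatic FoxO73CS3Chk.CY FoxO73CS3Chk.hcyc σ' hσ hexp R
    · have : Fact (Nat.Prime 5) := ⟨hp⟩
      exact Cfsg.Agent.Lib.Helper29.SchurCyclicSylow.ker_eq_bot_of_prime_once σ' hσ 5 hexp
        (by rw [card_eq]; norm_num) (by rw [card_eq]; norm_num)
  · obtain ⟨R⟩ := retraction_of_perfect σ' hσ.1 hσ.2.1 H perfect_H trivMult_H
    have hi : (H.comap σ').index = 2160 := by
      rw [Subgroup.index_comap_of_surjective H hσ.1]; exact index_H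
    have : (H.comap σ').FiniteIndex := ⟨by rw [hi]; norm_num⟩
    refine ker_eq_bot_of_transfer σ' hσ p hexp (H.comap σ') ?_ R.comm_inter
    rw [hi]
    exact ((Nat.Prime.coprime_iff_not_dvd hp).mpr hdiv).symm

end Cfsg.Agent.Lib.Helper29.O73CSchur
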