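import Cfsg.Agent.Lib.Helper10.G23Field
import Cfsg.Prelude.Def_Classical

set_option autoImplicit false

/-!
# `PΩ₂ₘ₊₁` over isomorphic fields
-/

namespace Cfsg.Agent.Lib.Helper29.POmegaField

open Cfsg.Agent.Lib.Helper10.G23 (glMapIso glMapIso_val glMapIso_symm_val)

section abstract

variable {G H : Type*} [Group G] [Group H]

theorem map_commutator_equiv (e : G ≃* H) :
    (commutator G).map e.toMonoidHom = commutator H := by
  rw [commutator_def, Subgroup.map_commutator, ← MonoidHom.range_eq_map,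
    MonoidHom.range_eq_top.2 e.surjective, commutator_def]

/-- an isomorphism restricts to the commutator subgroups -/
noncomputable def commEquiv (e : G ≃* H) : ↥(commutator G) ≃* ↥(commutator H) :=
  (e.subgroupMap (commutator G)).trans (MulEquiv.subgroupCongr (map_commutator_equiv e))

theorem map_center_equiv (e : G ≃* H) :
    (Subgroup.center G).map e.toMonoidHom = Subgroup.center H := by
  ext y
  constructor
  · rintro ⟨x, hx, rfl⟩
    have hx' : x ∈ Subgroup.center G := hx
    rw [Subgroup.mem_center_iff] at hx' ⊢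
    intro h
    obtain ⟨g, rfl⟩ := e.surjective h
    show e g * e x = e x * e g
    rw [← map_mul, ← map_mul, hx' g]
  · intro hy
    refine ⟨e.symm y, ?_, e.apply_symm_apply y⟩
    show e.symm y ∈ Subgroup.center G
    rw [Subgroup.mem_center_iff] at hy ⊢
    intro g
    apply e.injective
    rw [map_mul, map_mul, e.apply_symm_apply]
    exact hy (e g)

/-- an isomorphism induces an isomorphism of the central quotients of the commutator subgroups -/
noncomputable def pcEquiv (e : G ≃* H) :
    (↥(commutator G) ⧸ Subgroup.center ↥(commutator G)) ≃*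
      (↥(commutator H) ⧸ Subgroup.center ↥(commutator H)) :=
  QuotientGroup.congr _ _ (commEquiv e) (map_center_equiv (commEquiv e))

end abstract

variable {F K : Type*} [Field F] [Field K]

/-- the index type of the odd-dimensional form -/
abbrev Idx (m : ℕ) : Type := Unit ⊕ (Fin m ⊕ Fin m)

theorem quadFormOdd_map (m : ℕ) (e : F →+* K) (v : Unit ⊕ (Fin m ⊕ Fin m) → F) :
    Cfsg.quadFormOdd m K (fun i => e (v i)) = e (Cfsg.quadFormOdd m F v) := by
  unfold Cfsg.quadFormOdd
  rw [map_add, map_pow, map_sum]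
  simp only [map_mul]

theorem mem_iso_of_map (m : ℕ) (e : F ≃+* K) (g : GL (Idx m) F)
    (g' : GL (Idx m) K)
    (hmat : (g' : Matrix (Idx m) (Idx m) K) = (g : Matrix (Idx m) (Idx m) F).map e)
    (hg : g ∈ Cfsg.isometryGroup F (Cfsg.quadFormOdd m F)) :
    g' ∈ Cfsg.isometryGroup K (Cfsg.quadFormOdd m K) := by
  intro u _
  show Cfsg.quadFormOdd m K ((g' : Matrix (Idx m) (Idx m) K).mulVec u) = Cfsg.quadFormOdd m K u
  set u0 : Idx m → F := fun i => e.symm (u i) with hu0
  have hu : u = fun i => (e : F →+* K) (u0 i) := by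
    funext i
    simp [hu0]
  have h1 : (g' : Matrix (Idx m) (Idx m) K).mulVec u = fun i => (e : F →+* K) (((g : Matrix (Idx m) (Idx m) F).mulVec u0) i) := by
    funext i
    rw [hmat, hu]
    exact (RingHom.map_mulVec (e : F →+* K) (g : Matrix (Idx m) (Idx m) F) u0 i).symm
  rw [h1, quadFormOdd_map]
  have h2 : Cfsg.quadFormOdd m F ((g : Matrix (Idx m) (Idx m) F).mulVec u0) = Cfsg.quadFormOdd m F u0 := hg u0 u0
  rw [h2, ← quadFormOdd_map, ← hu]

theorem map_isometryGroup (m : ℕ) (e : F ≃+* K) :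
    (Cfsg.isometryGroup F (Cfsg.quadFormOdd m F)).map (glMapIso (Unit ⊕ (Fin m ⊕ Fin m)) e).toMonoidHom =
      Cfsg.isometryGroup K (Cfsg.quadFormOdd m K) := by
  ext y
  constructor
  · rintro ⟨g, hg, rfl⟩
    exact mem_iso_of_map m e g _ (glMapIso_val _ e g) hg
  · intro hy
    refine ⟨(glMapIso _ e).symm y, ?_, ?_⟩
    · exact mem_iso_of_map m e.symm y _ (glMapIso_symm_val _ e y) hy
    · show glMapIso _ e ((glMapIso _ e).symm y) = y
      simp

/-- the isometry groups over isomorphic fields are isomorphic -/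
noncomputable def isoCongr (m : ℕ) (e : F ≃+* K) :
    ↥(Cfsg.isometryGroup F (Cfsg.quadFormOdd m F)) ≃* ↥(Cfsg.isometryGroup K (Cfsg.quadFormOdd m K)) :=
  ((glMapIso (Unit ⊕ (Fin m ⊕ Fin m)) e).subgroupMap _).trans (MulEquiv.subgroupCongr (map_isometryGroup m e))

/-- `PΩ₂ₘ₊₁` over isomorphic fields -/
noncomputable def pomegaCongr (m : ℕ) (e : F ≃+* K) :
    Cfsg.POmega F (Cfsg.quadFormOdd m F) ≃* Cfsg.POmega K (Cfsg.quadFormOdd m K) :=
  pcEquiv (isoCongr m e)

end Cfsg.Agent.Lib.Helper29.POmegaField
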