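import Cfsg.Agent.Lib.Helper29.O73CSchurC
import Cfsg.Agent.Lib.Helper29.POmegaField
import Cfsg.Agent.Lib.Helper13.Fi22O7RepB

set_option autoImplicit false
set_option maxRecDepth 100000

/-!
# The Schur multiplier of `O₇(3)` is cyclic of order 6
-/

namespace Cfsg.Agent.Lib.Helper29.O73CSchur

open scoped commutatorElement
open Cfsg.Agent.Lib.Helper28.SchurFox
open Cfsg.Agent.Lib.Helper29.O73CLink
open Cfsg.Agent.Lib.Helper29.O73CDef (Gen)
open Cfsg.Agent.Lib.Helper29.G23CSchur (PG isStem_comp_equiv ker_comp_equiv trivMult_of_equiv)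

universe u

/-! ### the kernel has order 6 and the quotient is the presented `O₇(3)` -/

theorem card_N : Nat.card N = 6 := by
  have h1 := N.index_mul_card
  rw [card_eq] at h1
  have h2 : N.index ≤ 4585351680 := card_quot_le
  have h3 := card_N_le
  by_contra h
  have h4 : Nat.card N ≤ 5 := by omega
  have h5 : N.index * Nat.card N ≤ 4585351680 * 5 := Nat.mul_le_mul h2 h4
  rw [h1] at h5
  norm_num at h5

theorem index_N : N.index = 4585351680 := by
  have h1 := N.index_mul_card
  rw [card_eq, card_N] at h1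
  have h2 : N.index * 6 = 4585351680 * 6 := by rw [h1]
  exact Nat.eq_of_mul_eq_mul_right (by norm_num) h2

theorem θ_bijective : Function.Bijective θ := by
  apply θ_surjective.bijective_of_nat_card_le
  have h1 : Nat.card (G ⧸ N) = 4585351680 := index_N
  rw [h1]
  exact Cfsg.Agent.Lib.Helper28.TCFi22Tower.card1.2

/-- the quotient by the central subgroup of order 6 is the presented `O₇(3)` -/
noncomputable def eθ : W1 ≃* G ⧸ N := MulEquiv.ofBijective θ θ_bijective

theorem exists_equiv_pomega :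
    Nonempty (W1 ≃* Cfsg.POmega (ZMod 3) (Cfsg.quadFormOdd 3 (ZMod 3))) :=
  Cfsg.Agent.Lib.Helper13.Fi22O7.main_hat Cfsg.Agent.Lib.Helper28.TCFi22Tower.card1.2

/-- the covering map onto `PΩ₇(3)` -/
noncomputable def σ₀ : G →* Cfsg.POmega (ZMod 3) (Cfsg.quadFormOdd 3 (ZMod 3)) :=
  (Classical.choice exists_equiv_pomega).toMonoidHom.comp
    (eθ.symm.toMonoidHom.comp (QuotientGroup.mk' N))

theorem σ₀_surjective : Function.Surjective σ₀ :=
  (Classical.choice exists_equiv_pomega).surjective.comp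
    (eθ.symm.surjective.comp (QuotientGroup.mk'_surjective N))

theorem ker_σ₀ : σ₀.ker = N := by
  ext x
  rw [MonoidHom.mem_ker]
  show (Classical.choice exists_equiv_pomega) (eθ.symm (QuotientGroup.mk' N x)) = 1 ↔ _
  rw [MulEquiv.map_eq_one_iff, MulEquiv.map_eq_one_iff]
  exact QuotientGroup.eq_one_iff x

/-! ### the kernel lies in the commutator subgroup -/

theorem zc_mem_commutator : zc ∈ commutator G := by
  have h1 : Cfsg.Agent.Lib.Helper29.G23CSchur.zz ∈ commutator PG := by
    rw [Cfsg.Agent.Lib.Helper29.G23CSchur.perfect_PG]; exact Subgroup.mem_top _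
  have h2 : (commutator PG).map ψ ≤ commutator G := by
    rw [commutator_def, Subgroup.map_commutator, commutator_def]
    exact Subgroup.commutator_mono le_top le_top
  rw [← ψ_zz]
  exact h2 ⟨_, h1, rfl⟩

theorem yc_eq_commutator : yc = ⁅(PresentedGroup.of Gen.wb : G), PresentedGroup.of Gen.wd⁆ := by
  have r1 := mk_rel [(.wb, true), (.wb, true), (.y, true)] (by decide)
  have r2 := mk_rel [(.wd, true), (.wd, true), (.y, true)] (by decide)
  have r3 := mk_rel [(.wb, true), (.wd, true), (.wb, true), (.wd, true), (.y, true)] (by decide)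
  rw [mk_eq_prod] at r1 r2 r3
  set x : G := PresentedGroup.of Gen.wb with hx
  set x' : G := PresentedGroup.of Gen.wd with hx'
  have h1 : x * (x * (yc * 1)) = 1 := r1
  have h2 : x' * (x' * (yc * 1)) = 1 := r2
  have h3 : x * (x' * (x * (x' * (yc * 1)))) = 1 := r3
  rw [mul_one] at h1 h2 h3
  have e1 : x⁻¹ = x * yc := inv_eq_of_mul_eq_one_right h1
  have e2 : x'⁻¹ = x' * yc := inv_eq_of_mul_eq_one_right h2
  have hc : yc * x' = x' * yc := yc_comm .wd
  rw [commutatorElement_def, e1, e2]
  calc yc = (x * (x' * (x * (x' * yc)))) * yc := by rw [h3, one_mul]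
    _ = x * x' * (x * (x' * yc)) * yc := by group
    _ = x * x' * (x * (yc * x')) * yc := by rw [hc]
    _ = x * x' * (x * yc) * (x' * yc) := by group

theorem yc_mem_commutator : yc ∈ commutator G := by
  rw [yc_eq_commutator, commutator_def]
  exact Subgroup.commutator_mem_commutator (Subgroup.mem_top _) (Subgroup.mem_top _)

theorem N_le_commutator : N ≤ commutator G := by
  unfold N
  rw [Subgroup.zpowers_le]
  exact Subgroup.mul_mem _ zc_mem_commutator yc_mem_commutator

theorem isStem_σ₀ : Cfsg.IsStemExtension σ₀ := by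
  refine ⟨σ₀_surjective, ?_, ?_⟩
  · rw [ker_σ₀]; exact N_le_center
  · rw [ker_σ₀]; exact N_le_commutator

/-- the kernel is cyclic of order 6 -/
noncomputable def eN : ↥N ≃* Multiplicative (ZMod 6) := by
  have hc : IsCyclic ↥N := by unfold N; infer_instance
  have hcard : Nat.card ↥N = Nat.card (Multiplicative (ZMod 6)) := by
    rw [card_N, Nat.card_congr Multiplicative.toAdd, Nat.card_zmod]
  exact mulEquivOfCyclicCardEq hcard

/-- the Schur multiplier of any group isomorphic to `PΩ₇(3)`, in any universe -/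
theorem schur_of_equiv {Q : Type u} [Group Q]
    (e : Cfsg.POmega (ZMod 3) (Cfsg.quadFormOdd 3 (ZMod 3)) ≃* Q) : Cfsg.HasCyclicSchurMultiplier Q 6 := by
  have hQ : Finite Q := Finite.of_surjective (e.toMonoidHom.comp σ₀) (e.surjective.comp σ₀_surjective)
  -- the cover in the universe of `Q`
  let Γ := ULift.{u} G
  let eΓ : Γ ≃* G := MulEquiv.ulift
  have h1 : Cfsg.IsStemExtension (e.toMonoidHom.comp σ₀) :=
    Cfsg.Agent.Lib.Helper13.SchurSL2.isStem_equiv_comp e σ₀ isStem_σ₀
  have h2 : Cfsg.IsStemExtension ((e.toMonoidHom.comp σ₀).comp eΓ.toMonoidHom) := isStem_comp_equiv eΓ _ h1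
  have hΓ : Cfsg.HasCyclicSchurMultiplier Γ 1 :=
    hasCyclic_of_trivMult (trivMult_of_equiv eΓ.symm trivMult)
  have hmap : ((e.toMonoidHom.comp σ₀).comp eΓ.toMonoidHom).ker.map eΓ.toMonoidHom = N := by
    ext x
    constructor
    · rintro ⟨y, hy, rfl⟩
      rw [← ker_σ₀, MonoidHom.mem_ker]
      have hy' : e (σ₀ (eΓ y)) = 1 := hy
      exact (MulEquiv.map_eq_one_iff e).mp hy'
    · intro hx
      refine ⟨eΓ.symm x, ?_, eΓ.apply_symm_apply x⟩
      rw [← ker_σ₀, MonoidHom.mem_ker] at hx
      show e (σ₀ (eΓ (eΓ.symm x))) = 1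
      rw [eΓ.apply_symm_apply, hx, map_one]
  let ek : ((e.toMonoidHom.comp σ₀).comp eΓ.toMonoidHom).ker ≃* Multiplicative (ZMod 6) :=
    ((eΓ.subgroupMap _).trans (MulEquiv.subgroupCongr hmap)).trans eN
  exact Cfsg.Agent.Lib.Helper13.SchurSL2.hasSchurMultiplier_of_stem_trivial _ h2 hΓ ek

/-- the Schur multiplier of `PΩ₇` over any field with 3 elements -/
theorem schur_field {F : Type u} [Field F] [Fintype F] (hF : Fintype.card F = 3) :
    Cfsg.HasCyclicSchurMultiplier (Cfsg.POmega F (Cfsg.quadFormOdd 3 F)) 6 :=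
  schur_of_equiv (Cfsg.Agent.Lib.Helper29.POmegaField.pomegaCongr 3
    (FiniteField.ringEquivOfCardEq ((ZMod.card 3).trans hF.symm)))

end Cfsg.Agent.Lib.Helper29.O73CSchur
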