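import Cfsg.Agent.Lib.Helper5.NDGlue

/-!
# Orthogonal C2, blocks of dimension k ≥ 3, all characteristics, any parity of the dimension
# (project OCE, helper29): shared definitions

Setting of helper5's `NDMax`: `Q : QuadraticForm F (ι → F)`, `M` a subgroup of the isometry group
(`toOG Q g` is the linear equivalence of `g`), `egen Q u y` the generalised Siegel map,
`InA Q M u y` : all `egen Q u (c • y)` are (the maps of) elements of `M`.
-/

set_option autoImplicit false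
set_option linter.unusedSectionVars false
set_option linter.unusedVariables false

namespace Cfsg.Agent.Lib.Helper29.OCE

open Module QuadraticMap Matrix Cfsg.Agent.Lib.Helper25.CD Cfsg.Agent.Lib.Helper25.Spin
  Cfsg.Agent.Lib.Helper25.Fam Cfsg.Agent.Lib.Helper25.Siegel
  Cfsg.Agent.Lib.Helper25.PS Cfsg.Agent.Lib.Helper25.OGeom Cfsg.Agent.Lib.Helper15
  Cfsg.Agent.Lib.Helper5.TSMax Cfsg.Agent.Lib.Helper5.NSMax Cfsg.Agent.Lib.Helper5.PairMax
  Cfsg.Agent.Lib.Helper5.NDMax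

variable {ι : Type} [Fintype ι] [DecidableEq ι] {F : Type*} [Field F] [Fintype F]
  (Q : QuadraticForm F (ι → F))

/-- Witt index at most one: two perpendicular singular vectors of `U` are linearly dependent. -/
def W1 (U : Submodule F (ι → F)) : Prop :=
  ∀ p₁ ∈ U, ∀ p₂ ∈ U, Q p₁ = 0 → Q p₂ = 0 → polar Q p₁ p₂ = 0 →
    p₁ = 0 ∨ p₂ ∈ Submodule.span F {p₁}

/-- The data: an orthogonal decomposition into `t ≥ 2` pairwise isometric nondegenerate blocks of
dimension `k ≥ 3`, and a subgroup `M ≤ Ω` containing every element of `Ω` that maps each block into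
a block.  Exclusions: `k = 3` needs `2 ≠ 0` and `|F| ≥ 5`; `k = 4` over the field with two elements
needs blocks of Witt index one (minus type) and `t ≥ 3`. -/
structure ESetup {t : ℕ} (k : ℕ) (D : Fin t → Submodule F (ι → F))
    (M : Subgroup ↥(Cfsg.isometryGroup F ⇑Q)) : Prop where
  nd : (polarBilin Q).Nondegenerate
  card : 7 ≤ Fintype.card ι
  k3 : 3 ≤ k
  t2 : 2 ≤ t
  three : k = 3 → (2 : F) ≠ 0 ∧ 5 ≤ Fintype.card F
  four : k = 4 → Fintype.card F = 2 → 3 ≤ t ∧ ∀ i, W1 Q (D i)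
  fr : ∀ i, finrank F (D i) = k
  ndD : ∀ i, NdOn Q (D i)
  orth : ∀ i j, i ≠ j → ∀ x ∈ D i, ∀ y ∈ D j, polar Q x y = 0
  sup : iSup D = ⊤
  iso : ∀ i j, ∃ e : D i ≃ₗ[F] D j, ∀ w : D i, Q ((e w : D j) : ι → F) = Q (w : ι → F)
  le : M ≤ Cfsg.Omega F ⇑Q
  stab : ∀ g ∈ Cfsg.Omega F ⇑Q, (∀ i, ∃ j, ∀ x ∈ D i, toOG Q g x ∈ D j) → g ∈ M

variable {Q}

/-- `u` is a block point of the block `i`: a nonzero singular vector of `D i`. -/
def BP {t : ℕ} (Q : QuadraticForm F (ι → F)) (D : Fin t → Submodule F (ι → F)) (i : Fin t)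
    (u : ι → F) : Prop := u ∈ D i ∧ u ≠ 0 ∧ Q u = 0

/-- A star: a block point `u ∈ D i` and `0 ≠ y ⊥ D i` with all `egen u (c y)` in `M`. -/
def Star {t : ℕ} (Q : QuadraticForm F (ι → F)) (D : Fin t → Submodule F (ι → F))
    (M : Subgroup ↥(Cfsg.isometryGroup F ⇑Q)) : Prop :=
  ∃ (i : Fin t) (u y : ι → F), BP Q D i u ∧ y ≠ 0 ∧ (∀ x ∈ D i, polar Q x y = 0) ∧ InA Q M u y

/-- `β` is the image of a block point under an element of `M`. -/
def MP {t : ℕ} (Q : QuadraticForm F (ι → F)) (D : Fin t → Submodule F (ι → F))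
    (M : Subgroup ↥(Cfsg.isometryGroup F ⇑Q)) (β : ι → F) : Prop :=
  ∃ m ∈ M, ∃ (i : Fin t) (α : ι → F), BP Q D i α ∧ β = toOG Q m α

/-- `y ∈ A(β)`: `y ⊥ β` and all `egen β (c y)` are in `M`. -/
def AA (Q : QuadraticForm F (ι → F)) (M : Subgroup ↥(Cfsg.isometryGroup F ⇑Q))
    (β y : ι → F) : Prop := polar Q β y = 0 ∧ InA Q M β y

open Classical in
/-- the blocks to which `β` is not perpendicular -/
noncomputable def supp {t : ℕ} (Q : QuadraticForm F (ι → F)) (D : Fin t → Submodule F (ι → F))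
    (β : ι → F) : Finset (Fin t) :=
  Finset.univ.filter (fun l => ∃ x ∈ D l, polar Q x β ≠ 0)

theorem mem_supp {t : ℕ} {D : Fin t → Submodule F (ι → F)} {β : ι → F} {l : Fin t} :
    l ∈ supp Q D β ↔ ∃ x ∈ D l, polar Q x β ≠ 0 := by
  classical
  unfold supp
  rw [Finset.mem_filter]
  exact ⟨fun h => h.2, fun h => ⟨Finset.mem_univ _, h⟩⟩

/-- all block Siegel-type elements from block `i` into block `j` -/
def Full {t : ℕ} (Q : QuadraticForm F (ι → F)) (D : Fin t → Submodule F (ι → F))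
    (M : Subgroup ↥(Cfsg.isometryGroup F ⇑Q)) (i j : Fin t) : Prop :=
  ∀ u, BP Q D i u → ∀ z ∈ D j, InA Q M u z

/-- the decomposition stabiliser inside the isometry group -/
def dstab {t : ℕ} (Q : QuadraticForm F (ι → F)) (D : Fin t → Submodule F (ι → F)) :
    Subgroup ↥(Cfsg.isometryGroup F ⇑Q) :=
  (Cfsg.Geo.decompositionStabilizer D).comap (Cfsg.isometryGroup F ⇑Q).subtype

end Cfsg.Agent.Lib.Helper29.OCE
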