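import Mathlib
import Cfsg.Agent.Lib.Helper17.OSubDefs

/-!
# S5659 (helper17's market), leaves B4 and F (helper29)

Rational Siegel elements lie in the subfield group; a non-trivial skew transvection with rational
isotropic centre does not.
-/

set_option autoImplicit false
set_option linter.unusedSectionVars false
set_option linter.unusedVariables false
set_option linter.unusedSimpArgs false

namespace Cfsg.Agent.Lib.Helper29.OSubLeaf
open Cfsg Matrix Cfsg.Agent.Lib.Helper5.SpMax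
  Cfsg.Agent.Lib.Helper5.UForm Cfsg.Agent.Lib.Helper5.HermBridge
  Cfsg.Agent.Lib.Helper5.SUGen Cfsg.Agent.Lib.Helper5.SUMax Cfsg.Agent.Lib.Helper5.USub
  Cfsg.Agent.Lib.Helper17.OSub

variable {F : Type*} [Field F] [Fintype F] {q n : ℕ}

/-- own copy of B7: a scalar carrying a non-zero rational vector to a rational vector is rational
(no `Setup` needed). -/
theorem mem_of_smul_rat' {F₀ : Subfield F} {P : GL (Fin n) F} {z : Fin n → F} {μ : F}
    (hz : IsRat F₀ P z) (hz0 : z ≠ 0) (h : IsRat F₀ P (μ • z)) : μ ∈ F₀ := by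
  have hne : ((P⁻¹ : GL (Fin n) F) : Matrix (Fin n) (Fin n) F) *ᵥ z ≠ 0 := by
    intro h0
    apply hz0
    rw [← mul_inv_mulVec P z, h0, Matrix.mulVec_zero]
  obtain ⟨i, hi⟩ := Function.ne_iff.mp hne
  rw [Pi.zero_apply] at hi
  have h1 := h i
  rw [Matrix.mulVec_smul, Pi.smul_apply, smul_eq_mul] at h1
  have h2 : μ = μ * (((P⁻¹ : GL (Fin n) F) : Matrix (Fin n) (Fin n) F) *ᵥ z) i /
      (((P⁻¹ : GL (Fin n) F) : Matrix (Fin n) (Fin n) F) *ᵥ z) i := by
    field_simp
  rw [h2]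
  exact F₀.div_mem h1 (hz i)

section Rat
variable {hF : Fintype.card F = q ^ 2} {F₀ : Subfield F} {P : GL (Fin n) F}
  (S : Setup hF F₀ P)
include S

/-- LEAF B4: rational Siegel elements lie in the subfield group. -/
theorem siegel_mem_H (hn : 0 < n) {g : GL (Fin n) F} {z w : Fin n → F}
    (hz : IsRat F₀ P z) (hw : IsRat F₀ P w)
    (hg : g ∈ Cfsg.GU n F q ⊓ Cfsg.Geo.specialLinear (Fin n) F) (hs : IsSiegel q g z w) :
    g ∈ Cfsg.Geo.subfieldSubgroup F₀ P ⊓
      (Cfsg.GU n F q ⊓ Cfsg.Geo.specialLinear (Fin n) F) := by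
  apply S.mem_H_of_maps hn hg
  intro x hx
  rw [hs x]
  have h2 : (2 : F)⁻¹ ∈ F₀ := by
    apply F₀.inv_mem
    rw [← one_add_one_eq_two]
    exact F₀.add_mem F₀.one_mem F₀.one_mem
  exact isRat_sub (isRat_add hx (isRat_smul (S.form x z hx hz) hw))
    (isRat_smul (F₀.add_mem (S.form x w hx hw)
      (F₀.mul_mem (F₀.mul_mem h2 (S.form w w hw hw)) (S.form x z hx hz))) hz)

/-- LEAF F: a transvection with rational isotropic centre and non-zero skew coefficient is not in
the subfield group. -/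
theorem tv_not_mem (hn : 13 ≤ n) {z : Fin n → F} (hz : RS q F₀ P z) {c : F}
    (hc : frobQ hF c = -c) (hc0 : c ≠ 0) {t : GL (Fin n) F} (ht : IsTv q t z c) :
    t ∉ Cfsg.Geo.subfieldSubgroup F₀ P := by
  intro hmem
  have hf := herm_unitary (n := n) hF
  obtain ⟨hzr, hz0, hzz⟩ := hz
  obtain ⟨μ, hμ0, hμ⟩ := rat_of_mem_subfield t hmem
  -- `μ ∈ F₀`
  have hμF : μ ∈ F₀ := by
    obtain ⟨r, hr, htr⟩ := hμ z hzr
    rw [ht z, hzz, mul_zero, zero_smul, add_zero] at htr
    have h1 : IsRat F₀ P (μ⁻¹ • z) := by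
      rw [htr, smul_smul, inv_mul_cancel₀ hμ0, one_smul]
      exact hr
    have := mem_of_smul_rat' hzr hz0 h1
    have h2 := F₀.inv_mem this
    rwa [inv_inv] at h2
  -- a rational `p` with `h p z ≠ 0`
  obtain ⟨p, hp, hzp⟩ := S.nd hzr hz0
  have hpz : Cfsg.hermForm n F q p z ≠ 0 := u_symm_ne hf hzp
  obtain ⟨r, hr, htr⟩ := hμ p hp
  rw [ht p] at htr
  have h1 : IsRat F₀ P ((c * Cfsg.hermForm n F q p z) • z) := by
    have : (c * Cfsg.hermForm n F q p z) • z = μ • r - p := by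
      rw [← htr]
      abel
    rw [this]
    exact isRat_sub (isRat_smul hμF hr) hp
  have h2 : c * Cfsg.hermForm n F q p z ∈ F₀ := mem_of_smul_rat' hzr hz0 h1
  have h3 : c ∈ F₀ := by
    have : c = c * Cfsg.hermForm n F q p z / Cfsg.hermForm n F q p z := by
      field_simp
    rw [this]
    exact F₀.div_mem h2 (S.form p z hp hzr)
  have h4 : frobQ hF c = c := (S.fix_iff c).mp h3
  rw [hc] at h4
  have h5 : (2 : F) * c = 0 := by linear_combination -h4
  rcases mul_eq_zero.mp h5 with h6 | h6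
  · exact S.two_ne_zero h6
  · exact hc0 h6

end Rat

end Cfsg.Agent.Lib.Helper29.OSubLeaf
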