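import Mathlib
import Cfsg.Agent.Lib.Helper17.OSubDefs
import Cfsg.Agent.Lib.Helper24.OSubB1
import Cfsg.Agent.Lib.Helper6.OSubB

/-!
# S5659 (helper17's market), leaf B5 (helper29)

A rational isotropic vector separating an independent rational pair.
Construction: `p, p'` dual to `(a, b)` (B2), `z5` rational isotropic orthogonal to `a, b, p, p'` (B1),
`v` rational with `h z5 v ≠ 0`, `y := p + (v - h v a • p - h v b • p')` (so `h y a = 1`, `h y b = 0`,
`h y z5 ≠ 0`), `z := y - (h y y / (2 h y z5)) • z5`.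
-/

set_option autoImplicit false
set_option linter.unusedSectionVars false
set_option linter.unusedVariables false
set_option linter.unusedSimpArgs false

namespace Cfsg.Agent.Lib.Helper29.OSubLeaf
open Cfsg Matrix Cfsg.Agent.Lib.Helper5.SpMax
  Cfsg.Agent.Lib.Helper5.UForm Cfsg.Agent.Lib.Helper5.HermBridge
  Cfsg.Agent.Lib.Helper5.SUGen Cfsg.Agent.Lib.Helper5.SUMax Cfsg.Agent.Lib.Helper5.USub
  Cfsg.Agent.Lib.Helper17.OSub

variable {F : Type*} [Field F] [Fintype F] {q n : ℕ}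

section Rat
variable {hF : Fintype.card F = q ^ 2} {F₀ : Subfield F} {P : GL (Fin n) F}
  (S : Setup hF F₀ P)
include S

/-- LEAF B5: a rational isotropic vector separating an independent rational pair. -/
theorem exists_sing_sep (hn : 13 ≤ n) {a b : Fin n → F} (ha : IsRat F₀ P a)
    (hb : IsRat F₀ P b) (hind : Ind F₀ a b) :
    ∃ z, RS q F₀ P z ∧ Cfsg.hermForm n F q b z = 0 ∧ Cfsg.hermForm n F q a z = 1 := by
  have hf := herm_unitary (n := n) hF
  have hind' : Ind F₀ b a := fun s t hs ht h =>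
    (hind t s ht hs (by rw [add_comm]; exact h)).symm
  obtain ⟨p, hp, hap, hbp⟩ := Cfsg.Agent.Lib.Helper6.OSubLeaf.exists_dual S ha hb hind
  obtain ⟨p', hp', hbp', hap'⟩ := Cfsg.Agent.Lib.Helper6.OSubLeaf.exists_dual S hb ha hind'
  obtain ⟨z5, ⟨hz5r, hz50, hz5z5⟩, hperp⟩ :=
    Cfsg.Agent.Lib.Helper24.OSubLeaf.exists_sing_perp S hn ![a, b, p, p', 0]
  have h5a : Cfsg.hermForm n F q z5 a = 0 := hperp 0
  have h5b : Cfsg.hermForm n F q z5 b = 0 := hperp 1
  have h5p : Cfsg.hermForm n F q z5 p = 0 := hperp 2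
  have h5p' : Cfsg.hermForm n F q z5 p' = 0 := hperp 3
  obtain ⟨v, hv, h5v⟩ := S.nd hz5r hz50
  -- flipped pairings
  have hpa : Cfsg.hermForm n F q p a = 1 := by rw [S.sym ha hp]; exact hap
  have hpb : Cfsg.hermForm n F q p b = 0 := by rw [S.sym hb hp]; exact hbp
  have hp'a : Cfsg.hermForm n F q p' a = 0 := by rw [S.sym ha hp']; exact hap'
  have hp'b : Cfsg.hermForm n F q p' b = 1 := by rw [S.sym hb hp']; exact hbp'
  have hp5 : Cfsg.hermForm n F q p z5 = 0 := by rw [S.sym hz5r hp]; exact h5p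
  have hp'5 : Cfsg.hermForm n F q p' z5 = 0 := by rw [S.sym hz5r hp']; exact h5p'
  have hv5 : Cfsg.hermForm n F q v z5 ≠ 0 := by rw [S.sym hz5r hv]; exact h5v
  obtain ⟨α, hα⟩ : ∃ α, α = Cfsg.hermForm n F q v a := ⟨_, rfl⟩
  obtain ⟨β, hβ⟩ : ∃ β, β = Cfsg.hermForm n F q v b := ⟨_, rfl⟩
  have hαF : α ∈ F₀ := by rw [hα]; exact S.form v a hv ha
  have hβF : β ∈ F₀ := by rw [hβ]; exact S.form v b hv hb
  obtain ⟨y, hy⟩ : ∃ y, y = p + (v - α • p - β • p') := ⟨_, rfl⟩
  have hyr : IsRat F₀ P y := by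
    rw [hy]
    exact isRat_add hp (isRat_sub (isRat_sub hv (isRat_smul hαF hp)) (isRat_smul hβF hp'))
  have hya : Cfsg.hermForm n F q y a = 1 := by
    rw [hy, hf.add_left, u_sub_left hf, u_sub_left hf, hf.smul_left, hf.smul_left, hpa, hp'a,
      ← hα]
    ring
  have hyb : Cfsg.hermForm n F q y b = 0 := by
    rw [hy, hf.add_left, u_sub_left hf, u_sub_left hf, hf.smul_left, hf.smul_left, hpb, hp'b,
      ← hβ]
    ring
  have hy5 : Cfsg.hermForm n F q y z5 ≠ 0 := by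
    rw [hy, hf.add_left, u_sub_left hf, u_sub_left hf, hf.smul_left, hf.smul_left, hp5, hp'5,
      mul_zero, mul_zero, sub_zero, sub_zero, zero_add]
    exact hv5
  have h5y : Cfsg.hermForm n F q z5 y = Cfsg.hermForm n F q y z5 := S.sym hyr hz5r
  have h2F : (2 : F) ∈ F₀ := by
    rw [← one_add_one_eq_two]
    exact F₀.add_mem F₀.one_mem F₀.one_mem
  obtain ⟨t, ht⟩ : ∃ t, t = Cfsg.hermForm n F q y y / (2 * Cfsg.hermForm n F q y z5) := ⟨_, rfl⟩
  have htF : t ∈ F₀ := by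
    rw [ht]
    exact F₀.div_mem (S.form y y hyr hyr) (F₀.mul_mem h2F (S.form y z5 hyr hz5r))
  obtain ⟨z, hz⟩ : ∃ z, z = y - t • z5 := ⟨_, rfl⟩
  have hzr : IsRat F₀ P z := by
    rw [hz]
    exact isRat_sub hyr (isRat_smul htF hz5r)
  have hza : Cfsg.hermForm n F q z a = 1 := by
    rw [hz, u_sub_left hf, hf.smul_left, hya, h5a, mul_zero, sub_zero]
  have hzb : Cfsg.hermForm n F q z b = 0 := by
    rw [hz, u_sub_left hf, hf.smul_left, hyb, h5b, mul_zero, sub_zero]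
  have hzy : Cfsg.hermForm n F q z y =
      Cfsg.hermForm n F q y y - t * Cfsg.hermForm n F q y z5 := by
    rw [hz, u_sub_left hf, hf.smul_left, h5y]
  have hz5 : Cfsg.hermForm n F q z z5 = Cfsg.hermForm n F q y z5 := by
    rw [hz, u_sub_left hf, hf.smul_left, hz5z5, mul_zero, sub_zero]
  have hzz : Cfsg.hermForm n F q z z = 0 := by
    have e1 : ∀ w, Cfsg.hermForm n F q z w =
        Cfsg.hermForm n F q y w - t * Cfsg.hermForm n F q z5 w := by
      intro w
      rw [hz, u_sub_left hf, hf.smul_left]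
    rw [e1 z, S.sym hzr hyr, S.sym hzr hz5r, hzy, hz5, ht]
    have h2 : (2 : F) ≠ 0 := S.two_ne_zero
    field_simp
    ring
  have hz0 : z ≠ 0 := by
    intro h0
    rw [h0, u_zero_left hf] at hza
    exact zero_ne_one hza
  refine ⟨z, ⟨hzr, hz0, hzz⟩, ?_, ?_⟩
  · rw [S.sym hzr hb]; exact hzb
  · rw [S.sym hzr ha]; exact hza

end Rat

end Cfsg.Agent.Lib.Helper29.OSubLeaf
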