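import Mathlib
import Cfsg.Agent.Lib.Helper11.Om2Tools

/-! S2146 (helper11's OM2 market), step (I): vocabulary for the relation `Rel` on `L = l^⊥`
(`l = {0, x, y, x + y}` a totally singular line) used by the leaves `Om2IR`, `Om2I5`, `Om2I4`.
Definitions only. -/

set_option autoImplicit false

open Cfsg.Agent.Lib.Helper11.Om2 MulAction
open scoped Pointwise

namespace Cfsg.Agent.Lib.Helper29.Om2IRDefs

variable {F V G : Type*} [Field F] [AddCommGroup V] [Module F V] [Group G] [DistribMulAction G V]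

/-- the standing hypotheses of step (I): every nonzero singular vector is a perfect point of type A
for `H`, and `x, y` span a totally singular line. -/
structure Line (S : Setting F V G) (H : Subgroup G) (x y : V) : Prop where
  hA : ∀ z, z ≠ 0 → S.Q z = 0 → S.IsA H z
  hx : S.Q x = 0
  hy : S.Q y = 0
  hxy : S.B x y = 0
  hx0 : x ≠ 0
  hy0 : y ≠ 0
  hne : x ≠ y

/-- membership in the line `l = {0, x, y, x + y}` -/
def InL (x y v : V) : Prop := v = 0 ∨ v = x ∨ v = y ∨ v = x + y

/-- `Rel w a`: `w, a ∈ L = l^⊥` and `sg y w * sg x a ∈ H` -/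
def Rel (S : Setting F V G) (H : Subgroup G) (x y w a : V) : Prop :=
  S.B x w = 0 ∧ S.B y w = 0 ∧ S.B x a = 0 ∧ S.B y a = 0 ∧ S.sg y w * S.sg x a ∈ H

end Cfsg.Agent.Lib.Helper29.Om2IRDefs
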