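import Mathlib
import Cfsg.Agent.Lib.Helper11.Om2Tools
import Cfsg.Agent.Lib.Helper15.Om2GA
import Cfsg.Agent.Lib.Helper29.Om2IRDefs

/-! S2146 (helper11's OM2 market), step (I): geometric existence tools (vectors outside small
subspaces satisfying perpendicularity conditions) and the dictionary between `InL x y` and the
span of `x, y`. -/

set_option autoImplicit false

open Cfsg.Agent.Lib.Helper11.Om2 MulAction
open Cfsg.Agent.Lib.Helper29.Om2IRDefs
open scoped Pointwise

namespace Cfsg.Agent.Lib.Helper29.Om2IGeo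

variable {F V G : Type*} [Field F] [AddCommGroup V] [Module F V] [Group G] [DistribMulAction G V]
  (S : Setting F V G)

/-- a vector outside `W` is separated from `W` by the form -/
theorem exists_perp_eq_one [Finite V] (W : Submodule F V) {t : V} (ht : t ∉ W) :
    ∃ y0, (∀ w ∈ W, S.B y0 w = 0) ∧ S.B y0 t = 1 := by
  by_contra hcon
  apply ht
  rw [← S.orthogonal_orthogonal_eq W, S.mem_orthogonal]
  intro z hz
  rw [S.mem_orthogonal] at hz
  by_contra hne
  apply hcon
  exact ⟨z, fun w hw => by rw [S.B_symm]; exact hz w hw, S.eq_one_of_ne_zero hne⟩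

/-- a small subspace has a perpendicular vector outside itself -/
theorem exists_perp_not_mem [Finite V] (W : Submodule F V)
    (hW : Nat.card W * Nat.card W < Nat.card V) :
    ∃ t, (∀ w ∈ W, S.B w t = 0) ∧ t ∉ W := by
  by_contra hcon
  have hle : S.B.orthogonal W ≤ W := by
    intro t ht
    by_contra h
    exact hcon ⟨t, (S.mem_orthogonal).1 ht, h⟩
  have h1 : Nat.card (S.B.orthogonal W) ≤ Nat.card W :=
    Nat.card_le_card_of_injective (Submodule.inclusion hle) (Submodule.inclusion_injective hle)
  have h2 := S.card_mul_card_orthogonal W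
  have h3 : Nat.card V ≤ Nat.card W * Nat.card W := by
    rw [← h2]
    exact Nat.mul_le_mul_left _ h1
  omega

/-- a singular vector perpendicular to `v i` (fewer than `m - 1` of them) outside a small subspace
`W` containing the `v i` -/
theorem exists_sing_out [Finite V] {m : ℕ} (hV : Nat.card V = 2 ^ (2 * m)) {k : ℕ} (hk : k + 1 < m)
    (v : Fin k → V) (W : Submodule F V) (hvW : ∀ i, v i ∈ W)
    (hW : Nat.card W * Nat.card W < Nat.card V) :
    ∃ s, S.Q s = 0 ∧ (∀ i, S.B s (v i) = 0) ∧ s ∉ W := by
  obtain ⟨t, htW, htn⟩ := exists_perp_not_mem S W hW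
  obtain ⟨y0, hy0, hy0t⟩ := exists_perp_eq_one S W htn
  obtain ⟨s, hs, hc⟩ := Cfsg.Agent.Lib.Helper15.Om2Leaf.exists_sing_cond S hV hk
    (Fin.cons t v : Fin (k + 1) → V) y0
  refine ⟨s, hs, fun i => ?_, fun hsW => ?_⟩
  · have h := hc i.succ
    simp only [Fin.cons_succ] at h
    rw [h, hy0 _ (hvW i)]
  · have h := hc 0
    simp only [Fin.cons_zero] at h
    rw [hy0t, htW s hsW] at h
    exact zero_ne_one h

include S in
/-- the span of `k` vectors has at most `2 ^ k` elements -/
theorem card_span_range_le [Finite V] {k : ℕ} (v : Fin k → V) :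
    Nat.card (Submodule.span F (Set.range v)) ≤ 2 ^ k := by
  rw [S.card_submodule_eq_two_pow]
  apply Nat.pow_le_pow_right (by norm_num)
  have h := finrank_range_le_card (R := F) v
  simpa [Set.finrank] using h

include S in
/-- the span of `k < m` vectors is small -/
theorem span_sq_lt [Finite V] {m : ℕ} (hV : Nat.card V = 2 ^ (2 * m)) {k : ℕ} (hk : k < m)
    (v : Fin k → V) :
    Nat.card (Submodule.span F (Set.range v)) * Nat.card (Submodule.span F (Set.range v))
      < Nat.card V := by
  have h := card_span_range_le S v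
  have h1 : Nat.card (Submodule.span F (Set.range v)) * Nat.card (Submodule.span F (Set.range v))
      ≤ 2 ^ k * 2 ^ k := Nat.mul_le_mul h h
  have h2 : 2 ^ k * 2 ^ k < 2 ^ (2 * m) := by
    rw [← pow_add]
    exact Nat.pow_lt_pow_right (by norm_num) (by omega)
  rw [hV]
  omega

include S in
/-- the line `{0, x, y, x + y}` as a span -/
theorem inL_of_mem {x y v : V} (h : v ∈ Submodule.span F (Set.range ![x, y])) : InL x y v := by
  rw [Submodule.mem_span_range_iff_exists_fun] at h
  obtain ⟨c, rfl⟩ := h
  rw [Fin.sum_univ_two]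
  rcases S.h01 (c 0) with h0 | h0 <;> rcases S.h01 (c 1) with h1 | h1 <;> simp [InL, h0, h1]

theorem mem_of_inL {x y v : V} (h : InL x y v) : v ∈ Submodule.span F (Set.range ![x, y]) := by
  have hx : x ∈ Submodule.span F (Set.range ![x, y]) := Submodule.subset_span ⟨0, rfl⟩
  have hy : y ∈ Submodule.span F (Set.range ![x, y]) := Submodule.subset_span ⟨1, rfl⟩
  rcases h with rfl | rfl | rfl | rfl
  · exact Submodule.zero_mem _
  · exact hx
  · exact hy
  · exact Submodule.add_mem _ hx hy

end Cfsg.Agent.Lib.Helper29.Om2IGeo
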