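import Mathlib
import Cfsg.Agent.Lib.Helper11.Om2Tools
import Cfsg.Agent.Lib.Helper15.Om2GA
import Cfsg.Agent.Lib.Helper29.Om2IRDefs
import Cfsg.Agent.Lib.Helper29.Om2IGeo

/-! S2146 (helper11's OM2 market), leaf I4, geometric part (`m = 4`, plus type): a totally singular
`3`-space has a perpendicular singular vector outside itself (count of singular vectors), existence
of a frame `x, y, a, a', b, b'`, and the spanning lemma. -/

set_option autoImplicit false

open Cfsg.Agent.Lib.Helper11.Om2 MulAction
open Cfsg.Agent.Lib.Helper29.Om2IRDefs Cfsg.Agent.Lib.Helper29.Om2IGeo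
open scoped Pointwise

namespace Cfsg.Agent.Lib.Helper29.Om2I4Geo

variable {F V G : Type*} [Field F] [AddCommGroup V] [Module F V] [Group G] [DistribMulAction G V]
  (S : Setting F V G)

/-- plus type, dimension 8: a totally singular `3`-space `⟨x, y, a⟩` has a singular vector in its
perp outside itself. -/
theorem exists_sing_perp_out [Finite V] (hV : Nat.card V = 2 ^ (2 * 4))
    (hs : Nat.card {v : V // S.Q v = 0} = 2 ^ (2 * 4 - 1) + 2 ^ (4 - 1))
    {x y a : V} (hx : S.Q x = 0) (hy : S.Q y = 0) (ha : S.Q a = 0)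
    (hxy : S.B x y = 0) (hxa : S.B x a = 0) (hya : S.B y a = 0) :
    ∃ b, S.Q b = 0 ∧ S.B x b = 0 ∧ S.B y b = 0 ∧ S.B a b = 0 ∧
      b ∉ Submodule.span F (Set.range ![x, y, a]) := by
  classical
  have : Fintype V := Fintype.ofFinite V
  set E := Submodule.span F (Set.range ![x, y, a]) with hE
  have hyx : S.B y x = 0 := by rw [S.B_symm]; exact hxy
  have hax : S.B a x = 0 := by rw [S.B_symm]; exact hxa
  have hay : S.B a y = 0 := by rw [S.B_symm]; exact hya
  let P : V → Prop := fun v => S.B x v = 0 ∧ S.B y v = 0 ∧ S.B a v = 0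
  let τ : V → V := fun v =>
    if S.B x v = 1 then v + x else if S.B y v = 1 then v + y else v + a
  have hτB : ∀ v, S.B x (τ v) = S.B x v ∧ S.B y (τ v) = S.B y v ∧ S.B a (τ v) = S.B a v := by
    intro v
    show S.B x (if S.B x v = 1 then v + x else if S.B y v = 1 then v + y else v + a) = _ ∧
      S.B y (if S.B x v = 1 then v + x else if S.B y v = 1 then v + y else v + a) = _ ∧
      S.B a (if S.B x v = 1 then v + x else if S.B y v = 1 then v + y else v + a) = _
    split_ifs <;>
      simp only [S.Badd_right, S.alt, hxy, hxa, hya, hyx, hax, hay, add_zero, and_self]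
  have hτQ : ∀ v, ¬ P v → S.Q (τ v) = S.Q v + 1 := by
    intro v hv
    show S.Q (if S.B x v = 1 then v + x else if S.B y v = 1 then v + y else v + a) = _
    split_ifs with h1 h2
    · rw [S.Q_add, hx, add_zero, S.B_symm, h1]
    · rw [S.Q_add, hy, add_zero, S.B_symm, h2]
    · have h1' := S.eq_zero_of_ne_one h1
      have h2' := S.eq_zero_of_ne_one h2
      have h3 : S.B a v = 1 := by
        rcases S.h01 (S.B a v) with h | h
        · exact absurd ⟨h1', h2', h⟩ hv
        · exact h
      rw [S.Q_add, ha, add_zero, S.B_symm, h3]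
  have hττ : ∀ v, τ (τ v) = v := by
    intro v
    obtain ⟨e1, e2, e3⟩ := hτB v
    show (if S.B x (τ v) = 1 then τ v + x else if S.B y (τ v) = 1 then τ v + y else τ v + a) = v
    rw [e1, e2]
    show (if S.B x v = 1 then
        (if S.B x v = 1 then v + x else if S.B y v = 1 then v + y else v + a) + x
      else if S.B y v = 1 then
        (if S.B x v = 1 then v + x else if S.B y v = 1 then v + y else v + a) + y
      else (if S.B x v = 1 then v + x else if S.B y v = 1 then v + y else v + a) + a) = v
    split_ifs <;> exact S.vadd_cancel_right _ _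
  -- the finsets
  set Sg : Finset V := Finset.univ.filter (fun v => S.Q v = 0) with hSg
  set N : Finset V := Finset.univ.filter (fun v => ¬ P v) with hN
  set Ep : Finset V := Finset.univ.filter (fun v => P v) with hEp
  have hcardSg : Sg.card = 136 := by
    have h1 : Nat.card {v : V // S.Q v = 0} = Sg.card := by
      rw [Nat.card_eq_fintype_card, Fintype.card_subtype]
    rw [← h1, hs]
    norm_num
  have hcardV : (Finset.univ : Finset V).card = 256 := by
    rw [Finset.card_univ, ← Nat.card_eq_fintype_card, hV]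
    norm_num
  -- `Ep` is big
  have hcardE : Nat.card E ≤ 8 := by
    exact card_span_range_le S ![x, y, a]
  have hEperp : 32 ≤ Nat.card (S.B.orthogonal E) := by
    have h2 := S.card_mul_card_orthogonal E
    rw [hV] at h2
    by_contra hlt
    have hlt' : Nat.card (S.B.orthogonal E) ≤ 31 := by omega
    have h3 : Nat.card E * Nat.card (S.B.orthogonal E) ≤ 8 * 31 := Nat.mul_le_mul hcardE hlt'
    rw [h2] at h3
    norm_num at h3
  have hEpcard : 32 ≤ Ep.card := by
    have h1 : Nat.card (S.B.orthogonal E) =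
        (Finset.univ.filter (fun v => v ∈ S.B.orthogonal E)).card := by
      rw [Nat.card_eq_fintype_card, Fintype.card_subtype]
    have h2 : (Finset.univ.filter (fun v => v ∈ S.B.orthogonal E)) ⊆ Ep := by
      intro v hv
      rw [Finset.mem_filter] at hv
      rw [hEp, Finset.mem_filter]
      have hv' := (S.mem_orthogonal).1 hv.2
      refine ⟨Finset.mem_univ _, hv' x (Submodule.subset_span ⟨0, rfl⟩),
        hv' y (Submodule.subset_span ⟨1, rfl⟩), hv' a (Submodule.subset_span ⟨2, rfl⟩)⟩
    have h3 := Finset.card_le_card h2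
    omega
  have hNcard : N.card ≤ 224 := by
    have h1 : Ep.card + N.card = (Finset.univ : Finset V).card :=
      Finset.card_filter_add_card_filter_not (fun v => P v)
    omega
  -- half of `N` is singular
  have hN1 : 2 * (N.filter (fun v => S.Q v = 0)).card ≤ N.card := by
    have h1 : (N.filter (fun v => S.Q v = 0)).card + (N.filter (fun v => ¬ S.Q v = 0)).card
        = N.card := Finset.card_filter_add_card_filter_not (fun v => S.Q v = 0)
    have h2 : (N.filter (fun v => S.Q v = 0)).card ≤ (N.filter (fun v => ¬ S.Q v = 0)).card := by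
      apply Finset.card_le_card_of_injOn τ
      · intro v hv
        have hv' : v ∈ N.filter (fun v => S.Q v = 0) := hv
        rw [Finset.mem_filter, hN, Finset.mem_filter] at hv'
        obtain ⟨⟨_, hvP⟩, hvQ⟩ := hv'
        show τ v ∈ N.filter (fun v => ¬ S.Q v = 0)
        rw [Finset.mem_filter, hN, Finset.mem_filter]
        obtain ⟨e1, e2, e3⟩ := hτB v
        refine ⟨⟨Finset.mem_univ _, ?_⟩, ?_⟩
        · show ¬ (S.B x (τ v) = 0 ∧ S.B y (τ v) = 0 ∧ S.B a (τ v) = 0)
          rw [e1, e2, e3]
          exact hvP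
        · rw [hτQ v hvP, hvQ, zero_add]
          exact one_ne_zero
      · intro v _ w _ hvw
        have := congrArg τ hvw
        rwa [hττ, hττ] at this
    omega
  -- so many singular vectors lie in `Ep`
  have hSgP : 24 ≤ (Sg.filter (fun v => P v)).card := by
    have h1 : (Sg.filter (fun v => P v)).card + (Sg.filter (fun v => ¬ P v)).card = Sg.card :=
      Finset.card_filter_add_card_filter_not (fun v => P v)
    have h2 : Sg.filter (fun v => ¬ P v) = N.filter (fun v => S.Q v = 0) := by
      ext v
      simp only [hSg, hN, Finset.mem_filter, Finset.mem_univ, true_and]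
      exact and_comm
    rw [h2] at h1
    omega
  -- one of them is outside `E`
  have hEfin : (Finset.univ.filter (fun v => v ∈ E)).card ≤ 8 := by
    have h1 : Nat.card E = (Finset.univ.filter (fun v => v ∈ E)).card := by
      rw [Nat.card_eq_fintype_card, Fintype.card_subtype]
    omega
  obtain ⟨b, hb1, hb2⟩ := Finset.exists_mem_notMem_of_card_lt_card
    (s := Finset.univ.filter (fun v => v ∈ E)) (t := Sg.filter (fun v => P v)) (by omega)
  rw [Finset.mem_filter, hSg, Finset.mem_filter] at hb1
  obtain ⟨⟨_, hbQ⟩, hbx, hby, hba⟩ := hb1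
  refine ⟨b, hbQ, hbx, hby, hba, fun hbE => hb2 ?_⟩
  rw [Finset.mem_filter]
  exact ⟨Finset.mem_univ _, hbE⟩


/-- a frame: a totally singular line `x, y` and a hyperbolic basis `a, a', b, b'` of a complement of
the line in its perp, all singular. -/
structure Frame (S : Setting F V G) (x y a a' b b' : V) : Prop where
  hx : S.Q x = 0
  hy : S.Q y = 0
  hx0 : x ≠ 0
  hy0 : y ≠ 0
  hne : x ≠ y
  hxy : S.B x y = 0
  ha : S.Q a = 0
  ha' : S.Q a' = 0
  hb : S.Q b = 0
  hb' : S.Q b' = 0
  xa : S.B x a = 0
  ya : S.B y a = 0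
  xa' : S.B x a' = 0
  ya' : S.B y a' = 0
  xb : S.B x b = 0
  yb : S.B y b = 0
  xb' : S.B x b' = 0
  yb' : S.B y b' = 0
  aa' : S.B a a' = 1
  bb' : S.B b b' = 1
  ab : S.B a b = 0
  ab' : S.B a b' = 0
  a'b : S.B a' b = 0
  a'b' : S.B a' b' = 0

/-- existence of a frame (`m = 4`, plus type) -/
theorem exists_frame [Finite V] (hV : Nat.card V = 2 ^ (2 * 4))
    (hs : Nat.card {v : V // S.Q v = 0} = 2 ^ (2 * 4 - 1) + 2 ^ (4 - 1)) :
    ∃ x y a a' b b', Frame S x y a a' b b' := by
  -- `x`
  obtain ⟨x, hx, -, hxn⟩ := exists_sing_out S hV (k := 0) (by norm_num) ![]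
    (Submodule.span F (Set.range (![] : Fin 0 → V))) (fun i => i.elim0)
    (span_sq_lt S hV (by norm_num) _)
  have hx0 : x ≠ 0 := fun h => hxn (by rw [h]; exact Submodule.zero_mem _)
  -- `y`
  obtain ⟨y, hy, hyc, hyn⟩ := exists_sing_out S hV (k := 1) (by norm_num) ![x]
    (Submodule.span F (Set.range ![x])) (fun i => Submodule.subset_span ⟨i, rfl⟩)
    (span_sq_lt S hV (by norm_num) _)
  have hy0 : y ≠ 0 := fun h => hyn (by rw [h]; exact Submodule.zero_mem _)
  have hne : x ≠ y := fun h => hyn (by rw [← h]; exact Submodule.subset_span ⟨0, rfl⟩)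
  have hyx : S.B y x = 0 := hyc 0
  have hxy : S.B x y = 0 := by rw [S.B_symm]; exact hyx
  -- `a`
  obtain ⟨a, ha, hac, han⟩ := exists_sing_out S hV (k := 2) (by norm_num) ![x, y]
    (Submodule.span F (Set.range ![x, y])) (fun i => Submodule.subset_span ⟨i, rfl⟩)
    (span_sq_lt S hV (by norm_num) _)
  have hax : S.B a x = 0 := hac 0
  have hay : S.B a y = 0 := hac 1
  have hxa : S.B x a = 0 := by rw [S.B_symm]; exact hax
  have hya : S.B y a = 0 := by rw [S.B_symm]; exact hay
  -- `b`
  obtain ⟨b, hb, hxb, hyb, hab, hbn⟩ := exists_sing_perp_out S hV hs hx hy ha hxy hxa hya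
  have hbx : S.B b x = 0 := by rw [S.B_symm]; exact hxb
  have hby : S.B b y = 0 := by rw [S.B_symm]; exact hyb
  have hba : S.B b a = 0 := by rw [S.B_symm]; exact hab
  -- `a'`
  have han' : a ∉ Submodule.span F (Set.range ![x, y, b]) := by
    intro hmem
    rw [Submodule.mem_span_range_iff_exists_fun] at hmem
    obtain ⟨c, hc⟩ := hmem
    rw [Fin.sum_univ_three] at hc
    simp only [Matrix.cons_val_zero, Matrix.cons_val_one, Matrix.cons_val_two,
      Matrix.head_cons, Matrix.tail_cons] at hc
    rcases S.h01 (c 2) with h2 | h2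
    · rw [h2, zero_smul, add_zero] at hc
      apply han
      rw [← hc]
      exact Submodule.add_mem _ (Submodule.smul_mem _ _ (Submodule.subset_span ⟨0, rfl⟩))
        (Submodule.smul_mem _ _ (Submodule.subset_span ⟨1, rfl⟩))
    · rw [h2, one_smul] at hc
      apply hbn
      have e : b = c 0 • x + c 1 • y + a := by
        rw [← hc]
        simp only [add_assoc, add_left_comm, add_comm, S.vadd_self, S.vadd_cancel_left, add_zero]
      rw [e]
      exact Submodule.add_mem _ (Submodule.add_mem _
        (Submodule.smul_mem _ _ (Submodule.subset_span ⟨0, rfl⟩))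
        (Submodule.smul_mem _ _ (Submodule.subset_span ⟨1, rfl⟩)))
        (Submodule.subset_span ⟨2, rfl⟩)
  obtain ⟨a'', ha''W, ha''a⟩ := exists_perp_eq_one S _ han'
  have h1x : S.B a'' x = 0 := ha''W x (Submodule.subset_span ⟨0, rfl⟩)
  have h1y : S.B a'' y = 0 := ha''W y (Submodule.subset_span ⟨1, rfl⟩)
  have h1b : S.B a'' b = 0 := ha''W b (Submodule.subset_span ⟨2, rfl⟩)
  set a' := a'' + S.Q a'' • a with ha'def
  have ha'Q : S.Q a' = 0 := by
    rw [ha'def, S.Q_add, S.Q_smul, ha, mul_zero, add_zero, S.Bsmul_right, ha''a, mul_one,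
      S.fadd_self]
  have ha'x : S.B a' x = 0 := by rw [ha'def, S.Badd_left, S.Bsmul_left, h1x, hax, mul_zero, add_zero]
  have ha'y : S.B a' y = 0 := by rw [ha'def, S.Badd_left, S.Bsmul_left, h1y, hay, mul_zero, add_zero]
  have ha'b : S.B a' b = 0 := by rw [ha'def, S.Badd_left, S.Bsmul_left, h1b, hab, mul_zero, add_zero]
  have ha'a : S.B a' a = 1 := by
    rw [ha'def, S.Badd_left, S.Bsmul_left, ha''a, S.alt, mul_zero, add_zero]
  have haa' : S.B a a' = 1 := by rw [S.B_symm]; exact ha'a
  -- `b'`
  have hbn' : b ∉ Submodule.span F (Set.range ![x, y, a, a']) := by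
    intro hmem
    rw [Submodule.mem_span_range_iff_exists_fun] at hmem
    obtain ⟨c, hc⟩ := hmem
    rw [Fin.sum_univ_four] at hc
    simp only [Matrix.cons_val_zero, Matrix.cons_val_one, Matrix.cons_val_two,
      Matrix.cons_val_three, Matrix.head_cons, Matrix.tail_cons] at hc
    have h3 : c 3 = 0 := by
      have := congrArg (fun v => S.B a v) hc
      simp only [S.Badd_right, S.Bsmul_right, hax, hay, S.alt, haa', hab, mul_zero, add_zero,
        zero_add, mul_one] at this
      exact this
    rw [h3, zero_smul, add_zero] at hc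
    apply hbn
    rw [← hc]
    exact Submodule.add_mem _ (Submodule.add_mem _
      (Submodule.smul_mem _ _ (Submodule.subset_span ⟨0, rfl⟩))
      (Submodule.smul_mem _ _ (Submodule.subset_span ⟨1, rfl⟩)))
      (Submodule.smul_mem _ _ (Submodule.subset_span ⟨2, rfl⟩))
  obtain ⟨b'', hb''W, hb''b⟩ := exists_perp_eq_one S _ hbn'
  have h2x : S.B b'' x = 0 := hb''W x (Submodule.subset_span ⟨0, rfl⟩)
  have h2y : S.B b'' y = 0 := hb''W y (Submodule.subset_span ⟨1, rfl⟩)
  have h2a : S.B b'' a = 0 := hb''W a (Submodule.subset_span ⟨2, rfl⟩)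
  have h2a' : S.B b'' a' = 0 := hb''W a' (Submodule.subset_span ⟨3, rfl⟩)
  set b' := b'' + S.Q b'' • b with hb'def
  have hba' : S.B b a' = 0 := by rw [S.B_symm]; exact ha'b
  have hb'Q : S.Q b' = 0 := by
    rw [hb'def, S.Q_add, S.Q_smul, hb, mul_zero, add_zero, S.Bsmul_right, hb''b, mul_one,
      S.fadd_self]
  have hb'x : S.B b' x = 0 := by rw [hb'def, S.Badd_left, S.Bsmul_left, h2x, hbx, mul_zero, add_zero]
  have hb'y : S.B b' y = 0 := by rw [hb'def, S.Badd_left, S.Bsmul_left, h2y, hby, mul_zero, add_zero]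
  have hb'a : S.B b' a = 0 := by rw [hb'def, S.Badd_left, S.Bsmul_left, h2a, hba, mul_zero, add_zero]
  have hb'a' : S.B b' a' = 0 := by
    rw [hb'def, S.Badd_left, S.Bsmul_left, h2a', hba', mul_zero, add_zero]
  have hb'b : S.B b' b = 1 := by
    rw [hb'def, S.Badd_left, S.Bsmul_left, hb''b, S.alt, mul_zero, add_zero]
  refine ⟨x, y, a, a', b, b', ⟨hx, hy, hx0, hy0, hne, hxy, ha, ha'Q, hb, hb'Q, hxa, hya, ?_, ?_, hxb,
    hyb, ?_, ?_, haa', ?_, hab, ?_, ha'b, ?_⟩⟩
  · rw [S.B_symm]; exact ha'x
  · rw [S.B_symm]; exact ha'y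
  · rw [S.B_symm]; exact hb'x
  · rw [S.B_symm]; exact hb'y
  · rw [S.B_symm]; exact hb'b
  · rw [S.B_symm]; exact hb'a
  · rw [S.B_symm]; exact hb'a'


/-- the spanning lemma: a vector perpendicular to the whole frame lies on the line -/
theorem mem_line_of_perp [Finite V] (hV : Nat.card V = 2 ^ (2 * 4)) {x y a a' b b' : V}
    (fr : Frame S x y a a' b b') {z : V} (zx : S.B x z = 0) (zy : S.B y z = 0)
    (za : S.B a z = 0) (za' : S.B a' z = 0) (zb : S.B b z = 0) (zb' : S.B b' z = 0) :
    InL x y z := by
  have : Finite F := S.finite_F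
  have : Module.Finite F V := Module.Finite.of_finite
  have hyx : S.B y x = 0 := by rw [S.B_symm]; exact fr.hxy
  have ha'a : S.B a' a = 1 := by rw [S.B_symm]; exact fr.aa'
  have hb'b : S.B b' b = 1 := by rw [S.B_symm]; exact fr.bb'
  have hba : S.B b a = 0 := by rw [S.B_symm]; exact fr.ab
  have hb'a : S.B b' a = 0 := by rw [S.B_symm]; exact fr.ab'
  have hba' : S.B b a' = 0 := by rw [S.B_symm]; exact fr.a'b
  have hb'a' : S.B b' a' = 0 := by rw [S.B_symm]; exact fr.a'b'
  have hax : S.B a x = 0 := by rw [S.B_symm]; exact fr.xa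
  have hay : S.B a y = 0 := by rw [S.B_symm]; exact fr.ya
  have ha'x : S.B a' x = 0 := by rw [S.B_symm]; exact fr.xa'
  have ha'y : S.B a' y = 0 := by rw [S.B_symm]; exact fr.ya'
  have hbx : S.B b x = 0 := by rw [S.B_symm]; exact fr.xb
  have hby : S.B b y = 0 := by rw [S.B_symm]; exact fr.yb
  have hb'x : S.B b' x = 0 := by rw [S.B_symm]; exact fr.xb'
  have hb'y : S.B b' y = 0 := by rw [S.B_symm]; exact fr.yb'
  -- the line is independent
  have hli2 : LinearIndependent F ![x, y] := by
    rw [LinearIndependent.pair_iff]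
    intro s t hst
    rcases S.h01 s with rfl | rfl <;> rcases S.h01 t with rfl | rfl
    · exact ⟨rfl, rfl⟩
    · rw [zero_smul, one_smul, zero_add] at hst
      exact absurd hst fr.hy0
    · rw [zero_smul, one_smul, add_zero] at hst
      exact absurd hst fr.hx0
    · rw [one_smul, one_smul, S.vadd_eq_zero_iff] at hst
      exact absurd hst fr.hne
  -- the six vectors are independent
  have hli6 : LinearIndependent F ![x, y, a, a', b, b'] := by
    rw [Fintype.linearIndependent_iff]
    intro c hc
    rw [Fin.sum_univ_six] at hc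
    have hc' : c 0 • x + c 1 • y + c 2 • a + c 3 • a' + c 4 • b + c 5 • b' = 0 := hc
    have h2 : c 2 = 0 := by
      have := congrArg (fun v => S.B a' v) hc'
      simpa only [S.Badd_right, S.Bsmul_right, ha'x, ha'y, ha'a, S.alt, fr.a'b, fr.a'b', mul_zero,
        add_zero, zero_add, mul_one, S.Bzero_right] using this
    have h3 : c 3 = 0 := by
      have := congrArg (fun v => S.B a v) hc'
      simpa only [S.Badd_right, S.Bsmul_right, hax, hay, fr.aa', S.alt, fr.ab, fr.ab', mul_zero,
        add_zero, zero_add, mul_one, S.Bzero_right] using this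
    have h4 : c 4 = 0 := by
      have := congrArg (fun v => S.B b' v) hc'
      simpa only [S.Badd_right, S.Bsmul_right, hb'x, hb'y, hb'a, hb'a', hb'b, S.alt, mul_zero,
        add_zero, zero_add, mul_one, S.Bzero_right] using this
    have h5 : c 5 = 0 := by
      have := congrArg (fun v => S.B b v) hc'
      simpa only [S.Badd_right, S.Bsmul_right, hbx, hby, hba, hba', fr.bb', S.alt, mul_zero,
        add_zero, zero_add, mul_one, S.Bzero_right] using this
    rw [h2, h3, h4, h5, zero_smul, zero_smul, zero_smul, zero_smul, add_zero, add_zero, add_zero,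
      add_zero] at hc'
    have h01 := (LinearIndependent.pair_iff.1 hli2) (c 0) (c 1) hc'
    intro i
    fin_cases i
    · exact h01.1
    · exact h01.2
    · exact h2
    · exact h3
    · exact h4
    · exact h5
  set M := Submodule.span F (Set.range ![x, y, a, a', b, b']) with hM
  set l := Submodule.span F (Set.range ![x, y]) with hl
  have hfM : Module.finrank F M = 6 := by
    rw [hM, finrank_span_eq_card hli6, Fintype.card_fin]
  have hfl : Module.finrank F l = 2 := by
    rw [hl, finrank_span_eq_card hli2, Fintype.card_fin]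
  have hfMp : Module.finrank F (S.B.orthogonal M) = 2 := by
    have h1 := S.card_mul_card_orthogonal M
    rw [S.card_submodule_eq_two_pow M, S.card_submodule_eq_two_pow (S.B.orthogonal M), hfM, hV,
      ← pow_add] at h1
    have := Nat.pow_right_injective (le_refl 2) h1
    omega
  have hle : l ≤ S.B.orthogonal M := by
    rw [hl, Submodule.span_le]
    rintro _ ⟨i, rfl⟩
    show _ ∈ S.B.orthogonal M
    rw [S.mem_orthogonal]
    intro u hu
    rw [hM] at hu
    refine Submodule.span_induction ?_ ?_ ?_ ?_ hu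
    · rintro _ ⟨j, rfl⟩
      fin_cases i <;> fin_cases j
      · exact S.alt x
      · exact hyx
      · exact hax
      · exact ha'x
      · exact hbx
      · exact hb'x
      · exact fr.hxy
      · exact S.alt y
      · exact hay
      · exact ha'y
      · exact hby
      · exact hb'y
    · exact S.Bzero_left _
    · intro u v _ _ hu hv
      rw [S.Badd_left, hu, hv, add_zero]
    · intro c u _ hu
      rw [S.Bsmul_left, hu, mul_zero]
  have heq : l = S.B.orthogonal M := Submodule.eq_of_le_of_finrank_eq hle (by rw [hfl, hfMp])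
  apply inL_of_mem S
  show z ∈ l
  rw [heq, S.mem_orthogonal]
  intro u hu
  rw [hM] at hu
  refine Submodule.span_induction ?_ ?_ ?_ ?_ hu
  · rintro _ ⟨j, rfl⟩
    fin_cases j
    · exact zx
    · exact zy
    · exact za
    · exact za'
    · exact zb
    · exact zb'
  · exact S.Bzero_left _
  · intro u v _ _ hu hv
    rw [S.Badd_left, hu, hv, add_zero]
  · intro c u _ hu
    rw [S.Bsmul_left, hu, mul_zero]

end Cfsg.Agent.Lib.Helper29.Om2I4Geo
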