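import Mathlib
import Cfsg.Agent.Lib.Helper11.Om2Tools
import Cfsg.Agent.Lib.Helper5.Om2IRBase
import Cfsg.Agent.Lib.Helper29.Om2I4Geo

/-! S2146 market "OM2" (planner helper11): leaf I4 `not_forall_isA_four` — helper29.
For `m = 4` (plus type) not all singular points are perfect points of type A.
IR = helper5's `Cfsg.Agent.Lib.Helper5.Om2IRBase` (`LineA`, `InL`, `InLn`, `Rel`, `R1`-`R7`);
geometry = `Cfsg.Agent.Lib.Helper29.Om2I4Geo` (`exists_frame`, `mem_line_of_perp`). -/

set_option autoImplicit false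

open Cfsg.Agent.Lib.Helper11.Om2 MulAction
open Cfsg.Agent.Lib.Helper5.Om2Leaf (InL InLn LineA R1 R2 R3 R4 R5a R5b R6a R6b R7 Rel_of_InLn)
open Cfsg.Agent.Lib.Helper29.Om2I4Geo (Frame exists_frame mem_line_of_perp)
open scoped Pointwise

namespace Cfsg.Agent.Lib.Helper29.Om2Leaf

variable {F V G : Type*} [Field F] [AddCommGroup V] [Module F V] [Group G] [DistribMulAction G V]
  (S : Setting F V G)

local notation "RelH" => Cfsg.Agent.Lib.Helper5.Om2Leaf.Rel

section beta

variable {S} {H : Subgroup G} {x y : V}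

theorem B_line {e v : V} (he : InLn x y e) (hv : InL S x y v) : S.B e v = 0 := by
  rcases he with rfl | rfl | rfl | rfl
  · exact S.Bzero_left _
  · exact hv.1
  · exact hv.2
  · rw [S.Badd_left, hv.1, hv.2, add_zero]

variable (h : LineA S H x y) (pt : V → V) (hpt : ∀ w, InL S x y w → RelH S H x y w (pt w))
include h hpt

theorem beta_eq {w a v : V} (hw : RelH S H x y w a) (hv : InL S x y v) :
    S.B (pt w) v = S.B a v := by
  rcases R2 S h hw (hpt w hw.1) with e | e
  · rw [e]
  · rw [e, S.Badd_left, hv.1, add_zero]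

theorem beta_add_left {w w' v : V} (hw : InL S x y w) (hw' : InL S x y w') (hv : InL S x y v) :
    S.B (pt (w + w')) v = S.B (pt w) v + S.B (pt w') v := by
  have h4 := R4 S h (hpt w hw) (hpt w' hw')
  rw [beta_eq h pt hpt h4 hv, S.Badd_left, S.Badd_left, S.Bsmul_left, hv.2, mul_zero, add_zero]

theorem beta_self {w : V} (hw : InL S x y w) : S.B (pt w) w = 0 := R3 S h (hpt w hw)

theorem beta_symm {w v : V} (hw : InL S x y w) (hv : InL S x y v) :
    S.B (pt w) v = S.B (pt v) w := by
  have h0 := beta_self h pt hpt (hw.add hv)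
  rw [S.Badd_right, beta_add_left h pt hpt hw hv hw, beta_add_left h pt hpt hw hv hv,
    beta_self h pt hpt hw, beta_self h pt hpt hv, zero_add, add_zero] at h0
  rw [add_comm] at h0
  exact S.fadd_eq_zero_iff.1 h0

theorem beta_line_left {e v : V} (he : InLn x y e) (hv : InL S x y v) : S.B (pt e) v = 0 := by
  obtain ⟨a, ha, hr⟩ := Rel_of_InLn S h he
  rw [beta_eq h pt hpt hr hv]
  exact B_line ha hv

theorem beta_line_right {w e : V} (hw : InL S x y w) (he : InLn x y e) : S.B (pt w) e = 0 := by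
  have := (hpt w hw).2.1
  rw [S.B_symm]
  exact B_line he this

/-- invariance of `β` on perpendicular pairs under the Siegel elements of `L` -/
theorem beta_inv {u0 b0 : V} (hu0 : S.Q u0 = 0) (hu0L : InL S x y u0) (hb0L : InL S x y b0)
    (hub : S.B u0 b0 = 0) {u v : V} (hu : InL S x y u) (hv : InL S x y v) (huv : S.B u v = 0) :
    S.B (pt (S.sg u0 b0 • u)) (S.sg u0 b0 • v) = S.B (pt u) v := by
  obtain ⟨g, hgH, hgx, hgy, hgv⟩ := R7 S h hu0 hu0L hb0L hub
  have hρx : S.sg u0 b0 • x = x :=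
    S.sg_smul_of_perp_perp hu0 hub (by rw [S.B_symm]; exact hu0L.1) (by rw [S.B_symm]; exact hb0L.1)
  have hρy : S.sg u0 b0 • y = y :=
    S.sg_smul_of_perp_perp hu0 hub (by rw [S.B_symm]; exact hu0L.2) (by rw [S.B_symm]; exact hb0L.2)
  have hρL : ∀ z, InL S x y z → InL S x y (S.sg u0 b0 • z) := fun z hz => hz.smul hρx hρy
  have hgL : ∀ z, InL S x y z → InL S x y (g • z) := by
    intro z hz
    rcases hgy with hgy | hgy
    · exact hz.smul hgx hgy
    · exact hz.smul' hgx hgy
  have hxl : InLn x y x := Or.inr (Or.inl rfl)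
  have step1 : S.B (pt (g • u)) (g • v) = S.B (pt u) v := by
    rcases hgy with hgy | hgy
    · have h6 := R6a S h hgH hgx hgy (hpt u hu)
      rw [beta_eq h pt hpt h6 (hgL v hv), S.iso]
    · have h6 := R6b S h hgH hgx hgy (hpt u hu)
      rw [beta_eq h pt hpt h6 (hgL v hv), S.Badd_left, S.Badd_left, S.iso, S.iso, huv, zero_add,
        S.Bsmul_left, (hgL v hv).2, mul_zero, add_zero]
  have key1 : ∀ z, InL S x y z → S.B (pt (g • u)) z = S.B (pt (S.sg u0 b0 • u)) z := by
    intro z hz
    rcases hgv u hu with e | e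
    · rw [e]
    · rw [e, beta_add_left h pt hpt (hρL u hu) h.inL_x hz, beta_line_left h pt hpt hxl hz,
        add_zero]
  have e1 : S.B (pt (g • u)) (g • v) = S.B (pt (S.sg u0 b0 • u)) (S.sg u0 b0 • v) := by
    rw [key1 _ (hgL v hv)]
    rcases hgv v hv with e | e
    · rw [e]
    · rw [e, S.Badd_right, beta_line_right h pt hpt (hρL u hu) hxl, add_zero]
  rw [← e1, step1]

/-- `beta_inv` with the images written out (`b0` singular) -/
theorem beta_inv' {u0 b0 : V} (hu0 : S.Q u0 = 0) (hb0 : S.Q b0 = 0) (hu0L : InL S x y u0)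
    (hb0L : InL S x y b0) (hub : S.B u0 b0 = 0) {u v u' v' : V} (hu : InL S x y u)
    (hv : InL S x y v) (huv : S.B u v = 0)
    (eu : u + S.B u b0 • u0 + S.B u u0 • b0 = u') (ev : v + S.B v b0 • u0 + S.B v u0 • b0 = v') :
    S.B (pt u') v' = S.B (pt u) v := by
  have e : ∀ z, S.sg u0 b0 • z = z + S.B z b0 • u0 + S.B z u0 • b0 := by
    intro z
    rw [S.sg_smul' hu0 hub, hb0, zero_mul, zero_smul, add_zero]
  rw [← eu, ← ev, ← e u, ← e v]
  exact beta_inv h pt hpt hu0 hu0L hb0L hub hu hv huv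

end beta


/-- I4 -/
theorem not_forall_isA_four [Finite V] (hV : Nat.card V = 2 ^ (2 * 4))
    (hs : Nat.card {v : V // S.Q v = 0} = 2 ^ (2 * 4 - 1) + 2 ^ (4 - 1))
    (H : Subgroup G) : ¬ ∀ x, x ≠ 0 → S.Q x = 0 → S.IsA H x := by
  intro hall
  obtain ⟨x, y, a, a', b, b', fr⟩ := exists_frame S hV hs
  have hs0 : x + y ≠ 0 := fun e => fr.hne (S.vadd_eq_zero_iff.1 e)
  have hsQ : S.Q (x + y) = 0 := by rw [S.Q_add_of_perp fr.hxy, fr.hx, fr.hy, add_zero]
  have h : LineA S H x y :=
    ⟨fr.hxy, fr.hne, hall x fr.hx0 fr.hx, hall y fr.hy0 fr.hy, hall (x + y) hs0 hsQ⟩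
  -- partners
  have hex : ∀ w, ∃ p, InL S x y w → RelH S H x y w p := by
    intro w
    by_cases hw : InL S x y w
    · obtain ⟨p, hp⟩ := R1 S h hw
      exact ⟨p, fun _ => hp⟩
    · exact ⟨0, fun hw' => absurd hw' hw⟩
  choose pt hpt using hex
  -- the frame lies in `L`
  have aL : InL S x y a := ⟨fr.xa, fr.ya⟩
  have a'L : InL S x y a' := ⟨fr.xa', fr.ya'⟩
  have bL : InL S x y b := ⟨fr.xb, fr.yb⟩
  have b'L : InL S x y b' := ⟨fr.xb', fr.yb'⟩
  have ha'a : S.B a' a = 1 := by rw [S.B_symm]; exact fr.aa'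
  have hb'b : S.B b' b = 1 := by rw [S.B_symm]; exact fr.bb'
  have hba : S.B b a = 0 := by rw [S.B_symm]; exact fr.ab
  have hb'a : S.B b' a = 0 := by rw [S.B_symm]; exact fr.ab'
  have hba' : S.B b a' = 0 := by rw [S.B_symm]; exact fr.a'b
  have hb'a' : S.B b' a' = 0 := by rw [S.B_symm]; exact fr.a'b'
  -- abbreviations for the values of `β`
  have sym := fun {w v : V} (hw : InL S x y w) (hv : InL S x y v) => beta_symm h pt hpt hw hv
  have addl := fun {w w' v : V} (hw : InL S x y w) (hw' : InL S x y w') (hv : InL S x y v) =>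
    beta_add_left h pt hpt hw hw' hv
  -- (i) the lift of `sg a' b'`
  have E1 : S.B (pt a') b' = S.B (pt a) a' + S.B (pt b) b' := by
    have e := beta_inv' h pt hpt fr.ha' fr.hb' a'L b'L fr.a'b' aL bL fr.ab
      (u' := a + b') (v' := b + a')
      (by rw [fr.ab', fr.aa', zero_smul, one_smul, add_zero])
      (by rw [fr.bb', hba', zero_smul, one_smul, add_zero])
    rw [addl aL b'L (bL.add a'L), S.Badd_right, S.Badd_right, sym b'L bL, sym b'L a'L] at e
    have e2 : S.B (pt a) a' + S.B (pt b) b' + S.B (pt a') b' = 0 := by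
      linear_combination e
    have := S.fadd_eq_zero_iff.1 e2
    exact this.symm
  -- (ii) the lift of `sg a b`
  have E2 : S.B (pt a) b = S.B (pt a) a' + S.B (pt b) b' := by
    have e := beta_inv' h pt hpt fr.ha fr.hb aL bL fr.ab a'L b'L fr.a'b'
      (u' := a' + b) (v' := b' + a)
      (by rw [fr.a'b, ha'a, zero_smul, one_smul, add_zero])
      (by rw [hb'b, hb'a, zero_smul, one_smul, add_zero])
    rw [addl a'L bL (b'L.add aL), S.Badd_right, S.Badd_right, sym a'L aL, sym bL aL] at e
    have e2 : S.B (pt a) a' + S.B (pt b) b' + S.B (pt a) b = 0 := by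
      linear_combination e
    have := S.fadd_eq_zero_iff.1 e2
    exact this.symm
  -- (iii) the lift of `sg a b'`
  have E3 : S.B (pt a) b' = S.B (pt a) a' + S.B (pt b) b' := by
    have e := beta_inv' h pt hpt fr.ha fr.hb' aL b'L fr.ab' bL a'L hba'
      (u' := b + a) (v' := a' + b')
      (by rw [fr.bb', hba, one_smul, zero_smul, add_zero])
      (by rw [fr.a'b', ha'a, zero_smul, one_smul, add_zero])
    rw [addl bL aL (a'L.add b'L), S.Badd_right, S.Badd_right] at e
    have e2 : S.B (pt a) a' + S.B (pt b) b' + S.B (pt a) b' = 0 := by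
      linear_combination e
    have := S.fadd_eq_zero_iff.1 e2
    exact this.symm
  -- (iv) the lift of `sg b a'`
  have E4 : S.B (pt b) a' = S.B (pt a) a' + S.B (pt b) b' := by
    have e := beta_inv' h pt hpt fr.hb fr.ha' bL a'L hba' aL b'L fr.ab'
      (u' := a + b) (v' := b' + a')
      (by rw [fr.aa', fr.ab, one_smul, zero_smul, add_zero])
      (by rw [hb'a', hb'b, zero_smul, one_smul, add_zero])
    rw [addl aL bL (b'L.add a'L), S.Badd_right, S.Badd_right] at e
    have e2 : S.B (pt a) a' + S.B (pt b) b' + S.B (pt b) a' = 0 := by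
      linear_combination e
    have := S.fadd_eq_zero_iff.1 e2
    exact this.symm
  -- the vector `z`
  set c := a + a' with hc
  have cL : InL S x y c := aL.add a'L
  set σ := S.B (pt a) a' with hσ
  have hptc := hpt c cL
  have ptcL : InL S x y (pt c) := hptc.2.1
  have hz : InLn x y (pt c + σ • c) := by
    apply mem_line_of_perp S hV fr
    · rw [S.Badd_right, S.Bsmul_right, ptcL.1, cL.1, mul_zero, add_zero]
    · rw [S.Badd_right, S.Bsmul_right, ptcL.2, cL.2, mul_zero, add_zero]
    · rw [S.Badd_right, S.Bsmul_right, S.B_symm a (pt c), addl aL a'L aL, beta_self h pt hpt aL,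
        sym a'L aL, hc, S.Badd_right, S.alt, fr.aa', zero_add, zero_add, mul_one, S.fadd_self]
    · rw [S.Badd_right, S.Bsmul_right, S.B_symm a' (pt c), addl aL a'L a'L,
        beta_self h pt hpt a'L, hc, S.Badd_right, S.alt, ha'a, add_zero, add_zero, mul_one,
        S.fadd_self]
    · rw [S.Badd_right, S.Bsmul_right, S.B_symm b (pt c), addl aL a'L bL, sym a'L bL, E2, E4,
        hc, S.Badd_right, hba, hba', add_zero, mul_zero, add_zero, S.fadd_self]
    · rw [S.Badd_right, S.Bsmul_right, S.B_symm b' (pt c), addl aL a'L b'L, E3, E1,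
        hc, S.Badd_right, hb'a, hb'a', add_zero, mul_zero, add_zero, S.fadd_self]
  have hcl : InLn x y c := by
    rcases S.h01 σ with h0 | h1
    · rw [h0, zero_smul, add_zero] at hz
      exact R5a S h hptc hz
    · rw [h1, one_smul] at hz
      exact R5b S h hptc hz
  have hca : S.B c a = 0 := B_line hcl aL
  rw [hc, S.Badd_left, S.alt, ha'a, zero_add] at hca
  exact one_ne_zero hca

end Cfsg.Agent.Lib.Helper29.Om2Leaf
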