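import Cfsg.Agent.Lib.Helper6.Orb.Basic
import Cfsg.Agent.S0675
import Cfsg.Agent.S4337

/-! S4125 orbit lemma, leaf OrbA3: a transitive block system of prime size forces solvability. -/

set_option autoImplicit false

namespace Cfsg.Agent.Lib.Helper29.OrbLeaf
open Cfsg.Agent.Lib.Helper6.Orb

universe u v

variable {p q : ℕ} [hp : Fact p.Prime] [hq : Fact q.Prime]
  {H : Type u} {V : Type v} [Group H] [Finite H] [AddCommGroup V] [Finite V] [DistribMulAction H V]
  [FaithfulSMul H V]

omit hp [Finite H] [Finite V] [FaithfulSMul H V] in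
/-- a nonzero vector lies in at most one block. -/
theorem Blocks_index_unique {P : Subgroup H} {ι : Type*} [Fintype ι] {W : ι → AddSubgroup V}
    (hW : Blocks P W) {i j : ι} {w : V} (hi : w ∈ W i) (hj : w ∈ W j) (hw : w ≠ 0) : i = j := by
  classical
  by_contra hij
  let f : ι → V := Pi.single i w
  let g : ι → V := Pi.single j w
  have hf : ∀ m, f m ∈ W m := by
    intro m
    by_cases hm : m = i
    · subst hm; simpa [f] using hi
    · simp [f, hm]
  have hg : ∀ m, g m ∈ W m := by
    intro m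
    by_cases hm : m = j
    · subst hm; simpa [g] using hj
    · simp [g, hm]
  have hsum : ∑ m, f m = ∑ m, g m := by
    simp [f, g, Finset.sum_pi_single']
  have hfg := hW.indep f g hf hg hsum
  have h1 := congrFun hfg i
  simp only [f, g, Pi.single_eq_same, Pi.single_apply, if_neg hij] at h1
  exact hw h1

omit hp [Finite H] [Finite V] [FaithfulSMul H V] in
/-- an element mapping block `i` into block `j` sends `i` to `j` under the permutation map. -/
theorem Blocks_perm_eq {P : Subgroup H} {ι : Type*} [Fintype ι] {W : ι → AddSubgroup V}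
    (hW : Blocks P W) (σ : H →* Equiv.Perm ι)
    (hσ : ∀ (x : H) (i : ι) (w : V), w ∈ W i ↔ x • w ∈ W (σ x i))
    {g : H} {i j : ι} (hg : ∀ w ∈ W i, g • w ∈ W j) : σ g i = j := by
  obtain ⟨w, hw, hw0⟩ : ∃ w ∈ W i, w ≠ 0 := by
    by_contra hcon
    push Not at hcon
    exact hW.ne_bot i ((AddSubgroup.eq_bot_iff_forall _).2 hcon)
  have h1 : g • w ∈ W (σ g i) := (hσ g i w).1 hw
  have h2 : g • w ∈ W j := hg w hw
  have h0 : g • w ≠ 0 := fun h => hw0 ((smul_eq_zero_iff_eq g).1 h)
  exact Blocks_index_unique hW h1 h2 h0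

/-- OrbA3 -/
theorem solvable_of_blocks (S : Setup p q H V) (P : Sylow p H) {ι : Type*} [Fintype ι]
    (hι : Fintype.card ι = p) (W : ι → AddSubgroup V) (hW : Blocks (P : Subgroup H) W)
    (σ : H →* Equiv.Perm ι) (hσ : ∀ (x : H) (i : ι) (w : V), w ∈ W i ↔ x • w ∈ W (σ x i))
    (h3 : (∀ i j i' j' : ι, i ≠ j → i' ≠ j' → ∃ x : H, σ x i = i' ∧ σ x j = j') → p ≤ 3) :
    Group.IsSolvable H := by
  classical
  have hcard : 1 < Fintype.card ι := by rw [hι]; exact hp.out.one_lt
  obtain ⟨i, j, hij⟩ := Fintype.exists_pair_of_one_lt_card hcard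
  -- the kernel is proper
  have hker : σ.ker ≠ ⊤ := by
    intro htop
    obtain ⟨g, _, hg⟩ := hW.trans i j
    have h1 : σ g i = j := Blocks_perm_eq hW σ hσ hg
    have hgk : g ∈ σ.ker := by rw [htop]; trivial
    rw [MonoidHom.mem_ker] at hgk
    rw [hgk] at h1
    exact hij h1
  haveI hKsol : Group.IsSolvable σ.ker := S.solvable_of_normal σ.ker hker
  -- the range is transitive on ι
  haveI htrans : MulAction.IsPretransitive σ.range ι := by
    refine ⟨fun a b => ?_⟩
    obtain ⟨g, _, hg⟩ := hW.trans a b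
    refine ⟨⟨σ g, g, rfl⟩, ?_⟩
    show σ g a = b
    exact Blocks_perm_eq hW σ hσ hg
  have hprime : (Fintype.card ι).Prime := by rw [hι]; exact hp.out
  haveI hRsol : Group.IsSolvable σ.range := by
    rcases Cfsg.Agent.S0675.result hprime σ.range with hsol | h2t
    · exact hsol
    · rw [MulAction.is_two_pretransitive_iff] at h2t
      have hp3 : p ≤ 3 := by
        apply h3
        intro a b a' b' hab hab'
        obtain ⟨⟨_, x, rfl⟩, hx1, hx2⟩ := h2t hab hab'
        exact ⟨x, hx1, hx2⟩
      have hsmall : derivedSeries (Equiv.Perm ι) 3 = ⊥ :=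
        Cfsg.Agent.S4337.derivedSeries_perm_small (by rw [hι]; omega)
      haveI : Group.IsSolvable (Equiv.Perm ι) := ⟨⟨3, hsmall⟩⟩
      exact solvable_of_solvable_injective (Subgroup.subtype_injective σ.range)
  refine solvable_of_ker_le_range σ.ker.subtype σ.rangeRestrict ?_
  rw [MonoidHom.ker_rangeRestrict, Subgroup.range_subtype]

end Cfsg.Agent.Lib.Helper29.OrbLeaf
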