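import Cfsg.Agent.Lib.Helper6.Orb.Basic

/-! S4125 orbit lemma, leaf OrbA3b: a 2-transitive block permutation forces `p ≤ 3`. -/

set_option autoImplicit false

namespace Cfsg.Agent.Lib.Helper29.OrbLeaf
open Cfsg.Agent.Lib.Helper6.Orb
open scoped Pointwise

universe u v

variable {p q : ℕ} [hp : Fact p.Prime] [hq : Fact q.Prime]
  {H : Type u} {V : Type v} [Group H] [Finite H] [AddCommGroup V] [Finite V] [DistribMulAction H V]
  [FaithfulSMul H V]

theorem two_mul_choose_two (n : ℕ) : 2 * n.choose 2 = n * (n - 1) := by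
  rw [Nat.choose_two_right]
  exact Nat.mul_div_cancel' (Nat.even_mul_pred_self n).two_dvd

theorem le_three_of_choose_dvd {p a : ℕ} (hp : p.Prime) (h : p.choose 2 ∣ p ^ a) : p ≤ 3 := by
  have h1 : p - 1 ∣ 2 * p ^ a := by
    have : 2 * p.choose 2 ∣ 2 * p ^ a := Nat.mul_dvd_mul_left 2 h
    rw [two_mul_choose_two] at this
    exact (Dvd.intro_left p rfl).trans this
  have hcop : Nat.Coprime (p - 1) (p ^ a) := by
    apply Nat.Coprime.pow_right
    have hp1 : 1 ≤ p := hp.one_lt.le
    have : Nat.Coprime (p - 1) (p - 1 + 1) := by simp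
    rwa [Nat.sub_add_cancel hp1] at this
  have h2 : p - 1 ∣ 2 := hcop.dvd_of_dvd_mul_right h1
  have := Nat.le_of_dvd (by norm_num) h2
  omega

/-- OrbA3b -/
theorem le_three_of_two_transitive (S : Setup p q H V) (P : Sylow p H) {ι : Type*}
    [Fintype ι] (hι : Fintype.card ι = p) (W : ι → AddSubgroup V) (hW : Blocks (P : Subgroup H) W)
    (σ : H →* Equiv.Perm ι) (hσ : ∀ (x : H) (i : ι) (w : V), w ∈ W i ↔ x • w ∈ W (σ x i))
    (h2 : ∀ i j i' j' : ι, i ≠ j → i' ≠ j' → ∃ x : H, σ x i = i' ∧ σ x j = j') : p ≤ 3 := by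
  classical
  -- two distinct indices
  have hcard : 1 < Fintype.card ι := by rw [hι]; exact hp.out.one_lt
  obtain ⟨i, j, hij⟩ := Fintype.exists_pair_of_one_lt_card hcard
  -- nonzero vectors in the two blocks
  obtain ⟨vi, hvi, hvi0⟩ : ∃ w ∈ W i, w ≠ 0 := by
    by_contra hcon
    push Not at hcon
    exact hW.ne_bot i ((AddSubgroup.eq_bot_iff_forall _).2 hcon)
  obtain ⟨vj, hvj, hvj0⟩ : ∃ w ∈ W j, w ≠ 0 := by
    by_contra hcon
    push Not at hcon
    exact hW.ne_bot j ((AddSubgroup.eq_bot_iff_forall _).2 hcon)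
  set v : V := vi + vj with hv
  let _ : MulAction H ι := MulAction.compHom ι σ
  have hsm : ∀ (x : H) (k : ι), x • k = σ x k := fun _ _ => rfl
  -- the stabilizer of v stabilizes the pair {i, j}
  have hkey : ∀ x : H, x • v = v → ∀ k : ι, ∀ vk ∈ W k, vk ≠ 0 → ∀ l : ι, ∀ vl ∈ W l, l ≠ k →
      v = vk + vl → σ x k = k ∨ σ x k = l := by
    intro x hx k vk hvk hvk0 l vl hvl hlk hvkl
    by_contra hcon
    push Not at hcon
    have hne : σ x k ≠ σ x l := fun h => hlk ((σ x).injective h).symm
    let f : ι → V := Pi.single k vk + Pi.single l vl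
    let g : ι → V := Pi.single (σ x k) (x • vk) + Pi.single (σ x l) (x • vl)
    have hf : ∀ m, f m ∈ W m := by
      intro m
      refine (W m).add_mem ?_ ?_
      · by_cases hm : m = k
        · subst hm; simpa using hvk
        · simp [Pi.single_apply, hm]
      · by_cases hm : m = l
        · subst hm; simpa using hvl
        · simp [Pi.single_apply, hm]
    have hg : ∀ m, g m ∈ W m := by
      intro m
      refine (W m).add_mem ?_ ?_
      · by_cases hm : m = σ x k
        · subst hm; simpa using (hσ x k vk).1 hvk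
        · simp [Pi.single_apply, hm]
      · by_cases hm : m = σ x l
        · subst hm; simpa using (hσ x l vl).1 hvl
        · simp [Pi.single_apply, hm]
    have hsum : ∑ m, f m = ∑ m, g m := by
      simp only [f, g, Pi.add_apply, Finset.sum_add_distrib, Finset.sum_pi_single', Finset.mem_univ,
        if_true]
      rw [← hvkl, ← smul_add, ← hvkl, hx]
    have hfg := hW.indep f g hf hg hsum
    have h1 := congrFun hfg (σ x k)
    simp only [f, g, Pi.add_apply, Pi.single_apply, if_neg hcon.1, if_neg hcon.2, if_neg hne,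
      if_true, add_zero] at h1
    exact hvk0 ((smul_eq_zero_iff_eq x).1 h1.symm)
  have hCT : MulAction.stabilizer H v ≤ MulAction.stabilizer H ({i, j} : Finset ι) := by
    intro x hx
    rw [MulAction.mem_stabilizer_iff] at hx ⊢
    have hi := hkey x hx i vi hvi hvi0 j vj hvj (Ne.symm hij) hv
    have hj := hkey x hx j vj hvj hvj0 i vi hvi hij (by rw [hv, add_comm])
    have hne : σ x i ≠ σ x j := fun h => hij ((σ x).injective h)
    rw [Finset.smul_finset_insert, Finset.smul_finset_singleton, hsm, hsm]
    rcases hi with hi | hi <;> rcases hj with hj | hj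
    · rw [hi, hj]
    · exact absurd (hi.trans hj.symm) hne
    · exact absurd (hi.trans hj.symm) hne
    · rw [hi, hj, Finset.pair_comm]
  -- the orbit of {i, j} is the set of all 2-subsets
  have horb : MulAction.orbit H ({i, j} : Finset ι) = {s : Finset ι | s.card = 2} := by
    ext s
    constructor
    · rintro ⟨x, rfl⟩
      show (x • ({i, j} : Finset ι)).card = 2
      rw [Finset.card_smul_finset, Finset.card_pair hij]
    · intro hs
      obtain ⟨i', j', hij', rfl⟩ := Finset.card_eq_two.1 hs
      obtain ⟨x, hxi, hxj⟩ := h2 i j i' j' hij hij'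
      refine ⟨x, ?_⟩
      show x • ({i, j} : Finset ι) = {i', j'}
      rw [Finset.smul_finset_insert, Finset.smul_finset_singleton, hsm, hsm, hxi, hxj]
  have hidxT : (MulAction.stabilizer H ({i, j} : Finset ι)).index = p.choose 2 := by
    rw [MulAction.index_stabilizer, horb, Set.ncard_eq_toFinset_card']
    have : ({s : Finset ι | s.card = 2} : Set (Finset ι)).toFinset
        = Finset.powersetCard 2 (Finset.univ : Finset ι) := by
      ext s
      simp [Finset.mem_powersetCard]
    rw [this, Finset.card_powersetCard, Finset.card_univ, hι]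
  obtain ⟨a, ha⟩ := S.pp v
  have hidxC : (MulAction.stabilizer H v).index = p ^ a := by
    rw [← card_orbit_eq_index, ha]
  have hdvd : p.choose 2 ∣ p ^ a := by
    rw [← hidxT, ← hidxC]
    exact Subgroup.index_dvd_of_le hCT
  exact le_three_of_choose_dvd hp.out hdvd

end Cfsg.Agent.Lib.Helper29.OrbLeaf
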