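import Mathlib
import Cfsg.Agent.Lib.Helper4.CoprimeIndex
import Cfsg.Agent.Lib.Helper17.ClassGraph1

/-!
# S4321 leaf A (helper29): a `p`-element with `p`-power class size lies in every Sylow `p`-subgroup
-/

set_option autoImplicit false

namespace Cfsg.Agent.Lib.Helper29.PSG

open Cfsg.Agent.Lib.Helper17.ClassGraph

/-- **A** a `p`-element whose class size is a power of `p` lies in every Sylow `p`-subgroup. -/
theorem mem_sylow_of_ind_pow {K : Type*} [Group K] [Finite K] (p : ℕ) [Fact p.Prime] (v : K)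
    (hv : ∃ j : ℕ, orderOf v = p ^ j) (hind : ∀ b : ℕ, b.Prime → b ∣ ind v → b = p) (P : Sylow p K) :
    v ∈ P := by
  have hp : p.Prime := Fact.out
  -- a Sylow subgroup containing `v`
  have hvp : IsPGroup p (Subgroup.zpowers v) := by
    obtain ⟨j, hj⟩ := hv
    rw [IsPGroup.iff_card]
    exact ⟨j, by rw [Nat.card_zpowers, hj]⟩
  obtain ⟨P', hP'⟩ := hvp.exists_le_sylow
  have hvP' : v ∈ P' := hP' (Subgroup.mem_zpowers v)
  -- coprime indices
  have hcop : Nat.Coprime (Subgroup.centralizer ({v} : Set K)).index (P' : Subgroup K).index := by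
    apply Nat.coprime_of_dvd
    intro b hb hb1 hb2
    have hbp : b = p := hind b hb hb1
    subst hbp
    exact P'.not_dvd_index hb2
  obtain ⟨g, hg⟩ := MulAction.exists_smul_eq K P' P
  obtain ⟨c, hc, a, ha, hca⟩ :=
    Cfsg.Agent.Lib.Helper4.forall_mul_of_coprime_index _ _ hcop g
  -- `g⁻¹ v g = a⁻¹ (c⁻¹ v c) a = a⁻¹ v a ∈ P'`
  have hcv : c⁻¹ * v * c = v := by
    rw [mem_centralizer_singleton] at hc
    rw [mul_assoc, ← hc, ← mul_assoc, inv_mul_cancel, one_mul]
  have e : g⁻¹ * v * g = a⁻¹ * v * a := by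
    rw [hca, mul_inv_rev]
    calc a⁻¹ * c⁻¹ * v * (c * a) = a⁻¹ * (c⁻¹ * v * c) * a := by group
      _ = a⁻¹ * v * a := by rw [hcv]
  have hconj : g⁻¹ * v * g ∈ (P' : Subgroup K) := by
    rw [e]
    exact (P' : Subgroup K).mul_mem
      ((P' : Subgroup K).mul_mem ((P' : Subgroup K).inv_mem ha) hvP') ha
  have hmem : v ∈ ((g • P' : Sylow p K) : Subgroup K) := by
    rw [Sylow.coe_subgroup_smul, Subgroup.mem_pointwise_smul_iff_inv_smul_mem,
      MulAut.smul_def, MulAut.conj_inv_apply]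
    exact hconj
  rw [← hg]
  exact hmem

end Cfsg.Agent.Lib.Helper29.PSG
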