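import Mathlib
import Cfsg.Agent.Lib.Helper17.ClassGraph1

/-!
# S4321 leaf B (helper29): the Camina hypothesis in `C(z)`

`h0` is helper7's `NoEdge p z` unfolded (`NoEdge` lives in the notes file only; it is a plain `def`,
so `camina_hyp p hz hzc h0` typechecks with `h0 : NoEdge p z`).
-/

set_option autoImplicit false

namespace Cfsg.Agent.Lib.Helper29.PSG

open Cfsg.Agent.Lib.Helper17.ClassGraph

/-- `z`, `b` commuting of coprime orders: `C(z b) = C(z) ⊓ C(b)`. -/
theorem centralizer_mul_eq_inf {G : Type*} [Group G] {x b : G} (hxb : Commute x b)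
    (hcop : (orderOf x).Coprime (orderOf b)) :
    Subgroup.centralizer ({x * b} : Set G) =
      Subgroup.centralizer ({x} : Set G) ⊓ Subgroup.centralizer ({b} : Set G) := by
  apply le_antisymm
  · apply le_inf
    · exact centralizer_mul_le hxb (by rw [pow_orderOf_eq_one]; exact Subgroup.one_mem _)
        (by rw [pow_orderOf_eq_one]; exact Subgroup.one_mem _) hcop
    · rw [hxb.eq]
      exact centralizer_mul_le hxb.symm (by rw [pow_orderOf_eq_one]; exact Subgroup.one_mem _)
        (by rw [pow_orderOf_eq_one]; exact Subgroup.one_mem _) hcop.symm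
  · intro c hc
    rw [Subgroup.mem_inf, mem_centralizer_singleton, mem_centralizer_singleton] at hc
    rw [mem_centralizer_singleton]
    rw [← mul_assoc, hc.1, mul_assoc, hc.2, mul_assoc]

/-- the centralizer of `h` inside a subgroup `C` -/
theorem centralizer_subtype_eq {G : Type*} [Group G] (C : Subgroup G) (h : C) :
    Subgroup.centralizer ({h} : Set C) = (Subgroup.centralizer ({(h : G)} : Set G)).subgroupOf C := by
  ext r
  rw [Subgroup.mem_subgroupOf, mem_centralizer_singleton, mem_centralizer_singleton]
  constructor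
  · intro e
    have := congrArg Subtype.val e
    simpa using this
  · intro e
    apply Subtype.ext
    simpa using e

/-- **B** the Camina hypothesis in `C(z)`. -/
theorem camina_hyp {G : Type*} [Group G] [Finite G] (p : ℕ) [Fact p.Prime] {z : G} (hz : orderOf z = p)
    (hzc : z ∉ Subgroup.center G)
    (h0 : ∀ b : ℕ, b.Prime → b ∣ ind z → ∀ y : G, p ∣ orderOf y → ¬ p * b ∣ ind y) :
    ∀ h : ↥(Subgroup.centralizer ({z} : Set G)), (orderOf h).Coprime p →
      ∃ R : Sylow p ↥(Subgroup.centralizer ({z} : Set G)), ∀ r ∈ R, Commute r h := by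
  intro h hh
  have hp : p.Prime := Fact.out
  have hzh : Commute z (h : G) := by
    have := h.2
    rw [mem_centralizer_singleton] at this
    exact this.symm
  have hordh : orderOf (h : G) = orderOf h := Subgroup.orderOf_coe h
  have hcop : (orderOf z).Coprime (orderOf (h : G)) := by
    rw [hz, hordh]; exact hh.symm
  -- `ind (z h) = ind z * index of C_C(h)`
  have hind : ind (z * (h : G)) = (Subgroup.centralizer ({h} : Set ↥(Subgroup.centralizer ({z} : Set G)))).index * ind z := by
    rw [ind, centralizer_mul_eq_inf hzh hcop, centralizer_subtype_eq (Subgroup.centralizer ({z} : Set G)) h]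
    rw [← Subgroup.relIndex_mul_index (inf_le_left : Subgroup.centralizer ({z} : Set G) ⊓ Subgroup.centralizer ({(h : G)} : Set G) ≤ Subgroup.centralizer ({z} : Set G)),
      Subgroup.inf_relIndex_left]
    rfl
  -- the index is prime to `p`
  have hnd : ¬ p ∣ (Subgroup.centralizer ({h} : Set ↥(Subgroup.centralizer ({z} : Set G)))).index := by
    intro hpd
    have hz1 : ind z ≠ 1 := by
      rw [Ne, ind_eq_one_iff]; exact hzc
    obtain ⟨b, hb, hbz⟩ := Nat.exists_prime_and_dvd hz1
    have hpy : p ∣ orderOf (z * (h : G)) := by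
      rw [hzh.orderOf_mul_eq_mul_orderOf_of_coprime hcop, hz]
      exact dvd_mul_right _ _
    apply h0 b hb hbz (z * (h : G)) hpy
    rw [hind]
    exact mul_dvd_mul hpd hbz
  obtain ⟨R, hR⟩ := exists_sylow_le_of_not_dvd_index (Subgroup.centralizer ({h} : Set ↥(Subgroup.centralizer ({z} : Set G)))) hnd
  refine ⟨R, fun r hr => ?_⟩
  have := hR hr
  rw [mem_centralizer_singleton] at this
  exact this

end Cfsg.Agent.Lib.Helper29.PSG
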