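import Mathlib

set_option autoImplicit false

namespace Cfsg.Agent.Lib.Helper29

open Subgroup

/-- A normal subgroup meeting `H` trivially, of index at most `|H|`, is a complement of `H`. -/
theorem isComplement'_of_normal_of_index_le {G : Type*} [Group G] [Finite G] (N H : Subgroup G)
    [N.Normal] (hdisj : N ⊓ H = ⊥) (hidx : N.index ≤ Nat.card H) : N.IsComplement' H := by
  have h1 : N.relIndex H = Nat.card H := by
    rw [← Subgroup.inf_relIndex_right, hdisj, Subgroup.relIndex_bot_left]
  have h2 : Nat.card H ∣ N.index := h1 ▸ Subgroup.relIndex_dvd_index_of_normal N H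
  have h3 : N.index = Nat.card H :=
    le_antisymm hidx (Nat.le_of_dvd (Nat.pos_of_ne_zero Subgroup.index_ne_zero_of_finite) h2)
  apply Subgroup.isComplement'_of_card_mul_and_disjoint
  · rw [← h3, mul_comm]; exact Subgroup.index_mul_card N
  · exact disjoint_iff.mpr hdisj

/-- If for every prime `p` dividing `|H|` there is a normal subgroup of `G` of order prime to `p`
and of index the full `p`-part of `|H|`, then `H` has a normal complement. -/
theorem exists_normal_complement_of_prime_complements {G : Type*} [Group G] [Finite G]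
    (H : Subgroup G)
    (h : ∀ p : ℕ, p.Prime → p ∣ Nat.card H → ∃ M : Subgroup G, M.Normal ∧ ¬ p ∣ Nat.card M ∧
      M.index = p ^ (Nat.card H).factorization p) :
    ∃ N : Subgroup G, N.Normal ∧ N.IsComplement' H := by
  classical
  have hπ : ∀ i : (Nat.card H).primeFactors, (i : ℕ).Prime ∧ (i : ℕ) ∣ Nat.card H :=
    fun i => ⟨Nat.prime_of_mem_primeFactors i.2, Nat.dvd_of_mem_primeFactors i.2⟩
  choose M hMn hMp hMi using fun i : (Nat.card H).primeFactors => h i (hπ i).1 (hπ i).2
  have hN : (⨅ i, M i).Normal := Subgroup.normal_iInf_normal hMn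
  refine ⟨⨅ i, M i, hN, ?_⟩
  apply isComplement'_of_normal_of_index_le
  · rw [eq_bot_iff]
    intro x hx
    rw [Subgroup.mem_inf, Subgroup.mem_iInf] at hx
    rw [Subgroup.mem_bot, ← orderOf_eq_one_iff]
    by_contra hne
    obtain ⟨p, hp, hpd⟩ := Nat.exists_prime_and_dvd hne
    have hpH : p ∣ Nat.card H := hpd.trans (Subgroup.orderOf_dvd_natCard H hx.2)
    have hmem : p ∈ (Nat.card H).primeFactors :=
      Nat.mem_primeFactors.mpr ⟨hp, hpH, Nat.card_pos.ne'⟩
    exact hMp ⟨p, hmem⟩ (hpd.trans (Subgroup.orderOf_dvd_natCard _ (hx.1 ⟨p, hmem⟩)))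
  · calc (⨅ i, M i).index ≤ ∏ i, (M i).index := Subgroup.index_iInf_le M
      _ = ∏ i : (Nat.card H).primeFactors, (i : ℕ) ^ (Nat.card H).factorization i :=
          Finset.prod_congr rfl (fun i _ => hMi i)
      _ = ∏ p ∈ (Nat.card H).primeFactors, p ^ (Nat.card H).factorization p :=
          Finset.prod_coe_sort (Nat.card H).primeFactors
            (fun p => p ^ (Nat.card H).factorization p)
      _ = Nat.card H := Nat.prod_factorization_pow_eq_self (Nat.card_pos.ne')

end Cfsg.Agent.Lib.Helper29
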