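import Mathlib
import Cfsg.Prelude.Def_Solvable
import Cfsg.Agent.Lib.Lead.Kazarin2
import Cfsg.Agent.Lib.Helper1.Fitting
import Cfsg.Agent.Lib.Helper8.HallSCN1
import Cfsg.Agent.Lib.Helper9.FStar4
import Cfsg.Agent.Lib.Helper11.AbelianTwoIndex
import Cfsg.Agent.Lib.Helper17.TwoConj

/-! S4125 (q-Baer groups), leaf QBL: if the class of `x` has `p`-power size then the conjugates of
`x` commute modulo `O_p(G)` (Kazarin + `C(F) ≤ F` in the solvable normal closure). -/

set_option autoImplicit false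

namespace Cfsg.Agent.Lib.Helper29.QBLeaf
open Cfsg Subgroup

/-- If `O_p(Γ) = 1` and the class of `y` has `p`-power size, every `O_r(Γ)` centralizes `y`. -/
theorem pCore_le_centralizer_of_index_pow {Γ : Type*} [Group Γ] [Finite Γ] (p : ℕ) [Fact p.Prime]
    (hU : Cfsg.pCore p Γ = ⊥) (y : Γ) (b : ℕ)
    (hidx : (centralizer ({y} : Set Γ)).index = p ^ b) (r : ℕ) [hr : Fact r.Prime] :
    Cfsg.pCore r Γ ≤ centralizer ({y} : Set Γ) := by
  by_cases hrp : r = p
  · subst hrp
    rw [hU]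
    exact bot_le
  · haveI : (Cfsg.pCore r Γ).Normal := Cfsg.Agent.Lib.Helper1.pCore_normal r Γ
    have h1 : (centralizer ({y} : Set Γ)).relIndex (Cfsg.pCore r Γ) ∣ p ^ b := by
      rw [← hidx]
      exact Cfsg.Agent.Lib.Helper11.relIndex_dvd_index_of_normal_right _ _
    have h2 : (centralizer ({y} : Set Γ)).relIndex (Cfsg.pCore r Γ) ∣ Nat.card (Cfsg.pCore r Γ) :=
      Subgroup.relIndex_dvd_card _ _
    obtain ⟨k, hk⟩ := (Cfsg.Agent.Lib.Helper1.pCore_isPGroup r Γ).exists_card_eq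
    rw [hk] at h2
    have hcop : Nat.Coprime (p ^ b) (r ^ k) :=
      Nat.Coprime.pow _ _ ((Nat.coprime_primes (Fact.out : p.Prime) hr.out).2 (Ne.symm hrp))
    have h3 : (centralizer ({y} : Set Γ)).relIndex (Cfsg.pCore r Γ) = 1 :=
      Nat.eq_one_of_dvd_coprimes hcop h1 h2
    exact Subgroup.relIndex_eq_one.1 h3

/-- In a group with `O_p = 1`, the conjugates of an element with `p`-power class size commute. -/
theorem commute_conj_of_pCore_eq_bot {Γ : Type*} [Group Γ] [Finite Γ] (p : ℕ) [Fact p.Prime]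
    (hU : Cfsg.pCore p Γ = ⊥) (y : Γ) (b : ℕ)
    (hidx : (centralizer ({y} : Set Γ)).index = p ^ b) (u v : Γ) :
    Commute (u * y * u⁻¹) (v * y * v⁻¹) := by
  classical
  set F : Subgroup Γ := Cfsg.fittingSubgroup Γ with hF
  haveI hFn : F.Normal := Cfsg.Agent.Lib.Helper1.fittingSubgroup_normal Γ
  -- `y` centralizes `F(Γ)`
  have hFy : F ≤ centralizer ({y} : Set Γ) := by
    rw [hF, Cfsg.Agent.Lib.Helper1.fittingSubgroup_eq_iSup_pCore]
    apply iSup_le
    intro r
    haveI : Fact (Nat.Prime (r : ℕ)) := ⟨r.2⟩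
    exact pCore_le_centralizer_of_index_pow p hU y b hidx (r : ℕ)
  set M : Subgroup Γ := normalClosure ({y} : Set Γ) with hM
  haveI hMn : M.Normal := normalClosure_normal
  -- `M` centralizes `F(Γ)`
  have hMC : M ≤ centralizer (F : Set Γ) := by
    apply normalClosure_le_normal
    intro z hz
    rw [Set.mem_singleton_iff] at hz
    subst hz
    rw [SetLike.mem_coe, mem_centralizer_iff]
    intro f hf
    have := hFy hf
    rw [mem_centralizer_iff] at this
    exact (this z rfl).symm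
  -- `M` is solvable, hence `M ≤ F(Γ)`
  haveI hMs : Group.IsSolvable M :=
    Cfsg.Agent.CharLib.kazarin y p b (Fact.out : p.Prime) hidx
  have hFM : (Cfsg.fittingSubgroup ↥M).map M.subtype = F ⊓ M :=
    Cfsg.Agent.Lib.Helper9.fittingSubgroup_map_subtype_eq_inf hMn.isSubnormal
  have hMF : M ≤ F := by
    intro m hm
    have h1 : (⟨m, hm⟩ : ↥M) ∈ centralizer (Cfsg.fittingSubgroup ↥M : Set ↥M) := by
      rw [mem_centralizer_iff]
      intro f hf
      have hfF : (f : Γ) ∈ F := by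
        have : (f : Γ) ∈ (Cfsg.fittingSubgroup ↥M).map M.subtype := ⟨f, hf, rfl⟩
        rw [hFM] at this
        exact this.1
      have h2 := hMC hm
      rw [mem_centralizer_iff] at h2
      exact Subtype.ext (h2 (f : Γ) hfF)
    have h2 := Cfsg.Agent.Lib.Helper8.HallSCN.centralizer_fitting_le (G := ↥M) h1
    have h3 : m ∈ (Cfsg.fittingSubgroup ↥M).map M.subtype := ⟨⟨m, hm⟩, h2, rfl⟩
    rw [hFM] at h3
    exact h3.1
  have hu : u * y * u⁻¹ ∈ M := hMn.conj_mem _ (subset_normalClosure rfl) u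
  have hv : v * y * v⁻¹ ∈ M := hMn.conj_mem _ (subset_normalClosure rfl) v
  have h1 := hMC hu
  rw [mem_centralizer_iff] at h1
  exact (h1 _ (hMF hv)).symm

variable {G : Type*} [Group G] [Finite G]

local notation "C(" x ")" => Subgroup.centralizer ({x} : Set G)

/-- QBL (uses Kazarin). -/
theorem commutator_conj_mem_pCore (q p : ℕ) [Fact q.Prime] [Fact p.Prime] (hpq : p ≠ q) (x : G)
    (hx : ∃ k : ℕ, orderOf x = q ^ k) (a : ℕ) (hidx : (C(x)).index = p ^ a) (g h : G) :
    (g * x * g⁻¹) * (h * x * h⁻¹) * (g * x * g⁻¹)⁻¹ * (h * x * h⁻¹)⁻¹ ∈ Cfsg.pCore p G := by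
  set U : Subgroup G := Cfsg.pCore p G with hUdef
  haveI hUn : U.Normal := Cfsg.Agent.Lib.Helper1.pCore_normal p G
  have hbot : Cfsg.pCore p (G ⧸ U) = ⊥ := Cfsg.Agent.Lib.Helper17.pCore_quot_eq_bot
  -- the class of the image of `x` has `p`-power size
  have hle : (C(x)).map (QuotientGroup.mk' U) ≤
      centralizer ({(QuotientGroup.mk' U) x} : Set (G ⧸ U)) := by
    rintro _ ⟨c, hc, rfl⟩
    rw [mem_centralizer_iff]
    intro z hz
    rw [Set.mem_singleton_iff] at hz
    subst hz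
    rw [SetLike.mem_coe, mem_centralizer_iff] at hc
    rw [← map_mul, ← map_mul, hc x rfl]
  have hdvd : (centralizer ({(QuotientGroup.mk' U) x} : Set (G ⧸ U))).index ∣ p ^ a := by
    rw [← hidx]
    exact (Subgroup.index_dvd_of_le hle).trans
      (Subgroup.index_map_dvd _ (QuotientGroup.mk'_surjective U))
  obtain ⟨b, _, hb⟩ := (Nat.dvd_prime_pow (Fact.out : p.Prime)).1 hdvd
  have hcomm := commute_conj_of_pCore_eq_bot p hbot ((QuotientGroup.mk' U) x) b hb
    ((QuotientGroup.mk' U) g) ((QuotientGroup.mk' U) h)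
  rw [← (QuotientGroup.eq_one_iff (N := U) _)]
  have h1 : ((QuotientGroup.mk' U) (g * x * g⁻¹)) * ((QuotientGroup.mk' U) (h * x * h⁻¹)) =
      ((QuotientGroup.mk' U) (h * x * h⁻¹)) * ((QuotientGroup.mk' U) (g * x * g⁻¹)) := by
    simpa only [map_mul, map_inv] using hcomm.eq
  show (QuotientGroup.mk' U) ((g * x * g⁻¹) * (h * x * h⁻¹) * (g * x * g⁻¹)⁻¹ * (h * x * h⁻¹)⁻¹) = 1
  rw [map_mul, map_mul, map_mul (QuotientGroup.mk' U) (g * x * g⁻¹), h1, map_inv, map_inv]
  group

end Cfsg.Agent.Lib.Helper29.QBLeaf
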