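import Mathlib
import Cfsg.Prelude.Def_Transfer
import Cfsg.Prelude.Def_Solvable
import Cfsg.Prelude.Def_Local
import Cfsg.Prelude.Def_OddOrderLocal
import Cfsg.Prelude.Def_CaseTheorems
import Cfsg.Agent.Lib.Helper13.R3Defs2

/-! S4404 wave 2 leaf **TYPE2** (helper29): in type (ii) with `|G:N| = 27` an automorphism of order dividing 3
preserving `N` fixes two independent elements of `G/N`. -/

set_option autoImplicit false

namespace Cfsg.Agent.Lib.Helper29.R3TYPE2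

open Pointwise Cfsg.Agent.Lib.Helper13.R3
open scoped commutatorElement

section gen
variable {G : Type*} [Group G]

/-- cubing identity: if commutators and cubes are central then cubing is multiplicative -/
theorem mul_pow_three_of_central (Z : Subgroup G) (hZ : ∀ m ∈ Z, ∀ g : G, g * m = m * g)
    (h3 : ∀ g : G, g ^ 3 ∈ Z) (hc : ∀ g h : G, ⁅g, h⁆ ∈ Z) (a b : G) :
    (a * b) ^ 3 = a ^ 3 * b ^ 3 := by
  obtain ⟨c, hcdef⟩ : ∃ c : G, c = ⁅b⁻¹, a⁻¹⁆ := ⟨_, rfl⟩
  have hcZ : c ∈ Z := hcdef ▸ hc _ _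
  have hcc : ∀ g, c * g = g * c := fun g => (hZ c hcZ g).symm
  have hba : b * a = a * (b * c) := by
    rw [hcdef, commutatorElement_def]
    group
  have r1 : ∀ r, b * (a * r) = a * (b * (c * r)) := by
    intro r
    rw [← mul_assoc, hba]
    simp only [mul_assoc]
  have r2 : ∀ r, c * (a * r) = a * (c * r) := by
    intro r
    rw [← mul_assoc, hcc a, mul_assoc]
  have r3 : ∀ r, c * (b * r) = b * (c * r) := by
    intro r
    rw [← mul_assoc, hcc b, mul_assoc]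
  have key : (a * b) ^ 3 = a ^ 3 * b ^ 3 * c ^ 3 := by
    simp only [pow_succ, pow_zero, one_mul, mul_assoc, r1, r2, r3, hba, hcc a, hcc b]
  have hc3 : c ^ 3 = 1 := by
    have h1 : b * a ^ 3 = a ^ 3 * b := hZ (a ^ 3) (h3 a) b
    have h2 : b * a ^ 3 = a ^ 3 * b * c ^ 3 := by
      simp only [pow_succ, pow_zero, one_mul, mul_assoc, r1, r2, r3, hba, hcc a, hcc b]
    rw [h1] at h2
    exact (mul_eq_left.mp h2.symm)
  rw [key, hc3, mul_one]

end gen

section t2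
variable {G : Type*} [Group G]
theorem z_central {x y z : G} (hgen : Subgroup.closure ({x, y, z} : Set G) = ⊤)
    (hxz : x * z = z * x) (hyz : y * z = z * y) (g : G) : g * z = z * g := by
  have hle : Subgroup.closure ({x, y, z} : Set G) ≤ Subgroup.centralizer {z} := by
    rw [Subgroup.closure_le]
    intro t ht
    rw [SetLike.mem_coe, Subgroup.mem_centralizer_iff]
    intro h hh
    rw [Set.mem_singleton_iff] at hh
    subst hh
    rcases ht with rfl | rfl | rfl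
    · exact hxz.symm
    · exact hyz.symm
    · rfl
  have h1 : g ∈ Subgroup.centralizer {z} := hle (hgen ▸ Subgroup.mem_top g)
  rw [Subgroup.mem_centralizer_iff] at h1
  exact (h1 z rfl).symm

theorem zpowers_central {z : G} (hzc : ∀ g : G, g * z = z * g) {t : G} (ht : t ∈ Subgroup.zpowers z)
    (g : G) : g * t = t * g := by
  obtain ⟨k, rfl⟩ := Subgroup.mem_zpowers_iff.mp ht
  exact ((show Commute g z from hzc g).zpow_right k)

theorem yb_x {x y w : G} (hw : ∀ g : G, g * w = w * g) (hyx : y * x = x * (y * w)) (b : ℕ) :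
    y ^ b * x = x * (y ^ b * w ^ b) := by
  induction b with
  | zero => simp
  | succ b ih =>
    have hwb : ∀ g : G, g * w ^ b = w ^ b * g := fun g => ((show Commute g w from hw g).pow_right b)
    calc y ^ (b + 1) * x = y * (y ^ b * x) := by rw [pow_succ', mul_assoc]
      _ = y * (x * (y ^ b * w ^ b)) := by rw [ih]
      _ = (y * x) * (y ^ b * w ^ b) := by rw [mul_assoc]
      _ = x * (y * w) * (y ^ b * w ^ b) := by rw [hyx]
      _ = x * (y * (w * y ^ b) * w ^ b) := by simp only [mul_assoc]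
      _ = x * (y * (y ^ b * w) * w ^ b) := by rw [hw (y ^ b)]
      _ = x * (y ^ (b + 1) * w ^ (b + 1)) := by
        rw [pow_succ' y b, pow_succ' w b]
        simp only [mul_assoc]

theorem y_xa {x y w : G} (hw : ∀ g : G, g * w = w * g) (hyx : y * x = x * (y * w)) (a : ℕ) :
    y * x ^ a = x ^ a * (y * w ^ a) := by
  induction a with
  | zero => simp
  | succ a ih =>
    have hwa : ∀ g : G, g * w ^ a = w ^ a * g := fun g => ((show Commute g w from hw g).pow_right a)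
    calc y * x ^ (a + 1) = (y * x ^ a) * x := by rw [pow_succ, mul_assoc]
      _ = x ^ a * (y * w ^ a) * x := by rw [ih]
      _ = x ^ a * (y * (w ^ a * x)) := by simp only [mul_assoc]
      _ = x ^ a * (y * (x * w ^ a)) := by rw [hwa x]
      _ = x ^ a * ((y * x) * w ^ a) := by simp only [mul_assoc]
      _ = x ^ a * (x * (y * w) * w ^ a) := by rw [hyx]
      _ = x ^ (a + 1) * (y * w ^ (a + 1)) := by
        rw [pow_succ x a, pow_succ' w a]
        simp only [mul_assoc]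

/-- normal form -/
theorem normal_form {x y z w : G} (hgen : Subgroup.closure ({x, y, z} : Set G) = ⊤)
    (hx : x ^ 3 = 1) (hy : y ^ 3 = 1) (hzc : ∀ g : G, g * z = z * g)
    (hwz : w ∈ Subgroup.zpowers z) (hyx : y * x = x * (y * w)) (g : G) :
    ∃ a b : ℕ, ∃ t ∈ Subgroup.zpowers z, g = x ^ a * y ^ b * t := by
  have hw : ∀ g : G, g * w = w * g := zpowers_central hzc hwz
  have hstep : ∀ g : G, (∃ a b : ℕ, ∃ t ∈ Subgroup.zpowers z, g = x ^ a * y ^ b * t) →
      ∀ s ∈ ({x, y, z} : Set G), ∃ a b : ℕ, ∃ t ∈ Subgroup.zpowers z, g * s = x ^ a * y ^ b * t := by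
    rintro g ⟨a, b, t, ht, rfl⟩ s hs
    have htc := zpowers_central hzc ht
    rcases hs with rfl | rfl | rfl
    · refine ⟨a + 1, b, w ^ b * t, mul_mem (pow_mem hwz b) ht, ?_⟩
      calc s ^ a * y ^ b * t * s = s ^ a * (y ^ b * (t * s)) := by simp only [mul_assoc]
        _ = s ^ a * (y ^ b * (s * t)) := by rw [htc s]
        _ = s ^ a * ((y ^ b * s) * t) := by simp only [mul_assoc]
        _ = s ^ a * (s * (y ^ b * w ^ b) * t) := by rw [yb_x hw hyx b]
        _ = s ^ (a + 1) * y ^ b * (w ^ b * t) := by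
          rw [pow_succ]
          simp only [mul_assoc]
    · refine ⟨a, b + 1, t, ht, ?_⟩
      calc x ^ a * s ^ b * t * s = x ^ a * (s ^ b * (t * s)) := by simp only [mul_assoc]
        _ = x ^ a * (s ^ b * (s * t)) := by rw [htc s]
        _ = x ^ a * s ^ (b + 1) * t := by
          rw [pow_succ]
          simp only [mul_assoc]
    · exact ⟨a, b, t * s, mul_mem ht (Subgroup.mem_zpowers s), by simp only [mul_assoc]⟩
  have hmem : g ∈ Subgroup.closure ({x, y, z} : Set G) := hgen ▸ Subgroup.mem_top g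
  induction hmem using Subgroup.closure_induction_right with
  | one => exact ⟨0, 0, 1, one_mem _, by simp⟩
  | mul_right g hg s hs ih => exact hstep g ih s hs
  | mul_inv_cancel g hg s hs ih =>
    rcases hs with rfl | rfl | rfl
    · have e : s⁻¹ = s * s := by
        apply inv_eq_of_mul_eq_one_right
        rw [← mul_assoc, ← pow_three', hx]
      rw [e, ← mul_assoc]
      exact hstep _ (hstep g ih s (by simp)) s (by simp)
    · have e : s⁻¹ = s * s := by
        apply inv_eq_of_mul_eq_one_right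
        rw [← mul_assoc, ← pow_three', hy]
      rw [e, ← mul_assoc]
      exact hstep _ (hstep g ih s (by simp)) s (by simp)
    · obtain ⟨a, b, t, ht, rfl⟩ := ih
      exact ⟨a, b, t * s⁻¹, mul_mem ht (inv_mem (Subgroup.mem_zpowers s)), by simp only [mul_assoc]⟩



end t2

section t3
variable {G : Type*} [Group G] [Finite G]

theorem orderOf_z_eq {n : ℕ} {x y z : G} (hcard : Nat.card G = 3 ^ n) (hn : 2 ≤ n)
    (hNF : ∀ g : G, ∃ a b : ℕ, ∃ t ∈ Subgroup.zpowers z, g = x ^ a * y ^ b * t)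
    (hx : x ^ 3 = 1) (hy : y ^ 3 = 1) (hz : z ^ 3 ^ (n - 2) = 1) : orderOf z = 3 ^ (n - 2) := by
  classical
  let f : Fin 3 × Fin 3 × ↥(Subgroup.zpowers z) → G :=
    fun p => x ^ (p.1 : ℕ) * y ^ (p.2.1 : ℕ) * (p.2.2 : G)
  have hf : Function.Surjective f := by
    intro g
    obtain ⟨a, b, t, ht, rfl⟩ := hNF g
    refine ⟨(⟨a % 3, Nat.mod_lt _ (by norm_num)⟩, ⟨b % 3, Nat.mod_lt _ (by norm_num)⟩, ⟨t, ht⟩), ?_⟩
    show x ^ (a % 3) * y ^ (b % 3) * t = x ^ a * y ^ b * t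
    rw [← pow_eq_pow_mod a hx, ← pow_eq_pow_mod b hy]
  have h1 : Nat.card G ≤ Nat.card (Fin 3 × Fin 3 × ↥(Subgroup.zpowers z)) :=
    Nat.card_le_card_of_surjective f hf
  rw [Nat.card_prod, Nat.card_prod, Nat.card_fin, Nat.card_zpowers, hcard] at h1
  have h2 : orderOf z ∣ 3 ^ (n - 2) := orderOf_dvd_of_pow_eq_one hz
  have h3 : orderOf z ≤ 3 ^ (n - 2) := Nat.le_of_dvd (by positivity) h2
  have h4 : 3 ^ n = 9 * 3 ^ (n - 2) := by
    obtain ⟨m, rfl⟩ : ∃ m, n = m + 2 := ⟨n - 2, by omega⟩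
    rw [Nat.add_sub_cancel, pow_add]
    ring
  omega

theorem central_mem_zpowers {x y z w : G}
    (hNF : ∀ g : G, ∃ a b : ℕ, ∃ t ∈ Subgroup.zpowers z, g = x ^ a * y ^ b * t)
    (hx : x ^ 3 = 1) (hy : y ^ 3 = 1) (hzc : ∀ g : G, g * z = z * g)
    (hw : ∀ g : G, g * w = w * g) (hyx : y * x = x * (y * w)) (hw1 : w ≠ 1) (hw3 : w ^ 3 = 1)
    (g : G) (hg : ∀ h : G, h * g = g * h) : g ∈ Subgroup.zpowers z := by
  haveI : Fact (Nat.Prime 3) := ⟨by norm_num⟩
  have how : orderOf w = 3 := orderOf_eq_prime hw3 hw1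
  obtain ⟨a, b, t, ht, rfl⟩ := hNF g
  have htc := zpowers_central hzc ht
  -- commute with x
  have h1 : y ^ b * x = x * y ^ b := by
    have h := hg x
    -- x * (x^a * y^b * t) = x^a * y^b * t * x
    have e1 : x ^ a * y ^ b * t * x = x ^ a * (y ^ b * x) * t := by
      rw [mul_assoc (x ^ a * y ^ b) t x, ← htc x]
      simp only [mul_assoc]
    have e2 : x * (x ^ a * y ^ b * t) = x ^ a * (x * y ^ b) * t := by
      rw [← mul_assoc, ← mul_assoc, ← pow_succ', pow_succ]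
      simp only [mul_assoc]
    rw [e1, e2] at h
    exact (mul_left_cancel (mul_right_cancel h)).symm
  have hb : w ^ b = 1 := by
    rw [yb_x hw hyx b] at h1
    have := mul_left_cancel h1
    exact mul_eq_left.mp this
  have hb3 : 3 ∣ b := by
    rw [← how]
    exact orderOf_dvd_of_pow_eq_one hb
  have hyb : y ^ b = 1 := by
    obtain ⟨k, rfl⟩ := hb3
    rw [pow_mul, hy, one_pow]
  rw [hyb, mul_one] at hg ⊢
  have h2 : y * x ^ a = x ^ a * y := by
    have h := hg y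
    have e1 : x ^ a * t * y = x ^ a * y * t := by
      rw [mul_assoc, ← htc y, ← mul_assoc]
    rw [e1, ← mul_assoc] at h
    exact mul_right_cancel h
  have ha : w ^ a = 1 := by
    rw [y_xa hw hyx a] at h2
    have := mul_left_cancel h2
    exact mul_eq_left.mp this
  have ha3 : 3 ∣ a := by
    rw [← how]
    exact orderOf_dvd_of_pow_eq_one ha
  have hxa : x ^ a = 1 := by
    obtain ⟨k, rfl⟩ := ha3
    rw [pow_mul, hx, one_pow]
  rw [hxa, one_mul]
  exact ht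

end t3

section main
variable {G : Type*} [Group G] [Finite G]

theorem exists_pow_of_mem_zpowers {g t : G} (h : t ∈ Subgroup.zpowers g) : ∃ k : ℕ, g ^ k = t := by
  rw [← (isOfFinOrder_of_finite g).mem_powers_iff_mem_zpowers] at h
  exact (Submonoid.mem_powers_iff _ _).mp h

theorem quot_comm (N : Subgroup G) [N.Normal] (hc : ∀ g h : G, ⁅g, h⁆ ∈ N) (a b : G ⧸ N) :
    a * b = b * a := by
  induction a using QuotientGroup.induction_on with
  | H a =>
    induction b using QuotientGroup.induction_on with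
    | H b =>
      rw [← QuotientGroup.mk_mul, ← QuotientGroup.mk_mul, QuotientGroup.eq]
      have h := hc b⁻¹ a⁻¹
      rw [commutatorElement_def, inv_inv, inv_inv] at h
      have e : (a * b)⁻¹ * (b * a) = b⁻¹ * a⁻¹ * b * a := by group
      rw [e]
      exact h

theorem comm_aux {Q : Type*} [Group Q] (hQc : ∀ a b : Q, a * b = b * a) (u v w : Q)
    (h1 : u * v * w = 1) (h2 : v ^ 3 = 1) : (u⁻¹ * v)⁻¹ * (v⁻¹ * w) = 1 := by
  letI : CommGroup Q := { (inferInstance : Group Q) with mul_comm := hQc }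
  have hw : w = (u * v)⁻¹ := eq_inv_of_mul_eq_one_right h1
  subst hw
  have e : (u⁻¹ * v)⁻¹ * (v⁻¹ * (u * v)⁻¹) = (v ^ 3)⁻¹ := by
    rw [pow_three]
    simp only [mul_inv_rev, inv_inv]
    rw [mul_comm v⁻¹ u, mul_assoc, mul_comm u, mul_assoc, mul_assoc, mul_assoc, inv_mul_cancel, mul_one,
      ← mul_assoc]
  rw [e, h2, inv_one]

/-- TYPE2 `type_two_fixed`. -/
theorem type_two_fixed (n : ℕ) (x y z : G) (hcard : Nat.card G = 3 ^ n) (hn : 4 ≤ n)
    (hgen : Subgroup.closure ({x, y, z} : Set G) = ⊤)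
    (hx : x ^ 3 = 1) (hy : y ^ 3 = 1) (hz : z ^ 3 ^ (n - 2) = 1) (hxz : x * z = z * x)
    (hyz : y * z = z * y) (hxy : x⁻¹ * y * x = y * z ^ 3 ^ (n - 3))
    (N : Subgroup G) [N.Normal] (h3 : ∀ g : G, g ^ 3 ∈ N) (hc : ∀ g h : G, ⁅g, h⁆ ∈ N)
    (hidx : N.index = 27) (φ : G ≃* G) (hφ3 : ∀ g : G, φ (φ (φ g)) = g)
    (hφN : ∀ g : G, g ∈ N ↔ φ g ∈ N) :
    ∃ g₁ g₂ : G, g₁⁻¹ * φ g₁ ∈ N ∧ g₂⁻¹ * φ g₂ ∈ N ∧ g₁ ∉ N ∧ ∀ k : ℕ, g₂ * g₁ ^ k ∉ N := by
  classical
  obtain ⟨m, rfl⟩ : ∃ m, n = m + 4 := ⟨n - 4, by omega⟩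
  have e2 : m + 4 - 2 = m + 2 := by omega
  have e3 : m + 4 - 3 = m + 1 := by omega
  rw [e2] at hz
  rw [e3] at hxy
  obtain ⟨w, hwdef⟩ : ∃ w : G, w = z ^ 3 ^ (m + 1) := ⟨_, rfl⟩
  rw [← hwdef] at hxy
  have hzc := z_central hgen hxz hyz
  have hwz : w ∈ Subgroup.zpowers z := hwdef ▸ pow_mem (Subgroup.mem_zpowers z) _
  have hw := zpowers_central hzc hwz
  have hyx : y * x = x * (y * w) := by
    rw [← hxy]
    group
  have hNF := normal_form hgen hx hy hzc hwz hyx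
  have hoz : orderOf z = 3 ^ (m + 2) := by
    have h := orderOf_z_eq (n := m + 4) hcard (by omega) hNF hx hy (by rw [e2]; exact hz)
    rw [e2] at h
    exact h
  have hw1 : w ≠ 1 := by
    rw [hwdef]
    apply pow_ne_one_of_lt_orderOf (by positivity)
    rw [hoz]
    exact Nat.pow_lt_pow_right (by norm_num) (by omega)
  have hw3 : w ^ 3 = 1 := by
    rw [hwdef, ← pow_mul, ← pow_succ]
    exact hz
  have hcen := central_mem_zpowers hNF hx hy hzc hw hyx hw1 hw3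
  -- `N = zpowers (z ^ 3)`
  have hNeq : Subgroup.zpowers (z ^ 3) = N := by
    apply Subgroup.eq_of_le_of_card_ge
    · rw [Subgroup.zpowers_le]
      exact h3 z
    · rw [Nat.card_zpowers, orderOf_pow' z (by norm_num : 3 ≠ 0), hoz]
      have hgcd : Nat.gcd (3 ^ (m + 2)) 3 = 3 := Nat.gcd_eq_right (dvd_pow_self 3 (by omega))
      rw [hgcd]
      have hNc : Nat.card N * 27 = 3 ^ (m + 4) := by
        rw [← hidx, Subgroup.card_mul_index, hcard]
      have h1 : 3 ^ (m + 2) / 3 = 3 ^ (m + 1) := by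
        rw [pow_succ 3 (m + 1), Nat.mul_div_cancel _ (by norm_num)]
      rw [h1]
      have h2 : 3 ^ (m + 4) = 3 ^ (m + 1) * 27 := by
        rw [show m + 4 = m + 1 + 3 by omega, pow_add]
        norm_num
      omega
  have hNz : ∀ t ∈ N, t ∈ Subgroup.zpowers z := by
    intro t ht
    rw [← hNeq] at ht
    exact (Subgroup.zpowers_le.mpr (pow_mem (Subgroup.mem_zpowers z) 3)) ht
  have hNcen : ∀ t ∈ N, ∀ g : G, g * t = t * g := fun t ht => zpowers_central hzc (hNz t ht)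
  have hcube : ∀ a b : G, (a * b) ^ 3 = a ^ 3 * b ^ 3 := mul_pow_three_of_central N hNcen h3 hc
  -- `φ z = z ^ k`, `k ≡ 1 (mod 3)`
  have hφz : φ z ∈ Subgroup.zpowers z := by
    apply hcen
    intro h
    obtain ⟨h', rfl⟩ := φ.surjective h
    rw [← map_mul, ← map_mul, hzc h']
  obtain ⟨k, hk⟩ := exists_pow_of_mem_zpowers hφz
  have hk3 : k % 3 = 1 := by
    have a1 : φ z = z ^ k := hk.symm
    have a2 : φ (φ z) = z ^ (k * k) := by
      rw [a1, map_pow, a1, ← pow_mul]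
    have h1 : φ (φ (φ z)) = z ^ (k * k * k) := by
      rw [a2, map_pow, a1, ← pow_mul, mul_assoc]
    rw [hφ3] at h1
    have h2 : z ^ 1 = z ^ (k * k * k) := by rw [pow_one]; exact h1
    rw [pow_eq_pow_iff_modEq, hoz] at h2
    have h4 : 1 ≡ k * k * k [MOD 3] := h2.of_dvd (dvd_pow_self 3 (by omega))
    unfold Nat.ModEq at h4
    have h5 : k % 3 = 0 ∨ k % 3 = 1 ∨ k % 3 = 2 := by omega
    rcases h5 with h5 | h5 | h5
    · rw [Nat.mul_mod, Nat.mul_mod k k, h5] at h4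
      norm_num at h4
    · exact h5
    · rw [Nat.mul_mod, Nat.mul_mod k k, h5] at h4
      norm_num at h4
  have hg1 : z⁻¹ * φ z ∈ N := by
    rw [← hk]
    have hk' : k = 3 * (k / 3) + 1 := by omega
    rw [hk', pow_succ, ← mul_assoc, pow_mul]
    have e : z⁻¹ * (z ^ 3) ^ (k / 3) * z = (z ^ 3) ^ (k / 3) := by
      rw [mul_assoc, hzc ((z ^ 3) ^ (k / 3)), inv_mul_cancel_left]
    rw [e]
    exact pow_mem (h3 z) _
  have hzN : z ∉ N := by
    intro hzN
    rw [← hNeq] at hzN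
    obtain ⟨j, hj⟩ := exists_pow_of_mem_zpowers hzN
    have h2 : z ^ (3 * j) = z ^ 1 := by rw [pow_mul, hj, pow_one]
    rw [pow_eq_pow_iff_modEq, hoz] at h2
    have h4 : 3 * j ≡ 1 [MOD 3] := h2.of_dvd (dvd_pow_self 3 (by omega))
    unfold Nat.ModEq at h4
    omega
  -- the plane `U = {g | g ^ 3 ∈ zpowers (z ^ 9)}`
  have hK : ∀ a : G, a ^ 3 ∈ Subgroup.zpowers (z ^ 9) → a⁻¹ ^ 3 ∈ Subgroup.zpowers (z ^ 9) := by
    intro a ha
    rw [inv_pow]
    exact inv_mem ha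
  have hU1 : ∀ a b : G, a ^ 3 ∈ Subgroup.zpowers (z ^ 9) → b ^ 3 ∈ Subgroup.zpowers (z ^ 9) →
      (a * b) ^ 3 ∈ Subgroup.zpowers (z ^ 9) := by
    intro a b ha hb
    rw [hcube]
    exact mul_mem ha hb
  have hU3 : ∀ a : G, a ^ 3 ∈ Subgroup.zpowers (z ^ 9) → (φ a) ^ 3 ∈ Subgroup.zpowers (z ^ 9) := by
    intro a ha
    obtain ⟨j, hj⟩ := exists_pow_of_mem_zpowers ha
    rw [← map_pow, ← hj, map_pow, map_pow, ← hk, ← pow_mul, ← pow_mul]
    have e : z ^ (k * (9 * j)) = (z ^ 9) ^ (k * j) := by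
      rw [← pow_mul]
      congr 1
      ring
    rw [e]
    exact pow_mem (Subgroup.mem_zpowers _) _
  have hU4 : ∀ t ∈ N, t ^ 3 ∈ Subgroup.zpowers (z ^ 9) := by
    intro t ht
    rw [← hNeq] at ht
    obtain ⟨j, rfl⟩ := exists_pow_of_mem_zpowers ht
    have e : ((z ^ 3) ^ j) ^ 3 = (z ^ 9) ^ j := by
      rw [← pow_mul, ← pow_mul, ← pow_mul]
      congr 1
      ring
    rw [e]
    exact pow_mem (Subgroup.mem_zpowers _) _
  have hU5 : ∀ i : ℕ, (z ^ i) ^ 3 ∈ Subgroup.zpowers (z ^ 9) → z ^ i ∈ N := by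
    intro i hi
    obtain ⟨j, hj⟩ := exists_pow_of_mem_zpowers hi
    rw [← pow_mul, ← pow_mul, pow_eq_pow_iff_modEq, hoz] at hj
    have h9 : 9 ∣ 3 ^ (m + 2) := ⟨3 ^ m, by rw [pow_add]; ring⟩
    have h4 : 9 * j ≡ i * 3 [MOD 9] := hj.of_dvd h9
    unfold Nat.ModEq at h4
    have hi3 : i = 3 * (i / 3) := by omega
    rw [hi3, pow_mul]
    exact pow_mem (h3 z) _
  have hxN : x ∉ N := by
    intro hxN
    have h1 := hNcen x hxN y
    rw [hyx] at h1
    have h2 := mul_left_cancel h1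
    exact hw1 (mul_eq_left.mp h2)
  have hxU : x ^ 3 ∈ Subgroup.zpowers (z ^ 9) := by
    rw [hx]
    exact one_mem _
  have hQc := quot_comm N hc
  have hmk : ∀ a : G, a ∈ N ↔ (QuotientGroup.mk a : G ⧸ N) = 1 :=
    fun a => (QuotientGroup.eq_one_iff a).symm
  obtain ⟨g₂, hg2U, hg2N, hg2fix⟩ : ∃ g₂ : G, g₂ ^ 3 ∈ Subgroup.zpowers (z ^ 9) ∧ g₂ ∉ N ∧
      g₂⁻¹ * φ g₂ ∈ N := by
    by_cases hA : ∃ u : G, u ^ 3 ∈ Subgroup.zpowers (z ^ 9) ∧ u * φ u * φ (φ u) ∉ N
    · obtain ⟨u, hu, huN⟩ := hA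
      refine ⟨u * φ u * φ (φ u), hU1 _ _ (hU1 _ _ hu (hU3 u hu)) (hU3 _ (hU3 u hu)), huN, ?_⟩
      rw [hmk, map_mul, map_mul, hφ3]
      simp only [QuotientGroup.mk_mul, QuotientGroup.mk_inv]
      rw [hQc ((φ u : G ⧸ N) * (φ (φ u) : G ⧸ N)) (u : G ⧸ N),
        ← mul_assoc (u : G ⧸ N) (φ u : G ⧸ N) (φ (φ u) : G ⧸ N), inv_mul_cancel]
    · have hA' : ∀ u : G, u ^ 3 ∈ Subgroup.zpowers (z ^ 9) → u * φ u * φ (φ u) ∈ N := by
        intro u hu
        by_contra h
        exact hA ⟨u, hu, h⟩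
      by_cases hB : ∃ u : G, u ^ 3 ∈ Subgroup.zpowers (z ^ 9) ∧ u⁻¹ * φ u ∉ N
      · obtain ⟨u, hu, huN⟩ := hB
        refine ⟨u⁻¹ * φ u, hU1 _ _ (hK u hu) (hU3 u hu), huN, ?_⟩
        have h1 := (hmk _).mp (hA' u hu)
        have h2 := (hmk _).mp (h3 (φ u))
        rw [hmk, map_mul, map_inv]
        simp only [QuotientGroup.mk_mul, QuotientGroup.mk_inv, QuotientGroup.mk_pow] at h1 h2 ⊢
        exact comm_aux hQc _ _ _ h1 h2
      · have hB' : ∀ u : G, u ^ 3 ∈ Subgroup.zpowers (z ^ 9) → u⁻¹ * φ u ∈ N := by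
          intro u hu
          by_contra h
          exact hB ⟨u, hu, h⟩
        exact ⟨x, hxU, hxN, hB' x hxU⟩
  refine ⟨z, g₂, hg1, hg2fix, hzN, ?_⟩
  intro i hi
  have h1 : (g₂ * z ^ i) ^ 3 ∈ Subgroup.zpowers (z ^ 9) := hU4 _ hi
  have h2 : (z ^ i) ^ 3 ∈ Subgroup.zpowers (z ^ 9) := by
    have h := hU1 _ _ (hK g₂ hg2U) h1
    rwa [inv_mul_cancel_left] at h
  have h3' := hU5 i h2
  apply hg2N
  have e : g₂ = (g₂ * z ^ i) * (z ^ i)⁻¹ := by group
  rw [e]
  exact mul_mem hi (inv_mem h3')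

end main

end Cfsg.Agent.Lib.Helper29.R3TYPE2
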