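import Cfsg.Agent.Lib.Helper29.R5JTools

/-! S5289 second wave, leaf R5J: structure of `D = Ω₁(E)` in the nonabelian case and the kernel of
`rhoHom`. -/

set_option autoImplicit false
open scoped commutatorElement
open Cfsg.Agent.Lib.Helper26 Cfsg.Agent.Lib.Helper26.R5

namespace Cfsg.Agent.Lib.Helper29.R5Leaf

section

variable {E : Type*} [Group E] [Finite E] {p : ℕ} [Fact p.Prime]

/-- (Ω) elements of `Ω₁(E)` have order dividing `p`. -/
theorem omegaSub_pow (hp : 3 < p) (hE : IsPGroup p E) (hrk : Cfsg.PRankLE p 2 E) (d : E)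
    (hd : d ∈ omegaSub p E) : d ^ p = 1 :=
  Cfsg.Agent.Lib.Helper1.omega_exponent_of_rank_two hp hE hrk d hd

theorem omegaSub_pow' (hp : 3 < p) (hE : IsPGroup p E) (hrk : Cfsg.PRankLE p 2 E)
    (d : ↥(omegaSub p E)) : d ^ p = 1 :=
  Subtype.ext (omegaSub_pow hp hE hrk d d.2)

/-- rank passes to subgroups. -/
theorem pRankLE_subgroup (hrk : Cfsg.PRankLE p 2 E) (D : Subgroup E) : Cfsg.PRankLE p 2 ↥D := by
  intro A hA hAe
  have h1 := hrk (A.map D.subtype) (by
    constructor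
    constructor
    rintro ⟨_, a, ha, rfl⟩ ⟨_, b, hb, rfl⟩
    apply Subtype.ext
    show D.subtype a * D.subtype b = D.subtype b * D.subtype a
    rw [← map_mul, ← map_mul]
    have := hA.is_comm.comm ⟨a, ha⟩ ⟨b, hb⟩
    exact congrArg D.subtype (congrArg Subtype.val this)) (by
    rintro _ ⟨a, ha, rfl⟩
    rw [← map_pow, hAe a ha, map_one])
  rwa [Subgroup.card_map_of_injective D.subtype_injective] at h1

/-- in the nonabelian case `|Ω₁(E)| = p³`. -/
theorem card_omegaSub (hp : 3 < p) (hE : IsPGroup p E) (hrk : Cfsg.PRankLE p 2 E)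
    (hnab : ∃ x y : E, x ^ p = 1 ∧ y ^ p = 1 ∧ x * y ≠ y * x) :
    Nat.card ↥(omegaSub p E) = p ^ 3 := by
  have hpp : p.Prime := Fact.out
  have hle : Nat.card ↥(omegaSub p E) ≤ p ^ 3 :=
    Cfsg.Agent.Lib.Helper8.R5Leaf.card_le_of_exp_rank_two (omegaSub_pow' hp hE hrk)
      (pRankLE_subgroup hrk _)
  obtain ⟨k, hk⟩ := (hE.to_subgroup (omegaSub p E)).exists_card_eq
  obtain ⟨x, y, hx, hy, hxy⟩ := hnab
  have hna : ¬ ∀ a b : ↥(omegaSub p E), a * b = b * a := by
    intro h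
    have := h ⟨x, mem_omegaSub_of_pow hx⟩ ⟨y, mem_omegaSub_of_pow hy⟩
    exact hxy (congrArg Subtype.val this)
  rw [hk] at hle
  have hk3 : k ≤ 3 := (Nat.pow_le_pow_iff_right hpp.one_lt).1 hle
  rw [hk]
  congr 1
  by_contra hne
  apply hna
  have hk2 : k ≤ 2 := by omega
  interval_cases k
  · intro a b
    have : Subsingleton ↥(omegaSub p E) := by
      rw [← Finite.card_le_one_iff_subsingleton, hk]; simp
    exact Subsingleton.elim _ _
  · have hcyc : IsCyclic ↥(omegaSub p E) := isCyclic_of_prime_card (p := p) (by rw [hk, pow_one])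
    intro a b
    exact (IsCyclic.isMulCommutative (α := ↥(omegaSub p E))).is_comm.comm a b
  · intro a b
    exact (IsPGroup.isMulCommutative_of_card_eq_prime_sq hk).is_comm.comm a b

end

/-- commutators do not see central factors. -/
theorem commutatorElement_mul_center {H : Type*} [Group H] (a b z₁ z₂ : H)
    (hz₁ : z₁ ∈ Subgroup.center H) (hz₂ : z₂ ∈ Subgroup.center H) :
    ⁅a * z₁, b * z₂⁆ = ⁅a, b⁆ := by
  rw [Subgroup.mem_center_iff] at hz₁ hz₂
  rw [commutatorElement_def, commutatorElement_def]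
  have h1 : z₁ * (b * z₂) * z₁⁻¹ = b * z₂ := by
    rw [← hz₁ (b * z₂), mul_inv_cancel_right]
  have h2 : z₂ * a⁻¹ * z₂⁻¹ = a⁻¹ := by
    rw [← hz₂ a⁻¹, mul_inv_cancel_right]
  calc a * z₁ * (b * z₂) * (a * z₁)⁻¹ * (b * z₂)⁻¹
      = a * (z₁ * (b * z₂) * z₁⁻¹) * a⁻¹ * (b * z₂)⁻¹ := by group
    _ = a * (b * z₂) * a⁻¹ * (b * z₂)⁻¹ := by rw [h1]
    _ = a * b * (z₂ * a⁻¹ * z₂⁻¹) * b⁻¹ := by group
    _ = a * b * a⁻¹ * b⁻¹ := by rw [h2]

section

variable {E : Type*} [Group E] [Finite E] {p : ℕ} [Fact p.Prime]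

theorem omegaSub_not_comm (hnab : ∃ x y : E, x ^ p = 1 ∧ y ^ p = 1 ∧ x * y ≠ y * x) :
    ¬ ∀ a b : ↥(omegaSub p E), a * b = b * a := by
  obtain ⟨x, y, hx, hy, hxy⟩ := hnab
  intro h
  have := h ⟨x, mem_omegaSub_of_pow hx⟩ ⟨y, mem_omegaSub_of_pow hy⟩
  exact hxy (congrArg Subtype.val this)

/-- `W = D / Z(D)` is commutative. -/
theorem W_comm (hp : 3 < p) (hE : IsPGroup p E) (hrk : Cfsg.PRankLE p 2 E)
    (hnab : ∃ x y : E, x ^ p = 1 ∧ y ^ p = 1 ∧ x * y ≠ y * x)
    (x y : ↥(omegaSub p E) ⧸ Subgroup.center ↥(omegaSub p E)) : x * y = y * x := by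
  have hcs := (cube_structure (card_omegaSub hp hE hrk hnab) (omegaSub_not_comm hnab)).1
  induction x using QuotientGroup.induction_on with
  | H a =>
  induction y using QuotientGroup.induction_on with
  | H b =>
  rw [← QuotientGroup.mk_mul, ← QuotientGroup.mk_mul, QuotientGroup.eq]
  have : (a * b)⁻¹ * (b * a) = ⁅b⁻¹, a⁻¹⁆ := by
    rw [commutatorElement_def]; group
  rw [this]
  exact hcs _ _

/-- `|W| = p²`. -/
theorem W_card (hp : 3 < p) (hE : IsPGroup p E) (hrk : Cfsg.PRankLE p 2 E)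
    (hnab : ∃ x y : E, x ^ p = 1 ∧ y ^ p = 1 ∧ x * y ≠ y * x) :
    Nat.card (↥(omegaSub p E) ⧸ Subgroup.center ↥(omegaSub p E)) = p ^ 2 := by
  have hpp : p.Prime := Fact.out
  have h1 := Subgroup.card_mul_index (Subgroup.center ↥(omegaSub p E))
  rw [card_center_of_cube (card_omegaSub hp hE hrk hnab) (omegaSub_not_comm hnab),
    card_omegaSub hp hE hrk hnab, Subgroup.index_eq_card] at h1
  have h3 : p ^ 3 = p * p ^ 2 := by rw [pow_succ, mul_comm]
  rw [h3] at h1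
  exact Nat.eq_of_mul_eq_mul_left hpp.pos h1

/-- `W` has exponent `p`. -/
theorem W_exp (hp : 3 < p) (hE : IsPGroup p E) (hrk : Cfsg.PRankLE p 2 E)
    (w : ↥(omegaSub p E) ⧸ Subgroup.center ↥(omegaSub p E)) : w ^ p = 1 := by
  induction w using QuotientGroup.induction_on with
  | H a =>
  rw [← QuotientGroup.mk_pow, omegaSub_pow' hp hE hrk a]
  rfl

/-- (a) the kernel of `rhoHom` consists of `p`-elements. -/
theorem exists_pow_eq_one_of_rhoHom_eq_one (hp : 3 < p) (hE : IsPGroup p E)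
    (hrk : Cfsg.PRankLE p 2 E)
    (hnab : ∃ x y : E, x ^ p = 1 ∧ y ^ p = 1 ∧ x * y ≠ y * x)
    (γ : MulAut E) (hγ : rhoHom p E γ = 1) : ∃ j : ℕ, γ ^ p ^ j = 1 := by
  have hpp : p.Prime := Fact.out
  have hcardD := card_omegaSub hp hE hrk hnab
  have hnaD := omegaSub_not_comm hnab
  have hcs := (cube_structure hcardD hnaD).1
  have hcz := card_center_of_cube hcardD hnaD
  have hmove := (rhoHom_eq_one_iff p E γ).1 hγ
  set γt : MulAut ↥(omegaSub p E) := MulAut.characteristic (omegaSub p E) γ with hγt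
  -- a nontrivial commutator, fixed by `γt`
  have hex : ∃ d₁ d₂ : ↥(omegaSub p E), ⁅d₁, d₂⁆ ≠ 1 := by
    by_contra hcon
    push Not at hcon
    apply hnaD
    intro a b
    exact commutatorElement_eq_one_iff_mul_comm.1 (hcon a b)
  obtain ⟨d₁, d₂, hz1⟩ := hex
  set z : ↥(omegaSub p E) := ⁅d₁, d₂⁆ with hz
  have hzc : z ∈ Subgroup.center ↥(omegaSub p E) := hcs d₁ d₂
  have hγz : γt z = z := by
    rw [hz, map_commutatorElement]
    have e1 : γt d₁ = d₁ * (d₁⁻¹ * γt d₁) := by rw [mul_inv_cancel_left]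
    have e2 : γt d₂ = d₂ * (d₂⁻¹ * γt d₂) := by rw [mul_inv_cancel_left]
    rw [e1, e2]
    exact commutatorElement_mul_center d₁ d₂ _ _ (hmove d₁) (hmove d₂)
  have hfix : ∀ w ∈ Subgroup.center ↥(omegaSub p E), γt w = w := by
    intro w hw
    have htop : Subgroup.zpowers (⟨z, hzc⟩ : ↥(Subgroup.center ↥(omegaSub p E))) = ⊤ :=
      zpowers_eq_top_of_prime_card hcz (fun h => hz1 (congrArg Subtype.val h))
    have hmem : (⟨w, hw⟩ : ↥(Subgroup.center ↥(omegaSub p E))) ∈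
        Subgroup.zpowers (⟨z, hzc⟩ : ↥(Subgroup.center ↥(omegaSub p E))) := by
      rw [htop]; trivial
    obtain ⟨n, hn⟩ := hmem
    have hwz : w = z ^ n := by
      have := congrArg Subtype.val hn
      simpa using this.symm
    rw [hwz, map_zpow, hγz]
  apply exists_pow_eq_one_of_stab (by omega) hE γ
    ((Subgroup.center ↥(omegaSub p E)).map (omegaSub p E).subtype)
  · rintro _ ⟨w, _, rfl⟩
    exact omegaSub_pow hp hE hrk w w.2
  · rintro _ ⟨w, hw, rfl⟩
    have := hfix w hw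
    have h2 := congrArg Subtype.val this
    rw [hγt, coe_characteristic_apply] at h2
    exact h2
  · intro x hx
    refine ⟨(⟨x, mem_omegaSub_of_pow hx⟩ : ↥(omegaSub p E))⁻¹ *
      γt ⟨x, mem_omegaSub_of_pow hx⟩, hmove _, ?_⟩
    simp only [Subgroup.coe_subtype, Subgroup.coe_mul, Subgroup.coe_inv, hγt,
      coe_characteristic_apply]

end

end Cfsg.Agent.Lib.Helper29.R5Leaf
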