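import Mathlib
import Cfsg.Prelude.Def_Blocks
import Cfsg.Agent.Lib.Helper6.Clifford
import Cfsg.Agent.Lib.Helper5.RODefs
import Cfsg.Agent.Lib.Helper1.MinNormal

/-!
# S4581 leaf (GT0) (helper29): a nontrivial finite solvable group has a nontrivial normal subgroup
that is a 2-group or has odd order (a minimal normal subgroup).
-/

set_option autoImplicit false

namespace Cfsg.Agent.Lib.Helper29.RO

open Cfsg Cfsg.Agent.Lib.Helper6 Cfsg.Agent.Lib.Helper5.RO

universe u

/-- (GT0) a nontrivial finite solvable group has a nontrivial normal subgroup that is a 2-group or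
has odd order. -/
theorem exists_normal_two_or_odd {G : Type u} [Group G] [Finite G] [Group.IsSolvable G]
    (hG : Nontrivial G) :
    ∃ N : Subgroup G, N.Normal ∧ N ≠ ⊥ ∧ (IsPGroup 2 N ∨ Odd (Nat.card N)) := by
  obtain ⟨N, hN⟩ := Cfsg.Agent.Lib.Helper1.exists_isMinNormal (G := G)
  obtain ⟨p, hp, hpN⟩ := hN.exists_prime_isPGroup
  refine ⟨N, hN.1, hN.2.1, ?_⟩
  by_cases h2 : p = 2
  · left; rw [← h2]; exact hpN
  · right
    have : Fact p.Prime := ⟨hp⟩
    obtain ⟨k, hk⟩ := hpN.exists_card_eq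
    rw [hk]
    exact (hp.odd_of_ne_two h2).pow

end Cfsg.Agent.Lib.Helper29.RO
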