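import Mathlib
import Cfsg.Prelude.Def_Blocks
import Cfsg.Agent.Lib.Helper6.Clifford
import Cfsg.Agent.Lib.Helper5.RODefs

/-!
# S4581 leaves (HS) and (HQ1) (helper29): `SqComm` and self-normalization pass to subgroups
`T ≥ P`; `SqComm` passes to the image Sylow subgroup of a quotient.
-/

set_option autoImplicit false

namespace Cfsg.Agent.Lib.Helper29.RO

open Cfsg Cfsg.Agent.Lib.Helper6 Cfsg.Agent.Lib.Helper5.RO

universe u

/-- (HS) the hypotheses of T2 pass to subgroups `T ≥ P`. -/
theorem sqComm_subtype {G : Type u} [Group G] [Finite G] (P : Sylow 2 G) (T : Subgroup G)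
    (hPT : (P : Subgroup G) ≤ T) (hsq : SqComm (P : Subgroup G)) :
    SqComm ((P.subtype hPT : Sylow 2 ↥T) : Subgroup ↥T) := by
  intro x hx
  have hx' : (x : G) ∈ (P : Subgroup G) := by
    rw [Sylow.coe_subtype, Subgroup.mem_subgroupOf] at hx
    exact hx
  have h1 := hsq (x : G) hx'
  rw [Sylow.coe_subtype]
  rw [← Subgroup.mem_map_iff_mem T.subtype_injective, Subgroup.map_commutator,
    Subgroup.subgroupOf_map_subtype, inf_eq_left.mpr hPT]
  simpa using h1

theorem normalizer_subtype_eq {G : Type u} [Group G] [Finite G] (P : Sylow 2 G) (T : Subgroup G)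
    (hPT : (P : Subgroup G) ≤ T)
    (hN : Subgroup.normalizer ((P : Subgroup G) : Set G) = (P : Subgroup G)) :
    Subgroup.normalizer (((P.subtype hPT : Sylow 2 ↥T) : Subgroup ↥T) : Set ↥T) =
      ((P.subtype hPT : Sylow 2 ↥T) : Subgroup ↥T) := by
  apply le_antisymm
  · intro x hx
    rw [Sylow.coe_subtype, Subgroup.mem_subgroupOf]
    rw [← hN, Subgroup.mem_normalizer_iff]
    intro p
    rw [Sylow.coe_subtype, Subgroup.mem_normalizer_iff] at hx
    constructor
    · intro hp
      have h1 := (hx ⟨p, hPT hp⟩).1 (by rw [Subgroup.mem_subgroupOf]; exact hp)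
      rw [Subgroup.mem_subgroupOf] at h1
      simpa using h1
    · intro hp
      have hpT : p ∈ T := by
        have h2 : (x : G)⁻¹ * ((x : G) * p * (x : G)⁻¹) * (x : G) ∈ T :=
          T.mul_mem (T.mul_mem (T.inv_mem x.2) (hPT hp)) x.2
        simpa [mul_assoc] using h2
      have h1 := (hx ⟨p, hpT⟩).2 (by rw [Subgroup.mem_subgroupOf]; simpa using hp)
      rw [Subgroup.mem_subgroupOf] at h1
      exact h1
  · exact Subgroup.le_normalizer

/-- (HQ1) `SqComm` passes to the image Sylow subgroup. -/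
theorem sqComm_mapSurjective {G : Type u} [Group G] [Finite G] (K : Subgroup G) [K.Normal]
    (P : Sylow 2 G) (hsq : SqComm (P : Subgroup G)) :
    SqComm ((P.mapSurjective (QuotientGroup.mk'_surjective K) : Sylow 2 (G ⧸ K)) :
      Subgroup (G ⧸ K)) := by
  intro y hy
  rw [Sylow.coe_mapSurjective] at hy ⊢
  obtain ⟨x, hx, rfl⟩ := hy
  rw [← Subgroup.map_commutator, ← map_pow]
  exact Subgroup.mem_map_of_mem _ (hsq x hx)

end Cfsg.Agent.Lib.Helper29.RO
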