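import Mathlib
import Cfsg.Prelude.Def_Blocks
import Cfsg.Agent.Lib.Helper4.RealExtDefs
import Cfsg.Agent.Lib.Helper4.RealExtE2Core

/-!
# S4580 leaf (E2), concrete wrapper (helper29) on helper4's abstract core `eq_principal_core`:
`L = P C_G(P)`, `c` = conjugation by `n ∈ N_G(P)` as a `MulAut L`, `m` = odd part of `orderOf n`,
`n ^ m ∈ P`.  The data of leaf (E1) enter as hypotheses in `eq_principal_of_E1`.
-/

set_option autoImplicit false

namespace Cfsg.Agent.Lib.Helper29.RealExt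

open Cfsg Cfsg.Agent.CharLib Cfsg.Agent.Lib.Helper6 Cfsg.Agent.Lib.Helper4.RealExt
open scoped ComplexConjugate

universe u
variable {G : Type u} [Group G]

/-- Conjugation by an element that normalizes the subgroup `L`, as an automorphism of `L`. -/
def conjAut (L : Subgroup G) (g : G) (hg : ∀ x : L, g * (x : G) * g⁻¹ ∈ L)
    (hg' : ∀ x : L, g⁻¹ * (x : G) * g ∈ L) : MulAut L where
  toFun x := ⟨g * (x : G) * g⁻¹, hg x⟩
  invFun x := ⟨g⁻¹ * (x : G) * g, hg' x⟩
  left_inv x := Subtype.ext (by simp [mul_assoc])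
  right_inv x := Subtype.ext (by simp [mul_assoc])
  map_mul' x y := Subtype.ext (by simp [mul_assoc])

theorem conjAut_coe (L : Subgroup G) (g : G) (hg : ∀ x : L, g * (x : G) * g⁻¹ ∈ L)
    (hg' : ∀ x : L, g⁻¹ * (x : G) * g ∈ L) (x : L) :
    ((conjAut L g hg hg' x : L) : G) = g * (x : G) * g⁻¹ := rfl

theorem conjAut_pow_coe (L : Subgroup G) (g : G) (hg : ∀ x : L, g * (x : G) * g⁻¹ ∈ L)
    (hg' : ∀ x : L, g⁻¹ * (x : G) * g ∈ L) (m : ℕ) (x : L) :
    ((((conjAut L g hg hg') ^ m) x : L) : G) = g ^ m * (x : G) * (g ^ m)⁻¹ := by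
  induction m generalizing x with
  | zero => simp
  | succ k ih =>
    rw [pow_succ, MulAut.mul_apply, ih, conjAut_coe, pow_succ]
    simp [mul_assoc]

variable [Finite G]

/-- Leaf (E2) with the data of leaf (E1) as hypotheses. -/
theorem eq_principal_of_E1 (M : Ideal AlgInt) (hM : IsPModular 2 M) (P : Sylow 2 G)
    (K : Subgroup ↥((P : Subgroup G) ⊔ Subgroup.centralizer ((P : Subgroup G) : Set G)))
    (hKn : K.Normal) (hKodd : Odd (Nat.card K)) (hKidx : ∃ k : ℕ, K.index = 2 ^ k)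
    (hinner : ∀ l : ↥((P : Subgroup G) ⊔ Subgroup.centralizer ((P : Subgroup G) : Set G)),
        ∃ u ∈ K, ∀ x ∈ K, l * x * l⁻¹ = u * x * u⁻¹)
    (hL : ∀ n ∈ Subgroup.normalizer ((P : Subgroup G) : Set G),
        ∀ x : ↥((P : Subgroup G) ⊔ Subgroup.centralizer ((P : Subgroup G) : Set G)),
          n * (x : G) * n⁻¹ ∈
            (P : Subgroup G) ⊔ Subgroup.centralizer ((P : Subgroup G) : Set G))
    (hKK : ∀ n ∈ Subgroup.normalizer ((P : Subgroup G) : Set G),
        ∀ x : ↥((P : Subgroup G) ⊔ Subgroup.centralizer ((P : Subgroup G) : Set G)), x ∈ K →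
          ∀ hx : n * (x : G) * n⁻¹ ∈
            (P : Subgroup G) ⊔ Subgroup.centralizer ((P : Subgroup G) : Set G),
          (⟨n * (x : G) * n⁻¹, hx⟩ :
            ↥((P : Subgroup G) ⊔ Subgroup.centralizer ((P : Subgroup G) : Set G))) ∈ K)
    (b : Set (IrrCharacter ↥((P : Subgroup G) ⊔ Subgroup.centralizer ((P : Subgroup G) : Set G))))
    (hb : IsPBlock M b) (n : G) (hn : n ∈ Subgroup.normalizer ((P : Subgroup G) : Set G))
    (h : ∀ θ ∈ b, ∃ θ' ∈ cbar '' b,
      ∀ x : ↥((P : Subgroup G) ⊔ Subgroup.centralizer ((P : Subgroup G) : Set G)),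
      ∀ hx : n * (x : G) * n⁻¹ ∈
        (P : Subgroup G) ⊔ Subgroup.centralizer ((P : Subgroup G) : Set G),
      (θ' : ↥((P : Subgroup G) ⊔ Subgroup.centralizer ((P : Subgroup G) : Set G)) → ℂ) x =
        (θ : ↥((P : Subgroup G) ⊔ Subgroup.centralizer ((P : Subgroup G) : Set G)) → ℂ)
          ⟨n * (x : G) * n⁻¹, hx⟩) :
    b = principalBlock M ↥((P : Subgroup G) ⊔ Subgroup.centralizer ((P : Subgroup G) : Set G)) := by
  classical
  have := hKn
  haveI : Fintype ↥((P : Subgroup G) ⊔ Subgroup.centralizer ((P : Subgroup G) : Set G)) :=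
    Fintype.ofFinite _
  haveI : Fintype K := Fintype.ofFinite _
  have hn' : n⁻¹ ∈ Subgroup.normalizer ((P : Subgroup G) : Set G) := inv_mem hn
  have hL' : ∀ x : ↥((P : Subgroup G) ⊔ Subgroup.centralizer ((P : Subgroup G) : Set G)),
      n⁻¹ * (x : G) * n ∈ (P : Subgroup G) ⊔ Subgroup.centralizer ((P : Subgroup G) : Set G) := by
    intro x
    have := hL n⁻¹ hn' x
    simpa using this
  set c : MulAut ↥((P : Subgroup G) ⊔ Subgroup.centralizer ((P : Subgroup G) : Set G)) :=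
    conjAut _ n (hL n hn) hL' with hcdef
  have hcK : ∀ x, x ∈ K ↔ c x ∈ K := by
    intro x
    constructor
    · intro hx
      exact hKK n hn x hx (hL n hn x)
    · intro hx
      have h1 := hKK n⁻¹ hn' (c x) hx (hL n⁻¹ hn' (c x))
      have h2 : (⟨n⁻¹ * ((c x : _) : G) * n⁻¹⁻¹, hL n⁻¹ hn' (c x)⟩ :
          ↥((P : Subgroup G) ⊔ Subgroup.centralizer ((P : Subgroup G) : Set G))) = x := by
        apply Subtype.ext
        change n⁻¹ * (n * (x : G) * n⁻¹) * n⁻¹⁻¹ = (x : G)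
        simp [mul_assoc]
      rwa [h2] at h1
  obtain ⟨a, m, hm, hord⟩ := Nat.exists_eq_two_pow_mul_odd (orderOf_pos n).ne'
  have hpow : (n ^ m) ^ 2 ^ a = 1 := by
    rw [← pow_mul, mul_comm, ← hord, pow_orderOf_eq_one]
  have hnmP : n ^ m ∈ (P : Subgroup G) := by
    have hpg : IsPGroup 2 (Subgroup.zpowers (n ^ m)) := by
      intro g
      refine ⟨a, ?_⟩
      obtain ⟨g, hg⟩ := g
      obtain ⟨k, rfl⟩ := Subgroup.mem_zpowers_iff.mp hg
      apply Subtype.ext
      change ((n ^ m) ^ k) ^ 2 ^ a = 1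
      rw [← zpow_natCast, ← zpow_mul, mul_comm, zpow_mul, zpow_natCast, hpow, one_zpow]
    have h1 := hpg.inf_normalizer_sylow P
    have h2 : n ^ m ∈ Subgroup.zpowers (n ^ m) ⊓ Subgroup.normalizer (P : Set G) :=
      ⟨Subgroup.mem_zpowers _, pow_mem hn m⟩
    rw [h1] at h2
    exact h2.2
  have hnmL : n ^ m ∈ (P : Subgroup G) ⊔ Subgroup.centralizer ((P : Subgroup G) : Set G) :=
    (le_sup_left : (P : Subgroup G) ≤ _) hnmP
  refine eq_principal_core M hM K hKodd hKidx hinner c hcK m hm ⟨n ^ m, hnmL⟩ ?_ b hb ?_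
  · intro x _
    apply Subtype.ext
    rw [hcdef, conjAut_pow_coe]
    simp
  · intro θ hθ
    obtain ⟨θ', hθ', hval⟩ := h θ hθ
    exact ⟨θ', hθ', fun x => hval x (hL n hn x)⟩

end Cfsg.Agent.Lib.Helper29.RealExt
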