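import Mathlib
import Cfsg.Prelude.Def_Blocks
import Cfsg.Agent.Lib.Helper4.RealExtDefs
import Cfsg.Agent.Lib.Helper22.RealExtE1
import Cfsg.Agent.Lib.Helper29.RealExtE2

/-!
# S4580 leaf (E2), final form (helper29): helper4's exact name + binders, from helper22's (E1)
and `eq_principal_of_E1`.
-/

set_option autoImplicit false

namespace Cfsg.Agent.Lib.Helper29.RealExt

open Cfsg Cfsg.Agent.CharLib Cfsg.Agent.Lib.Helper6 Cfsg.Agent.Lib.Helper4.RealExt
open scoped ComplexConjugate

universe u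
variable {G : Type u} [Group G] [Finite G]

/-- (E2) character part: a block of `L` that is `N_G(P)`-conjugate to its complex conjugate is
the principal block. -/
theorem eq_principal_of_conj_eq_cbar (M : Ideal AlgInt) (hM : IsPModular 2 M) (P : Sylow 2 G)
    (b : Set (IrrCharacter ↥((P : Subgroup G) ⊔ Subgroup.centralizer ((P : Subgroup G) : Set G))))
    (hb : IsPBlock M b) (n : G) (hn : n ∈ Subgroup.normalizer ((P : Subgroup G) : Set G))
    (h : ∀ θ ∈ b, ∃ θ' ∈ cbar '' b,
      ∀ x : ↥((P : Subgroup G) ⊔ Subgroup.centralizer ((P : Subgroup G) : Set G)),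
      ∀ hx : n * (x : G) * n⁻¹ ∈
        (P : Subgroup G) ⊔ Subgroup.centralizer ((P : Subgroup G) : Set G),
      (θ' : ↥((P : Subgroup G) ⊔ Subgroup.centralizer ((P : Subgroup G) : Set G)) → ℂ) x =
        (θ : ↥((P : Subgroup G) ⊔ Subgroup.centralizer ((P : Subgroup G) : Set G)) → ℂ)
          ⟨n * (x : G) * n⁻¹, hx⟩) :
    b = principalBlock M ↥((P : Subgroup G) ⊔ Subgroup.centralizer ((P : Subgroup G) : Set G)) := by
  obtain ⟨K, hKn, hKodd, hKidx, hinner, hL, hKK⟩ :=
    Cfsg.Agent.Lib.Helper22.RealExt.exists_normal_two_complement P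
  exact eq_principal_of_E1 M hM P K hKn hKodd hKidx hinner hL hKK b hb n hn h

end Cfsg.Agent.Lib.Helper29.RealExt
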