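import Mathlib
import Cfsg.Statements.S2752
import Cfsg.Agent.Lib.Helper16.SFDefs
import Cfsg.Agent.Lib.Helper8.ThTwoA
import Cfsg.Agent.Lib.Helper8.ThTwoE

/-!
# Market "SF" (S2752, planner helper16), leaf `card_le_two_mul` (helper29).
-/

set_option autoImplicit false
universe u v
open Cfsg Cfsg.Agent.Lib.Helper16.SF Cfsg.Agent.Lib.Helper8.ThTwo

namespace Cfsg.Agent.Lib.Helper29.SFLeaf

section grp
variable {H : Type u} [Group H] [Finite H]

/-- the subgroup `B ∪ B a` for an involution `a` commuting with `B` -/
def twoExt (B : Subgroup H) (a : H) (ha : a * a = 1) (hBa : ∀ b ∈ B, b * a = a * b) :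
    Subgroup H where
  carrier := {g | g ∈ B ∨ g * a ∈ B}
  one_mem' := Or.inl B.one_mem
  mul_mem' := by
    rintro g h (hg | hg) (hh | hh)
    · exact Or.inl (B.mul_mem hg hh)
    · right
      rw [mul_assoc]
      exact B.mul_mem hg hh
    · right
      have : g * h * a = g * a * h := by
        rw [mul_assoc, hBa h hh, ← mul_assoc]
      rw [this]
      exact B.mul_mem hg hh
    · left
      have : g * h = (g * a) * (h * a) := by
        have h1 := hBa (h * a) hh
        calc g * h = g * (a * a) * h := by rw [ha, mul_one]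
          _ = g * a * (a * h) := by group
          _ = g * a * (a * (h * (a * a))) := by rw [ha, mul_one]
          _ = g * a * (a * (h * a) * a) := by group
          _ = g * a * ((h * a) * a * a) := by rw [← h1]
          _ = g * a * ((h * a) * (a * a)) := by group
          _ = (g * a) * (h * a) := by rw [ha, mul_one]
      rw [this]
      exact B.mul_mem hg hh
  inv_mem' := by
    rintro g (hg | hg)
    · exact Or.inl (B.inv_mem hg)
    · right
      have hainv : a⁻¹ = a := inv_eq_of_mul_eq_one_left ha
      have h1 := hBa (g * a) hg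
      have h2 : a * g = g * a := by
        have : g * a * a = a * (g * a) := h1
        calc a * g = a * (g * (a * a)) := by rw [ha, mul_one]
          _ = a * (g * a) * a := by group
          _ = g * a * a * a := by rw [← this]
          _ = g * a * (a * a) := by group
          _ = g * a := by rw [ha, mul_one]
      have : g⁻¹ * a = (g * a)⁻¹ := by
        have e1 : g⁻¹ * a = (a⁻¹ * g)⁻¹ := by group
        rw [e1, hainv, h2]
      rw [this]
      exact B.inv_mem hg

/-- **card_le_two_mul**: `B ⊔ ⟨a⟩ = B ∪ aB` when `a² = 1` commutes with `B`. -/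
theorem card_le_two_mul (A B : Subgroup H) (a : H) (ha : a * a = 1) (hBa : ∀ b ∈ B, b * a = a * b)
    (hAB : A ≤ B ⊔ Subgroup.zpowers a) : Nat.card A ≤ 2 * Nat.card B := by
  classical
  have hle : B ⊔ Subgroup.zpowers a ≤ twoExt B a ha hBa := by
    refine sup_le (fun b hb => Or.inl hb) ?_
    rw [Subgroup.zpowers_le]
    right
    rw [ha]
    exact B.one_mem
  have h1 : Nat.card A ≤ Nat.card (twoExt B a ha hBa) :=
    Subgroup.card_le_of_le (hAB.trans hle)
  have h2 : Nat.card (twoExt B a ha hBa) ≤ Nat.card (↥B × Bool) := by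
    refine Nat.card_le_card_of_injective
      (fun g : ↥(twoExt B a ha hBa) =>
        if h : (g : H) ∈ B then ((⟨(g : H), h⟩ : ↥B), false)
        else ((⟨(g : H) * a, g.2.resolve_left h⟩ : ↥B), true)) ?_
    intro g g' hgg
    by_cases h : (g : H) ∈ B <;> by_cases h' : (g' : H) ∈ B
    · simp only [h, h', dite_true, Prod.mk.injEq, Subtype.mk.injEq, and_true] at hgg
      exact Subtype.ext hgg
    · simp [h, h'] at hgg
    · simp [h, h'] at hgg
    · simp only [h, h', dite_false, Prod.mk.injEq, Subtype.mk.injEq, and_true] at hgg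
      exact Subtype.ext (mul_right_cancel hgg)
  rw [Nat.card_prod, Nat.card_eq_fintype_card (α := Bool), Fintype.card_bool, mul_comm] at h2
  exact h1.trans h2

end grp

end Cfsg.Agent.Lib.Helper29.SFLeaf
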