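/-
helper29 (S4538, leaf T6a of notes/S4538_leaves.lean): `|B s_i B| = q |B|` in `↥(SLsub n F)`.
Port of helper7's `card_C_fund`: the map `F × B → C(s_i)`, `(t, b) ↦ x_i(t) s_i b` is a bijection.
-/
import Mathlib
import Cfsg.Agent.Lib.Helper27.SLGGDet
import Cfsg.Agent.Lib.Helper6.BNStA

set_option autoImplicit false

namespace Cfsg.Agent.Lib.Helper29.SLGG

open Matrix Equiv Cfsg Cfsg.Agent.Lib.Helper6.GLBN Cfsg.Agent.Lib.Helper27.SLGG
open Cfsg.Agent.Lib.Helper3.BN Cfsg.Agent.Lib.Helper3.WordLen Cfsg.Agent.Lib.Helper6.BNSt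

variable {n : ℕ} {F : Type*} [Field F]

/-- entries of the conjugate of `A` by the signed swap `sS k k'` -/
theorem sS_inv_mul_mul_apply (k k' : Fin n) (A : Matrix (Fin n) (Fin n) F) (i j : Fin n) :
    ((((sS k k' : GL (Fin n) F)⁻¹ : GL (Fin n) F) : Matrix (Fin n) (Fin n) F) * A *
      ((sS k k' : GL (Fin n) F) : Matrix (Fin n) (Fin n) F)) i j =
      (((if i = k then (-1 : Fˣ) else 1)⁻¹ : Fˣ) : F) * A (swap k k' i) (swap k k' j) *
        (((if j = k then (-1 : Fˣ) else 1 : Fˣ)) : F) := by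
  unfold sS
  rw [monoGL_inv, coe_monoGL, coe_monoGL, mul_mono_apply, mono_mul_apply]
  simp

/-- `s⁻¹ c s` is upper triangular if `c` is and `c k k' = 0` -/
theorem sS_conj_mem_Bup {k k' : Fin n} (hk : k'.val = k.val + 1) {c : GL (Fin n) F}
    (hc : c ∈ Bup n F) (h0 : (c : Matrix (Fin n) (Fin n) F) k k' = 0) :
    (sS k k' : GL (Fin n) F)⁻¹ * c * sS k k' ∈ Bup n F := by
  rw [mem_Bup]
  intro i j hji
  rw [Units.val_mul, Units.val_mul, sS_inv_mul_mul_apply]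
  rcases swap_lt_or hk hji with h | ⟨rfl, rfl⟩
  · rw [(mem_Bup.mp hc) _ _ h, mul_zero, zero_mul]
  · rw [swap_apply_left, swap_apply_right, h0, mul_zero, zero_mul]

/-- `s⁻¹ x_{kk'}(t) s = x_{k'k}(-t)` -/
theorem sS_conj_xGL {k k' : Fin n} (hkk' : k ≠ k') (t : F) :
    (sS k k' : GL (Fin n) F)⁻¹ * xGL k k' hkk' t * sS k k' = xGL k' k hkk'.symm (-t) := by
  unfold sS
  rw [mul_assoc, xGL_mul_monoGL, ← mul_assoc, inv_mul_cancel, one_mul]
  have e1 : (swap k k')⁻¹ k = k' := by simp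
  have e2 : (swap k k')⁻¹ k' = k := by simp
  apply Units.ext
  rw [coe_xGL, coe_xGL]
  simp only [e1, e2]
  congr 1
  simp [hkk'.symm]

theorem xGL_mem_SLsub {p q : Fin n} (hpq : p ≠ q) (t : F) : xGL p q hpq t ∈ SLsub n F := by
  rw [mem_SLsub, coe_xGL, Matrix.det_transvection_of_ne _ _ hpq]

/-- splitting off the root subgroup on the LEFT -/
theorem exists_factor_left {k k' : Fin n} (hk : k'.val = k.val + 1) {b : GL (Fin n) F}
    (hb : b ∈ Bup n F) (hkk' : k ≠ k') :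
    ∃ (t : F) (c : GL (Fin n) F), c ∈ Bup n F ∧ (c : Matrix (Fin n) (Fin n) F) k k' = 0 ∧
      b = xGL k k' hkk' t * c := by
  have hlt : k < k' := by rw [Fin.lt_def]; omega
  set t : F := (b : Matrix (Fin n) (Fin n) F) k k' / (b : Matrix (Fin n) (Fin n) F) k' k' with ht
  refine ⟨t, xGL k k' hkk' (-t) * b, ?_, ?_, ?_⟩
  · exact Subgroup.mul_mem _ (xGL_mem_Bup hlt _) hb
  · rw [Units.val_mul, coe_xGL, transvection_mul_apply', if_pos rfl, ht]
    field_simp [diag_ne_zero hb k']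
    ring
  · rw [← mul_assoc, xGL_mul, add_neg_cancel, xGL_zero, one_mul]

section
variable (P0 : Cfsg.BNPair (SLsub n F)) (h0 : IsSLBN n F P0)
include h0

theorem sl_hcardC [Fintype F] (i : SLι n) (hs : sSl n F i ∈ P0.S) :
    Nat.card (C P0 (sb P0 (sSl n F i) hs)) = Fintype.card F * Nat.card P0.B := by
  classical
  have hkk' : i.1.1 ≠ i.1.2 := SLι_ne i
  have hk : i.1.2.val = i.1.1.val + 1 := i.2.symm
  have hlt : i.1.1 < i.1.2 := by rw [Fin.lt_def]; omega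
  have hPB : ∀ g : SLsub n F, g ∈ P0.B ↔ (g : GL (Fin n) F) ∈ Bup n F := by
    intro g; rw [h0.hB]; exact Subgroup.mem_subgroupOf
  let X : F → SLsub n F := fun t => ⟨xGL i.1.1 i.1.2 hkk' t, xGL_mem_SLsub hkk' t⟩
  have hXB : ∀ t, X t ∈ P0.B := fun t => (hPB _).mpr (xGL_mem_Bup hlt t)
  let s : SLsub n F := sSl n F i
  let φ : F × P0.B → C P0 (sb P0 s hs) := fun p =>
    ⟨X p.1 * s * (p.2 : SLsub n F), by
      rw [sb, C_mk, mem_dc]
      exact ⟨X p.1, hXB p.1, p.2, p.2.2, rfl⟩⟩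
  have hinj : Function.Injective φ := by
    rintro ⟨t, b⟩ ⟨t', b'⟩ h
    have h1 : X t * s * (b : SLsub n F) = X t' * s * (b' : SLsub n F) := congrArg Subtype.val h
    have h2 : s⁻¹ * ((X t')⁻¹ * X t) * s = (b' : SLsub n F) * (b : SLsub n F)⁻¹ := by
      have : X t = X t' * s * (b' : SLsub n F) * (b : SLsub n F)⁻¹ * s⁻¹ := by
        rw [← h1]; group
      rw [this]; group
    have h3 : s⁻¹ * ((X t')⁻¹ * X t) * s ∈ P0.B := by
      rw [h2]; exact P0.B.mul_mem b'.2 (P0.B.inv_mem b.2)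
    rw [hPB] at h3
    have h4 : ((s⁻¹ * ((X t')⁻¹ * X t) * s : SLsub n F) : GL (Fin n) F) =
        xGL i.1.2 i.1.1 hkk'.symm (-(t - t')) := by
      show (sS i.1.1 i.1.2 : GL (Fin n) F)⁻¹ * ((xGL i.1.1 i.1.2 hkk' t')⁻¹ *
        xGL i.1.1 i.1.2 hkk' t) * sS i.1.1 i.1.2 = _
      rw [xGL_inv, xGL_mul, ← sS_conj_xGL hkk']
      congr 3
      ring
    rw [h4] at h3
    have h5 := (mem_Bup.mp h3) i.1.2 i.1.1 hlt
    rw [coe_xGL, transvection_apply', if_neg (Ne.symm hkk'), if_pos ⟨rfl, rfl⟩, zero_add] at h5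
    have htt : t = t' := by
      have : t - t' = 0 := by linear_combination -h5
      exact sub_eq_zero.mp this
    subst htt
    have hbb : (b : SLsub n F) = b' := mul_left_cancel h1
    exact Prod.ext rfl (Subtype.ext hbb)
  have hsurj : Function.Surjective φ := by
    rintro ⟨g, hg⟩
    rw [sb, C_mk, mem_dc] at hg
    obtain ⟨b₁, hb₁, b₂, hb₂, rfl⟩ := hg
    obtain ⟨t, c, hc, hc0, he⟩ := exists_factor_left hk ((hPB b₁).mp hb₁) hkk'
    have hcB := sS_conj_mem_Bup hk hc hc0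
    have hcS : (sS i.1.1 i.1.2 : GL (Fin n) F)⁻¹ * c * sS i.1.1 i.1.2 ∈ SLsub n F := by
      have hcSL : c ∈ SLsub n F := by
        have : c = (xGL i.1.1 i.1.2 hkk' t)⁻¹ * (b₁ : GL (Fin n) F) := by rw [he]; group
        rw [this]
        exact (SLsub n F).mul_mem ((SLsub n F).inv_mem (xGL_mem_SLsub hkk' t)) b₁.2
      exact (SLsub n F).mul_mem ((SLsub n F).mul_mem ((SLsub n F).inv_mem
        (sS_mem_SLsub hkk')) hcSL) (sS_mem_SLsub hkk')
    refine ⟨(t, ⟨⟨(sS i.1.1 i.1.2 : GL (Fin n) F)⁻¹ * c * sS i.1.1 i.1.2, hcS⟩ * b₂, ?_⟩), ?_⟩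
    · exact P0.B.mul_mem ((hPB _).mpr hcB) hb₂
    · apply Subtype.ext
      apply Subtype.ext
      show xGL i.1.1 i.1.2 hkk' t * (sS i.1.1 i.1.2 : GL (Fin n) F) *
        ((sS i.1.1 i.1.2 : GL (Fin n) F)⁻¹ * c * sS i.1.1 i.1.2 * (b₂ : GL (Fin n) F)) =
        (b₁ : GL (Fin n) F) * (sS i.1.1 i.1.2 : GL (Fin n) F) * (b₂ : GL (Fin n) F)
      rw [he]; group
  have hcard := Nat.card_congr (Equiv.ofBijective φ ⟨hinj, hsurj⟩)
  rw [Nat.card_prod, Nat.card_eq_fintype_card] at hcard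
  exact hcard.symm

end

end Cfsg.Agent.Lib.Helper29.SLGG
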