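import Mathlib
import Cfsg.Agent.S2572
import Cfsg.Agent.S2579

/-!
helper29, leaf CLS of helper16's S2332 market: the size of the conjugacy class of a transvection in
`SL_n(F)`, `n ≥ 3`, `|F| = q`:  `[SL_n : C(t)] * (q - 1) = (q ^ n - 1) * (q ^ (n - 1) - 1)`.

Route: by S2579 (helper15) the `SL_n`-class of `t` is the set of all transvections of determinant one, which is
also the `GL_n`-class of `t`; so the two centralizer indices agree, and S2572 (helper15) gives the order of the
centralizer in `GL_n`; the rest is arithmetic with `Matrix.card_GL_field`.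
-/

set_option autoImplicit false

namespace Cfsg.Agent.Lib.Helper29.SLTvClass

open Matrix Cfsg

/-- orbit-stabilizer for conjugation: the number of conjugates is the index of the centralizer -/
theorem card_isConj_eq_index {G : Type*} [Group G] [Finite G] (g : G) :
    Nat.card {x : G // IsConj g x} = (Subgroup.centralizer ({g} : Set G)).index := by
  have h1 : {x : G | IsConj g x} = MulAction.orbit (ConjAct G) g := by
    ext x
    rw [ConjAct.mem_orbit_conjAct, isConj_comm]
    rfl
  have h2 : (MulAction.stabilizer (ConjAct G) g).index = (MulAction.orbit (ConjAct G) g).ncard :=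
    MulAction.index_stabilizer (ConjAct G) g
  have h3 : (Subgroup.centralizer ({g} : Set G)).index =
      (MulAction.stabilizer (ConjAct G) g).index := by
    rw [Subgroup.centralizer_eq_comap_stabilizer]
    exact Subgroup.index_comap_of_surjective _ ConjAct.toConjAct.surjective
  have h4 : Nat.card {x : G // IsConj g x} = {x : G | IsConj g x}.ncard :=
    Nat.card_coe_set_eq _
  rw [h4, h1, ← h2, h3]

variable {F : Type*} [Field F]

/-- a conjugate of a transvection is a transvection -/
theorem isTransvection_conj {n : ℕ} (P Q s : Matrix (Fin n) (Fin n) F) (hPQ : P * Q = 1)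
    (hQP : Q * P = 1) (hs : IsTransvection s) : IsTransvection (P * s * Q) := by
  have hPdet : IsUnit P.det := by
    have : P.det * Q.det = 1 := by rw [← Matrix.det_mul, hPQ, Matrix.det_one]
    exact IsUnit.of_mul_eq_one _ this
  have hQdet : IsUnit Q.det := by
    have : Q.det * P.det = 1 := by rw [← Matrix.det_mul, hQP, Matrix.det_one]
    exact IsUnit.of_mul_eq_one _ this
  have h1 : P * s * Q - 1 = P * (s - 1) * Q := by
    rw [mul_sub, sub_mul, mul_one, hPQ]
  refine ⟨?_, ?_⟩
  · rw [h1, Matrix.rank_mul_eq_left_of_isUnit_det Q _ hQdet,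
      Matrix.rank_mul_eq_right_of_isUnit_det P _ hPdet]
    exact hs.1
  · rw [h1]
    calc P * (s - 1) * Q * (P * (s - 1) * Q) = P * (s - 1) * (Q * P) * (s - 1) * Q := by
          simp only [mul_assoc]
      _ = P * ((s - 1) * (s - 1)) * Q := by rw [hQP, mul_one]; simp only [mul_assoc]
      _ = 0 := by rw [hs.2, mul_zero, zero_mul]

variable [Fintype F]

/-- the centralizers of a transvection in `SL_n` and in `GL_n` have the same index (`n ≥ 3`) -/
theorem index_centralizer_SL_eq_GL {n : ℕ} (hn : 3 ≤ n) (t : SpecialLinearGroup (Fin n) F)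
    (ht : IsTransvection (t : Matrix (Fin n) (Fin n) F)) :
    (Subgroup.centralizer ({t} : Set (SpecialLinearGroup (Fin n) F))).index =
      (Subgroup.centralizer ({SpecialLinearGroup.toGL t} : Set (GL (Fin n) F))).index := by
  rw [← card_isConj_eq_index, ← card_isConj_eq_index]
  let f : {x : SpecialLinearGroup (Fin n) F // IsConj t x} →
      {y : GL (Fin n) F // IsConj (SpecialLinearGroup.toGL t) y} :=
    fun x => ⟨SpecialLinearGroup.toGL x.1, SpecialLinearGroup.toGL.map_isConj x.2⟩
  apply Nat.card_eq_of_bijective f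
  constructor
  · intro x y hxy
    apply Subtype.ext
    apply SpecialLinearGroup.toGL_injective
    exact congrArg Subtype.val hxy
  · rintro ⟨y, hy⟩
    obtain ⟨c, hc⟩ := isConj_iff.mp hy
    have hymat : (y : Matrix (Fin n) (Fin n) F) =
        (c : Matrix (Fin n) (Fin n) F) * (t : Matrix (Fin n) (Fin n) F) *
          ((c⁻¹ : GL (Fin n) F) : Matrix (Fin n) (Fin n) F) := by
      rw [← hc]
      rfl
    have hcc : (c : Matrix (Fin n) (Fin n) F) * ((c⁻¹ : GL (Fin n) F) : Matrix (Fin n) (Fin n) F) = 1 := by
      rw [← Units.val_mul, mul_inv_cancel]; rfl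
    have hcc' : ((c⁻¹ : GL (Fin n) F) : Matrix (Fin n) (Fin n) F) * (c : Matrix (Fin n) (Fin n) F) = 1 := by
      rw [← Units.val_mul, inv_mul_cancel]; rfl
    have hdet : (y : Matrix (Fin n) (Fin n) F).det = 1 := by
      rw [hymat, Matrix.det_mul, Matrix.det_mul, t.2, mul_one, ← Matrix.det_mul, hcc, Matrix.det_one]
    have hytv : IsTransvection (y : Matrix (Fin n) (Fin n) F) := by
      rw [hymat]
      exact isTransvection_conj _ _ _ hcc hcc' ht
    let y₀ : SpecialLinearGroup (Fin n) F := ⟨(y : Matrix (Fin n) (Fin n) F), hdet⟩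
    have hconj : IsConj t y₀ := Cfsg.Agent.S2579.result hn t y₀ ht hytv
    refine ⟨⟨y₀, hconj⟩, ?_⟩
    apply Subtype.ext
    apply Units.ext
    rfl

/-- arithmetic: `|GL_n(q)| * (q - 1) = (q^n - 1)(q^(n-1) - 1) * |C_GL(t)|` -/
theorem card_GL_arith (q k : ℕ) :
    (∏ i : Fin (k + 3), (q ^ (k + 3) - q ^ (i : ℕ))) * (q - 1) =
      (q ^ (k + 3) - 1) * (q ^ (k + 2) - 1) *
        (q ^ (2 * (k + 3) - 3) * (q - 1) * ∏ i : Fin (k + 1), (q ^ (k + 1) - q ^ (i : ℕ))) := by
  rw [Fin.prod_univ_succ, Fin.prod_univ_succ]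
  have h1 : ∀ i : Fin (k + 1), q ^ (k + 3) - q ^ ((i.succ.succ : Fin (k + 3)) : ℕ) =
      q ^ 2 * (q ^ (k + 1) - q ^ (i : ℕ)) := by
    intro i
    rw [Nat.mul_sub]
    congr 1
    · ring
    · simp only [Fin.val_succ]; ring
  rw [Finset.prod_congr rfl (fun i _ => h1 i), Finset.prod_mul_distrib]
  simp only [Finset.prod_const, Finset.card_univ, Fintype.card_fin, Fin.val_zero, pow_zero,
    Fin.val_succ, zero_add, pow_one]
  have h2 : q ^ (k + 3) - q = q * (q ^ (k + 2) - 1) := by
    rw [Nat.mul_sub, mul_one]; congr 1; ring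
  have h3 : 2 * (k + 3) - 3 = 2 * (k + 1) + 1 := by omega
  rw [h2, h3]
  ring

/-- **CLS**: the class size of a transvection of `SL_n(q)`, `n ≥ 3`, multiplicative form. -/
theorem index_centralizer_mul {n : ℕ} (hn : 3 ≤ n) (t : SpecialLinearGroup (Fin n) F)
    (ht : IsTransvection (t : Matrix (Fin n) (Fin n) F)) :
    (Subgroup.centralizer ({t} : Set (SpecialLinearGroup (Fin n) F))).index * (Fintype.card F - 1) =
      (Fintype.card F ^ n - 1) * (Fintype.card F ^ (n - 1) - 1) := by
  obtain ⟨k, rfl⟩ : ∃ k, n = k + 3 := ⟨n - 3, by omega⟩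
  rw [index_centralizer_SL_eq_GL hn t ht]
  set q := Fintype.card F with hq
  set C := Subgroup.centralizer ({SpecialLinearGroup.toGL t} : Set (GL (Fin (k + 3)) F)) with hC
  have hcardC : Nat.card C = q ^ (2 * (k + 3) - 3) * (q - 1) *
      ∏ i : Fin (k + 3 - 2), (q ^ (k + 3 - 2) - q ^ (i : ℕ)) :=
    Cfsg.Agent.S2572.result (F := F) (q := q) (n := k + 3) rfl (by omega)
      (SpecialLinearGroup.toGL t) ht
  have hk : k + 3 - 2 = k + 1 := by omega
  rw [hk] at hcardC
  have hGL : Nat.card (GL (Fin (k + 3)) F) = ∏ i : Fin (k + 3), (q ^ (k + 3) - q ^ (i : ℕ)) :=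
    Matrix.card_GL_field (k + 3)
  have hidx : C.index * Nat.card C = Nat.card (GL (Fin (k + 3)) F) := Subgroup.index_mul_card C
  have harith := card_GL_arith q k
  rw [← hGL, ← hidx, ← hcardC] at harith
  have hpos : 0 < Nat.card C := Nat.card_pos
  have : C.index * (q - 1) * Nat.card C =
      (q ^ (k + 3) - 1) * (q ^ (k + 2) - 1) * Nat.card C := by
    rw [← harith]; ring
  have h4 := Nat.eq_of_mul_eq_mul_right hpos this
  rw [h4]
  rfl

/-- **CLS**, quotient form (as in helper16's call). -/
theorem index_centralizer_eq {n : ℕ} (hn : 3 ≤ n) (t : SpecialLinearGroup (Fin n) F)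
    (ht : IsTransvection (t : Matrix (Fin n) (Fin n) F)) :
    (Subgroup.centralizer ({t} : Set (SpecialLinearGroup (Fin n) F))).index =
      (Fintype.card F ^ n - 1) * (Fintype.card F ^ (n - 1) - 1) / (Fintype.card F - 1) := by
  have h := index_centralizer_mul hn t ht
  have hq : 0 < Fintype.card F - 1 := by
    have := Fintype.one_lt_card (α := F)
    omega
  rw [← h, Nat.mul_div_cancel _ hq]

/-- the same for the number of conjugates -/
theorem card_isConj_transvection {n : ℕ} (hn : 3 ≤ n) (t : SpecialLinearGroup (Fin n) F)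
    (ht : IsTransvection (t : Matrix (Fin n) (Fin n) F)) :
    Nat.card {x : SpecialLinearGroup (Fin n) F // IsConj t x} * (Fintype.card F - 1) =
      (Fintype.card F ^ n - 1) * (Fintype.card F ^ (n - 1) - 1) := by
  rw [card_isConj_eq_index]
  exact index_centralizer_mul hn t ht

omit [Fintype F] in
/-- a matrix unit `c E_ij`, `c ≠ 0`, has rank one -/
theorem rank_single_eq_one {n : ℕ} (i j : Fin n) (c : F) (hc : c ≠ 0) :
    (Matrix.single i j c).rank = 1 := by
  apply le_antisymm
  · have : Matrix.single i j c = Matrix.vecMulVec (Pi.single i c) (Pi.single j 1) := by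
      ext a b
      rw [Matrix.vecMulVec_apply, Matrix.single_apply, Pi.single_apply, Pi.single_apply]
      by_cases h1 : a = i
      · by_cases h2 : b = j
        · subst h1; subst h2; simp
        · subst h1
          have h2' : ¬ j = b := fun h => h2 h.symm
          simp [h2, h2']
      · have h1' : ¬ i = a := fun h => h1 h.symm
        simp [h1, h1']
    rw [this]
    exact Matrix.rank_vecMulVec_le _ _
  · by_contra h
    have h0 : (Matrix.single i j c).rank = 0 := by omega
    rw [Matrix.rank, Submodule.finrank_eq_zero, LinearMap.range_eq_bot] at h0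
    have h1 := congrFun (LinearMap.congr_fun h0 (Pi.single j 1)) i
    rw [Matrix.mulVecLin_apply, Matrix.mulVec_single_one] at h1
    simp at h1
    exact hc h1

omit [Fintype F] in
/-- the elementary transvections `1 + c E_ij` (`i ≠ j`, `c ≠ 0`) are transvections in the sense of the Prelude -/
theorem isTransvection_transvection {n : ℕ} (i j : Fin n) (hij : i ≠ j) (c : F) (hc : c ≠ 0) :
    IsTransvection (Matrix.transvection i j c) := by
  have h1 : Matrix.transvection i j c - 1 = Matrix.single i j c := by
    rw [Matrix.transvection]; abel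
  refine ⟨?_, ?_⟩
  · rw [h1]; exact rank_single_eq_one i j c hc
  · rw [h1, Matrix.single_mul_single_of_ne _ _ _ _ hij.symm]

/-- **CLS** for the standard transvection `1 + E_ij`. -/
theorem index_centralizer_transvection {n : ℕ} (hn : 3 ≤ n) (i j : Fin n) (hij : i ≠ j)
    (t : SpecialLinearGroup (Fin n) F)
    (ht : (t : Matrix (Fin n) (Fin n) F) = Matrix.transvection i j 1) :
    (Subgroup.centralizer ({t} : Set (SpecialLinearGroup (Fin n) F))).index * (Fintype.card F - 1) =
      (Fintype.card F ^ n - 1) * (Fintype.card F ^ (n - 1) - 1) :=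
  index_centralizer_mul hn t (ht ▸ isTransvection_transvection i j hij 1 one_ne_zero)

end Cfsg.Agent.Lib.Helper29.SLTvClass
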