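import Mathlib
import Cfsg.Agent.Lib.Helper29.SOT4A3

/-!
S4004 leaf `A4_abs` (planner helper18, notes/S4004_leaves.lean): second norm-product argument (spare).
-/

set_option autoImplicit false

namespace Cfsg.Agent.Lib.Helper29.SOT4

open Finset

theorem conj_pow_mem_zpowers {H : Type*} [Group H] (y σ : H)
    (hnorm : σ * y * σ⁻¹ ∈ Subgroup.zpowers y) (n : ℕ) :
    ∀ h ∈ Subgroup.zpowers y, σ ^ n * h * (σ ^ n)⁻¹ ∈ Subgroup.zpowers y := by
  induction n with
  | zero => intro h hh; simpa using hh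
  | succ n ih =>
    intro h hh
    have h1 := ih h hh
    obtain ⟨k, hk⟩ := Subgroup.mem_zpowers_iff.mp h1
    have h2 : σ ^ (n + 1) * h * (σ ^ (n + 1))⁻¹ = σ * (σ ^ n * h * (σ ^ n)⁻¹) * σ⁻¹ := by
      rw [pow_succ']
      group
    rw [h2, ← hk]
    have h3 : σ * y ^ k * σ⁻¹ = (σ * y * σ⁻¹) ^ k := by
      have := map_zpow (MulAut.conj σ) y k
      simpa [MulAut.conj_apply] using this
    rw [h3]
    exact Subgroup.zpow_mem _ hnorm k

theorem A4_abs {H A : Type*} [Group H] [Finite H] [CommGroup A] (φ : H →* MulAut A) (r r' : ℕ) (hr : r.Prime) (hr' : r'.Prime)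
    (y σ : H) (hy : orderOf y = r') (hσ : orderOf σ = r)
    (hnorm : σ * y * σ⁻¹ ∈ Subgroup.zpowers y) (hnc : ¬ Commute σ y)
    (hfy : ∀ a : A, φ y a = a → a = 1)
    (hN : ∀ a : A, ∏ j ∈ Finset.range r, φ (σ ^ j) a = 1) : ∀ a : A, a ^ r' = 1 := by
  classical
  intro a
  let _ : Fintype ↥(Subgroup.zpowers y) := Fintype.ofFinite _
  haveI : Fact r'.Prime := ⟨hr'⟩
  haveI : Fact r.Prime := ⟨hr⟩
  have hcardN : Nat.card ↥(Subgroup.zpowers y) = r' := by rw [Nat.card_zpowers, hy]
  have hcard : Fintype.card ↥(Subgroup.zpowers y) = r' := by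
    rw [← Nat.card_eq_fintype_card, hcardN]
  -- each row is trivial
  have hrow : ∀ x : ↥(Subgroup.zpowers y), ∏ j ∈ range r, φ ((x : H) * σ ^ j * (x : H)⁻¹) a = 1 := by
    intro x
    have h1 : ∀ j ∈ range r, φ ((x : H) * σ ^ j * (x : H)⁻¹) a = φ (x : H) (φ (σ ^ j) (φ (x : H)⁻¹ a)) := by
      intro j _
      rw [map_mul, map_mul, MulAut.mul_apply, MulAut.mul_apply]
    rw [Finset.prod_congr rfl h1, ← map_prod, hN, map_one]
  have htot : ∏ x : ↥(Subgroup.zpowers y), ∏ j ∈ range r, φ ((x : H) * σ ^ j * (x : H)⁻¹) a = 1 :=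
    Finset.prod_eq_one fun x _ => hrow x
  rw [Finset.prod_comm] at htot
  have hM : ∀ b : A, ∏ w : ↥(Subgroup.zpowers y), φ (w : H) b = 1 := fun b =>
    hfy _ (norm_zpowers_fixed φ y b)
  have hcol : ∀ j ∈ range r, ∏ x : ↥(Subgroup.zpowers y), φ ((x : H) * σ ^ j * (x : H)⁻¹) a
      = if j = 0 then a ^ r' else 1 := by
    intro j hj
    by_cases h0 : j = 0
    · subst h0
      simp [hcard]
    · rw [if_neg h0]
      have hjr : j < r := Finset.mem_range.mp hj
      -- the map c_j
      let c : ↥(Subgroup.zpowers y) → ↥(Subgroup.zpowers y) := fun x =>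
        ⟨(x : H) * (σ ^ j * (x : H)⁻¹ * (σ ^ j)⁻¹),
          Subgroup.mul_mem _ x.2 (conj_pow_mem_zpowers y σ hnorm j _ (Subgroup.inv_mem _ x.2))⟩
      have hcval : ∀ x : ↥(Subgroup.zpowers y), (x : H) * σ ^ j * (x : H)⁻¹ = ((c x : ↥(Subgroup.zpowers y)) : H) * σ ^ j := by
        intro x
        simp only [c]
        group
      have hinj : Function.Injective c := by
        intro x x' hxx
        by_contra hne
        have hval : (x : H) * σ ^ j * (x : H)⁻¹ = (x' : H) * σ ^ j * (x' : H)⁻¹ := by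
          rw [hcval x, hcval x', hxx]
        -- g := x'⁻¹ x commutes with σ^j
        let g : ↥(Subgroup.zpowers y) := x'⁻¹ * x
        have hg1 : g ≠ 1 := by
          intro hg
          apply hne
          have : x'⁻¹ * x = 1 := hg
          have h2 := inv_mul_eq_one.mp this
          exact h2.symm
        have hgc : Commute (g : H) (σ ^ j) := by
          show (g : H) * σ ^ j = σ ^ j * (g : H)
          have : ((x' : H))⁻¹ * ((x : H) * σ ^ j * (x : H)⁻¹) * (x : H) = ((x' : H))⁻¹ * ((x' : H) * σ ^ j * (x' : H)⁻¹) * (x : H) := by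
            rw [hval]
          simp only [g, Subgroup.coe_mul, Subgroup.coe_inv]
          have e1 : ((x' : H))⁻¹ * ((x : H) * σ ^ j * (x : H)⁻¹) * (x : H) = ((x' : H))⁻¹ * (x : H) * σ ^ j := by group
          have e2 : ((x' : H))⁻¹ * ((x' : H) * σ ^ j * (x' : H)⁻¹) * (x : H) = σ ^ j * (((x' : H))⁻¹ * (x : H)) := by group
          rw [e1, e2] at this
          exact this
        -- y is a power of g
        have hyg : (⟨y, Subgroup.mem_zpowers y⟩ : ↥(Subgroup.zpowers y)) ∈ Subgroup.zpowers g :=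
          mem_zpowers_of_prime_card hcardN hg1
        obtain ⟨k, hk⟩ := Subgroup.mem_zpowers_iff.mp hyg
        have hyk : (g : H) ^ k = y := by
          have := congrArg Subtype.val hk
          simpa using this
        have hyc : Commute y (σ ^ j) := by
          rw [← hyk]
          exact hgc.zpow_left k
        -- σ is a power of σ^j
        have hcardS : Nat.card ↥(Subgroup.zpowers σ) = r := by rw [Nat.card_zpowers, hσ]
        let s : ↥(Subgroup.zpowers σ) := ⟨σ, Subgroup.mem_zpowers σ⟩
        have hsj : s ^ j ≠ 1 := by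
          intro h
          have h2 : σ ^ j = 1 := by
            have := congrArg Subtype.val h
            simpa [s] using this
          have h3 := orderOf_dvd_of_pow_eq_one h2
          rw [hσ] at h3
          exact absurd (Nat.le_of_dvd (Nat.pos_of_ne_zero h0) h3) (not_le.mpr hjr)
        have hs : s ∈ Subgroup.zpowers (s ^ j) := mem_zpowers_of_prime_card hcardS hsj
        obtain ⟨m, hm⟩ := Subgroup.mem_zpowers_iff.mp hs
        have hσm : (σ ^ j) ^ m = σ := by
          have := congrArg Subtype.val hm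
          simpa [s] using this
        have : Commute y σ := by
          rw [← hσm]
          exact hyc.zpow_right m
        exact hnc this.symm
      have hbij : Function.Bijective c := Finite.injective_iff_bijective.mp hinj
      have h1 : ∀ x : ↥(Subgroup.zpowers y), φ ((x : H) * σ ^ j * (x : H)⁻¹) a = φ ((c x : ↥(Subgroup.zpowers y)) : H) (φ (σ ^ j) a) := by
        intro x
        rw [hcval x, map_mul, MulAut.mul_apply]
      rw [Finset.prod_congr rfl fun x _ => h1 x]
      rw [Fintype.prod_bijective c hbij (fun x => φ ((c x : ↥(Subgroup.zpowers y)) : H) (φ (σ ^ j) a))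
        (fun w => φ (w : H) (φ (σ ^ j) a)) (fun x => rfl)]
      exact hM _
  rw [Finset.prod_congr rfl hcol] at htot
  rw [Finset.prod_ite_eq'] at htot
  have hpos : 0 ∈ range r := Finset.mem_range.mpr hr.pos
  simpa [hpos] using htot

end Cfsg.Agent.Lib.Helper29.SOT4
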