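/-
helper29: S3713 super-leaf T2 (sub-planner helper20), leaf T2-NMM (`nmm`, `nmm'`) of `notes/S3713_T2_leaves.lean`.
-/
import Cfsg.Agent.Lib.Helper20.SPT2Calc
import Cfsg.Agent.Lib.Helper20.SPT2Rel
import Cfsg.Agent.Lib.Helper20.SPT2G
import Cfsg.Agent.Lib.Helper5.SPT2MMNORM

set_option autoImplicit false

namespace Cfsg.Agent.Lib.Helper29.SPT2NMM

open Matrix Cfsg.Agent.Lib.Helper5 Cfsg.Agent.Lib.Helper14.SpPerfect Cfsg.Agent.Lib.Helper18.SP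
open Cfsg.Agent.Lib.Helper20.SPT2

variable {F : Type*} [Field F] {n : ℕ} {H : Type*} [Group H] {o p : Fin n}

/-- one local step in `P1` -/
theorem conjX (A : T2Hyp n F H o p) (t : F) {m : Sp n F} (hm : m ∈ MM n F o p) :
    A.Xt t * A.ψ₁ m * (A.Xt t)⁻¹ = A.ψ₁ (Xg n F o p t * m * (Xg n F o p t)⁻¹) := by
  rw [T2Hyp.Xt, ← A.hψ₁.map_conj (Xg_mem_PJ A.hop t) (MM_le_P1 o p hm)]

/-- one local step in `P2` -/
theorem conjY (A : T2Hyp n F H o p) (t : F) {m : Sp n F} (hm : m ∈ MM n F o p) :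
    A.Yt t * A.ψ₁ m * (A.Yt t)⁻¹ = A.ψ₁ (Yg n F o p t * m * (Yg n F o p t)⁻¹) := by
  rw [T2Hyp.Yt, A.h12 m hm, ← A.hψ₂.map_conj (Yg_mem_PJ A.hop t) (MM_le_P2 o p hm),
    A.h12 _ (Cfsg.Agent.Lib.Helper5.SPT2MMNORM.Yg_conj_MM A.hop t hm)]

/-- **NMM**: three local steps (`Xt 1` in `P1`, `Yt (-1)` in `P2`, `Xt 1` in `P1`; MMNORM, `h12`) -/
theorem nmm (A : T2Hyp n F H o p) : NMMprop A A.Nt := by
  intro m hm
  have hop := A.hop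
  have h1 := Cfsg.Agent.Lib.Helper5.SPT2MMNORM.Xg_conj_MM hop (1 : F) hm
  have h2 := Cfsg.Agent.Lib.Helper5.SPT2MMNORM.Yg_conj_MM hop (-1 : F) h1
  have e : A.Nt * A.ψ₁ m * A.Nt⁻¹ =
      A.Xt 1 * (A.Yt (-1) * (A.Xt 1 * A.ψ₁ m * (A.Xt 1)⁻¹) * (A.Yt (-1))⁻¹) * (A.Xt 1)⁻¹ := by
    unfold T2Hyp.Nt; group
  rw [e, conjX A 1 hm, conjY A (-1) h1, conjX A 1 h2]
  congr 1
  unfold νg
  group

/-- **NMM'**: the same for `Yt (-1) * Xt 1 * Yt (-1)` (the braid relation `braid` on the group side) -/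
theorem nmm' (A : T2Hyp n F H o p) : NMMprop A (A.Yt (-1) * A.Xt 1 * A.Yt (-1)) := by
  intro m hm
  have hop := A.hop
  have h1 := Cfsg.Agent.Lib.Helper5.SPT2MMNORM.Yg_conj_MM hop (-1 : F) hm
  have h2 := Cfsg.Agent.Lib.Helper5.SPT2MMNORM.Xg_conj_MM hop (1 : F) h1
  have e : (A.Yt (-1) * A.Xt 1 * A.Yt (-1)) * A.ψ₁ m * (A.Yt (-1) * A.Xt 1 * A.Yt (-1))⁻¹ =
      A.Yt (-1) * (A.Xt 1 * (A.Yt (-1) * A.ψ₁ m * (A.Yt (-1))⁻¹) * (A.Xt 1)⁻¹) * (A.Yt (-1))⁻¹ := by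
    group
  rw [e, conjY A (-1) hm, conjX A 1 h1, conjY A (-1) h2]
  congr 1
  rw [← braid hop]
  group

end Cfsg.Agent.Lib.Helper29.SPT2NMM
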