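/-
helper29: coordinate elimination for the `E_n` endgame of S2282 (spare / double of helper24's `SUEnRed`),
on helper6's `SUApiA` (standard model, any `n`, no restriction on `q`).

`reduce_pair`: given two mutually perpendicular hyperbolic pairs `e, f` and `e', f'` such that the four
totally isotropic lines `⟨e,e'⟩, ⟨e,f'⟩, ⟨f,e'⟩, ⟨f,f'⟩` consist of root vectors of `M`, every vector `x`
can be moved by an element of `M` to a vector perpendicular to `e` and `f`, without changing its products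
with the vectors perpendicular to `e, f, e', f'`.

`elim`: for a chain of hyperbolic pairs `E i, Fv i` (`i : Fin m`), if consecutive pairs are linked by such
lines and every isotropic vector perpendicular to all pairs but the last is a root vector, then every
isotropic vector is a root vector.
-/
import Mathlib
import Cfsg.Agent.Lib.Helper6.SUApiA

set_option autoImplicit false
set_option linter.unusedSectionVars false
set_option linter.unusedVariables false
set_option linter.unusedSimpArgs false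

namespace Cfsg.Agent.Lib.Helper29.SUElim

open Cfsg Matrix Cfsg.Agent.Lib.Helper14 Cfsg.Agent.Lib.Helper5.SpMax
  Cfsg.Agent.Lib.Helper5.UForm Cfsg.Agent.Lib.Helper5.UEichler Cfsg.Agent.Lib.Helper5.HermBridge
  Cfsg.Agent.Lib.Helper5.SUGen Cfsg.Agent.Lib.Helper6.SUApi

variable {F : Type*} [Field F] [Fintype F] {q n : ℕ} (hF : Fintype.card F = q ^ 2)
  {M : Subgroup ↥(Cfsg.SU n F q)}

theorem exists_skew_ne : ∃ c : F, c ≠ 0 ∧ frobQ hF c = -c := by
  have hu := herm_unitary (n := 1) hF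
  exact exists_skew hu.involutive hu.ne_refl

/-- pulling back along an element of `M` -/
theorem Rt_of_ap {g : ↥(Cfsg.SU n F q)} (hg : g ∈ M) {x : Fin n → F} (h : av g x ∈ Rt hF M) :
    x ∈ Rt hF M := by
  have := Rt_ap hF (M.inv_mem hg) h
  rwa [av_inv_av] at this

/-- one transvection step -/
theorem tv_step {v : Fin n → F} (hv : v ∈ Rt hF M) {c : F} (hc : frobQ hF c = -c)
    (x : Fin n → F) : ∃ g ∈ M, av g x = x + (c * Cfsg.hermForm n F q x v) • v :=
  ⟨Tu hF v c, hv.2 c hc, av_Tu hF hv.1 hc x⟩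

include hF in
/-- the form against `x + t v` -/
theorem form_add_smul (x v u : Fin n → F) (t : F) :
    Cfsg.hermForm n F q (x + t • v) u = Cfsg.hermForm n F q x u + t * Cfsg.hermForm n F q v u := by
  have hu := herm_unitary (n := n) hF
  rw [hu.add_left, hu.smul_left]

/-- the form of `x` against `a + μ b` -/
theorem form_right_add_smul (x a b : Fin n → F) (μ : F) :
    Cfsg.hermForm n F q x (a + μ • b) =
      Cfsg.hermForm n F q x a + frobQ hF μ * Cfsg.hermForm n F q x b := by
  have hu := herm_unitary (n := n) hF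
  rw [u_add_right hu, u_smul_right hu]

include hF in
theorem form_symm_zero {a b : Fin n → F} (h : Cfsg.hermForm n F q a b = 0) :
    Cfsg.hermForm n F q b a = 0 := by
  have hu := herm_unitary (n := n) hF
  rw [hu.herm, h, map_zero]

include hF in
theorem form_symm_one {a b : Fin n → F} (h : Cfsg.hermForm n F q a b = 1) :
    Cfsg.hermForm n F q b a = 1 := by
  have hu := herm_unitary (n := n) hF
  rw [hu.herm, h, map_one]

/-- **killing the `e, f` components with a pivot `w`** -/
theorem kill_with_pivot {e f w : Fin n → F}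
    (hee : Cfsg.hermForm n F q e e = 0) (hff : Cfsg.hermForm n F q f f = 0)
    (hef : Cfsg.hermForm n F q e f = 1) (hww : Cfsg.hermForm n F q w w = 0)
    (hew : Cfsg.hermForm n F q e w = 0) (hfw : Cfsg.hermForm n F q f w = 0)
    (Le : ∀ μ : F, e + μ • w ∈ Rt hF M) (Lf : ∀ μ : F, f + μ • w ∈ Rt hF M)
    (x : Fin n → F) (hp : Cfsg.hermForm n F q x w ≠ 0) :
    ∃ g ∈ M, Cfsg.hermForm n F q (av g x) e = 0 ∧ Cfsg.hermForm n F q (av g x) f = 0 ∧
      ∀ y : Fin n → F, Cfsg.hermForm n F q y e = 0 → Cfsg.hermForm n F q y f = 0 →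
        Cfsg.hermForm n F q y w = 0 → Cfsg.hermForm n F q (av g x) y = Cfsg.hermForm n F q x y := by
  have hu := herm_unitary (n := n) hF
  obtain ⟨c, hc0, hc⟩ := exists_skew_ne hF
  have hfe := form_symm_one hF hef
  have hwe := form_symm_zero hF hew
  have hwf := form_symm_zero hF hfw
  set a := Cfsg.hermForm n F q x f with ha
  set b := Cfsg.hermForm n F q x e with hb
  set p := Cfsg.hermForm n F q x w with hpdef
  -- step 1
  obtain ⟨μ₁, hμ₁⟩ : ∃ μ₁ : F, frobQ hF μ₁ = (-b / c - a) / p :=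
    ⟨frobQ hF ((-b / c - a) / p), hu.involutive _⟩
  obtain ⟨g₁, hg₁, hx₁⟩ := tv_step hF (Lf μ₁) hc x
  have hxv₁ : Cfsg.hermForm n F q x (f + μ₁ • w) = -b / c := by
    rw [form_right_add_smul hF, hμ₁, ← ha, ← hpdef]
    field_simp
    ring
  have ht₁ : c * Cfsg.hermForm n F q x (f + μ₁ • w) = -b := by
    rw [hxv₁]; field_simp
  rw [ht₁] at hx₁
  have h1e : Cfsg.hermForm n F q (av g₁ x) e = 0 := by
    rw [hx₁, form_add_smul hF, hu.add_left, hu.smul_left, hfe, hwe, ← hb]; ring
  have h1w : Cfsg.hermForm n F q (av g₁ x) w = p := by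
    rw [hx₁, form_add_smul hF, hu.add_left, hu.smul_left, hfw, hww, ← hpdef]; ring
  have h1f : Cfsg.hermForm n F q (av g₁ x) f = a := by
    rw [hx₁, form_add_smul hF, hu.add_left, hu.smul_left, hff, hwf, ← ha]; ring
  -- step 2
  obtain ⟨μ₂, hμ₂⟩ : ∃ μ₂ : F, frobQ hF μ₂ = -a / (c * p) :=
    ⟨frobQ hF (-a / (c * p)), hu.involutive _⟩
  obtain ⟨g₂, hg₂, hx₂⟩ := tv_step hF (Le μ₂) hc (av g₁ x)
  have hxv₂ : Cfsg.hermForm n F q (av g₁ x) (e + μ₂ • w) = -a / c := by
    rw [form_right_add_smul hF, hμ₂, h1e, h1w]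
    field_simp
    ring
  have ht₂ : c * Cfsg.hermForm n F q (av g₁ x) (e + μ₂ • w) = -a := by
    rw [hxv₂]; field_simp
  rw [ht₂] at hx₂
  refine ⟨g₂ * g₁, M.mul_mem hg₂ hg₁, ?_, ?_, ?_⟩
  · rw [av_mul, hx₂, form_add_smul hF, hu.add_left, hu.smul_left, hee, hwe, h1e]; ring
  · rw [av_mul, hx₂, form_add_smul hF, hu.add_left, hu.smul_left, hef, hwf, h1f]; ring
  · intro y hye hyf hyw
    have hey := form_symm_zero hF hye
    have hfy := form_symm_zero hF hyf
    have hwy := form_symm_zero hF hyw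
    rw [av_mul, hx₂, form_add_smul hF, hu.add_left, hu.smul_left, hey, hwy, hx₁, form_add_smul hF,
      hu.add_left, hu.smul_left, hfy, hwy]
    ring

/-- **reduction at one hyperbolic pair**, using the next pair as pivot -/
theorem reduce_pair {e f e' f' : Fin n → F}
    (hee : Cfsg.hermForm n F q e e = 0) (hff : Cfsg.hermForm n F q f f = 0)
    (hef : Cfsg.hermForm n F q e f = 1)
    (he'e' : Cfsg.hermForm n F q e' e' = 0) (hf'f' : Cfsg.hermForm n F q f' f' = 0)
    (he'f' : Cfsg.hermForm n F q e' f' = 1)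
    (h1 : Cfsg.hermForm n F q e e' = 0) (h2 : Cfsg.hermForm n F q e f' = 0)
    (h3 : Cfsg.hermForm n F q f e' = 0) (h4 : Cfsg.hermForm n F q f f' = 0)
    (L1 : ∀ μ : F, e + μ • e' ∈ Rt hF M) (L2 : ∀ μ : F, e + μ • f' ∈ Rt hF M)
    (L3 : ∀ μ : F, f + μ • e' ∈ Rt hF M) (L4 : ∀ μ : F, f + μ • f' ∈ Rt hF M)
    (x : Fin n → F) :
    ∃ g ∈ M, Cfsg.hermForm n F q (av g x) e = 0 ∧ Cfsg.hermForm n F q (av g x) f = 0 ∧
      ∀ y : Fin n → F, Cfsg.hermForm n F q y e = 0 → Cfsg.hermForm n F q y f = 0 →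
        Cfsg.hermForm n F q y e' = 0 → Cfsg.hermForm n F q y f' = 0 →
        Cfsg.hermForm n F q (av g x) y = Cfsg.hermForm n F q x y := by
  have hu := herm_unitary (n := n) hF
  by_cases hp1 : Cfsg.hermForm n F q x e' ≠ 0
  · obtain ⟨g, hg, a1, a2, a3⟩ := kill_with_pivot hF hee hff hef he'e' h1 h3 L1 L3 x hp1
    exact ⟨g, hg, a1, a2, fun y hye hyf hye' _ => a3 y hye hyf hye'⟩
  push Not at hp1
  by_cases hp2 : Cfsg.hermForm n F q x f' ≠ 0
  · obtain ⟨g, hg, a1, a2, a3⟩ := kill_with_pivot hF hee hff hef hf'f' h2 h4 L2 L4 x hp2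
    exact ⟨g, hg, a1, a2, fun y hye hyf _ hyf' => a3 y hye hyf hyf'⟩
  push Not at hp2
  obtain ⟨c, hc0, hc⟩ := exists_skew_ne hF
  -- create a pivot
  by_cases hb : Cfsg.hermForm n F q x e ≠ 0
  · -- centre `e + e'`
    obtain ⟨g₀, hg₀, hx₀⟩ := tv_step hF (L1 1) hc x
    have hxv : Cfsg.hermForm n F q x (e + (1 : F) • e') = Cfsg.hermForm n F q x e := by
      rw [form_right_add_smul hF, hp1, mul_zero, add_zero]
    rw [hxv] at hx₀
    have hpiv : Cfsg.hermForm n F q (av g₀ x) f' ≠ 0 := by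
      rw [hx₀, form_add_smul hF, hu.add_left, hu.smul_left, h2, he'f', hp2]
      simpa using mul_ne_zero hc0 hb
    obtain ⟨g, hg, a1, a2, a3⟩ := kill_with_pivot hF hee hff hef hf'f' h2 h4 L2 L4 (av g₀ x) hpiv
    refine ⟨g * g₀, M.mul_mem hg hg₀, by rw [av_mul]; exact a1, by rw [av_mul]; exact a2, ?_⟩
    intro y hye hyf hye' hyf'
    rw [av_mul, a3 y hye hyf hyf', hx₀, form_add_smul hF, hu.add_left, hu.smul_left,
      form_symm_zero hF hye, form_symm_zero hF hye']
    ring
  push Not at hb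
  by_cases ha : Cfsg.hermForm n F q x f ≠ 0
  · -- centre `f + e'`
    obtain ⟨g₀, hg₀, hx₀⟩ := tv_step hF (L3 1) hc x
    have hxv : Cfsg.hermForm n F q x (f + (1 : F) • e') = Cfsg.hermForm n F q x f := by
      rw [form_right_add_smul hF, hp1, mul_zero, add_zero]
    rw [hxv] at hx₀
    have hpiv : Cfsg.hermForm n F q (av g₀ x) f' ≠ 0 := by
      rw [hx₀, form_add_smul hF, hu.add_left, hu.smul_left, h4, he'f', hp2]
      simpa using mul_ne_zero hc0 ha
    obtain ⟨g, hg, a1, a2, a3⟩ := kill_with_pivot hF hee hff hef hf'f' h2 h4 L2 L4 (av g₀ x) hpiv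
    refine ⟨g * g₀, M.mul_mem hg hg₀, by rw [av_mul]; exact a1, by rw [av_mul]; exact a2, ?_⟩
    intro y hye hyf hye' hyf'
    rw [av_mul, a3 y hye hyf hyf', hx₀, form_add_smul hF, hu.add_left, hu.smul_left,
      form_symm_zero hF hyf, form_symm_zero hF hye']
    ring
  push Not at ha
  exact ⟨1, M.one_mem, by rw [av_one]; exact hb, by rw [av_one]; exact ha,
    fun y _ _ _ _ => by rw [av_one]⟩

/-- **coordinate elimination along a chain of hyperbolic pairs** -/
theorem elim {m : ℕ} (E Fv : Fin m → (Fin n → F))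
    (hEE : ∀ i j, Cfsg.hermForm n F q (E i) (E j) = 0)
    (hFF : ∀ i j, Cfsg.hermForm n F q (Fv i) (Fv j) = 0)
    (hEF : ∀ i j, Cfsg.hermForm n F q (E i) (Fv j) = if i = j then 1 else 0)
    (G2 : ∀ i j : Fin m, j.val = i.val + 1 → ∀ μ : F,
      E i + μ • E j ∈ Rt hF M ∧ E i + μ • Fv j ∈ Rt hF M ∧
      Fv i + μ • E j ∈ Rt hF M ∧ Fv i + μ • Fv j ∈ Rt hF M)
    (G3 : ∀ x : Fin n → F, Cfsg.hermForm n F q x x = 0 →
      (∀ i : Fin m, i.val + 1 < m →
        Cfsg.hermForm n F q x (E i) = 0 ∧ Cfsg.hermForm n F q x (Fv i) = 0) → x ∈ Rt hF M)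
    (x : Fin n → F) (hx : Cfsg.hermForm n F q x x = 0) : x ∈ Rt hF M := by
  have hu := herm_unitary (n := n) hF
  have hFE : ∀ i j, Cfsg.hermForm n F q (Fv i) (E j) = if j = i then 1 else 0 := by
    intro i j
    rw [hu.herm, hEF]
    split_ifs <;> simp
  -- `P k`: isotropic vectors perpendicular to the first `k` pairs are root vectors
  have key : ∀ d k : ℕ, k + d + 1 = m → ∀ x : Fin n → F, Cfsg.hermForm n F q x x = 0 →
      (∀ i : Fin m, i.val < k →
        Cfsg.hermForm n F q x (E i) = 0 ∧ Cfsg.hermForm n F q x (Fv i) = 0) → x ∈ Rt hF M := by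
    intro d
    induction d with
    | zero =>
      intro k hk x hx hperp
      exact G3 x hx (fun i hi => hperp i (by omega))
    | succ d ih =>
      intro k hk x hx hperp
      have hk1 : k < m := by omega
      have hk2 : k + 1 < m := by omega
      set ik : Fin m := ⟨k, hk1⟩
      set jk : Fin m := ⟨k + 1, hk2⟩
      have hne : ik ≠ jk := by
        intro h
        have := congrArg Fin.val h
        simp [ik, jk] at this
      have hne' : jk ≠ ik := Ne.symm hne
      obtain ⟨g, hg, a1, a2, a3⟩ := reduce_pair hF (hEE ik ik) (hFF ik ik)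
        (by rw [hEF, if_pos rfl]) (hEE jk jk) (hFF jk jk) (by rw [hEF, if_pos rfl])
        (hEE ik jk) (by rw [hEF, if_neg hne]) (by rw [hFE, if_neg hne']) (hFF ik jk)
        (fun μ => (G2 ik jk rfl μ).1) (fun μ => (G2 ik jk rfl μ).2.1)
        (fun μ => (G2 ik jk rfl μ).2.2.1) (fun μ => (G2 ik jk rfl μ).2.2.2) x
      apply Rt_of_ap hF hg
      apply ih (k + 1) (by omega) (av g x) (by rw [av_iso]; exact hx)
      intro i hi
      by_cases hik : i.val = k
      · have : i = ik := Fin.ext hik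
        rw [this]
        exact ⟨a1, a2⟩
      · have hlt : i.val < k := by omega
        have hi1 : i ≠ ik := fun h => hik (by rw [h])
        have hi2 : i ≠ jk := fun h => by
          have := congrArg Fin.val h
          simp [jk] at this
          omega
        constructor
        · rw [a3 (E i) (hEE i ik) (by rw [hEF, if_neg hi1]) (hEE i jk) (by rw [hEF, if_neg hi2])]
          exact (hperp i hlt).1
        · rw [a3 (Fv i) (by rw [hFE, if_neg (Ne.symm hi1)]) (hFF i ik)
            (by rw [hFE, if_neg (Ne.symm hi2)]) (hFF i jk)]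
          exact (hperp i hlt).2
  by_cases hm : m = 0
  · subst hm
    exact G3 x hx (fun i => i.elim0)
  · exact key (m - 1) 0 (by omega) x hx (fun i hi => absurd hi (Nat.not_lt_zero _))

end Cfsg.Agent.Lib.Helper29.SUElim
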