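/-
helper29: S5544 leaf B (planner helper12): the basic lemma on `sig a x = a*x - (a+x)/32`:
it is fixed by the Majorana involution of `a`, and `a * sig a x` is given by a closed formula.
Self-contained: the decomposition of a vector along the eigenspaces of `a` is proved here too.
-/
import Cfsg.Agent.Lib.Helper12.SakDefs

set_option autoImplicit false

namespace Cfsg.Agent.Lib.Helper29.SakB

open Cfsg Cfsg.Axial Cfsg.Agent.Lib.Helper12.Sak

variable {V : Type*} [AddCommGroup V] [Module ℝ V]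
variable {mul : V →ₗ[ℝ] V →ₗ[ℝ] V} {B : LinearMap.BilinForm ℝ V} {μ μ' : V ≃ₗ[ℝ] V} {a : V}

theorem mem_eigen_iff (a : V) (c : ℝ) (v : V) : v ∈ eigen mul a c ↔ mul a v = c • v := by
  unfold eigen
  rw [Module.End.mem_eigenspace_iff]

theorem pair_idem (h : IsMajoranaPair mul B μ a) : mul a a = a := h.2.2.1.1.2.1

theorem eigen_le_plus (c : ℝ) (hc : c ∈ ({1, 0, 1 / 4} : Set ℝ)) :
    eigen mul a c ≤ eigenSum mul a {1, 0, 1 / 4} := by
  unfold eigenSum
  exact le_iSup₂ (f := fun c (_ : c ∈ ({1, 0, 1 / 4} : Set ℝ)) => eigen mul a c) c hc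

/-- `μ a = a`. -/
theorem pair_fix_self' (h : IsMajoranaPair mul B μ a) : μ a = a := by
  have hm := h.2.2.2.1
  have ha : a ∈ eigen mul a 1 := by
    rw [mem_eigen_iff, one_smul]
    exact pair_idem h
  exact hm a (eigen_le_plus 1 (by simp) ha)

/-- eigenvectors of `a` for an eigenvalue `≠ 1` are orthogonal to `a`. -/
theorem form_axis_eigen (hV : IsMajoranaAmbient mul B) (h : IsMajoranaPair mul B μ a) (c : ℝ)
    (hc : c ≠ 1) (z : V) (hz : mul a z = c • z) : B a z = 0 := by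
  have hass := hV.2.2.2.1 a a z
  rw [pair_idem h, hz, map_smul, smul_eq_mul] at hass
  have h1 : (c - 1) * B a z = 0 := by linarith
  rcases mul_eq_zero.mp h1 with h2 | h2
  · exact absurd (by linarith) hc
  · exact h2

/-- the decomposition of a vector along the four eigenspaces of `a` (statement of leaf A1). -/
theorem pair_decomp' (hV : IsMajoranaAmbient mul B) (h : IsMajoranaPair mul B μ a) (hn : B a a = 1)
    (x : V) :
    ∃ x0 xq xt : V, mul a x0 = 0 ∧ mul a xq = (1 / 4 : ℝ) • xq ∧ mul a xt = (1 / 32 : ℝ) • xt ∧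
      x = (B a x) • a + x0 + xq + xt ∧ μ x0 = x0 ∧ μ xq = xq ∧ μ xt = -xt := by
  have hpair : IsMajoranaPair mul B μ a := h
  obtain ⟨-, -, ⟨⟨-, -, htop, -⟩, hone⟩, hplus, hminus⟩ := h
  have hx : x ∈ eigenSum mul a majoranaSpectrum := by rw [htop]; exact Submodule.mem_top
  unfold eigenSum majoranaSpectrum at hx
  rw [iSup_insert, iSup_insert, iSup_insert, iSup_singleton] at hx
  obtain ⟨x1, hx1, y, hy, rfl⟩ := Submodule.mem_sup.mp hx
  obtain ⟨x0, hx0, y', hy', rfl⟩ := Submodule.mem_sup.mp hy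
  obtain ⟨xq, hxq, xt, hxt, rfl⟩ := Submodule.mem_sup.mp hy'
  rw [hone, Submodule.mem_span_singleton] at hx1
  obtain ⟨c, rfl⟩ := hx1
  have e0 := (mem_eigen_iff a 0 x0).mp hx0
  rw [zero_smul] at e0
  have eq := (mem_eigen_iff a (1 / 4) xq).mp hxq
  have et := (mem_eigen_iff a (1 / 32) xt).mp hxt
  have b0 : B a x0 = 0 := form_axis_eigen hV hpair 0 (by norm_num) x0 (by rw [e0, zero_smul])
  have bq : B a xq = 0 := form_axis_eigen hV hpair (1 / 4) (by norm_num) xq eq
  have bt : B a xt = 0 := form_axis_eigen hV hpair (1 / 32) (by norm_num) xt et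
  have hB : B a (c • a + (x0 + (xq + xt))) = c := by
    rw [map_add, map_add, map_add, map_smul, hn, b0, bq, bt, smul_eq_mul]
    ring
  refine ⟨x0, xq, xt, e0, eq, et, ?_, ?_, ?_, ?_⟩
  · rw [hB]; abel
  · exact hplus x0 (eigen_le_plus 0 (by simp) hx0)
  · exact hplus xq (eigen_le_plus (1 / 4) (by simp) hxq)
  · exact hminus xt hxt

/-- core of `sig_fix`, from the decomposition. -/
theorem sig_fix_of (haa : mul a a = a) (hfix : μ a = a) (x : V)
    (hdec : ∃ x0 xq xt : V, mul a x0 = 0 ∧ mul a xq = (1 / 4 : ℝ) • xq ∧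
      mul a xt = (1 / 32 : ℝ) • xt ∧ x = (B a x) • a + x0 + xq + xt ∧ μ x0 = x0 ∧ μ xq = xq ∧
      μ xt = -xt) :
    μ (sig mul a x) = sig mul a x := by
  obtain ⟨x0, xq, xt, e0, eq, et, hx, m0, mq, mt⟩ := hdec
  set l := B a x with hl
  have hsig : sig mul a x = ((31 / 32 : ℝ) * l - 1 / 32) • a - (1 / 32 : ℝ) • x0
      + (7 / 32 : ℝ) • xq := by
    rw [sig_def]
    conv_lhs => rw [hx]
    simp only [map_add, map_smul, haa, e0, eq, et]
    module
  rw [hsig]
  simp only [map_add, map_sub, map_smul, hfix, m0, mq]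

/-- core of `axis_mul_sig`, from the decomposition. -/
theorem axis_mul_sig_of (haa : mul a a = a) (hfix : μ a = a) (x : V)
    (hdec : ∃ x0 xq xt : V, mul a x0 = 0 ∧ mul a xq = (1 / 4 : ℝ) • xq ∧
      mul a xt = (1 / 32 : ℝ) • xt ∧ x = (B a x) • a + x0 + xq + xt ∧ μ x0 = x0 ∧ μ xq = xq ∧
      μ xt = -xt) :
    mul a (sig mul a x) =
      (3 / 4 * B a x - 25 / 1024 : ℝ) • a + (7 / 32 : ℝ) • sig mul a x
        + (7 / 2048 : ℝ) • (x + μ x) := by
  obtain ⟨x0, xq, xt, e0, eq, et, hx, m0, mq, mt⟩ := hdec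
  set l := B a x with hl
  have hsig : sig mul a x = ((31 / 32 : ℝ) * l - 1 / 32) • a - (1 / 32 : ℝ) • x0
      + (7 / 32 : ℝ) • xq := by
    rw [sig_def]
    conv_lhs => rw [hx]
    simp only [map_add, map_smul, haa, e0, eq, et]
    module
  have hmx : x + μ x = (2 * l) • a + (2 : ℝ) • x0 + (2 : ℝ) • xq := by
    conv_lhs => rw [hx]
    simp only [map_add, map_smul, hfix, m0, mq, mt]
    module
  rw [hmx, hsig]
  simp only [map_add, map_sub, map_smul, haa, e0, eq]
  module

/-- LEAF B, first part. -/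
theorem sig_fix (hV : IsMajoranaAmbient mul B) (h : IsMajoranaPair mul B μ a) (hn : B a a = 1)
    (x : V) : μ (sig mul a x) = sig mul a x :=
  sig_fix_of (pair_idem h) (pair_fix_self' h) x (pair_decomp' hV h hn x)

/-- LEAF B, second part. -/
theorem axis_mul_sig (hV : IsMajoranaAmbient mul B) (h : IsMajoranaPair mul B μ a) (hn : B a a = 1)
    (x : V) :
    mul a (sig mul a x) =
      (3 / 4 * B a x - 25 / 1024 : ℝ) • a + (7 / 32 : ℝ) • sig mul a x
        + (7 / 2048 : ℝ) • (x + μ x) :=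
  axis_mul_sig_of (pair_idem h) (pair_fix_self' h) x (pair_decomp' hV h hn x)

end Cfsg.Agent.Lib.Helper29.SakB
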