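import Cfsg.Agent.Lib.Helper29.SchurFoxSparse

set_option autoImplicit false

/-!
# One Fox cycle

A single sparse cycle over the coset table of a subgroup with a retraction gives one relation between the values
of the relators on ANY lifts of the generators; no matrix identity is needed.  This is the right tool when all
relators but one are already known to hold exactly for the chosen lifts.
-/

namespace Cfsg.Agent.Lib.Helper29.SchurFoxOne

open Subgroup
open scoped IsMulCommutative
open Cfsg.Agent.Lib.Helper28.TC2Upper (force force_eq allLoop allLoop_eq_true slot)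
open Cfsg.Agent.Lib.Helper28.TC2Lower (pathProd Table)
open Cfsg.Agent.Lib.Helper28.TC2Glue (pathOf lift_mk_eq_pathProd)
open Cfsg.Agent.Lib.Helper28.SchurFox
open Cfsg.Agent.Lib.Helper29.SchurFoxSparse

section Checker
variable (D : FoxData) (nxt : ℕ → ℕ → ℕ)

/-- the static checks without the matrix identity -/
noncomputable def static1OK : Bool :=
  and (and (and (Nat.blt 0 D.p) (Nat.blt 0 D.n)) (Nat.beq D.mw (Nat.pow 2 D.w)))
    (and (D.tabOK nxt) D.pathsOK)

/-- what the static checks give -/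
structure Static1 : Prop where
  hp : 0 < D.p
  hn : 0 < D.n
  hmw : D.mw = 2 ^ D.w
  tab : ∀ x < D.d, ∀ i < D.n, nxt (2 * x) i < D.n ∧ nxt (2 * x + 1) i < D.n ∧
    nxt (2 * x + 1) (nxt (2 * x) i) = i ∧ nxt (2 * x) (nxt (2 * x + 1) i) = i
  paths : ∀ path ∈ D.paths, ∀ l ∈ path, l < 2 * D.d

theorem static1_of_check (h : static1OK D nxt = true) : Static1 D nxt := by
  unfold static1OK at h
  simp only [Bool.and_eq_true] at h
  obtain ⟨⟨⟨h1, h2⟩, h3⟩, h4, h5⟩ := h
  refine ⟨by simpa using h1, by simpa using h2,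
    (Cfsg.Agent.Lib.Helper28.TC2Upper.Data.nbeq_iff _ _).mp h3, ?_, ?_⟩
  · intro x hx i hi
    unfold FoxData.tabOK at h4
    rw [allLoop_eq_true] at h4
    have := h4 i hi
    rw [allLoop_eq_true] at this
    have := this x hx
    simp only [Bool.and_eq_true, Nat.blt_eq, Cfsg.Agent.Lib.Helper28.TC2Upper.Data.nbeq_iff] at this
    exact ⟨this.1.1, this.1.2, this.2.1, this.2.2⟩
  · intro path hpath l hl
    unfold FoxData.pathsOK at h5
    rw [List.all_eq_true] at h5
    have := h5 path hpath
    rw [List.all_eq_true] at this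
    simpa using this l hl

theorem Static1.htab {D : FoxData} {nxt : ℕ → ℕ → ℕ} (h : Static1 D nxt) :
    ∀ l < 2 * D.d, ∀ i < D.n, nxt l i < D.n := by
  intro l hl i hi
  obtain ⟨h1, h2, _, _⟩ := h.tab (l / 2) (by omega) i hi
  rcases Nat.mod_two_eq_zero_or_one l with hpar | hpar
  · rwa [show l = 2 * (l / 2) by omega]
  · rwa [show l = 2 * (l / 2) + 1 by omega]

/-- `cycleS_sound` of `SchurFoxSparse` without the matrix identity -/
theorem cycleS_sound1 (h : Static1 D nxt) (k : ℕ) (rows : List (List (ℕ × ℕ)))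
    (hk : cycleOKS D nxt k rows = true)
    {A : Type*} [CommGroup A] (F : ℕ → ℕ → A) (hF : ∀ i x, F i x ^ D.p = 1) (z : ℕ → A)
    (hz : ∀ j < D.paths.length, ∀ i < D.n, walkF F nxt (D.paths.getD j []) i = z j) :
    ∏ j ∈ Finset.range D.paths.length, z j ^ entry D.Lam k j = 1 := by
  unfold cycleOKS at hk
  simp only [Bool.and_eq_true] at hk
  obtain ⟨⟨⟨h0, h1⟩, h2⟩, h3⟩ := hk
  rw [allLoop_eq_true] at h1
  have haug : ∀ j < D.paths.length, augS (rows.getD j []) = entry D.Lam k j :=
    fun j hj => (Cfsg.Agent.Lib.Helper28.TC2Upper.Data.nbeq_iff _ _).mp (h1 j hj)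
  have hc : ∀ j, ∀ c ∈ rows.getD j [], c.1 < D.n := by
    intro j c hcm
    by_cases hj : j < rows.length
    · rw [List.getD_eq_getElem _ _ hj] at hcm
      unfold cellsOK at h0
      rw [List.all_eq_true] at h0
      have h4 := h0 _ (List.getElem_mem hj)
      rw [List.all_eq_true] at h4
      simpa using h4 c hcm
    · rw [List.getD_eq_default _ _ (by omega)] at hcm
      exact absurd hcm (List.not_mem_nil)
  set g := cycDS D nxt rows with hg
  have htab := h.htab
  have htot : tot (D.n * D.d) g < D.mw := by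
    rw [hg, tot_cycDS D nxt htab h.paths rows hc]
    have h2' : (sumN (fun j => Nat.mul (entry D.Lam k j) (D.wt (D.paths.getD j []))) D.paths.length) < D.mw := by
      simpa using h2
    rw [sumN_eq] at h2'
    calc _ = ∑ j ∈ Finset.range D.paths.length, entry D.Lam k j * D.wt (D.paths.getD j []) := by
          apply Finset.sum_congr rfl
          intro j hj
          rw [haug j (Finset.mem_range.mp hj)]
      _ < D.mw := h2'
  have hB : 0 < D.mw := by rw [h.hmw]; positivity
  have hdig : ∀ s < D.n * D.d, g s < D.mw := by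
    intro s hs
    have : g s ≤ tot (D.n * D.d) g :=
      Finset.single_le_sum (f := g) (fun _ _ => Nat.zero_le _) (Finset.mem_range.mpr hs)
    omega
  obtain ⟨_, hdec⟩ := digit_enc D.mw hB (D.n * D.d) g hdig
  rw [force_eq, cycAccS_enc D nxt h.hmw htab h.paths rows hc, allLoop_eq_true] at h3
  have hmod : ∀ s < D.n * D.d, g s % D.p = 0 := by
    intro s hs
    have := (Cfsg.Agent.Lib.Helper28.TC2Upper.Data.nbeq_iff _ _).mp (h3 s hs)
    have e : slot D.w D.mw (enc D.mw (D.n * D.d) g) s = enc D.mw (D.n * D.d) g / D.mw ^ s % D.mw := by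
      show (enc D.mw (D.n * D.d) g >>> (D.w * s)) % D.mw = _
      rw [Nat.shiftRight_eq_div_pow, h.hmw, pow_mul]
    rw [e, hdec s hs] at this
    exact this
  have hval : Val (D.n * D.d) (D.Fs F) g = 1 := by
    unfold Val
    apply Finset.prod_eq_one
    intro s hs
    obtain ⟨q, hq⟩ := Nat.dvd_of_mod_eq_zero (hmod s (Finset.mem_range.mp hs))
    have hFs : D.Fs F s ^ D.p = 1 := hF _ _
    rw [hq, pow_mul, hFs, one_pow]
  rw [← hval, hg, Val_cycDS D nxt F h.hp hF htab h.paths rows hc]
  apply Finset.prod_congr rfl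
  intro j hj
  have hj' := Finset.mem_range.mp hj
  rw [prod_cells D.n (fun i => walkF F nxt (D.paths.getD j []) i) (z j) (hz j hj') _ (hc j), haug j hj']

end Checker

section Main
variable {Γ G : Type*} [Group Γ] [Group G] {σ : Γ →* G} {Ω : Type*} [MulAction G Ω]

/-- the relation between the values of the relators on given lifts -/
theorem relation_abs (D : FoxData) (nxt : ℕ → ℕ → ℕ) (hOK : static1OK D nxt = true)
    (rows : List (List (ℕ × ℕ))) (hcyc : cycleOKS D nxt 0 rows = true)
    (C : Cocycle σ Ω) (hexp : ∀ a ∈ σ.ker, a ^ D.p = 1) (γx : ℕ → Γ) (pts : ℕ → Ω)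
    (hact : ∀ x < D.d, ∀ i < D.n, σ (γx x) • pts i = pts (nxt (2 * x) i))
    (hrel : ∀ w ∈ D.paths, σ (pathProd (letG γx) w) = 1) :
    ∃ z : ℕ → ↥(center Γ), (∀ j < D.paths.length,
        ((z j : ↥(center Γ)) : Γ) = pathProd (letG γx) (D.paths.getD j [])) ∧
      ∏ j ∈ Finset.range D.paths.length, z j ^ entry D.Lam 0 j = 1 := by
  have h := static1_of_check D nxt hOK
  have htab := h.htab
  have hnxt : ∀ l < 2 * D.d, ∀ i < D.n, nxt l i < D.n ∧ σ (letG γx l) • pts i = pts (nxt l i) := by
    intro l hl i hi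
    refine ⟨htab l hl i hi, ?_⟩
    obtain ⟨x, hx, hlx⟩ : ∃ x, x < D.d ∧ (l = 2 * x ∨ l = 2 * x + 1) := ⟨l / 2, by omega, by omega⟩
    obtain ⟨t1, t2, t3, t4⟩ := h.tab x hx i hi
    rcases hlx with rfl | rfl
    · have : letG γx (2 * x) = γx x := by
        simp only [letG]
        rw [if_pos (by omega), show 2 * x / 2 = x by omega]
      rw [this, hact _ hx i hi]
    · have : letG γx (2 * x + 1) = (γx x)⁻¹ := by
        simp only [letG]
        rw [if_neg (by omega), show (2 * x + 1) / 2 = x by omega]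
      rw [this, map_inv, inv_smul_eq_iff, hact _ hx _ t2, t4]
  let kerC : Subgroup ↥(center Γ) := σ.ker.comap (center Γ).subtype
  have hkerC : ∀ c : ↥(center Γ), c ∈ kerC ↔ (c : Γ) ∈ σ.ker := fun c => Iff.rfl
  have hexpC : ∀ c ∈ kerC, c ^ D.p = 1 := by
    intro c hc
    apply Subtype.ext
    rw [Subgroup.coe_pow]
    exact hexp _ hc
  let F : ℕ → ℕ → ↥(center Γ) := fun i x => C.c (γx x) (pts i)
  have hF : ∀ i x, F i x ^ D.p = 1 := fun i x => hexpC _ (C.mem_ker _ _)
  let z : ℕ → ↥(center Γ) := fun j => walkF F nxt (D.paths.getD j []) 0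
  have hzi : ∀ j < D.paths.length, ∀ i < D.n, walkF F nxt (D.paths.getD j []) i = z j := by
    intro j hj i hi
    have hm := D.path_mem hj
    apply Subtype.ext
    rw [← relator_eq_walkF C γx pts nxt D.n D.d hnxt _ (h.paths _ hm) (hrel _ hm) i hi,
      ← relator_eq_walkF C γx pts nxt D.n D.d hnxt _ (h.paths _ hm) (hrel _ hm) 0 h.hn]
  have hzval : ∀ j < D.paths.length, ((z j : ↥(center Γ)) : Γ) = pathProd (letG γx) (D.paths.getD j []) := by
    intro j hj
    have hm := D.path_mem hj
    exact (relator_eq_walkF C γx pts nxt D.n D.d hnxt _ (h.paths _ hm) (hrel _ hm) 0 h.hn).symm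
  exact ⟨z, hzval, cycleS_sound1 D nxt h 0 rows hcyc F hF z hzi⟩

end Main

section Pres
variable {α : Type} (rels : Set (FreeGroup α)) (relWords : List (List (α × Bool)))
  (lw : α × Bool → ℕ) (gi : α → ℕ)

/-- One sparse Fox cycle over the coset table of a subgroup `H` with a retraction: if the given lifts `γ` of the
generators satisfy all relators except the one of index `j0`, then the value of that relator has order dividing
the augmentation `lam` of the cycle at `j0`. -/
theorem pow_eq_one_of_cycle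
    (hrels : ∀ r, r ∈ rels ↔ ∃ L ∈ relWords, r = FreeGroup.mk L)
    (hlw : ∀ x b, lw (x, b) = 2 * gi x + cond b 0 1) (hgi : Function.Injective gi)
    (H : Subgroup (PresentedGroup rels))
    (T : Table) (hT : T.OK) (hlwk : ∀ x, lw (x, true) < T.k)
    (φ : PresentedGroup rels →* Equiv.Perm (Fin T.n))
    (hφ : ∀ x, φ (PresentedGroup.of x) = Table.sigma hT (lw (x, true)))
    (f : PresentedGroup rels ⧸ H → Fin T.n) (hf : Function.Bijective f)
    (hfe : ∀ g q, f (g • q) = φ g (f q))
    (D : FoxData) (hDn : D.n = T.n) (hDd : ∀ k < D.d, ∃ x, gi x = k)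
    (hpaths : D.paths = relWords.map (pathOf lw))
    (hOK : static1OK D T.tau = true) (rows : List (List (ℕ × ℕ)))
    (hcyc : cycleOKS D T.tau 0 rows = true)
    {Γ : Type*} [Group Γ] (σ : Γ →* PresentedGroup rels) (hs : Function.Surjective σ)
    (hc : σ.ker ≤ center Γ)
    (hexp : ∀ a ∈ σ.ker, a ^ D.p = 1) (R : Retraction σ (H.comap σ))
    (γ : α → Γ) (hγ : ∀ x, σ (γ x) = PresentedGroup.of x)
    (j0 : ℕ) (hj0 : j0 < relWords.length)
    (hone : ∀ j < relWords.length, j ≠ j0 → FreeGroup.lift γ (FreeGroup.mk (relWords.getD j [])) = 1) :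
    FreeGroup.lift γ (FreeGroup.mk (relWords.getD j0 [])) ^ entry D.Lam 0 j0 = 1 := by
  classical
  have hV : ∀ g, g ∈ H.comap σ ↔ σ g • (QuotientGroup.mk 1 : PresentedGroup rels ⧸ H) = QuotientGroup.mk 1 := by
    intro g
    rw [Subgroup.mem_comap]
    show _ ↔ (QuotientGroup.mk (σ g * 1) : PresentedGroup rels ⧸ H) = QuotientGroup.mk 1
    rw [mul_one, QuotientGroup.eq, mul_one, inv_mem_iff]
  obtain ⟨C⟩ := exists_cocycle σ hs hc (QuotientGroup.mk 1 : PresentedGroup rels ⧸ H) (H.comap σ) hV R
  let γx : ℕ → Γ := fun k => if h : ∃ x, gi x = k then γ h.choose else 1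
  have hγx : ∀ x, γx (gi x) = γ x := by
    intro x
    have h : ∃ y, gi y = gi x := ⟨x, rfl⟩
    show (if h : ∃ y, gi y = gi x then γ h.choose else 1) = γ x
    rw [dif_pos h, hgi h.choose_spec]
  let e := Equiv.ofBijective f hf
  let pts : ℕ → PresentedGroup rels ⧸ H := fun i => if h : i < T.n then e.symm ⟨i, h⟩ else QuotientGroup.mk 1
  have hpts : ∀ i (h : i < T.n), f (pts i) = ⟨i, h⟩ := by
    intro i h
    show f (if h : i < T.n then e.symm ⟨i, h⟩ else QuotientGroup.mk 1) = _
    rw [dif_pos h]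
    exact e.apply_symm_apply _
  have hact : ∀ x < D.d, ∀ i < D.n, σ (γx x) • pts i = pts (T.tau (2 * x) i) := by
    intro k hk i hi
    rw [hDn] at hi
    obtain ⟨x, rfl⟩ := hDd k hk
    rw [hγx, hγ]
    apply hf.1
    rw [hfe, hφ, hpts i hi]
    have hlt : T.tau (2 * gi x) i < T.n := by
      have := (Table.sigma hT (lw (x, true)) ⟨i, hi⟩).2
      rwa [Table.sigma_apply hT (hlwk x), hlw, cond_true, add_zero] at this
    rw [hpts _ hlt]
    apply Fin.ext
    rw [Table.sigma_apply hT (hlwk x), hlw]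
    rfl
  have hcomp : ∀ L : List (α × Bool),
      σ (FreeGroup.lift γ (FreeGroup.mk L)) = PresentedGroup.mk rels (FreeGroup.mk L) := by
    intro L
    have : σ.comp (FreeGroup.lift γ) = PresentedGroup.mk rels := by
      apply FreeGroup.ext_hom
      intro x
      show σ (FreeGroup.lift γ (FreeGroup.of x)) = PresentedGroup.mk rels (FreeGroup.of x)
      rw [FreeGroup.lift_apply_of, hγ]
      rfl
    exact congrArg (fun h : FreeGroup α →* PresentedGroup rels => h (FreeGroup.mk L)) this
  have hlp : ∀ L : List (α × Bool), FreeGroup.lift γ (FreeGroup.mk L) = pathProd (letG γx) (pathOf lw L) :=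
    fun L => lift_mk_eq_pathProd γ lw (letG γx) (fun x b => by rw [letG_lw lw gi hlw, hγx]) L
  have hrel : ∀ w ∈ D.paths, σ (pathProd (letG γx) w) = 1 := by
    intro w hw
    rw [hpaths, List.mem_map] at hw
    obtain ⟨L, hL, rfl⟩ := hw
    rw [← hlp, hcomp]
    exact PresentedGroup.one_of_mem ((hrels _).mpr ⟨L, hL, rfl⟩)
  obtain ⟨z, hzval, hprod⟩ := relation_abs D T.tau hOK rows hcyc C hexp γx pts hact hrel
  have hlen : D.paths.length = relWords.length := by rw [hpaths, List.length_map]
  have hget : ∀ j < relWords.length, D.paths.getD j [] = pathOf lw (relWords.getD j []) := by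
    intro j hj
    rw [hpaths, List.getD_eq_getElem _ _ (by rw [List.length_map]; exact hj), List.getElem_map,
      List.getD_eq_getElem _ _ hj]
  have hzj : ∀ j < relWords.length, ((z j : ↥(center Γ)) : Γ) =
      FreeGroup.lift γ (FreeGroup.mk (relWords.getD j [])) := by
    intro j hj
    rw [hzval j (by rw [hlen]; exact hj), hget j hj, ← hlp]
  rw [hlen] at hprod
  have hz1 : ∀ j ∈ Finset.range relWords.length, j ≠ j0 → z j ^ entry D.Lam 0 j = 1 := by
    intro j hj hne
    have : z j = 1 := by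
      apply Subtype.ext
      rw [hzj j (Finset.mem_range.mp hj), hone j (Finset.mem_range.mp hj) hne]
      rfl
    rw [this, one_pow]
  rw [Finset.prod_eq_single_of_mem j0 (Finset.mem_range.mpr hj0) hz1] at hprod
  rw [← hzj j0 hj0, ← Subgroup.coe_pow, hprod]
  rfl

end Pres

end Cfsg.Agent.Lib.Helper29.SchurFoxOne
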