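import Mathlib
import Cfsg.Agent.Lib.Helper29.SpAschTools
import Cfsg.Agent.Lib.Helper20.AschTS
import Cfsg.Agent.Lib.Helper29.AschKF2
import Cfsg.Agent.Lib.Helper27.AschKF3
import Cfsg.Agent.Lib.Helper7.AschForms
import Cfsg.Agent.Lib.Helper29.SpAschQU
import Cfsg.Agent.Lib.Helper17.SpAschZ
import Cfsg.Agent.Lib.Helper17.SpAschQ0
import Cfsg.Agent.Lib.Helper10.SpAschF6
import Cfsg.Agent.Lib.Helper7.SpAschF
import Cfsg.Agent.Lib.Helper13.ThRGD

/-!
S5662 (Aschbacher for `Sp_2m(F)`): the block theorems [FLD] `sgeo_of_field`, [QDR] `sgeo_of_fixes_quad`, [UNI]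
`realisable_of_fixes_unitary` (exact signatures of `notes/S5662_leaves.lean`), assembled from the landed leaves of the FQ market
(helper7, helper10, helper17, helper29) and helper13's `galois_descent`.
-/

set_option autoImplicit false
set_option linter.unusedSectionVars false
set_option linter.unusedVariables false

namespace Cfsg.Agent.Lib.Helper29.SpAschLeaf
open Matrix Cfsg Cfsg.Geo Cfsg.Agent.Lib.Helper20.Asch Cfsg.Agent.Lib.Helper29.SpAsch
open scoped Kronecker
open Cfsg.Agent.Lib.Helper17.SpAschLeaf (two_eq_zero_of_not_odd two_ne_zero_of_odd fixesForm_polar c8_of_vanishing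
  additive_invariant_zero quad_even c8_of_quadratic_elt)
open Cfsg.Agent.Lib.Helper10.SpAschLeaf (adj_eq_frobenius)
open Cfsg.Agent.Lib.Helper7.SpAschLeaf (sub_normalized adjM_pow selfadj_zero pow_card_of_dvd scalar_of_pow_card
  conj_eq_or_eq_adj)
open Cfsg.Agent.Lib.Helper13.ThR (galois_descent)

variable {F : Type*} [Field F] [Fintype F] {n m : ℕ} {J : Matrix (Fin n) (Fin n) F}
  {H N : Subgroup (GL (Fin n) F)}

/-! ## assemblies -/

/-- exit C3a -/
theorem c3a_exit (h : SpCtx J m H) (r : ℕ) (K' : Subalgebra F (Matrix (Fin n) (Fin n) F)) (hr : r.Prime)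
    (hK' : IsFieldSubalgebra r K') (hsa : ∀ k ∈ K', adjM J k = k) (hHK' : H ≤ subalgebraNormalizer K') :
    SGeo J m H :=
  SGeo.of_C3a h.le r K' hr hK' ((isSelfAdjointFor_iff h.alt.det K').2 hsa)
    (selfadj_zero h.alt K' hK' hsa) hHK'

/-- degree 2, unitary type, even characteristic: C8 -/
theorem field_c8 (h : SpCtx J m H) (heven : ¬ Odd (Fintype.card F))
    (K : Subalgebra F (Matrix (Fin n) (Fin n) F)) (hK : IsFieldSubalgebra 2 K)
    (hHK : H ≤ subalgebraNormalizer K) (hfrob : ∀ k ∈ K, adjM J k = k ^ Fintype.card F)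
    (hns : ∃ k ∈ K, adjM J k ≠ k) : SGeo J m H := by
  obtain ⟨k₀, hk₀, hne⟩ := hns
  have h2 := two_eq_zero_of_not_odd (F := F) heven
  have hadjmem : adjM J k₀ ∈ K := by rw [hfrob k₀ hk₀]; exact K.pow_mem hk₀ _
  have hfix : (k₀ + adjM J k₀) ^ Fintype.card F = k₀ + adjM J k₀ := by
    rw [← hfrob _ (K.add_mem hk₀ hadjmem), adjM_add, adjM_adjM h.alt, add_comm]
  obtain ⟨c, hc⟩ := scalar_of_pow_card K hK _ (K.add_mem hk₀ hadjmem) hfix
  have hc0 : c ≠ 0 := by
    rintro rfl
    apply hne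
    rw [zero_smul] at hc
    have h3 : adjM J k₀ = -k₀ := by rw [eq_neg_iff_add_eq_zero, add_comm]; exact hc
    have h4 : -k₀ = k₀ := by
      have : (2 : F) • k₀ = 0 := by rw [h2, zero_smul]
      rw [two_smul] at this
      exact neg_eq_of_add_eq_zero_left this
    rw [h3, h4]
  refine c8_of_quadratic_elt h heven h2 k₀ c hc0 ?_ ?_
  · rw [← hc]; abel
  · intro g hg
    exact conj_eq_or_eq_adj h.alt K hK hfrob (fun k hk hp => scalar_of_pow_card K hK k hk hp) k₀ hk₀ g (hHK hg)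

/-- [FLD] the block theorem, EXACT signature of `notes/S5662_leaves.lean` -/
theorem sgeo_of_field (h : SpCtx J m H) (hirr : Irr H) (hN : N ≤ H) (hnorm : NormBy H N)
    (hhom : Homog N) (hZ : ¬ ∀ T ∈ ZCen N, ∃ c : F, T = c • (1 : Matrix (Fin n) (Fin n) F)) :
    SGeo J m H := by
  have hn0 : 0 < n := by have := h.dim; have := h.two_le; omega
  obtain ⟨d, hd⟩ : ∃ d, d = Module.finrank F (ZCen N) := ⟨_, rfl⟩
  have hK : IsFieldSubalgebra d (ZCen N) := by
    rw [hd]; exact Cfsg.Agent.Lib.Helper20.AschLeaf.zcen_isField hn0 hhom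
  have hHK : H ≤ subalgebraNormalizer (ZCen N) :=
    Cfsg.Agent.Lib.Helper29.AschLeaf.zcen_normalized hnorm
  have hpos : 0 < d := by
    have : Nontrivial (Matrix (Fin n) (Fin n) F) := by
      have : Nonempty (Fin n) := ⟨⟨0, hn0⟩⟩
      infer_instance
    rw [hd]
    exact Module.finrank_pos
  have hd2 : 2 ≤ d := by
    by_contra hlt
    apply hZ
    apply Cfsg.Agent.Lib.Helper29.AschLeaf.scalar_of_finrank_one
    omega
  have hac : ∀ k ∈ ZCen N, adjM J k ∈ ZCen N :=
    fun k hk => adjM_mem_ZCen h.alt (hN.trans h.le) hk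
  by_cases hsa : ∀ k ∈ ZCen N, adjM J k = k
  · obtain ⟨r, hr, hrd⟩ := Nat.exists_prime_and_dvd (show d ≠ 1 by omega)
    obtain ⟨K', hK', hmem⟩ :=
      Cfsg.Agent.Lib.Helper27.AschKF3.exists_sub (ZCen N) d hK r hr.ne_zero hpos hrd
    exact c3a_exit h r K' hr hK' (fun k hk => hsa k ((hmem k).1 hk).1)
      (sub_normalized _ _ _ hmem hHK)
  · push Not at hsa
    obtain ⟨d₀, hd₀, hfrob⟩ := adj_eq_frobenius h.alt (ZCen N) hK hpos hac hsa
    rcases Nat.lt_or_ge d₀ 2 with h1 | h2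
    · have hd01 : d₀ = 1 := by omega
      subst hd01
      have hd2' : d = 2 := by omega
      subst hd2'
      have hfrob' : ∀ k ∈ ZCen N, adjM J k = k ^ Fintype.card F := by
        intro k hk
        have := hfrob k hk
        rwa [pow_one] at this
      by_cases hodd : Odd (Fintype.card F)
      · refine SGeo.of_C3b h.le (ZCen N) hodd hK (isAdjointClosedFor_of h.alt.det _ hac) ?_ hHK
        intro hself
        obtain ⟨k, hk, hne⟩ := hsa
        exact hne ((isSelfAdjointFor_iff h.alt.det _).1 hself k hk)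
      · exact field_c8 h hodd (ZCen N) hK hHK hfrob' hsa
    · obtain ⟨r, hr, hrd⟩ := Nat.exists_prime_and_dvd (show d₀ ≠ 1 by omega)
      have hrd' : r ∣ d := by rw [hd₀]; exact Dvd.dvd.mul_left hrd 2
      obtain ⟨K', hK', hmem⟩ :=
        Cfsg.Agent.Lib.Helper27.AschKF3.exists_sub (ZCen N) d hK r hr.ne_zero hpos hrd'
      refine c3a_exit h r K' hr hK' ?_ (sub_normalized _ _ _ hmem hHK)
      intro k hk
      obtain ⟨hkK, hkp⟩ := (hmem k).1 hk
      rw [hfrob k hkK]
      exact pow_card_of_dvd hrd _ k hkp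

/-- [QDR] the block theorem, EXACT signature of `notes/S5662_leaves.lean` -/
theorem sgeo_of_fixes_quad (h : SpCtx J m H) (hN : N ≤ H) (hnorm : NormBy H N) (habs : AbsIrr N)
    (Q : (Fin n → F) → F) (hQ : IsNondegenerateQuadraticForm Q)
    (hfix : FixesQuadForm (matrixSet N) Q) : SGeo J m H := by
  have hn0 : 0 < n := by have := h.dim; have := h.two_le; omega
  have hn2 : 2 ≤ n := by have := h.dim; have := h.two_le; omega
  obtain ⟨c, hc⟩ := invariant_bilinear_eq h.alt (hN.trans h.le) habs _ hQ.polar_bilinear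
    (fixesForm_polar _ Q hfix)
  by_cases hodd : Odd (Fintype.card F)
  · exact (quad_odd_false h.alt hn0 (two_ne_zero_of_odd hodd) Q hQ c hc).elim
  · exact quad_even h hodd hN hnorm Q hQ hfix c hc
      (fun D hadd hsm hinv => additive_invariant_zero hn2 (two_eq_zero_of_not_odd hodd) habs.1 D hadd hsm hinv)

/-- [UNI] the block theorem, EXACT signature of `notes/S5662_leaves.lean` -/
theorem realisable_of_fixes_unitary (hJ : IsAltGram J) (hNJ : N ≤ isoG J) (habs : AbsIrr N)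
    (σ : F ≃+* F) (g : (Fin n → F) → (Fin n → F) → F) (hg : IsUnitaryForm σ g)
    (hfix : FixesForm (matrixSet N) g) :
    ∃ F₀ : Subfield F, F₀ ≠ ⊤ ∧ RealisableOver F₀ (matrixSet N) := by
  obtain ⟨G, hG, hrep⟩ := unitary_rep σ g hg
  obtain ⟨C, hC⟩ := unitary_conj hJ hNJ σ G hG g hrep hfix
  obtain ⟨F₀, hF₀, hmem⟩ := exists_fixed_subfield σ hg.ne_refl
  exact ⟨F₀, hF₀, galois_descent N habs.2 σ C hC F₀ hmem⟩

end Cfsg.Agent.Lib.Helper29.SpAschLeaf
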