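import Mathlib
import Cfsg.Agent.Lib.Helper29.SpAschDefs
import Cfsg.Agent.Lib.Helper24.SpAschNIL
import Cfsg.Agent.Lib.Helper13.SpAschDSC

/-!
S5662 block [NIL] `sgeo_of_nilpotent`, EXACT signature of `notes/S5662_leaves.lean`: helper24's core form
(`Cfsg.Agent.Lib.Helper24.SpAschLeaf.sgeo_of_nilpotent_core`) fed with helper13's form-aware descent [DSC].
-/

set_option autoImplicit false
set_option linter.unusedSectionVars false
set_option linter.unusedVariables false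

namespace Cfsg.Agent.Lib.Helper29.SpAschLeaf
open Matrix Cfsg Cfsg.Geo Cfsg.Agent.Lib.Helper20.Asch Cfsg.Agent.Lib.Helper29.SpAsch
open scoped Kronecker

variable {F : Type*} [Field F] [Fintype F] {n m : ℕ} {J : Matrix (Fin n) (Fin n) F}
  {H N : Subgroup (GL (Fin n) F)}

/-- [NIL] THE SYMPLECTIC-TYPE CASE: exact block form. -/
theorem sgeo_of_nilpotent (h : SpCtx J m H) (hirr : Irr H) (hqp : QP H) (hN : N ≤ H)
    (hnorm : NormBy H N) (hns : ¬ N ≤ scalars (Fin n) F)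
    (hmin : ∀ M : Subgroup (GL (Fin n) F), M ≤ N → NormBy H M → M = N ∨ M ≤ scalars (Fin n) F)
    (hcomm : ⁅N, N⁆ ≤ scalars (Fin n) F) : SGeo J m H :=
  Cfsg.Agent.Lib.Helper24.SpAschLeaf.sgeo_of_nilpotent_core
    (fun F₀ h0 hr => Cfsg.Agent.Lib.Helper13.SpAschLeaf.sgeo_of_realisable h hN hnorm
      ((hqp N hN hnorm).resolve_left hns) F₀ h0 hr) h hirr hqp hN hnorm hns hmin hcomm

end Cfsg.Agent.Lib.Helper29.SpAschLeaf
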