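import Mathlib
import Cfsg.Agent.Lib.Helper29.SpAschTools
import Cfsg.Agent.Lib.Helper20.FCDefs
import Cfsg.Agent.Lib.Helper15.AschCL2

/-!
S5662: the blocks [RED] and [CLF] from helper20's generic FORM-CLIFFORD block (`notes/FC_leaves.lean`): cores whose only hypothesis is
the conclusion of `reducible_cases` resp. `fc_symplectic` for `f = bfm J`, `Y = H`.
-/

set_option autoImplicit false
set_option linter.unusedSectionVars false
set_option linter.unusedVariables false

namespace Cfsg.Agent.Lib.Helper29.SpAsch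
open Matrix Cfsg Cfsg.Geo Cfsg.Agent.Lib.Helper20.Asch Cfsg.Agent.Lib.Helper20.FC
open scoped Kronecker

variable {F : Type*} [Field F] [Fintype F] {n m : ℕ} {J : Matrix (Fin n) (Fin n) F}
  {H N : Subgroup (GL (Fin n) F)}

lemma isoms_of_le (hH : H ≤ isoG J) : Isoms H (bfm J) := fun y hy u v => hH hy u v

/-- [RED] from the conclusion of `reducible_cases` -/
theorem sgeo_of_not_irr_core (h : SpCtx J m H)
    (hcases : (∃ W : Submodule F (Fin n → F), W ≠ ⊥ ∧ IsTotallySingularFor (bfm J) W ∧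
        H ≤ subspaceStabilizer W) ∨
      (∃ W : Submodule F (Fin n → F), W ≠ ⊥ ∧ IsNondegenerateOn (bfm J) W ∧
        2 * Module.finrank F W < n ∧ H ≤ subspaceStabilizer W) ∨
      (∃ (k : ℕ) (D : Fin 2 → Submodule F (Fin n → F)), IsNondegenerateMDecomposition (bfm J) k D ∧
        H ≤ decompositionStabilizer D)) : SGeo J m H := by
  rcases hcases with ⟨W, h0, hts, hW⟩ | ⟨W, h0, hnd, hlt, hW⟩ | ⟨k, D, hD, hHD⟩
  · exact SGeo.of_C1a h.le W h0 hts hW
  · refine SGeo.of_C1b h.le W h0 hnd ?_ hW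
    have := h.dim
    omega
  · exact SGeo.of_C2a h.le D hD hHD

/-- [CLF] from the conclusion of `fc_symplectic` -/
theorem sgeo_of_not_homog_core (h : SpCtx J m H)
    (hfc : OutA (bfm J) H ∨ (Odd (Fintype.card F) ∧ OutB (bfm J) H) ∨
      (¬ Odd (Fintype.card F) ∧ ∃ Q : (Fin n → F) → F, IsNondegenerateQuadraticForm Q ∧
        (∀ u v, QuadraticMap.polar Q u v = bfm J u v) ∧ FixesQuadForm (matrixSet H) Q ∧
        H ≤ quadSimilarityGroup Q)) : SGeo J m H := by
  rcases hfc with ⟨t, k, D, hD, hHD, -⟩ | ⟨hodd, k, D, hk, hD, hts, hHD⟩ | ⟨heven, Q, hQ, hpol, -, hHQ⟩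
  · exact SGeo.of_C2a h.le D hD hHD
  · have hkm : k = m := by have := h.dim; omega
    subst hkm
    exact SGeo.of_C2b h.le D hodd hD hts hHD
  · exact SGeo.of_C8 h.le Q heven hQ hpol hHQ

/-- Clifford data with the minimality clause, for a non-homogeneous normal subgroup -/
theorem exists_cdec (hn : 0 < n) (hirr : Irr H) (hN : N ≤ H) (hnorm : NormBy H N) (hnh : ¬ Homog N) :
    ∃ (t k : ℕ) (D : Fin t → Submodule F (Fin n → F)), CDec N H k D := by
  rcases Cfsg.Agent.Lib.Helper15.AschLeaf.clifford' hn hirr hN hnorm with hh | ⟨t, k, D, h1, h2, h3, h4, h5, h6⟩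
  · exact absurd hh hnh
  · exact ⟨t, k, D, ⟨h1, h2, h3, h4, h5, h6⟩⟩

end Cfsg.Agent.Lib.Helper29.SpAsch
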