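import Mathlib
import Cfsg.Agent.Lib.Helper29.SpAschWrap
import Cfsg.Agent.Lib.Helper11.FCRed

/-!
S5662 block [RED]: `sgeo_of_not_irr` (exact signature of `notes/S5662_leaves.lean`), from helper11's generic `reducible_cases`.
-/

set_option autoImplicit false
set_option linter.unusedSectionVars false
set_option linter.unusedVariables false

namespace Cfsg.Agent.Lib.Helper29.SpAschLeaf
open Matrix Cfsg Cfsg.Geo Cfsg.Agent.Lib.Helper20.Asch Cfsg.Agent.Lib.Helper29.SpAsch
open scoped Kronecker

variable {F : Type*} [Field F] [Fintype F] {n m : ℕ} {J : Matrix (Fin n) (Fin n) F}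
  {H N : Subgroup (GL (Fin n) F)}

/-- [RED] a reducible group lies in a member of C1 (t.s. or nondegenerate subspace) or C2a (`W ⊕ W^⊥`, `dim W = m`). -/
theorem sgeo_of_not_irr (h : SpCtx J m H) (hred : ¬ Irr H) : SGeo J m H :=
  sgeo_of_not_irr_core h
    (Cfsg.Agent.Lib.Helper11.FCLeaf.reducible_cases
      (Cfsg.Agent.Lib.Helper20.FC.rs_of_symplectic (isSymplectic_bfm h.alt)) (isoms_of_le h.le) hred)

end Cfsg.Agent.Lib.Helper29.SpAschLeaf
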