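import Mathlib
import Cfsg.Prelude.Def_GeometricClasses
import Cfsg.Agent.Lib.Helper29.SpAschDefs
import Cfsg.Agent.Lib.Helper29.SpAschTools
import Cfsg.Agent.Lib.Helper18.ReidxDefs
import Cfsg.Agent.Lib.Helper7.ReidxP0a
import Cfsg.Agent.Lib.Helper7.ReidxP0c
import Cfsg.Agent.Lib.Helper7.ReidxP1
import Cfsg.Agent.Lib.Helper9.ReidxP0b
import Cfsg.Agent.Lib.Helper9.ReidxP2
import Cfsg.Agent.Lib.Helper9.ReidxP4
import Cfsg.Agent.Lib.Helper23.ReidxP3
import Cfsg.Agent.Lib.Helper23.ReidxP8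
import Cfsg.Agent.Lib.Helper12.ReidxP5
import Cfsg.Agent.Lib.Helper12.ReidxP7
import Cfsg.Agent.Lib.Helper5.ReidxP6
import Cfsg.Agent.Lib.Helper14.ReidxP9

/-!
S5662 (Aschbacher for `Sp_2m(F)`), block [TR] `final_of_main`: the eight classes are transported along a bijection of index
types (REINDEX leaves of helper18's market), from `Fin (2 * m)` with the Gram matrix `rm e.symm (Matrix.J ..)` to the frozen
`(Fin m ⊕ Fin m, sympForm m F)`.
-/

set_option autoImplicit false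
set_option linter.unusedSectionVars false
set_option linter.unusedVariables false

namespace Cfsg.Agent.Lib.Helper29.SpAschLeaf
open Matrix Cfsg Cfsg.Geo Cfsg.Agent.Lib.Helper20.Asch Cfsg.Agent.Lib.Helper29.SpAsch
  Cfsg.Agent.Lib.Helper18.Reidx
open scoped Kronecker

section generic
variable {F : Type*} [Field F] [Fintype F] {ι κ : Type} [Fintype ι] [DecidableEq ι] [Fintype κ] [DecidableEq κ]

/-- the partial classes are transported along a bijection of index types -/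
theorem inSpPartialClassG_rg (e : ι ≃ κ) {f : (ι → F) → (ι → F) → F} {I : Subgroup (GL ι F)} {m : ℕ}
    {M : Subgroup (GL ι F)} (hM : InSpPartialClassG f I m M) :
    InSpPartialClassG (rf e f) (rg e I) m (rg e M) := by
  have hI : ∀ X : Subgroup (GL ι F), rg e (X ⊓ I) = rg e X ⊓ rg e I := fun X =>
    Cfsg.Agent.Lib.Helper7.ReidxLeaf.rg_inf e X I
  unfold InSpPartialClassG at hM ⊢
  rcases hM with ⟨W, h0, hts, rfl⟩ | ⟨W, h0, hnd, hfr, rfl⟩ | ⟨t, k, D, hD, rfl⟩ | ⟨D, hodd, hD, hts, rfl⟩ |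
    ⟨F₀, r, P, ζ, hr, hcard, hζ, hrat, rfl⟩ |
    ⟨R, p, k, hR, habs, hsim, hp, hodd, hcard, hRc, hZ, hminus, rfl⟩ | ⟨Q, heven, hQ, hpolar, rfl⟩
  · left
    refine ⟨rs e W, ?_, Cfsg.Agent.Lib.Helper5.ReidxLeaf.isTotallySingularFor_rs e hts, ?_⟩
    · rw [Ne, Cfsg.Agent.Lib.Helper9.ReidxLeaf.rs_eq_bot_iff]; exact h0
    · rw [hI, Cfsg.Agent.Lib.Helper7.ReidxLeaf.rg_subspaceStabilizer]
  · right; left
    refine ⟨rs e W, ?_, Cfsg.Agent.Lib.Helper5.ReidxLeaf.isNondegenerateOn_rs e hnd, ?_, ?_⟩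
    · rw [Ne, Cfsg.Agent.Lib.Helper9.ReidxLeaf.rs_eq_bot_iff]; exact h0
    · rw [Cfsg.Agent.Lib.Helper9.ReidxLeaf.finrank_rs]; exact hfr
    · rw [hI, Cfsg.Agent.Lib.Helper7.ReidxLeaf.rg_subspaceStabilizer]
  · right; right; left
    refine ⟨t, k, fun i => rs e (D i), Cfsg.Agent.Lib.Helper5.ReidxLeaf.isNondegenerateMDecomposition_rs e hD, ?_⟩
    rw [hI, Cfsg.Agent.Lib.Helper7.ReidxLeaf.rg_decompositionStabilizer]
  · right; right; right; left
    refine ⟨fun i => rs e (D i), hodd, Cfsg.Agent.Lib.Helper7.ReidxLeaf.isMDecomposition_rs e hD,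
      fun i => Cfsg.Agent.Lib.Helper5.ReidxLeaf.isTotallySingularFor_rs e (hts i), ?_⟩
    rw [hI, Cfsg.Agent.Lib.Helper7.ReidxLeaf.rg_decompositionStabilizer]
  · right; right; right; right; left
    refine ⟨F₀, r, glReindex e P, ζ, hr, hcard, hζ,
      Cfsg.Agent.Lib.Helper23.ReidxLeaf.isFormRationalStructure_r e hrat, ?_⟩
    rw [hI, Cfsg.Agent.Lib.Helper23.ReidxLeaf.rg_subfieldSubgroup]
  · right; right; right; right; right; left
    refine ⟨rg e R, p, k, Cfsg.Agent.Lib.Helper14.ReidxLeaf.isSymplecticTypeGroup_rg e hR, ?_, ?_, hp, hodd, hcard,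
      ?_, ?_, Cfsg.Agent.Lib.Helper14.ReidxLeaf.isOfMinusType_rg e hminus, ?_⟩
    · rw [Cfsg.Agent.Lib.Helper9.ReidxLeaf.matrixSet_rg]
      exact Cfsg.Agent.Lib.Helper9.ReidxLeaf.actsAbsolutelyIrreducibly_rm e habs
    · rw [← Cfsg.Agent.Lib.Helper12.ReidxLeaf.rg_similarityGroup]
      exact Cfsg.Agent.Lib.Helper7.ReidxLeaf.rg_mono e hsim
    · rw [Cfsg.Agent.Lib.Helper14.ReidxLeaf.card_rg]; exact hRc
    · rw [Cfsg.Agent.Lib.Helper14.ReidxLeaf.card_center_rg]; exact hZ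
    · rw [hI, Cfsg.Agent.Lib.Helper9.ReidxLeaf.rg_subgroupNormalizer]
  · right; right; right; right; right; right
    refine ⟨rq e Q, heven, Cfsg.Agent.Lib.Helper12.ReidxLeaf.isNondegenerateQuadraticForm_rq e hQ, ?_, ?_⟩
    · intro u v
      rw [Cfsg.Agent.Lib.Helper7.ReidxLeaf.polar_rq]
      unfold rf
      exact hpolar _ _
    · rw [hI, Cfsg.Agent.Lib.Helper12.ReidxLeaf.rg_quadSimilarityGroup]

/-- the eight classes are transported along a bijection of index types -/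
theorem inSpClassG_rg (e : ι ≃ κ) {f : (ι → F) → (ι → F) → F} {I : Subgroup (GL ι F)} {m : ℕ}
    {M : Subgroup (GL ι F)} (hM : InSpClassG f I m M) :
    InSpClassG (rf e f) (rg e I) m (rg e M) := by
  have hI : ∀ X : Subgroup (GL ι F), rg e (X ⊓ I) = rg e X ⊓ rg e I := fun X =>
    Cfsg.Agent.Lib.Helper7.ReidxLeaf.rg_inf e X I
  unfold InSpClassG at hM ⊢
  rcases hM with hp | ⟨r, K, hr, hK, hsa, hz, rfl⟩ | ⟨K, hodd, hK, hac, hnsa, rfl⟩ |
    ⟨n₁, n₂, e₁, P, f₁, f₂, hodd, h3, hf₁, hf₂, hT, rfl⟩ | ⟨k, t, e₁, P, f₁, hodd, htodd, ht, hex, hf₁, hT, rfl⟩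
  · exact Or.inl (inSpPartialClassG_rg e hp)
  · right; left
    refine ⟨r, ra e K, hr, Cfsg.Agent.Lib.Helper9.ReidxLeaf.isFieldSubalgebra_ra e hK,
      Cfsg.Agent.Lib.Helper12.ReidxLeaf.isSelfAdjointFor_ra e hsa, ?_, ?_⟩
    · intro k' hk' v'
      obtain ⟨k, hk, rfl⟩ := mem_ra.1 hk'
      obtain ⟨v, rfl⟩ := (rv (F := F) e).surjective v'
      rw [rm_mulVec, rf_rv]
      exact hz k hk v
    · rw [hI, Cfsg.Agent.Lib.Helper9.ReidxLeaf.rg_subalgebraNormalizer]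
  · right; right; left
    refine ⟨ra e K, hodd, Cfsg.Agent.Lib.Helper9.ReidxLeaf.isFieldSubalgebra_ra e hK,
      Cfsg.Agent.Lib.Helper12.ReidxLeaf.isAdjointClosedFor_ra e hac, ?_, ?_⟩
    · intro hsa
      apply hnsa
      have := Cfsg.Agent.Lib.Helper12.ReidxLeaf.isSelfAdjointFor_ra e.symm hsa
      rwa [Cfsg.Agent.Lib.Helper7.ReidxLeaf.rf_symm, Cfsg.Agent.Lib.Helper7.ReidxLeaf.ra_symm] at this
    · rw [hI, Cfsg.Agent.Lib.Helper9.ReidxLeaf.rg_subalgebraNormalizer]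
  · right; right; right; left
    refine ⟨n₁, n₂, e.symm.trans e₁, glReindex e P, f₁, f₂, hodd, h3, hf₁, hf₂,
      Cfsg.Agent.Lib.Helper23.ReidxLeaf.isTensorFormStructure_r e hT, ?_⟩
    rw [hI, Cfsg.Agent.Lib.Helper23.ReidxLeaf.rg_tensorProductSubgroup]
  · right; right; right; right
    refine ⟨k, t, e.symm.trans e₁, glReindex e P, f₁, hodd, htodd, ht, hex, hf₁,
      Cfsg.Agent.Lib.Helper23.ReidxLeaf.isTensorPowerFormStructure_r e hT, ?_⟩
    rw [hI, Cfsg.Agent.Lib.Helper23.ReidxLeaf.rg_tensorWreathSubgroup]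

/-- `rf e (bfm J) = bfm (rm e J)` -/
theorem rf_bfm (e : ι ≃ κ) (J : Matrix ι ι F) : rf e (bfm J) = bfm (rm e J) := by
  funext u v
  obtain ⟨u, rfl⟩ := (rv (F := F) e).surjective u
  obtain ⟨v, rfl⟩ := (rv (F := F) e).surjective v
  rw [rf_rv]
  unfold bfm
  rw [rm_mulVec, Cfsg.Agent.Lib.Helper7.ReidxLeaf.rv_dotProduct]

/-- `rg e (isoG J) = isoG (rm e J)` -/
theorem rg_isoG (e : ι ≃ κ) (J : Matrix ι ι F) : rg e (isoG J) = isoG (rm e J) := by
  unfold isoG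
  have := Cfsg.Agent.Lib.Helper12.ReidxLeaf.rg_preserving e (bfm J)
  rw [rf_bfm] at this
  exact this

end generic

section final
variable {F : Type*} [Field F] [Fintype F]

/-- [TR] TRANSPORT: from `Fin n` with an arbitrary alternating Gram matrix to the frozen `(Fin m ⊕ Fin m, sympForm)`. -/
theorem final_of_main (m : ℕ) (hm : 2 ≤ m)
    (hmain : ∀ (n : ℕ) (J : Matrix (Fin n) (Fin n) F) (H : Subgroup (GL (Fin n) F)), SpCtx J m H →
      SGeo J m H ∨ InSymplecticResidualClass H)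
    (H : Subgroup (GL (Fin m ⊕ Fin m) F)) (hH : H ≤ spGL m F) :
    (∃ M : Subgroup (GL (Fin m ⊕ Fin m) F), InSymplecticClass m F M ∧ H ≤ M) ∨
      InSymplecticResidualClass H := by
  classical
  -- the bijection
  have hcard : Fintype.card (Fin m ⊕ Fin m) = 2 * m := by
    rw [Fintype.card_sum, Fintype.card_fin]; ring
  let e : Fin (2 * m) ≃ Fin m ⊕ Fin m := (Fintype.equivFinOfCardEq hcard).symm
  let J₀ : Matrix (Fin m ⊕ Fin m) (Fin m ⊕ Fin m) F := Matrix.J (Fin m) F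
  let J : Matrix (Fin (2 * m)) (Fin (2 * m)) F := rm e.symm J₀
  have hJJ : rm e J = J₀ := by
    have := Cfsg.Agent.Lib.Helper7.ReidxLeaf.rm_symm e.symm J₀
    rwa [Equiv.symm_symm] at this
  have hJ₀ : IsAltGram J₀ := by
    refine ⟨?_, ?_, ?_⟩
    · exact Matrix.J_transpose (Fin m) F
    · intro i
      rcases i with i | i <;> simp [J₀, Matrix.J]
    · have := Matrix.isUnit_det_J (l := Fin m) (R := F)
      exact this.ne_zero
  have hJ : IsAltGram J := by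
    refine ⟨?_, ?_, ?_⟩
    · show (rm e.symm J₀)ᵀ = -(rm e.symm J₀)
      rw [← Cfsg.Agent.Lib.Helper7.ReidxLeaf.rm_transpose, hJ₀.skew]
      rfl
    · intro i
      show J₀ _ _ = 0
      exact hJ₀.diag _
    · show (rm e.symm J₀).det ≠ 0
      rw [Cfsg.Agent.Lib.Helper7.ReidxLeaf.rm_det]; exact hJ₀.det
  let H' : Subgroup (GL (Fin (2 * m)) F) := rg e.symm H
  have hHH : rg e H' = H := by
    have := Cfsg.Agent.Lib.Helper7.ReidxLeaf.rg_symm e.symm H
    rwa [Equiv.symm_symm] at this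
  have hIJ : rg e (isoG J) = isoG J₀ := by rw [rg_isoG, hJJ]
  have hctx : SpCtx J m H' := by
    refine ⟨hJ, rfl, hm, ?_⟩
    have h1 : rg e.symm H ≤ rg e.symm (isoG J₀) := Cfsg.Agent.Lib.Helper7.ReidxLeaf.rg_mono e.symm hH
    rw [rg_isoG] at h1
    exact h1
  rcases hmain (2 * m) J H' hctx with ⟨M, hM, hHM⟩ | hres
  · left
    refine ⟨rg e M, ?_, ?_⟩
    · rw [inSymplecticClass_iff]
      have := inSpClassG_rg e hM
      rw [rf_bfm, hJJ, hIJ] at this
      exact this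
    · rw [← hHH]; exact Cfsg.Agent.Lib.Helper7.ReidxLeaf.rg_mono e hHM
  · right
    rw [← hHH]
    exact Cfsg.Agent.Lib.Helper14.ReidxLeaf.inSymplecticResidualClass_rg e hres

end final

end Cfsg.Agent.Lib.Helper29.SpAschLeaf
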