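import Mathlib
import Cfsg.Agent.Lib.Helper29.SpAschDefs
import Cfsg.Agent.Lib.Helper4.AschA1
import Cfsg.Agent.Lib.Helper20.AschTS
import Cfsg.Agent.Lib.Helper29.AschKF2
import Cfsg.Agent.Lib.Helper29.AschS1K1
import Cfsg.Agent.Lib.Helper29.SpAschRed
import Cfsg.Agent.Lib.Helper20.FCSp
import Cfsg.Agent.Lib.Helper29.SpAschFQMain
import Cfsg.Agent.Lib.Helper13.SpAschDSC
import Cfsg.Agent.Lib.Helper29.SpAschNILWrap
import Cfsg.Agent.Lib.Helper29.SpAschTR
import Cfsg.Agent.Lib.Helper29.SpPrfMain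

/-!
S5662 = Aschbacher's theorem for `Sp_2m(F)`, `m ≥ 2`, `F` finite: the assembly of `notes/S5662_leaves.lean` (block [TNS] as the hypothesis `TnsStmt F`) on the landed
blocks: [RED] [FLD] [QDR] [UNI] [TR] + wrap of [NIL] (helper29), [CLF] (helper20), [DSC] + THR/GD (helper13), [NIL] (helper24),
[TNS] (helper20's market), [PRF] (helper29's market).
-/

set_option autoImplicit false
set_option linter.unusedSectionVars false
set_option linter.unusedVariables false

namespace Cfsg.Agent.Lib.Helper29.SpAschMain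
open Matrix Cfsg Cfsg.Geo Cfsg.Agent.Lib.Helper20.Asch Cfsg.Agent.Lib.Helper29.SpAsch
open scoped Kronecker

variable {F : Type*} [Field F] [Fintype F] {n m : ℕ} {J : Matrix (Fin n) (Fin n) F}
  {H N : Subgroup (GL (Fin n) F)}

/-- the statement of block [TNS] `sgeo_of_tensor` of `notes/S5662_leaves.lean` -/
def TnsStmt (F : Type*) [Field F] [Fintype F] : Prop :=
  ∀ {n m : ℕ} {J : Matrix (Fin n) (Fin n) F} {H N : Subgroup (GL (Fin n) F)},
    SpCtx J m H → Irr H → N ≤ H → NormBy H N →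
    ∀ {s k : ℕ}, 2 ≤ s → 2 ≤ k → ∀ (e : Fin n ≃ Fin s × Fin k) (P : GL (Fin n) F),
    (∀ A : Matrix (Fin s) (Fin s) F, conjR e P (A ⊗ₖ (1 : Matrix (Fin k) (Fin k) F)) ∈ Env N) →
    (∀ T ∈ Env N, ∃ A : Matrix (Fin s) (Fin s) F,
      T = conjR e P (A ⊗ₖ (1 : Matrix (Fin k) (Fin k) F))) → SGeo J m H

/-! ## assembly -/

/-- every `H`-normal subgroup is scalar or absolutely irreducible -/
theorem sgeo_or_qp (hTNS : TnsStmt F) (h : SpCtx J m H) (hirr : Irr H) : SGeo J m H ∨ QP H := by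
  by_cases hgeo : SGeo J m H
  · exact Or.inl hgeo
  right
  intro N hN hnorm
  have hn0 : 0 < n := by have := h.dim; have := h.two_le; omega
  have hhom : Homog N := by
    by_contra hnh
    exact hgeo (Cfsg.Agent.Lib.Helper20.FCSp.sgeo_of_not_homog h hirr hN hnorm hnh)
  have hZ : ∀ T ∈ ZCen N, ∃ c : F, T = c • (1 : Matrix (Fin n) (Fin n) F) := by
    by_contra hZ
    exact hgeo (Cfsg.Agent.Lib.Helper29.SpAschLeaf.sgeo_of_field h hirr hN hnorm hhom hZ)
  obtain ⟨s, k, e, P, h1, h2⟩ := Cfsg.Agent.Lib.Helper20.AschLeaf.tensor_of_homog hn0 hhom hZ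
  have hcard : n = s * k := by
    have := Fintype.card_congr e
    simpa using this
  rcases Nat.lt_or_ge s 2 with hs | hs
  · have hs1 : s = 1 := by
      rcases Nat.eq_zero_or_pos s with h0 | h0
      · subst h0; omega
      · omega
    subst hs1
    exact Or.inl (Cfsg.Agent.Lib.Helper29.AschLeaf.scalar_of_tensor_one e P h2)
  rcases Nat.lt_or_ge k 2 with hk | hk
  · have hk1 : k = 1 := by
      rcases Nat.eq_zero_or_pos k with h0 | h0
      · subst h0; omega
      · omega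
    subst hk1
    exact Or.inr (Cfsg.Agent.Lib.Helper29.AschLeaf.absIrr_of_tensor_one e P h1)
  exact absurd (hTNS h hirr hN hnorm hs hk e P h1 h2) hgeo

theorem main (hTNS : TnsStmt F) (h : SpCtx J m H) : SGeo J m H ∨ InSymplecticResidualClass H := by
  by_cases hgeo : SGeo J m H
  · exact Or.inl hgeo
  right
  have hn4 : 4 ≤ n := by have := h.dim; have := h.two_le; omega
  have hirr : Irr H := by
    by_contra hred
    exact hgeo (Cfsg.Agent.Lib.Helper29.SpAschLeaf.sgeo_of_not_irr h hred)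
  have hqp : QP H := (sgeo_or_qp hTNS h hirr).resolve_left hgeo
  obtain ⟨N, hN, hnorm, hns, hmin⟩ :=
    Cfsg.Agent.Lib.Helper4.AschLeaf.exists_min_normal (by omega) hirr
  have hNabs : AbsIrr N := (hqp N hN hnorm).resolve_left hns
  have hperf : ⁅N, N⁆ = N := by
    rcases hmin ⁅N, N⁆ (Subgroup.commutator_le.mpr (fun x hx y hy =>
      N.mul_mem (N.mul_mem (N.mul_mem hx hy) (N.inv_mem hx)) (N.inv_mem hy)))
      (Cfsg.Agent.Lib.Helper4.AschLeaf.normBy_commutator hnorm) with h' | h'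
    · exact h'
    · exact absurd (Cfsg.Agent.Lib.Helper29.SpAschLeaf.sgeo_of_nilpotent h hirr hqp hN hnorm hns hmin h') hgeo
  have hsimple := (Cfsg.Agent.Lib.Helper29.SpAschLeaf.sgeo_or_simple h hirr hqp hN hnorm hns hmin hperf).resolve_left hgeo
  refine ⟨N, ⟨hN, hnorm, hperf, hsimple, ?_, ?_, hNabs, ?_⟩, ?_, ?_⟩
  · -- nonabelian
    intro hab
    have h1 := (Subgroup.Normal.quotient_commutative_iff_commutator_le
      (N := (scalars (Fin n) F).subgroupOf N)).mp hab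
    apply hns
    intro x hx
    have h2 : x ∈ ⁅N, N⁆ := by rw [hperf]; exact hx
    rw [← Subgroup.map_subtype_commutator] at h2
    obtain ⟨y, hy, rfl⟩ := h2
    exact h1 hy
  · -- centralizer
    intro g _ hc
    exact Cfsg.Agent.Lib.Helper4.AschLeaf.scalar_of_centralizes_mod hNabs hperf g hc
  · -- no subfield
    intro F₀ hF₀ hreal
    exact hgeo (Cfsg.Agent.Lib.Helper13.SpAschLeaf.sgeo_of_realisable h hN hnorm hNabs F₀ hF₀ hreal)
  · rintro ⟨Q, hQ, hfix⟩
    exact hgeo (Cfsg.Agent.Lib.Helper29.SpAschLeaf.sgeo_of_fixes_quad h hN hnorm hNabs Q hQ hfix)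
  · rintro ⟨σ, g, hg, hfix⟩
    obtain ⟨F₀, hF₀, hreal⟩ :=
      Cfsg.Agent.Lib.Helper29.SpAschLeaf.realisable_of_fixes_unitary h.alt (hN.trans h.le) hNabs σ g hg hfix
    exact hgeo (Cfsg.Agent.Lib.Helper13.SpAschLeaf.sgeo_of_realisable h hN hnorm hNabs F₀ hF₀ hreal)

/-- the frozen statement -/
theorem final (hTNS : TnsStmt F) (m : ℕ) (hm : 2 ≤ m) (hex : ¬ (m = 2 ∧ Fintype.card F = 2))
    (H : Subgroup (Matrix.GeneralLinearGroup (Fin m ⊕ Fin m) F)) (hH : H ≤ Cfsg.spGL m F)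
    (hproper : H ⊔ (Cfsg.Geo.scalars (Fin m ⊕ Fin m) F ⊓ Cfsg.spGL m F) ≠ Cfsg.spGL m F) :
    (∃ M : Subgroup (Matrix.GeneralLinearGroup (Fin m ⊕ Fin m) F),
      Cfsg.Geo.InSymplecticClass m F M ∧ H ≤ M) ∨ Cfsg.Geo.InSymplecticResidualClass H :=
  Cfsg.Agent.Lib.Helper29.SpAschLeaf.final_of_main m hm (fun n J H h => main hTNS h) H hH

end Cfsg.Agent.Lib.Helper29.SpAschMain
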