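import Mathlib
import Cfsg.Prelude.Def_ClassicalGeometry
import Cfsg.Prelude.Def_GeometricClasses
import Cfsg.Agent.Lib.Helper5.SpMax
import Cfsg.Agent.Lib.Helper2.SpSubDefs
import Cfsg.Agent.Lib.Helper29.SpSubE1core
import Cfsg.Agent.Lib.Helper8.SpSubE0

/-!
# S5650 (helper2's market), leaf E1 with the exact signature (helper29)
-/

set_option autoImplicit false

open Cfsg Matrix Cfsg.Agent.Lib.Helper5 Cfsg.Agent.Lib.Helper5.SpMax Cfsg.Agent.Lib.Helper2.SpSub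

namespace Cfsg.Agent.Lib.Helper29.SpSubLeaf

variable {F : Type*} [Field F] {m : ℕ}

/-- (E1) coefficients of the Levi root elements of `M` are rational -/
theorem nrS [Fintype F] {F₀ : Subfield F} (hm : 3 ≤ m) {M : Subgroup (GL (Fin m ⊕ Fin m) F)}
    (h : Ctx F₀ M) {i j : Fin m} (hij : i ≠ j) {c : F} (hc : Sab (ee i) (ff j) c ∈ M) : c ∈ F₀ :=
  nrS_of hm h (Cfsg.Agent.Lib.Helper8.SpSubLeaf.sp_le_of_top F₀ hm h.le h.le_sp) hij hc

end Cfsg.Agent.Lib.Helper29.SpSubLeaf
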