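import Mathlib
import Cfsg.Prelude.Def_ClassicalGeometry
import Cfsg.Prelude.Def_GeometricClasses
import Cfsg.Agent.Lib.Helper5.SpMax
import Cfsg.Agent.Lib.Helper2.SpSubDefs
import Cfsg.Agent.Lib.Helper29.SpSubN1core
import Cfsg.Agent.Lib.Helper27.SpSubE23

/-!
# S5650 (helper2's market), leaf N1 = (A) with the exact signature (helper29)
-/

set_option autoImplicit false

open Cfsg Matrix Cfsg.Agent.Lib.Helper5 Cfsg.Agent.Lib.Helper5.SpMax Cfsg.Agent.Lib.Helper2.SpSub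

namespace Cfsg.Agent.Lib.Helper29.SpSubLeaf

variable {F : Type*} [Field F] {m : ℕ}

/-- (N1) = (A) -/
theorem ratA [Fintype F] {F₀ : Subfield F} (hm : 3 ≤ m) {M : Subgroup (GL (Fin m ⊕ Fin m) F)}
    (h : Ctx F₀ M) {a w : Fin m ⊕ Fin m → F} (ha : RatV F₀ a) (ha0 : a ≠ 0)
    (haw : sympForm m F a w = 0) {ν : F} (hc : Sab a w 1 * tvc a ν ∈ M) :
    ∃ (r : Fin m ⊕ Fin m → F) (θ : F), RatV F₀ r ∧ w = r + θ • a :=
  ratA_of h (fun ha hb hab hind _ _ hc =>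
    Cfsg.Agent.Lib.Helper27.SpSubLeaf.nr_pair hm h ha hb hab hind hc) ha ha0 haw hc

end Cfsg.Agent.Lib.Helper29.SpSubLeaf
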