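import Mathlib
import Cfsg.Agent.Lib.Helper16.ParabolicChar2
import Cfsg.Agent.Lib.Helper4.Basic

/-!
# Sylow subgroups and characteristic `p` for subnormal subgroups
-/

set_option autoImplicit false
open Cfsg
open scoped Pointwise
open Cfsg.Agent.Lib.Helper16

namespace Cfsg.Agent.Lib.Helper29

universe u

/-- For a normal subgroup `N`, `|N : A ∩ N|` divides `|G : A|`. -/
theorem relIndex_dvd_index_of_normal_right' {G : Type*} [Group G] [Finite G] (A N : Subgroup G)
    [N.Normal] : A.relIndex N ∣ A.index := by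
  have h1 : Nat.card ↥(A ⊓ N) * A.relIndex N = Nat.card N := by
    have := Cfsg.Agent.Lib.Helper4.card_mul_relIndex (inf_le_right : A ⊓ N ≤ N)
    rwa [Subgroup.inf_relIndex_right] at this
  have h2 : Nat.card A * A.relIndex (A ⊔ N) = Nat.card ↥(A ⊔ N) :=
    Cfsg.Agent.Lib.Helper4.card_mul_relIndex (le_sup_left : A ≤ A ⊔ N)
  have h3 := Cfsg.Agent.Lib.Helper4.card_sup_mul_card_inf A N
    (by rw [Subgroup.normalizer_eq_top]; exact le_top)
  have h4 : A.relIndex N = A.relIndex (A ⊔ N) := by
    have hpos : 0 < Nat.card A * Nat.card ↥(A ⊓ N) := Nat.mul_pos Nat.card_pos Nat.card_pos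
    apply Nat.eq_of_mul_eq_mul_left hpos
    calc Nat.card A * Nat.card ↥(A ⊓ N) * A.relIndex N
        = Nat.card A * (Nat.card ↥(A ⊓ N) * A.relIndex N) := by ring
      _ = Nat.card A * Nat.card N := by rw [h1]
      _ = Nat.card ↥(A ⊔ N) * Nat.card ↥(A ⊓ N) := h3.symm
      _ = Nat.card A * A.relIndex (A ⊔ N) * Nat.card ↥(A ⊓ N) := by rw [h2]
      _ = Nat.card A * Nat.card ↥(A ⊓ N) * A.relIndex (A ⊔ N) := by ring
  rw [h4]
  exact Subgroup.relIndex_dvd_index_of_le le_sup_left

/-- a Sylow subgroup meets a subnormal subgroup in a Sylow subgroup (index form) -/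
theorem not_dvd_relIndex_of_isSubnormal {G : Type*} [Group G] [Finite G] {p : ℕ} [Fact p.Prime]
    (T : Sylow p G) (N : Subgroup G) (hN : N.IsSubnormal) : ¬ p ∣ (T : Subgroup G).relIndex N := by
  induction hN with
  | top => rw [Subgroup.relIndex_top_right]; exact T.not_dvd_index
  | step H K hle hK hn ih =>
    intro hd
    apply ih
    have h1 := relIndex_dvd_index_of_normal_right' ((T : Subgroup G).subgroupOf K) (H.subgroupOf K)
    rw [Subgroup.relIndex_subgroupOf hle] at h1
    exact hd.trans h1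

/-- characteristic `p` passes to subnormal subgroups -/
theorem charP_of_isSubnormal {X : Type*} [Group X] [Finite X] {p : ℕ} [Fact p.Prime]
    (K : Subgroup X) (hK : K.IsSubnormal)
    (h : Subgroup.centralizer (Cfsg.pCore p X : Set X) ≤ Cfsg.pCore p X) :
    Subgroup.centralizer (Cfsg.pCore p ↥K : Set ↥K) ≤ Cfsg.pCore p ↥K := by
  induction hK with
  | top => exact charP_of_equiv Subgroup.topEquiv.symm h
  | step H K hle hK hn ih =>
    exact charP_of_le_normalizer hle ((Subgroup.normal_subgroupOf_iff_le_normalizer hle).mp hn) ih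

end Cfsg.Agent.Lib.Helper29
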