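import Mathlib
import Cfsg.Agent.Lib.Helper4.Supersolvable2
import Cfsg.Agent.Lib.Helper4.Huppert
import Cfsg.Agent.Lib.Helper1.Hall
import Cfsg.Agent.Lib.Helper1.Coprime

/-!
# Supersolvable groups: normal Sylow subgroup for the largest prime, images; lifting conjugacy
from a quotient
-/

set_option autoImplicit false
open Cfsg
open scoped Pointwise
open Subgroup
open Cfsg.Agent.Lib.Helper1 Cfsg.Agent.Lib.Helper4

namespace Cfsg.Agent.Lib.Helper29

universe u v

theorem isSupersolvable_of_surjective {G : Type u} {G' : Type v} [Group G] [Group G']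
    (hG : IsSupersolvable G) (f : G →* G') (hf : Function.Surjective f) : IsSupersolvable G' := by
  rw [isSupersolvable_iff_ssReach] at hG ⊢
  have := hG.map f hf
  rwa [Subgroup.map_top_of_surjective f hf] at this

theorem sylow_normal_of_isSupersolvable {G : Type u} [Group G] [Finite G]
    (hG : IsSupersolvable G) {p : ℕ} [Fact p.Prime]
    (hmax : ∀ q : ℕ, q.Prime → q ∣ Nat.card G → q ≤ p) (P : Sylow p G) :
    (P : Subgroup G).Normal :=
  sylow_normal_of_prime_index (prime_index_of_isSupersolvable hG) hmax P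

theorem le_normalizer_map_subtype_of_normal {G : Type u} [Group G] [Finite G] (K : Subgroup G)
    (X : Subgroup K) [hX : X.Normal] : K ≤ normalizer ((X.map K.subtype : Subgroup G) : Set G) := by
  intro k hk
  apply mem_normalizer_of_forall_conj_mem
  rintro x ⟨y, hy, rfl⟩
  exact ⟨⟨k, hk⟩ * y * ⟨k, hk⟩⁻¹, hX.conj_mem y hy _, rfl⟩


theorem exists_conj_of_quotient {N : Type u} [Group N] [Finite N] (P : Subgroup N) [P.Normal]
    (A B : Subgroup N) (hPB : P ≤ B) (hcard : Nat.card A = Nat.card B) (xb : N ⧸ P)
    (h : MulAut.conj xb • A.map (QuotientGroup.mk' P) = B.map (QuotientGroup.mk' P)) :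
    ∃ x : N, MulAut.conj x • A = B := by
  obtain ⟨x, rfl⟩ := QuotientGroup.mk_surjective xb
  refine ⟨x, Subgroup.eq_of_le_of_card_ge ?_ ?_⟩
  · intro y hy
    rw [mem_conj_smul_iff] at hy
    have h1 : (QuotientGroup.mk' P) y ∈ MulAut.conj (x : N ⧸ P) • A.map (QuotientGroup.mk' P) := by
      rw [mem_conj_smul_iff]
      refine ⟨x⁻¹ * y * x, hy, ?_⟩
      simp
    rw [h] at h1
    obtain ⟨b, hb, hby⟩ := h1
    have h2 : b⁻¹ * y ∈ P := by
      rw [← QuotientGroup.eq]
      exact hby
    have : y = b * (b⁻¹ * y) := by group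
    rw [this]
    exact B.mul_mem hb (hPB h2)
  · rw [card_conj_smul, hcard]

theorem card_eq_card_map_mk_mul {N : Type u} [Group N] [Finite N] (P : Subgroup N) [P.Normal]
    (A : Subgroup N) (hPA : P ≤ A) :
    Nat.card A = Nat.card (A.map (QuotientGroup.mk' P)) * Nat.card P ∧
      (A.map (QuotientGroup.mk' P)).index = A.index := by
  have hc : (A.map (QuotientGroup.mk' P)).comap (QuotientGroup.mk' P) = A := by
    rw [Subgroup.comap_map_eq, QuotientGroup.ker_mk', sup_eq_left.mpr hPA]
  constructor
  · rw [← card_comap_mk', hc]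
  · rw [← Subgroup.index_comap_of_surjective _ (QuotientGroup.mk'_surjective P), hc]

theorem isSupersolvable_map {G : Type u} {G' : Type v} [Group G] [Group G'] (f : G →* G')
    (A : Subgroup G) (hA : IsSupersolvable A) : IsSupersolvable (A.map f) :=
  isSupersolvable_of_surjective hA (f.subgroupMap A) (f.subgroupMap_surjective A)

theorem index_conj_smul {G : Type u} [Group G] [Finite G] (H : Subgroup G) (g : G) :
    (MulAut.conj g • H).index = H.index := by
  have h1 := (MulAut.conj g • H).card_mul_index
  rw [card_conj_smul, ← H.card_mul_index] at h1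
  exact Nat.eq_of_mul_eq_mul_left Nat.card_pos h1

end Cfsg.Agent.Lib.Helper29
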