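import Cfsg.Agent.Lib.Helper28.TC2Upper
import Cfsg.Agent.Lib.Helper29.TCF23E8DataC0
set_option autoImplicit false
set_option maxRecDepth 100000

namespace Cfsg.Agent.Lib.Helper29.TCF23E8Data
open Cfsg.Agent.Lib.Helper28.TC2Upper

/-- relators -/
def relT : BT (ℕ × List ℕ × List ℕ) := (BT.node 31 (BT.node 15 (BT.node 7 (BT.node 3 (BT.node 1 (BT.node 0 (BT.leaf (2, [0, 0], [1, 1])) (BT.leaf (6, [2, 0, 2, 0, 2, 0], [1, 3, 1, 3, 1, 3]))) (BT.node 2 (BT.leaf (4, [4, 0, 4, 0], [1, 5, 1, 5])) (BT.leaf (4, [6, 0, 6, 0], [1, 7, 1, 7])))) (BT.node 5 (BT.node 4 (BT.leaf (4, [8, 0, 8, 0], [1, 9, 1, 9])) (BT.leaf (4, [10, 0, 10, 0], [1, 11, 1, 11]))) (BT.node 6 (BT.leaf (4, [12, 0, 12, 0], [1, 13, 1, 13])) (BT.leaf (4, [14, 0, 14, 0], [1, 15, 1, 15]))))) (BT.node 11 (BT.node 9 (BT.node 8 (BT.leaf (6, [0, 2, 0, 2, 0, 2], [3,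 1, 3, 1, 3, 1])) (BT.leaf (2, [2, 2], [3, 3]))) (BT.node 10 (BT.leaf (6, [4, 2, 4, 2, 4, 2], [3, 5, 3, 5, 3, 5])) (BT.leaf (4, [6, 2, 6, 2], [3, 7, 3, 7])))) (BT.node 13 (BT.node 12 (BT.leaf (4, [8, 2, 8, 2], [3, 9, 3, 9])) (BT.leaf (4, [10, 2, 10, 2], [3, 11, 3, 11]))) (BT.node 14 (BT.leaf (4, [12, 2, 12, 2], [3, 13, 3, 13])) (BT.leaf (4, [14, 2, 14, 2], [3, 15, 3, 15])))))) (BT.node 23 (BT.node 19 (BT.node 17 (BT.node 16 (BT.leaf (4, [0, 4, 0, 4], [5, 1, 5, 1])) (BT.leaf (6, [2, 4, 2, 4, 2, 4], [5, 3, 5, 3, 5, 3]))) (BT.node 18 (BT.leaf (2, [4, 4], [5, 5])) (BT.leaf (6, [6, 4, 6, 4, 6, 4], [5, 7, 5, 7, 5, 7])))) (BT.node 21 (BT.node 20 (BT.leaf (4, [8, 4, 8, 4], [5, 9, 5, 9])) (BT.leaf (4, [10, 4, 10, 4], [5, 11, 5, 11]))) (BT.node 22 (BT.leaf (4, [12, 4, 12, 4], [5, 13, 5, 13])) (BT.leaf (6, [14, 4, 14, 4,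 14, 4], [5, 15, 5, 15, 5, 15]))))) (BT.node 27 (BT.node 25 (BT.node 24 (BT.leaf (4, [0, 6, 0, 6], [7, 1, 7, 1])) (BT.leaf (4, [2, 6, 2, 6], [7, 3, 7, 3]))) (BT.node 26 (BT.leaf (6, [4, 6, 4, 6, 4, 6], [7, 5, 7, 5, 7, 5])) (BT.leaf (2, [6, 6], [7, 7])))) (BT.node 29 (BT.node 28 (BT.leaf (6, [8, 6, 8, 6, 8, 6], [7, 9, 7, 9, 7, 9])) (BT.leaf (4, [10, 6, 10, 6], [7, 11, 7, 11]))) (BT.node 30 (BT.leaf (4, [12, 6, 12, 6], [7, 13, 7, 13])) (BT.leaf (4, [14, 6, 14, 6], [7, 15, 7, 15]))))))) (BT.node 47 (BT.node 39 (BT.node 35 (BT.node 33 (BT.node 32 (BT.leaf (4, [0, 8, 0, 8], [9, 1, 9, 1])) (BT.leaf (4, [2, 8, 2, 8], [9, 3, 9, 3]))) (BT.node 34 (BT.leaf (4, [4, 8, 4, 8], [9, 5, 9, 5])) (BT.leaf (6, [6, 8, 6, 8, 6, 8], [9, 7, 9, 7, 9, 7])))) (BT.node 37 (BT.node 36 (BT.leaf (2, [8, 8], [9, 9])) (BT.leaf (6, [10, 8, 10,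 8, 10, 8], [9, 11, 9, 11, 9, 11]))) (BT.node 38 (BT.leaf (4, [12, 8, 12, 8], [9, 13, 9, 13])) (BT.leaf (4, [14, 8, 14, 8], [9, 15, 9, 15]))))) (BT.node 43 (BT.node 41 (BT.node 40 (BT.leaf (4, [0, 10, 0, 10], [11, 1, 11, 1])) (BT.leaf (4, [2, 10, 2, 10], [11, 3, 11, 3]))) (BT.node 42 (BT.leaf (4, [4, 10, 4, 10], [11, 5, 11, 5])) (BT.leaf (4, [6, 10, 6, 10], [11, 7, 11, 7])))) (BT.node 45 (BT.node 44 (BT.leaf (6, [8, 10, 8, 10, 8, 10], [11, 9, 11, 9, 11, 9])) (BT.leaf (2, [10, 10], [11, 11]))) (BT.node 46 (BT.leaf (6, [12, 10, 12, 10, 12, 10], [11, 13, 11, 13, 11, 13])) (BT.leaf (4, [14, 10, 14, 10], [11, 15, 11, 15])))))) (BT.node 55 (BT.node 51 (BT.node 49 (BT.node 48 (BT.leaf (4, [0, 12, 0, 12], [13, 1, 13, 1])) (BT.leaf (4, [2, 12, 2, 12], [13, 3, 13, 3]))) (BT.node 50 (BT.leaf (4, [4, 12, 4, 12], [13, 5, 13,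 5])) (BT.leaf (4, [6, 12, 6, 12], [13, 7, 13, 7])))) (BT.node 53 (BT.node 52 (BT.leaf (4, [8, 12, 8, 12], [13, 9, 13, 9])) (BT.leaf (6, [10, 12, 10, 12, 10, 12], [13, 11, 13, 11, 13, 11]))) (BT.node 54 (BT.leaf (2, [12, 12], [13, 13])) (BT.leaf (4, [14, 12, 14, 12], [13, 15, 13, 15]))))) (BT.node 59 (BT.node 57 (BT.node 56 (BT.leaf (4, [0, 14, 0, 14], [15, 1, 15, 1])) (BT.leaf (4, [2, 14, 2, 14], [15, 3, 15, 3]))) (BT.node 58 (BT.leaf (6, [4, 14, 4, 14, 4, 14], [15, 5, 15, 5, 15, 5])) (BT.leaf (4, [6, 14, 6, 14], [15, 7, 15, 7])))) (BT.node 61 (BT.node 60 (BT.leaf (4, [8, 14, 8, 14], [15, 9, 15, 9])) (BT.leaf (4, [10, 14, 10, 14], [15, 11, 15, 11]))) (BT.node 62 (BT.leaf (4, [12, 14, 12, 14], [15, 13, 15, 13])) (BT.leaf (2, [14, 14], [15, 15]))))))))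
/-- subgroup generators -/
def subT : BT (ℕ × List ℕ × List ℕ) := (BT.node 3 (BT.node 1 (BT.node 0 (BT.leaf (1, [0], [1])) (BT.leaf (1, [2], [3]))) (BT.node 2 (BT.leaf (1, [4], [5])) (BT.leaf (1, [6], [7])))) (BT.node 5 (BT.node 4 (BT.leaf (1, [8], [9])) (BT.leaf (1, [10], [11]))) (BT.leaf (1, [14], [15]))))
/-- fact chunks -/
def colET : BT ℕ := (BT.node 8 (BT.node 4 (BT.node 2 (BT.node 1 (BT.node 0 (BT.leaf cE0) (BT.leaf cE1)) (BT.leaf cE2)) (BT.node 3 (BT.leaf cE3) (BT.leaf cE4))) (BT.node 6 (BT.node 5 (BT.leaf cE5) (BT.leaf cE6)) (BT.node 7 (BT.leaf cE7) (BT.leaf cE8)))) (BT.node 12 (BT.node 10 (BT.node 9 (BT.leaf cE9) (BT.leaf cE10)) (BT.node 11 (BT.leaf cE11) (BT.leaf cE12))) (BT.node 14 (BT.node 13 (BT.leaf cE13) (BT.leaf cE14)) (BT.node 15 (BT.leaf cE15) (BT.leaf cE16)))))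
/-- justification chunks -/
def colJT : BT ℕ := (BT.node 8 (BT.node 4 (BT.node 2 (BT.node 1 (BT.node 0 (BT.leaf cJ0) (BT.leaf cJ1)) (BT.leaf cJ2)) (BT.node 3 (BT.leaf cJ3) (BT.leaf cJ4))) (BT.node 6 (BT.node 5 (BT.leaf cJ5) (BT.leaf cJ6)) (BT.node 7 (BT.leaf cJ7) (BT.leaf cJ8)))) (BT.node 12 (BT.node 10 (BT.node 9 (BT.leaf cJ9) (BT.leaf cJ10)) (BT.node 11 (BT.leaf cJ11) (BT.leaf cJ12))) (BT.node 14 (BT.node 13 (BT.leaf cJ13) (BT.leaf cJ14)) (BT.node 15 (BT.leaf cJ15) (BT.leaf cJ16)))))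
/-- parent chunks -/
def parCT : BT ℕ := (BT.leaf cP0)
/-- the certificate -/
def data : Data where
  k := 16
  N := 240
  W := 20
  MW := 1048576
  B := 256
  CH := 512
  NCH := 1
  colE := colET
  JW := 64
  MJ := 18446744073709551616
  A := 1048576
  colJ := colJT
  PW := 17
  MP := 131072
  parC := parCT
  inv := (BT.node 8 (BT.node 4 (BT.node 2 (BT.node 1 (BT.node 0 (BT.leaf 1) (BT.leaf 0)) (BT.leaf 3)) (BT.node 3 (BT.leaf 2) (BT.leaf 5))) (BT.node 6 (BT.node 5 (BT.leaf 4) (BT.leaf 7)) (BT.node 7 (BT.leaf 6) (BT.leaf 9)))) (BT.node 12 (BT.node 10 (BT.node 9 (BT.leaf 8) (BT.leaf 11)) (BT.node 11 (BT.leaf 10) (BT.leaf 13))) (BT.node 14 (BT.node 13 (BT.leaf 12) (BT.leaf 15)) (BT.node 15 (BT.leaf 14) (BT.leaf 16)))))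
  rel := relT
  sub := subT
  fuel := 64

end Cfsg.Agent.Lib.Helper29.TCF23E8Data
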