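import Cfsg.Agent.Lib.Helper28.TC2Upper
import Cfsg.Agent.Lib.Helper29.TCTitsGDataC0
set_option autoImplicit false
set_option maxRecDepth 100000

namespace Cfsg.Agent.Lib.Helper29.TCTitsGData
open Cfsg.Agent.Lib.Helper28.TC2Upper

/-- relators -/
def relT : BT (ℕ × List ℕ × List ℕ) := (BT.node 5 (BT.node 2 (BT.node 1 (BT.node 0 (BT.leaf (3, [0, 0, 0], [1, 1, 1])) (BT.leaf (3, [2, 2, 2], [3, 3, 3]))) (BT.leaf (8, [3, 0, 3, 0, 3, 0, 3, 0], [1, 2, 1, 2, 1, 2, 1, 2]))) (BT.node 4 (BT.node 3 (BT.leaf (16, [2, 0, 2, 0, 2, 0, 2, 0, 2, 0, 2, 0, 2, 0, 2, 0], [1, 3, 1, 3, 1, 3, 1, 3, 1, 3, 1, 3, 1, 3, 1, 3])) (BT.leaf (24, [2, 1, 3, 0, 2, 1, 2, 0, 2, 1, 3, 0, 2, 1, 2, 0, 2, 1, 3, 0, 2, 1, 2, 0], [1, 3, 0, 3, 1, 2, 0, 3, 1, 3, 0, 3, 1, 2, 0, 3, 1, 3, 0, 3, 1, 2, 0, 3]))) (BT.leaf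 (78, [3, 0, 2, 0, 2, 0, 3, 0, 2, 0, 2, 0, 3, 0, 2, 0, 2, 0, 3, 0, 2, 0, 2, 0, 3, 0, 2, 0, 2, 0, 3, 0, 2, 0, 2, 0, 3, 0, 2, 0, 2, 0, 3, 0, 2, 0, 2, 0, 3, 0, 2, 0, 2, 0, 3, 0, 2, 0, 2, 0, 3, 0, 2, 0, 2, 0, 3, 0, 2, 0, 2, 0, 3, 0, 2, 0, 2, 0], [1, 3, 1, 3, 1, 2, 1, 3, 1, 3, 1, 2, 1, 3, 1, 3, 1, 2, 1, 3, 1, 3, 1, 2, 1, 3, 1, 3, 1, 2, 1, 3, 1, 3, 1, 2, 1, 3, 1, 3, 1, 2, 1, 3, 1, 3, 1, 2, 1, 3, 1, 3, 1, 2, 1, 3, 1, 3, 1, 2, 1, 3, 1, 3, 1, 2, 1, 3, 1, 3, 1, 2, 1, 3, 1, 3, 1, 2])))) (BT.node 8 (BT.node 7 (BT.node 6 (BT.leaf (2, [4, 4], [5, 5])) (BT.leaf (26, [2, 4, 2, 4, 2, 4, 2, 4, 2, 4, 2, 4, 2, 4, 2, 4, 2, 4, 2, 4, 2, 4, 2, 4, 2, 4], [5, 3, 5, 3, 5, 3, 5, 3, 5, 3, 5, 3, 5, 3, 5, 3, 5, 3, 5, 3, 5, 3, 5, 3, 5, 3]))) (BT.leaf (20, [2, 4, 3, 5, 2, 4, 3, 5, 2, 4, 3, 5, 2, 4,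 3, 5, 2, 4, 3, 5], [4, 2, 5, 3, 4, 2, 5, 3, 4, 2, 5, 3, 4, 2, 5, 3, 4, 2, 5, 3]))) (BT.node 10 (BT.node 9 (BT.leaf (32, [2, 4, 2, 4, 3, 5, 3, 5, 2, 4, 2, 4, 3, 5, 3, 5, 2, 4, 2, 4, 3, 5, 3, 5, 2, 4, 2, 4, 3, 5, 3, 5], [4, 2, 4, 2, 5, 3, 5, 3, 4, 2, 4, 2, 5, 3, 5, 3, 4, 2, 4, 2, 5, 3, 5, 3, 4, 2, 4, 2, 5, 3, 5, 3])) (BT.leaf (60, [3, 4, 2, 4, 2, 4, 2, 4, 2, 4, 3, 4, 2, 4, 2, 4, 2, 4, 2, 4, 3, 4, 2, 4, 2, 4, 2, 4, 2, 4, 3, 4, 2, 4, 2, 4, 2, 4, 2, 4, 3, 4, 2, 4, 2, 4, 2, 4, 2, 4, 3, 4, 2, 4, 2, 4, 2, 4, 2, 4], [5, 3, 5, 3, 5, 3, 5, 3, 5, 2, 5, 3, 5, 3, 5, 3, 5, 3, 5, 2, 5, 3, 5, 3, 5, 3, 5, 3, 5, 2, 5, 3, 5, 3, 5, 3, 5, 3, 5, 2, 5, 3, 5, 3, 5, 3, 5, 3, 5, 2, 5, 3, 5, 3, 5, 3, 5, 3, 5, 2]))) (BT.leaf (8, [4, 3, 4, 2, 4, 2, 4, 1], [0, 5, 3, 5, 3, 5, 2, 5])))))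
/-- subgroup generators -/
def subT : BT (ℕ × List ℕ × List ℕ) := (BT.node 0 (BT.leaf (1, [0], [1])) (BT.leaf (1, [2], [3])))
/-- fact chunks -/
def colET : BT ℕ := (BT.node 31 (BT.node 15 (BT.node 7 (BT.node 3 (BT.node 1 (BT.node 0 (BT.leaf cE0) (BT.leaf cE1)) (BT.node 2 (BT.leaf cE2) (BT.leaf cE3))) (BT.node 5 (BT.node 4 (BT.leaf cE4) (BT.leaf cE5)) (BT.node 6 (BT.leaf cE6) (BT.leaf cE7)))) (BT.node 11 (BT.node 9 (BT.node 8 (BT.leaf cE8) (BT.leaf cE9)) (BT.node 10 (BT.leaf cE10) (BT.leaf cE11))) (BT.node 13 (BT.node 12 (BT.leaf cE12) (BT.leaf cE13)) (BT.node 14 (BT.leaf cE14) (BT.leaf cE15))))) (BT.node 23 (BT.node 19 (BT.node 17 (BT.node 16 (BT.leaf cE16) (BT.leaf cE17)) (BT.node 18 (BT.leaf cE18) (BT.leaf cE19))) (BT.node 21 (BT.node 20 (BT.leaf cE20) (BT.leaf cE21))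 (BT.node 22 (BT.leaf cE22) (BT.leaf cE23)))) (BT.node 27 (BT.node 25 (BT.node 24 (BT.leaf cE24) (BT.leaf cE25)) (BT.node 26 (BT.leaf cE26) (BT.leaf cE27))) (BT.node 29 (BT.node 28 (BT.leaf cE28) (BT.leaf cE29)) (BT.node 30 (BT.leaf cE30) (BT.leaf cE31)))))) (BT.node 47 (BT.node 39 (BT.node 35 (BT.node 33 (BT.node 32 (BT.leaf cE32) (BT.leaf cE33)) (BT.node 34 (BT.leaf cE34) (BT.leaf cE35))) (BT.node 37 (BT.node 36 (BT.leaf cE36) (BT.leaf cE37)) (BT.node 38 (BT.leaf cE38) (BT.leaf cE39)))) (BT.node 43 (BT.node 41 (BT.node 40 (BT.leaf cE40) (BT.leaf cE41)) (BT.node 42 (BT.leaf cE42) (BT.leaf cE43))) (BT.node 45 (BT.node 44 (BT.leaf cE44) (BT.leaf cE45)) (BT.node 46 (BT.leaf cE46) (BT.leaf cE47))))) (BT.node 55 (BT.node 51 (BT.node 49 (BT.node 48 (BT.leaf cE48) (BT.leaf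 cE49)) (BT.node 50 (BT.leaf cE50) (BT.leaf cE51))) (BT.node 53 (BT.node 52 (BT.leaf cE52) (BT.leaf cE53)) (BT.node 54 (BT.leaf cE54) (BT.leaf cE55)))) (BT.node 59 (BT.node 57 (BT.node 56 (BT.leaf cE56) (BT.leaf cE57)) (BT.node 58 (BT.leaf cE58) (BT.leaf cE59))) (BT.node 61 (BT.node 60 (BT.leaf cE60) (BT.leaf cE61)) (BT.leaf cE62))))))
/-- justification chunks -/
def colJT : BT ℕ := (BT.node 31 (BT.node 15 (BT.node 7 (BT.node 3 (BT.node 1 (BT.node 0 (BT.leaf cJ0) (BT.leaf cJ1)) (BT.node 2 (BT.leaf cJ2) (BT.leaf cJ3))) (BT.node 5 (BT.node 4 (BT.leaf cJ4) (BT.leaf cJ5)) (BT.node 6 (BT.leaf cJ6) (BT.leaf cJ7)))) (BT.node 11 (BT.node 9 (BT.node 8 (BT.leaf cJ8) (BT.leaf cJ9)) (BT.node 10 (BT.leaf cJ10) (BT.leaf cJ11))) (BT.node 13 (BT.node 12 (BT.leaf cJ12) (BT.leaf cJ13))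 (BT.node 14 (BT.leaf cJ14) (BT.leaf cJ15))))) (BT.node 23 (BT.node 19 (BT.node 17 (BT.node 16 (BT.leaf cJ16) (BT.leaf cJ17)) (BT.node 18 (BT.leaf cJ18) (BT.leaf cJ19))) (BT.node 21 (BT.node 20 (BT.leaf cJ20) (BT.leaf cJ21)) (BT.node 22 (BT.leaf cJ22) (BT.leaf cJ23)))) (BT.node 27 (BT.node 25 (BT.node 24 (BT.leaf cJ24) (BT.leaf cJ25)) (BT.node 26 (BT.leaf cJ26) (BT.leaf cJ27))) (BT.node 29 (BT.node 28 (BT.leaf cJ28) (BT.leaf cJ29)) (BT.node 30 (BT.leaf cJ30) (BT.leaf cJ31)))))) (BT.node 47 (BT.node 39 (BT.node 35 (BT.node 33 (BT.node 32 (BT.leaf cJ32) (BT.leaf cJ33)) (BT.node 34 (BT.leaf cJ34) (BT.leaf cJ35))) (BT.node 37 (BT.node 36 (BT.leaf cJ36) (BT.leaf cJ37)) (BT.node 38 (BT.leaf cJ38) (BT.leaf cJ39)))) (BT.node 43 (BT.node 41 (BT.node 40 (BT.leaf cJ40) (BT.leaf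 cJ41)) (BT.node 42 (BT.leaf cJ42) (BT.leaf cJ43))) (BT.node 45 (BT.node 44 (BT.leaf cJ44) (BT.leaf cJ45)) (BT.node 46 (BT.leaf cJ46) (BT.leaf cJ47))))) (BT.node 55 (BT.node 51 (BT.node 49 (BT.node 48 (BT.leaf cJ48) (BT.leaf cJ49)) (BT.node 50 (BT.leaf cJ50) (BT.leaf cJ51))) (BT.node 53 (BT.node 52 (BT.leaf cJ52) (BT.leaf cJ53)) (BT.node 54 (BT.leaf cJ54) (BT.leaf cJ55)))) (BT.node 59 (BT.node 57 (BT.node 56 (BT.leaf cJ56) (BT.leaf cJ57)) (BT.node 58 (BT.leaf cJ58) (BT.leaf cJ59))) (BT.node 61 (BT.node 60 (BT.leaf cJ60) (BT.leaf cJ61)) (BT.leaf cJ62))))))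
/-- parent chunks -/
def parCT : BT ℕ := (BT.node 4 (BT.node 2 (BT.node 1 (BT.node 0 (BT.leaf cP0) (BT.leaf cP1)) (BT.leaf cP2)) (BT.node 3 (BT.leaf cP3) (BT.leaf cP4))) (BT.node 6 (BT.node 5 (BT.leaf cP5) (BT.leaf cP6)) (BT.node 7 (BT.leaf cP7) (BT.leaf cP8))))
/-- the certificate -/
def data : Data where
  k := 6
  N := 4207
  W := 28
  MW := 268435456
  B := 8192
  CH := 512
  NCH := 9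
  colE := colET
  JW := 64
  MJ := 18446744073709551616
  A := 1048576
  colJ := colJT
  PW := 22
  MP := 4194304
  parC := parCT
  inv := (BT.node 3 (BT.node 1 (BT.node 0 (BT.leaf 1) (BT.leaf 0)) (BT.node 2 (BT.leaf 3) (BT.leaf 2))) (BT.node 5 (BT.node 4 (BT.leaf 5) (BT.leaf 4)) (BT.leaf 6)))
  rel := relT
  sub := subT
  fuel := 64

end Cfsg.Agent.Lib.Helper29.TCTitsGData
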