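import Mathlib
import Cfsg.Prelude.Def_Blocks
import Cfsg.Prelude.Def_Local
import Cfsg.Agent.Lib.Lead.CharMain
import Cfsg.Agent.Lib.Helper2.GlaubPRel
import Cfsg.Agent.Lib.Helper2.GlaubSolv
import Cfsg.Agent.Lib.Helper2.GlaubClass
import Cfsg.Agent.Lib.Helper22.Frobenius

/-!
# S4885 / S4886 leaf (NV4) (helper29): Glauberman counting.  If every `A`-invariant irreducible
character of the normal `{p,q}'`-subgroup `R` is `Q`-invariant (`A` a `p`-group normalizing the
`q`-group `Q`), then `C_R(A)` centralizes `Q`.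
-/

set_option autoImplicit false

namespace Cfsg.Agent.Lib.Helper29.TP

open Cfsg Cfsg.Agent.CharLib Cfsg.Agent.Lib.Helper2.Glaub
open scoped Pointwise

universe u

variable {Γ : Type u} [Group Γ] [Finite Γ]

/-- `Q ⊔ A` modulo `Q` is a `p`-group when the `p`-group `A` normalizes `Q`. -/
theorem sup_facts (p q : ℕ) [Fact p.Prime] [Fact q.Prime] (A Q : Subgroup Γ) (hA : IsPGroup p A)
    (hQ : IsPGroup q Q) (hAQ : A ≤ Subgroup.normalizer (Q : Set Γ)) :
    Group.IsSolvable ↥(Q ⊔ A) ∧ ∃ k m : ℕ, Nat.card ↥(Q ⊔ A) = p ^ k * q ^ m := by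
  set S : Subgroup Γ := Q ⊔ A with hS
  have hSN : S ≤ Subgroup.normalizer (Q : Set Γ) := sup_le Subgroup.le_normalizer hAQ
  haveI hNn : (Q.subgroupOf S).Normal := Subgroup.normal_subgroupOf_of_le_normalizer hSN
  let f : A →* S ⧸ Q.subgroupOf S :=
    (QuotientGroup.mk' (Q.subgroupOf S)).comp (Subgroup.inclusion (le_sup_right : A ≤ S))
  have hf : Function.Surjective f := by
    intro x
    induction x using QuotientGroup.induction_on with
    | H s =>
      have hs : (s : Γ) ∈ ((Q ⊔ A : Subgroup Γ) : Set Γ) := s.2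
      rw [Subgroup.coe_mul_of_right_le_normalizer_left Q A hAQ, Set.mem_mul] at hs
      obtain ⟨x, hx, a, ha, hxa⟩ := hs
      refine ⟨⟨a, ha⟩, ?_⟩
      change (QuotientGroup.mk' (Q.subgroupOf S)) (Subgroup.inclusion (le_sup_right : A ≤ S) ⟨a, ha⟩)
        = QuotientGroup.mk' (Q.subgroupOf S) s
      rw [QuotientGroup.mk'_apply, QuotientGroup.mk'_apply, QuotientGroup.eq]
      rw [Subgroup.mem_subgroupOf]
      have : (((Subgroup.inclusion (le_sup_right : A ≤ S) ⟨a, ha⟩)⁻¹ * s : S) : Γ) = a⁻¹ * (x * a) := by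
        rw [hxa]
        rfl
      rw [this]
      have h1 : a⁻¹ ∈ Subgroup.normalizer (Q : Set Γ) :=
        (Subgroup.normalizer (Q : Set Γ)).inv_mem (hAQ ha)
      have h2 := (Subgroup.mem_normalizer_iff.mp h1 x).mp hx
      simpa [mul_assoc] using h2
  have hquot : IsPGroup p (S ⧸ Q.subgroupOf S) := IsPGroup.of_surjective hA f hf
  have hN : IsPGroup q (Q.subgroupOf S) := hQ.comap_subtype
  haveI : Group.IsNilpotent (S ⧸ Q.subgroupOf S) := hquot.isNilpotent
  haveI : Group.IsNilpotent (Q.subgroupOf S) := hN.isNilpotent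
  refine ⟨?_, ?_⟩
  · apply Group.isSolvable_of_ker_le_range (Q.subgroupOf S).subtype (QuotientGroup.mk' (Q.subgroupOf S))
    rw [QuotientGroup.ker_mk', Subgroup.range_subtype]
  · obtain ⟨k, hk⟩ := IsPGroup.iff_card.mp hquot
    obtain ⟨m, hm⟩ := IsPGroup.iff_card.mp hN
    refine ⟨k, m, ?_⟩
    rw [Subgroup.card_eq_card_quotient_mul_card_subgroup (Q.subgroupOf S), hk, hm]

omit [Finite Γ] in
theorem classInv_mono {G S T : Subgroup Γ} (hTS : T ≤ S) {K : ConjClasses G}
    (h : ClassInv G S K) : ClassInv G T K :=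
  fun s hs g g' hg' hg => h s (hTS hs) g g' hg' hg

/-- (NV4) Glauberman counting. -/
theorem inf_centralizer_le_centralizer (p q : ℕ) [Fact p.Prime] [Fact q.Prime] (R A Q : Subgroup Γ)
    [R.Normal] (hRp : (Nat.card R).Coprime p) (hRq : (Nat.card R).Coprime q) (hA : IsPGroup p A)
    (hQ : IsPGroup q Q) (hAQ : A ≤ Subgroup.normalizer (Q : Set Γ))
    (h : ∀ ρ : IrrCharacter R, InvUnder R A (ρ : R → ℂ) → InvUnder R Q (ρ : R → ℂ)) :
    R ⊓ Subgroup.centralizer (A : Set Γ) ≤ Subgroup.centralizer (Q : Set Γ) := by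
  classical
  haveI : Fintype Γ := Fintype.ofFinite Γ
  set S : Subgroup Γ := Q ⊔ A with hS
  obtain ⟨hsolvS, k, m, hcardS⟩ := sup_facts p q A Q hA hQ hAQ
  have hnorm : ∀ T : Subgroup Γ, T ≤ Subgroup.normalizer (R : Set Γ) := by
    intro T
    rw [Subgroup.normalizer_eq_top]
    exact le_top
  have hAS : A ≤ S := le_sup_right
  have hQS : Q ≤ S := le_sup_left
  have hcopS : (Nat.card R).Coprime (Nat.card S) := by
    rw [hcardS]
    exact Nat.Coprime.mul_right (Nat.Coprime.pow_right k hRp) (Nat.Coprime.pow_right m hRq)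
  have hcopA : (Nat.card R).Coprime (Nat.card A) := by
    obtain ⟨a, ha⟩ := IsPGroup.iff_card.mp hA
    rw [ha]
    exact Nat.Coprime.pow_right a hRp
  haveI : Group.IsNilpotent A := hA.isNilpotent
  have hsolvA : Group.IsSolvable A := inferInstance
  set CS : Subgroup Γ := R ⊓ Subgroup.centralizer (S : Set Γ) with hCS
  set CA : Subgroup Γ := R ⊓ Subgroup.centralizer (A : Set Γ) with hCA
  have hCSR : CS ≤ R := inf_le_left
  have hCAR : CA ≤ R := inf_le_left
  -- invariant characters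
  have hinv_iff : ∀ χ : IrrCharacter R, InvUnder R S (χ : R → ℂ) ↔ InvUnder R A (χ : R → ℂ) := by
    intro χ
    constructor
    · intro h1 t ht
      exact h1 t (hAS ht)
    · intro h1
      rw [invUnder_iff_le_invSub (hnorm S)]
      apply sup_le
      · exact (invUnder_iff_le_invSub (hnorm Q) _).mp (h χ h1)
      · exact (invUnder_iff_le_invSub (hnorm A) _).mp h1
  have hirr : Nat.card (IrrCharacter CS) = Nat.card (IrrCharacter CA) := by
    rw [← card_inv_irr_solv R S CS (hnorm S) hcopS hsolvS rfl,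
      ← card_inv_irr_solv R A CA (hnorm A) hcopA hsolvA rfl]
    exact Nat.card_congr (Equiv.subtypeEquivRight hinv_iff)
  have hcls : Nat.card {K : ConjClasses R // ClassInv R S K} =
      Nat.card {K : ConjClasses R // ClassInv R A K} := by
    rw [← card_classInv (C := CS) rfl hCSR (hnorm S) hcopS (Or.inl hsolvS),
      ← card_classInv (C := CA) rfl hCAR (hnorm A) hcopA (Or.inl hsolvA),
      ← card_irrCharacter, ← card_irrCharacter, hirr]
  -- every `A`-invariant class is `S`-invariant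
  have hAtoS : ∀ K : ConjClasses R, ClassInv R A K → ClassInv R S K := by
    let f : {K : ConjClasses R // ClassInv R S K} → {K : ConjClasses R // ClassInv R A K} :=
      fun K => ⟨K.1, classInv_mono hAS K.2⟩
    have hfinj : Function.Injective f := by
      intro K₁ K₂ h12
      apply Subtype.ext
      have h13 := congrArg Subtype.val h12
      exact h13
    have hbij := hfinj.bijective_of_nat_card_le (le_of_eq hcls.symm)
    intro K hK
    obtain ⟨K', hK'⟩ := hbij.2 ⟨K, hK⟩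
    have : K'.1 = K := congrArg Subtype.val hK'
    rw [← this]
    exact K'.2
  -- the conjugates of `C_R(S)` cover `C_R(A)`
  have htop : CS.subgroupOf CA = ⊤ := by
    by_contra hne
    obtain ⟨x, -, hx⟩ := Cfsg.Agent.Lib.Helper22.exists_ne_one_forall_conj_not_mem _ hne
    have hxR : (x : Γ) ∈ R := hCAR x.2
    have hxA : (x : Γ) ∈ Subgroup.centralizer (A : Set Γ) := x.2.2
    have hKA : ClassInv R A (ConjClasses.mk (⟨(x : Γ), hxR⟩ : R)) :=
      classInv_map (C := CA) rfl hCAR (hnorm A) (ConjClasses.mk x)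
    have hKS := hAtoS _ hKA
    have hinv : ∀ s ∈ S, ∃ k ∈ R, s * (x : Γ) * s⁻¹ = k * (x : Γ) * k⁻¹ := by
      intro s hs
      have hsx : s * (x : Γ) * s⁻¹ ∈ R := (inferInstance : R.Normal).conj_mem _ hxR s
      have h1 := hKS s hs ⟨(x : Γ), hxR⟩ ⟨_, hsx⟩ rfl rfl
      rw [ConjClasses.mk_eq_mk_iff_isConj, isConj_comm, isConj_iff] at h1
      obtain ⟨c, hc⟩ := h1
      refine ⟨c, c.2, ?_⟩
      have := congrArg Subtype.val hc
      simpa using this.symm
    obtain ⟨k, hk, hkc⟩ := exists_conj_mem_centralizer (hnorm S) hcopS (Or.inl hsolvS) (x : Γ) hinv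
    have hkcA : k * (x : Γ) * k⁻¹ ∈ Subgroup.centralizer (A : Set Γ) :=
      Subgroup.centralizer_le (by exact_mod_cast hAS) hkc
    obtain ⟨c₀, hc₀, hcc⟩ :=
      exists_conj_of_conj (hnorm A) hcopA (Or.inl hsolvA) (x : Γ) hxA k hk hkcA
    apply hx (⟨c₀, hc₀⟩ : CA)⁻¹
    rw [Subgroup.mem_subgroupOf]
    have : ((((⟨c₀, hc₀⟩ : CA)⁻¹)⁻¹ * x * (⟨c₀, hc₀⟩ : CA)⁻¹ : CA) : Γ) = c₀ * (x : Γ) * c₀⁻¹ := by
      simp
    rw [this, hcc]
    exact ⟨(inferInstance : R.Normal).conj_mem _ hxR k, hkc⟩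
  intro c hc
  have h1 : (⟨c, hc⟩ : CA) ∈ CS.subgroupOf CA := htop ▸ Subgroup.mem_top _
  rw [Subgroup.mem_subgroupOf] at h1
  exact Subgroup.centralizer_le (by exact_mod_cast hQS) h1.2

end Cfsg.Agent.Lib.Helper29.TP
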