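import Mathlib
import Cfsg.Agent.Lib.Helper25.TWDefs
import Cfsg.Agent.Lib.Helper15.TWFRAT
import Cfsg.Agent.Lib.Helper14.TW676
import Cfsg.Agent.Lib.Helper15.TWPAR

/-!
# Market "TW" (S3613), leaf TW5T (planner helper25).
The four-point stabilizers are transitive on the other points.
-/

set_option autoImplicit false

namespace Cfsg.Agent.Lib.Helper29.TW5T

open MulAction Cfsg.Agent.Lib.Helper25.TW

/-- an embedding of `Fin 3` from three distinct points -/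
def emb3 {X : Type*} (c d y : X) (hcd : c ≠ d) (hcy : c ≠ y) (hdy : d ≠ y) : Fin 3 ↪ X where
  toFun := ![c, d, y]
  inj' := by
    intro i j h
    fin_cases i <;> fin_cases j <;> simp_all

/-- **TW5T**.  The four-point stabilizers are transitive on the other points.  (Math: header.
`K = ↥(TW.Hhat G a b)` on `X = ↥(TW.Off G a b)`: faithful by `hnoswap`, transitive by `htr`,
`Fintype.card X = q`, insoluble since `stabilizer G a ⊓ stabilizer G b ≤ Hhat G a b`,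
`K₀ = (stabilizer G a ⊓ stabilizer G b).subgroupOf (Hhat G a b)` of index 2 by `hswap`;
TWFRAT + TW676 give 3-transitivity of `K` on `X`, then TWPAR at `c`, `d`.) -/
theorem TW5T {G Ω : Type*} [Group G] [Finite G] [MulAction G Ω] [FaithfulSMul G Ω] [Finite Ω]
    (q : ℕ) (hq : q.Prime) (hq2 : q ≠ 2) (hΩ : Nat.card Ω = q + 2) (a b : Ω) (hab : a ≠ b)
    (hswap : ∃ s : G, s • a = b ∧ s • b = a)
    (hnoswap : ¬ ∃ τ : G, τ • a = b ∧ τ • b = a ∧ ∀ x : Ω, x ≠ a → x ≠ b → τ • x = x)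
    (htr : TransOff2 G a b)
    (hins : ¬ Group.IsSolvable ↥(stabilizer G a ⊓ stabilizer G b))
    (c d : Ω) (hca : c ≠ a) (hcb : c ≠ b) (hda : d ≠ a) (hdb : d ≠ b) (hcd : c ≠ d) :
    TransOff4 G a b c d := by
  classical
  haveI : Fact q.Prime := ⟨hq⟩
  -- faithful
  haveI hfaith : FaithfulSMul ↥(Hhat G a b) ↥(Off G a b) := by
    refine ⟨fun {g₁ g₂} h => ?_⟩
    apply Subtype.ext
    -- k = g₁⁻¹ g₂ fixes every point off a, b
    have hk : ∀ x : Ω, x ≠ a → x ≠ b → ((g₁ : G)⁻¹ * (g₂ : G)) • x = x := by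
      intro x hxa hxb
      have := congrArg (fun t : ↥(Off G a b) => (t : Ω)) (h ⟨x, ⟨hxa, hxb⟩⟩)
      simp only [Off_smul_coe] at this
      rw [mul_smul, inv_smul_eq_iff]
      exact this.symm
    have hkmem : ((g₁ : G)⁻¹ * (g₂ : G)) ∈ Hhat G a b :=
      (Hhat G a b).mul_mem ((Hhat G a b).inv_mem g₁.2) g₂.2
    rcases mem_Hhat.1 hkmem with ⟨hka, hkb⟩ | ⟨hka, hkb⟩
    · have h1 : ((g₁ : G)⁻¹ * (g₂ : G)) = 1 := by
        apply FaithfulSMul.eq_of_smul_eq_smul (α := Ω)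
        intro x
        rw [one_smul]
        by_cases hxa : x = a
        · rw [hxa]; exact hka
        · by_cases hxb : x = b
          · rw [hxb]; exact hkb
          · exact hk x hxa hxb
      exact (inv_mul_eq_one.1 h1)
    · exact absurd ⟨_, hka, hkb, hk⟩ hnoswap
  -- transitive
  have htrX : MulAction.IsPretransitive ↥(Hhat G a b) ↥(Off G a b) := by
    refine ⟨fun x y => ?_⟩
    obtain ⟨g, hga, hgb, hgxy⟩ := htr x y x.2.1 x.2.2 y.2.1 y.2.2
    refine ⟨⟨g, Or.inl ⟨hga, hgb⟩⟩, ?_⟩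
    apply Subtype.ext
    exact hgxy
  -- cardinality
  have hcardX : Nat.card ↥(Off G a b) = q := by
    have h1 : Nat.card ↥(Off G a b) = ({x | x ≠ a ∧ x ≠ b} : Set Ω).ncard := rfl
    have h2' : ({x | x ≠ a ∧ x ≠ b} : Set Ω) = ({a, b} : Set Ω)ᶜ := by
      ext x; simp [not_or]
    rw [h1, h2', Set.ncard_compl, Set.ncard_pair hab, hΩ]
    omega
  haveI : Finite ↥(Off G a b) := Subtype.finite
  haveI : Fintype ↥(Off G a b) := Fintype.ofFinite _
  have hcardX' : Fintype.card ↥(Off G a b) = q := by rw [← Nat.card_eq_fintype_card, hcardX]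
  -- insoluble
  have hinsK : ¬ Group.IsSolvable ↥(Hhat G a b) := by
    intro hsol
    apply hins
    exact Group.isSolvable_of_isSolvable_injective
      (f := Subgroup.inclusion (inf_stabilizer_le_Hhat (G := G) a b))
      (Subgroup.inclusion_injective _)
  -- the subgroup of index 2
  have hidx : ((stabilizer G a ⊓ stabilizer G b).subgroupOf (Hhat G a b)).index = 2 := by
    obtain ⟨s, hsa, hsb⟩ := hswap
    rw [Subgroup.index_eq_two_iff]
    refine ⟨⟨s, Or.inr ⟨hsa, hsb⟩⟩, ?_⟩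
    intro k
    have hmem : ∀ g : ↥(Hhat G a b),
        g ∈ (stabilizer G a ⊓ stabilizer G b).subgroupOf (Hhat G a b) ↔
          ((g : G) • a = a ∧ (g : G) • b = b) := by
      intro g
      rw [Subgroup.mem_subgroupOf, Subgroup.mem_inf, mem_stabilizer_iff, mem_stabilizer_iff]
    rw [hmem, hmem]
    have hcoe : ((k * ⟨s, Or.inr ⟨hsa, hsb⟩⟩ : ↥(Hhat G a b)) : G) = (k : G) * s := rfl
    rw [hcoe, mul_smul, mul_smul, hsa, hsb]
    rcases mem_Hhat.1 k.2 with ⟨hka, hkb⟩ | ⟨hka, hkb⟩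
    · right
      refine ⟨⟨hka, hkb⟩, ?_⟩
      rintro ⟨h1, -⟩
      rw [hkb] at h1
      exact hab h1.symm
    · left
      refine ⟨⟨hkb, hka⟩, ?_⟩
      rintro ⟨h1, -⟩
      rw [hka] at h1
      exact hab h1.symm
  -- 3-transitivity
  obtain ⟨P⟩ := (inferInstance : Nonempty (Sylow q ↥(Hhat G a b)))
  have heven := Cfsg.Agent.Lib.Helper15.TWFRAT.TWFRAT _ hidx hq2 P
  have h3t : MulAction.IsMultiplyPretransitive ↥(Hhat G a b) ↥(Off G a b) 3 :=
    Cfsg.Agent.Lib.Helper14.TW676.TW676 hcardX' htrX hinsK P heven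
  -- the stabilizer of c, d in K is transitive on the rest
  have hcdX : (⟨c, ⟨hca, hcb⟩⟩ : ↥(Off G a b)) ≠ ⟨d, ⟨hda, hdb⟩⟩ :=
    fun h => hcd (congrArg Subtype.val h)
  have htr3 : ∀ y y' : ↥(Off G a b), y ≠ ⟨c, ⟨hca, hcb⟩⟩ → y ≠ ⟨d, ⟨hda, hdb⟩⟩ →
      y' ≠ ⟨c, ⟨hca, hcb⟩⟩ → y' ≠ ⟨d, ⟨hda, hdb⟩⟩ →
      ∃ k : ↥(Hhat G a b), k • (⟨c, ⟨hca, hcb⟩⟩ : ↥(Off G a b)) = ⟨c, ⟨hca, hcb⟩⟩ ∧
        k • (⟨d, ⟨hda, hdb⟩⟩ : ↥(Off G a b)) = ⟨d, ⟨hda, hdb⟩⟩ ∧ k • y = y' := by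
    intro y y' hyc hyd hy'c hy'd
    obtain ⟨k, hk⟩ := h3t.exists_smul_eq (emb3 _ _ y hcdX (Ne.symm hyc) (Ne.symm hyd))
      (emb3 _ _ y' hcdX (Ne.symm hy'c) (Ne.symm hy'd))
    refine ⟨k, ?_, ?_, ?_⟩
    · have := congrArg (fun f : Fin 3 ↪ ↥(Off G a b) => f 0) hk
      exact this
    · have := congrArg (fun f : Fin 3 ↪ ↥(Off G a b) => f 1) hk
      exact this
    · have := congrArg (fun f : Fin 3 ↪ ↥(Off G a b) => f 2) hk
      exact this
  have hodd : Odd (Nat.card ↥(Off G a b)) := by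
    rw [hcardX]
    exact hq.odd_of_ne_two hq2
  have hpar := Cfsg.Agent.Lib.Helper15.TWPAR.TWPAR _ hidx _ _ hcdX hodd htr3
  -- conclude
  intro y y' hya hyb hyc hyd hy'a hy'b hy'c hy'd
  obtain ⟨k, hk0, hkc, hkd, hky⟩ := hpar ⟨y, ⟨hya, hyb⟩⟩ ⟨y', ⟨hy'a, hy'b⟩⟩
    (fun h => hyc (congrArg Subtype.val h)) (fun h => hyd (congrArg Subtype.val h))
    (fun h => hy'c (congrArg Subtype.val h)) (fun h => hy'd (congrArg Subtype.val h))
  rw [Subgroup.mem_subgroupOf, Subgroup.mem_inf, mem_stabilizer_iff, mem_stabilizer_iff] at hk0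
  exact ⟨(k : G), hk0.1, hk0.2, congrArg Subtype.val hkc, congrArg Subtype.val hkd,
    congrArg Subtype.val hky⟩

end Cfsg.Agent.Lib.Helper29.TW5T
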