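import Mathlib
import Cfsg.Agent.Lib.Helper29.TWPairE

set_option autoImplicit false

/-!
Helper29 library: a consequence of Thompson–Wielandt (Knapp-type statement).

For a primitive group `G`, a point `a` and a suborbit `Δ = b^{G_a}` of length `d ≥ 2`: if `G_{ab}`
induces on `Δ` a group with trivial Fitting subgroup then `F(G_{ab}) = 1` and `|G_a|` divides
`d! ((d-1)!)^d`.
-/

namespace Cfsg.Agent.Lib.Helper29.TWPair

open Cfsg MulAction Cfsg.Agent.Lib.Helper16

variable {G : Type*} [Group G]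

/-- **Normalizer condition** for two `p`-subgroups: if `R` normalizes `Q` and
`Q ∩ N(R) ≤ R` then `Q ≤ R`. -/
theorem le_of_inf_normalizer_le [Finite G] {p : ℕ} [Fact p.Prime] {R Q : Subgroup G}
    (hR : IsPGroup p ↥R) (hQ : IsPGroup p ↥Q) (hRQ : R ≤ Subgroup.normalizer (Q : Set G))
    (h : Q ⊓ Subgroup.normalizer (R : Set G) ≤ R) : Q ≤ R := by
  have hPp : IsPGroup p ↥(Q ⊔ R) := IsPGroup.to_sup_of_normal_left' hQ hR hRQ
  by_contra hnle
  have : Group.IsNilpotent ↥(Q ⊔ R) := hPp.isNilpotent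
  have hlt : R.subgroupOf (Q ⊔ R) < ⊤ := by
    rw [lt_top_iff_ne_top]
    intro htop
    apply hnle
    intro q hq
    have hqP : q ∈ Q ⊔ R := (le_sup_left : Q ≤ _) hq
    have : (⟨q, hqP⟩ : ↥(Q ⊔ R)) ∈ R.subgroupOf (Q ⊔ R) := by
      rw [htop]; exact Subgroup.mem_top _
    rw [Subgroup.mem_subgroupOf] at this
    exact this
  have hnc := Group.normalizerCondition_of_isNilpotent (G := ↥(Q ⊔ R)) _ hlt
  obtain ⟨n, hnN, hnH⟩ := SetLike.exists_of_lt hnc
  have hnN' : (n : G) ∈ Subgroup.normalizer ((R : Subgroup G) : Set G) := by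
    apply mem_normalizer_of_map_conj_le
    rintro _ ⟨q, hq, rfl⟩
    have hqP : q ∈ Q ⊔ R := (le_sup_right : R ≤ _) hq
    have h1 : (⟨q, hqP⟩ : ↥(Q ⊔ R)) ∈ R.subgroupOf (Q ⊔ R) := by
      rw [Subgroup.mem_subgroupOf]; exact hq
    have h2 := (Subgroup.mem_normalizer_iff.mp hnN ⟨q, hqP⟩).mp h1
    rw [Subgroup.mem_subgroupOf] at h2
    simpa using h2
  have hn' : (n : G) ∈ ((Q ⊔ R : Subgroup G) : Set G) := n.2
  rw [Subgroup.coe_mul_of_right_le_normalizer_left _ _ hRQ] at hn'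
  obtain ⟨q, hq, t, ht, hqt⟩ := hn'
  have hqN : q ∈ Subgroup.normalizer ((R : Subgroup G) : Set G) := by
    have htN : t ∈ Subgroup.normalizer ((R : Subgroup G) : Set G) := Subgroup.le_normalizer ht
    have := Subgroup.mul_mem _ hnN' (Subgroup.inv_mem _ htN)
    rw [← hqt] at this
    simpa using this
  have hq' : q ∈ R := h ⟨hq, hqN⟩
  apply hnH
  rw [Subgroup.mem_subgroupOf]
  have : (n : G) = q * t := hqt.symm
  rw [this]
  exact R.mul_mem hq' ht

section Pair

variable [Finite G] {p : ℕ} [Fact p.Prime] {A B : Subgroup G}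

/-- if `O_p(A ∩ B) ≤ core_A(A ∩ B)` then `O_p(A ∩ B) = 1`. -/
theorem Pair.pCoreOf_inf_eq_bot (h : Pair A B) (hle : pCoreOf p (A ⊓ B) ≤ coreIn A (A ⊓ B)) :
    pCoreOf p (A ⊓ B) = ⊥ := by
  by_contra hne
  set R := pCoreOf p (A ⊓ B) with hRdef
  set A₁ := coreIn A (A ⊓ B) with hA₁def
  have hA₁D : A₁ ≤ A ⊓ B := coreIn_le_right _ _
  have hRD : R ≤ A ⊓ B := pCoreOf_le _
  have hDR : A ⊓ B ≤ Subgroup.normalizer (R : Set G) := le_normalizer_pCoreOf _
  have hRp : IsPGroup p ↥R := pCoreOf_isPGroup _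
  -- `R = O_p(A₁)`
  have hReq : R = pCoreOf p A₁ := by
    apply le_antisymm
    · exact le_pCoreOf hle (hA₁D.trans hDR) hRp
    · exact pCoreOf_le_pCoreOf_of_normal hA₁D (inf_le_left.trans (le_normalizer_coreIn _ _))
  have hAR : A ≤ Subgroup.normalizer (R : Set G) := by
    rw [hReq]
    exact (le_normalizer_coreIn _ _).trans (normalizer_le_normalizer_pCoreOf _)
  have hNR : Subgroup.normalizer (R : Set G) = A :=
    h.normalizer_eq_left hne (hRD.trans inf_le_left) hAR
  have hRQA : R ≤ pCoreOf p A := le_pCoreOf (hRD.trans inf_le_left) hAR hRp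
  -- `O_p(B) ∩ A ≤ R`
  have hQBR : pCoreOf p B ⊓ A ≤ R := by
    apply le_pCoreOf _ _ ((pCoreOf_isPGroup B).to_le inf_le_left)
    · exact le_inf inf_le_right (inf_le_left.trans (pCoreOf_le B))
    · exact le_normalizer_inf' (inf_le_right.trans (le_normalizer_pCoreOf B))
        (inf_le_left.trans Subgroup.le_normalizer)
  have hQB : pCoreOf p B ≤ R := by
    apply le_of_inf_normalizer_le hRp (pCoreOf_isPGroup B)
      ((hRD.trans inf_le_right).trans (le_normalizer_pCoreOf B))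
    rw [hNR]; exact hQBR
  obtain ⟨g, hg⟩ := h.conj
  have hQBeq : pCoreOf p B = (pCoreOf p A).map (MulAut.conj g).toMonoidHom := by
    rw [hg, pCoreOf_map_conj]
  have heq : pCoreOf p B = pCoreOf p A := by
    apply Subgroup.eq_of_le_of_card_ge (hQB.trans hRQA)
    rw [hQBeq, card_map_conj]
  have hbot : pCoreOf p A = ⊥ := by
    apply h.eq_bot_of_le_normalizer (pCoreOf_le A) (le_normalizer_pCoreOf A)
    rw [← heq]
    exact le_normalizer_pCoreOf B
  apply hne
  exact le_bot_iff.mp (hbot ▸ hRQA)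

end Pair

section Perm

variable {Ω : Type*} [MulAction G Ω]

/-- a normal `p`-subgroup of `G_{ab}` acts trivially on `b^{G_a}` if the group induced by `G_{ab}`
on this orbit has trivial Fitting subgroup. -/
theorem le_coreIn_of_fitting_image_eq_bot [Finite G] {p : ℕ} [Fact p.Prime] (a b : Ω)
    (hF : fittingSubgroup ↥(((stabilizer G b).subgroupOf (stabilizer G a)).map
      (toPermHom (stabilizer G a) (orbit (stabilizer G a) b))) = ⊥)
    {R : Subgroup G} (hRD : R ≤ stabilizer G a ⊓ stabilizer G b)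
    (hDR : stabilizer G a ⊓ stabilizer G b ≤ Subgroup.normalizer (R : Set G))
    (hRp : IsPGroup p ↥R) :
    R ≤ coreIn (stabilizer G a) (stabilizer G a ⊓ stabilizer G b) := by
  set A := stabilizer G a with hA
  set B := stabilizer G b with hB
  set φ := toPermHom A (orbit A b) with hφ
  set I := (B.subgroupOf A).map φ with hI
  have hRA : R ≤ A := hRD.trans inf_le_left
  have hRB : R ≤ B := hRD.trans inf_le_right
  have hR₁I : (R.subgroupOf A).map φ ≤ I := by
    apply Subgroup.map_mono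
    intro x hx
    rw [Subgroup.mem_subgroupOf] at hx ⊢
    exact hRB hx
  -- `I` normalizes the image of `R`
  have hnorm : I ≤ Subgroup.normalizer (((R.subgroupOf A).map φ : Subgroup _) : Set _) := by
    refine le_trans ?_ (Subgroup.le_normalizer_map φ)
    apply Subgroup.map_mono
    intro x hx
    rw [Subgroup.mem_subgroupOf] at hx
    have hxD : (x : G) ∈ A ⊓ B := ⟨x.2, hx⟩
    have hxN := hDR hxD
    rw [Subgroup.mem_normalizer_iff]
    intro y
    rw [Subgroup.mem_subgroupOf, Subgroup.mem_subgroupOf]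
    have := Subgroup.mem_normalizer_iff.mp hxN (y : G)
    simpa using this
  have hn : (((R.subgroupOf A).map φ).subgroupOf I).Normal :=
    (Subgroup.normal_subgroupOf_iff_le_normalizer hR₁I).mpr hnorm
  have hp₂ : IsPGroup p ↥(((R.subgroupOf A).map φ).subgroupOf I) :=
    (hRp.comap_subtype.map φ).comap_subtype
  haveI : Finite ↥I :=
    Finite.of_surjective (fun x : ↥(B.subgroupOf A) =>
      (⟨φ x, Subgroup.mem_map_of_mem _ x.2⟩ : ↥I))
      (by rintro ⟨_, ⟨y, hy, rfl⟩⟩; exact ⟨⟨y, hy⟩, rfl⟩)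
  have hle : ((R.subgroupOf A).map φ).subgroupOf I ≤ fittingSubgroup ↥I :=
    Helper1.le_fittingSubgroup hn hp₂.isNilpotent
  rw [hF] at hle
  intro x hx
  have hxA : x ∈ A := hRA hx
  have h1 : φ ⟨x, hxA⟩ ∈ (R.subgroupOf A).map φ :=
    Subgroup.mem_map_of_mem _ (by rw [Subgroup.mem_subgroupOf]; exact hx)
  have h2 : (⟨φ ⟨x, hxA⟩, hR₁I h1⟩ : ↥I) ∈ ((R.subgroupOf A).map φ).subgroupOf I := by
    rw [Subgroup.mem_subgroupOf]; exact h1
  have h3 := Subgroup.mem_bot.mp (hle h2)
  have h4 : φ ⟨x, hxA⟩ = 1 := by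
    have := congrArg (fun t : ↥I => (t : Equiv.Perm ↥(orbit A b))) h3
    simpa using this
  refine mem_coreIn_iff.mpr ⟨hxA, fun c hc => ⟨A.mul_mem (A.mul_mem hc hxA) (A.inv_mem hc), ?_⟩⟩
  -- `x` fixes `c⁻¹ • b`
  have hω : c⁻¹ • b ∈ orbit A b := ⟨⟨c⁻¹, A.inv_mem hc⟩, rfl⟩
  have h5 := DFunLike.congr_fun h4 (⟨c⁻¹ • b, hω⟩ : ↥(orbit A b))
  have h6 : x • (c⁻¹ • b) = c⁻¹ • b := by
    have := congrArg (fun t : ↥(orbit A b) => (t : Ω)) h5
    simpa [hφ] using this
  show c * x * c⁻¹ ∈ stabilizer G b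
  rw [mem_stabilizer_iff, mul_smul, mul_smul, h6, smul_inv_smul]

/-- **Knapp-type theorem.** -/
theorem fitting_stabilizer_inf_eq_bot_and_card_dvd [Finite G] [FaithfulSMul G Ω]
    (hprim : IsPreprimitive G Ω) (a b : Ω) (d : ℕ)
    (hd : Nat.card (orbit (stabilizer G a) b) = d) (h2 : 2 ≤ d)
    (hF : fittingSubgroup ↥(((stabilizer G b).subgroupOf (stabilizer G a)).map
      (toPermHom (stabilizer G a) (orbit (stabilizer G a) b))) = ⊥) :
    fittingSubgroup ↥(stabilizer G a ⊓ stabilizer G b) = ⊥ ∧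
      Nat.card (stabilizer G a) ∣ Nat.factorial d * (Nat.factorial (d - 1)) ^ d := by
  have hab : stabilizer G a ≠ stabilizer G b := by
    intro h
    have h1 : Nat.card (orbit (stabilizer G a) b) = 1 := by
      rw [Nat.card_eq_one_iff_unique]
      refine ⟨⟨?_⟩, ⟨⟨b, mem_orbit_self b⟩⟩⟩
      rintro ⟨_, ⟨x, rfl⟩⟩ ⟨_, ⟨y, rfl⟩⟩
      apply Subtype.ext
      have hx : (x : G) ∈ stabilizer G b := h ▸ x.2
      have hy : (y : G) ∈ stabilizer G b := h ▸ y.2
      show (x : G) • b = (y : G) • b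
      rw [mem_stabilizer_iff.mp hx, mem_stabilizer_iff.mp hy]
    omega
  have hP := pair_of_primitive hprim hab
  have hOp : ∀ p : ℕ, p.Prime → pCoreOf p (stabilizer G a ⊓ stabilizer G b) = ⊥ := by
    intro p hp
    haveI : Fact p.Prime := ⟨hp⟩
    exact hP.pCoreOf_inf_eq_bot (le_coreIn_of_fitting_image_eq_bot a b hF (pCoreOf_le _)
      (le_normalizer_pCoreOf _) (pCoreOf_isPGroup _))
  refine ⟨fittingSubgroup_eq_bot_of_pCoreOf hOp, ?_⟩
  have hd1 : (stabilizer G a ⊓ stabilizer G b).relIndex (stabilizer G a) = d := by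
    rw [relIndex_stabilizer_eq_card_orbit, hd]
  have hcard : Nat.card (stabilizer G a) = Nat.card (stabilizer G b) := by
    obtain ⟨g, hg⟩ := hP.conj
    rw [hg, Helper16.card_map_conj]
  have hd2 : (stabilizer G a ⊓ stabilizer G b).relIndex (stabilizer G b) = d := by
    have e1 := Helper4.card_mul_relIndex (inf_le_left : stabilizer G a ⊓ stabilizer G b ≤ stabilizer G a)
    have e2 := Helper4.card_mul_relIndex (inf_le_right : stabilizer G a ⊓ stabilizer G b ≤ stabilizer G b)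
    rw [hd1] at e1
    rw [← hcard, ← e1] at e2
    have hpos : 0 < Nat.card ↥(stabilizer G a ⊓ stabilizer G b) := Nat.card_pos
    exact Nat.eq_of_mul_eq_mul_left hpos e2
  by_cases hX : coreIn (stabilizer G a) (coreIn (stabilizer G b) (stabilizer G a ⊓ stabilizer G b)) = ⊥
  · have h3 := relIndex_coreIn_coreIn_dvd (stabilizer G a) (stabilizer G b)
    rw [hX, Subgroup.relIndex_bot_left, hd1, hd2] at h3
    exact h3
  · by_cases hY : coreIn (stabilizer G b) (coreIn (stabilizer G a) (stabilizer G a ⊓ stabilizer G b)) = ⊥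
    · have h3 := relIndex_coreIn_coreIn_dvd (stabilizer G b) (stabilizer G a)
      rw [inf_comm (stabilizer G b) (stabilizer G a), hY, Subgroup.relIndex_bot_left, hd1, hd2,
        ← hcard] at h3
      exact h3
    · exfalso
      obtain ⟨p, hp, -, hXp⟩ := hP.exists_prime_isPGroup_X hX hY
      haveI : Fact p.Prime := ⟨hp⟩
      apply hX
      have hle : coreIn (stabilizer G a) (coreIn (stabilizer G b)
          (stabilizer G a ⊓ stabilizer G b)) ≤ pCoreOf p (stabilizer G a ⊓ stabilizer G b) := by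
        apply le_pCoreOf _ _ hXp
        · exact (coreIn_le_right _ _).trans (coreIn_le_right _ _)
        · exact inf_le_left.trans (le_normalizer_coreIn _ _)
      rw [hOp p hp] at hle
      exact le_bot_iff.mp hle

end Perm

end Cfsg.Agent.Lib.Helper29.TWPair
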