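import Mathlib
import Cfsg.Agent.Lib.Helper8.TWS2ADefs
import Cfsg.Agent.Lib.Helper12.TWTS
import Cfsg.Agent.Lib.Helper20.TWS3Perm
import Cfsg.Agent.Lib.Helper20.AschA89F2J

/-!
# S5668 Case A (helper29): the pure-tensor lemmas P4 `pure_perm`, P5 `pure_comm` (helper8's msg 5253)
-/

set_option autoImplicit false
set_option linter.unusedSectionVars false
set_option linter.unusedVariables false

namespace Cfsg.Agent.Lib.Helper29.TWS2ALeaf
open Matrix Cfsg.Geo Cfsg.Agent.Lib.Helper18.AschA89 Cfsg.Agent.Lib.Helper8.TW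
open Cfsg.Agent.Lib.Helper5.TWS Cfsg.Agent.Lib.Helper28.TWU2A
open Cfsg.Agent.Lib.Helper25.SpT (sf sfv)
open Cfsg.Agent.Lib.Helper29.TWSOne Cfsg.Agent.Lib.Helper8.TWS2A
open Cfsg.Agent.Lib.Helper20.AschLeaf (wrFpermGL ptens_mul)

variable {F : Type*} [Field F] {t k : ℕ}

lemma ptens_eq_zero29 (G : Fin t → Matrix (Fin k) (Fin k) F) (i : Fin t) (h : G i = 0) :
    ptens k t G = 0 := by
  ext x y
  rw [ptens_apply, Matrix.zero_apply]
  apply Finset.prod_eq_zero (Finset.mem_univ i)
  rw [h, Matrix.zero_apply]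

/-- P4: a pure unipotent may be permuted along any permutation of the positions -/
theorem pure_perm (X : Subgroup (GL (Idx t k) F)) (hHX : HS t k F ≤ X)
    (W : Fin t → Matrix (Fin k) (Fin k) F) (c : F) (σ : Equiv.Perm (Fin t))
    (h : InM X (1 + c • ptens k t W)) :
    InM X (1 + c • ptens k t (fun j => W (σ⁻¹ j))) := by
  have hg : wrFpermGL (F := F) k t σ ∈ X := hHX (Cfsg.Agent.Lib.Helper20.TWS3.wrFpermGL_mem_HS σ)
  have h1 := InM_conj8 X (wrFpermGL (F := F) k t σ) hg (c • ptens k t W) h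
  have e : ((wrFpermGL (F := F) k t σ : GL (Idx t k) F) : Matrix (Idx t k) (Idx t k) F) *
      (c • ptens k t W) *
      (((wrFpermGL (F := F) k t σ)⁻¹ : GL (Idx t k) F) : Matrix (Idx t k) (Idx t k) F) =
      c • ptens k t (fun j => W (σ⁻¹ j)) := by
    have e1 : ((wrFpermGL (F := F) k t σ : GL (Idx t k) F) : Matrix (Idx t k) (Idx t k) F) =
        fperm k t σ := rfl
    have e2 : (((wrFpermGL (F := F) k t σ)⁻¹ : GL (Idx t k) F) : Matrix (Idx t k) (Idx t k) F) =
        fperm k t σ⁻¹ := rfl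
    rw [e1, e2, Matrix.mul_smul, Matrix.smul_mul,
      Cfsg.Agent.Lib.Helper12.TWLeaf.fperm_conj_ptens]
  rw [e] at h1
  exact h1

/-- P5: the commutator of two pure unipotents with a common nilpotent anchor slot -/
theorem pure_comm (X : Subgroup (GL (Idx t k) F)) (W W' : Fin t → Matrix (Fin k) (Fin k) F)
    (c c' : F) (m : Fin t)
    (h1 : W m * W m = 0) (h2 : W' m * W' m = 0) (h3 : W m * W' m * W m = 0)
    (h4 : W' m * W m * W' m = 0)
    (h : InM X (1 + c • ptens k t W)) (h' : InM X (1 + c' • ptens k t W')) :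
    InM X (1 + (c * c') • (ptens k t (fun l => W l * W' l) - ptens k t (fun l => W' l * W l))) := by
  have haa : (c • ptens k t W) * (c • ptens k t W) = 0 := by
    rw [Matrix.mul_smul, Matrix.smul_mul, ptens_mul, ptens_eq_zero29 _ m h1, smul_zero, smul_zero]
  have hbb : (c' • ptens k t W') * (c' • ptens k t W') = 0 := by
    rw [Matrix.mul_smul, Matrix.smul_mul, ptens_mul, ptens_eq_zero29 _ m h2, smul_zero, smul_zero]
  have haba : (c • ptens k t W) * (c' • ptens k t W') * (c • ptens k t W) = 0 := by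
    rw [Matrix.mul_smul, Matrix.smul_mul, Matrix.mul_smul, Matrix.smul_mul, Matrix.smul_mul,
      ptens_mul, ptens_mul, ptens_eq_zero29 _ m h3, smul_zero, smul_zero, smul_zero]
  have hbab : (c' • ptens k t W') * (c • ptens k t W) * (c' • ptens k t W') = 0 := by
    rw [Matrix.mul_smul, Matrix.smul_mul, Matrix.mul_smul, Matrix.smul_mul, Matrix.smul_mul,
      ptens_mul, ptens_mul, ptens_eq_zero29 _ m h4, smul_zero, smul_zero, smul_zero]
  have key := InM_comm8 X (c • ptens k t W) (c' • ptens k t W') h h' haa hbb haba hbab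
  have e : (c • ptens k t W) * (c' • ptens k t W') - (c' • ptens k t W') * (c • ptens k t W) =
      (c * c') • (ptens k t (fun l => W l * W' l) - ptens k t (fun l => W' l * W l)) := by
    rw [Matrix.mul_smul, Matrix.smul_mul, Matrix.mul_smul, Matrix.smul_mul, ptens_mul, ptens_mul,
      smul_smul, smul_smul, smul_sub, mul_comm c' c]
  rw [e] at key
  exact key

end Cfsg.Agent.Lib.Helper29.TWS2ALeaf
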