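import Mathlib
import Cfsg.Agent.Lib.Helper26.TWFibA
import Cfsg.Agent.Lib.Helper28.TWU2ADefs
import Cfsg.Agent.Lib.Helper29.TWSOneSlot2

/-!
# S5668 Case A (helper29): the MULTI-SLOT Lemma A / Lemma A' (plan §5.1 (ii), (iii))

Form-free vocabulary of helper28 (`WForm`, `Triv`), blocks `blk l Ψ p p'` at the slot `l`.
* `blk_slot_mul`, `blk_mul_slot`: the blocks of `slot l A * Ψ`, `Ψ * slot l B`;
* `lemmaA_S`: either some compression `N_z Ψ N_z` is non-zero (and has weight `N_z` at `l`), or all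
  blocks of `Ψ` at `l` are selfadjoint;
* `lemmaA'_S`: all blocks selfadjoint and `Ψ` not trivial at `l` (`k ≥ 3`): there are `w`, `w' ⟂ w`
  with `Ψ₂ := [N_w', [N_w, Ψ]] ≠ 0` of weight `w' ∧ w` at `l`.
-/

set_option autoImplicit false
set_option linter.unusedSectionVars false
set_option linter.unusedVariables false

namespace Cfsg.Agent.Lib.Helper29.TWSLemA
open Matrix Cfsg.Agent.Lib.Helper18.AschA89 Cfsg.Agent.Lib.Helper8.TW
open Cfsg.Agent.Lib.Helper28.TWU2A (WForm Triv)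
open Cfsg.Agent.Lib.Helper25.SpT (sf Jm sfv)
open Cfsg.Agent.Lib.Helper29.TWSOne

variable {F : Type*} [Field F] {t k : ℕ}

/-! ### entries of slot products (no finiteness of `F`) -/

lemma slot_mul_apply (l : Fin t) (A : Matrix (Fin k) (Fin k) F) (M : Matrix (Idx t k) (Idx t k) F)
    (x x' : Idx t k) :
    (slot k t l A * M) x x' = ∑ a, A (x l) a * M (Function.update x l a) x' := by
  have h := Cfsg.Agent.Lib.Helper26.TWLeaf.slot_mulVec_apply26 l A (fun y => M y x') x
  rw [← h]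
  rfl

lemma mul_slot_apply (l : Fin t) (A : Matrix (Fin k) (Fin k) F) (M : Matrix (Idx t k) (Idx t k) F)
    (x x' : Idx t k) :
    (M * slot k t l A) x x' = ∑ b, M x (Function.update x' l b) * A b (x' l) := by
  rw [Matrix.mul_apply]
  have h1 : ∀ y : Idx t k, M x y * slot k t l A y x' =
      if (∀ j, j ≠ l → x' j = y j) then M x y * A (y l) (x' l) else 0 := by
    intro y
    rw [slot_apply]
    by_cases h : ∀ j, j ≠ l → y j = x' j
    · rw [if_pos h, if_pos (fun j hj => (h j hj).symm)]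
    · rw [if_neg h, if_neg (fun h' => h (fun j hj => (h' j hj).symm)), mul_zero]
  simp only [h1]
  rw [Cfsg.Agent.Lib.Helper26.TWLeaf.sum_line26 l x' (fun y => M x y * A (y l) (x' l))]
  simp only [Function.update_self]

/-! ### blocks -/

/-- the block of `Ψ` at position `l` with outer indices `p, p'` -/
def blk (l : Fin t) (Ψ : Matrix (Idx t k) (Idx t k) F) (p p' : Idx t k) : Matrix (Fin k) (Fin k) F :=
  Matrix.of fun a b => Ψ (Function.update p l a) (Function.update p' l b)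

lemma blk_apply (l : Fin t) (Ψ : Matrix (Idx t k) (Idx t k) F) (p p' : Idx t k) (a b : Fin k) :
    blk l Ψ p p' a b = Ψ (Function.update p l a) (Function.update p' l b) := rfl

lemma blk_self (l : Fin t) (Ψ : Matrix (Idx t k) (Idx t k) F) (p p' : Idx t k) :
    blk l Ψ p p' (p l) (p' l) = Ψ p p' := by
  rw [blk_apply, Function.update_eq_self, Function.update_eq_self]

lemma blk_slot_mul (l : Fin t) (A : Matrix (Fin k) (Fin k) F) (Ψ : Matrix (Idx t k) (Idx t k) F)
    (p p' : Idx t k) : blk l (slot k t l A * Ψ) p p' = A * blk l Ψ p p' := by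
  ext a b
  rw [blk_apply, slot_mul_apply, Matrix.mul_apply]
  simp only [Function.update_self, Function.update_idem, blk_apply]

lemma blk_mul_slot (l : Fin t) (B : Matrix (Fin k) (Fin k) F) (Ψ : Matrix (Idx t k) (Idx t k) F)
    (p p' : Idx t k) : blk l (Ψ * slot k t l B) p p' = blk l Ψ p p' * B := by
  ext a b
  rw [blk_apply, mul_slot_apply, Matrix.mul_apply]
  simp only [Function.update_self, Function.update_idem, blk_apply]

lemma blk_add (l : Fin t) (Ψ Ψ' : Matrix (Idx t k) (Idx t k) F) (p p' : Idx t k) :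
    blk l (Ψ + Ψ') p p' = blk l Ψ p p' + blk l Ψ' p p' := by
  ext a b; simp only [blk_apply, Matrix.add_apply]

lemma blk_sub (l : Fin t) (Ψ Ψ' : Matrix (Idx t k) (Idx t k) F) (p p' : Idx t k) :
    blk l (Ψ - Ψ') p p' = blk l Ψ p p' - blk l Ψ' p p' := by
  ext a b; simp only [blk_apply, Matrix.sub_apply]

lemma blk_neg (l : Fin t) (Ψ : Matrix (Idx t k) (Idx t k) F) (p p' : Idx t k) :
    blk l (-Ψ) p p' = - blk l Ψ p p' := by
  ext a b; simp only [blk_apply, Matrix.neg_apply]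

lemma blk_smul (l : Fin t) (c : F) (Ψ : Matrix (Idx t k) (Idx t k) F) (p p' : Idx t k) :
    blk l (c • Ψ) p p' = c • blk l Ψ p p' := by
  ext a b; simp only [blk_apply, Matrix.smul_apply]

lemma blk_zero (l : Fin t) (p p' : Idx t k) :
    blk l (0 : Matrix (Idx t k) (Idx t k) F) p p' = 0 := by
  ext a b; simp only [blk_apply, Matrix.zero_apply]

lemma eq_zero_of_blk (l : Fin t) (Ψ : Matrix (Idx t k) (Idx t k) F)
    (h : ∀ p p' : Idx t k, blk l Ψ p p' = 0) : Ψ = 0 := by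
  ext p p'
  rw [← blk_self l Ψ p p', h p p']
  rfl

/-- all blocks multiples of `w` ⟹ weight `w` at `l` -/
lemma wform_of_blk (l : Fin t) (w : Matrix (Fin k) (Fin k) F) (Ψ : Matrix (Idx t k) (Idx t k) F)
    (h : ∀ p p' : Idx t k, ∃ c : F, blk l Ψ p p' = c • w) : WForm l w Ψ := by
  intro p p' a b
  obtain ⟨c, hc⟩ := h p p'
  have h1 : Ψ (Function.update p l a) (Function.update p' l b) = c * w a b := by
    have := congrFun (congrFun hc a) b
    rw [blk_apply, Matrix.smul_apply, smul_eq_mul] at this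
    exact this
  have h2 : Ψ p p' = c * w (p l) (p' l) := by
    have := congrFun (congrFun hc (p l)) (p' l)
    rw [blk_self, Matrix.smul_apply, smul_eq_mul] at this
    exact this
  rw [h1, h2]
  ring

/-- the blocks of a double slot product -/
lemma blk_slot_mul_mul_slot (l : Fin t) (A B : Matrix (Fin k) (Fin k) F)
    (Ψ : Matrix (Idx t k) (Idx t k) F) (p p' : Idx t k) :
    blk l (slot k t l A * Ψ * slot k t l B) p p' = A * blk l Ψ p p' * B := by
  rw [blk_mul_slot, blk_slot_mul]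

/-- the blocks of the commutator with a slot matrix -/
lemma blk_comm_slot (l : Fin t) (A : Matrix (Fin k) (Fin k) F)
    (Ψ : Matrix (Idx t k) (Idx t k) F) (p p' : Idx t k) :
    blk l (slot k t l A * Ψ - Ψ * slot k t l A) p p' = A * blk l Ψ p p' - blk l Ψ p p' * A := by
  rw [blk_sub, blk_slot_mul, blk_mul_slot]

/-! ### Lemma A (Sym² branch) and the selfadjoint alternative -/

lemma Nz_ne_zero (hk : Even k) {z : Fin k → F} (hz : z ≠ 0) : Nz z ≠ 0 := by
  obtain ⟨a, ha⟩ := Cfsg.Agent.Lib.Helper25.SpT.exists_sf_ne_zero hk hz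
  intro h
  have h1 : Nz z *ᵥ a = 0 := by rw [h, Matrix.zero_mulVec]
  rw [dy_mulVec] at h1
  rcases smul_eq_zero.1 h1 with h2 | h2
  · apply ha
    rw [Cfsg.Agent.Lib.Helper25.SpT.sf_skew, h2, neg_zero]
  · exact hz h2

/-- the compression `N_z Ψ N_z` has weight `N_z` at `l` -/
lemma wform_compress (l : Fin t) (z : Fin k → F) (Ψ : Matrix (Idx t k) (Idx t k) F) :
    WForm l (Nz z) (slot k t l (Nz z) * Ψ * slot k t l (Nz z)) := by
  apply wform_of_blk
  intro p p'
  exact ⟨sf (blk l Ψ p p' *ᵥ z) z, by rw [blk_slot_mul_mul_slot, Nz_mul_mul_Nz]⟩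

/-- a block with `sf (M z) z ≠ 0` makes the compression non-zero -/
lemma compress_ne_zero (hk : Even k) (l : Fin t) (z : Fin k → F) (Ψ : Matrix (Idx t k) (Idx t k) F)
    (p p' : Idx t k) (h : sf (blk l Ψ p p' *ᵥ z) z ≠ 0) :
    slot k t l (Nz z) * Ψ * slot k t l (Nz z) ≠ 0 := by
  have hz : z ≠ 0 := by
    rintro rfl
    apply h
    rw [Matrix.mulVec_zero]
    exact Cfsg.Agent.Lib.Helper25.SpT.sf_zero_left _
  intro h0
  have h1 : blk l (slot k t l (Nz z) * Ψ * slot k t l (Nz z)) p p' = 0 := by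
    rw [h0, blk_zero]
  rw [blk_slot_mul_mul_slot, Nz_mul_mul_Nz] at h1
  rcases smul_eq_zero.1 h1 with h2 | h2
  · exact h h2
  · exact Nz_ne_zero hk hz h2

/-- LEMMA A (dichotomy at the slot `l`): either some compression is non-zero, or all blocks of `Ψ`
at `l` are selfadjoint. -/
theorem lemmaA_S (hk : Even k) (h2 : (2 : F) ≠ 0) (l : Fin t) (Ψ : Matrix (Idx t k) (Idx t k) F) :
    (∃ z : Fin k → F, z ≠ 0 ∧ slot k t l (Nz z) * Ψ * slot k t l (Nz z) ≠ 0 ∧
        WForm l (Nz z) (slot k t l (Nz z) * Ψ * slot k t l (Nz z))) ∨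
      (∀ p p' : Idx t k, SelfAdj (blk l Ψ p p')) := by
  by_cases h : ∃ (p p' : Idx t k) (z : Fin k → F), sf (blk l Ψ p p' *ᵥ z) z ≠ 0
  · left
    obtain ⟨p, p', z, hz⟩ := h
    have hz0 : z ≠ 0 := by
      rintro rfl
      apply hz
      rw [Matrix.mulVec_zero]
      exact Cfsg.Agent.Lib.Helper25.SpT.sf_zero_left _
    exact ⟨z, hz0, compress_ne_zero hk l z Ψ p p' hz, wform_compress l z Ψ⟩
  · right
    push Not at h
    intro p p'
    exact (selfAdj_iff_forall_sf_self h2 _).2 (h p p')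

/-- if all compressions vanish then all blocks are selfadjoint -/
theorem selfAdj_blk_of_compress_eq_zero (hk : Even k) (h2 : (2 : F) ≠ 0) (l : Fin t)
    (Ψ : Matrix (Idx t k) (Idx t k) F)
    (h : ∀ z : Fin k → F, slot k t l (Nz z) * Ψ * slot k t l (Nz z) = 0) :
    ∀ p p' : Idx t k, SelfAdj (blk l Ψ p p') := by
  rcases lemmaA_S hk h2 l Ψ with ⟨z, _, hz, _⟩ | h'
  · exact absurd (h z) hz
  · exact h'

/-! ### Lemma A' (Λ² branch) -/

/-- not trivial at `l` ⟹ some block is not scalar -/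
lemma exists_blk_not_scalar (l : Fin t) (Ψ : Matrix (Idx t k) (Idx t k) F) (hnt : ¬ Triv l Ψ) :
    ∃ p p' : Idx t k, ¬ ∃ c : F, blk l Ψ p p' = c • (1 : Matrix (Fin k) (Fin k) F) := by
  by_contra hcon
  push Not at hcon
  exact hnt (wform_of_blk l 1 Ψ hcon)

/-- LEMMA A' (multi-slot): all blocks of `Ψ` at `l` selfadjoint, `Ψ` not trivial at `l`, `k ≥ 3`:
there are `w ≠ 0`, `w' ⟂ w`, `w' ∉ F w` such that
`Ψ₂ := [N_w', [N_w, Ψ]]` (commutators with the slot matrices at `l`) is non-zero and has weight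
`w' ∧ w` at `l`. -/
theorem lemmaA'_S (hk : Even k) (hk3 : 3 ≤ k) (l : Fin t) (Ψ : Matrix (Idx t k) (Idx t k) F)
    (hsa : ∀ p p' : Idx t k, SelfAdj (blk l Ψ p p')) (hnt : ¬ Triv l Ψ) :
    ∃ (w w' : Fin k → F), w ≠ 0 ∧ sf w' w = 0 ∧ (¬ ∃ d : F, w' = d • w) ∧
      (slot k t l (Nz w') * (slot k t l (Nz w) * Ψ - Ψ * slot k t l (Nz w)) -
        (slot k t l (Nz w) * Ψ - Ψ * slot k t l (Nz w)) * slot k t l (Nz w')) ≠ 0 ∧
      WForm l (wedge w' w)
        (slot k t l (Nz w') * (slot k t l (Nz w) * Ψ - Ψ * slot k t l (Nz w)) -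
          (slot k t l (Nz w) * Ψ - Ψ * slot k t l (Nz w)) * slot k t l (Nz w')) := by
  obtain ⟨p, p', hM⟩ := exists_blk_not_scalar l Ψ hnt
  obtain ⟨w, hw0, hw1, _⟩ := exists_wedge_ne_zero hk (blk l Ψ p p') hM
  obtain ⟨w', h0, h1, h2⟩ := exists_perp_not_smul_sf_ne_zero hk hk3 hw0 hw1
  have hblk : ∀ q q' : Idx t k,
      blk l (slot k t l (Nz w') * (slot k t l (Nz w) * Ψ - Ψ * slot k t l (Nz w)) -
        (slot k t l (Nz w) * Ψ - Ψ * slot k t l (Nz w)) * slot k t l (Nz w')) q q' =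
      sf w' (blk l Ψ q q' *ᵥ w) • wedge w' w := by
    intro q q'
    rw [blk_comm_slot, blk_comm_slot, comm_Nz_selfAdj (hsa q q'), comm_Nz_wedge_of_perp h0]
  refine ⟨w, w', hw0, h0, h1, ?_, ?_⟩
  · intro hz
    have h3 := hblk p p'
    rw [hz, blk_zero] at h3
    rcases smul_eq_zero.1 h3.symm with h4 | h4
    · exact h2 h4
    · have : wedge w' w ≠ 0 := by
        rw [wedge_swap]
        exact neg_ne_zero.2 (wedge_ne_zero hk hw0 h1)
      exact this h4
  · apply wform_of_blk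
    intro q q'
    exact ⟨_, hblk q q'⟩

/-- for `k = 2` (no `Λ²` branch): all blocks selfadjoint ⟹ trivial at `l` -/
theorem triv_of_selfAdj_two (h2 : (2 : F) ≠ 0) (l : Fin t) (Ψ : Matrix (Idx t 2) (Idx t 2) F)
    (hsa : ∀ p p' : Idx t 2, SelfAdj (blk l Ψ p p')) : Triv l Ψ := by
  apply wform_of_blk
  intro p p'
  exact scalar_of_selfAdj_two h2 (hsa p p')

end Cfsg.Agent.Lib.Helper29.TWSLemA
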