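import Cfsg.Agent.Lib.Helper28.TC2Glue

set_option autoImplicit false

/-!
# Permutation representations of presented groups from verified tables (no enumeration certificate)

A table on which all relators close gives a homomorphism of the presented group to the permutations of
the points; if moreover the generators of a subgroup fix the point `0` and the table is connected, the
orbit map from the cosets of the subgroup is onto.
-/

namespace Cfsg.Agent.Lib.Helper29.TabHom

open Cfsg.Agent.Lib.Helper28.TC2Upper Cfsg.Agent.Lib.Helper28.TC2Lower Cfsg.Agent.Lib.Helper28.TC2Glue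

variable {α : Type}

section Hom
variable (rels : Set (FreeGroup α)) (relWords : List (List (α × Bool)))
  (lw : α × Bool → ℕ) (T : Table)

/-- the homomorphism given by a table on which the relators close -/
theorem exists_hom (hrels : ∀ r, r ∈ rels ↔ ∃ L ∈ relWords, r = FreeGroup.mk L)
    (hT : T.OK) (hlwk : ∀ xb, lw xb < T.k) (hlwinv : ∀ x, lw (x, false) = T.invl (lw (x, true)))
    (hrelT : ∀ L ∈ relWords, ∀ p, p < T.n → T.walkT (pathOf lw L) p = p) :
    ∃ φ : PresentedGroup rels →* Equiv.Perm (Fin T.n),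
      (∀ x, φ (PresentedGroup.of x) = Table.sigma hT (lw (x, true))) ∧
      ∀ L : List (α × Bool), φ (PresentedGroup.mk rels (FreeGroup.mk L)) =
        pathProd (Table.sigma hT) (pathOf lw L) := by
  have hσ : ∀ x b, Table.sigma hT (lw (x, b)) =
      cond b (Table.sigma hT (lw (x, true))) (Table.sigma hT (lw (x, true)))⁻¹ := by
    intro x b
    cases b with
    | true => rfl
    | false =>
      show Table.sigma hT (lw (x, false)) = (Table.sigma hT (lw (x, true)))⁻¹
      rw [hlwinv, Table.sigma_inv hT (hlwk _)]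
  have hlt : ∀ L : List (α × Bool), ∀ l ∈ pathOf lw L, l < T.k := by
    intro L l hl
    unfold pathOf at hl
    rw [List.mem_reverse, List.mem_map] at hl
    obtain ⟨xb, _, rfl⟩ := hl
    exact hlwk _
  have hlift : ∀ L : List (α × Bool), FreeGroup.lift (fun x => Table.sigma hT (lw (x, true))) (FreeGroup.mk L) =
      pathProd (Table.sigma hT) (pathOf lw L) :=
    fun L => lift_mk_eq_pathProd _ lw _ hσ L
  have hr : ∀ r ∈ rels, FreeGroup.lift (fun x => Table.sigma hT (lw (x, true))) r = 1 := by
    intro r hr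
    obtain ⟨L, hLm, rfl⟩ := (hrels r).mp hr
    rw [hlift]
    exact Table.pathProd_sigma_eq_one hT _ (hlt L) (hrelT L hLm)
  refine ⟨PresentedGroup.toGroup hr, fun x => PresentedGroup.toGroup.of hr, ?_⟩
  intro L
  rw [← hlift]
  rfl

end Hom

section Orbit
variable (rels S : Set (FreeGroup α)) (relWords subWords : List (List (α × Bool)))
  (lw : α × Bool → ℕ) (dec : ℕ → α × Bool) (T : Table)

/-- the permutation representation and the orbit map, from a table alone -/
theorem lower (hrels : ∀ r, r ∈ rels ↔ ∃ L ∈ relWords, r = FreeGroup.mk L)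
    (hS : ∀ s, s ∈ S ↔ ∃ L ∈ subWords, s = FreeGroup.mk L)
    (hT : T.OK) (hn : 0 < T.n) (hlwk : ∀ xb, lw xb < T.k)
    (hlwinv : ∀ x, lw (x, false) = T.invl (lw (x, true)))
    (hd1 : ∀ l, l < T.k → lw (dec l) = l)
    (hrelT : ∀ L ∈ relWords, ∀ p, p < T.n → T.walkT (pathOf lw L) p = p)
    (hsubT : ∀ L ∈ subWords, T.walkT (pathOf lw L) 0 = 0) (htree : T.treeOK = true) :
    ∃ φ : PresentedGroup rels →* Equiv.Perm (Fin T.n),
      (∀ x, φ (PresentedGroup.of x) = Table.sigma hT (lw (x, true))) ∧
      ∃ f : PresentedGroup rels ⧸ (Subgroup.closure S).map (PresentedGroup.mk rels) → Fin T.n,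
        Function.Surjective f ∧ (∀ g q, f (g • q) = φ g (f q)) ∧ f (QuotientGroup.mk 1) = ⟨0, hn⟩ := by
  obtain ⟨φ, hφof, hφL⟩ := exists_hom rels relWords lw T hrels hT hlwk hlwinv hrelT
  have hσ : ∀ x b, Table.sigma hT (lw (x, b)) =
      cond b (Table.sigma hT (lw (x, true))) (Table.sigma hT (lw (x, true)))⁻¹ := by
    intro x b
    cases b with
    | true => rfl
    | false =>
      show Table.sigma hT (lw (x, false)) = (Table.sigma hT (lw (x, true)))⁻¹
      rw [hlwinv, Table.sigma_inv hT (hlwk _)]
  have hlt : ∀ L : List (α × Bool), ∀ l ∈ pathOf lw L, l < T.k := by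
    intro L l hl
    unfold pathOf at hl
    rw [List.mem_reverse, List.mem_map] at hl
    obtain ⟨xb, _, rfl⟩ := hl
    exact hlwk _
  -- the elements attached to the letters
  let γ : ℕ → PresentedGroup rels := fun l => letVal (dec l)
  have hφγ : ∀ l, l < T.k → φ (γ l) = Table.sigma hT l := by
    intro l hl
    rcases hxb : dec l with ⟨x, b⟩
    have hl' : lw (x, b) = l := by rw [← hxb]; exact hd1 l hl
    show φ (letVal (dec l)) = _
    rw [hxb, ← hl', hσ]
    cases b with
    | true => exact hφof x
    | false =>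
      show φ (PresentedGroup.of x)⁻¹ = _
      rw [map_inv, hφof]; rfl
  have hH : ∀ h ∈ (Subgroup.closure S).map (PresentedGroup.mk rels), φ h ⟨0, hn⟩ = ⟨0, hn⟩ := by
    intro h hh
    have hle : (Subgroup.closure S).map (PresentedGroup.mk rels) ≤
        (MulAction.stabilizer (Equiv.Perm (Fin T.n)) (⟨0, hn⟩ : Fin T.n)).comap φ := by
      rw [Subgroup.map_le_iff_le_comap, Subgroup.closure_le]
      intro s hs
      obtain ⟨L, hLm, rfl⟩ := (hS s).mp hs
      show φ (PresentedGroup.mk rels (FreeGroup.mk L)) ∈ MulAction.stabilizer _ _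
      rw [MulAction.mem_stabilizer_iff, hφL]
      apply Fin.ext
      show (pathProd (Table.sigma hT) (pathOf lw L) ⟨0, hn⟩).val = 0
      rw [Table.pathProd_sigma_apply hT _ (hlt L)]
      exact hsubT L hLm
    exact MulAction.mem_stabilizer_iff.mp (hle hh)
  refine ⟨φ, hφof, orbitMap _ hn φ hH, orbitMap_surjective _ hT hn φ γ hH hφγ htree,
    orbitMap_smul _ hn φ hH, ?_⟩
  rw [orbitMap_mk, map_one]
  rfl

end Orbit

end Cfsg.Agent.Lib.Helper29.TabHom
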