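import Cfsg.Agent.Lib.Helper29.TitsSchurH
import Cfsg.Agent.Lib.Helper29.TCTitsGMain
import Cfsg.Agent.Lib.Helper29.FoxTitsGP2Chk
import Cfsg.Agent.Lib.Helper29.FoxTitsGP5Chk
import Cfsg.Agent.Lib.Helper29.TitsPerm
import Cfsg.Agent.Lib.Helper28.TC2Simple
import Cfsg.Agent.Lib.Helper28.TC2Subst
import Cfsg.Agent.Lib.Helper10.TitsIdx

set_option autoImplicit false
set_option maxRecDepth 100000

/-!
# The Tits group has trivial Schur multiplier

The presented group `PG = ⟨a, b, t | …⟩` (the ATLAS presentation of `²F₄(2)'` on `t`, `b`, together with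
`a = tbtbtb⁻¹t` and a presentation of `⟨a, b⟩ = L₃(3)`) has order at most `3200 * 5616`, maps onto
helper10's permutation group `T` on 1755 points, hence is isomorphic to it; Fox-calculus certificates
(helper28's `SchurFox`) over the 3200 cosets of `L₃(3)` for the primes 2 and 5, transfer for the others.
-/

namespace Cfsg.Agent.Lib.Helper29.TitsSchurG

open Cfsg.Agent.Lib.Helper28.SchurFox Cfsg.Agent.Lib.Helper28.TC2Lower Cfsg.Agent.Lib.Helper28.TC2Glue
open Cfsg.Agent.Lib.Helper28.TC2Tower Cfsg.Agent.Lib.Helper28.TC2Simple Cfsg.Agent.Lib.Helper28.TC2Subst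
open Cfsg.Agent.Lib.Helper29.TCTitsGLink Cfsg.Agent.Lib.Helper29.TCTitsGTable
open Cfsg.Agent.Lib.Helper29.TCTitsGMain
open Cfsg.Agent.Lib.Helper29.TitsGDef (Gen)
open Cfsg.Agent.Lib.Helper29.TitsSchurH (PH)
open Cfsg.Agent.Lib.Helper10.SW Cfsg.Agent.Lib.Helper10.Tits Cfsg.Agent.Lib.Helper29.TitsPerm

attribute [local irreducible] perm

/-- the presented group -/
abbrev PG : Type := PresentedGroup rels

/-- the subgroup generated by `a` and `b` -/
abbrev H : Subgroup PG := (Subgroup.closure S).map (PresentedGroup.mk rels)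

/-- index of a generator -/
def gi : Gen → ℕ
  | .a => 0
  | .b => 1
  | .t => 2

theorem hlw : ∀ x b, lw (x, b) = 2 * gi x + cond b 0 1 := by
  rintro x b; cases x <;> cases b <;> rfl

theorem hgi : Function.Injective gi := by
  intro x y h; cases x <;> cases y <;> simp_all [gi]

theorem hlwk : ∀ x, lw (x, true) < table.k := by
  intro x; cases x <;> decide

theorem hDd : ∀ k < 3, ∃ x, gi x = k := by
  intro k hk
  interval_cases k
  exacts [⟨.a, rfl⟩, ⟨.b, rfl⟩, ⟨.t, rfl⟩]

/-! ### the subgroup `⟨a, b⟩` is a quotient of the presented `L₃(3)` -/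

theorem up_rel : ∀ L ∈ Cfsg.Agent.Lib.Helper29.TCTitsHLink.relWords,
    upWord Cfsg.Agent.Lib.Helper29.TitsHDef.up L ∈ relWords := by decide +kernel

theorem hrelmap : ∀ r ∈ Cfsg.Agent.Lib.Helper29.TCTitsHLink.rels,
    FreeGroup.map Cfsg.Agent.Lib.Helper29.TitsHDef.up r ∈ rels :=
  hrel_of_words rels Cfsg.Agent.Lib.Helper29.TCTitsHLink.rels Cfsg.Agent.Lib.Helper29.TitsHDef.up relWords
    Cfsg.Agent.Lib.Helper29.TCTitsHLink.relWords link.hrels Cfsg.Agent.Lib.Helper29.TCTitsHLink.link.hrels up_rel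

theorem hψrel : ∀ r ∈ Cfsg.Agent.Lib.Helper29.TCTitsHLink.rels,
    FreeGroup.lift (fun g => (PresentedGroup.of (Cfsg.Agent.Lib.Helper29.TitsHDef.up g) : PG)) r = 1 := by
  intro r hr
  have key : FreeGroup.lift (fun g => (PresentedGroup.of (Cfsg.Agent.Lib.Helper29.TitsHDef.up g) : PG)) =
      (PresentedGroup.mk rels).comp (FreeGroup.map Cfsg.Agent.Lib.Helper29.TitsHDef.up) := by
    ext g
    simp [PresentedGroup.of]
  rw [key]
  exact PresentedGroup.one_of_mem (hrelmap r hr)

/-- the map from the presented `L₃(3)` -/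
noncomputable def ψ : PH →* PG := PresentedGroup.toGroup hψrel

theorem ψ_of (g : Cfsg.Agent.Lib.Helper29.TitsHDef.Gen) :
    ψ (PresentedGroup.of g) = PresentedGroup.of (Cfsg.Agent.Lib.Helper29.TitsHDef.up g) :=
  PresentedGroup.toGroup.of hψrel

theorem range_ψ : ψ.range = H := by
  rw [MonoidHom.range_eq_map, ← PresentedGroup.closure_range_of, MonoidHom.map_closure, ← Set.range_comp]
  show _ = (Subgroup.closure {FreeGroup.of Gen.a, FreeGroup.of Gen.b}).map _
  rw [MonoidHom.map_closure]
  congr 1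
  ext x
  constructor
  · rintro ⟨g, rfl⟩
    cases g
    · exact ⟨FreeGroup.of Gen.a, by simp, (ψ_of .a).symm⟩
    · exact ⟨FreeGroup.of Gen.b, by simp, (ψ_of .b).symm⟩
  · rintro ⟨y, hy, rfl⟩
    simp only [Set.mem_insert_iff, Set.mem_singleton_iff] at hy
    rcases hy with rfl | rfl
    · exact ⟨.a, ψ_of .a⟩
    · exact ⟨.b, ψ_of .b⟩

theorem index_H : H.index = 3200 := main.1

theorem card_H_le : Nat.card H ≤ 5616 := by
  rw [← range_ψ]
  calc Nat.card ψ.range ≤ Nat.card PH := Nat.card_le_card_of_surjective ψ.rangeRestrict ψ.rangeRestrict_surjective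
    _ ≤ 5616 := Cfsg.Agent.Lib.Helper29.TitsSchurH.card_le

theorem finite_H : Finite H := by
  rw [← range_ψ]
  exact Finite.of_surjective ψ.rangeRestrict ψ.rangeRestrict_surjective

instance finite_PG : Finite PG := by
  have := finite_H
  exact finite_of_index H (by rw [index_H]; norm_num)

theorem card_le : Nat.card PG ≤ 17971200 :=
  card_le_of_index H index_H card_H_le

/-! ### the permutation representation on 1755 points -/

theorem inv_ok : ∀ x : Gen, InvOf 1755 (code (x, true)) (code (x, false)) ∧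
    InvOf 1755 (code (x, false)) (code (x, true)) := by
  intro x
  cases x <;> exact ⟨by decide +kernel, by decide +kernel⟩

theorem valid_code (xb : Gen × Bool) : Valid 1755 (code xb) := by
  obtain ⟨x, b⟩ := xb
  cases b
  · exact valid_of_invOf (inv_ok x).2
  · exact valid_of_invOf (inv_ok x).1

/-- the permutations of the generators -/
noncomputable def pgen (x : Gen) : Equiv.Perm (Fin 1755) := perm 1755 (code (x, true))

theorem perm_code (x : Gen) (b : Bool) : perm 1755 (code (x, b)) = cond b (pgen x) (pgen x)⁻¹ := by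
  cases b
  · exact perm_inv_of_invOf (inv_ok x).1 (valid_code (x, false))
  · rfl

theorem lift_eq_prodL (L : List (Gen × Bool)) :
    FreeGroup.lift pgen (FreeGroup.mk L) = prodL 1755 (L.map code) := by
  rw [FreeGroup.lift_mk]
  unfold prodL
  rw [List.map_map]
  congr 1
  apply List.map_congr_left
  rintro ⟨x, b⟩ _
  exact (perm_code x b).symm

theorem valid_map_code (L : List (Gen × Bool)) : ∀ c ∈ L.map code, Valid 1755 c := by
  intro c hc
  rw [List.mem_map] at hc
  obtain ⟨xb, _, rfl⟩ := hc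
  exact valid_code xb

theorem rels_ok : ∀ L ∈ relWords, ∀ p < 1755, evalL 1755 (L.map code) p = p := by
  decide +kernel

theorem lift_rel (L : List (Gen × Bool)) (hL : L ∈ relWords) :
    FreeGroup.lift pgen (FreeGroup.mk L) = 1 := by
  rw [lift_eq_prodL]
  ext i
  rw [prodL_apply_val _ (valid_map_code _), rels_ok L hL i.val i.isLt]
  rfl

theorem inv_c1 : InvOf 1755 cTc1 cTc1i := by decide +kernel
theorem inv_c2 : InvOf 1755 cTc2 cTc2i := by decide +kernel

theorem words_ok : (∀ p < 1755, evalL 1755 (gw1.map code) p = ap 1755 cTc1 p) ∧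
    (∀ p < 1755, evalL 1755 (gw2.map code) p = ap 1755 cTc2 p) := by
  decide +kernel

theorem perm_eq_prodL {c : ℕ} (hc : Valid 1755 c) (L : List (Gen × Bool))
    (h : ∀ p < 1755, evalL 1755 (L.map code) p = ap 1755 c p) : perm 1755 c = prodL 1755 (L.map code) := by
  ext i
  rw [perm_apply_val hc, prodL_apply_val _ (valid_map_code _), h i.val i.isLt]

/-- the presented group is isomorphic to the Tits group on 1755 points -/
theorem exists_iso_T : Nonempty (PG ≃* ↥T) ∧ Nat.card PG = 17971200 := by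
  obtain ⟨Ψ, hΨ⟩ := exists_hom_of_words rels pgen relWords (fun r hr => (link.hrels r).mp hr) lift_rel
  have hlift : ∀ L : List (Gen × Bool), Ψ (PresentedGroup.mk rels (FreeGroup.mk L)) =
      FreeGroup.lift pgen (FreeGroup.mk L) := by
    intro L
    have : Ψ.comp (PresentedGroup.mk rels) = FreeGroup.lift pgen := by
      apply FreeGroup.ext_hom
      intro x
      rw [MonoidHom.comp_apply, FreeGroup.lift_apply_of]
      exact hΨ x
    exact DFunLike.congr_fun this _
  have hprod : ∀ L : List (Gen × Bool), prodL 1755 (L.map code) ∈ Ψ.range := by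
    intro L
    rw [← lift_eq_prodL, ← hlift]
    exact ⟨_, rfl⟩
  have hT : T ≤ Ψ.range := by
    rw [T_eq, grp_le_iff]
    intro c hc
    simp only [List.mem_cons, List.not_mem_nil, or_false] at hc
    rcases hc with rfl | rfl
    · rw [perm_eq_prodL (valid_of_invOf inv_c1) gw1 words_ok.1]; exact hprod _
    · rw [perm_eq_prodL (valid_of_invOf inv_c2) gw2 words_ok.2]; exact hprod _
  have hlow : 17971200 ≤ Nat.card Ψ.range := by
    rw [← card_T]
    exact Subgroup.card_le_of_le hT
  obtain ⟨hinj, hcard⟩ := injective_of_card_le Ψ card_le hlow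
  refine ⟨?_, hcard⟩
  have hrange : Ψ.range = T := by
    symm
    apply Subgroup.eq_of_le_of_card_ge hT
    rw [card_T, ← hcard]
    exact Nat.card_le_card_of_surjective Ψ.rangeRestrict Ψ.rangeRestrict_surjective
  exact ⟨(MonoidHom.ofInjective hinj).trans (MulEquiv.subgroupCongr hrange)⟩

theorem card_eq : Nat.card PG = 17971200 := exists_iso_T.2

/-! ### the subgroup is the presented `L₃(3)` -/

theorem card_H : Nat.card H = 5616 := by
  have h := H.index_mul_card
  rw [index_H, card_eq] at h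
  omega

/-- the subgroup is the presented group `L₃(3)` -/
noncomputable def eH : PH ≃* ↥H := by
  have hr : ∀ x, ψ x ∈ H := fun x => by rw [← range_ψ]; exact ⟨x, rfl⟩
  let ψ' : PH →* ↥H := ψ.codRestrict H hr
  have hs : Function.Surjective ψ' := by
    rintro ⟨y, hy⟩
    rw [← range_ψ] at hy
    obtain ⟨x, rfl⟩ := hy
    exact ⟨x, rfl⟩
  exact MulEquiv.ofBijective ψ' (hs.bijective_of_nat_card_le (by
    rw [card_H]; exact Cfsg.Agent.Lib.Helper29.TitsSchurH.card_le))

theorem trivMult_H : TrivMult ↥H := Cfsg.Agent.Lib.Helper29.TitsSchurH.trivMult.congr eH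

theorem perfect_H : ⁅H, H⁆ = H := by
  have h1 : H = (⊤ : Subgroup PH).map ψ := by rw [← MonoidHom.range_eq_map, range_ψ]
  rw [h1, ← Subgroup.map_commutator, ← commutator_def, Cfsg.Agent.Lib.Helper29.TitsSchurH.perfect]

theorem prime_dvd_3200 {p : ℕ} (hp : p.Prime) (h : p ∣ 3200) : p = 2 ∨ p = 5 := by
  have h' : p ∣ 2 ^ 7 * 5 ^ 2 := h
  rcases (Nat.Prime.dvd_mul hp).mp h' with h1 | h1
  · left; exact (Nat.prime_dvd_prime_iff_eq hp Nat.prime_two).mp (hp.dvd_of_dvd_pow h1)
  · right; exact (Nat.prime_dvd_prime_iff_eq hp Nat.prime_five).mp (hp.dvd_of_dvd_pow h1)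

theorem hpaths2 : FoxTitsGP2.data.paths = relWords.map (pathOf lw) := by decide +kernel
theorem hpaths5 : FoxTitsGP5.data.paths = relWords.map (pathOf lw) := by decide +kernel

/-- every finite stem extension of the presented group is an isomorphism -/
theorem trivMult : TrivMult PG := by
  apply trivMult_of_exp
  intro p hp Γ _ _ σ hσ hexp
  obtain ⟨hidx, φ, hφ, f, hf, hfe, _⟩ := main
  obtain ⟨R⟩ := retraction_of_perfect σ hσ.1 hσ.2.1 H perfect_H trivMult_H
  by_cases hdiv : p ∣ 3200
  · rcases prime_dvd_3200 hp hdiv with rfl | rfl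
    · exact ker_eq_bot_of_fox rels relWords lw gi link.hrels hlw hgi H table hT hlwk φ hφ f hf hfe
        FoxTitsGP2.data rfl hDd hpaths2 FoxTitsGP2Chk.hstatic FoxTitsGP2Chk.hcyc σ hσ hexp R
    · exact ker_eq_bot_of_fox rels relWords lw gi link.hrels hlw hgi H table hT hlwk φ hφ f hf hfe
        FoxTitsGP5.data rfl hDd hpaths5 FoxTitsGP5Chk.hstatic FoxTitsGP5Chk.hcyc σ hσ hexp R
  · have hi : (H.comap σ).index = 3200 := by
      rw [Subgroup.index_comap_of_surjective H hσ.1]; exact index_H
    have : (H.comap σ).FiniteIndex := ⟨by rw [hi]; norm_num⟩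
    refine ker_eq_bot_of_transfer σ hσ p hexp (H.comap σ) ?_ R.comm_inter
    rw [hi]
    exact ((Nat.Prime.coprime_iff_not_dvd hp).mpr hdiv).symm

/-- the Schur multiplier of the Tits group is trivial -/
theorem schur_tits : Cfsg.HasCyclicSchurMultiplier Cfsg.Lie.TitsGroup 1 := by
  obtain ⟨e⟩ := exists_iso_T.1
  have e2 : PG ≃* Cfsg.Lie.TitsGroup := e.trans commEquivT.symm
  have : Finite Cfsg.Lie.TitsGroup := Finite.of_equiv PG e2.toEquiv
  exact hasCyclic_of_trivMult (trivMult.congr e2)

end Cfsg.Agent.Lib.Helper29.TitsSchurG
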