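import Cfsg.Agent.Lib.Helper28.SchurFoxG
import Cfsg.Agent.Lib.Helper28.TC2Tower
import Cfsg.Agent.Lib.Helper29.TCTitsHMain
import Cfsg.Agent.Lib.Helper29.FoxTitsHP2Chk
import Cfsg.Agent.Lib.Helper29.FoxTitsHP3Chk

set_option autoImplicit false
set_option maxRecDepth 100000

/-!
# The presented group `⟨a, b | a³, b³, (ab⁻¹)⁴, (ab)⁸, (aba⁻¹bab⁻¹a⁻¹b)³, (ababab⁻¹)¹³⟩` (it is `L₃(3)`)
has order at most 5616, is perfect and has trivial Schur multiplier

Fox-calculus certificates (helper28's `SchurFox`) over the coset table of the cyclic subgroup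
generated by `ababab⁻¹`, of index 432.
-/

namespace Cfsg.Agent.Lib.Helper29.TitsSchurH

open Cfsg.Agent.Lib.Helper28.SchurFox Cfsg.Agent.Lib.Helper28.TC2Lower Cfsg.Agent.Lib.Helper28.TC2Glue
open Cfsg.Agent.Lib.Helper29.TCTitsHLink Cfsg.Agent.Lib.Helper29.TCTitsHTable
open Cfsg.Agent.Lib.Helper29.TCTitsHMain
open Cfsg.Agent.Lib.Helper29.TitsHDef (Gen)

/-- the presented group -/
abbrev PH : Type := PresentedGroup rels

/-- the cyclic subgroup of the enumeration -/
abbrev H : Subgroup PH := (Subgroup.closure S).map (PresentedGroup.mk rels)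

/-- index of a generator -/
def gi : Gen → ℕ
  | .a => 0
  | .b => 1

theorem hlw : ∀ x b, lw (x, b) = 2 * gi x + cond b 0 1 := by
  rintro x b; cases x <;> cases b <;> rfl

theorem hgi : Function.Injective gi := by
  intro x y h; cases x <;> cases y <;> simp_all [gi]

theorem hlwk : ∀ x, lw (x, true) < table.k := by
  intro x; cases x <;> decide

theorem hDd : ∀ k < 2, ∃ x, gi x = k := by
  intro k hk
  interval_cases k
  exacts [⟨.a, rfl⟩, ⟨.b, rfl⟩]

/-- the word `ababab⁻¹` -/
def uW : List (Gen × Bool) := [(.a, true), (.b, true), (.a, true), (.b, true), (.a, true), (.b, false)]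

/-- the element `ababab⁻¹` -/
def u : PH := PresentedGroup.mk rels (FreeGroup.mk uW)

theorem H_eq : H = Subgroup.zpowers u := by
  show (Subgroup.closure {FreeGroup.mk uW}).map _ = _
  rw [MonoidHom.map_closure, Set.image_singleton, Subgroup.zpowers_eq_closure]
  rfl

theorem pow_uW : (FreeGroup.mk uW) ^ 13 = FreeGroup.mk (relWords.getD 5 []) := by
  decide +kernel

theorem u_pow : u ^ 13 = 1 := by
  have hm : FreeGroup.mk (relWords.getD 5 []) ∈ rels := ⟨_, by decide, rfl⟩
  have h := PresentedGroup.one_of_mem hm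
  have e : u ^ 13 = PresentedGroup.mk rels ((FreeGroup.mk uW) ^ 13) := by
    unfold u
    rw [map_pow]
  rw [e, pow_uW]
  exact h

theorem card_H_le : Nat.card H ≤ 13 := by
  rw [H_eq, Nat.card_zpowers]
  exact Nat.le_of_dvd (by norm_num) (orderOf_dvd_of_pow_eq_one u_pow)

theorem finite_H : Finite H := by
  apply Nat.finite_of_card_ne_zero
  rw [H_eq, Nat.card_zpowers]
  exact (orderOf_pos_iff.mpr (isOfFinOrder_iff_pow_eq_one.mpr ⟨13, by norm_num, u_pow⟩)).ne'

theorem index_H : H.index = 432 := main.1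

instance finite_PH : Finite PH := by
  have := finite_H
  exact Cfsg.Agent.Lib.Helper28.TC2Tower.finite_of_index H (by rw [index_H]; norm_num)

theorem card_le : Nat.card PH ≤ 5616 :=
  Cfsg.Agent.Lib.Helper28.TC2Tower.card_le_of_index H index_H card_H_le

theorem prime_dvd_432 {p : ℕ} (hp : p.Prime) (h : p ∣ 432) : p = 2 ∨ p = 3 := by
  have h' : p ∣ 2 ^ 4 * 3 ^ 3 := h
  rcases (Nat.Prime.dvd_mul hp).mp h' with h1 | h1
  · left; exact (Nat.prime_dvd_prime_iff_eq hp Nat.prime_two).mp (hp.dvd_of_dvd_pow h1)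
  · right; exact (Nat.prime_dvd_prime_iff_eq hp Nat.prime_three).mp (hp.dvd_of_dvd_pow h1)

theorem hpaths2 : FoxTitsHP2.data.paths = relWords.map (pathOf lw) := by decide +kernel
theorem hpaths3 : FoxTitsHP3.data.paths = relWords.map (pathOf lw) := by decide +kernel

/-- every finite stem extension of the presented group is an isomorphism -/
theorem trivMult : TrivMult PH := by
  apply trivMult_of_exp
  intro p hp Γ _ _ σ hσ hexp
  obtain ⟨hidx, φ, hφ, f, hf, hfe, _⟩ := main
  by_cases hdiv : p ∣ 432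
  · rcases prime_dvd_432 hp hdiv with rfl | rfl
    · obtain ⟨R⟩ := retraction_of_zpowers σ hσ.1 hσ.2.1 2 hexp u 13 13 6 u_pow rfl (dvd_refl _)
      rw [← H_eq] at R
      exact ker_eq_bot_of_fox rels relWords lw gi link.hrels hlw hgi H table hT hlwk φ hφ f hf hfe
        FoxTitsHP2.data rfl hDd hpaths2 FoxTitsHP2Chk.hstatic FoxTitsHP2Chk.hcyc σ hσ hexp R
    · obtain ⟨R⟩ := retraction_of_zpowers σ hσ.1 hσ.2.1 3 hexp u 13 13 4 u_pow rfl (dvd_refl _)
      rw [← H_eq] at R
      exact ker_eq_bot_of_fox rels relWords lw gi link.hrels hlw hgi H table hT hlwk φ hφ f hf hfe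
        FoxTitsHP3.data rfl hDd hpaths3 FoxTitsHP3Chk.hstatic FoxTitsHP3Chk.hcyc σ hσ hexp R
  · have hi : (H.comap σ).index = 432 := by
      rw [Subgroup.index_comap_of_surjective H hσ.1]; exact index_H
    have : (H.comap σ).FiniteIndex := ⟨by rw [hi]; norm_num⟩
    refine ker_eq_bot_of_transfer σ hσ p hexp (H.comap σ) ?_ ?_
    · rw [hi]
      exact ((Nat.Prime.coprime_iff_not_dvd hp).mpr hdiv).symm
    · rw [H_eq]
      exact comm_inter_zpowers σ hσ.1 hσ.2.1 u

/-- the left inverse of the exponent matrix -/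
def Smat : List (List ℤ) := [[-1, -20, -7, 4, 0, 0], [0, -5, -2, 1, 0, 0]]

theorem perfect : commutator PH = ⊤ := by
  apply commutator_eq_top_of_matrix rels relWords lw gi link.hrels hlw hgi 2 (by intro x; cases x <;> decide)
    (fun y j => (Smat.getD y []).getD j 0)
  decide +kernel

end Cfsg.Agent.Lib.Helper29.TitsSchurH
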