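import Mathlib

/-!
# Involutions acting as transvections over `ZMod 2` and the odd-order elements they invert
(support for S4410)
-/

set_option autoImplicit false
set_option linter.style.haveILetI false
set_option linter.unusedSimpArgs false

namespace Cfsg.Agent.Lib.Helper29.Transv

open ZModModule

variable {Γ V : Type*} [Group Γ] [AddCommGroup V] [Module (ZMod 2) V]

/-- `t` is an involution acting on `V` as a transvection with centre `v` -/
structure TV (ρ : Γ →* (V ≃ₗ[ZMod 2] V)) (t : Γ) (v : V) : Prop where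
  inj : Function.Injective ρ
  sq : t * t = 1
  ne : v ≠ 0
  rng : ∀ x, ρ t x - x = 0 ∨ ρ t x - x = v
  ex : ∃ x, ρ t x - x = v

namespace TV

variable {ρ : Γ →* (V ≃ₗ[ZMod 2] V)} {t : Γ} {v : V}

theorem act_mul (ρ : Γ →* (V ≃ₗ[ZMod 2] V)) (g h : Γ) (x : V) : ρ (g * h) x = ρ g (ρ h x) := by
  rw [map_mul, LinearEquiv.mul_apply]

theorem act_one (ρ : Γ →* (V ≃ₗ[ZMod 2] V)) (x : V) : ρ 1 x = x := by
  rw [map_one]; rfl

theorem act_inv (ρ : Γ →* (V ≃ₗ[ZMod 2] V)) (g : Γ) (x : V) : ρ g⁻¹ (ρ g x) = x := by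
  rw [← act_mul, inv_mul_cancel, act_one]

theorem fix_v (T : TV ρ t v) : ρ t v = v := by
  rcases T.rng v with h | h
  · exact sub_eq_zero.mp h
  · exfalso
    have : ρ t v = 0 := by
      have h2 : ρ t v = v + v := sub_eq_iff_eq_add.mp h
      rw [h2, add_self]
    have h3 : ρ t v = ρ t 0 := by rw [this, map_zero]
    exact T.ne ((ρ t).injective h3)

theorem comm_fix (T : TV ρ t v) (g : Γ) (hg : g * t = t * g) : ρ g v = v := by
  obtain ⟨x, hx⟩ := T.ex
  have h1 : ρ g v = ρ t (ρ g x) - ρ g x := by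
    rw [← hx, map_sub, ← act_mul, ← act_mul, hg]
  rcases T.rng (ρ g x) with h | h
  · exfalso
    rw [h] at h1
    have h3 : ρ g v = ρ g 0 := by rw [h1, map_zero]
    exact T.ne ((ρ g).injective h3)
  · rw [h1, h]

/-- the square of an element inverted by `t` moves every vector inside `⟨v, g v⟩` -/
theorem sq_range (T : TV ρ t v) (g : Γ) (hinv : t * g * t = g⁻¹) (x : V) :
    ∃ a b : V, (a = 0 ∨ a = v) ∧ (b = 0 ∨ b = ρ g v) ∧ ρ (g * g) x - x = a + b := by
  have htt : ∀ y : Γ, t * (t * y) = y := fun y => by rw [← mul_assoc, T.sq, one_mul]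
  have hgg : g * g = g * t * g⁻¹ * t := by
    rw [← hinv]
    simp only [mul_assoc, htt, T.sq, mul_one]
  set u := ρ t x with hu
  set z := ρ g⁻¹ u with hz
  have h1 : ρ (g * g) x = ρ g (ρ t z) := by
    rw [hgg, act_mul, act_mul, act_mul]
  have hgz : ρ g z = u := by
    rw [hz]
    have := act_inv ρ g⁻¹ u
    rwa [inv_inv] at this
  refine ⟨u - x, ρ g (ρ t z - z), T.rng x, ?_, ?_⟩
  · rcases T.rng z with h | h
    · left; rw [h, map_zero]
    · right; rw [h]
  · rw [h1, map_sub, hgz]
    abel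


theorem t_inv (T : TV ρ t v) : t⁻¹ = t := inv_eq_of_mul_eq_one_right T.sq

theorem inv_pow (T : TV ρ t v) (g : Γ) (hinv : t * g * t = g⁻¹) (n : ℕ) :
    t * g ^ n * t = (g ^ n)⁻¹ := by
  have h1 : t * g * t⁻¹ = g⁻¹ := by rw [T.t_inv]; exact hinv
  have h2 := conj_pow (a := t) (b := g) (i := n)
  rw [h1] at h2
  rw [← _root_.inv_pow, h2, T.t_inv]

theorem odd_pow (g : Γ) (hodd : Odd (orderOf g)) (n : ℕ) : Odd (orderOf (g ^ n)) :=
  Odd.of_dvd_nat hodd (orderOf_pow_dvd n)

theorem eq_one_of_odd_of_pow (g : Γ) (hodd : Odd (orderOf g)) (k : ℕ) (h : g ^ (2 ^ k) = 1) :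
    g = 1 := by
  have h1 : orderOf g ∣ 2 ^ k := orderOf_dvd_of_pow_eq_one h
  have h2 : Nat.Coprime (orderOf g) (2 ^ k) := Nat.Coprime.pow_right k hodd.coprime_two_right
  exact orderOf_eq_one_iff.mp (Nat.Coprime.eq_one_of_dvd h2 h1)

/-- an odd-order element inverted by `t` and fixing `v` is trivial -/
theorem eq_one_of_fix (T : TV ρ t v) (g : Γ) (hinv : t * g * t = g⁻¹) (hodd : Odd (orderOf g))
    (hgv : ρ g v = v) : g = 1 := by
  have h1 : ∀ x, ρ (g * g) x - x = 0 ∨ ρ (g * g) x - x = v := by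
    intro x
    obtain ⟨a, b, ha, hb, hab⟩ := T.sq_range g hinv x
    rw [hgv] at hb
    rcases ha with ha | ha <;> rcases hb with hb | hb
    · left; rw [hab, ha, hb, add_zero]
    · right; rw [hab, ha, hb, zero_add]
    · right; rw [hab, ha, hb, add_zero]
    · left; rw [hab, ha, hb, add_self]
  have h2 : ρ (g * g) v = v := by rw [act_mul, hgv, hgv]
  have h3 : ∀ x, ρ ((g * g) * (g * g)) x = x := by
    intro x
    rw [act_mul]
    rcases h1 x with h | h
    · rw [sub_eq_zero.mp h, sub_eq_zero.mp h]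
    · have e : ρ (g * g) x = v + x := sub_eq_iff_eq_add.mp h
      rw [e, map_add, h2, e, ← add_assoc, add_self, zero_add]
  have h4 : (g * g) * (g * g) = 1 := by
    apply T.inj
    ext x
    rw [h3 x, act_one]
  apply eq_one_of_odd_of_pow g hodd 2
  rw [← h4]
  show g ^ 4 = g * g * (g * g)
  rw [pow_succ, pow_succ, pow_two, mul_assoc (g * g)]

/-- a nontrivial odd-order element inverted by `t` has order three -/
theorem cube (T : TV ρ t v) (g : Γ) (hinv : t * g * t = g⁻¹) (hodd : Odd (orderOf g))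
    (hne : g ≠ 1) : g * g * g = 1 ∧ ρ g (ρ g v) = v + ρ g v := by
  have hgv : ρ g v ≠ v := fun h => hne (T.eq_one_of_fix g hinv hodd h)
  have hinv2 : t * (g * g) * t = (g * g)⁻¹ := by
    have := T.inv_pow g hinv 2
    rwa [pow_two] at this
  have hinv3 : t * (g * g * g) * t = (g * g * g)⁻¹ := by
    have := T.inv_pow g hinv 3
    rwa [pow_succ, pow_two] at this
  have hodd2 : Odd (orderOf (g * g)) := by
    have := odd_pow g hodd 2
    rwa [pow_two] at this
  have hodd3 : Odd (orderOf (g * g * g)) := by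
    have := odd_pow g hodd 3
    rwa [pow_succ, pow_two] at this
  have key : ρ g (ρ g v) = v + ρ g v := by
    obtain ⟨a, b, ha, hb, hab⟩ := T.sq_range g hinv v
    rw [act_mul] at hab
    rcases ha with ha | ha <;> rcases hb with hb | hb <;> rw [ha, hb] at hab
    · exfalso
      rw [add_zero] at hab
      have h2 : ρ (g * g) v = v := by rw [act_mul]; exact sub_eq_zero.mp hab
      have h3 := T.eq_one_of_fix (g * g) hinv2 hodd2 h2
      apply hne
      apply eq_one_of_odd_of_pow g hodd 1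
      rw [pow_one, pow_two]; exact h3
    · rw [zero_add] at hab
      have := sub_eq_iff_eq_add.mp hab
      rw [this, add_comm]
    · exfalso
      rw [add_zero] at hab
      have h2 : ρ g (ρ g v) = v + v := sub_eq_iff_eq_add.mp hab
      rw [add_self] at h2
      have h3 : ρ g (ρ g v) = ρ g (ρ g 0) := by rw [h2, map_zero, map_zero]
      exact T.ne ((ρ g).injective ((ρ g).injective h3))
    · exfalso
      have h2 : ρ g (ρ g v) = v + ρ g v + v := sub_eq_iff_eq_add.mp hab
      have h3 : ρ g (ρ g v) = ρ g v := by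
        rw [h2, add_comm v, add_assoc, add_self, add_zero]
      exact hgv ((ρ g).injective h3)
  refine ⟨?_, key⟩
  apply T.eq_one_of_fix (g * g * g) hinv3 hodd3
  rw [act_mul, act_mul, key, map_add, key, add_comm v, ← add_assoc, add_self, zero_add]


theorem inv_mul (T : TV ρ t v) (a b : Γ) (ha : t * a * t = a⁻¹) (hb : t * b * t = b⁻¹)
    (hab : a * b = b * a) : t * (a * b) * t = (a * b)⁻¹ := by
  have h1 : t * (a * b) * t = (t * a * t) * (t * b * t) := by
    have htt : ∀ y : Γ, t * (t * y) = y := fun y => by rw [← mul_assoc, T.sq, one_mul]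
    simp only [mul_assoc, htt]
  rw [h1, ha, hb, hab, mul_inv_rev]

theorem odd_mul (a b : Γ) (ha : Odd (orderOf a)) (hb : Odd (orderOf b)) (hab : Commute a b) :
    Odd (orderOf (a * b)) := by
  have h1 : (a * b) ^ (orderOf a * orderOf b) = 1 := by
    rw [hab.mul_pow, pow_mul, pow_orderOf_eq_one, one_pow, mul_comm, pow_mul, pow_orderOf_eq_one,
      one_pow, one_mul]
  exact Odd.of_dvd_nat (ha.mul hb) (orderOf_dvd_of_pow_eq_one h1)

/-- commuting inverted elements: everything lies in one subgroup of order three -/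
theorem mem_powers (T : TV ρ t v) (h y : Γ) (hhodd : Odd (orderOf h)) (hyodd : Odd (orderOf y))
    (hhinv : t * h * t = h⁻¹) (hyinv : t * y * t = y⁻¹)
    (hcomm : h * y = y * h) (hy1 : y ≠ 1) : h = 1 ∨ h = y ∨ h = y * y := by
  by_contra hcon
  push Not at hcon
  obtain ⟨h1, h2, h3⟩ := hcon
  obtain ⟨hy3, ey⟩ := T.cube y hyinv hyodd hy1
  obtain ⟨hh3, eh⟩ := T.cube h hhinv hhodd h1
  have hyi : y⁻¹ = y * y := inv_eq_of_mul_eq_one_left hy3
  have hyyi : (y * y)⁻¹ = y := inv_eq_of_mul_eq_one_left (by rw [← mul_assoc]; exact hy3)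
  have n1 : h * y ≠ 1 := by
    intro e
    exact h3 ((eq_inv_of_mul_eq_one_left e).trans hyi)
  have n2 : h * (y * y) ≠ 1 := by
    intro e
    exact h2 ((eq_inv_of_mul_eq_one_left e).trans hyyi)
  have hcomm2 : h * (y * y) = (y * y) * h := by
    rw [← mul_assoc, hcomm, mul_assoc, hcomm, ← mul_assoc]
  have hyyodd : Odd (orderOf (y * y)) := by
    have := odd_pow y hyodd 2
    rwa [pow_two] at this
  have hyyinv : t * (y * y) * t = (y * y)⁻¹ := by
    have := T.inv_pow y hyinv 2
    rwa [pow_two] at this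
  obtain ⟨-, e3⟩ := T.cube (h * y) (T.inv_mul h y hhinv hyinv hcomm)
    (odd_mul h y hhodd hyodd hcomm) n1
  obtain ⟨-, e4⟩ := T.cube (h * (y * y)) (T.inv_mul h (y * y) hhinv hyyinv hcomm2)
    (odd_mul h (y * y) hhodd hyyodd hcomm2) n2
  -- commutation on vectors
  have cm : ∀ x, ρ h (ρ y x) = ρ y (ρ h x) := by
    intro x
    rw [← act_mul, ← act_mul, hcomm]
  have y3 : ∀ x, ρ y (ρ y (ρ y x)) = x := by
    intro x
    rw [← act_mul, ← act_mul, hy3, act_one]
  have f1 : ∀ x, ρ (h * y) x = ρ y (ρ h x) := by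
    intro x; rw [hcomm, act_mul]
  have f2 : ∀ x, ρ (h * (y * y)) x = ρ y (ρ y (ρ h x)) := by
    intro x; rw [hcomm2, act_mul, act_mul]
  rw [f1, f1, cm, eh, map_add, map_add] at e3
  rw [f2, f2, cm, cm, y3, eh, map_add] at e4
  -- e3 : Y (Y v) + Y (Y a) = v + Y a ; e4 : Y v + Y a = v + Y (Y a)
  have s : ρ y (ρ y v) + ρ y v = 0 := by
    have e : ρ y (ρ y v) + ρ y v
        = (ρ y (ρ y v) + ρ y (ρ y (ρ h v))) + (ρ y v + ρ y (ρ h v))
          - (ρ y (ρ y (ρ h v)) + ρ y (ρ h v)) := by abel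
    rw [e, e3, e4]
    have e' : v + ρ y (ρ h v) + (v + ρ y (ρ y (ρ h v))) - (ρ y (ρ y (ρ h v)) + ρ y (ρ h v))
        = v + v := by abel
    rw [e', add_self]
  rw [ey, add_assoc, add_self, add_zero] at s
  exact T.ne s


/-- an inverted odd-order element moves every vector inside `⟨v, h v⟩` -/
theorem range_mem (T : TV ρ t v) (h : Γ) (hhodd : Odd (orderOf h)) (hhinv : t * h * t = h⁻¹)
    (U : Submodule (ZMod 2) V) (hv : v ∈ U) (hhv : ρ h v ∈ U) (x : V) : ρ h x - x ∈ U := by
  by_cases h1 : h = 1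
  · rw [h1, act_one, sub_self]; exact U.zero_mem
  have hsq : ∀ z, ρ (h * h) z - z ∈ U := by
    intro z
    obtain ⟨a, b, ha, hb, hab⟩ := T.sq_range h hhinv z
    rw [hab]
    apply U.add_mem
    · rcases ha with ha | ha
      · rw [ha]; exact U.zero_mem
      · rw [ha]; exact hv
    · rcases hb with hb | hb
      · rw [hb]; exact U.zero_mem
      · rw [hb]; exact hhv
  obtain ⟨hh3, -⟩ := T.cube h hhinv hhodd h1
  have h4 : h = (h * h) * (h * h) := by
    have : (h * h) * (h * h) = (h * h * h) * h := by group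
    rw [this, hh3, one_mul]
  have e : ρ h x - x = (ρ (h * h) (ρ (h * h) x) - ρ (h * h) x) + (ρ (h * h) x - x) := by
    rw [← act_mul, ← h4]; abel
  rw [e]
  exact U.add_mem (hsq _) (hsq _)

/-- a central element of `⟨h, k⟩` fixed by `t` is trivial -/
theorem central_trivial (T : TV ρ t v) (h k c : Γ) (hhodd : Odd (orderOf h))
    (hkodd : Odd (orderOf k)) (hcodd : Odd (orderOf c))
    (hhinv : t * h * t = h⁻¹) (hkinv : t * k * t = k⁻¹)
    (hc : c ∈ Subgroup.closure {h, k}) (hct : c * t = t * c) (hch : c * h = h * c)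
    (hck : c * k = k * c) : c = 1 := by
  set U : Submodule (ZMod 2) V := Submodule.span (ZMod 2) {v, ρ h v, ρ k v} with hU
  have hvU : v ∈ U := Submodule.subset_span (by simp)
  have hhU : ρ h v ∈ U := Submodule.subset_span (by simp)
  have hkU : ρ k v ∈ U := Submodule.subset_span (by simp)
  have hpred : ∀ g ∈ Subgroup.closure {h, k}, ∀ x, ρ g x - x ∈ U := by
    intro g hg
    refine Subgroup.closure_induction (p := fun g _ => ∀ x, ρ g x - x ∈ U) ?_ ?_ ?_ ?_ hg
    · rintro g (rfl | rfl) x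
      · exact T.range_mem g hhodd hhinv U hvU hhU x
      · exact T.range_mem g hkodd hkinv U hvU hkU x
    · intro x
      rw [act_one, sub_self]; exact U.zero_mem
    · intro a b _ _ ha hb x
      have e : ρ (a * b) x - x = (ρ a (ρ b x) - ρ b x) + (ρ b x - x) := by
        rw [act_mul]; abel
      rw [e]
      exact U.add_mem (ha _) (hb _)
    · intro a _ ha x
      have e : ρ a⁻¹ x - x = -(ρ a (ρ a⁻¹ x) - ρ a⁻¹ x) := by
        have := act_inv ρ a⁻¹ x
        rw [inv_inv] at this
        rw [this]; abel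
      rw [e]
      exact U.neg_mem (ha _)
  have hcv : ρ c v = v := T.comm_fix c hct
  have hfix : ∀ u ∈ U, ρ c u = u := by
    intro u hu
    refine Submodule.span_induction (p := fun u _ => ρ c u = u) ?_ ?_ ?_ ?_ hu
    · rintro u (rfl | rfl | rfl)
      · exact hcv
      · rw [← act_mul, hch, act_mul, hcv]
      · rw [← act_mul, hck, act_mul, hcv]
    · exact map_zero _
    · intro a b _ _ ha hb
      rw [map_add, ha, hb]
    · intro r a _ ha
      rw [map_smul, ha]
  have hcc : c * c = 1 := by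
    apply T.inj
    ext x
    rw [act_mul, act_one]
    have h1 := hpred c hc x
    have h2 := hfix _ h1
    rw [map_sub] at h2
    have h3 : ρ c (ρ c x) = ρ c x - x + ρ c x := sub_eq_iff_eq_add.mp h2
    rw [h3, sub_eq_add (ρ c x) x, add_comm (ρ c x) x, add_assoc, add_self, add_zero]
  apply eq_one_of_odd_of_pow c hcodd 1
  rw [pow_one, pow_two]; exact hcc

end TV

variable {ρ : Γ →* (V ≃ₗ[ZMod 2] V)} {t : Γ} {v : V}

/-- inside a nilpotent subgroup of odd order, the nontrivial elements inverted by `t` form (with the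
identity) a single subgroup of order three -/
theorem TV.unique_inverted (T : TV ρ t v) (F : Subgroup Γ) (hFnil : Group.IsNilpotent F)
    (hFodd : ∀ g ∈ F, Odd (orderOf g)) (h k : Γ) (hh : h ∈ F) (hk : k ∈ F)
    (hhinv : t * h * t = h⁻¹) (hkinv : t * k * t = k⁻¹) (hh1 : h ≠ 1) (hk1 : k ≠ 1) :
    k = h ∨ k = h * h := by
  set G₃ : Subgroup Γ := Subgroup.closure {h, k} with hG₃
  have hle : G₃ ≤ F := by
    rw [hG₃, Subgroup.closure_le]
    rintro x (rfl | rfl)
    · exact hh
    · exact hk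
  have hhG : h ∈ G₃ := Subgroup.subset_closure (by simp)
  have hkG : k ∈ G₃ := Subgroup.subset_closure (by simp)
  haveI : Group.IsNilpotent ↥(G₃.subgroupOf F) := inferInstance
  haveI : Group.IsNilpotent ↥G₃ :=
    Group.nilpotent_of_mulEquiv (Subgroup.subgroupOfEquivOfLe hle)
  haveI : Nontrivial ↥G₃ := ⟨⟨⟨h, hhG⟩, 1, fun e => hh1 (congrArg Subtype.val e)⟩⟩
  have hcen := Group.IsNilpotent.center_ne_bot (G := ↥G₃)
  obtain ⟨⟨z', hz'c⟩, hz'1⟩ := (Subgroup.ne_bot_iff_exists_ne_one.mp hcen)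
  set z : Γ := (z' : Γ) with hz
  have hzG : z ∈ G₃ := z'.2
  have hz1 : z ≠ 1 := by
    intro e
    apply hz'1
    apply Subtype.ext
    apply Subtype.ext
    exact e
  have hzc : ∀ g ∈ G₃, g * z = z * g := by
    intro g hg
    have := (Subgroup.mem_center_iff.mp hz'c) ⟨g, hg⟩
    exact congrArg Subtype.val this
  have htt : ∀ y : Γ, t * (t * y) = y := fun y => by rw [← mul_assoc, T.sq, one_mul]
  have htt' : ∀ y : Γ, y * t * t = y := fun y => by rw [mul_assoc, T.sq, mul_one]
  -- `t` normalizes `G₃`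
  have hconj : ∀ g ∈ G₃, t * g * t ∈ G₃ := by
    intro g hg
    refine Subgroup.closure_induction (p := fun g _ => t * g * t ∈ G₃) ?_ ?_ ?_ ?_ hg
    · rintro g (rfl | rfl)
      · rw [hhinv]; exact G₃.inv_mem hhG
      · rw [hkinv]; exact G₃.inv_mem hkG
    · rw [mul_one, T.sq]; exact G₃.one_mem
    · intro a b _ _ ha hb
      have e : t * (a * b) * t = (t * a * t) * (t * b * t) := by
        simp only [mul_assoc, htt]
      rw [e]; exact G₃.mul_mem ha hb
    · intro a _ ha
      have e : t * a⁻¹ * t = (t * a * t)⁻¹ := by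
        rw [mul_inv_rev, mul_inv_rev, T.t_inv, mul_assoc]
      rw [e]; exact G₃.inv_mem ha
  set w : Γ := t * z * t with hw
  have hwG : w ∈ G₃ := hconj z hzG
  have hwc : ∀ g ∈ G₃, g * w = w * g := by
    intro g hg
    have h1 := hzc (t * g * t) (hconj g hg)
    -- conjugate by `t`
    have h2 : t * ((t * g * t) * z) * t = t * (z * (t * g * t)) * t := by rw [h1]
    have e1 : t * ((t * g * t) * z) * t = g * w := by
      rw [hw]; simp only [mul_assoc, htt]
    have e2 : t * (z * (t * g * t)) * t = w * g := by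
      rw [hw]; simp only [mul_assoc, htt, T.sq, mul_one]
    rw [e1, e2] at h2
    exact h2
  set c : Γ := z * w with hc
  have hcG : c ∈ G₃ := G₃.mul_mem hzG hwG
  have hch : c * h = h * c := by
    rw [hc, mul_assoc, ← hwc h hhG, ← mul_assoc, ← hzc h hhG, mul_assoc]
  have hck : c * k = k * c := by
    rw [hc, mul_assoc, ← hwc k hkG, ← mul_assoc, ← hzc k hkG, mul_assoc]
  have htw : t * w * t = z := by
    rw [hw]; simp only [mul_assoc, htt, T.sq, mul_one]
  have hct : c * t = t * c := by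
    have e : t * c * t = c := by
      have e1 : t * c * t = (t * z * t) * (t * w * t) := by
        rw [hc]; simp only [mul_assoc, htt]
      rw [e1, htw, ← hw, hc]
      exact hzc w hwG
    calc c * t = (t * c * t) * t := by rw [e]
      _ = t * c := by rw [htt']
  have hc1 : c = 1 := T.central_trivial h k c (hFodd h hh) (hFodd k hk) (hFodd c (hle hcG))
    hhinv hkinv hcG hct hch hck
  have hzinv : t * z * t = z⁻¹ := by
    rw [← hw]
    exact (inv_eq_of_mul_eq_one_right (hc ▸ hc1)).symm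
  have hzodd : Odd (orderOf z) := hFodd z (hle hzG)
  obtain ⟨hz3, -⟩ := T.cube z hzinv hzodd hz1
  have hz4 : (z * z) * (z * z) = z := by
    have : (z * z) * (z * z) = (z * z * z) * z := by group
    rw [this, hz3, one_mul]
  rcases T.mem_powers h z (hFodd h hh) hzodd hhinv hzinv (hzc h hhG) hz1 with e | e | e
  · exact absurd e hh1
  · rcases T.mem_powers k z (hFodd k hk) hzodd hkinv hzinv (hzc k hkG) hz1 with e' | e' | e'
    · exact absurd e' hk1
    · left; rw [e, e']
    · right; rw [e, e']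
  · rcases T.mem_powers k z (hFodd k hk) hzodd hkinv hzinv (hzc k hkG) hz1 with e' | e' | e'
    · exact absurd e' hk1
    · right; rw [e, e', hz4]
    · left; rw [e, e']

end Cfsg.Agent.Lib.Helper29.Transv
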