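/-
helper29: S4540 / S4575 leaf (Z) `two_pow_succ_dvd_rsum` (frozen statement `notes/S4540_Z.lean`).

Route (everything inside `ℤ[X]`, no minimal polynomial / linear independence):
`n = 2^t`, `w` a primitive `2n`-th root of unity, `w^n = -1`; every `eps i j` is `w^e`, `e < 2n`;
`f = ∑ A i j * (X^e or -X^(e-n))` has `natDegree < n`, `f(w) = u`, and `f(1) = ∑ A i j * rVal (eps i j)`
(the terms with `e ∉ {0, n}` cancel in pairs `(i,j)`, `(j,i)`).  If `f(w)/2` is a local integer then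
`f = (1 - X)^s g + 2 r` for every `s ≤ n` (induction on `s`; `(1-X)^n = 1 + X^n + 2 G`, `G(1) = -1`), and
`s = n` gives `f ≡ (X^n + 1) g` mod `2`, so `2 ∣ f` by degrees.  Iterating `h` times and using
`P(w) ≡ P(1)` modulo the local ideal finishes.
-/
import Mathlib
import Cfsg.Agent.Lib.Helper23.SubsecG

set_option autoImplicit false

namespace Cfsg.Agent.Lib.Helper29.TwoMajZ

open Cfsg Cfsg.Agent.CharLib Cfsg.Agent.Lib.Helper24 Cfsg.Agent.Lib.Helper6 Cfsg.Agent.Lib.Helper23
open Cfsg.Agent.Lib.Helper23.Subsec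
open scoped ComplexConjugate
open Polynomial

/-! ### polynomial identities -/

theorem exists_G (k : ℕ) :
    ∃ G : ℤ[X], (1 - X : ℤ[X]) ^ (2 ^ k) = 1 + X ^ (2 ^ k) + 2 * G := by
  induction k with
  | zero => exact ⟨-X, by ring⟩
  | succ k ih =>
    obtain ⟨G, hG⟩ := ih
    refine ⟨X ^ (2 ^ k) + 2 * G + 2 * X ^ (2 ^ k) * G + 2 * G ^ 2, ?_⟩
    rw [pow_succ, pow_mul, pow_mul, hG]
    ring

theorem eval_one_G {k : ℕ} {G : ℤ[X]}
    (hG : (1 - X : ℤ[X]) ^ (2 ^ k) = 1 + X ^ (2 ^ k) + 2 * G) : G.eval 1 = -1 := by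
  have h := congrArg (Polynomial.eval (1 : ℤ)) hG
  simp only [eval_pow, eval_sub, eval_one, eval_X, eval_add, eval_mul, one_pow] at h
  have h0 : ((1 : ℤ) - 1) ^ (2 ^ k) = 0 := by
    rw [sub_self]; exact zero_pow (pow_ne_zero k two_ne_zero)
  rw [h0] at h
  have h2 : Polynomial.eval (1 : ℤ) (2 : ℤ[X]) = 2 := by simp
  rw [h2] at h
  omega

theorem aeval_two (w : ℂ) : aeval w (2 : ℤ[X]) = 2 := map_ofNat (aeval w) 2

/-! ### local facts -/

variable {M : Ideal AlgInt}

theorem isIntegral_aeval {w : ℂ} (hw : IsIntegral ℤ w) (P : ℤ[X]) : IsIntegral ℤ (aeval w P) := by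
  have h1 : Algebra.adjoin ℤ {w} ≤ integralClosure ℤ ℂ :=
    Algebra.adjoin_le (Set.singleton_subset_iff.mpr hw)
  exact h1 (Polynomial.aeval_mem_adjoin_singleton ℤ w)

theorem memLocalRing_aeval [hp : M.IsPrime] {w : ℂ} (hw : IsIntegral ℤ w) (P : ℤ[X]) :
    MemLocalRing M (aeval w P) :=
  memLocalRing_of_algInt (M := M) ⟨aeval w P, isIntegral_aeval hw P⟩ hp.one_notMem

theorem memLocalIdeal_aeval_sub_eval [hp : M.IsPrime] {w : ℂ} (hw : IsIntegral ℤ w)
    (hw1 : MemLocalIdeal M (w - 1)) (P : ℤ[X]) :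
    MemLocalIdeal M (aeval w P - ((P.eval 1 : ℤ) : ℂ)) := by
  obtain ⟨Q, hQ⟩ := Polynomial.X_sub_C_dvd_sub_C_eval (a := (1 : ℤ)) (p := P)
  have h := congrArg (aeval w) hQ
  have h2 : aeval w P - ((P.eval 1 : ℤ) : ℂ) = (w - 1) * aeval w Q := by
    simpa using h
  rw [h2]
  exact memLocalIdeal_mul_right hw1 (memLocalRing_aeval hw Q)

section chain

variable {t : ℕ} {w : ℂ}

theorem pow_two_pow_succ_eq_one (hwn : w ^ (2 ^ t) = -1) : w ^ (2 ^ (t + 1)) = 1 := by
  rw [pow_succ, pow_mul, hwn]; norm_num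

theorem isIntegral_of_pow (hwn : w ^ (2 ^ t) = -1) : IsIntegral ℤ w := by
  apply IsIntegral.of_pow (n := 2 ^ (t + 1)) (pow_pos two_pos _)
  rw [pow_two_pow_succ_eq_one hwn]; exact isIntegral_one

theorem memLocalIdeal_sub_one (hM : IsPModular 2 M) (hwn : w ^ (2 ^ t) = -1) :
    MemLocalIdeal M (w - 1) :=
  BrouePuig.memLocalIdeal_sub_one_of_pow_eq_one hM (k := t + 1) (pow_two_pow_succ_eq_one hwn)

theorem chain_step (hM : IsPModular 2 M) (hwn : w ^ (2 ^ t) = -1) (f : ℤ[X])
    (hloc : MemLocalRing M (aeval w f / 2)) :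
    ∀ s : ℕ, s ≤ 2 ^ t → ∃ g r : ℤ[X], f = (1 - X) ^ s * g + 2 * r := by
  have hprime : M.IsPrime := isPrime_of_isPModular hM
  have hwint : IsIntegral ℤ w := isIntegral_of_pow hwn
  have hw1 : MemLocalIdeal M (w - 1) := memLocalIdeal_sub_one hM hwn
  have hpi : MemLocalIdeal M (1 - w) := by
    have := memLocalIdeal_neg hw1
    rwa [neg_sub] at this
  obtain ⟨G, hG⟩ := exists_G t
  have hG1 : G.eval 1 = -1 := eval_one_G hG
  have hpin : (1 - w) ^ (2 ^ t) = 2 * aeval w G := by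
    have h := congrArg (aeval w) hG
    simp only [map_pow, map_sub, map_one, aeval_X, map_add, map_mul, aeval_two] at h
    rw [h, hwn]; ring
  have hGnot : ¬ MemLocalIdeal M (aeval w G) := by
    intro hmem
    have h1 := memLocalIdeal_aeval_sub_eval hwint hw1 G
    rw [hG1] at h1
    have h2 := memLocalIdeal_sub hmem h1
    have h3 : aeval w G - (aeval w G - (((-1 : ℤ)) : ℂ)) = -1 := by push_cast; ring
    rw [h3] at h2
    have h4 := memLocalIdeal_neg h2
    rw [neg_neg] at h4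
    exact not_memLocalIdeal_one h4
  intro s
  induction s with
  | zero => intro _; exact ⟨f, 0, by ring⟩
  | succ s ih =>
    intro hs
    obtain ⟨g, r, hgr⟩ := ih (by omega)
    have hslt : s < 2 ^ t := by omega
    have hgmem : MemLocalIdeal M (aeval w g) := by
      by_contra hnot
      have hgR : MemLocalRing M (aeval w g) := memLocalRing_aeval hwint g
      have hginv : MemLocalRing M (aeval w g)⁻¹ := memLocalRing_inv hgR hnot
      have hg0 : aeval w g ≠ 0 := by
        intro h0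
        apply hnot
        rw [h0]
        exact memLocalIdeal_zero hprime.one_notMem
      have hfw : aeval w f = (1 - w) ^ s * aeval w g + 2 * aeval w r := by
        have h := congrArg (aeval w) hgr
        simp only [map_pow, map_sub, map_one, aeval_X, map_add, map_mul, aeval_two] at h
        exact h
      have h1 : (1 - w) ^ s / 2 = (aeval w f / 2 - aeval w r) * (aeval w g)⁻¹ := by
        rw [hfw]; field_simp; ring
      have h2 : MemLocalRing M ((1 - w) ^ s / 2) := by
        rw [h1]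
        exact memLocalRing_mul (memLocalRing_sub hloc (memLocalRing_aeval hwint r)) hginv
      have h3 : (1 - w) ^ (2 ^ t) / 2
          = (1 - w) * ((1 - w) ^ (2 ^ t - s - 1) * ((1 - w) ^ s / 2)) := by
        have : 2 ^ t = 1 + (2 ^ t - s - 1) + s := by omega
        conv_lhs => rw [this]
        rw [pow_add, pow_add, pow_one]; ring
      have h4 : MemLocalIdeal M ((1 - w) ^ (2 ^ t) / 2) := by
        rw [h3]
        refine memLocalIdeal_mul_right hpi (memLocalRing_mul ?_ h2)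
        have : (1 - w) ^ (2 ^ t - s - 1) = aeval w ((1 - X : ℤ[X]) ^ (2 ^ t - s - 1)) := by simp
        rw [this]; exact memLocalRing_aeval hwint _
      rw [hpin] at h4
      have h5 : (2 : ℂ) * aeval w G / 2 = aeval w G := by field_simp
      rw [h5] at h4
      exact hGnot h4
    have h1 := memLocalIdeal_aeval_sub_eval hwint hw1 g
    have h2 : MemLocalIdeal M (((g.eval 1 : ℤ)) : ℂ) := by
      have := memLocalIdeal_sub hgmem h1
      rwa [sub_sub_cancel] at this
    have h3 : ((2 : ℕ) : ℤ) ∣ g.eval 1 := int_dvd_of_memLocalIdeal hM h2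
    obtain ⟨c, hc⟩ := h3
    obtain ⟨q, hq⟩ := Polynomial.X_sub_C_dvd_sub_C_eval (a := (1 : ℤ)) (p := g)
    rw [C_1] at hq
    have hC : (C (g.eval 1) : ℤ[X]) = 2 * C c := by
      rw [hc, C_mul]; simp
    refine ⟨-q, (1 - X) ^ s * C c + r, ?_⟩
    linear_combination hgr + (1 - X) ^ s * hq + (1 - X) ^ s * hC

theorem two_dvd_of_half (hM : IsPModular 2 M) (hwn : w ^ (2 ^ t) = -1) (f : ℤ[X])
    (hdeg : f.natDegree < 2 ^ t) (hloc : MemLocalRing M (aeval w f / 2)) :
    ∃ f₁ : ℤ[X], f = 2 * f₁ ∧ f₁.natDegree < 2 ^ t := by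
  obtain ⟨g, r, hgr⟩ := chain_step hM hwn f hloc (2 ^ t) le_rfl
  obtain ⟨G, hG⟩ := exists_G t
  have hf : f = (X ^ (2 ^ t) + C 1) * g + 2 * (G * g + r) := by
    rw [hgr, hG, C_1]; ring
  have h2 : (2 : (ZMod 2)[X]) = 0 := by
    have : ((2 : ℕ) : (ZMod 2)[X]) = 0 := CharP.cast_eq_zero _ 2
    exact_mod_cast this
  have hmap : f.map (Int.castRingHom (ZMod 2))
      = (X ^ (2 ^ t) + C 1) * g.map (Int.castRingHom (ZMod 2)) := by
    conv_lhs => rw [hf]
    simp only [Polynomial.map_add, Polynomial.map_mul, Polynomial.map_pow, Polynomial.map_X,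
      Polynomial.map_one, map_one, Polynomial.map_ofNat, h2, zero_mul, add_zero]
  have hg0 : g.map (Int.castRingHom (ZMod 2)) = 0 := by
    by_contra hne
    have hmonic : (X ^ (2 ^ t) + C (1 : ZMod 2)).Monic :=
      monic_X_pow_add_C 1 (pow_ne_zero t two_ne_zero)
    have hd := hmonic.natDegree_mul' hne
    rw [← hmap, natDegree_X_pow_add_C] at hd
    have := natDegree_map_le (f := Int.castRingHom (ZMod 2)) (p := f)
    omega
  rw [hg0, mul_zero] at hmap
  have hdvd : C (2 : ℤ) ∣ f := by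
    rw [C_dvd_iff_dvd_coeff]
    intro i
    have hc := congrArg (fun p => p.coeff i) hmap
    simp only [coeff_map, coeff_zero, eq_intCast] at hc
    have := (ZMod.intCast_zmod_eq_zero_iff_dvd (f.coeff i) 2).mp hc
    exact_mod_cast this
  obtain ⟨f₁, hf₁⟩ := hdvd
  refine ⟨f₁, ?_, ?_⟩
  · rw [hf₁]; simp
  · have : f.natDegree = f₁.natDegree := by
      rw [hf₁]; exact natDegree_C_mul two_ne_zero
    omega

theorem two_pow_dvd_of_local (hM : IsPModular 2 M) (hwn : w ^ (2 ^ t) = -1) :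
    ∀ (h : ℕ) (f : ℤ[X]), f.natDegree < 2 ^ t → MemLocalRing M (aeval w f / 2 ^ h) →
      ∃ f' : ℤ[X], f = 2 ^ h * f' := by
  have hprime : M.IsPrime := isPrime_of_isPModular hM
  intro h
  induction h with
  | zero => intro f _ _; exact ⟨f, by ring⟩
  | succ h ih =>
    intro f hdeg hloc
    have h1 : MemLocalRing M (aeval w f / 2) := by
      have e1 : aeval w f / 2 = (2 : ℂ) ^ h * (aeval w f / 2 ^ (h + 1)) := by
        rw [pow_succ]; field_simp
      rw [e1]
      refine memLocalRing_mul ?_ hloc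
      have e2 : ((2 : ℂ)) ^ h = (((2 ^ h : ℕ)) : ℂ) := by push_cast; rfl
      rw [e2]; exact memLocalRing_natCast _
    obtain ⟨f₁, hf₁, hdeg₁⟩ := two_dvd_of_half hM hwn f hdeg h1
    have h2 : MemLocalRing M (aeval w f₁ / 2 ^ h) := by
      have e1 : aeval w f₁ / 2 ^ h = aeval w f / 2 ^ (h + 1) := by
        rw [hf₁, map_mul, aeval_two, pow_succ]; field_simp
      rw [e1]; exact hloc
    obtain ⟨f', hf'⟩ := ih f₁ hdeg₁ h2
    exact ⟨f', by rw [hf₁, hf', pow_succ]; ring⟩

theorem two_pow_succ_dvd_eval_one (hM : IsPModular 2 M) (hwn : w ^ (2 ^ t) = -1) (f : ℤ[X])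
    (hdeg : f.natDegree < 2 ^ t) (h : ℕ) (hloc : MemLocalIdeal M (aeval w f / 2 ^ h)) :
    (2 : ℤ) ^ (h + 1) ∣ f.eval 1 := by
  have hprime : M.IsPrime := isPrime_of_isPModular hM
  obtain ⟨f', hf'⟩ :=
    two_pow_dvd_of_local hM hwn h f hdeg (memLocalRing_of_memLocalIdeal hloc)
  have hwint : IsIntegral ℤ w := isIntegral_of_pow hwn
  have hw1 : MemLocalIdeal M (w - 1) := memLocalIdeal_sub_one hM hwn
  have h1 : aeval w f / 2 ^ h = aeval w f' := by
    rw [hf', map_mul, map_pow, aeval_two]; field_simp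
  rw [h1] at hloc
  have h2 := memLocalIdeal_aeval_sub_eval hwint hw1 f'
  have h3 : MemLocalIdeal M (((f'.eval 1 : ℤ)) : ℂ) := by
    have := memLocalIdeal_sub hloc h2
    rwa [sub_sub_cancel] at this
  obtain ⟨c, hc⟩ := int_dvd_of_memLocalIdeal hM h3
  refine ⟨c, ?_⟩
  have e2 : Polynomial.eval (1 : ℤ) (2 : ℤ[X]) = 2 := by simp
  rw [hf', eval_mul, eval_pow, hc, e2, pow_succ]; push_cast; ring

end chain

/-! ### the polynomial attached to the data -/

/-- the representative of `w^e` of degree `< n` (`w^n = -1`) -/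
noncomputable def mono (n e : ℕ) : ℤ[X] := if e < n then X ^ e else - X ^ (e - n)

/-- its value at `1` -/
def sgn (n e : ℕ) : ℤ := if e < n then 1 else -1

theorem aeval_mono {n : ℕ} {w : ℂ} (hwn : w ^ n = -1) (e : ℕ) :
    aeval w (mono n e) = w ^ e := by
  unfold mono
  split_ifs with h
  · simp
  · have h1 : e = n + (e - n) := by omega
    conv_rhs => rw [h1, pow_add, hwn]
    simp

theorem natDegree_mono {n e : ℕ} (he : e < 2 * n) : (mono n e).natDegree ≤ n - 1 := by
  unfold mono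
  split_ifs with h
  · rw [natDegree_X_pow]; omega
  · rw [natDegree_neg, natDegree_X_pow]; omega

theorem eval_one_mono (n e : ℕ) : (mono n e).eval 1 = sgn n e := by
  unfold mono sgn
  split_ifs <;> simp

theorem rVal_pow {N n : ℕ} (hN : N = 2 * n) (hn : 0 < n) {w : ℂ} (hw : IsPrimitiveRoot w N)
    (hwn : w ^ n = -1) {e : ℕ} (he : e < N) :
    rVal (w ^ e) = if e = 0 then 1 else if e = n then -1 else 0 := by
  classical
  have h1 : w ^ e = 1 ↔ e = 0 := by
    constructor
    · intro h; exact hw.pow_inj he (by omega) (by rw [h, pow_zero])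
    · rintro rfl; exact pow_zero _
  have h2 : w ^ e = -1 ↔ e = n := by
    constructor
    · intro h; exact hw.pow_inj he (by omega) (by rw [h, hwn])
    · rintro rfl; exact hwn
  unfold rVal
  by_cases c1 : e = 0
  · rw [if_pos (h1.mpr c1), if_pos c1]
  · rw [if_neg (fun h => c1 (h1.mp h)), if_neg c1]
    by_cases c2 : e = n
    · rw [if_pos (h2.mpr c2), if_pos c2]
    · rw [if_neg (fun h => c2 (h2.mp h)), if_neg c2]

theorem sgn_sub_anti {n e e' : ℕ} (hn : 0 < n) (he : e < 2 * n) (he' : e' < 2 * n)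
    (h : e + e' = 0 ∨ e + e' = 2 * n) :
    (sgn n e' - (if e' = 0 then 1 else if e' = n then -1 else 0) : ℤ)
      = - (sgn n e - (if e = 0 then 1 else if e = n then -1 else 0)) := by
  unfold sgn
  split_ifs <;> omega

/-! ### the leaf -/

/-- (Z) -/
theorem two_pow_succ_dvd_rsum {M : Ideal AlgInt} (hM : IsPModular 2 M) {ι : Type*} [Fintype ι]
    (A : ι → ι → ℤ) (eps : ι → ι → ℂ) (hA : ∀ i j, A i j = A j i)
    (heps : ∀ i j, eps j i = conj (eps i j)) (t : ℕ) (heps2 : ∀ i j, eps i j ^ (2 ^ t) = 1)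
    (h : ℕ) (hloc : MemLocalIdeal M ((∑ i, ∑ j, (A i j : ℂ) * eps i j) / (2 : ℂ) ^ h)) :
    (2 : ℤ) ^ (h + 1) ∣ ∑ i, ∑ j, A i j * rVal (eps i j) := by
  classical
  obtain ⟨n, hn⟩ : ∃ n : ℕ, n = 2 ^ t := ⟨_, rfl⟩
  have hnpos : 0 < n := by rw [hn]; exact pow_pos two_pos t
  obtain ⟨N, hN⟩ : ∃ N : ℕ, N = 2 * n := ⟨_, rfl⟩
  have hN0 : N ≠ 0 := by omega
  have : NeZero N := ⟨hN0⟩
  obtain ⟨w, hw⟩ : ∃ w : ℂ, IsPrimitiveRoot w N := ⟨_, Complex.isPrimitiveRoot_exp N hN0⟩
  have hwn : w ^ n = -1 := by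
    have h1 : w ^ n * w ^ n = 1 := by
      rw [← pow_add, ← two_mul, ← hN]; exact hw.pow_eq_one
    rcases mul_self_eq_one_iff.mp h1 with h2 | h2
    · exact absurd h2 (hw.pow_ne_one_of_pos_of_lt (by omega) (by omega))
    · exact h2
  have hepsN : ∀ i j, eps i j ^ N = 1 := by
    intro i j
    rw [hN, hn, mul_comm, pow_mul, heps2, one_pow]
  choose e he_lt he using fun i j => hw.eq_pow_of_pow_eq_one (hepsN i j)
  obtain ⟨f, hf⟩ : ∃ f : ℤ[X], f = ∑ i, ∑ j, C (A i j) * mono n (e i j) := ⟨_, rfl⟩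
  have hfw : aeval w f = ∑ i, ∑ j, (A i j : ℂ) * eps i j := by
    rw [hf, map_sum]
    refine Finset.sum_congr rfl fun i _ => ?_
    rw [map_sum]
    refine Finset.sum_congr rfl fun j _ => ?_
    rw [map_mul, aeval_C, aeval_mono hwn, he]
    simp
  have hfdeg : f.natDegree < n := by
    have h1 : f.natDegree ≤ n - 1 := by
      rw [hf]
      refine natDegree_sum_le_of_forall_le _ _ fun i _ => ?_
      refine natDegree_sum_le_of_forall_le _ _ fun j _ => ?_
      exact (natDegree_C_mul_le _ _).trans (natDegree_mono (by rw [← hN]; exact he_lt i j))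
    omega
  have hf1 : f.eval 1 = ∑ i, ∑ j, A i j * sgn n (e i j) := by
    rw [hf, eval_finsetSum]
    refine Finset.sum_congr rfl fun i _ => ?_
    rw [eval_finsetSum]
    refine Finset.sum_congr rfl fun j _ => ?_
    rw [eval_mul, eval_C, eval_one_mono]
  have hdvd : (2 : ℤ) ^ (h + 1) ∣ f.eval 1 := by
    apply two_pow_succ_dvd_eval_one hM (t := t) (w := w) (hn ▸ hwn) f (hn ▸ hfdeg) h
    rw [hfw]; exact hloc
  have hT : ∀ i j, A j i * (sgn n (e j i) - rVal (eps j i))
      = - (A i j * (sgn n (e i j) - rVal (eps i j))) := by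
    intro i j
    have hsum_e : e i j + e j i = 0 ∨ e i j + e j i = 2 * n := by
      have h1 : w ^ (e i j + e j i) = 1 := by
        rw [pow_add, he, he, heps i j]
        have hnorm : ‖eps i j‖ = 1 := Complex.norm_eq_one_of_pow_eq_one (hepsN i j) hN0
        rw [Complex.mul_conj, Complex.normSq_eq_norm_sq, hnorm]; simp
      obtain ⟨c, hc⟩ := (hw.pow_eq_one_iff_dvd _).mp h1
      have hl1 := he_lt i j
      have hl2 := he_lt j i
      have hc2 : c < 2 := by
        by_contra hcc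
        rw [not_lt] at hcc
        have : N * 2 ≤ N * c := Nat.mul_le_mul_left N hcc
        omega
      interval_cases c
      · left; omega
      · right; omega
    rw [← he i j, ← he j i, rVal_pow hN hnpos hw hwn (he_lt i j),
      rVal_pow hN hnpos hw hwn (he_lt j i), hA j i,
      sgn_sub_anti hnpos (by rw [← hN]; exact he_lt i j) (by rw [← hN]; exact he_lt j i) hsum_e]
    ring
  have hzero : ∑ i, ∑ j, A i j * (sgn n (e i j) - rVal (eps i j)) = 0 := by
    have h1 : ∑ i, ∑ j, A i j * (sgn n (e i j) - rVal (eps i j))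
        = ∑ i, ∑ j, A j i * (sgn n (e j i) - rVal (eps j i)) := Finset.sum_comm
    have h2 : ∑ i, ∑ j, A j i * (sgn n (e j i) - rVal (eps j i))
        = - ∑ i, ∑ j, A i j * (sgn n (e i j) - rVal (eps i j)) := by
      rw [← Finset.sum_neg_distrib]
      refine Finset.sum_congr rfl fun i _ => ?_
      rw [← Finset.sum_neg_distrib]
      exact Finset.sum_congr rfl fun j _ => hT i j
    omega
  have h3 : ∑ i, ∑ j, A i j * (sgn n (e i j) - rVal (eps i j))
      = (∑ i, ∑ j, A i j * sgn n (e i j)) - ∑ i, ∑ j, A i j * rVal (eps i j) := by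
    rw [← Finset.sum_sub_distrib]
    refine Finset.sum_congr rfl fun i _ => ?_
    rw [← Finset.sum_sub_distrib]
    exact Finset.sum_congr rfl fun j _ => by ring
  have hsum : ∑ i, ∑ j, A i j * rVal (eps i j) = f.eval 1 := by
    rw [hf1]; linarith
  rw [hsum]; exact hdvd

end Cfsg.Agent.Lib.Helper29.TwoMajZ
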