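import Mathlib
import Cfsg.Agent.Lib.Helper29.WDDefs

/-!
# S3572, market "WD": auxiliary facts for the spine (no leaves used)
-/

set_option autoImplicit false
set_option linter.unusedSectionVars false
set_option linter.unusedVariables false

namespace Cfsg.Agent.Lib.Helper29.WDAux

open Finset DihedralGroup
open Cfsg.Agent.Lib.Helper19.SchurCyclic
open Cfsg.Agent.Lib.Helper7.DHB
open Cfsg.Agent.Lib.Helper29.WD
open scoped Classical

variable {n : ℕ} [NeZero n] {U : Type*} [Group U] {star : U → DihedralGroup n → DihedralGroup n}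
variable {T T₀ : Finset (DihedralGroup n)}

theorem nsmul_self_eq_zero (i : ZMod n) : n • i = 0 := by
  rw [nsmul_eq_mul, ZMod.natCast_self, zero_mul]

theorem addOrderOf_dvd_n (i : ZMod n) : addOrderOf i ∣ n :=
  addOrderOf_dvd_of_nsmul_eq_zero (nsmul_self_eq_zero i)

theorem exists_order {p : ℕ} (hp : p.Prime) (hpn : p ∣ n) : ∃ s : ZMod n, s ≠ 0 ∧ p • s = 0 := by
  obtain ⟨c, hc⟩ := hpn
  have hn0 : n ≠ 0 := NeZero.ne n
  have hc0 : c ≠ 0 := by rintro rfl; simp at hc; exact hn0 hc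
  refine ⟨(c : ZMod n), ?_, ?_⟩
  · intro h0
    rw [ZMod.natCast_eq_zero_iff] at h0
    have := Nat.le_of_dvd (Nat.pos_of_ne_zero hc0) h0
    have h3 : 2 * c ≤ p * c := Nat.mul_le_mul_right c hp.two_le
    rw [← hc] at h3
    have hcpos := Nat.pos_of_ne_zero hc0
    omega
  · rw [nsmul_eq_mul, ← Nat.cast_mul, ← hc, ZMod.natCast_self]

theorem mem_gen_of_mem {i : ZMod n} (hi : i ∈ XX T) (k : ℕ) : k • i ∈ gen T :=
  AddSubgroup.nsmul_mem _ (AddSubgroup.subset_closure (by simpa using hi)) k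

theorem hpD_of_order {p : ℕ} (hp : p.Prime) {i : ZMod n} (hi : i ∈ XX T) (hpi : p ∣ addOrderOf i) :
    ∃ s ∈ gen T, s ≠ 0 ∧ p • s = 0 := by
  have hpos : 0 < addOrderOf i := addOrderOf_pos i
  refine ⟨(addOrderOf i / p) • i, mem_gen_of_mem hi _, ?_, ?_⟩
  · intro h0
    have hd := addOrderOf_dvd_of_nsmul_eq_zero h0
    have hq : 0 < addOrderOf i / p := Nat.div_pos (Nat.le_of_dvd hpos hpi) hp.pos
    have h1 := Nat.le_of_dvd hq hd
    have h2 := Nat.div_lt_self hpos hp.one_lt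
    omega
  · rw [← mul_nsmul, Nat.div_mul_cancel hpi, addOrderOf_nsmul_eq_zero]

theorem hall_of (hmin : MinGen star T₀) (htop : gen T₀ = ⊤) :
    ∀ T' : Finset (DihedralGroup n), Good star T' → gen T' = ⊤ := by
  intro T' h
  have := hmin T' h
  rw [htop, lt_top_iff_ne_top, not_not] at this
  exact this

theorem minGen_of_hall (hall : ∀ T' : Finset (DihedralGroup n), Good star T' → gen T' = ⊤)
    (hT : gen T = ⊤) : MinGen star T := by
  intro T' h hlt
  rw [hall T' h, hT] at hlt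
  exact lt_irrefl _ hlt

theorem gen_erase_one (hn : 3 ≤ n) : gen (univ.erase (1 : DihedralGroup n)) = ⊤ := by
  have h1 : (1 : ZMod n) ∈ XX (univ.erase (1 : DihedralGroup n)) := by
    rw [mem_XX, Finset.mem_erase]
    refine ⟨?_, Finset.mem_univ _⟩
    intro h
    have h' : (1 : ZMod n) = 0 := by
      rw [DihedralGroup.one_def] at h
      exact DihedralGroup.r.inj h
    haveI : Fact (1 < n) := ⟨by omega⟩
    exact one_ne_zero h'
  rw [eq_top_iff]
  intro x _
  have : x = x.val • (1 : ZMod n) := by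
    rw [nsmul_eq_mul, mul_one, ZMod.natCast_zmod_val]
  rw [this]
  exact mem_gen_of_mem h1 _

theorem eq_erase_of_triv (h : Triv T) (hne : T.Nonempty) : T = univ.erase 1 := by
  rcases h with h | h
  · rw [h] at hne; exact absurd hne Finset.not_nonempty_empty
  · exact h

theorem odd_gen {k : ℕ} (hk : n = 2 ^ k) (s : ZMod n)
    (hs : s ∉ AddSubgroup.zmultiples (2 : ZMod n)) : AddSubgroup.zmultiples s = ⊤ := by
  have hodd : Odd s.val := by
    rw [← Nat.not_even_iff_odd]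
    rintro ⟨c, hc⟩
    apply hs
    rw [AddSubgroup.mem_zmultiples_iff]
    refine ⟨(c : ℤ), ?_⟩
    have : s = ((s.val : ℕ) : ZMod n) := (ZMod.natCast_zmod_val s).symm
    rw [this, hc, zsmul_eq_mul]
    push_cast
    ring
  have hcop : Nat.Coprime s.val n := by
    have h := Nat.Coprime.pow_right k (Nat.coprime_two_right.mpr hodd)
    rw [← hk] at h
    exact h
  set u := ZMod.unitOfCoprime s.val hcop with hu
  have hus : (u : ZMod n) = s := by
    rw [hu, ZMod.coe_unitOfCoprime, ZMod.natCast_zmod_val]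
  rw [eq_top_iff]
  intro x _
  rw [AddSubgroup.mem_zmultiples_iff]
  refine ⟨((x * ((u⁻¹ : (ZMod n)ˣ) : ZMod n)).val : ℤ), ?_⟩
  rw [zsmul_eq_mul, Int.cast_natCast, ZMod.natCast_zmod_val, ← hus, mul_assoc, Units.inv_mul, mul_one]

theorem two_pow_order_of {k m : ℕ} (hm : Odd m) (hnk : n = 2 ^ k * m) (i : ZMod n)
    (hi : ∃ j, 2 ^ j • i = 0) : 2 ^ k • i = 0 := by
  obtain ⟨j, hj⟩ := hi
  have h1 := addOrderOf_dvd_of_nsmul_eq_zero hj
  obtain ⟨a, -, ha⟩ := (Nat.dvd_prime_pow Nat.prime_two).1 h1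
  have h2 : addOrderOf i ∣ 2 ^ k * m := hnk ▸ addOrderOf_dvd_n i
  have hcop : Nat.Coprime (addOrderOf i) m := by
    rw [ha]
    exact Nat.Coprime.pow_left a (Nat.coprime_two_left.mpr hm)
  have h3 : addOrderOf i ∣ 2 ^ k := hcop.dvd_of_dvd_mul_right h2
  exact addOrderOf_dvd_iff_nsmul_eq_zero.mp h3


theorem smul_eq_zero_of_coprime {m : ℕ} (hm : m.Coprime n) (s : ZMod n) (h : m • s = 0) : s = 0 := by
  rw [nsmul_eq_mul] at h
  have hu : IsUnit ((m : ℕ) : ZMod n) := by
    have := (ZMod.unitOfCoprime m hm).isUnit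
    rwa [ZMod.coe_unitOfCoprime] at this
  exact (hu.mul_right_eq_zero).mp h

theorem zero_notMem_XX (h1 : (1 : DihedralGroup n) ∉ T) : (0 : ZMod n) ∉ XX T := by
  intro h
  rw [mem_XX] at h
  exact h1 (by rw [DihedralGroup.one_def]; exact h)

end Cfsg.Agent.Lib.Helper29.WDAux
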