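import Mathlib
import Cfsg.Agent.Lib.Helper29.WDBAS
import Cfsg.Agent.Lib.Helper21.WDF12
import Cfsg.Agent.Lib.Helper15.WDFROB
import Cfsg.Agent.Lib.Helper5.WDFIB
import Cfsg.Agent.Lib.Helper29.WDAux

/-!
# S3572, market "WD", leaf CHAIN
-/

set_option autoImplicit false
set_option linter.unusedSectionVars false
set_option linter.unusedVariables false

namespace Cfsg.Agent.Lib.Helper29.WDTop

open Finset DihedralGroup
open Cfsg.Agent.Lib.Helper19.SchurCyclic
open Cfsg.Agent.Lib.Helper7.DHB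
open Cfsg.Agent.Lib.Helper29.WD
open Cfsg.Agent.Lib.Helper29.WDLeaf
open Cfsg.Agent.Lib.Helper21.WDLeaf (symm)
open Cfsg.Agent.Lib.Helper15.WDLeaf (frob_r frob_sr)
open Cfsg.Agent.Lib.Helper5.WDLeaf (pinvoff_of_dvd_fibre)
open Cfsg.Agent.Lib.Helper29.WDAux

variable {n : ℕ} [NeZero n] {U : Type*} [Group U] {star : U → DihedralGroup n → DihedralGroup n}
variable {T : Finset (DihedralGroup n)}

/-- `p • D < D` when `D` contains an element of order `p`. -/
theorem map_nsmul_lt {p : ℕ} (D : AddSubgroup (ZMod n)) (hpD : ∃ s ∈ D, s ≠ 0 ∧ p • s = 0) :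
    D.map (nsmulAddMonoidHom (α := ZMod n) p) < D := by
  have hle : D.map (nsmulAddMonoidHom (α := ZMod n) p) ≤ D := by
    rintro x ⟨d, hd, rfl⟩
    exact AddSubgroup.nsmul_mem _ hd p
  refine lt_of_le_of_ne hle ?_
  intro heq
  obtain ⟨s, hsD, hs0, hsp⟩ := hpD
  let f : D → D := fun d => ⟨p • (d : ZMod n), AddSubgroup.nsmul_mem _ d.2 p⟩
  have hsurj : Function.Surjective f := by
    rintro ⟨y, hy⟩
    rw [← heq] at hy
    obtain ⟨d, hd, hdy⟩ := hy
    exact ⟨⟨d, hd⟩, Subtype.ext hdy⟩
  have hinj : Function.Injective f := Finite.injective_iff_surjective.mpr hsurj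
  have h1 : f ⟨s, hsD⟩ = f ⟨0, D.zero_mem⟩ := by
    apply Subtype.ext
    show p • s = p • (0 : ZMod n)
    rw [hsp, nsmul_zero]
  have := hinj h1
  exact hs0 (congrArg Subtype.val this)

theorem chain {p : ℕ} [Fact p.Prime] (hax : Ax star) (hprim : Prim star) (hn : 3 ≤ n) (hp2 : p ≠ 2) (hpn : p ∣ n)
    (hT : Good star T) (hmin : MinGen star T) (hpD : ∃ s ∈ gen T, s ≠ 0 ∧ p • s = 0) :
    PInvOff p (XX T) ∧
      (ind (ZMod p) (YY T) * ind (ZMod p) ((YY T).image Neg.neg)) ^ ((p - 1) / 2) * ind (ZMod p) (YY T) = 0 := by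
  classical
  have hp : p.Prime := Fact.out
  have hX := symm hax hprim hT.1
  set R : Finset (DihedralGroup n) :=
    ((univ : Finset (DihedralGroup n)).filter (fun g => ((eta (ZMod p) T) ^ p).coeff g ≠ 0)).erase 1 with hR
  have hRinv : Inv star R :=
    inv_erase_one hax (inv_filter hax (fun g => ((eta (ZMod p) T) ^ p).coeff g)
      (fun u g => coeff_pow_star hax hT.1 (ZMod p) p u g) (fun c => c ≠ 0) inv_univ)
  have hR1 : (1 : DihedralGroup n) ∉ R := Finset.notMem_erase _ _
  have hRe : R = ∅ := by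
    by_contra hne
    have hGR : Good star R := ⟨hRinv, hR1, Finset.nonempty_iff_ne_empty.mpr hne⟩
    apply hmin R hGR
    refine lt_of_le_of_lt ?_ (map_nsmul_lt (gen T) hpD)
    rw [gen, AddSubgroup.closure_le]
    intro i hi
    have hi' : i ∈ XX R := by simpa using hi
    rw [mem_XX, hR, Finset.mem_erase, Finset.mem_filter] at hi'
    have hc := hi'.2.2
    rw [frob_r hp2 T hX i] at hc
    have hne' : ((XX T).filter (fun s => p • s = i)).Nonempty := by
      rw [Finset.nonempty_iff_ne_empty]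
      intro he
      rw [he] at hc
      simp at hc
    obtain ⟨s, hs⟩ := hne'
    rw [Finset.mem_filter] at hs
    exact ⟨s, AddSubgroup.subset_closure (by simpa using hs.1), hs.2⟩
  have hcoeff : ∀ g : DihedralGroup n, g ≠ 1 → ((eta (ZMod p) T) ^ p).coeff g = 0 := by
    intro g hg
    by_contra hc
    have : g ∈ R := by
      rw [hR, Finset.mem_erase, Finset.mem_filter]
      exact ⟨hg, Finset.mem_univ _, hc⟩
    rw [hRe] at this
    exact Finset.notMem_empty _ this
  constructor
  · apply pinvoff_of_dvd_fibre hp hpn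
    intro i hi0
    have hri : r i ≠ 1 := by
      intro h
      rw [DihedralGroup.one_def] at h
      exact hi0 (DihedralGroup.r.inj h)
    have := hcoeff (r i) hri
    rw [frob_r hp2 T hX i] at this
    exact (ZMod.natCast_eq_zero_iff _ _).mp this
  · apply AddMonoidAlgebra.ext
    ext j
    rw [← frob_sr hp2 T hX j]
    have hsr : sr j ≠ 1 := by
      rw [DihedralGroup.one_def]
      exact fun h => by cases h
    rw [hcoeff (sr j) hsr]
    rfl

end Cfsg.Agent.Lib.Helper29.WDTop
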