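import Mathlib
import Cfsg.Agent.Lib.Helper29.WDDefs
import Cfsg.Agent.Lib.Helper29.WDBAS
import Cfsg.Agent.Lib.Helper29.WDAux

/-!
# S3572, market "WD", leaf MULT: `mult` and `rat_closure` from `mult_prime` (`_of` form)
-/

set_option autoImplicit false
set_option linter.unusedSectionVars false
set_option linter.unusedVariables false

namespace Cfsg.Agent.Lib.Helper29.WDMult

open Finset DihedralGroup
open Cfsg.Agent.Lib.Helper19.SchurCyclic
open Cfsg.Agent.Lib.Helper7.DHB
open Cfsg.Agent.Lib.Helper29.WD
open Cfsg.Agent.Lib.Helper29.WDLeaf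
open Cfsg.Agent.Lib.Helper29.WDAux

variable {n : ℕ} [NeZero n] {U : Type*} [Group U] {star : U → DihedralGroup n → DihedralGroup n}
variable {T : Finset (DihedralGroup n)}

/-- the statement of `mult_prime` -/
def MultPrime (star : U → DihedralGroup n → DihedralGroup n) : Prop :=
  ∀ {q : ℕ}, q.Prime → q ≠ 2 → ¬ q ∣ n → ∀ {T : Finset (DihedralGroup n)}, Inv star T →
    ∃ T' : Finset (DihedralGroup n), Inv star T' ∧ XX T' = mulSet q (XX T)

theorem mulSet_one (X : Finset (ZMod n)) : mulSet 1 X = X := by
  unfold mulSet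
  simp

theorem mulSet_mul (a b : ℕ) (X : Finset (ZMod n)) : mulSet (a * b) X = mulSet a (mulSet b X) := by
  unfold mulSet
  rw [Finset.image_image]
  apply Finset.image_congr
  intro s _
  simp only [Function.comp]
  rw [mul_nsmul, smul_comm]

theorem mulSet_add_n (m : ℕ) (X : Finset (ZMod n)) : mulSet (m + n) X = mulSet m X := by
  unfold mulSet
  apply Finset.image_congr
  intro s _
  simp only
  rw [add_nsmul, nsmul_self_eq_zero, add_zero]

theorem mulSet_mod (m : ℕ) (X : Finset (ZMod n)) : mulSet (m % n) X = mulSet m X := by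
  unfold mulSet
  apply Finset.image_congr
  intro s _
  simp only
  conv_rhs => rw [← Nat.mod_add_div m n]
  rw [add_nsmul, mul_nsmul, nsmul_self_eq_zero, nsmul_zero, add_zero]

/-- odd multipliers coprime to `n` -/
theorem mult_odd (hmp : MultPrime star) :
    ∀ m : ℕ, Odd m → m.Coprime n → ∀ {T : Finset (DihedralGroup n)}, Inv star T →
      ∃ T' : Finset (DihedralGroup n), Inv star T' ∧ XX T' = mulSet m (XX T) := by
  intro m
  induction m using Nat.strong_induction_on with
  | _ m ih =>
    intro hodd hcop T hT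
    by_cases hm1 : m = 1
    · subst hm1
      exact ⟨T, hT, (mulSet_one _).symm⟩
    · have hq : (m.minFac).Prime := Nat.minFac_prime hm1
      have hqm : m.minFac ∣ m := Nat.minFac_dvd m
      have hm0 : 0 < m := hodd.pos
      obtain ⟨c, hc⟩ := hqm
      have hc0 : 0 < c := by
        rcases Nat.eq_zero_or_pos c with h | h
        · rw [h, mul_zero] at hc; omega
        · exact h
      have hclt : c < m := by
        have := hq.two_le
        nlinarith
      have hcodd : Odd c := by
        rw [hc] at hodd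
        exact (Nat.odd_mul.mp hodd).2
      have hqodd : Odd m.minFac := by
        rw [hc] at hodd
        exact (Nat.odd_mul.mp hodd).1
      have hq2 : m.minFac ≠ 2 := by
        intro h
        rw [h] at hqodd
        exact absurd hqodd (by decide)
      have hqcop : (m.minFac).Coprime n := Nat.Coprime.coprime_dvd_left (Nat.minFac_dvd m) hcop
      have hccop : c.Coprime n := Nat.Coprime.coprime_dvd_left ⟨m.minFac, by rw [mul_comm]; exact hc⟩ hcop
      have hqn : ¬ m.minFac ∣ n := by
        intro h
        have := Nat.eq_one_of_dvd_coprimes hqcop (dvd_refl _) h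
        exact hq.one_lt.ne' this
      obtain ⟨T₁, hT₁, hX₁⟩ := ih c hclt hcodd hccop hT
      obtain ⟨T₂, hT₂, hX₂⟩ := hmp hq hq2 hqn hT₁
      refine ⟨T₂, hT₂, ?_⟩
      rw [hX₂, hX₁, ← mulSet_mul, ← hc]

/-- (M2) -/
theorem mult_of (hmp : MultPrime star) (m : ℕ) (hm : m.Coprime n) (hT : Inv star T) :
    ∃ T' : Finset (DihedralGroup n), Inv star T' ∧ XX T' = mulSet m (XX T) := by
  rcases Nat.even_or_odd m with he | ho
  · have hnodd : Odd n := by
      rw [← Nat.not_even_iff_odd]
      intro hne
      have h2 : 2 ∣ Nat.gcd m n := Nat.dvd_gcd (even_iff_two_dvd.mp he) (even_iff_two_dvd.mp hne)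
      rw [hm] at h2
      omega
    have ho' : Odd (m + n) := he.add_odd hnodd
    obtain ⟨T', hT', hX'⟩ := mult_odd hmp (m + n) ho' (Nat.coprime_add_self_left.mpr hm) hT
    exact ⟨T', hT', by rw [hX', mulSet_add_n]⟩
  · exact mult_odd hmp m ho hm hT

/-- (M3) rational closure. -/
theorem rat_closure_of (hax : Ax star)
    (hmult : ∀ m : ℕ, m.Coprime n → ∃ T' : Finset (DihedralGroup n), Inv star T' ∧ XX T' = mulSet m (XX T)) :
    ∃ W : Finset (DihedralGroup n), Inv star W ∧
      ∀ i : ZMod n, i ∈ XX W ↔ ∃ m : ℕ, m.Coprime n ∧ ∃ s ∈ XX T, i = m • s := by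
  classical
  let f : ℕ → Finset (DihedralGroup n) := fun m =>
    if h : m.Coprime n then Classical.choose (hmult m h) else ∅
  have hf : ∀ m (h : m.Coprime n), Inv star (f m) ∧ XX (f m) = mulSet m (XX T) := by
    intro m h
    have := Classical.choose_spec (hmult m h)
    simp only [f, dif_pos h]
    exact this
  refine ⟨(Finset.range n).biUnion f, ?_, ?_⟩
  · apply inv_biUnion
    intro m _
    by_cases h : m.Coprime n
    · exact (hf m h).1
    · simp only [f, dif_neg h]
      exact inv_empty
  · intro i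
    rw [mem_XX, Finset.mem_biUnion]
    constructor
    · rintro ⟨m, _, hm⟩
      by_cases h : m.Coprime n
      · have h2 : i ∈ XX (f m) := mem_XX.mpr hm
        rw [(hf m h).2, mulSet, Finset.mem_image] at h2
        obtain ⟨s, hs, hsi⟩ := h2
        exact ⟨m, h, s, hs, hsi.symm⟩
      · simp only [f, dif_neg h] at hm
        exact absurd hm (Finset.notMem_empty _)
    · rintro ⟨m, hm, s, hs, rfl⟩
      have hn0 : 0 < n := Nat.pos_of_ne_zero (NeZero.ne n)
      have hmod : (m % n).Coprime n := (ZMod.coprime_mod_iff_coprime m n).mpr hm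
      refine ⟨m % n, Finset.mem_range.mpr (Nat.mod_lt m hn0), ?_⟩
      rw [← mem_XX, (hf _ hmod).2, mulSet_mod, mulSet, Finset.mem_image]
      exact ⟨s, hs, rfl⟩

end Cfsg.Agent.Lib.Helper29.WDMult
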