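import Mathlib
import Cfsg.Agent.Lib.Helper29.WDBAS
import Cfsg.Agent.Lib.Helper14.WDMULT
import Cfsg.Agent.Lib.Helper29.WDAux

/-!
# S3572, market "WD", leaf ORBIT
-/

set_option autoImplicit false
set_option linter.unusedSectionVars false
set_option linter.unusedVariables false

namespace Cfsg.Agent.Lib.Helper29.WDTop

open Finset DihedralGroup
open Cfsg.Agent.Lib.Helper19.SchurCyclic
open Cfsg.Agent.Lib.Helper7.DHB
open Cfsg.Agent.Lib.Helper29.WD
open Cfsg.Agent.Lib.Helper29.WDLeaf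
open Cfsg.Agent.Lib.Helper14.WDLeaf (mult)
open Cfsg.Agent.Lib.Helper29.WDAux

variable {n : ℕ} [NeZero n] {U : Type*} [Group U] {star : U → DihedralGroup n → DihedralGroup n}
variable {T : Finset (DihedralGroup n)}

theorem half_ne_zero (hn : 3 ≤ n) : ((n / 2 : ℕ) : ZMod n) ≠ 0 := by
  intro h
  rw [ZMod.natCast_eq_zero_iff] at h
  have h1 : 0 < n / 2 := Nat.div_pos (by omega) (by omega)
  have := Nat.le_of_dvd h1 h
  omega

theorem two_nsmul_half (h2n : 2 ∣ n) : 2 • ((n / 2 : ℕ) : ZMod n) = 0 := by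
  rw [nsmul_eq_mul]
  have : ((2 : ℕ) : ZMod n) * ((n / 2 : ℕ) : ZMod n) = ((2 * (n / 2) : ℕ) : ZMod n) := by push_cast; ring
  rw [this, Nat.mul_div_cancel' h2n, ZMod.natCast_self]

theorem odd_of_coprime_even {m : ℕ} (h2n : 2 ∣ n) (hm : m.Coprime n) : Odd m := by
  rw [← Nat.not_even_iff_odd]
  intro he
  have h2 : 2 ∣ Nat.gcd m n := Nat.dvd_gcd (even_iff_two_dvd.mp he) h2n
  rw [hm] at h2
  omega

theorem odd_nsmul_half {m : ℕ} (h2n : 2 ∣ n) (hm : Odd m) :
    m • ((n / 2 : ℕ) : ZMod n) = ((n / 2 : ℕ) : ZMod n) := by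
  obtain ⟨c, rfl⟩ := hm
  rw [add_nsmul, one_nsmul, mul_nsmul, two_nsmul_half h2n, nsmul_zero, zero_add]

/-- (Z1) one orbit `L` of the power maps met by every good S-set, `n` even: rank 2. -/
theorem triv_of_orbit (hax : Ax star) (hprim : Prim star) (hn : 3 ≤ n) (h2n : 2 ∣ n) (L : Finset (ZMod n))
    (hL : ∀ s ∈ L, ∀ s' ∈ L, ∃ m : ℕ, m.Coprime n ∧ s' = m • s)
    (hmeet : ∀ T : Finset (DihedralGroup n), Good star T → ∃ s ∈ XX T, s ∈ L) :
    ∀ T : Finset (DihedralGroup n), Inv star T → (1 : DihedralGroup n) ∉ T → Triv T := by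
  set z : ZMod n := ((n / 2 : ℕ) : ZMod n) with hz
  have hz0 : z ≠ 0 := half_ne_zero hn
  have hrz : r z ≠ 1 := by
    intro h
    rw [DihedralGroup.one_def] at h
    exact hz0 (DihedralGroup.r.inj h)
  have hGz : Good star (orb star (r z)) :=
    ⟨orb_inv hax _, one_notMem_orb hax hrz, ⟨_, self_mem_orb hax _⟩⟩
  have key : ∀ a : DihedralGroup n, a ≠ 1 → r z ∈ orb star a := by
    intro a ha
    have hGa : Good star (orb star a) :=
      ⟨orb_inv hax a, one_notMem_orb hax ha, ⟨a, self_mem_orb hax a⟩⟩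
    obtain ⟨s, hs, hsL⟩ := hmeet _ hGa
    obtain ⟨s', hs', hs'L⟩ := hmeet _ hGz
    obtain ⟨m, hm, hms⟩ := hL s hsL s' hs'L
    obtain ⟨T', hT', hXT'⟩ := mult hax hprim hn m hm hGa.1
    have h1 : r s' ∈ T' := by
      rw [← mem_XX, hXT', mulSet, Finset.mem_image]
      exact ⟨s, hs, hms.symm⟩
    rw [mem_XX, mem_orb] at hs'
    obtain ⟨u, hu⟩ := hs'
    have h2 : r z ∈ T' := by
      have := hT' u⁻¹ _ h1
      rwa [← hu, hax.inv_left] at this
    rw [← mem_XX, hXT', mulSet, Finset.mem_image] at h2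
    obtain ⟨t, ht, hmt⟩ := h2
    have htz : t = z := by
      have hmz : m • z = z := odd_nsmul_half h2n (odd_of_coprime_even h2n hm)
      have h0 : m • (t - z) = 0 := by rw [nsmul_sub, hmt, hmz, sub_self]
      exact sub_eq_zero.mp (smul_eq_zero_of_coprime hm _ h0)
    rw [htz, mem_XX] at ht
    exact ht
  intro T hT h1
  by_cases hTe : T = ∅
  · exact Or.inl hTe
  · right
    obtain ⟨a, ha⟩ := Finset.nonempty_iff_ne_empty.mpr hTe
    have ha1 : a ≠ 1 := fun h => h1 (h ▸ ha)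
    have hzT : r z ∈ T := orb_subset hT ha (key a ha1)
    apply Finset.Subset.antisymm
    · intro g hg
      rw [Finset.mem_erase]
      exact ⟨fun h => h1 (h ▸ hg), Finset.mem_univ _⟩
    · intro b hb
      rw [Finset.mem_erase] at hb
      have hb' := key b hb.1
      rw [mem_orb] at hb'
      obtain ⟨u, hu⟩ := hb'
      have := hT u⁻¹ _ hzT
      rwa [← hu, hax.inv_left] at this


end Cfsg.Agent.Lib.Helper29.WDTop
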