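import Mathlib
import Cfsg.Agent.Lib.Helper29.WDBAS
import Cfsg.Agent.Lib.Helper29.WDCHAIN
import Cfsg.Agent.Lib.Helper14.WDMULT
import Cfsg.Agent.Lib.Helper14.WDUNITS
import Cfsg.Agent.Lib.Helper20.WDGP2
import Cfsg.Agent.Lib.Helper15.WDSUBODD
import Cfsg.Agent.Lib.Helper29.WDAux

/-!
# S3572, market "WD", leaf TOP: a minimal `gen` containing an element of odd prime order is everything
-/

set_option autoImplicit false
set_option linter.unusedSectionVars false
set_option linter.unusedVariables false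

namespace Cfsg.Agent.Lib.Helper29.WDTop

open Finset DihedralGroup
open Cfsg.Agent.Lib.Helper19.SchurCyclic
open Cfsg.Agent.Lib.Helper7.DHB
open Cfsg.Agent.Lib.Helper29.WD
open Cfsg.Agent.Lib.Helper29.WDLeaf
open Cfsg.Agent.Lib.Helper14.WDLeaf (rat_closure exists_coprime_smul_eq pinvoff_mulSet)
open Cfsg.Agent.Lib.Helper29.WDAux

variable {n : ℕ} [NeZero n] {U : Type*} [Group U] {star : U → DihedralGroup n → DihedralGroup n}
variable {T : Finset (DihedralGroup n)}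

/-- G(p): helper20's `gp_star_of_sub` fed with helper15's `sub_odd`. -/
theorem gp_star {p : ℕ} (hax : Ax star) (hprim : Prim star) (hn : 3 ≤ n) (hp : p.Prime) (hp3 : 3 ≤ p)
    (hpn : p ∣ n) (hT : Inv star T) (h1 : (1 : DihedralGroup n) ∉ T) (hX : PInv p (XX T)) : T = ∅ :=
  Cfsg.Agent.Lib.Helper20.WDLeaf.gp_star_of_sub hax hprim hn hp hp3 hpn
    (fun T' hT' h1' hY' =>
      Cfsg.Agent.Lib.Helper15.WDLeaf.sub_odd hax hprim hn hp (by omega) hpn hT' h1' hY')
    hT h1 hX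

/-- complement form of G(p). -/
theorem gp_compl {p : ℕ} (hax : Ax star) (hprim : Prim star) (hn : 3 ≤ n) (hp : p.Prime) (hp3 : 3 ≤ p)
    (hpn : p ∣ n) (hT : Inv star T) (h1 : (1 : DihedralGroup n) ∉ T)
    (hP : ∀ t : ZMod n, p • t = 0 → t ≠ 0 → t ∈ XX T) (hX : PInvOff p (XX T)) : T = univ.erase 1 :=
  Cfsg.Agent.Lib.Helper20.WDLeaf.gp_compl_of_sub hax hprim hn hp hp3 hpn
    (fun T' hT' h1' hY' =>
      Cfsg.Agent.Lib.Helper15.WDLeaf.sub_odd hax hprim hn hp (by omega) hpn hT' h1' hY')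
    hT h1 hP hX

theorem exists_minGen (hax : Ax star) (hn : 3 ≤ n) :
    ∃ T : Finset (DihedralGroup n), Good star T ∧ MinGen star T := by
  have hgood : Good star (univ.erase (1 : DihedralGroup n)) := by
    refine ⟨inv_erase_one hax inv_univ, by simp, ⟨r 1, ?_⟩⟩
    rw [Finset.mem_erase]
    refine ⟨?_, Finset.mem_univ _⟩
    intro h
    have h' : (1 : ZMod n) = 0 := by
      rw [DihedralGroup.one_def] at h
      exact DihedralGroup.r.inj h
    haveI : Fact (1 < n) := ⟨by omega⟩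
    exact one_ne_zero h'
  let S : Set (AddSubgroup (ZMod n)) := {D | ∃ T : Finset (DihedralGroup n), Good star T ∧ gen T = D}
  have hS : S.Nonempty := ⟨_, _, hgood, rfl⟩
  obtain ⟨D, ⟨T, hT, rfl⟩, hmin⟩ := (wellFounded_lt (α := AddSubgroup (ZMod n))).has_min S hS
  exact ⟨T, hT, fun T' hT' hlt => hmin (gen T') ⟨T', hT', rfl⟩ hlt⟩

theorem gen_eq_top {p : ℕ} (hax : Ax star) (hprim : Prim star) (hn : 3 ≤ n) (hp : p.Prime) (hp3 : 3 ≤ p)
    (hpn : p ∣ n) (hT : Good star T) (hmin : MinGen star T) (hpD : ∃ s ∈ gen T, s ≠ 0 ∧ p • s = 0) :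
    gen T = ⊤ := by
  haveI : Fact p.Prime := ⟨hp⟩
  have hp2 : p ≠ 2 := by omega
  obtain ⟨hoff, -⟩ := chain hax hprim hn hp2 hpn hT hmin hpD
  have h0 := zero_notMem_XX hT.2.1
  have hmeet : ∃ s ∈ XX T, p • s = 0 := by
    by_contra hcon
    push Not at hcon
    have hX : PInv p (XX T) := fun i hi t ht => hoff i hi (hcon i hi) t ht
    exact hT.2.2.ne_empty (gp_star hax hprim hn hp hp3 hpn hT.1 hT.2.1 hX)
  obtain ⟨s0, hs0, hs0p⟩ := hmeet
  have hs00 : s0 ≠ 0 := by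
    rintro rfl
    exact h0 hs0
  obtain ⟨W, hW, hWX⟩ := rat_closure hax hprim hn hT.1
  have hW1 : (1 : DihedralGroup n) ∉ W := by
    intro h
    have : (0 : ZMod n) ∈ XX W := by
      rw [mem_XX, ← DihedralGroup.one_def]
      exact h
    obtain ⟨m, hm, s, hs, hms⟩ := (hWX 0).1 this
    have := smul_eq_zero_of_coprime hm s hms.symm
    exact h0 (this ▸ hs)
  have hWP : ∀ t : ZMod n, p • t = 0 → t ≠ 0 → t ∈ XX W := by
    intro t ht ht0
    obtain ⟨m, hm, hmt⟩ := exists_coprime_smul_eq hp hpn s0 t hs0p hs00 ht ht0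
    exact (hWX t).2 ⟨m, hm, s0, hs0, hmt⟩
  have hWoff : PInvOff p (XX W) := by
    intro i hi hpi t ht
    obtain ⟨m, hm, s, hs, rfl⟩ := (hWX i).1 hi
    have h1 : PInvOff p (mulSet m (XX T)) := pinvoff_mulSet hp hpn hm (XX T) hoff
    have h2 : m • s ∈ mulSet m (XX T) := Finset.mem_image.mpr ⟨s, hs, rfl⟩
    have h3 := h1 (m • s) h2 hpi t ht
    rw [mulSet, Finset.mem_image] at h3
    obtain ⟨s', hs', hs'e⟩ := h3
    exact (hWX _).2 ⟨m, hm, s', hs', hs'e.symm⟩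
  have hWtop := gp_compl hax hprim hn hp hp3 hpn hW hW1 hWP hWoff
  rw [eq_top_iff]
  intro x _
  by_cases hx : x = 0
  · subst hx
    exact zero_mem _
  · have hxW : x ∈ XX W := by
      rw [mem_XX, hWtop, Finset.mem_erase]
      refine ⟨fun h => hx ?_, Finset.mem_univ _⟩
      rw [DihedralGroup.one_def] at h
      exact DihedralGroup.r.inj h
    obtain ⟨m, hm, s, hs, rfl⟩ := (hWX x).1 hxW
    exact mem_gen_of_mem hs m

theorem all_meet {p : ℕ} (hax : Ax star) (hprim : Prim star) (hn : 3 ≤ n) (hp : p.Prime) (hp3 : 3 ≤ p)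
    (hpn : p ∣ n)
    (hall : ∀ T' : Finset (DihedralGroup n), Good star T' → gen T' = ⊤)
    (hT : Good star T) : (∃ s ∈ XX T, s ≠ 0 ∧ p • s = 0) ∧ PInvOff p (XX T) := by
  haveI : Fact p.Prime := ⟨hp⟩
  have hp2 : p ≠ 2 := by omega
  have hgen := hall T hT
  have hmin : MinGen star T := minGen_of_hall hall hgen
  obtain ⟨s, hs0, hsp⟩ := exists_order hp hpn
  have hpD : ∃ s ∈ gen T, s ≠ 0 ∧ p • s = 0 := ⟨s, by rw [hgen]; trivial, hs0, hsp⟩
  obtain ⟨hoff, -⟩ := chain hax hprim hn hp2 hpn hT hmin hpD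
  have h0 := zero_notMem_XX hT.2.1
  refine ⟨?_, hoff⟩
  by_contra hcon
  push Not at hcon
  have hX : PInv p (XX T) := by
    intro i hi t ht
    have hi0 : i ≠ 0 := by
      rintro rfl
      exact h0 hi
    exact hoff i hi (hcon i hi hi0) t ht
  exact hT.2.2.ne_empty (gp_star hax hprim hn hp hp3 hpn hT.1 hT.2.1 hX)

end Cfsg.Agent.Lib.Helper29.WDTop
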