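import Mathlib
import Cfsg.Agent.Lib.Helper29.WDBAS
import Cfsg.Agent.Lib.Helper21.WDF12
import Cfsg.Agent.Lib.Helper14.WDMULT
import Cfsg.Agent.Lib.Helper14.WDUNITS
import Cfsg.Agent.Lib.Helper27.WDLEMZ
import Cfsg.Agent.Lib.Helper29.WDAux

/-!
# S3572, market "WD", leaf TWOSET
-/

set_option autoImplicit false
set_option linter.unusedSectionVars false
set_option linter.unusedVariables false

namespace Cfsg.Agent.Lib.Helper29.WDTop

open Finset DihedralGroup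
open Cfsg.Agent.Lib.Helper19.SchurCyclic
open Cfsg.Agent.Lib.Helper7.DHB
open Cfsg.Agent.Lib.Helper29.WD
open Cfsg.Agent.Lib.Helper29.WDLeaf
open Cfsg.Agent.Lib.Helper21.WDLeaf (F2)
open Cfsg.Agent.Lib.Helper14.WDLeaf (rat_closure exists_coprime_smul_eq_add_half)
open Cfsg.Agent.Lib.Helper27.WDLeaf (lemZ)
open Cfsg.Agent.Lib.Helper29.WDAux

variable {n : ℕ} [NeZero n] {U : Type*} [Group U] {star : U → DihedralGroup n → DihedralGroup n}
variable {T : Finset (DihedralGroup n)}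

/-- no good S-set has its rotation part inside a proper subgroup and of 2-power order. -/
theorem no_two_set (hax : Ax star) (hprim : Prim star) (hn : 3 ≤ n) (hT : Good star T)
    (B : AddSubgroup (ZMod n)) (hB : B ≠ ⊤) (hXB : ∀ i ∈ XX T, i ∈ B)
    (h2 : ∀ i ∈ XX T, ∃ j, 2 ^ j • i = 0) : False := by
  have h0 := zero_notMem_XX hT.2.1
  obtain ⟨⟨i, hi⟩, -⟩ := F2 hax hprim hn hT.1 hT.2.1 hT.2.2
  have hi0 : i ≠ 0 := by
    rintro rfl
    exact h0 hi
  have h2n : 2 ∣ n := by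
    obtain ⟨j, hj⟩ := h2 i hi
    have h1 := addOrderOf_dvd_of_nsmul_eq_zero hj
    obtain ⟨a, -, ha⟩ := (Nat.dvd_prime_pow Nat.prime_two).1 h1
    have ha0 : a ≠ 0 := by
      rintro rfl
      rw [pow_zero] at ha
      exact hi0 (AddMonoid.addOrderOf_eq_one_iff.mp ha)
    have h3 : 2 ∣ addOrderOf i := by
      rw [ha]
      exact dvd_pow_self 2 ha0
    exact dvd_trans h3 (addOrderOf_dvd_n i)
  obtain ⟨W, hW, hWX⟩ := rat_closure hax hprim hn hT.1
  have hW1 : (1 : DihedralGroup n) ∉ W := by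
    intro h
    have : (0 : ZMod n) ∈ XX W := by
      rw [mem_XX, ← DihedralGroup.one_def]
      exact h
    obtain ⟨m, hm, s, hs, hms⟩ := (hWX 0).1 this
    have := smul_eq_zero_of_coprime hm s hms.symm
    exact h0 (this ▸ hs)
  have hWne : W.Nonempty := by
    refine ⟨r i, ?_⟩
    rw [← mem_XX, hWX]
    exact ⟨1, Nat.coprime_one_left n, i, hi, (one_nsmul i).symm⟩
  have hXB' : ∀ i ∈ XX W, i ∈ B := by
    intro x hx
    obtain ⟨m, hm, s, hs, rfl⟩ := (hWX x).1 hx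
    exact AddSubgroup.nsmul_mem _ (hXB s hs) m
  have hz : ∀ i ∈ XX W, 2 • i ≠ 0 → i + ((n / 2 : ℕ) : ZMod n) ∈ XX W := by
    intro x hx hx2
    obtain ⟨m, hm, s, hs, rfl⟩ := (hWX x).1 hx
    obtain ⟨j, hj⟩ := h2 s hs
    have hpow : ∃ j, 2 ^ j • (m • s) = 0 := ⟨j, by rw [smul_comm, hj, nsmul_zero]⟩
    obtain ⟨m', hm', hm'e⟩ := exists_coprime_smul_eq_add_half h2n (m • s) hpow hx2
    rw [hWX]
    refine ⟨m' * m, Nat.Coprime.mul_left hm' hm, s, hs, ?_⟩
    rw [← hm'e, mul_nsmul']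
  exact lemZ hax hprim hn h2n ⟨hW, hW1, hWne⟩ B hB hXB' hz

end Cfsg.Agent.Lib.Helper29.WDTop
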