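import Mathlib
import Cfsg.Agent.Lib.Helper29.WDBAS
import Cfsg.Agent.Lib.Helper29.WDCHAIN
import Cfsg.Agent.Lib.Helper29.WDTOP
import Cfsg.Agent.Lib.Helper29.WDORBIT
import Cfsg.Agent.Lib.Helper29.WDTWOSET
import Cfsg.Agent.Lib.Helper14.WDUNITS
import Cfsg.Agent.Lib.Helper21.WDF12
import Cfsg.Agent.Lib.Helper21.WDVAL
import Cfsg.Agent.Lib.Helper5.WDTWOP
import Cfsg.Agent.Lib.Helper15.WDSUBODD
import Cfsg.Agent.Lib.Helper29.WDAux

/-!
# S3572, market "WD": the spine (rank 2 for a primitive S-ring over the dihedral group)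
-/

set_option autoImplicit false
set_option linter.unusedSectionVars false
set_option linter.unusedVariables false

namespace Cfsg.Agent.Lib.Helper29.WDMain

open Finset DihedralGroup
open Cfsg.Agent.Lib.Helper19.SchurCyclic
open Cfsg.Agent.Lib.Helper7.DHB
open Cfsg.Agent.Lib.Helper29.WD
open Cfsg.Agent.Lib.Helper29.WDLeaf
open Cfsg.Agent.Lib.Helper29.WDTop
open Cfsg.Agent.Lib.Helper14.WDLeaf (exists_coprime_smul_eq exists_coprime_smul_eq_of_gen)
open Cfsg.Agent.Lib.Helper21.WDLeaf (F2)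
open Cfsg.Agent.Lib.Helper5.WDLeaf (two_primes)
open Cfsg.Agent.Lib.Helper15.WDLeaf (sub_odd)
open Cfsg.Agent.Lib.Helper29.WDAux
open scoped Classical

variable {n : ℕ} [NeZero n] {U : Type*} [Group U] {star : U → DihedralGroup n → DihedralGroup n}
variable {T T₀ : Finset (DihedralGroup n)}

/-! ### `n = 2^k` -/

theorem case_two_pow (hax : Ax star) (hprim : Prim star) (hn : 3 ≤ n) {k : ℕ} (hk : n = 2 ^ k) :
    ∀ T : Finset (DihedralGroup n), Inv star T → (1 : DihedralGroup n) ∉ T → Triv T := by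
  have h2n : 2 ∣ n := by
    rcases k with _ | k
    · simp at hk; omega
    · rw [hk, pow_succ]; exact dvd_mul_left 2 _
  have hB : AddSubgroup.zmultiples (2 : ZMod n) ≠ ⊤ := by
    intro htop
    have h1 : (1 : ZMod n) ∈ AddSubgroup.zmultiples (2 : ZMod n) := by rw [htop]; trivial
    rw [AddSubgroup.mem_zmultiples_iff] at h1
    obtain ⟨c, hc⟩ := h1
    have h2 := congrArg (ZMod.castHom h2n (ZMod 2)) hc
    rw [map_zsmul, map_one, map_ofNat] at h2
    have h3 : (2 : ZMod 2) = 0 := by decide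
    rw [h3, smul_zero] at h2
    exact zero_ne_one h2
  refine triv_of_orbit hax hprim hn h2n (univ.filter (fun s : ZMod n => AddSubgroup.zmultiples s = ⊤)) ?_ ?_
  · intro s hs s' hs'
    rw [Finset.mem_filter] at hs hs'
    exact exists_coprime_smul_eq_of_gen s s' hs.2 hs'.2
  · intro T hT
    by_contra hcon
    push Not at hcon
    refine no_two_set hax hprim hn hT (AddSubgroup.zmultiples (2 : ZMod n)) hB ?_ ?_
    · intro i hi
      by_contra hiB
      exact hcon i hi (Finset.mem_filter.mpr ⟨Finset.mem_univ _, odd_gen hk i hiB⟩)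
    · intro i _
      exact ⟨k, by rw [← hk]; exact nsmul_self_eq_zero i⟩

/-! ### the minimal `gen` contains an element of odd prime order -/

theorem case_top {p : ℕ} (hax : Ax star) (hprim : Prim star) (hn : 3 ≤ n) (h2n : 2 ∣ n) (hp : p.Prime)
    (hp3 : 3 ≤ p) (hpn : p ∣ n) (hT₀ : Good star T₀) (hmin : MinGen star T₀)
    (hpD : ∃ s ∈ gen T₀, s ≠ 0 ∧ p • s = 0) :
    ∀ T : Finset (DihedralGroup n), Inv star T → (1 : DihedralGroup n) ∉ T → Triv T := by
  have htop := gen_eq_top hax hprim hn hp hp3 hpn hT₀ hmin hpD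
  have hall := hall_of hmin htop
  refine triv_of_orbit hax hprim hn h2n (univ.filter (fun t : ZMod n => p • t = 0 ∧ t ≠ 0)) ?_ ?_
  · intro s hs s' hs'
    rw [Finset.mem_filter] at hs hs'
    exact exists_coprime_smul_eq hp hpn s s' hs.2.1 hs.2.2 hs'.2.1 hs'.2.2
  · intro T hT
    obtain ⟨⟨s, hs, hs0, hsp⟩, -⟩ := all_meet hax hprim hn hp hp3 hpn hall hT
    exact ⟨s, hs, Finset.mem_filter.mpr ⟨Finset.mem_univ _, hsp, hs0⟩⟩

theorem case_even (hax : Ax star) (hprim : Prim star) (hn : 3 ≤ n) (h2n : 2 ∣ n)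
    (hnot : ¬ ∃ k, n = 2 ^ k) :
    ∀ T : Finset (DihedralGroup n), Inv star T → (1 : DihedralGroup n) ∉ T → Triv T := by
  obtain ⟨T₀, hT₀, hmin⟩ := exists_minGen (star := star) hax hn
  obtain ⟨k, m, hm, hnk⟩ := Nat.exists_eq_two_pow_mul_odd (NeZero.ne n)
  have hm1 : m ≠ 1 := by
    rintro rfl
    exact hnot ⟨k, by simpa using hnk⟩
  -- the Sylow 2-subgroup
  let B : AddSubgroup (ZMod n) := (nsmulAddMonoidHom (α := ZMod n) (2 ^ k)).ker
  have hB : B ≠ ⊤ := by
    intro htop
    have h1 : (1 : ZMod n) ∈ B := by rw [htop]; trivial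
    have h1' : (2 ^ k) • (1 : ZMod n) = 0 := h1
    rw [nsmul_eq_mul, mul_one] at h1'
    have h2 : ((2 ^ k : ℕ) : ZMod n) = 0 := by exact_mod_cast h1'
    rw [ZMod.natCast_eq_zero_iff, hnk] at h2
    have h3 : m ∣ 2 ^ k := dvd_trans (dvd_mul_left m _) h2
    have hcop : Nat.Coprime m (2 ^ k) := Nat.Coprime.pow_right k (Nat.coprime_two_right.mpr hm)
    exact hm1 (Nat.Coprime.eq_one_of_dvd hcop h3)
  have hex : ∃ i ∈ XX T₀, ¬ ∃ j, 2 ^ j • i = 0 := by
    by_contra hcon
    push Not at hcon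
    refine no_two_set hax hprim hn hT₀ B hB (fun i hi => ?_) hcon
    show (nsmulAddMonoidHom (α := ZMod n) (2 ^ k)) i = 0
    rw [nsmulAddMonoidHom_apply]
    exact two_pow_order_of hm hnk i (hcon i hi)
  obtain ⟨i, hi, hi2⟩ := hex
  rcases Nat.eq_two_pow_or_exists_odd_prime_and_dvd (addOrderOf i) with ⟨j, hj⟩ | ⟨p, hp, hpi, hpodd⟩
  · exact absurd ⟨j, by rw [← hj]; exact addOrderOf_nsmul_eq_zero i⟩ hi2
  · have hp3 : 3 ≤ p := by
      have := hp.two_le
      obtain ⟨c, hc⟩ := hpodd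
      omega
    have hpn : p ∣ n := dvd_trans hpi (addOrderOf_dvd_n i)
    exact case_top hax hprim hn h2n hp hp3 hpn hT₀ hmin (hpD_of_order hp hi hpi)

/-! ### `n` odd -/

theorem case_odd (hax : Ax star) (hprim : Prim star) (hn : 3 ≤ n) (ho : Odd n) :
    ∀ T : Finset (DihedralGroup n), Inv star T → (1 : DihedralGroup n) ∉ T → Triv T := by
  obtain ⟨T₀, hT₀, hmin⟩ := exists_minGen (star := star) hax hn
  obtain ⟨⟨i, hi⟩, -⟩ := F2 hax hprim hn hT₀.1 hT₀.2.1 hT₀.2.2
  have hi0 : i ≠ 0 := by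
    rintro rfl
    rw [mem_XX] at hi
    exact hT₀.2.1 (by rw [DihedralGroup.one_def]; exact hi)
  have hord : addOrderOf i ≠ 1 := by
    intro h
    exact hi0 (AddMonoid.addOrderOf_eq_one_iff.mp h)
  set p := (addOrderOf i).minFac with hpdef
  have hp : p.Prime := Nat.minFac_prime hord
  have hpi : p ∣ addOrderOf i := Nat.minFac_dvd _
  have hpn : p ∣ n := dvd_trans hpi (addOrderOf_dvd_n i)
  have hodd_of : ∀ q : ℕ, q.Prime → q ∣ n → 3 ≤ q := by
    intro q hq hqn
    have h2 := hq.two_le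
    rcases Nat.lt_or_ge 2 q with h | h
    · omega
    · have : q = 2 := by omega
      subst this
      exact absurd (even_iff_two_dvd.mpr hqn) (Nat.not_even_iff_odd.mpr ho)
  have hp3 := hodd_of p hp hpn
  have hp2 : p ≠ 2 := by omega
  have hpD := hpD_of_order hp hi hpi
  by_cases hq : ∃ q : ℕ, q.Prime ∧ q ∣ n ∧ q ≠ p
  · obtain ⟨q, hqp, hqn, hne⟩ := hq
    have hq3 := hodd_of q hqp hqn
    have htop := gen_eq_top hax hprim hn hp hp3 hpn hT₀ hmin hpD
    have hall := hall_of hmin htop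
    have key : ∀ T : Finset (DihedralGroup n), Good star T →
        ∀ t : ZMod n, q • t = 0 → t ≠ 0 → t ∈ XX T := by
      intro T hT
      obtain ⟨⟨g, hg, hg0, hgp⟩, hXp⟩ := all_meet hax hprim hn hp hp3 hpn hall hT
      obtain ⟨-, hXq⟩ := all_meet hax hprim hn hqp hq3 hqn hall hT
      exact two_primes hp hqp hne.symm hpn hqn (XX T) hXp hXq g hg hg0 hgp
    intro T hT h1
    by_cases hTe : T = ∅
    · exact Or.inl hTe
    · right
      by_contra hne'
      have hTne : T.Nonempty := Finset.nonempty_iff_ne_empty.mpr hTe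
      have hC : Inv star ((univ.erase (1 : DihedralGroup n)) \ T) :=
        inv_sdiff hax (inv_erase_one hax inv_univ) hT
      have hC1 : (1 : DihedralGroup n) ∉ (univ.erase (1 : DihedralGroup n)) \ T := by
        simp
      have hCne : ((univ.erase (1 : DihedralGroup n)) \ T).Nonempty := by
        rw [Finset.nonempty_iff_ne_empty]
        intro hemp
        rw [Finset.sdiff_eq_empty_iff_subset] at hemp
        apply hne'
        apply Finset.Subset.antisymm _ hemp
        intro g hg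
        rw [Finset.mem_erase]
        exact ⟨fun h => h1 (h ▸ hg), Finset.mem_univ _⟩
      obtain ⟨t, ht0, htq⟩ := exists_order hqp hqn
      have k1 := key T ⟨hT, h1, hTne⟩ t htq ht0
      have k2 := key _ ⟨hC, hC1, hCne⟩ t htq ht0
      rw [mem_XX] at k1 k2
      rw [Finset.mem_sdiff] at k2
      exact k2.2 k1
  · push Not at hq
    have hna := Nat.eq_prime_pow_of_unique_prime_dvd (NeZero.ne n) (fun {d} hd hdn => hq d hd hdn)
    set a := n.primeFactorsList.length with hadef
    have ha : 1 ≤ a := by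
      rcases Nat.eq_zero_or_pos a with h0 | h0
      · rw [h0, pow_zero] at hna
        omega
      · exact h0
    haveI : Fact p.Prime := ⟨hp⟩
    have step : ∀ T : Finset (DihedralGroup n), Good star T → MinGen star T →
        (∃ s ∈ gen T, s ≠ 0 ∧ p • s = 0) → T = univ.erase 1 := by
      intro T hT hmin' hpD'
      obtain ⟨-, h2⟩ := chain hax hprim hn hp2 hpn hT hmin' hpD'
      have h4 := Cfsg.Agent.Lib.Helper21.WDVAL.pinv_of_pow_zero hp2 hna (YY T) h2
      exact eq_erase_of_triv (sub_odd hax hprim hn hp hp2 hpn hT.1 hT.2.1 h4) hT.2.2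
    have hT0 := step T₀ hT₀ hmin hpD
    have htop : gen T₀ = ⊤ := by rw [hT0]; exact gen_erase_one hn
    have hall := hall_of hmin htop
    intro T hT h1
    by_cases hTe : T = ∅
    · exact Or.inl hTe
    · right
      have hG : Good star T := ⟨hT, h1, Finset.nonempty_iff_ne_empty.mpr hTe⟩
      obtain ⟨s, hs0, hsp⟩ := exists_order hp hpn
      exact step T hG (minGen_of_hall hall (hall T hG)) ⟨s, by rw [hall T hG]; trivial, hs0, hsp⟩

/-- **rank 2**. -/
theorem rank_two (hax : Ax star) (hprim : Prim star) (hn : 3 ≤ n) :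
    ∀ T : Finset (DihedralGroup n), Inv star T → (1 : DihedralGroup n) ∉ T → Triv T := by
  rcases Nat.even_or_odd n with he | ho
  · have h2n : 2 ∣ n := even_iff_two_dvd.mp he
    by_cases hk : ∃ k, n = 2 ^ k
    · obtain ⟨k, hk⟩ := hk
      exact case_two_pow hax hprim hn hk
    · exact case_even hax hprim hn h2n hk
  · exact case_odd hax hprim hn ho

/-- **WD main**: the point stabiliser is transitive on `H ∖ 1`. -/
theorem main (hax : Ax star) (hprim : Prim star) (hn : 3 ≤ n) :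
    ∀ a b : DihedralGroup n, a ≠ 1 → b ≠ 1 → ∃ u, star u a = b :=
  main_of_triv hax (rank_two hax hprim hn)

end Cfsg.Agent.Lib.Helper29.WDMain
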