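/-
helper29: S2524 leaf (PIV).  `GL_n(F)` is generated by the elementary transvections and the diagonal matrices
(Mathlib `Matrix.Pivot.exists_list_transvec_mul_diagonal_mul_list_transvec`).
-/
import Mathlib
import Cfsg.Agent.Lib.Helper10.WGDefs

set_option autoImplicit false
set_option linter.unusedSectionVars false

namespace Cfsg.Agent.Lib.Helper29.WGPIV

open Matrix Cfsg.Agent.Lib.Helper11.LS Cfsg.Agent.Lib.Helper10.WG

universe u

variable {F : Type*} [Field F] [Fintype F] [DecidableEq F]

omit [Fintype F] [DecidableEq F] in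
theorem val_list_prod {n : ℕ} (l : List (GL (Fin n) F)) :
    ((l.prod : GL (Fin n) F) : Matrix (Fin n) (Fin n) F) =
      (l.map (fun g : GL (Fin n) F => (g : Matrix (Fin n) (Fin n) F))).prod := by
  induction l with
  | nil => simp
  | cons a l ih => rw [List.prod_cons, Units.val_mul, ih, List.map_cons, List.prod_cons]

/-- (PIV) `GL_n` is generated by the elementary transvections and the diagonal matrices. -/
theorem closure_tv_dg (n : ℕ) :
    Subgroup.closure ({g : GL (Fin n) F | ∃ (i j : Fin n) (hij : i ≠ j) (c : F), g = tvG i j hij c} ∪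
      {g : GL (Fin n) F | ∃ d : Fin n → Fˣ, g = dgG d}) = ⊤ := by
  rw [eq_top_iff]
  rintro g -
  obtain ⟨L, L', D, hM⟩ :=
    Matrix.Pivot.exists_list_transvec_mul_diagonal_mul_list_transvec (g : Matrix (Fin n) (Fin n) F)
  have hdet : (g : Matrix (Fin n) (Fin n) F).det ≠ 0 :=
    ((Matrix.isUnit_iff_isUnit_det _).1 (Units.isUnit g)).ne_zero
  have hD : ∀ i, D i ≠ 0 := by
    rw [hM, Matrix.det_mul, Matrix.det_mul, TransvectionStruct.det_toMatrix_prod,
      TransvectionStruct.det_toMatrix_prod, one_mul, mul_one, Matrix.det_diagonal] at hdet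
    intro i hi
    exact hdet (Finset.prod_eq_zero (Finset.mem_univ i) hi)
  let f : TransvectionStruct (Fin n) F → GL (Fin n) F := fun t => tvG t.i t.j t.hij t.c
  have hf : ∀ t : TransvectionStruct (Fin n) F,
      ((f t : GL (Fin n) F) : Matrix (Fin n) (Fin n) F) = t.toMatrix := fun t => rfl
  let d : Fin n → Fˣ := fun i => Units.mk0 (D i) (hD i)
  have hd : ((dgG d : GL (Fin n) F) : Matrix (Fin n) (Fin n) F) = diagonal D := rfl
  have hg : g = (L.map f).prod * dgG d * (L'.map f).prod := by
    apply Units.ext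
    rw [Units.val_mul, Units.val_mul, val_list_prod, val_list_prod, hd, List.map_map, List.map_map, hM]
    rfl
  rw [hg]
  have hmemf : ∀ t : TransvectionStruct (Fin n) F, f t ∈ Subgroup.closure
      ({g : GL (Fin n) F | ∃ (i j : Fin n) (hij : i ≠ j) (c : F), g = tvG i j hij c} ∪
        {g : GL (Fin n) F | ∃ d : Fin n → Fˣ, g = dgG d}) := fun t =>
    Subgroup.subset_closure (Or.inl ⟨t.i, t.j, t.hij, t.c, rfl⟩)
  refine Subgroup.mul_mem _ (Subgroup.mul_mem _ ?_ ?_) ?_
  · apply Subgroup.list_prod_mem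
    intro x hx
    obtain ⟨t, _, rfl⟩ := List.mem_map.mp hx
    exact hmemf t
  · exact Subgroup.subset_closure (Or.inr ⟨d, rfl⟩)
  · apply Subgroup.list_prod_mem
    intro x hx
    obtain ⟨t, _, rfl⟩ := List.mem_map.mp hx
    exact hmemf t

end Cfsg.Agent.Lib.Helper29.WGPIV
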