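import Cfsg.Agent.Lib.Helper26.ZStarFusion
import Cfsg.Agent.Lib.Helper29.ZStarCor
import Cfsg.Agent.Lib.Helper4.QuotPPrime
import Cfsg.Agent.Lib.Helper12.Cores

set_option autoImplicit false
open Cfsg Subgroup

namespace Cfsg.Agent.Lib.Helper29.ZStar

universe u
variable {G : Type u} [Group G]

/-- A cyclic `2`-subgroup centralized by a Sylow `2`-subgroup has normalizer equal to its centralizer. -/
theorem normalizer_le_centralizer_of_sylow_le [Finite G] (S : Sylow 2 G) (Z₀ : Subgroup G)
    (hcyc : IsCyclic Z₀) (hle : Z₀ ≤ (S : Subgroup G))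
    (hS : (S : Subgroup G) ≤ centralizer (Z₀ : Set G)) :
    normalizer (Z₀ : Set G) ≤ centralizer (Z₀ : Set G) := by
  have : Fact (Nat.Prime 2) := ⟨Nat.prime_two⟩
  have key := card_dvd_of_injective _ (QuotientGroup.kerLift_injective Z₀.normalizerMonoidHom)
  rw [normalizerMonoidHom_ker, ← index, ← relIndex] at key
  refine relIndex_eq_one.mp (Nat.eq_one_of_dvd_coprimes ?_ dvd_rfl key)
  obtain ⟨k, hk⟩ := (S.2.to_le hle).exists_card_eq
  rw [hcyc.card_mulAut, hk]
  have hodd : Nat.Coprime ((centralizer (Z₀ : Set G)).relIndex (normalizer (Z₀ : Set G))) 2 := by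
    apply Nat.Coprime.coprime_dvd_left (relIndex_dvd_index_of_le (centralizer_le_normalizer _))
    apply Nat.Coprime.coprime_dvd_left (index_dvd_of_le hS)
    rw [Nat.coprime_comm, Nat.Prime.coprime_iff_not_dvd Nat.prime_two]
    exact S.not_dvd_index
  rcases eq_zero_or_pos k with h0 | h0
  · rw [h0, pow_zero, Nat.totient_one]; exact Nat.coprime_one_right _
  rw [Nat.totient_prime_pow Nat.prime_two h0]
  exact (Nat.Coprime.pow_right _ hodd).mul_right (by norm_num)

/-- An element of `Z(S)` whose cyclic group is weakly closed in `S` is isolated. -/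
theorem isolatedIn_of_weaklyClosed_zpowers [Finite G] (S : Sylow 2 G) (z : G)
    (hzS : z ∈ (S : Subgroup G)) (hcomm : ∀ s ∈ (S : Subgroup G), s * z = z * s)
    (hwc : Cfsg.IsWeaklyClosed (zpowers z) (S : Subgroup G)) :
    Cfsg.Agent.Lib.Helper26.IsolatedIn (S : Subgroup G) z := by
  refine ⟨hzS, fun g hg => ?_⟩
  have hSle : (S : Subgroup G) ≤ centralizer ((zpowers z : Subgroup G) : Set G) := by
    intro s hs
    rw [mem_centralizer_iff]
    rintro y ⟨k, rfl⟩
    have h1 : Commute s z := hcomm s hs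
    exact ((h1.zpow_right k).eq).symm
  have hmap : (zpowers z).map (MulAut.conj g).toMonoidHom ≤ (S : Subgroup G) := by
    rw [MonoidHom.map_zpowers, zpowers_le]
    simpa using hg
  have heq := hwc.2 g hmap
  have hgN : g ∈ normalizer ((zpowers z : Subgroup G) : Set G) := by
    rw [mem_normalizer_iff]
    intro h
    constructor
    · intro hh
      rw [← heq]
      exact ⟨h, hh, by simp⟩
    · intro hh
      rw [← heq] at hh
      obtain ⟨h', hh', he⟩ := hh
      have : h' = h := by
        have he' : g * h' * g⁻¹ = g * h * g⁻¹ := by simpa using he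
        exact mul_left_cancel (mul_right_cancel he')
      rw [← this]; exact hh'
  have hgC := normalizer_le_centralizer_of_sylow_le S (zpowers z) inferInstance
    (by rw [zpowers_le]; exact hzS) hSle hgN
  rw [mem_centralizer_iff] at hgC
  have := hgC z (mem_zpowers z)
  rw [← this]; group

/-- `S1215` from `Z*`: if every subgroup of `Z(S)` is weakly closed in `S` then `G = O(G) C_G(Z(S))`. -/
theorem eq_oddCore_mul_centralizer_center (hZ : ZStarStmt.{u}) [Finite G] (S : Sylow 2 G)
    (hwc : ∀ Z₀ : Subgroup G, Z₀ ≤ ((center (S : Subgroup G)).map (S : Subgroup G).subtype) →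
      Cfsg.IsWeaklyClosed Z₀ (S : Subgroup G)) (h : G) :
    ∃ o ∈ Cfsg.oddCore G, ∃ c ∈ centralizer
      (((center (S : Subgroup G)).map (S : Subgroup G).subtype : Subgroup G) : Set G), h = o * c := by
  have : Fact (Nat.Prime 2) := ⟨Nat.prime_two⟩
  set Zs : Subgroup G := (center (S : Subgroup G)).map (S : Subgroup G).subtype with hZs
  have hZsS : Zs ≤ (S : Subgroup G) := by
    rintro _ ⟨z', _, rfl⟩; exact z'.2
  have hZs2 : IsPGroup 2 Zs := S.2.to_le hZsS
  -- every element of `Zs` is central modulo `O(G)`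
  have hcen : ∀ z ∈ Zs, ∀ g : G, z * g * z⁻¹ * g⁻¹ ∈ Cfsg.oddCore G := by
    intro z hz g
    have hzS : z ∈ (S : Subgroup G) := hZsS hz
    have hcomm : ∀ s ∈ (S : Subgroup G), s * z = z * s := by
      obtain ⟨z', hz', rfl⟩ := hz
      intro s hs
      have := Subgroup.mem_center_iff.mp hz' ⟨s, hs⟩
      exact congrArg (S : Subgroup G).subtype this
    have hle : zpowers z ≤ Zs := by rw [zpowers_le]; exact hz
    have hiso := isolatedIn_of_weaklyClosed_zpowers S z hzS hcomm (hwc _ hle)
    exact Cfsg.Agent.Lib.Helper26.IsolatedIn.comm_mem_oddCore hZ S hiso g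
  have hK : (Nat.card (Cfsg.oddCore G)).Coprime 2 := Cfsg.Agent.Lib.Helper12.pPrimeCore_coprime 2
  have hmem : QuotientGroup.mk' (Cfsg.oddCore G) h ∈ Subgroup.centralizer
      ((Zs.map (QuotientGroup.mk' (Cfsg.oddCore G)) : Subgroup (G ⧸ Cfsg.oddCore G)) :
        Set (G ⧸ Cfsg.oddCore G)) := by
    rw [Subgroup.mem_centralizer_iff]
    rintro _ ⟨z, hz, rfl⟩
    have h1 := hcen z hz h
    rw [← map_mul, ← map_mul]
    have h2 : (z * h)⁻¹ * (h * z) ∈ Cfsg.oddCore G := by
      have h3 := (Cfsg.oddCore G).inv_mem h1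
      have h4 : (z * h)⁻¹ * (h * z) = (z * h)⁻¹ * (z * h * z⁻¹ * h⁻¹)⁻¹ * (z * h) := by group
      rw [h4]
      have := (inferInstance : (Cfsg.oddCore G).Normal).conj_mem _ h3 (z * h)⁻¹
      simpa using this
    exact (QuotientGroup.eq.mpr h2)
  rw [Cfsg.Agent.Lib.Helper4.centralizer_map_mk'_eq_of_coprime (Cfsg.oddCore G) hK Zs hZs2] at hmem
  obtain ⟨c, hc, hch⟩ := hmem
  refine ⟨h * c⁻¹, ?_, c, hc, by group⟩
  have h5 : QuotientGroup.mk' (Cfsg.oddCore G) (h * c⁻¹) = 1 := by
    rw [map_mul, map_inv, hch]; group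
  exact (QuotientGroup.eq_one_iff _).mp h5

end Cfsg.Agent.Lib.Helper29.ZStar
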